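import Mathlib
import Cfsg.Agent.Lib.Lead.Q8Block8

/-!
helper22: Brauer–Suzuki for `Q₈`, piece (G6): parity of the rows of the generalized
decomposition matrix on the section of `t`.
-/

set_option autoImplicit false

namespace Cfsg.Agent.CharLib

open Cfsg Cfsg.Agent.Lib.Helper24 Cfsg.Agent.Lib.Helper6
open scoped ComplexConjugate

universe u

section parity

variable {G : Type u} [Group G] [Finite G] {M : Ideal AlgInt} {t u : G}

/-- an odd integer is not in the local ideal at a `2`-modular maximal ideal -/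
theorem not_memLocalIdeal_intCast_of_odd (hM : IsPModular 2 M) {n : ℤ} (hn : Odd n) :
    ¬ MemLocalIdeal M (n : ℂ) := by
  have hodd : Odd n.natAbs := Int.natAbs_odd.mpr hn
  have h2 := Int.natAbs_eq n
  generalize n.natAbs = m at hodd h2
  have h1 := not_memLocalIdeal_of_odd hM hodd
  intro h
  apply h1
  rcases h2 with h2 | h2
  · rw [h2] at h
    exact_mod_cast h
  · rw [h2] at h
    have h3 := memLocalIdeal_neg h
    have e : -((-(m : ℤ) : ℤ) : ℂ) = (m : ℂ) := by
      push_cast
      ring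
    rwa [e] at h3

/-- an integer in the local ideal at a `2`-modular maximal ideal is even -/
theorem even_of_memLocalIdeal_intCast (hM : IsPModular 2 M) {n : ℤ}
    (h : MemLocalIdeal M (n : ℂ)) : Even n := by
  by_contra hne
  exact not_memLocalIdeal_intCast_of_odd hM (Int.not_even_iff_odd.mp hne) h

variable {D : QuatCentData (Subgroup.centralizer ({t} : Set G)) M (tCent t)}
  {d : IrrCharacter G → Fin 3 → ℤ}

omit [Finite G] in
/-- the value at `t` as an integer combination of odd degrees -/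
theorem IsDecompMatrix.apply_t (hd : IsDecompMatrix M t D d) (χ : IrrCharacter G)
    (hχ : χ ∈ principalBlock M G) :
    (χ : G → ℂ) t =
      ((∑ j, d χ j * (charDegree (D.ψ j : Subgroup.centralizer ({t} : Set G) → ℂ) : ℤ) : ℤ) : ℂ) := by
  have h1 := hd χ hχ 1 (by rw [orderOf_one]; decide)
  rw [Subgroup.coe_one, mul_one] at h1
  rw [h1]
  push_cast
  apply Finset.sum_congr rfl
  intro j _
  rw [irr_apply_one]

/-- `χ(u) ≠ 0` iff the row sum of `d` is odd -/
theorem IsDecompMatrix.parity (hd : IsDecompMatrix M t D d) (hM : IsPModular 2 M)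
    (hG : QuatFacts G t u) (χ : IrrCharacter G) (hχ : χ ∈ principalBlock M G) :
    (χ : G → ℂ) u ≠ 0 ↔ Odd (∑ j, d χ j) := by
  have : Fact (Nat.Prime 2) := ⟨Nat.prime_two⟩
  have hp : M.IsPrime := isPrime_of_isPModular hM
  have hchar : IsCharacter G (χ : G → ℂ) := IsIrrCharacter.isCharacter χ.2
  -- the value at `t`
  have ht := hd.apply_t χ hχ
  set nt : ℤ :=
    ∑ j, d χ j * (charDegree (D.ψ j : Subgroup.centralizer ({t} : Set G) → ℂ) : ℤ) with hnt
  -- the value at `u`
  obtain ⟨nu, hnu, hnu01⟩ : ∃ nu : ℤ, (χ : G → ℂ) u = (nu : ℂ) ∧ (nu = 0 ∨ nu = 1 ∨ nu = -1) := by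
    rcases (hG.apply_u_cases hM).1 χ hχ with h | h | h
    · exact ⟨0, by rw [h]; simp, Or.inl rfl⟩
    · exact ⟨1, by rw [h]; simp, Or.inr (Or.inl rfl)⟩
    · exact ⟨-1, by rw [h]; simp, Or.inr (Or.inr rfl)⟩
  -- congruences
  have hu : IsPPart 2 u u :=
    ⟨1, mul_one u, Commute.one_right u, ⟨2, by rw [hG.orderOf_u]; norm_num⟩,
      by rw [orderOf_one]; decide⟩
  have htt : IsPPart 2 t t :=
    ⟨1, mul_one t, Commute.one_right t, ⟨1, by rw [hG.orderOf_t]; norm_num⟩,
      by rw [orderOf_one]; decide⟩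
  have c1 := memLocalIdeal_char_sub_pRegPart hM hchar hu
  have c2 := memLocalIdeal_char_sub_pRegPart hM hchar htt
  rw [inv_mul_cancel] at c1 c2
  have c3 : MemLocalIdeal M ((χ : G → ℂ) u - (χ : G → ℂ) t) := by
    have := memLocalIdeal_sub c1 c2
    have e : (χ : G → ℂ) u - (χ : G → ℂ) 1 - ((χ : G → ℂ) t - (χ : G → ℂ) 1) =
        (χ : G → ℂ) u - (χ : G → ℂ) t := by ring
    rwa [e] at this
  rw [hnu, ht] at c3
  have c4 : MemLocalIdeal M (((nu - nt : ℤ) : ℂ)) := by
    push_cast
    exact c3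
  have heven : Even (nu - nt) := even_of_memLocalIdeal_intCast hM c4
  -- `nt ≡ ∑ d` modulo `2`
  have hnt2 : Even (nt - ∑ j, d χ j) := by
    rw [hnt, ← Finset.sum_sub_distrib]
    apply Finset.even_sum
    intro j _
    obtain ⟨k, hk⟩ := D.hodd j
    rw [hk]
    refine ⟨d χ j * k, ?_⟩
    push_cast
    ring
  have hnu0 : (χ : G → ℂ) u ≠ 0 ↔ nu ≠ 0 := by
    rw [hnu]
    exact_mod_cast Iff.rfl
  rw [hnu0]
  have hpar : Even (nu - ∑ j, d χ j) := by
    have := heven.add hnt2
    have e : nu - nt + (nt - ∑ j, d χ j) = nu - ∑ j, d χ j := by ring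
    rwa [e] at this
  constructor
  · intro h0
    have hodd : Odd nu := by
      rcases hnu01 with h | h | h
      · exact absurd h h0
      · rw [h]; decide
      · rw [h]; decide
    by_contra hne
    have he : Even (∑ j, d χ j) := Int.not_odd_iff_even.mp hne
    have : Even nu := by
      have := hpar.add he
      rwa [sub_add_cancel] at this
    exact (Int.not_even_iff_odd.mpr hodd) this
  · intro hodd h0
    rw [h0, zero_sub] at hpar
    have : Even (∑ j, d χ j) := by
      have := hpar.neg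
      rwa [neg_neg] at this
    exact (Int.not_even_iff_odd.mpr hodd) this

end parity

end Cfsg.Agent.CharLib
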