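import Mathlib
import Cfsg.Prelude.Def_OddOrderLocal
import Cfsg.Agent.Lib.Helper8.Conj
import Cfsg.Agent.Lib.Helper1.Coprime
import Cfsg.Agent.Lib.Helper1.CentricRadical

set_option autoImplicit false

/-!
TI subgroups that are Hall subgroups of their normalizer, in π-separable groups (towards S4151).
Part 1: TI basics, `H` is a Hall subgroup of `G`, the first π-layer of a π-separable series.
-/

namespace Cfsg.Agent.Lib.Helper22.TIHall

open Cfsg.Agent.Lib.Helper8

variable {G : Type*} [Group G]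

theorem mem_normalizer_of_ti {H : Subgroup G} (hTI : Cfsg.IsTISubset (H : Set G)) {g x : G}
    (hx : x ∈ H) (hx1 : x ≠ 1) (hgx : g * x * g⁻¹ ∈ H) :
    g ∈ Subgroup.normalizer (H : Set G) := by
  by_contra hg
  exact hx1 (hTI g hg x hx hgx)

theorem centralizer_le_normalizer_of_ti {H : Subgroup G} (hTI : Cfsg.IsTISubset (H : Set G))
    {x : G} (hx : x ∈ H) (hx1 : x ≠ 1) :
    Subgroup.centralizer ({x} : Set G) ≤ Subgroup.normalizer (H : Set G) := by
  intro g hg
  apply mem_normalizer_of_ti hTI hx hx1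
  have h : g * x = x * g := Subgroup.mem_centralizer_singleton_iff.mp hg
  rw [h, mul_inv_cancel_right]
  exact hx

theorem normalizer_le_normalizer_of_ti {H : Subgroup G} (hTI : Cfsg.IsTISubset (H : Set G))
    {P : Subgroup G} (hPH : P ≤ H) (hP : P ≠ ⊥) :
    Subgroup.normalizer (P : Set G) ≤ Subgroup.normalizer (H : Set G) := by
  obtain ⟨x, hxP, hx1⟩ := P.bot_or_exists_ne_one.resolve_left hP
  intro g hg
  apply mem_normalizer_of_ti hTI (hPH hxP) hx1
  exact hPH ((Subgroup.mem_normalizer_iff.mp hg x).mp hxP)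

theorem card_normalizer_eq {H : Subgroup G} :
    Nat.card (Subgroup.normalizer (H : Set G)) =
      Nat.card H * (H.subgroupOf (Subgroup.normalizer (H : Set G))).index := by
  rw [← (H.subgroupOf (Subgroup.normalizer (H : Set G))).card_mul_index,
    Cfsg.Agent.Lib.Helper1.card_subgroupOf_of_le Subgroup.le_normalizer]

/-- A TI subgroup which is a Hall subgroup of its normalizer is a Hall subgroup of `G`. -/
theorem coprime_card_index_of_ti [Finite G] {H : Subgroup G}
    (hTI : Cfsg.IsTISubset (H : Set G))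
    (hHall : (Nat.card H).Coprime (H.subgroupOf (Subgroup.normalizer (H : Set G))).index) :
    (Nat.card H).Coprime H.index := by
  apply Nat.coprime_of_dvd
  intro p hp hpH hpI
  haveI : Fact p.Prime := ⟨hp⟩
  obtain ⟨P⟩ : Nonempty (Sylow p H) := inferInstance
  have hPcard : Nat.card (P : Subgroup H) = p ^ (Nat.card H).factorization p :=
    P.card_eq_multiplicity
  have hPgcard : Nat.card ((P : Subgroup H).map H.subtype) = p ^ (Nat.card H).factorization p := by
    rw [Subgroup.card_map_of_injective H.subtype_injective, hPcard]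
  have hn : 0 < (Nat.card H).factorization p :=
    hp.factorization_pos_of_dvd Nat.card_pos.ne' hpH
  have hdvdG : p ^ ((Nat.card H).factorization p + 1) ∣ Nat.card G := by
    rw [← H.card_mul_index, pow_succ]
    exact Nat.mul_dvd_mul (Nat.ordProj_dvd _ _) hpI
  have h1 := Sylow.prime_pow_dvd_card_normalizer hdvdG hPgcard
  have hPgH : (P : Subgroup H).map H.subtype ≤ H := Subgroup.map_subtype_le _
  have hPgne : (P : Subgroup H).map H.subtype ≠ ⊥ := by
    intro h
    rw [h, Subgroup.card_bot] at hPgcard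
    have := Nat.one_lt_pow hn.ne' hp.one_lt
    omega
  have h2 := normalizer_le_normalizer_of_ti hTI hPgH hPgne
  have h3 : p ^ ((Nat.card H).factorization p + 1) ∣
      Nat.card (Subgroup.normalizer (H : Set G)) := h1.trans (Subgroup.card_dvd_of_le h2)
  rw [card_normalizer_eq] at h3
  have h5 : (p ^ ((Nat.card H).factorization p + 1)).Coprime
      (H.subgroupOf (Subgroup.normalizer (H : Set G))).index :=
    Nat.Coprime.pow_left _ (Nat.Coprime.coprime_dvd_left hpH hHall)
  have h6 : p ^ ((Nat.card H).factorization p + 1) ∣ Nat.card H := h5.dvd_of_dvd_mul_right h3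
  exact Nat.pow_succ_factorization_not_dvd Nat.card_pos.ne' hp h6

theorem card_eq_card_mul_relIndex {K L : Subgroup G} (h : K ≤ L) :
    Nat.card L = Nat.card K * K.relIndex L := by
  rw [Subgroup.relIndex, ← (K.subgroupOf L).card_mul_index,
    Cfsg.Agent.Lib.Helper1.card_subgroupOf_of_le h]

/-- From a π-separable series: a normal π'-subgroup `K` and a normal `L ≥ K` with `L/K` a
non-trivial π-group, where π is the set of primes dividing `|H|`. -/
theorem exists_pi_step [Finite G] (H : Subgroup G) (hH : H ≠ ⊥)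
    (hsep : ∃ (n : ℕ) (M : Fin (n + 1) → Subgroup G), M 0 = ⊥ ∧ M (Fin.last n) = ⊤ ∧ Monotone M ∧
      (∀ i, (M i).Normal) ∧
      ∀ i : Fin n, (∀ q : ℕ, q.Prime → q ∣ (M i.castSucc).relIndex (M i.succ) → q ∣ Nat.card H) ∨
        ((M i.castSucc).relIndex (M i.succ)).Coprime (Nat.card H)) :
    ∃ K L : Subgroup G, K.Normal ∧ L.Normal ∧ K ≤ L ∧ (Nat.card K).Coprime (Nat.card H) ∧
      ¬ (Nat.card L).Coprime (Nat.card H) ∧
      (∀ q : ℕ, q.Prime → q ∣ K.relIndex L → q ∣ Nat.card H) := by
  obtain ⟨n, M, h0, hlast, hmono, hnorm, hfac⟩ := hsep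
  have hP0 : (Nat.card (M 0)).Coprime (Nat.card H) := by
    rw [h0, Subgroup.card_bot]
    exact Nat.coprime_one_left _
  have hPlast : ¬ (Nat.card (M (Fin.last n))).Coprime (Nat.card H) := by
    rw [hlast, Subgroup.card_top]
    intro hc
    have h1 : Nat.card H = 1 := Nat.Coprime.eq_one_of_dvd hc.symm (Subgroup.card_subgroup_dvd_card H)
    exact hH (Subgroup.card_eq_one.mp h1)
  have hex : ∃ i : Fin n, (Nat.card (M i.castSucc)).Coprime (Nat.card H) ∧
      ¬ (Nat.card (M i.succ)).Coprime (Nat.card H) := by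
    by_contra hcon
    push Not at hcon
    exact hPlast (Fin.induction (motive := fun k => (Nat.card (M k)).Coprime (Nat.card H)) hP0
      (fun i hi => hcon i hi) (Fin.last n))
  obtain ⟨i, hi1, hi2⟩ := hex
  have hle : M i.castSucc ≤ M i.succ := hmono (Fin.castSucc_lt_succ (i := i)).le
  refine ⟨M i.castSucc, M i.succ, hnorm _, hnorm _, hle, hi1, hi2, ?_⟩
  rcases hfac i with h | h
  · exact h
  · exfalso
    apply hi2
    rw [card_eq_card_mul_relIndex hle]
    exact Nat.Coprime.mul_left hi1 h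

/-- The π-layer `L/K` is covered by `H ∩ L` when `H` is a Hall π-subgroup. -/
theorem layer_eq_sup [Finite G] (H K L : Subgroup G) [L.Normal] (hKL : K ≤ L)
    (hcop : (Nat.card H).Coprime H.index)
    (hKH : (Nat.card K).Coprime (Nat.card H))
    (hLH : ¬ (Nat.card L).Coprime (Nat.card H))
    (hpi : ∀ q : ℕ, q.Prime → q ∣ K.relIndex L → q ∣ Nat.card H) :
    L = K ⊔ (H ⊓ L) ∧ H ⊓ L ≠ ⊥ := by
  have h1 : (H.relIndex L).Coprime (Nat.card H) := by
    rw [← Cfsg.Agent.Lib.Helper1.CentricRadical.relIndex_sup_of_normal_right]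
    exact (Nat.Coprime.coprime_dvd_right (Subgroup.relIndex_dvd_index_of_le le_sup_left)
      hcop).symm
  have h2 : (K ⊔ (H ⊓ L)).relIndex L = 1 := by
    rw [Nat.eq_one_iff_not_exists_prime_dvd]
    intro q hq hqd
    have h3 : q ∣ K.relIndex L := hqd.trans (Subgroup.relIndex_dvd_of_le_left L le_sup_left)
    have h4 : q ∣ H.relIndex L := by
      rw [← Subgroup.inf_relIndex_right]
      exact hqd.trans (Subgroup.relIndex_dvd_of_le_left L le_sup_right)
    have h5 := hpi q hq h3
    have h6 : q ∣ Nat.gcd (H.relIndex L) (Nat.card H) := Nat.dvd_gcd h4 h5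
    rw [h1.gcd_eq_one] at h6
    exact hq.one_lt.ne' (Nat.dvd_one.mp h6)
  have h7 : L = K ⊔ (H ⊓ L) :=
    le_antisymm (Subgroup.relIndex_eq_one.mp h2) (sup_le hKL inf_le_right)
  refine ⟨h7, ?_⟩
  intro hbot
  rw [hbot, sup_bot_eq] at h7
  exact hLH (h7 ▸ hKH)

/-- The normal π'-subgroup `K` below the π-layer is not contained in `N_G(H)`. -/
theorem not_le_normalizer [Finite G] {H K L : Subgroup G} [hK : K.Normal] [hL : L.Normal]
    (hTI : Cfsg.IsTISubset (H : Set G)) (hnn : ¬ H.Normal)
    (hKH : (Nat.card K).Coprime (Nat.card H))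
    (hL : L = K ⊔ (H ⊓ L)) (hne : H ⊓ L ≠ ⊥) :
    ¬ K ≤ Subgroup.normalizer (H : Set G) := by
  intro hKN
  have hdisj : K ⊓ H = ⊥ := (Subgroup.disjoint_of_coprime_natCard hKH).eq_bot
  -- K centralizes H
  have hcent : ∀ k ∈ K, ∀ h ∈ H, k * h = h * k := by
    intro k hk h hh
    have h1 : k * h * k⁻¹ * h⁻¹ ∈ K ⊓ H := by
      constructor
      · have : h * k⁻¹ * h⁻¹ ∈ K := hK.conj_mem _ (K.inv_mem hk) h
        have e : k * h * k⁻¹ * h⁻¹ = k * (h * k⁻¹ * h⁻¹) := by group
        rw [e]
        exact K.mul_mem hk this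
      · have : k * h * k⁻¹ ∈ H := (Subgroup.mem_normalizer_iff.mp (hKN hk) h).mp hh
        exact H.mul_mem this (H.inv_mem hh)
    rw [hdisj, Subgroup.mem_bot] at h1
    have e : k * h = (k * h * k⁻¹ * h⁻¹) * (h * k) := by group
    rw [e, h1, one_mul]
  -- H ⊓ L is normal in G
  have hH1 : ∀ g : G, ∀ x ∈ H ⊓ L, g * x * g⁻¹ ∈ H ⊓ L := by
    intro g x hx
    have hxL : g * x * g⁻¹ ∈ L := ‹L.Normal›.conj_mem x hx.2 g
    rw [hL] at hxL
    obtain ⟨k, hk, h, hh, hkh⟩ := Subgroup.mem_sup_of_normal_left.mp hxL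
    -- k = 1
    have hcomm : k * h = h * k := hcent k hk h hh.1
    have hord : (g * x * g⁻¹) ^ Nat.card H = 1 := by
      have e : (g * x * g⁻¹) ^ Nat.card H = g * x ^ Nat.card H * g⁻¹ := by
        rw [conj_pow]
      rw [e]
      have : x ^ Nat.card H = 1 := by
        have := pow_card_eq_one' (G := H) (x := ⟨x, hx.1⟩)
        exact congrArg Subtype.val this
      rw [this, mul_one, mul_inv_cancel]
    rw [← hkh, (Commute.mul_pow hcomm (Nat.card H))] at hord
    have hh1 : h ^ Nat.card H = 1 := by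
      have := pow_card_eq_one' (G := H) (x := ⟨h, hh.1⟩)
      exact congrArg Subtype.val this
    rw [hh1, mul_one] at hord
    have hk1 : k ^ Nat.card K = 1 := by
      have := pow_card_eq_one' (G := K) (x := ⟨k, hk⟩)
      exact congrArg Subtype.val this
    have hk2 : orderOf k ∣ Nat.gcd (Nat.card K) (Nat.card H) :=
      Nat.dvd_gcd (orderOf_dvd_of_pow_eq_one hk1) (orderOf_dvd_of_pow_eq_one hord)
    rw [hKH.gcd_eq_one, Nat.dvd_one, orderOf_eq_one_iff] at hk2
    rw [← hkh, hk2, one_mul]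
    exact hh
  -- contradiction with TI
  have hNtop : ∃ g : G, g ∉ Subgroup.normalizer (H : Set G) := by
    by_contra hcon
    push Not at hcon
    apply hnn
    have : Subgroup.normalizer (H : Set G) = ⊤ := by
      rw [eq_top_iff]; intro g _; exact hcon g
    exact Subgroup.normalizer_eq_top_iff.mp this
  obtain ⟨g, hg⟩ := hNtop
  apply hne
  rw [eq_bot_iff]
  intro x hx
  rw [Subgroup.mem_bot]
  exact hTI g hg x hx.1 (hH1 g x hx).1

end Cfsg.Agent.Lib.Helper22.TIHall
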