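import Mathlib
import Cfsg.Prelude.Def_OddOrderLocal
import Cfsg.Agent.Lib.Helper22.TIHall1
import Cfsg.Agent.Lib.Helper1.TraceIdentity
import Cfsg.Agent.Lib.Helper1.Noncyclic
import Cfsg.Agent.Lib.Helper18.PowerMap
import Cfsg.Agent.S0023

set_option autoImplicit false

/-!
Part 2: the Sylow subgroups of a TI Hall subgroup `H` acting on a normal π'-subgroup `K ⊄ N_G(H)`
are cyclic (given abelian Sylow 2-subgroups), so `H` is a Z-group.
-/

namespace Cfsg.Agent.Lib.Helper22.TIHall

open Cfsg.Agent.Lib.Helper8 Cfsg.Agent.Lib.Helper1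

variable {G : Type*} [Group G]

open scoped IsMulCommutative in
/-- A non-cyclic Sylow subgroup of `H` (abelian if `p = 2`) contains a rank two elementary
abelian subgroup. -/
theorem exists_rank_two [Finite G] {H : Subgroup G}
    (h2 : ∀ P : Sylow 2 H, IsMulCommutative (P : Subgroup H)) (p : ℕ) [hp : Fact p.Prime]
    (P : Sylow p H) (hnc : ¬ IsCyclic ↥(P : Subgroup H)) :
    ∃ (q : ℕ) (a b : G), q.Prime ∧ a ∈ H ∧ b ∈ H ∧ a * b = b * a ∧ a ^ q = 1 ∧ b ^ q = 1 ∧
      b ≠ 1 ∧ ∀ j : ℕ, a * b ^ j ≠ 1 := by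
  by_cases hp2 : p = 2
  · subst hp2
    haveI := h2 P
    obtain ⟨q, hq, a, b, ha, hb, hb1, hab⟩ := exists_noncyclic_pair hnc
    refine ⟨q, ((a : H) : G), ((b : H) : G), hq, (a : H).2, (b : H).2, ?_, ?_, ?_, ?_, ?_⟩
    · have := mul_comm a b
      exact_mod_cast congrArg (fun x : ↥(P : Subgroup H) => ((x : H) : G)) this
    · exact_mod_cast congrArg (fun x : ↥(P : Subgroup H) => ((x : H) : G)) ha
    · exact_mod_cast congrArg (fun x : ↥(P : Subgroup H) => ((x : H) : G)) hb
    · intro h
      apply hb1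
      apply Subtype.ext
      apply Subtype.ext
      exact h
    · intro j h
      apply hab j
      apply Subtype.ext
      apply Subtype.ext
      exact_mod_cast h
  · obtain ⟨a, b, hab, ha, hb, hb1, hnot⟩ :=
      Cfsg.Agent.Lib.Helper18.exists_rank_two_of_not_cyclic p hp2 (Nat.card ↥(P : Subgroup H))
        ↥(P : Subgroup H) P.isPGroup' le_rfl hnc
    refine ⟨p, ((a : H) : G), ((b : H) : G), hp.out, (a : H).2, (b : H).2, ?_, ?_, ?_, ?_, ?_⟩
    · exact_mod_cast congrArg (fun x : ↥(P : Subgroup H) => ((x : H) : G)) hab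
    · exact_mod_cast congrArg (fun x : ↥(P : Subgroup H) => ((x : H) : G)) ha
    · exact_mod_cast congrArg (fun x : ↥(P : Subgroup H) => ((x : H) : G)) hb
    · intro h
      apply hb1
      apply Subtype.ext
      apply Subtype.ext
      exact h
    · intro j h
      apply hnot
      have h1 : a * b ^ j = 1 := by
        apply Subtype.ext
        apply Subtype.ext
        exact_mod_cast h
      have h2 : a = (b ^ j)⁻¹ := eq_inv_of_mul_eq_one_left h1
      rw [h2]
      exact Subgroup.inv_mem _ (Subgroup.pow_mem _ (Subgroup.mem_zpowers b) j)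

/-- If commuting elements `a, b` of prime order `q` normalize the `r`-group `R` (`r ≠ q`) and all
`C_R(a b^j)`, `C_R(b)` lie in `N`, then `R ≤ N`. -/
theorem le_of_rank_two_action [Finite G] {R N : Subgroup G} {r q : ℕ} [Fact r.Prime] [Fact q.Prime]
    (hR : IsPGroup r R) (hqr : q ≠ r) {a b : G}
    (haN : a ∈ Subgroup.normalizer (R : Set G)) (hbN : b ∈ Subgroup.normalizer (R : Set G))
    (hab : a * b = b * a) (ha : a ^ q = 1) (hb : b ^ q = 1)
    (hCb : Subgroup.centralizer ({b} : Set G) ≤ N)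
    (hCab : ∀ j : ℕ, Subgroup.centralizer ({a * b ^ j} : Set G) ≤ N) : R ≤ N := by
  set φ := R.normalizerMonoidHom with hφ
  set α : MulAut R := φ ⟨a, haN⟩ with hα
  set β : MulAut R := φ ⟨b, hbN⟩ with hβ
  have hαβ : α * β = β * α := by
    rw [hα, hβ, ← map_mul, ← map_mul]
    congr 1
    exact Subtype.ext hab
  have hαq : α ^ q = 1 := by
    rw [hα, ← map_pow]
    have : (⟨a, haN⟩ : Subgroup.normalizer (R : Set G)) ^ q = 1 := Subtype.ext ha
    rw [this, map_one]
  have hβq : β ^ q = 1 := by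
    rw [hβ, ← map_pow]
    have : (⟨b, hbN⟩ : Subgroup.normalizer (R : Set G)) ^ q = 1 := Subtype.ext hb
    rw [this, map_one]
  have htop := iSup_fixSub_eq_top (K := R) hR hqr α β hαβ hαq hβq
  have hle : (⨆ j : ℕ, fixSub (α * β ^ j)) ⊔ fixSub β ≤ N.subgroupOf R := by
    apply sup_le
    · apply iSup_le
      intro j x hx
      rw [Subgroup.mem_subgroupOf]
      apply hCab j
      rw [Subgroup.mem_centralizer_singleton_iff]
      rw [mem_fixSub] at hx
      have h1 : ((α * β ^ j) x : G) = (a * b ^ j) * x * (a * b ^ j)⁻¹ := by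
        have h2 : α * β ^ j = φ (⟨a, haN⟩ * ⟨b, hbN⟩ ^ j) := by rw [map_mul, map_pow]
        rw [h2]
        rfl
      rw [hx] at h1
      have h3 : (x : G) * (a * b ^ j) = (a * b ^ j) * x := by
        conv_lhs => rw [h1]
        group
      exact h3
    · intro x hx
      rw [Subgroup.mem_subgroupOf]
      apply hCb
      rw [Subgroup.mem_centralizer_singleton_iff]
      rw [mem_fixSub] at hx
      have h1 : (β x : G) = b * x * b⁻¹ := rfl
      rw [hx] at h1
      have h3 : (x : G) * b = b * x := by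
        conv_lhs => rw [h1]
        group
      exact h3
  rw [htop, top_le_iff, Subgroup.subgroupOf_eq_top] at hle
  exact hle

/-- If for every prime `r` some Sylow `r`-subgroup of `K` lies in `N`, then `K ≤ N`. -/
theorem le_of_forall_sylow_le [Finite G] {K N : Subgroup G}
    (h : ∀ (r : ℕ) [Fact r.Prime], ∃ R : Sylow r K, (R : Subgroup K).map K.subtype ≤ N) :
    K ≤ N := by
  rw [← Subgroup.subgroupOf_eq_top, ← Subgroup.index_eq_one, Nat.eq_one_iff_not_exists_prime_dvd]
  intro r hr hdvd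
  haveI : Fact r.Prime := ⟨hr⟩
  obtain ⟨R, hR⟩ := h r
  have h1 : (R : Subgroup K) ≤ N.subgroupOf K := by
    intro x hx
    rw [Subgroup.mem_subgroupOf]
    exact hR (Subgroup.mem_map_of_mem K.subtype hx)
  exact R.not_dvd_index (hdvd.trans (Subgroup.index_dvd_of_le h1))

/-- `H` is a Z-group. -/
theorem isZGroup_of_ti [Finite G] {H K : Subgroup G} [hK : K.Normal]
    (hTI : Cfsg.IsTISubset (H : Set G)) (hKH : (Nat.card K).Coprime (Nat.card H))
    (hKN : ¬ K ≤ Subgroup.normalizer (H : Set G))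
    (h2 : ∀ P : Sylow 2 H, IsMulCommutative (P : Subgroup H)) : IsZGroup ↥H := by
  refine ⟨fun p hp P => ?_⟩
  haveI : Fact p.Prime := ⟨hp⟩
  by_contra hnc
  obtain ⟨q, a, b, hq, haH, hbH, hab, ha, hb, hb1, habj⟩ := exists_rank_two h2 p P hnc
  haveI : Fact q.Prime := ⟨hq⟩
  apply hKN
  apply le_of_forall_sylow_le
  intro r hr
  -- the abelian group E = ⟨a⟩⟨b⟩
  set E : Subgroup G := Subgroup.zpowers a ⊔ Subgroup.zpowers b with hE
  have hEH : E ≤ H := sup_le ((Subgroup.zpowers_le).mpr haH) ((Subgroup.zpowers_le).mpr hbH)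
  have hEK : E ≤ Subgroup.normalizer (K : Set G) := by
    rw [Subgroup.normalizer_eq_top_iff.mpr hK]; exact le_top
  have hEcop : (Nat.card E).Coprime (Nat.card K) :=
    (Nat.Coprime.coprime_dvd_right (Subgroup.card_dvd_of_le hEH) hKH).symm
  have hEsolv : Group.IsSolvable E := by
    have hcomm : ∀ x ∈ E, ∀ y ∈ E, x * y = y * x := by
      have hcl : E = Subgroup.closure ({a, b} : Set G) := by
        rw [hE, Subgroup.zpowers_eq_closure, Subgroup.zpowers_eq_closure, ← Subgroup.closure_union]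
        rfl
      have habc : ∀ x ∈ ({a, b} : Set G), ∀ y ∈ ({a, b} : Set G), x * y = y * x := by
        rintro x (rfl | rfl) y (rfl | rfl)
        · rfl
        · exact hab
        · exact hab.symm
        · rfl
      intro x hx y hy
      rw [hcl] at hx hy
      have hc := Subgroup.isMulCommutative_closure habc
      have := @mul_comm' _ _ hc (⟨x, hx⟩ : Subgroup.closure ({a, b} : Set G)) ⟨y, hy⟩
      simpa using congrArg Subtype.val this
    haveI : IsMulCommutative E := ⟨⟨fun x y => Subtype.ext (hcomm x x.2 y y.2)⟩⟩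
    exact Group.isSolvable_of_comm (fun x y => Subtype.ext (hcomm x x.2 y y.2))
  obtain ⟨R, hRE⟩ := Cfsg.Agent.S0023.result E K hEK hEcop (Or.inl hEsolv) r
  refine ⟨R, ?_⟩
  have hbo : orderOf b = q := orderOf_eq_prime hb hb1
  have hqH : q ∣ Nat.card H := by
    rw [← hbo]
    have := orderOf_dvd_natCard (⟨b, hbH⟩ : H)
    rwa [Subgroup.orderOf_mk] at this
  have hqK : ¬ q ∣ Nat.card K := by
    intro hqK
    have : q ∣ Nat.gcd (Nat.card K) (Nat.card H) := Nat.dvd_gcd hqK hqH
    rw [hKH.gcd_eq_one] at this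
    exact hq.one_lt.ne' (Nat.dvd_one.mp this)
  by_cases hqr : q = r
  · subst hqr
    have hR1 : Nat.card (R : Subgroup K) = 1 := by
      rw [R.card_eq_multiplicity, Nat.factorization_eq_zero_of_not_dvd hqK, pow_zero]
    rw [Subgroup.card_eq_one] at hR1
    rw [hR1, Subgroup.map_bot]
    exact bot_le
  · have hRp : IsPGroup r ((R : Subgroup K).map K.subtype) := R.2.map _
    have haN : a ∈ Subgroup.normalizer (((R : Subgroup K).map K.subtype : Subgroup G) : Set G) :=
      hRE (Subgroup.mem_sup_left (Subgroup.mem_zpowers a))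
    have hbN : b ∈ Subgroup.normalizer (((R : Subgroup K).map K.subtype : Subgroup G) : Set G) :=
      hRE (Subgroup.mem_sup_right (Subgroup.mem_zpowers b))
    refine le_of_rank_two_action hRp hqr haN hbN hab ha hb
      (centralizer_le_normalizer_of_ti hTI hbH hb1) (fun j => ?_)
    exact centralizer_le_normalizer_of_ti hTI (H.mul_mem haH (H.pow_mem hbH j)) (habj j)

end Cfsg.Agent.Lib.Helper22.TIHall
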