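import Mathlib

/-!
Helper lemmas of helper22: commutator calculus for subgroups.
-/

set_option autoImplicit false

namespace Cfsg.Agent.Lib.Helper22

open Subgroup

variable {G : Type*} [Group G]

/-- Three subgroups lemma modulo a normal subgroup. -/
theorem three_subgroups_normal (H₁ H₂ H₃ N : Subgroup G) [N.Normal]
    (h1 : ⁅⁅H₂, H₃⁆, H₁⁆ ≤ N) (h2 : ⁅⁅H₃, H₁⁆, H₂⁆ ≤ N) : ⁅⁅H₁, H₂⁆, H₃⁆ ≤ N := by
  have key : ∀ X : Subgroup G, X ≤ N ↔ X.map (QuotientGroup.mk' N) = ⊥ := by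
    intro X
    rw [Subgroup.map_eq_bot_iff, QuotientGroup.ker_mk']
  rw [key] at h1 h2 ⊢
  rw [Subgroup.map_commutator, Subgroup.map_commutator] at h1 h2 ⊢
  exact Subgroup.commutator_commutator_eq_bot_of_rotate h1 h2

/-- `⁅A ⊔ B, C⁆ ≤ ⁅A, C⁆ ⊔ ⁅B, C⁆` when `⁅A, C⁆` is normalized by `B`
(e.g. when `A` and `C` are normal). -/
theorem sup_commutator_le (A B C : Subgroup G) [hAC : (⁅A, C⁆).Normal] [hBC : (⁅B, C⁆).Normal] :
    ⁅A ⊔ B, C⁆ ≤ ⁅A, C⁆ ⊔ ⁅B, C⁆ := by
  -- modulo the normal subgroup M = ⁅A,C⁆ ⊔ ⁅B,C⁆, both A and B centralize C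
  set M := ⁅A, C⁆ ⊔ ⁅B, C⁆ with hM
  have hA : A ≤ (Subgroup.centralizer ((C.map (QuotientGroup.mk' M) : Subgroup (G ⧸ M)) : Set (G ⧸ M))).comap (QuotientGroup.mk' M) := by
    intro a ha
    rw [Subgroup.mem_comap, Subgroup.mem_centralizer_iff]
    rintro _ ⟨c, hc, rfl⟩
    rw [eq_comm, ← commutatorElement_eq_one_iff_mul_comm, ← map_commutatorElement]
    exact (QuotientGroup.eq_one_iff _).mpr (le_sup_left (a := ⁅A, C⁆) (Subgroup.commutator_mem_commutator ha hc))
  have hB : B ≤ (Subgroup.centralizer ((C.map (QuotientGroup.mk' M) : Subgroup (G ⧸ M)) : Set (G ⧸ M))).comap (QuotientGroup.mk' M) := by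
    intro b hb
    rw [Subgroup.mem_comap, Subgroup.mem_centralizer_iff]
    rintro _ ⟨c, hc, rfl⟩
    rw [eq_comm, ← commutatorElement_eq_one_iff_mul_comm, ← map_commutatorElement]
    exact (QuotientGroup.eq_one_iff _).mpr (le_sup_right (b := ⁅B, C⁆) (Subgroup.commutator_mem_commutator hb hc))
  rw [Subgroup.commutator_le]
  intro x hx c hc
  have hx' := (sup_le hA hB) hx
  rw [Subgroup.mem_comap, Subgroup.mem_centralizer_iff] at hx'
  have := hx' _ (Subgroup.mem_map_of_mem _ hc)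
  rw [eq_comm, ← commutatorElement_eq_one_iff_mul_comm, ← map_commutatorElement] at this
  exact (QuotientGroup.eq_one_iff _).mp this

/-- `⁅C, A ⊔ B⁆ ≤ ⁅C, A⁆ ⊔ ⁅C, B⁆`. -/
theorem commutator_sup_le (A B C : Subgroup G) [hAC : (⁅C, A⁆).Normal] [hBC : (⁅C, B⁆).Normal] :
    ⁅C, A ⊔ B⁆ ≤ ⁅C, A⁆ ⊔ ⁅C, B⁆ := by
  rw [Subgroup.commutator_comm C (A ⊔ B), Subgroup.commutator_comm C A, Subgroup.commutator_comm C B]
  haveI : (⁅A, C⁆).Normal := by rw [Subgroup.commutator_comm]; exact hAC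
  haveI : (⁅B, C⁆).Normal := by rw [Subgroup.commutator_comm]; exact hBC
  exact sup_commutator_le A B C

/-- Terms of the lower central series of a normal subgroup are normal. -/
theorem lowerCentralSeries_normal (H : Subgroup G) [hH : H.Normal] (n : ℕ) :
    (H.lowerCentralSeries n).Normal := by
  induction n with
  | zero => exact hH
  | succ n ih =>
    rw [Subgroup.lowerCentralSeries_succ]
    haveI := ih
    infer_instance

end Cfsg.Agent.Lib.Helper22

namespace Cfsg.Agent.Lib.Helper22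

open Subgroup

variable {G : Type*} [Group G]

/-- Characterization of `⁅A, C⁆ ≤ M` for normal `M` via centralizers in the quotient. -/
theorem commutator_le_normal_iff (A C M : Subgroup G) [M.Normal] :
    ⁅A, C⁆ ≤ M ↔ A ≤ (Subgroup.centralizer
      ((C.map (QuotientGroup.mk' M) : Subgroup (G ⧸ M)) : Set (G ⧸ M))).comap (QuotientGroup.mk' M) := by
  rw [Subgroup.commutator_le]
  constructor
  · intro h a ha
    rw [Subgroup.mem_comap, Subgroup.mem_centralizer_iff]
    rintro _ ⟨c, hc, rfl⟩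
    rw [eq_comm, ← commutatorElement_eq_one_iff_mul_comm, ← map_commutatorElement]
    exact (QuotientGroup.eq_one_iff _).mpr (h a ha c hc)
  · intro h a ha c hc
    have := h ha
    rw [Subgroup.mem_comap, Subgroup.mem_centralizer_iff] at this
    have := this _ (Subgroup.mem_map_of_mem _ hc)
    rw [eq_comm, ← commutatorElement_eq_one_iff_mul_comm, ← map_commutatorElement] at this
    exact (QuotientGroup.eq_one_iff _).mp this

theorem iSup_commutator_le_normal {ι : Sort*} (A : ι → Subgroup G) (C M : Subgroup G) [M.Normal]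
    (h : ∀ t, ⁅A t, C⁆ ≤ M) : ⁅⨆ t, A t, C⁆ ≤ M := by
  rw [commutator_le_normal_iff]
  apply iSup_le
  intro t
  rw [← commutator_le_normal_iff]
  exact h t

theorem sup_commutator_le_normal (A B C M : Subgroup G) [M.Normal]
    (hA : ⁅A, C⁆ ≤ M) (hB : ⁅B, C⁆ ≤ M) : ⁅A ⊔ B, C⁆ ≤ M := by
  rw [commutator_le_normal_iff] at hA hB ⊢
  exact sup_le hA hB

theorem commutator_sup_le_normal (A B C M : Subgroup G) [M.Normal]
    (hA : ⁅C, A⁆ ≤ M) (hB : ⁅C, B⁆ ≤ M) : ⁅C, A ⊔ B⁆ ≤ M := by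
  rw [Subgroup.commutator_comm] at hA hB ⊢
  exact sup_commutator_le_normal A B C M hA hB

end Cfsg.Agent.Lib.Helper22
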