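import Mathlib
import Cfsg.Prelude.Def_CaseTheorems
import Cfsg.Agent.Lib.Helper1.Alperin

/-!
helper22: `p`-groups (`p` odd) of rank at most two have a proper characteristic subgroup of index
at most `p²`.  Part A: general tools and the `p`-central case (all elements of order `p` central).
-/

set_option autoImplicit false
open scoped commutatorElement

namespace Cfsg.Agent.Lib.Helper22.RankTwoChar

universe u

/-- class-2 power formula for an odd prime. -/
theorem mul_pow_prime_of_central {G : Type*} [Group G] {p : ℕ} (hp : p.Prime) (hp2 : p ≠ 2)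
    {x y z : G} (h : y * x = x * y * z) (hzx : Commute z x) (hzy : Commute z y) (hz : z ^ p = 1) :
    (x * y) ^ p = x ^ p * y ^ p := by
  have key := Cfsg.Agent.Lib.Helper1.mul_pow_of_commute_commutator h hzx hzy p
  rw [key]
  have hdvd : p ∣ p.choose 2 := by
    apply hp.dvd_choose_self (by norm_num)
    have := hp.two_le
    omega
  obtain ⟨k, hk⟩ := hdvd
  rw [hk, pow_mul, hz, one_pow, mul_one]

/-- closure of a set of pairwise commuting elements of order dividing `p`: exponent `p`. -/
theorem closure_pow_eq_one {G : Type*} [Group G] {p : ℕ} {S : Set G}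
    (hcomm : ∀ x ∈ S, ∀ y ∈ S, x * y = y * x) (hS : ∀ x ∈ S, x ^ p = 1) :
    ∀ a ∈ Subgroup.closure S, a ^ p = 1 := by
  have hc := Subgroup.isMulCommutative_closure hcomm
  intro a ha
  induction ha using Subgroup.closure_induction with
  | mem x hx => exact hS x hx
  | one => exact one_pow _
  | mul x y hx hy ihx ihy =>
    have hxy : Commute x y := by
      have := hc.is_comm.comm ⟨x, hx⟩ ⟨y, hy⟩
      exact congrArg Subtype.val this
    rw [hxy.mul_pow, ihx, ihy, one_mul]
  | inv x hx ih => rw [inv_pow, ih, inv_one]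

/-- rank at most `k`: cardinal bound for closures of commuting elements of order `p`. -/
theorem card_closure_le {G : Type*} [Group G] {p k : ℕ} (hr : Cfsg.PRankLE p k G) {S : Set G}
    (hcomm : ∀ x ∈ S, ∀ y ∈ S, x * y = y * x) (hS : ∀ x ∈ S, x ^ p = 1) :
    Nat.card (Subgroup.closure S) ≤ p ^ k :=
  hr _ (Subgroup.isMulCommutative_closure hcomm) (closure_pow_eq_one hcomm hS)

theorem pRankLE_subgroup {G : Type*} [Group G] {p k : ℕ} (hr : Cfsg.PRankLE p k G)
    (D : Subgroup G) : Cfsg.PRankLE p k D := by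
  intro A hA hAp
  have h1 : Nat.card (A.map D.subtype) = Nat.card A :=
    Subgroup.card_map_of_injective D.subtype_injective
  rw [← h1]
  apply hr
  · refine ⟨⟨?_⟩⟩
    rintro ⟨a, ha⟩ ⟨b, hb⟩
    obtain ⟨a', ha', rfl⟩ := ha
    obtain ⟨b', hb', rfl⟩ := hb
    apply Subtype.ext
    have := hA.is_comm.comm ⟨a', ha'⟩ ⟨b', hb'⟩
    have h2 := congrArg (fun t : A => D.subtype (t : D)) this
    simpa using h2
  · rintro a ⟨a', ha', rfl⟩
    rw [← map_pow, hAp a' ha', map_one]

/-- In a finite `p`-group (`p` odd) all of whose elements of order `p` are central, `x ^ p = y ^ p`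
implies `(x⁻¹ * y) ^ p = 1`. -/
theorem pcentral_pow_inj {p : ℕ} [Fact p.Prime] (hp2 : p ≠ 2) :
    ∀ (n : ℕ) (P : Type u) [Group P] [Finite P], Nat.card P = n → IsPGroup p P →
      (∀ a : P, a ^ p = 1 → a ∈ Subgroup.center P) →
      ∀ x y : P, x ^ p = y ^ p → (x⁻¹ * y) ^ p = 1 := by
  have hpp : p.Prime := Fact.out
  intro n
  induction n using Nat.strong_induction_on with
  | _ n ih =>
  intro P _ _ hn hP hcen x y hxy
  rcases eq_top_or_exists_le_coatom (Subgroup.zpowers x) with htop | ⟨M, hM, hxM⟩
  · have hy : y ∈ Subgroup.zpowers x := by rw [htop]; trivial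
    obtain ⟨k, rfl⟩ := Subgroup.mem_zpowers_iff.mp hy
    have hc : Commute x⁻¹ (x ^ k) := ((Commute.refl x).zpow_right k).inv_left
    rw [hc.mul_pow, inv_pow, hxy, inv_mul_cancel]
  · have hnil : Group.IsNilpotent P := hP.isNilpotent
    have hMn : M.Normal := Subgroup.NormalizerCondition.normal_of_coatom M Group.normalizerCondition_of_isNilpotent hM
    have hx : x ∈ M := hxM (Subgroup.mem_zpowers x)
    have hx' : y⁻¹ * x * y ∈ M := by
      have := hMn.conj_mem x hx y⁻¹
      simpa using this
    have hlt : Nat.card M < n := by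
      rw [← hn]
      have hne : M ≠ ⊤ := hM.1
      have h1 : M.index ≠ 1 := fun h => hne (Subgroup.index_eq_one.mp h)
      have h2 := M.card_mul_index
      have h3 : 0 < Nat.card M := Nat.card_pos
      have h4 : 0 < M.index := Nat.pos_of_ne_zero (Subgroup.index_ne_zero_of_finite)
      have h5 : 2 ≤ M.index := by omega
      nlinarith
    have hMcen : ∀ a : M, a ^ p = 1 → a ∈ Subgroup.center M := by
      intro a ha
      have ha' : (a : P) ^ p = 1 := by
        have := congrArg Subtype.val ha
        simpa using this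
      have := hcen _ ha'
      rw [Subgroup.mem_center_iff] at this ⊢
      intro g
      apply Subtype.ext
      simpa using this g
    have hpow : (⟨x, hx⟩ : M) ^ p = (⟨y⁻¹ * x * y, hx'⟩ : M) ^ p := by
      apply Subtype.ext
      simp only [Subgroup.coe_pow]
      have e : (y⁻¹ * x * y) ^ p = y⁻¹ * x ^ p * y := by
        have := conj_pow (a := y⁻¹) (b := x) (i := p)
        simpa using this
      rw [e, hxy]
      group
    have hres := ih _ hlt M rfl (hP.to_subgroup M) hMcen _ _ hpow
    set c : P := x⁻¹ * (y⁻¹ * x * y) with hc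
    have hcp : c ^ p = 1 := by
      have := congrArg Subtype.val hres
      simpa using this
    have hcc : c ∈ Subgroup.center P := hcen c hcp
    rw [Subgroup.mem_center_iff] at hcc
    have hxy2 : x * y = y * x * c := by rw [hc]; group
    have hrel : y * x⁻¹ = x⁻¹ * y * c := by
      have e1 : y * x⁻¹ = x⁻¹ * (x * y) * x⁻¹ := by group
      rw [e1, hxy2]
      have e2 : x⁻¹ * (y * x * c) * x⁻¹ = x⁻¹ * y * (x * c * x⁻¹) := by group
      rw [e2, hcc x]
      group
    have := mul_pow_prime_of_central hpp hp2 hrel (hcc x⁻¹).symm (hcc y).symm hcp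
    rw [this, inv_pow, hxy, inv_mul_cancel]


/-- the subgroup generated by all `p`-th powers. -/
def agemo (p : ℕ) (P : Type*) [Group P] : Subgroup P :=
  Subgroup.closure (Set.range fun x : P => x ^ p)

theorem pow_mem_agemo (p : ℕ) {P : Type*} [Group P] (x : P) : x ^ p ∈ agemo p P :=
  Subgroup.subset_closure ⟨x, rfl⟩

instance agemo_characteristic (p : ℕ) (P : Type*) [Group P] : (agemo p P).Characteristic := by
  rw [Subgroup.characteristic_iff_map_le]
  intro φ
  rw [agemo, MonoidHom.map_closure, Subgroup.closure_le]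
  rintro _ ⟨_, ⟨x, rfl⟩, rfl⟩
  apply Subgroup.subset_closure
  exact ⟨φ x, by simp⟩

/-- in a nontrivial finite `p`-group the subgroup of `p`-th powers is proper. -/
theorem agemo_ne_top {p : ℕ} [Fact p.Prime] {P : Type*} [Group P] [Finite P] [Nontrivial P]
    (hP : IsPGroup p P) : agemo p P ≠ ⊤ := by
  have hpp : p.Prime := Fact.out
  obtain ⟨n, hn⟩ := IsPGroup.iff_card.mp hP
  have hn0 : n ≠ 0 := by
    rintro rfl
    rw [pow_zero] at hn
    have := Finite.one_lt_card (α := P)
    omega
  obtain ⟨m, rfl⟩ : ∃ m, n = m + 1 := ⟨n - 1, by omega⟩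
  obtain ⟨K, hK⟩ := Sylow.exists_subgroup_card_pow_prime (G := P) p (n := m)
    (by rw [hn]; exact pow_dvd_pow p (Nat.le_succ m))
  have hidx : K.index = p := by
    have h := K.card_mul_index
    rw [hK, hn, pow_succ] at h
    exact Nat.eq_of_mul_eq_mul_left (pow_pos hpp.pos m) h
  have hKn : K.Normal := by
    apply Subgroup.normal_of_index_eq_minFac_card
    rw [hidx, hn, Nat.pow_minFac (Nat.succ_ne_zero m), hpp.minFac_eq]
  have hle : agemo p P ≤ K := by
    rw [agemo, Subgroup.closure_le]
    rintro _ ⟨x, rfl⟩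
    have hc : Nat.card (P ⧸ K) = p := hidx
    have h1 : ((x : P ⧸ K)) ^ p = 1 := by
      rw [← hc]; exact pow_card_eq_one'
    rw [← QuotientGroup.mk_pow, QuotientGroup.eq_one_iff] at h1
    exact h1
  intro htop
  rw [htop, top_le_iff] at hle
  rw [hle, Subgroup.index_top] at hidx
  exact hpp.one_lt.ne hidx

/-- the elements of order dividing `p` in a `p`-central group. -/
def omegaCentral {p : ℕ} {P : Type*} [Group P]
    (hcen : ∀ a : P, a ^ p = 1 → a ∈ Subgroup.center P) : Subgroup P where
  carrier := {a | a ^ p = 1}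
  one_mem' := one_pow p
  mul_mem' := by
    intro a b ha hb
    have hab : Commute a b := ((Subgroup.mem_center_iff.mp (hcen b hb)) a)
    show (a * b) ^ p = 1
    rw [hab.mul_pow, ha, hb, one_mul]
  inv_mem' := by
    intro a ha
    show a⁻¹ ^ p = 1
    rw [inv_pow, ha, inv_one]

theorem card_omegaCentral_le {p k : ℕ} {P : Type*} [Group P] (hr : Cfsg.PRankLE p k P)
    (hcen : ∀ a : P, a ^ p = 1 → a ∈ Subgroup.center P) :
    Nat.card (omegaCentral hcen) ≤ p ^ k := by
  apply hr
  · refine ⟨⟨?_⟩⟩
    rintro ⟨a, ha⟩ ⟨b, hb⟩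
    apply Subtype.ext
    exact ((Subgroup.mem_center_iff.mp (hcen b hb)) a)
  · intro a ha
    exact ha

/-- counting `p`-th powers in a `p`-central group. -/
theorem card_le_card_omega_mul_agemo {p : ℕ} [Fact p.Prime] (hp2 : p ≠ 2)
    {P : Type u} [Group P] [Finite P] (hP : IsPGroup p P)
    (hcen : ∀ a : P, a ^ p = 1 → a ∈ Subgroup.center P) :
    Nat.card P ≤ Nat.card (omegaCentral hcen) * Nat.card (agemo p P) := by
  classical
  haveI : Fintype P := Fintype.ofFinite P
  have hfib : ∀ b ∈ (Finset.univ : Finset P).image (fun x => x ^ p),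
      ((Finset.univ : Finset P).filter fun x => x ^ p = b).card ≤ Nat.card (omegaCentral hcen) := by
    intro b hb
    obtain ⟨x₀, -, rfl⟩ := Finset.mem_image.mp hb
    have h1 : Nat.card (omegaCentral hcen)
        = ((Finset.univ : Finset P).filter fun a => a ^ p = 1).card := by
      rw [Nat.card_eq_fintype_card, ← Fintype.card_subtype]
      exact Fintype.card_congr (Equiv.refl _)
    rw [h1]
    apply Finset.card_le_card_of_injOn (fun x => x₀⁻¹ * x)
    · intro x hx
      have hx' : x ^ p = x₀ ^ p := by simpa using hx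
      simp only [Finset.coe_filter, Finset.mem_univ, true_and, Set.mem_setOf_eq]
      exact pcentral_pow_inj hp2 _ P rfl hP hcen x₀ x hx'.symm
    · intro x _ y _ h
      exact mul_left_cancel h
  have h2 := Finset.card_le_mul_card_image (Finset.univ : Finset P) _ hfib
  have h3 : ((Finset.univ : Finset P).image (fun x => x ^ p)).card ≤ Nat.card (agemo p P) := by
    rw [Nat.card_eq_fintype_card, ← Finset.card_univ (α := agemo p P)]
    apply Finset.card_le_card_of_injOn (fun b => if h : b ∈ agemo p P then ⟨b, h⟩ else 1)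
    · intro b _
      exact Finset.mem_coe.mpr (Finset.mem_univ _)
    · intro b hb c hc h
      obtain ⟨x, -, rfl⟩ := Finset.mem_image.mp (Finset.mem_coe.mp hb)
      obtain ⟨y, -, rfl⟩ := Finset.mem_image.mp (Finset.mem_coe.mp hc)
      simp only [pow_mem_agemo, dite_true] at h
      exact congrArg Subtype.val h
  rw [Nat.card_eq_fintype_card (α := P), ← Finset.card_univ]
  calc (Finset.univ : Finset P).card
      ≤ Nat.card (omegaCentral hcen) * ((Finset.univ : Finset P).image (fun x => x ^ p)).card := h2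
    _ ≤ Nat.card (omegaCentral hcen) * Nat.card (agemo p P) := Nat.mul_le_mul_left _ h3

/-- the `p`-central case. -/
theorem exists_char_of_pcentral {p : ℕ} [Fact p.Prime] (hp2 : p ≠ 2)
    {P : Type u} [Group P] [Finite P] [Nontrivial P] (hP : IsPGroup p P)
    (hr : Cfsg.PRankLE p 2 P) (hcen : ∀ a : P, a ^ p = 1 → a ∈ Subgroup.center P) :
    ∃ X : Subgroup P, X.Characteristic ∧ X ≠ ⊤ ∧ X.index ≤ p ^ 2 := by
  refine ⟨agemo p P, inferInstance, agemo_ne_top hP, ?_⟩
  have h1 := card_le_card_omega_mul_agemo hp2 hP hcen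
  have h2 := card_omegaCentral_le hr hcen
  have h3 := (agemo p P).card_mul_index
  have h4 : 0 < Nat.card (agemo p P) := Nat.card_pos
  rw [← h3] at h1
  have h5 : Nat.card (agemo p P) * (agemo p P).index ≤ Nat.card (agemo p P) * p ^ 2 := by
    calc Nat.card (agemo p P) * (agemo p P).index
        ≤ Nat.card (omegaCentral hcen) * Nat.card (agemo p P) := h1
      _ ≤ p ^ 2 * Nat.card (agemo p P) := Nat.mul_le_mul_right _ h2
      _ = Nat.card (agemo p P) * p ^ 2 := Nat.mul_comm _ _
  exact Nat.le_of_mul_le_mul_left h5 h4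

end Cfsg.Agent.Lib.Helper22.RankTwoChar
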