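import Mathlib
import Cfsg.Prelude.Def_CaseTheorems
import Cfsg.Agent.Lib.Helper22.RankTwoCharA

/-!
helper22: `p`-groups (`p` odd) of rank at most two have a proper characteristic subgroup of index
at most `p²`.  Part B: the case of a non-central element of order `p`.
-/

set_option autoImplicit false
open scoped commutatorElement

namespace Cfsg.Agent.Lib.Helper22.RankTwoChar

universe u

section General

variable {P : Type*} [Group P]

/-- `Ω₁(Z(P))`. -/
def omegaCenter (p : ℕ) (P : Type*) [Group P] : Subgroup P where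
  carrier := {z | z ∈ Subgroup.center P ∧ z ^ p = 1}
  one_mem' := ⟨Subgroup.one_mem _, one_pow p⟩
  mul_mem' := by
    rintro a b ⟨ha, ha'⟩ ⟨hb, hb'⟩
    refine ⟨Subgroup.mul_mem _ ha hb, ?_⟩
    have hab : Commute a b := (Subgroup.mem_center_iff.mp hb) a
    rw [hab.mul_pow, ha', hb', one_mul]
  inv_mem' := by
    rintro a ⟨ha, ha'⟩
    exact ⟨Subgroup.inv_mem _ ha, by rw [inv_pow, ha', inv_one]⟩

theorem mem_omegaCenter {p : ℕ} {z : P} :
    z ∈ omegaCenter p P ↔ z ∈ Subgroup.center P ∧ z ^ p = 1 := Iff.rfl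

theorem omegaCenter_le_center (p : ℕ) : omegaCenter p P ≤ Subgroup.center P := fun _ h => h.1

theorem map_mem_center (φ : P ≃* P) {z : P} (hz : z ∈ Subgroup.center P) :
    φ z ∈ Subgroup.center P := by
  rw [Subgroup.mem_center_iff] at hz ⊢
  intro g
  have := congrArg φ (hz (φ.symm g))
  simpa using this

instance omegaCenter_characteristic (p : ℕ) : (omegaCenter p P).Characteristic := by
  rw [Subgroup.characteristic_iff_map_le]
  rintro φ _ ⟨z, ⟨hz, hz'⟩, rfl⟩
  refine ⟨map_mem_center φ hz, ?_⟩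
  show (φ z) ^ p = 1
  rw [← map_pow, hz', map_one]

/-- commutator with an element of the second centre is multiplicative. -/
theorem commutator_mul_right' {w : P} (hw : ∀ g, ⁅w, g⁆ ∈ Subgroup.center P) (a b : P) :
    ⁅w, a * b⁆ = ⁅w, a⁆ * ⁅w, b⁆ := by
  have h1 : ⁅w, a * b⁆ = ⁅w, a⁆ * (a * ⁅w, b⁆ * a⁻¹) := by
    simp only [commutatorElement_def]; group
  have h2 := Subgroup.mem_center_iff.mp (hw b) a
  rw [h1, h2, mul_assoc, mul_inv_cancel, mul_one]

/-- the homomorphism `g ↦ ⁅w, g⁆`. -/
def commHom (w : P) (hw : ∀ g, ⁅w, g⁆ ∈ Subgroup.center P) : P →* P where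
  toFun g := ⁅w, g⁆
  map_one' := commutatorElement_one_right w
  map_mul' := commutator_mul_right' hw

@[simp] theorem commHom_apply (w : P) (hw : ∀ g, ⁅w, g⁆ ∈ Subgroup.center P) (g : P) :
    commHom w hw g = ⁅w, g⁆ := rfl

theorem commHom_ker (w : P) (hw : ∀ g, ⁅w, g⁆ ∈ Subgroup.center P) :
    (commHom w hw).ker = Subgroup.centralizer {w} := by
  ext g
  rw [MonoidHom.mem_ker, commHom_apply, commutatorElement_eq_one_iff_commute,
    Subgroup.mem_centralizer_iff]
  constructor
  · intro h x hx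
    rw [Set.mem_singleton_iff] at hx
    subst hx
    exact h.eq
  · intro h
    exact h w rfl

/-- commutators with an element of the second centre whose `p`-th power is central have order `p`. -/
theorem comm_mem_omegaCenter {p : ℕ} {w : P} (hw : ∀ g, ⁅w, g⁆ ∈ Subgroup.center P)
    (hwp : w ^ p ∈ Subgroup.center P) (g : P) : ⁅w, g⁆ ∈ omegaCenter p P := by
  refine ⟨hw g, ?_⟩
  set c := ⁅w, g⁆ with hc
  have hcc := Subgroup.mem_center_iff.mp (hw g)
  have h1 : g * w * g⁻¹ = c⁻¹ * w := by rw [hc, commutatorElement_def]; group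
  have h2 : (g * w * g⁻¹) ^ p = w ^ p := by
    rw [conj_pow]
    have := Subgroup.mem_center_iff.mp hwp g
    rw [this, mul_assoc, mul_inv_cancel, mul_one]
  have h3 : Commute c⁻¹ w := (show Commute c w from (hcc w).symm).inv_left
  rw [h1, h3.mul_pow, inv_pow] at h2
  have h4 : (c ^ p)⁻¹ = 1 := by
    have := mul_right_cancel (b := w ^ p) (a := (c ^ p)⁻¹) (c := 1) (by rw [one_mul]; exact h2)
    exact this
  exact inv_eq_one.mp h4

end General

section Fin

variable {p : ℕ} [Fact p.Prime] {P : Type u} [Group P] [Finite P]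

theorem p_mul_card_le (hP : IsPGroup p P) {T T' : Subgroup P} (hlt : T < T') :
    p * Nat.card T ≤ Nat.card T' := by
  have hpp : p.Prime := Fact.out
  obtain ⟨a, ha⟩ := IsPGroup.iff_card.mp (hP.to_subgroup T)
  obtain ⟨b, hb⟩ := IsPGroup.iff_card.mp (hP.to_subgroup T')
  have hne : ¬ Nat.card T' ≤ Nat.card T := by
    intro h
    exact hlt.ne (Subgroup.eq_of_le_of_card_ge hlt.le h)
  rw [ha, hb] at hne ⊢
  have hab : a < b := by
    by_contra h
    exact hne (Nat.pow_le_pow_right hpp.pos (not_lt.mp h))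
  calc p * p ^ a = p ^ (a + 1) := by rw [pow_succ, mul_comm]
    _ ≤ p ^ b := Nat.pow_le_pow_right hpp.pos hab

omit [Fact p.Prime] in
theorem index_centralizer_le {w : P}
    (hw : ∀ g, ⁅w, g⁆ ∈ Subgroup.center P) (hwp : w ^ p ∈ Subgroup.center P) :
    (Subgroup.centralizer ({w} : Set P)).index ≤ Nat.card (omegaCenter p P) := by
  rw [← commHom_ker w hw, Subgroup.index_ker]
  apply Subgroup.card_le_of_le
  rintro _ ⟨g, rfl⟩
  exact comm_mem_omegaCenter hw hwp g

/-- if some element of order `p` is not central, `Ω₁(Z(P))` has order `p`. -/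
theorem card_omegaCenter (hP : IsPGroup p P) (hr : Cfsg.PRankLE p 2 P) {a : P}
    (ha : a ^ p = 1) (hac : a ∉ Subgroup.center P) : Nat.card (omegaCenter p P) = p := by
  have hpp : p.Prime := Fact.out
  have hnt : Nontrivial P := by
    refine ⟨⟨a, 1, ?_⟩⟩
    rintro rfl
    exact hac (Subgroup.one_mem _)
  -- an element of order `p` in the centre
  have hZnt : Nontrivial (Subgroup.center P) := hP.center_nontrivial
  obtain ⟨k, hk⟩ := IsPGroup.iff_card.mp (hP.to_subgroup (Subgroup.center P))
  have hk0 : k ≠ 0 := by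
    rintro rfl
    rw [pow_zero] at hk
    have := Finite.one_lt_card (α := Subgroup.center P)
    omega
  have hdvd : p ∣ Nat.card (Subgroup.center P) := by rw [hk]; exact dvd_pow_self p hk0
  obtain ⟨z, hz⟩ := exists_prime_orderOf_dvd_card' p hdvd
  have hzD : (z : P) ∈ omegaCenter p P := by
    refine ⟨z.2, ?_⟩
    have := pow_orderOf_eq_one z
    rw [hz] at this
    have h2 := congrArg Subtype.val this
    simpa using h2
  have hz1 : (z : P) ≠ 1 := by
    intro h
    have : z = 1 := Subtype.ext h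
    rw [this, orderOf_one] at hz
    exact hpp.one_lt.ne hz
  obtain ⟨j, hj⟩ := IsPGroup.iff_card.mp (hP.to_subgroup (omegaCenter p P))
  have hj0 : j ≠ 0 := by
    rintro rfl
    rw [pow_zero] at hj
    have h1 := (Subgroup.card_eq_one).mp hj
    rw [h1] at hzD
    exact hz1 (Subgroup.mem_bot.mp hzD)
  -- upper bound
  set S : Set P := (omegaCenter p P : Set P) ∪ {a} with hS
  have hcomm : ∀ x ∈ S, ∀ y ∈ S, x * y = y * x := by
    rintro x (hx | hx) y hy
    · exact ((Subgroup.mem_center_iff.mp hx.1) y).symm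
    · rcases hy with hy | hy
      · exact (Subgroup.mem_center_iff.mp hy.1) x
      · rw [Set.mem_singleton_iff] at hx hy
        rw [hx, hy]
  have hexp : ∀ x ∈ S, x ^ p = 1 := by
    rintro x (hx | hx)
    · exact hx.2
    · rw [Set.mem_singleton_iff] at hx
      rw [hx]; exact ha
  have hle := card_closure_le hr hcomm hexp
  have hlt : omegaCenter p P < Subgroup.closure S := by
    refine lt_of_le_of_ne ?_ ?_
    · intro x hx
      exact Subgroup.subset_closure (Or.inl hx)
    · intro h
      have : a ∈ omegaCenter p P := by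
        rw [h]; exact Subgroup.subset_closure (Or.inr rfl)
      exact hac this.1
  have h3 := p_mul_card_le hP hlt
  rw [hj] at h3 ⊢
  have hj2 : j < 2 := by
    by_contra h
    have h4 : p ^ 2 ≤ p ^ j := Nat.pow_le_pow_right hpp.pos (not_lt.mp h)
    have h5 : p * p ^ 2 ≤ p ^ 2 := le_trans (le_trans (Nat.mul_le_mul_left p h4) h3) hle
    have h6 : 0 < p ^ 2 := pow_pos hpp.pos 2
    have h7 := hpp.one_lt
    nlinarith
  have : j = 1 := by omega
  rw [this, pow_one]

end Fin

end Cfsg.Agent.Lib.Helper22.RankTwoChar
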