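import Mathlib
import Cfsg.Prelude.Def_CaseTheorems
import Cfsg.Agent.Lib.Helper22.RankTwoCharB

/-!
helper22: `p`-groups (`p` odd) of rank at most two have a proper characteristic subgroup of index
at most `p²`.  Part C: the subgroups `W`, `Y` of the second centre and the main lemma.
-/

set_option autoImplicit false
open scoped commutatorElement

namespace Cfsg.Agent.Lib.Helper22.RankTwoChar

universe u

section Defs

variable {P : Type*} [Group P]

theorem z2_mul {a b : P} (ha : ∀ g, ⁅a, g⁆ ∈ Subgroup.center P)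
    (hb : ∀ g, ⁅b, g⁆ ∈ Subgroup.center P) (g : P) : ⁅a * b, g⁆ ∈ Subgroup.center P := by
  have h1 : ⁅a * b, g⁆ = a * ⁅b, g⁆ * a⁻¹ * ⁅a, g⁆ := by
    simp only [commutatorElement_def]; group
  have h2 := Subgroup.mem_center_iff.mp (hb g) a
  rw [h1, h2, mul_assoc ⁅b, g⁆, mul_inv_cancel, mul_one]
  exact Subgroup.mul_mem _ (hb g) (ha g)

theorem z2_inv {a : P} (ha : ∀ g, ⁅a, g⁆ ∈ Subgroup.center P) (g : P) :
    ⁅a⁻¹, g⁆ ∈ Subgroup.center P := by
  have h1 : ⁅a⁻¹, g⁆ = a⁻¹ * ⁅a, g⁆⁻¹ * a := by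
    simp only [commutatorElement_def]; group
  have h2 := Subgroup.mem_center_iff.mp (Subgroup.inv_mem _ (ha g)) a⁻¹
  rw [h1, h2, mul_assoc, inv_mul_cancel, mul_one]
  exact Subgroup.inv_mem _ (ha g)

theorem z2_map (φ : P ≃* P) {a : P} (ha : ∀ g, ⁅a, g⁆ ∈ Subgroup.center P) (g : P) :
    ⁅φ a, g⁆ ∈ Subgroup.center P := by
  have h1 : ⁅φ a, g⁆ = φ ⁅a, φ.symm g⁆ := by
    rw [map_commutatorElement]; simp
  rw [h1]
  exact map_mem_center φ (ha _)

theorem z2_mul_pow {p : ℕ} (hpp : p.Prime) (hp2 : p ≠ 2) {a b : P}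
    (hb : ∀ g, ⁅b, g⁆ ∈ Subgroup.center P)
    (hbp : b ^ p ∈ Subgroup.center P) : (a * b) ^ p = a ^ p * b ^ p := by
  have hz := comm_mem_omegaCenter hb hbp a
  have hzc := Subgroup.mem_center_iff.mp hz.1
  have hrel : b * a = a * b * ⁅b, a⁆ := by
    rw [hzc (a * b)]
    simp only [commutatorElement_def]; group
  exact mul_pow_prime_of_central hpp hp2 hrel (hzc a).symm (hzc b).symm hz.2

/-- elements of the second centre with central `p`-th power. -/
def upsZ2 {p : ℕ} (hpp : p.Prime) (hp2 : p ≠ 2) (P : Type*) [Group P] : Subgroup P where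
  carrier := {y | y ^ p ∈ Subgroup.center P ∧ ∀ g, ⁅y, g⁆ ∈ Subgroup.center P}
  one_mem' := by
    refine ⟨by rw [one_pow]; exact Subgroup.one_mem _, fun g => ?_⟩
    rw [commutatorElement_one_left]; exact Subgroup.one_mem _
  mul_mem' := by
    rintro a b ⟨ha, ha'⟩ ⟨hb, hb'⟩
    refine ⟨?_, z2_mul ha' hb'⟩
    rw [z2_mul_pow hpp hp2 hb' hb]
    exact Subgroup.mul_mem _ ha hb
  inv_mem' := by
    rintro a ⟨ha, ha'⟩
    refine ⟨?_, z2_inv ha'⟩
    rw [inv_pow]; exact Subgroup.inv_mem _ ha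

/-- elements of the second centre of order dividing `p`. -/
def omegaZ2 {p : ℕ} (hpp : p.Prime) (hp2 : p ≠ 2) (P : Type*) [Group P] : Subgroup P where
  carrier := {y | y ^ p = 1 ∧ ∀ g, ⁅y, g⁆ ∈ Subgroup.center P}
  one_mem' := by
    refine ⟨one_pow p, fun g => ?_⟩
    rw [commutatorElement_one_left]; exact Subgroup.one_mem _
  mul_mem' := by
    rintro a b ⟨ha, ha'⟩ ⟨hb, hb'⟩
    refine ⟨?_, z2_mul ha' hb'⟩
    rw [z2_mul_pow hpp hp2 hb' (by rw [hb]; exact Subgroup.one_mem _), ha, hb, one_mul]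
  inv_mem' := by
    rintro a ⟨ha, ha'⟩
    refine ⟨?_, z2_inv ha'⟩
    rw [inv_pow, ha, inv_one]

instance upsZ2_characteristic {p : ℕ} (hpp : p.Prime) (hp2 : p ≠ 2) :
    (upsZ2 hpp hp2 P).Characteristic := by
  rw [Subgroup.characteristic_iff_map_le]
  rintro φ _ ⟨y, ⟨hy, hy'⟩, rfl⟩
  refine ⟨?_, z2_map φ hy'⟩
  show (φ y) ^ p ∈ Subgroup.center P
  rw [← map_pow]
  exact map_mem_center φ hy

instance omegaZ2_characteristic {p : ℕ} (hpp : p.Prime) (hp2 : p ≠ 2) :
    (omegaZ2 hpp hp2 P).Characteristic := by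
  rw [Subgroup.characteristic_iff_map_le]
  rintro φ _ ⟨y, ⟨hy, hy'⟩, rfl⟩
  refine ⟨?_, z2_map φ hy'⟩
  show (φ y) ^ p = 1
  rw [← map_pow, hy, map_one]

/-- an element commuting with a generating set centralizes the closure. -/
theorem mem_centralizer_closure {S : Set P} {g : P} (h : ∀ s ∈ S, s * g = g * s) :
    g ∈ Subgroup.centralizer ((Subgroup.closure S : Subgroup P) : Set P) := by
  have hle : Subgroup.closure S ≤ Subgroup.centralizer ({g} : Set P) := by
    rw [Subgroup.closure_le]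
    intro s hs
    rw [SetLike.mem_coe, Subgroup.mem_centralizer_iff]
    intro x hx
    rw [Set.mem_singleton_iff] at hx
    subst hx
    exact (h s hs).symm
  rw [Subgroup.mem_centralizer_iff]
  intro t ht
  have := Subgroup.mem_centralizer_iff.mp (hle ht) g rfl
  exact this.symm

end Defs

end Cfsg.Agent.Lib.Helper22.RankTwoChar
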