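/-
helper22: DEFECT-ONE CLUSTER, Part O, leaf LOC2 `block_of_pTriv` (exact), by transport of helper6's
`Def1ColA.exists_block_chars` (built on lead's `cp_*`) to `X := Cz P`, `z := x0`.
-/
import Mathlib
import Cfsg.Prelude.Def_BlockRank
import Cfsg.Agent.Lib.Helper27.DODefs
import Cfsg.Agent.Lib.Helper27.BlkAlgDefs2
import Cfsg.Agent.Lib.Helper6.Def1ColA
import Cfsg.Agent.Lib.Helper6.SylowBlockCount

set_option autoImplicit false

namespace Cfsg.Agent.Lib.Helper22.DOLOC2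

open Cfsg Cfsg.Agent.Lib.Helper8.DOM Cfsg.Agent.Lib.Helper27.DO Cfsg.Agent.Lib.Helper27.BlkAlg
open Cfsg.Agent.CharLib Cfsg.Agent.Lib.Helper6 Cfsg.Agent.Lib.Helper24
open scoped ComplexConjugate

universe u

variable {G : Type u} [Group G] [Finite G] {p : ℕ} [Fact p.Prime] {M : Ideal AlgInt}

theorem zetaP_isPrimitiveRoot (p : ℕ) [hp : Fact p.Prime] : IsPrimitiveRoot (zetaP p) p :=
  Complex.isPrimitiveRoot_exp p hp.out.ne_zero

omit [Finite G] [Fact p.Prime] in
/-- `P ≤ C_G(P)` for cyclic `P` -/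
theorem gen_mem_Cz (P : Subgroup G) (x0 : G) (hx0 : P = Subgroup.zpowers x0) : x0 ∈ Cz P := by
  rw [Subgroup.mem_centralizer_iff]
  intro w hw
  rw [hx0] at hw
  obtain ⟨k, rfl⟩ := Subgroup.mem_zpowers_iff.mp hw
  exact ((Commute.refl x0).zpow_left k).eq

omit [Finite G] [Fact p.Prime] in
theorem gen_central (P : Subgroup G) (x0 : G) (hx0 : P = Subgroup.zpowers x0)
    (h : Cz P) : h * (⟨x0, gen_mem_Cz P x0 hx0⟩ : Cz P) = ⟨x0, gen_mem_Cz P x0 hx0⟩ * h := by
  apply Subtype.ext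
  have hx0P : x0 ∈ P := by rw [hx0]; exact Subgroup.mem_zpowers x0
  have := (Subgroup.mem_centralizer_iff.mp h.2) x0 hx0P
  exact this.symm

omit [Finite G] [Fact p.Prime] in
theorem orderOf_gen (P : Subgroup G) (hP : Nat.card P = p) (x0 : G) (hx0 : P = Subgroup.zpowers x0) :
    orderOf x0 = p := by
  rw [← Nat.card_zpowers, ← hx0, hP]

omit [Finite G] [Fact p.Prime] in
/-- the subgroup of `Cz P` generated by `x0` is `P ∩ Cz P` -/
theorem zpowers_gen_eq (P : Subgroup G) (x0 : G) (hx0 : P = Subgroup.zpowers x0) :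
    Subgroup.zpowers (⟨x0, gen_mem_Cz P x0 hx0⟩ : Cz P) = P.subgroupOf (Cz P) := by
  ext c
  rw [Subgroup.mem_subgroupOf, Subgroup.mem_zpowers_iff]
  constructor
  · rintro ⟨k, rfl⟩
    have hx0P : x0 ∈ P := by
      have := Subgroup.mem_zpowers x0
      rw [← hx0] at this
      exact this
    simp only [Subgroup.coe_zpow]
    exact P.zpow_mem hx0P k
  · intro hc
    have hc2 : (c : G) ∈ Subgroup.zpowers x0 := by
      rw [← hx0]; exact hc
    obtain ⟨k, hk⟩ := Subgroup.mem_zpowers_iff.mp hc2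
    exact ⟨k, Subtype.ext (by simpa using hk)⟩

omit [Finite G] [Fact p.Prime] in
/-- the index of `⟨x0⟩` in `Cz P` is prime to `p` -/
theorem not_dvd_index_zpowers (P : Subgroup G) (hSyl : ¬ p ∣ P.index) (x0 : G)
    (hx0 : P = Subgroup.zpowers x0) :
    ¬ p ∣ (Subgroup.zpowers (⟨x0, gen_mem_Cz P x0 hx0⟩ : Cz P)).index := by
  rw [zpowers_gen_eq P x0 hx0]
  intro h
  apply hSyl
  have hPC : P ≤ Cz P := by
    intro w hw
    rw [hx0] at hw
    obtain ⟨k, rfl⟩ := Subgroup.mem_zpowers_iff.mp hw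
    exact (Cz P).zpow_mem (gen_mem_Cz P x0 hx0) k
  have := Subgroup.relIndex_mul_index hPC
  rw [← this]
  exact Dvd.dvd.mul_right h _

/-- LOC2 : the block of a `P`-trivial `θ` is `{λ_i × θ : i ∈ ℤ/p}`. -/
theorem block_of_pTriv (hM : IsPModular p M) (P : Subgroup G) (hP : Nat.card P = p)
    (hSyl : ¬ p ∣ P.index) (x0 : G) (hx0 : P = Subgroup.zpowers x0) (θ : IrrCharacter (Cz P))
    (hθP : PTriv P (θ : Cz P → ℂ)) :
    (∀ i : ZMod p, ∃! φ : IrrCharacter (Cz P),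
      φ ∈ blockOf M (θ : Cz P → ℂ) ∧ HasIdx p P x0 (φ : Cz P → ℂ) i) ∧
    (∀ φ ∈ blockOf M (θ : Cz P → ℂ), ∀ y : Cz P, ¬ p ∣ orderOf y →
      (φ : Cz P → ℂ) y = (θ : Cz P → ℂ) y) ∧
    (∀ φ ∈ blockOf M (θ : Cz P → ℂ), PTriv P (φ : Cz P → ℂ) → φ = θ) := by
  classical
  have hpp : p.Prime := Fact.out
  have hprime : M.IsPrime := isPrime_of_isPModular hM
  let _ : Fintype (Cz P) := Fintype.ofFinite _
  set z : Cz P := ⟨x0, gen_mem_Cz P x0 hx0⟩ with hz
  have hzc : ∀ h : Cz P, h * z = z * h := gen_central P x0 hx0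
  have hzo : orderOf z = p := by
    rw [← orderOf_gen P hP x0 hx0, ← Subgroup.orderOf_coe z]
  set b : Set (IrrCharacter (Cz P)) := blockOf M (θ : Cz P → ℂ) with hb
  have hbB : IsPBlock M b := ⟨θ, rfl⟩
  have hQn : (Subgroup.zpowers z).Normal := by
    constructor
    intro n hn g
    obtain ⟨k, rfl⟩ := Subgroup.mem_zpowers_iff.mp hn
    have hc : Commute g z := hzc g
    have : g * z ^ k * g⁻¹ = z ^ k := by
      rw [(hc.zpow_right k).eq, mul_inv_cancel_right]
    rw [this]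
    exact Subgroup.zpow_mem_zpowers z k
  have hQcard : Nat.card (Subgroup.zpowers z) = p := by rw [Nat.card_zpowers, hzo]
  have hQp : IsPGroup p (Subgroup.zpowers z) :=
    IsPGroup.of_card (n := 1) (by rw [hQcard, pow_one])
  have hbD : IsDefectGroup p M b (Subgroup.zpowers z) :=
    isDefectGroup_of_normal_sylow hM (Subgroup.zpowers z) hQp
      (not_dvd_index_zpowers P hSyl x0 hx0) b hbB
  have hθb : θ ∈ b := mem_blockOf_self θ
  have hθD : ∀ x ∈ Subgroup.zpowers z, (θ : Cz P → ℂ) x = (θ : Cz P → ℂ) 1 := by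
    intro x hx
    apply hθP x
    rw [zpowers_gen_eq P x0 hx0, Subgroup.mem_subgroupOf] at hx
    exact hx
  have hζ := zetaP_isPrimitiveRoot p
  obtain ⟨ψ, hinj, hrange, hform⟩ :=
    Def1ColA.exists_block_chars hM z hzc hzo b hbB hbD θ hθb hθD hζ
  have h1reg : ¬ p ∣ orderOf (1 : Cz P) := by
    rw [orderOf_one]; exact hpp.not_dvd_one
  have hθ1 := irr_apply_one_ne_zero θ
  -- values at `1` and `z`
  have hψ1 : ∀ i : ZMod p, (ψ i : Cz P → ℂ) 1 = (θ : Cz P → ℂ) 1 := by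
    intro i
    have := hform i 0 1 h1reg
    simpa using this
  have hψz : ∀ i : ZMod p, (ψ i : Cz P → ℂ) z = zetaP p ^ i.val * (θ : Cz P → ℂ) 1 := by
    intro i
    have := hform i 1 1 h1reg
    simpa using this
  -- the central index of `ψ i`
  have hidx : ∀ i : ZMod p, HasIdx p P x0 (ψ i : Cz P → ℂ) i := by
    intro i c c' hcc'
    have hc' : c' = c * z := by
      apply Subtype.ext
      rw [hcc']
      have := congrArg Subtype.val (hzc c)
      simpa using this.symm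
    rw [hc', irr_mul_central (ψ i) z hzc c]
    have e1 := irr_mul_central (ψ i) z hzc 1
    rw [one_mul, hψz i, hψ1 i] at e1
    have := mul_right_cancel₀ hθ1 e1
    rw [← this]
  -- the index determines the member
  have hidx_inj : ∀ i j : ZMod p, HasIdx p P x0 (ψ j : Cz P → ℂ) i → i = j := by
    intro i j h
    have e1 := h 1 z (by simp [hz])
    rw [hψz j, hψ1 j] at e1
    have e2 := mul_right_cancel₀ hθ1 e1
    have e3 := hζ.pow_inj (ZMod.val_lt j) (ZMod.val_lt i) e2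
    exact (ZMod.val_injective p e3).symm
  have hmem : ∀ φ ∈ b, ∃ j, ψ j = φ := by
    intro φ hφ
    rw [← hrange] at hφ
    exact hφ
  -- `θ = ψ 0`
  have hzP : (z : G) ∈ P := by
    have := Subgroup.mem_zpowers x0
    rw [← hx0] at this
    exact this
  have hptriv : ∀ j : ZMod p, PTriv P (ψ j : Cz P → ℂ) → j = 0 := by
    intro j h
    have e1 := h z hzP
    rw [hψz j, hψ1 j] at e1
    have e2 : zetaP p ^ j.val = zetaP p ^ (0 : ZMod p).val := by
      rw [ZMod.val_zero (n := p), pow_zero]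
      have : zetaP p ^ j.val * (θ : Cz P → ℂ) 1 = 1 * (θ : Cz P → ℂ) 1 := by rw [e1, one_mul]
      exact mul_right_cancel₀ hθ1 this
    have : NeZero p := ⟨hpp.ne_zero⟩
    have e3 := hζ.pow_inj (ZMod.val_lt j) (ZMod.val_lt (0 : ZMod p)) e2
    exact ZMod.val_injective p e3
  have hθ0 : ψ 0 = θ := by
    obtain ⟨j, hj⟩ := hmem θ hθb
    have : j = 0 := hptriv j (by rw [hj]; exact hθP)
    rw [← hj, this]
  refine ⟨?_, ?_, ?_⟩
  · intro i
    refine ⟨ψ i, ⟨?_, hidx i⟩, ?_⟩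
    · rw [← hrange]; exact ⟨i, rfl⟩
    · rintro φ ⟨hφb, hφi⟩
      obtain ⟨j, rfl⟩ := hmem φ hφb
      rw [hidx_inj i j hφi]
  · intro φ hφ y hy
    obtain ⟨j, rfl⟩ := hmem φ hφ
    have := hform j 0 y hy
    simpa using this
  · intro φ hφ hφP
    obtain ⟨j, rfl⟩ := hmem φ hφ
    rw [hptriv j hφP, hθ0]

end Cfsg.Agent.Lib.Helper22.DOLOC2
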