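/-
helper22: DEFECT-ONE CLUSTER, Part O, leaf GSASM in `_of` form (the cited leaves INERT, SETUP, INV, GRAM, ORTH,
SUPP, DPOW, VAL enter as hypotheses in exactly the shape of `notes/S4442_O_leaves.lean`).
-/
import Mathlib
import Cfsg.Prelude.Def_BlockRank
import Cfsg.Agent.Lib.Helper27.DODefs
import Cfsg.Agent.Lib.Helper27.BlkAlgDefs2

set_option autoImplicit false

namespace Cfsg.Agent.Lib.Helper22.DOGSASMOf

open Cfsg Cfsg.Agent.Lib.Helper8.DOM Cfsg.Agent.Lib.Helper27.DO Cfsg.Agent.Lib.Helper27.BlkAlg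
open scoped ComplexConjugate

universe u

variable {G : Type u} [Group G] [Finite G] {p : ℕ} [Fact p.Prime] {M : Ideal AlgInt}
  {P : Subgroup G} {B : Set (IrrCharacter G)} {θ : IrrCharacter (Cz P)} {T : Subgroup G} {x0 : G}

/-- the generator of `P` has order `p` -/
theorem orderOf_gen (hP : Nat.card P = p) (hx0 : P = Subgroup.zpowers x0) : orderOf x0 = p := by
  rw [← Nat.card_zpowers, ← hx0, hP]

/-- GSASM in `_of` form. -/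
theorem exists_gsdata_of (c : Ctx p M P B θ T x0)
    (hle : Cz P ≤ T ∧ T ≤ Nz P)
    (hsetup : Cz P ≤ T → T ≤ Nz P → ∃ E : Subgroup (ZMod p)ˣ,
      (∀ u : (ZMod p)ˣ, u ∈ E ↔ ∃ n ∈ T, n * x0 * n⁻¹ = x0 ^ (u : ZMod p).val) ∧
      Nat.card E = (Cz P).relIndex T)
    (hinv : ∀ (χ : IrrCharacter G) (u : (ZMod p)ˣ),
      (∃ n ∈ T, n * x0 * n⁻¹ = x0 ^ (u : ZMod p).val) → ∀ i : ZMod p,
      muZ p M P θ x0 χ ((u : ZMod p) * i) = muZ p M P θ x0 χ i)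
    (hgram : ∀ E : Subgroup (ZMod p)ˣ,
      (∀ u : (ZMod p)ˣ, u ∈ E ↔ ∃ n ∈ T, n * x0 * n⁻¹ = x0 ^ (u : ZMod p).val) →
      Nat.card E = (Cz P).relIndex T → ∀ i j : (ZMod p)ˣ,
      (i * j⁻¹ ∈ E → ∑ᶠ χ ∈ B, (muZ p M P θ x0 χ i - muZ p M P θ x0 χ 0) *
        (muZ p M P θ x0 χ j - muZ p M P θ x0 χ 0) = (Nat.card E : ℤ) + 1) ∧
      (i * j⁻¹ ∉ E → ∑ᶠ χ ∈ B, (muZ p M P θ x0 χ i - muZ p M P θ x0 χ 0) *
        (muZ p M P θ x0 χ j - muZ p M P θ x0 χ 0) = (Nat.card E : ℤ)))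
    (horth : ∀ (i : (ZMod p)ˣ) (g : G), ¬ p ∣ orderOf g →
      ∑ᶠ χ ∈ B, ((muZ p M P θ x0 χ i - muZ p M P θ x0 χ 0 : ℤ) : ℂ) * (χ : G → ℂ) g = 0)
    (hsupp : ∀ χ : IrrCharacter G, χ ∈ B →
      ∃ i : (ZMod p)ˣ, muZ p M P θ x0 χ i - muZ p M P θ x0 χ 0 ≠ 0)
    (hdpow : orderOf x0 = p → ∀ (μ : ZMod p → ℤ) (k : ℕ),
      Dfun p x0 μ (x0 ^ k) = ∑ᶠ i : ZMod p, (μ i : ℂ) * zetaP p ^ (i.val * k))
    (hval : ∀ χ ∈ B, ∀ x ∈ P, x ≠ 1 → ∀ y ∈ Cz P, ¬ p ∣ orderOf y →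
      (χ : G → ℂ) (x * y) = (Nat.card T : ℂ)⁻¹ *
        ∑ᶠ n : Nz P, Dfun p x0 (muZ p M P θ x0 χ) ((n : G) * x * (n : G)⁻¹) *
          extendByZero (Cz P) (θ : Cz P → ℂ) ((n : G) * y * (n : G)⁻¹)) :
    ∃ E : Subgroup (ZMod p)ˣ, GSData p P B θ T x0 E (muZ p M P θ x0)
      (fun χ => Dfun p x0 (muZ p M P θ x0 χ)) := by
  obtain ⟨E, hE, hcard⟩ := hsetup hle.1 hle.2
  refine ⟨E, ?_⟩
  exact
    { gen := c.gen
      memE := hE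
      cardE := hcard
      mu_inv := fun χ u hu i => hinv χ u ((hE u).mp hu) i
      gram1 := fun i j hij => (hgram E hE hcard i j).1 hij
      gram0 := fun i j hij => (hgram E hE hcard i j).2 hij
      orth := horth
      supp := hsupp
      D_eq := fun χ k => hdpow (orderOf_gen c.hP c.gen) (muZ p M P θ x0 χ) k
      val := hval }

end Cfsg.Agent.Lib.Helper22.DOGSASMOf
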