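/-
helper22: DEFECT-ONE CLUSTER, Part O, leaf GSASM with the landed leaves wired in (INERT, SETUP: helper16; INV: helper19;
DPOW: helper29; SUPP over VAL: helper15); only GRAM, ORTH, VAL remain as hypotheses (verbatim statements at `c`).
-/
import Mathlib
import Cfsg.Prelude.Def_BlockRank
import Cfsg.Agent.Lib.Helper27.DODefs
import Cfsg.Agent.Lib.Helper27.BlkAlgDefs2
import Cfsg.Agent.Lib.Helper22.DOGSASMOf
import Cfsg.Agent.Lib.Helper16.DOINERT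
import Cfsg.Agent.Lib.Helper16.DOSETUP
import Cfsg.Agent.Lib.Helper19.DOINVX
import Cfsg.Agent.Lib.Helper29.DODPOW
import Cfsg.Agent.Lib.Helper15.DOSUPPOf

set_option autoImplicit false

namespace Cfsg.Agent.Lib.Helper22.DOGSASMOf2

open Cfsg Cfsg.Agent.Lib.Helper8.DOM Cfsg.Agent.Lib.Helper27.DO Cfsg.Agent.Lib.Helper27.BlkAlg
open scoped ComplexConjugate

universe u

variable {G : Type u} [Group G] [Finite G] {p : ℕ} [Fact p.Prime] {M : Ideal AlgInt}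
  {P : Subgroup G} {B : Set (IrrCharacter G)} {θ : IrrCharacter (Cz P)} {T : Subgroup G} {x0 : G}

/-- GSASM over GRAM, ORTH, VAL only. -/
theorem exists_gsdata_of (c : Ctx p M P B θ T x0)
    (hgram : ∀ E : Subgroup (ZMod p)ˣ,
      (∀ u : (ZMod p)ˣ, u ∈ E ↔ ∃ n ∈ T, n * x0 * n⁻¹ = x0 ^ (u : ZMod p).val) →
      Nat.card E = (Cz P).relIndex T → ∀ i j : (ZMod p)ˣ,
      (i * j⁻¹ ∈ E → ∑ᶠ χ ∈ B, (muZ p M P θ x0 χ i - muZ p M P θ x0 χ 0) *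
        (muZ p M P θ x0 χ j - muZ p M P θ x0 χ 0) = (Nat.card E : ℤ) + 1) ∧
      (i * j⁻¹ ∉ E → ∑ᶠ χ ∈ B, (muZ p M P θ x0 χ i - muZ p M P θ x0 χ 0) *
        (muZ p M P θ x0 χ j - muZ p M P θ x0 χ 0) = (Nat.card E : ℤ)))
    (horth : ∀ (i : (ZMod p)ˣ) (g : G), ¬ p ∣ orderOf g →
      ∑ᶠ χ ∈ B, ((muZ p M P θ x0 χ i - muZ p M P θ x0 χ 0 : ℤ) : ℂ) * (χ : G → ℂ) g = 0)
    (hval : ∀ χ ∈ B, ∀ x ∈ P, x ≠ 1 → ∀ y ∈ Cz P, ¬ p ∣ orderOf y →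
      (χ : G → ℂ) (x * y) = (Nat.card T : ℂ)⁻¹ *
        ∑ᶠ n : Nz P, Dfun p x0 (muZ p M P θ x0 χ) ((n : G) * x * (n : G)⁻¹) *
          extendByZero (Cz P) (θ : Cz P → ℂ) ((n : G) * y * (n : G)⁻¹)) :
    ∃ E : Subgroup (ZMod p)ˣ, GSData p P B θ T x0 E (muZ p M P θ x0)
      (fun χ => Dfun p x0 (muZ p M P θ x0 χ)) :=
  Cfsg.Agent.Lib.Helper22.DOGSASMOf.exists_gsdata_of c
    (Cfsg.Agent.Lib.Helper16.DOINERT.le_of_isInertia P θ T c.hT)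
    (fun hCT hTN => Cfsg.Agent.Lib.Helper16.DOSETUP.exists_E P c.hP x0 c.gen T hCT hTN)
    (fun χ u hu i => Cfsg.Agent.Lib.Helper19.DOINVX.muZ_inv c χ u hu i)
    hgram horth
    (fun χ hχ => Cfsg.Agent.Lib.Helper15.DOSUPPOf.supp_main_of c hval χ hχ)
    (fun hx0 μ k => Cfsg.Agent.Lib.Helper29.DODPOW.Dfun_pow x0 hx0 μ k)
    hval

end Cfsg.Agent.Lib.Helper22.DOGSASMOf2
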