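/-
helper22: DEFECT-ONE CLUSTER, Part O, leaf GSASM with all landed leaves wired in (INERT, SETUP: helper16; INV: helper19;
DPOW: helper29; SUPP over VAL: helper15; VAL: helper12); only GRAM and ORTH remain as hypotheses (verbatim statements at `c`).
-/
import Mathlib
import Cfsg.Prelude.Def_BlockRank
import Cfsg.Agent.Lib.Helper27.DODefs
import Cfsg.Agent.Lib.Helper27.BlkAlgDefs2
import Cfsg.Agent.Lib.Helper22.DOGSASMOf2
import Cfsg.Agent.Lib.Helper12.DOVAL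

set_option autoImplicit false

namespace Cfsg.Agent.Lib.Helper22.DOGSASMOf3

open Cfsg Cfsg.Agent.Lib.Helper8.DOM Cfsg.Agent.Lib.Helper27.DO Cfsg.Agent.Lib.Helper27.BlkAlg
open scoped ComplexConjugate

universe u

variable {G : Type u} [Group G] [Finite G] {p : ℕ} [Fact p.Prime] {M : Ideal AlgInt}
  {P : Subgroup G} {B : Set (IrrCharacter G)} {θ : IrrCharacter (Cz P)} {T : Subgroup G} {x0 : G}

/-- GSASM over GRAM, ORTH only. -/
theorem exists_gsdata_of (c : Ctx p M P B θ T x0)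
    (hgram : ∀ E : Subgroup (ZMod p)ˣ,
      (∀ u : (ZMod p)ˣ, u ∈ E ↔ ∃ n ∈ T, n * x0 * n⁻¹ = x0 ^ (u : ZMod p).val) →
      Nat.card E = (Cz P).relIndex T → ∀ i j : (ZMod p)ˣ,
      (i * j⁻¹ ∈ E → ∑ᶠ χ ∈ B, (muZ p M P θ x0 χ i - muZ p M P θ x0 χ 0) *
        (muZ p M P θ x0 χ j - muZ p M P θ x0 χ 0) = (Nat.card E : ℤ) + 1) ∧
      (i * j⁻¹ ∉ E → ∑ᶠ χ ∈ B, (muZ p M P θ x0 χ i - muZ p M P θ x0 χ 0) *
        (muZ p M P θ x0 χ j - muZ p M P θ x0 χ 0) = (Nat.card E : ℤ)))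
    (horth : ∀ (i : (ZMod p)ˣ) (g : G), ¬ p ∣ orderOf g →
      ∑ᶠ χ ∈ B, ((muZ p M P θ x0 χ i - muZ p M P θ x0 χ 0 : ℤ) : ℂ) * (χ : G → ℂ) g = 0) :
    ∃ E : Subgroup (ZMod p)ˣ, GSData p P B θ T x0 E (muZ p M P θ x0)
      (fun χ => Dfun p x0 (muZ p M P θ x0 χ)) :=
  Cfsg.Agent.Lib.Helper22.DOGSASMOf2.exists_gsdata_of c hgram horth
    (Cfsg.Agent.Lib.Helper12.DOVAL.val_main c)

end Cfsg.Agent.Lib.Helper22.DOGSASMOf3
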