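/-
helper22: DEFECT-ONE CLUSTER, Part O, leaf GSASM `exists_gsdata` (exact): assembly of the landed leaves
(INERT, SETUP: helper16; INV: helper19; DPOW: helper29; SUPP over VAL: helper15; VAL: helper12;
GRAM, ORTH: helper10's Route I via `Helper22.DOGRAMX`).
-/
import Mathlib
import Cfsg.Prelude.Def_BlockRank
import Cfsg.Agent.Lib.Helper27.DODefs
import Cfsg.Agent.Lib.Helper27.BlkAlgDefs2
import Cfsg.Agent.Lib.Helper22.DOGSASMOf3
import Cfsg.Agent.Lib.Helper22.DOGRAMX

set_option autoImplicit false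

namespace Cfsg.Agent.Lib.Helper22.DOGSASM

open Cfsg Cfsg.Agent.Lib.Helper8.DOM Cfsg.Agent.Lib.Helper27.DO Cfsg.Agent.Lib.Helper27.BlkAlg
open scoped ComplexConjugate

universe u

variable {G : Type u} [Group G] [Finite G] {p : ℕ} [Fact p.Prime] {M : Ideal AlgInt}
  {P : Subgroup G} {B : Set (IrrCharacter G)} {θ : IrrCharacter (Cz P)} {T : Subgroup G} {x0 : G}

/-- GSASM : the group side. -/
theorem exists_gsdata (c : Ctx p M P B θ T x0) :
    ∃ E : Subgroup (ZMod p)ˣ, GSData p P B θ T x0 E (muZ p M P θ x0)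
      (fun χ => Dfun p x0 (muZ p M P θ x0 χ)) :=
  Cfsg.Agent.Lib.Helper22.DOGSASMOf3.exists_gsdata_of c
    (fun E hE hcard i j => Cfsg.Agent.Lib.Helper22.DOGRAMX.gram_main c E hE hcard i j)
    (fun i g hg => Cfsg.Agent.Lib.Helper22.DOGRAMX.orth_main c i g hg)

end Cfsg.Agent.Lib.Helper22.DOGSASM
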