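import Cfsg.Agent.Lib.Helper22.BlkAlgB5bCore
import Cfsg.Agent.Lib.Helper18.BlkAlgB3
import Cfsg.Agent.Lib.Helper14.BlkAlgB4c

/-!
helper22: S4607 leaf B5b (planner helper27): the dimension of the centre of the block algebra over the
residue field, `dim ebar_B * Z(F[G]) = k(B)`.

Route: the matrices (indexed by the conjugacy classes) of `conv e_B ·` on class functions have entries in
the local ring (Osima), form a complete family of orthogonal idempotents, have rank `k(B)` over `ℂ`
(`BlkAlgB5bCore`), and their reductions are the matrices of multiplication by `ebar_B` on the centre of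
`F[G]` in the basis of class sums; helper14's B4c (ranks do not change under reduction).
-/

set_option autoImplicit false

namespace Cfsg.Agent.Lib.Helper22.BlkAlgB5b

open Cfsg Cfsg.Agent.CharLib Cfsg.Agent.Lib.Helper6 Cfsg.Agent.Lib.Helper24
open Cfsg.Agent.Lib.Helper27.BlkAlg Cfsg.Agent.Lib.Helper18.BlkAlgB2 Cfsg.Agent.Lib.Helper18.BlkAlgB3
open scoped ComplexConjugate

universe u

variable (M : Ideal AlgInt) [hmax : M.IsMaximal] {G : Type u} [Group G] [Fintype G]

/-! ## the residue field side -/

/-- the coefficient function of an element of the group algebra -/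
noncomputable def coeffFn : MonoidAlgebra (ResField M) G ≃ₗ[ResField M] (G → ResField M) :=
  (MonoidAlgebra.coeffLinearEquiv (ResField M)).trans
    (Finsupp.linearEquivFunOnFinite (ResField M) (ResField M) G)

omit [Group G] in
theorem coeffFn_apply (x : MonoidAlgebra (ResField M) G) (g : G) : coeffFn M x g = x.coeff g := rfl

/-- coordinates on the centre of the group algebra: class sums -/
noncomputable def zIncl : (ConjClasses G → ResField M) →ₗ[ResField M] MonoidAlgebra (ResField M) G :=
  (coeffFn M).symm.toLinearMap ∘ₗ LinearMap.funLeft (ResField M) (ResField M) ConjClasses.mk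

theorem coeff_zIncl (c : ConjClasses G → ResField M) (g : G) :
    (zIncl M c).coeff g = c (ConjClasses.mk g) := by
  rw [← coeffFn_apply]
  unfold zIncl
  rw [LinearMap.comp_apply, LinearEquiv.coe_coe, LinearEquiv.apply_symm_apply]
  rfl

theorem zIncl_injective : Function.Injective (zIncl M (G := G)) := by
  unfold zIncl
  rw [LinearMap.coe_comp]
  exact (coeffFn M).symm.injective.comp
    (LinearMap.funLeft_injective_of_surjective _ _ _ ConjClasses.mk_surjective)

theorem range_zIncl :
    LinearMap.range (zIncl M (G := G)) =
      Subalgebra.toSubmodule (Subalgebra.center (ResField M) (MonoidAlgebra (ResField M) G)) := by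
  ext x
  rw [Subalgebra.mem_toSubmodule]
  constructor
  · rintro ⟨c, rfl⟩
    rw [Subalgebra.mem_center_iff]
    intro y
    refine (mul_comm_of_coeff_conj (zIncl M c) y ?_).symm
    intro g h
    rw [coeff_zIncl, coeff_zIncl]
    congr 1
    rw [ConjClasses.mk_eq_mk_iff_isConj]
    exact (isConj_iff.mpr ⟨h, rfl⟩).symm
  · intro hx
    refine ⟨fun K => x.coeff (Quotient.out K), ?_⟩
    apply MonoidAlgebra.ext
    apply Finsupp.ext
    intro g
    rw [coeff_zIncl]
    have h1 : IsConj (Quotient.out (ConjClasses.mk g)) g := by
      rw [← ConjClasses.mk_eq_mk_iff_isConj]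
      exact Quotient.out_eq _
    obtain ⟨t, ht⟩ := isConj_iff.mp h1
    have h2 := coeff_conj_of_mem_center x hx (Quotient.out (ConjClasses.mk g)) t
    rw [ht] at h2
    exact h2.symm

variable [Fintype (ConjClasses G)] [DecidableEq (ConjClasses G)]

omit [Fintype (ConjClasses G)] in
theorem redC_rowSum {a : G → ℂ} (ha : ∀ g, MemLocalRing M (a g)) (x : G) (K : ConjClasses G) :
    redC M (rowSum a x K) = rowSum (fun g => redC M (a g)) x K := by
  have hprime : M.IsPrime := hmax.isPrime
  unfold rowSum
  rw [redC_sum]
  · apply Finset.sum_congr rfl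
    intro h _
    split_ifs
    · rfl
    · exact redC_zero M
  · intro h _
    split_ifs
    · exact ha _
    · exact memLocalRing_zero

omit [Fintype (ConjClasses G)] in
theorem blockMatO_map_red {B : Set (IrrCharacter G)} (hB : IsPBlock M B) (x : G)
    (K : ConjClasses G) :
    ((blockMatO M B).map (red M)) (ConjClasses.mk x) K =
      rowSum (fun g => redC M (blockCoeff B g)) x K := by
  have hprime : M.IsPrime := hmax.isPrime
  have hloc : ∀ g, MemLocalRing M (blockCoeff B g) := by
    obtain ⟨χ₀, rfl⟩ := hB
    exact fun g => memLocalRing_blockCoeff_blockOf χ₀ g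
  rw [← redC_rowSum M hloc, ← classMat_mk (blockCoeff_isClassFunction B)]
  rw [Matrix.map_apply]
  unfold blockMatO
  rw [dif_pos hB]
  unfold classMatO
  have hmem : MemLocalRing M (classMat (blockCoeff B) (ConjClasses.mk x) K) :=
    rowSum_mem_localSubring M hloc (Quotient.out (ConjClasses.mk x)) K
  rw [redC_of_mem M hmem]

/-- multiplication by `ebar` on the centre is given by the reduced matrix -/
theorem mulLeft_ebar_zIncl {B : Set (IrrCharacter G)} (hB : IsPBlock M B)
    (c : ConjClasses G → ResField M) :
    LinearMap.mulLeft (ResField M) (ebar M B) (zIncl M c) =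
      zIncl M (((blockMatO M B).map (red M)).mulVec c) := by
  apply MonoidAlgebra.ext
  apply Finsupp.ext
  intro x
  rw [coeff_zIncl, LinearMap.mulLeft_apply, MonoidAlgebra.coeff_mul_apply_left,
    Finsupp.sum_fintype _ _ (fun i => zero_mul _)]
  unfold Matrix.mulVec dotProduct
  simp_rw [blockMatO_map_red M hB]
  rw [sum_rowSum_mul]
  apply Finset.sum_congr rfl
  intro g _
  unfold ebar
  rw [coeff_redFun, coeff_zIncl]

/-- LEAF B5b with `IsMaximal` and explicit instances on `ConjClasses G`. -/
theorem finrank_center_block_aux [Fintype (IrrCharacter G)]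
    {B : Set (IrrCharacter G)} (hB : IsPBlock M B) :
    Module.finrank (ResField M)
        ↥((Subalgebra.toSubmodule (Subalgebra.center (ResField M)
            (MonoidAlgebra (ResField M) G))).map (LinearMap.mulLeft (ResField M) (ebar M B))) =
      Nat.card B := by
  have hprime : M.IsPrime := hmax.isPrime
  rw [← range_zIncl, finrank_map_eq_rank (zIncl M) (zIncl_injective M)
    (LinearMap.mulLeft (ResField M) (ebar M B)) ((blockMatO M B).map (red M))
    (mulLeft_ebar_zIncl M hB)]
  have h := Cfsg.Agent.Lib.Helper14.BlkAlgB4c.rank_map_eq_of_complete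
    (localSubring M).subtype Subtype.val_injective (red M) (blocks M G) (blockMatO M (G := G))
    (fun B hB => blockMatO_idem M ((mem_blocks M B).mp hB))
    (fun B hB B' hB' hne => blockMatO_orth M ((mem_blocks M B).mp hB) ((mem_blocks M B').mp hB') hne)
    (sum_blockMatO M) B ((mem_blocks M B).mpr hB)
  rw [h, blockMatO_map_subtype M hB, rank_classMat_blockCoeff]


section final

variable (M : Ideal AlgInt) [M.IsMaximal] {G : Type u} [Group G] [Fintype G]
variable {p : ℕ} [Fact p.Prime]

/-- LEAF B5b of S4607: `dim ebar_B * Z(F[G]) = k(B)`. -/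
theorem finrank_center_block [Fintype (IrrCharacter G)] (hM : IsPModular p M)
    {B : Set (IrrCharacter G)} (hB : IsPBlock M B) :
    Module.finrank (ResField M)
        ↥((Subalgebra.toSubmodule (Subalgebra.center (ResField M)
            (MonoidAlgebra (ResField M) G))).map (LinearMap.mulLeft (ResField M) (ebar M B))) =
      Nat.card B := by
  classical
  have _hM := hM
  let _ : Fintype (ConjClasses G) := Fintype.ofFinite _
  exact finrank_center_block_aux M hB

end final

end Cfsg.Agent.Lib.Helper22.BlkAlgB5b
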