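import Cfsg.Agent.Lib.Helper27.SymAlgDefs
import Cfsg.Agent.Lib.Helper29.SymAlgA2

/-!
helper22: S4607 leaf A3 (planner helper27): a symmetric algebra with 2-dimensional centre and no
nontrivial central idempotent which maps onto a product of `l` matrix algebras with nil kernel has
`l = 1`, and the kernel is not zero.  (Local copies of the small leaves A0, A1 are included so that
this module depends only on the definitions and on helper29's A2.)
-/

set_option autoImplicit false

namespace Cfsg.Agent.Lib.Helper22.SymAlgA3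

open Cfsg.Agent.Lib.Helper27.SymAlg

variable {F : Type*} [Field F] {B : Type*} [Ring B] [Algebra F B]

/-- the bilinear form `(x, y) ↦ lam (x * y)` -/
noncomputable def mulForm (lam : B →ₗ[F] F) : LinearMap.BilinForm F B :=
  (LinearMap.mul F B).compr₂ lam

theorem mulForm_apply (lam : B →ₗ[F] F) (x y : B) : mulForm lam x y = lam (x * y) := rfl

/-- local copy of leaf A0 -/
theorem finrank_perp_aux [FiniteDimensional F B] {lam : B →ₗ[F] F} (hlam : IsSymForm lam)
    (W : Submodule F B) :
    Module.finrank F (perp lam W) + Module.finrank F W = Module.finrank F B := by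
  have hker : LinearMap.ker (mulForm lam) = ⊥ := by
    rw [eq_bot_iff]
    intro x hx
    rw [LinearMap.mem_ker] at hx
    rw [Submodule.mem_bot]
    by_contra hne
    obtain ⟨y, hy⟩ := hlam.nondeg x hne
    apply hy
    rw [← mulForm_apply, hx]
    rfl
  have hperp : perp lam W = (mulForm lam).orthogonal W := by
    ext z
    rw [mem_perp, LinearMap.BilinForm.mem_orthogonal_iff]
    constructor
    · intro h n hn
      rw [mulForm_apply, hlam.comm]
      exact h n hn
    · intro h c hc
      rw [hlam.comm]
      exact h c hc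
  have h := LinearMap.BilinForm.finrank_add_finrank_orthogonal' (B := mulForm lam) W
  rw [hker, inf_bot_eq, finrank_bot, add_zero] at h
  rw [hperp]
  omega

/-- local copy of leaf A1 -/
theorem perp_commSpan_aux {lam : B →ₗ[F] F} (hlam : IsSymForm lam) :
    perp lam (commSpan F B) = Subalgebra.toSubmodule (Subalgebra.center F B) := by
  ext z
  rw [mem_perp, Subalgebra.mem_toSubmodule, Subalgebra.mem_center_iff]
  constructor
  · intro h x
    -- `lam ((x z - z x) y) = lam (z (y x - x y)) = 0` for all `y`
    by_contra hne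
    have hne' : x * z - z * x ≠ 0 := sub_ne_zero.mpr hne
    obtain ⟨y, hy⟩ := hlam.nondeg _ hne'
    apply hy
    have h1 : lam (z * (y * x - x * y)) = 0 :=
      h _ (Submodule.subset_span ⟨y, x, rfl⟩)
    have h2 : (x * z - z * x) * y = x * (z * y) - z * (x * y) := by
      rw [sub_mul, mul_assoc, mul_assoc]
    rw [h2, map_sub, hlam.comm x (z * y), mul_assoc]
    rw [mul_sub, map_sub] at h1
    exact h1
  · intro h c hc
    induction hc using Submodule.span_induction with
    | mem c hc =>
      obtain ⟨x, y, rfl⟩ := hc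
      rw [mul_sub, map_sub, ← mul_assoc, ← mul_assoc, ← h x, mul_assoc, hlam.comm x (z * y),
        mul_assoc, sub_self]
    | zero => rw [mul_zero, map_zero]
    | add a b _ _ ha hb => rw [mul_add, map_add, ha, hb, add_zero]
    | smul r a _ ha => rw [mul_smul_comm, map_smul, ha, smul_zero]


/-- `perp` is antitone -/
theorem perp_anti (lam : B →ₗ[F] F) {W W' : Submodule F B} (h : W ≤ W') :
    perp lam W' ≤ perp lam W := fun _ hz c hc => hz c (h hc)

/-- an element of `perp (K ⊔ S)` kills the right ideal `K` -/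
theorem mul_eq_zero_of_mem_perp {lam : B →ₗ[F] F} (hlam : IsSymForm lam) {K W : Submodule F B}
    (hK : ∀ k ∈ K, ∀ y : B, k * y ∈ K) (hKW : K ≤ W) {z : B} (hz : z ∈ perp lam W)
    {k : B} (hk : k ∈ K) : z * k = 0 := by
  by_contra hne
  obtain ⟨y, hy⟩ := hlam.nondeg (z * k) hne
  apply hy
  rw [mul_assoc]
  exact hz _ (hKW (hK k hk y))

/-- LEAF A3 with the leaves A0, A1, A2 as hypotheses. -/
theorem one_factor_of [FiniteDimensional F B] {lam : B →ₗ[F] F} (hlam : IsSymForm lam)
    (hZ : Module.finrank F (Subalgebra.center F B) = 2)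
    (hprim : ∀ e : B, e ∈ Subalgebra.center F B → e * e = e → e = 0 ∨ e = 1)
    {l : ℕ} {d : Fin l → ℕ} (hd : ∀ i, d i ≠ 0)
    (π : B →ₐ[F] (Π i : Fin l, Matrix (Fin (d i)) (Fin (d i)) F)) (hπ : Function.Surjective π)
    (hnil : ∀ x : B, π x = 0 → IsNilpotent x)
    (hA0 : ∀ W : Submodule F B,
      Module.finrank F (perp lam W) + Module.finrank F W = Module.finrank F B)
    (hA1 : perp lam (commSpan F B) = Subalgebra.toSubmodule (Subalgebra.center F B))
    (hA2 : Module.finrank F ↥(LinearMap.ker π.toLinearMap ⊔ commSpan F B) + l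
      = Module.finrank F B) :
    l = 1 ∧ ∃ x : B, π x = 0 ∧ x ≠ 0 := by
  classical
  set K : Submodule F B := LinearMap.ker π.toLinearMap with hKdef
  set W : Submodule F B := K ⊔ commSpan F B with hWdef
  set R : Submodule F B := perp lam W with hRdef
  have hmemK : ∀ x : B, x ∈ K ↔ π x = 0 := fun x => by
    rw [hKdef, LinearMap.mem_ker]; rfl
  -- `B` is nontrivial
  have hBnt : Nontrivial B := by
    by_contra hnt
    rw [not_nontrivial_iff_subsingleton] at hnt
    have : Module.finrank F (Subalgebra.center F B) = 0 := by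
      apply Module.finrank_zero_of_subsingleton
    omega
  -- dimension of `R`
  have hRl : Module.finrank F R = l := by
    have h0 : Module.finrank F R + Module.finrank F W = Module.finrank F B := hA0 W
    have h2 : Module.finrank F W + l = Module.finrank F B := hA2
    omega
  -- `R` lies in the centre
  have hRZ : R ≤ Subalgebra.toSubmodule (Subalgebra.center F B) := by
    rw [← hA1]
    exact perp_anti lam le_sup_right
  have hl2 : l ≤ 2 := by
    rw [← hRl, ← hZ]
    exact Submodule.finrank_mono hRZ
  -- `R` kills `K`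
  have hKideal : ∀ k ∈ K, ∀ y : B, k * y ∈ K := by
    intro k hk y
    rw [hmemK] at hk ⊢
    rw [map_mul, hk, zero_mul]
  have hRK : ∀ z ∈ R, ∀ k ∈ K, z * k = 0 := fun z hz k hk =>
    mul_eq_zero_of_mem_perp hlam hKideal le_sup_left hz hk
  -- the kernel is not zero
  have hKne : ∃ x : B, π x = 0 ∧ x ≠ 0 := by
    by_contra hno
    push Not at hno
    have hinj : Function.Injective π := by
      rw [injective_iff_map_eq_zero]
      exact hno
    have hK0 : K = ⊥ := by
      rw [eq_bot_iff]
      intro x hx
      rw [hmemK] at hx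
      rw [Submodule.mem_bot]
      exact hno x hx
    have hWS : W = commSpan F B := by rw [hWdef, hK0, bot_sup_eq]
    have hl : l = 2 := by
      rw [← hRl, hRdef, hWS, hA1]
      exact hZ
    subst hl
    -- a nontrivial central idempotent
    obtain ⟨e, he⟩ := hπ (Pi.single (0 : Fin 2) 1)
    have hff : (Pi.single (0 : Fin 2) 1 : Π i : Fin 2, Matrix (Fin (d i)) (Fin (d i)) F) *
        Pi.single (0 : Fin 2) 1 = Pi.single (0 : Fin 2) 1 := by
      rw [← Pi.single_mul, one_mul]
    have hfc : ∀ y : Π i : Fin 2, Matrix (Fin (d i)) (Fin (d i)) F,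
        y * Pi.single (0 : Fin 2) 1 = Pi.single (0 : Fin 2) 1 * y := by
      intro y
      ext i : 1
      by_cases hi : i = 0
      · subst hi
        simp
      · simp [Pi.single_eq_of_ne hi]
    have hee : e * e = e := hinj (by rw [map_mul, he, hff])
    have hec : e ∈ Subalgebra.center F B := by
      rw [Subalgebra.mem_center_iff]
      intro x
      apply hinj
      rw [map_mul, map_mul, he]
      exact hfc (π x)
    have : Nonempty (Fin (d 0)) := ⟨⟨0, Nat.pos_of_ne_zero (hd 0)⟩⟩
    have : Nonempty (Fin (d 1)) := ⟨⟨0, Nat.pos_of_ne_zero (hd 1)⟩⟩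
    rcases hprim e hec hee with h0 | h1
    · have h := congrFun (he.symm.trans (by rw [h0, map_zero])) 0
      rw [Pi.single_eq_same, Pi.zero_apply] at h
      exact one_ne_zero h
    · have h := congrFun (he.symm.trans (by rw [h1, map_one])) 1
      rw [Pi.single_eq_of_ne (by decide), Pi.one_apply] at h
      exact zero_ne_one h
  refine ⟨?_, hKne⟩
  obtain ⟨k, hk0, hkne⟩ := hKne
  have hkK : k ∈ K := (hmemK k).mpr hk0
  -- `1 ∉ R`
  have h1R : (1 : B) ∉ R := fun h1 => hkne (by simpa using hRK 1 h1 k hkK)
  -- hence `l ≤ 1`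
  have hl1 : l ≤ 1 := by
    by_contra hgt
    have hl : l = 2 := by omega
    have hReq : R = Subalgebra.toSubmodule (Subalgebra.center F B) := by
      apply Submodule.eq_of_le_of_finrank_eq hRZ
      rw [hRl, hl]
      exact hZ.symm
    apply h1R
    rw [hReq]
    exact (Subalgebra.center F B).one_mem
  -- `l ≠ 0`
  have hl0 : l ≠ 0 := by
    intro hl
    subst hl
    have h1 : π 1 = 0 := Subsingleton.elim _ _
    obtain ⟨m, hm⟩ := hnil 1 h1
    rw [one_pow] at hm
    exact one_ne_zero hm
  omega

/-- LEAF A3 of S4607. -/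
theorem one_factor [FiniteDimensional F B] {lam : B →ₗ[F] F} (hlam : IsSymForm lam)
    (hZ : Module.finrank F (Subalgebra.center F B) = 2)
    (hprim : ∀ e : B, e ∈ Subalgebra.center F B → e * e = e → e = 0 ∨ e = 1)
    {l : ℕ} {d : Fin l → ℕ} (hd : ∀ i, d i ≠ 0)
    (π : B →ₐ[F] (Π i : Fin l, Matrix (Fin (d i)) (Fin (d i)) F)) (hπ : Function.Surjective π)
    (hnil : ∀ x : B, π x = 0 → IsNilpotent x) :
    l = 1 ∧ ∃ x : B, π x = 0 ∧ x ≠ 0 :=
  one_factor_of hlam hZ hprim hd π hπ hnil (finrank_perp_aux hlam) (perp_commSpan_aux hlam)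
    (Cfsg.Agent.Lib.Helper29.SymAlgA2.finrank_ker_sup_commSpan hd π hπ)

end Cfsg.Agent.Lib.Helper22.SymAlgA3
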