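import Mathlib
import Cfsg.Prelude.Def_BlockRank
import Cfsg.Agent.Lib.Helper8.DOMDefs
import Cfsg.Agent.Lib.Helper27.BlkAlgDefs2
import Cfsg.Agent.Lib.Helper27.BlkAlgL3
import Cfsg.Agent.Lib.Helper19.BlkAlgB1
import Cfsg.Agent.Lib.Helper18.BlkAlgB3

set_option autoImplicit false

namespace Cfsg.Agent.Lib.Helper22.DOMBLK

open Cfsg Cfsg.Agent.Lib.Helper8.DOM Cfsg.Agent.Lib.Helper27.BlkAlg

universe u v w

section general

variable {F : Type*} [Field F]

/-- a central idempotent matrix over a field is `0` or `1` -/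
theorem matrix_eq_zero_or_one {n : ℕ} [NeZero n] (E : Matrix (Fin n) (Fin n) F)
    (hE : E * E = E) (hcomm : ∀ m : Matrix (Fin n) (Fin n) F, E * m = m * E) : E = 0 ∨ E = 1 := by
  obtain ⟨c, hc⟩ := Matrix.mem_range_scalar_iff_commute_single'.mpr
    (fun i j => ((hcomm (Matrix.single i j 1)).symm : Commute _ _))
  have h0 : c * c = c := by
    have := congrFun (congrFun hE (0 : Fin n)) (0 : Fin n)
    rw [← hc] at this
    simpa [Matrix.mul_apply, Matrix.diagonal_apply] using this
  have : c = 0 ∨ c = 1 := by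
    have h1 : c * (c - 1) = 0 := by rw [mul_sub, h0, mul_one, sub_self]
    rcases mul_eq_zero.mp h1 with h | h
    · exact Or.inl h
    · exact Or.inr (sub_eq_zero.mp h)
  rcases this with rfl | rfl
  · left; rw [← hc]; simp
  · right; rw [← hc]; simp

variable {L : Type*} [Ring L] [Algebra F L] {e : L} (he : IsIdempotentElem e)

/-- restriction of a surjection onto a product of matrix algebras to the corner of a central
idempotent: the factors on which the idempotent does not vanish -/
theorem exists_corner_surjection (hc : ∀ x, e * x = x * e) {l : ℕ} (d : Fin l → ℕ)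
    [∀ i, NeZero (d i)]
    (π : L →ₐ[F] (Π i : Fin l, Matrix (Fin (d i)) (Fin (d i)) F)) (hπ : Function.Surjective π) :
    ∃ ι : Fin (Nat.card {i : Fin l // π e i ≠ 0}) → Fin l,
      ∃ π' : he.Corner →ₐ[F] (Π j : Fin (Nat.card {i : Fin l // π e i ≠ 0}),
        Matrix (Fin (d (ι j))) (Fin (d (ι j))) F), Function.Surjective π' := by
  classical
  -- components of `π e` are `0` or `1`
  have h01 : ∀ i, π e i = 0 ∨ π e i = 1 := by
    intro i
    apply matrix_eq_zero_or_one
    · have : π e * π e = π e := by rw [← map_mul, he.eq]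
      exact congrFun this i
    · intro m
      obtain ⟨a, ha⟩ := hπ (Pi.single i m)
      have h1 : π e * π a = π a * π e := by rw [← map_mul, ← map_mul, hc a]
      have h2 := congrFun h1 i
      rw [ha] at h2
      simpa using h2
  let eqv := Finite.equivFin {i : Fin l // π e i ≠ 0}
  let ι : Fin (Nat.card {i : Fin l // π e i ≠ 0}) → Fin l := fun j => (eqv.symm j).1
  have hι : Function.Injective ι := fun a b hab => eqv.symm.injective (Subtype.ext hab)
  have hι1 : ∀ j, π e (ι j) = 1 := fun j => (h01 (ι j)).resolve_left (eqv.symm j).2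
  refine ⟨ι, ?_⟩
  let π' : he.Corner →ₐ[F] (Π j : Fin (Nat.card {i : Fin l // π e i ≠ 0}),
      Matrix (Fin (d (ι j))) (Fin (d (ι j))) F) :=
    { toFun := fun c j => π c.1 (ι j)
      map_one' := by
        funext j
        exact hι1 j
      map_mul' := fun a b => by
        funext j
        change π (a.1 * b.1) (ι j) = π a.1 (ι j) * π b.1 (ι j)
        rw [map_mul]; rfl
      map_zero' := by
        funext j
        change π (0 : L) (ι j) = 0
        rw [map_zero]; rfl
      map_add' := fun a b => by
        funext j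
        change π (a.1 + b.1) (ι j) = π a.1 (ι j) + π b.1 (ι j)
        rw [map_add]; rfl
      commutes' := fun r => by
        funext j
        change π (r • e) (ι j) = _
        rw [map_smul, Pi.smul_apply, hι1 j, Algebra.algebraMap_eq_smul_one]
        rfl }
  refine ⟨π', ?_⟩
  intro y
  obtain ⟨a, ha⟩ := hπ (∑ j, Pi.single (ι j) (y j))
  refine ⟨Cfsg.Agent.Lib.Helper27.BlkAlgL.cornerHom F he hc a, ?_⟩
  funext j₀
  change π (e * a * e) (ι j₀) = y j₀
  rw [map_mul, map_mul, Pi.mul_apply, Pi.mul_apply, hι1 j₀, one_mul, mul_one, ha,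
    Finset.sum_apply, Finset.sum_eq_single j₀]
  · exact Pi.single_eq_same _ _
  · intro j _ hj
    exact Pi.single_eq_of_ne (fun h => hj (hι h).symm) _
  · intro h
    exact absurd (Finset.mem_univ _) h

end general

section blocks

variable (M : Ideal AlgInt) [M.IsMaximal] {G : Type v} [Group G] [Fintype G]
variable [Fintype (IrrCharacter G)] {p : ℕ} [Fact p.Prime]

/-- BLK -/
theorem card_factors_le_blockRank (hM : IsPModular p M) {B : Set (IrrCharacter G)}
    (hB : IsPBlock M B) (l : ℕ) (d : Fin l → ℕ) [∀ i, NeZero (d i)]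
    (π : MonoidAlgebra (ResField M) G →ₐ[ResField M]
      (Π i : Fin l, Matrix (Fin (d i)) (Fin (d i)) (ResField M)))
    (hπ : Function.Surjective π) :
    Nat.card {i : Fin l // π (ebar M B) i ≠ 0} ≤ blockRank p B := by
  obtain ⟨ι, π', hπ'⟩ := exists_corner_surjection
    (Cfsg.Agent.Lib.Helper27.BlkAlgMainK.ebar_isIdempotentElem M hM hB)
    (fun x => Cfsg.Agent.Lib.Helper18.BlkAlgB3.ebar_comm M B x) d π hπ
  have : ∀ j, NeZero (d (ι j)) := fun j => inferInstance
  exact Cfsg.Agent.Lib.Helper27.BlkAlgL.matrixFactors_le_blockRank M hM hB _ (fun j => d (ι j)) π' hπ'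

end blocks

end Cfsg.Agent.Lib.Helper22.DOMBLK
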