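import Mathlib
import Cfsg.Prelude.Def_BlockRank
import Cfsg.Agent.Lib.Helper8.DOMDefs
import Cfsg.Agent.Lib.Helper27.BlkAlgDefs2
import Cfsg.Agent.Lib.Helper27.BlkAlgL3
import Cfsg.Agent.Lib.Helper19.BlkAlgB1
import Cfsg.Agent.Lib.Helper18.BlkAlgB3
import Cfsg.Agent.Lib.Lead.CharCenter

set_option autoImplicit false
set_option linter.unusedVariables false
set_option linter.unusedSectionVars false

namespace Cfsg.Agent.Lib.Helper22.DOMDEFZERO

open Cfsg Cfsg.Agent.Lib.Helper8.DOM Cfsg.Agent.Lib.Helper27.BlkAlg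

universe u v w

section partA

variable {F : Type u} [Field F] {G : Type v} [Group G] [Fintype G]
variable {V : Type w} [AddCommGroup V] [Module F V]

/-- if `1 = ρ (Tr_1^G a)` then every `P`-fixed vector is a `P`-norm -/
theorem fixed_le_range_nrm_of_trace (ρ : Representation F G V) (a : MonoidAlgebra F G)
    (h1 : ρ.asAlgebraHom (∑ y : G, MonoidAlgebra.of F G y * a * MonoidAlgebra.of F G y⁻¹) = 1)
    (P : Subgroup G) : fixed ρ P ≤ LinearMap.range (nrm ρ P) := by
  classical
  intro v hv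
  have : Fintype P := Fintype.ofFinite _
  have : Fintype (G ⧸ P) := Fintype.ofFinite _
  set A : V →ₗ[F] V := ρ.asAlgebraHom a with hA
  have hsum : ∑ y : G, ρ y (A (ρ y⁻¹ v)) = v := by
    have := congrArg (fun f : Module.End F V => f v) h1
    simp only [map_sum, map_mul, Representation.asAlgebraHom_of, Module.End.one_apply,
      LinearMap.sum_apply, Module.End.mul_apply] at this
    exact this
  -- reindex by inverse and split into cosets
  have h2 : ∑ y : G, ρ y (A (ρ y⁻¹ v)) = ∑ y : G, ρ y⁻¹ (A (ρ y v)) := by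
    refine Fintype.sum_equiv (Equiv.inv G) _ _ (fun y => ?_)
    simp
  rw [h2, Cfsg.Agent.CharLib.sum_eq_sum_quotient_mul P] at hsum
  let T : G ⧸ P → V := fun q => ρ (q.out)⁻¹ (A (ρ q.out v))
  have hterm : ∀ (q : G ⧸ P) (z : P),
      ρ (q.out * (z : G))⁻¹ (A (ρ (q.out * (z : G)) v)) = ρ ((z⁻¹ : P) : G) (T q) := by
    intro q z
    have hz : ρ (z : G) v = v := hv z z.2
    simp only [T, mul_inv_rev, map_mul, Module.End.mul_apply, hz, Subgroup.coe_inv]
  refine ⟨∑ q : G ⧸ P, T q, ?_⟩
  calc nrm ρ P (∑ q : G ⧸ P, T q) = ∑ z : P, ∑ q : G ⧸ P, ρ (z : G) (T q) := by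
        rw [nrm_eq_sum, LinearMap.sum_apply]
        simp only [map_sum]
    _ = ∑ z : P, ∑ q : G ⧸ P, ρ ((z⁻¹ : P) : G) (T q) :=
        (Fintype.sum_equiv (Equiv.inv P) _ _ (fun z => rfl)).symm
    _ = ∑ q : G ⧸ P, ∑ z : P, ρ ((z⁻¹ : P) : G) (T q) := Finset.sum_comm
    _ = ∑ q : G ⧸ P, ∑ z : P, ρ (q.out * (z : G))⁻¹ (A (ρ (q.out * (z : G)) v)) := by
        refine Finset.sum_congr rfl (fun q _ => Finset.sum_congr rfl (fun z _ => ?_))
        exact (hterm q z).symm
    _ = v := hsum

end partA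

section partB

open Cfsg.Agent.Lib.Helper6 Cfsg.Agent.Lib.Helper24 Cfsg.Agent.Lib.Helper18.BlkAlgB2
open scoped ComplexConjugate

variable (M : Ideal AlgInt) [M.IsMaximal] {G : Type v} [Group G] [Fintype G]

/-- conjugation of a reduced function in the group algebra -/
theorem of_mul_redFun_mul_of (a : G → ℂ) (y : G) :
    MonoidAlgebra.of (ResField M) G y * redFun M a * MonoidAlgebra.of (ResField M) G y⁻¹ =
      redFun M (fun g => a (y⁻¹ * g * y)) := by
  apply MonoidAlgebra.ext
  apply Finsupp.ext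
  intro h
  rw [MonoidAlgebra.of_apply, MonoidAlgebra.of_apply, MonoidAlgebra.coeff_mul_single_apply,
    MonoidAlgebra.coeff_single_mul_apply, coeff_redFun, coeff_redFun, inv_inv, one_mul, mul_one,
    mul_assoc]

/-- the trace of a reduced function -/
theorem sum_of_mul_redFun_mul_of (a : G → ℂ) (ha : ∀ g, MemLocalRing M (a g)) :
    ∑ y : G, MonoidAlgebra.of (ResField M) G y * redFun M a * MonoidAlgebra.of (ResField M) G y⁻¹ =
      redFun M (fun g => ∑ y : G, a (y⁻¹ * g * y)) := by
  simp only [of_mul_redFun_mul_of]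
  have := Cfsg.Agent.Lib.Helper18.BlkAlgB3.redFun_finset_sum M (Finset.univ : Finset G) (fun y g => a (y⁻¹ * g * y))
    (fun y _ g => ha _)
  rw [← this]
  congr 1
  funext g
  rw [Finset.sum_apply]

end partB

section partC

open Cfsg.Agent.Lib.Helper6 Cfsg.Agent.Lib.Helper24 Cfsg.Agent.Lib.Helper18.BlkAlgB2
open scoped ComplexConjugate

variable {G : Type v} [Group G] [Fintype G]

open Classical in
/-- `c g / |C_G(g)|` on the chosen class representatives, `0` elsewhere -/
noncomputable def repFun (c : G → ℂ) (g : G) : ℂ :=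
  if g = Quotient.out (ConjClasses.mk g) then
    c g / (Nat.card (Subgroup.centralizer ({g} : Set G)) : ℂ) else 0

/-- the number of `y` conjugating `h` to `r` is `|C_G(r)|` -/
theorem card_filter_conj_eq [DecidableEq G] {h r y₀ : G} (hy₀ : y₀⁻¹ * h * y₀ = r) :
    (Finset.univ.filter (fun y : G => y⁻¹ * h * y = r)).card =
      Nat.card (Subgroup.centralizer ({r} : Set G)) := by
  classical
  rw [← Fintype.card_subtype, Nat.card_eq_fintype_card]
  symm
  refine Fintype.card_congr
    { toFun := fun c => ⟨y₀ * c.1, ?_⟩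
      invFun := fun y => ⟨y₀⁻¹ * y.1, ?_⟩
      left_inv := fun c => Subtype.ext (by simp)
      right_inv := fun y => Subtype.ext (by simp) }
  · have hc : r * c.1 = c.1 * r := Subgroup.mem_centralizer_iff.mp c.2 r rfl
    calc (y₀ * c.1)⁻¹ * h * (y₀ * c.1) = c.1⁻¹ * (y₀⁻¹ * h * y₀) * c.1 := by group
      _ = c.1⁻¹ * (r * c.1) := by rw [hy₀, mul_assoc]
      _ = r := by rw [hc, inv_mul_cancel_left]
  · rw [Subgroup.mem_centralizer_iff]
    intro k hk
    rw [Set.mem_singleton_iff.mp hk]
    have hy : y.1⁻¹ * h * y.1 = r := y.2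
    calc r * (y₀⁻¹ * y.1) = (y₀⁻¹ * h * y₀) * (y₀⁻¹ * y.1) := by rw [hy₀]
      _ = y₀⁻¹ * y.1 * (y.1⁻¹ * h * y.1) := by group
      _ = y₀⁻¹ * y.1 * r := by rw [hy]

/-- the trace of `repFun c` is `c` for a class function `c` -/
theorem sum_repFun (c : G → ℂ) (hc : IsClassFunction G c) (h : G) :
    ∑ y : G, repFun c (y⁻¹ * h * y) = c h := by
  classical
  set r := Quotient.out (ConjClasses.mk h) with hr
  have hmk : ConjClasses.mk r = ConjClasses.mk h := Quotient.out_eq _
  obtain ⟨u, hu⟩ := ConjClasses.mk_eq_mk_iff_isConj.mp hmk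
  -- `hu : SemiconjBy u r h`, i.e. `u * r = h * u`
  have hy₀ : (u : G)⁻¹ * h * (u : G) = r := by
    have : (u : G) * r = h * (u : G) := hu
    calc (u : G)⁻¹ * h * (u : G) = (u : G)⁻¹ * (h * (u : G)) := by rw [mul_assoc]
      _ = (u : G)⁻¹ * ((u : G) * r) := by rw [this]
      _ = r := by rw [inv_mul_cancel_left]
  have hcr : c r = c h := by
    rw [← hy₀]
    have := hc h (u : G)⁻¹
    rwa [inv_inv] at this
  have hterm : ∀ y : G, repFun c (y⁻¹ * h * y) =
      (if y⁻¹ * h * y = r then 1 else 0) *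
        (c r / (Nat.card (Subgroup.centralizer ({r} : Set G)) : ℂ)) := by
    intro y
    have hmk' : ConjClasses.mk (y⁻¹ * h * y) = ConjClasses.mk h := by
      apply ConjClasses.mk_eq_mk_iff_isConj.mpr
      exact (isConj_iff.mpr ⟨y⁻¹, by simp⟩).symm
    unfold repFun
    rw [hmk', ← hr]
    by_cases hyr : y⁻¹ * h * y = r
    · rw [if_pos hyr, if_pos hyr, one_mul, hyr]
    · rw [if_neg hyr, if_neg hyr, zero_mul]
  simp only [hterm]
  rw [← Finset.sum_mul, Finset.sum_boole, card_filter_conj_eq hy₀, hcr]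
  have hne : (Nat.card (Subgroup.centralizer ({r} : Set G)) : ℂ) ≠ 0 :=
    Nat.cast_ne_zero.mpr Nat.card_pos.ne'
  field_simp

end partC

section partD

open Cfsg.Agent.Lib.Helper6 Cfsg.Agent.Lib.Helper24 Cfsg.Agent.Lib.Helper18.BlkAlgB2
open Cfsg.Agent.CharLib
open scoped ComplexConjugate

variable (M : Ideal AlgInt) [M.IsMaximal] {G : Type v} [Group G] [Fintype G]
variable [Fintype (IrrCharacter G)] {p : ℕ} [Fact p.Prime]

/-- for `χ` of `p`-defect zero, `χ(1) conj χ(g) / (|G| |C_G(g)|)` is a local integer -/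
theorem memLocalRing_term (hM : IsPModular p M) (χ : IrrCharacter G)
    (hχ : (Nat.card G).factorization p ≤ (charDegree (χ : G → ℂ)).factorization p) (g : G) :
    MemLocalRing M ((Nat.card G : ℂ)⁻¹ * ((χ : G → ℂ) 1 * conj ((χ : G → ℂ) g)) /
      (Nat.card (Subgroup.centralizer ({g} : Set G)) : ℂ)) := by
  have hprime : M.IsPrime := isPrime_of_isPModular hM
  have hp : p.Prime := Fact.out
  set d := charDegree (χ : G → ℂ) with hd
  have hdpos : 0 < d := irr_charDegree_pos χ
  obtain ⟨m, hm⟩ := irr_charDegree_dvd_card χ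
  have hm0 : m ≠ 0 := by
    intro h0
    rw [h0, mul_zero] at hm
    exact Nat.card_pos.ne' hm
  have hpm : ¬ p ∣ m := by
    have h1 : (Nat.card G).factorization p = d.factorization p + m.factorization p := by
      rw [hm, Nat.factorization_mul hdpos.ne' hm0, Finsupp.add_apply]
    have h2 : m.factorization p = 0 := by omega
    rcases (Nat.factorization_eq_zero_iff m p).mp h2 with h | h | h
    · exact absurd hp h
    · exact h
    · exact absurd h hm0
  have hinv : MemLocalRing M ((m : ℂ)⁻¹) := memLocalRing_inv_natCast_of_not_dvd hM hpm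
  have hcc : MemLocalRing M (centralChar (χ : G → ℂ) g⁻¹) := memLocalRing_centralChar χ g⁻¹
  have hcent : Subgroup.centralizer ({g⁻¹} : Set G) = Subgroup.centralizer {g} := by
    ext c
    simp only [Subgroup.mem_centralizer_iff, Set.mem_singleton_iff, forall_eq]
    exact (Commute.inv_left_iff (a := g) (b := c))
  have key : (Nat.card G : ℂ)⁻¹ * ((χ : G → ℂ) 1 * conj ((χ : G → ℂ) g)) /
      (Nat.card (Subgroup.centralizer ({g} : Set G)) : ℂ) =
      (m : ℂ)⁻¹ * (m : ℂ)⁻¹ * centralChar (χ : G → ℂ) g⁻¹ := by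
    unfold centralChar
    rw [hcent, irr_apply_inv, irr_apply_one, ← hd]
    have hC0 : (Nat.card (Subgroup.centralizer ({g} : Set G)) : ℂ) ≠ 0 :=
      Nat.cast_ne_zero.mpr Nat.card_pos.ne'
    have hd0 : (d : ℂ) ≠ 0 := Nat.cast_ne_zero.mpr hdpos.ne'
    have hm0' : (m : ℂ) ≠ 0 := Nat.cast_ne_zero.mpr hm0
    have hN : (Nat.card G : ℂ) = (d : ℂ) * (m : ℂ) := by rw [hm]; push_cast; ring
    have hidx : ((Subgroup.centralizer ({g} : Set G)).index : ℂ) =
        (d : ℂ) * (m : ℂ) / (Nat.card (Subgroup.centralizer ({g} : Set G)) : ℂ) := by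
      rw [eq_div_iff hC0, ← hN, ← Nat.cast_mul, mul_comm, Subgroup.card_mul_index]
    rw [hN, hidx]
    field_simp
  rw [key]
  exact memLocalRing_mul (memLocalRing_mul hinv hinv) hcc

/-- local integrality of the representative function of a block of defect zero -/
theorem memLocalRing_repFun (hM : IsPModular p M) {B : Set (IrrCharacter G)}
    (hd : blockDefect p B = 0) (g : G) : MemLocalRing M (repFun (blockCoeff B) g) := by
  classical
  have hprime : M.IsPrime := isPrime_of_isPModular hM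
  unfold repFun
  split_ifs with hg
  · rw [blockCoeff_eq_sum, Finset.mul_sum, Finset.sum_div]
    apply sum_memLocalRing
    intro χ _
    by_cases hχ : χ ∈ B
    · rw [if_pos hχ]
      apply memLocalRing_term M hM χ _ g
      unfold blockDefect at hd
      rw [Nat.sub_eq_zero_iff_le] at hd
      exact hd.trans (Nat.sInf_le ⟨χ, hχ, rfl⟩)
    · rw [if_neg hχ, mul_zero, zero_div]
      exact memLocalRing_zero
  · exact memLocalRing_zero

/-- DEFZERO -/
theorem fixed_le_range_nrm_of_defect_zero (hM : IsPModular p M) {B : Set (IrrCharacter G)}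
    (hB : IsPBlock M B) (hd : blockDefect p B = 0)
    {V : Type w} [AddCommGroup V] [Module (ResField M) V] (ρ : Representation (ResField M) G V)
    (hρ : ρ.asAlgebraHom (ebar M B) = 1) (P : Subgroup G) :
    fixed ρ P ≤ LinearMap.range (nrm ρ P) := by
  have hloc : ∀ g, MemLocalRing M (repFun (blockCoeff B) g) := memLocalRing_repFun M hM hd
  have htr := sum_of_mul_redFun_mul_of M (repFun (blockCoeff B)) hloc
  have hsum : (fun g => ∑ y : G, repFun (blockCoeff B) (y⁻¹ * g * y)) = blockCoeff B :=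
    funext (sum_repFun _ (blockCoeff_isClassFunction B))
  rw [hsum] at htr
  apply fixed_le_range_nrm_of_trace ρ (redFun M (repFun (blockCoeff B)))
  rw [htr]
  exact hρ

end partD

end Cfsg.Agent.Lib.Helper22.DOMDEFZERO
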