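import Mathlib
import Cfsg.Prelude.Def_ClassicalGeometry
import Cfsg.Prelude.Def_GeometricClasses
import Cfsg.Agent.Lib.Helper5.SpMax

/-!
Shared definitions for S5665 (`GU_m(q).2 < Sp_2m(q)`, `q` odd): a skew-adjoint matrix `J` with
`J * J = δ • 1`, `δ` a non-square, the quadratic form `N v = f(v, J v)`, and three kinds of explicit
symplectic matrices commuting with `J`: the involutions `zK` (`-1` on the `K`-line of a non-singular
vector), the unitary transvections `Ua`, and the norm-one scalars `sc`.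
-/

set_option autoImplicit false
set_option linter.unusedSectionVars false
set_option linter.unusedVariables false
set_option linter.unusedSimpArgs false

namespace Cfsg.Agent.Lib.Helper22.C3
open Cfsg Matrix Cfsg.Agent.Lib.Helper5 Cfsg.Agent.Lib.Helper5.SpMax

variable {F : Type*} [Field F] {m : ℕ}

/-- the matrix of `x ↦ f(x, b) • a` -/
def rk (a b : Fin m ⊕ Fin m → F) : Matrix (Fin m ⊕ Fin m) (Fin m ⊕ Fin m) F :=
  Matrix.vecMulVec a (Matrix.J (Fin m) F *ᵥ b)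

lemma rk_mulVec (a b x : Fin m ⊕ Fin m → F) : rk a b *ᵥ x = sympForm m F x b • a := by
  unfold rk sympForm
  rw [Matrix.vecMulVec_mulVec, dotProduct_comm]
  ext i
  simp only [Pi.smul_apply, smul_eq_mul, MulOpposite.smul_eq_mul_unop, MulOpposite.unop_op]
  ring

/-- a skew-adjoint "complex structure": `J * J = δ • 1` with `δ` a non-square -/
structure CS (m : ℕ) (F : Type*) [Field F] where
  J : Matrix (Fin m ⊕ Fin m) (Fin m ⊕ Fin m) F
  δ : F
  sq : J * J = δ • (1 : Matrix (Fin m ⊕ Fin m) (Fin m ⊕ Fin m) F)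
  nsq : ∀ c : F, c * c ≠ δ
  skew : ∀ u v : Fin m ⊕ Fin m → F, sympForm m F (J *ᵥ u) v = - sympForm m F u (J *ᵥ v)

namespace CS
variable (S : CS m F)

/-- the quadratic form `N v = f(v, J v)` (the hermitian norm) -/
def N (v : Fin m ⊕ Fin m → F) : F := sympForm m F v (S.J *ᵥ v)

/-- the action of `s + t J` on vectors -/
def act (s t : F) (v : Fin m ⊕ Fin m → F) : Fin m ⊕ Fin m → F := s • v + t • (S.J *ᵥ v)

lemma δ_ne_zero : S.δ ≠ 0 := fun h => S.nsq 0 (by rw [h, mul_zero])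

lemma JJ (v : Fin m ⊕ Fin m → F) : S.J *ᵥ (S.J *ᵥ v) = S.δ • v := by
  rw [Matrix.mulVec_mulVec, S.sq, Matrix.smul_mulVec, Matrix.one_mulVec]

lemma form_JJ (u v : Fin m ⊕ Fin m → F) :
    sympForm m F (S.J *ᵥ u) (S.J *ᵥ v) = - S.δ * sympForm m F u v := by
  rw [S.skew, S.JJ, sympForm_smul_right]; ring

lemma form_J_self (v : Fin m ⊕ Fin m → F) : sympForm m F (S.J *ᵥ v) v = - S.N v := by
  rw [S.skew]; rfl

lemma N_J (v : Fin m ⊕ Fin m → F) : S.N (S.J *ᵥ v) = - S.δ * S.N v := by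
  unfold N; rw [S.form_JJ]

end CS

/-- the matrix of `u ↦ u - 2 (f(u, y) x - f(u, x) y)`: for `f(x, y) = 1` this is `-1` on the
hyperbolic plane `⟨x, y⟩` and `1` on its orthogonal complement -/
def zplMat (x y : Fin m ⊕ Fin m → F) : Matrix (Fin m ⊕ Fin m) (Fin m ⊕ Fin m) F :=
  1 - (2 : F) • (rk x y - rk y x)

lemma zplMat_mulVec (x y u : Fin m ⊕ Fin m → F) :
    zplMat x y *ᵥ u = u - (2 : F) • (sympForm m F u y • x - sympForm m F u x • y) := by
  unfold zplMat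
  rw [Matrix.sub_mulVec, Matrix.one_mulVec, Matrix.smul_mulVec, Matrix.sub_mulVec, rk_mulVec,
    rk_mulVec]

lemma zplMat_mul_self {x y : Fin m ⊕ Fin m → F} (h : sympForm m F x y = 1) :
    zplMat x y * zplMat x y = 1 := by
  apply mat_eq_of_mulVec
  intro u
  have hyx : sympForm m F y x = -1 := by rw [sympForm_swap, h]
  rw [← Matrix.mulVec_mulVec, zplMat_mulVec, zplMat_mulVec, Matrix.one_mulVec]
  simp only [sympForm_sub_left, sympForm_smul_left, sympForm_self, h, hyx]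
  ext i
  simp only [Pi.sub_apply, Pi.smul_apply, smul_eq_mul]
  ring

/-- the involution `-1` on the hyperbolic plane `⟨x, y⟩`, as an element of GL -/
def zpl (x y : Fin m ⊕ Fin m → F) (h : sympForm m F x y = 1) : GL (Fin m ⊕ Fin m) F :=
  ⟨zplMat x y, zplMat x y, zplMat_mul_self h, zplMat_mul_self h⟩

lemma zpl_mulVec (x y u : Fin m ⊕ Fin m → F) (h : sympForm m F x y = 1) :
    ((zpl x y h : GL (Fin m ⊕ Fin m) F) : Matrix (Fin m ⊕ Fin m) (Fin m ⊕ Fin m) F) *ᵥ u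
      = u - (2 : F) • (sympForm m F u y • x - sympForm m F u x • y) :=
  zplMat_mulVec x y u

lemma zpl_inv (x y : Fin m ⊕ Fin m → F) (h : sympForm m F x y = 1) : (zpl x y h)⁻¹ = zpl x y h :=
  Units.ext rfl

lemma zpl_mem (x y : Fin m ⊕ Fin m → F) (h : sympForm m F x y = 1) : zpl x y h ∈ spGL m F := by
  rw [mem_spGL]
  intro u v
  have hyx : sympForm m F y x = -1 := by rw [sympForm_swap, h]
  rw [zpl_mulVec, zpl_mulVec]
  simp only [sympForm_sub_left, sympForm_sub_right, sympForm_smul_left, sympForm_smul_right,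
    sympForm_self, h, hyx]
  rw [sympForm_swap m x v, sympForm_swap m y v]
  ring

namespace CS
variable (S : CS m F)

lemma form_self_scaled {v : Fin m ⊕ Fin m → F} (hv : S.N v ≠ 0) :
    sympForm m F v ((S.N v)⁻¹ • (S.J *ᵥ v)) = 1 := by
  rw [sympForm_smul_right]
  exact inv_mul_cancel₀ hv

/-- the involution `-1` on the `K`-line `⟨v, J v⟩` of a non-singular vector `v` -/
def zK (v : Fin m ⊕ Fin m → F) (hv : S.N v ≠ 0) : GL (Fin m ⊕ Fin m) F :=
  zpl v ((S.N v)⁻¹ • (S.J *ᵥ v)) (S.form_self_scaled hv)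

lemma zK_mem (v : Fin m ⊕ Fin m → F) (hv : S.N v ≠ 0) : S.zK v hv ∈ spGL m F := zpl_mem _ _ _

lemma zK_inv (v : Fin m ⊕ Fin m → F) (hv : S.N v ≠ 0) : (S.zK v hv)⁻¹ = S.zK v hv := zpl_inv _ _ _

lemma zK_mulVec (v u : Fin m ⊕ Fin m → F) (hv : S.N v ≠ 0) :
    ((S.zK v hv : GL (Fin m ⊕ Fin m) F) : Matrix (Fin m ⊕ Fin m) (Fin m ⊕ Fin m) F) *ᵥ u
      = u - (2 * (S.N v)⁻¹) • (sympForm m F u (S.J *ᵥ v) • v - sympForm m F u v • (S.J *ᵥ v)) := by
  unfold zK
  rw [zpl_mulVec, sympForm_smul_right]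
  ext i
  simp only [Pi.sub_apply, Pi.smul_apply, smul_eq_mul]
  ring

/-- the unitary transvection `u ↦ u + μ (f(u,a) a - δ⁻¹ f(u, J a) J a)` (for `N a = 0`) -/
noncomputable def Ua (a : Fin m ⊕ Fin m → F) (μ : F) : GL (Fin m ⊕ Fin m) F :=
  tvc a μ * tvc (S.J *ᵥ a) (-μ / S.δ)

lemma Ua_mem (a : Fin m ⊕ Fin m → F) (μ : F) : S.Ua a μ ∈ spGL m F :=
  (spGL m F).mul_mem (tvc_mem _ _) (tvc_mem _ _)

/-- norm-one scalars `c + d J`, `c² - δ d² = 1` -/
lemma sc_aux (c d c' d' : F) (h : c * c' + S.δ * (d * d') = 1) (h2 : c * d' + d * c' = 0) :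
    (c • (1 : Matrix (Fin m ⊕ Fin m) (Fin m ⊕ Fin m) F) + d • S.J) *
      (c' • (1 : Matrix (Fin m ⊕ Fin m) (Fin m ⊕ Fin m) F) + d' • S.J) = 1 := by
  apply mat_eq_of_mulVec
  intro u
  rw [← Matrix.mulVec_mulVec]
  simp only [Matrix.add_mulVec, Matrix.smul_mulVec, Matrix.one_mulVec, Matrix.mulVec_add,
    Matrix.mulVec_smul, S.JJ]
  ext i
  simp only [Pi.add_apply, Pi.smul_apply, smul_eq_mul]
  have e : c' * (c * u i + d * (S.J *ᵥ u) i) + d' * (c * (S.J *ᵥ u) i + d * (S.δ * u i))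
      = (c * c' + S.δ * (d * d')) * u i + (c * d' + d * c') * (S.J *ᵥ u) i := by ring
  rw [e, h, h2]; ring

def sc (c d : F) (h : c * c - S.δ * (d * d) = 1) : GL (Fin m ⊕ Fin m) F :=
  ⟨c • (1 : Matrix (Fin m ⊕ Fin m) (Fin m ⊕ Fin m) F) + d • S.J,
   c • (1 : Matrix (Fin m ⊕ Fin m) (Fin m ⊕ Fin m) F) + (-d) • S.J,
   S.sc_aux c d c (-d) (by rw [← h]; ring) (by ring),
   S.sc_aux c (-d) c d (by rw [← h]; ring) (by ring)⟩

lemma sc_mulVec (c d : F) (h : c * c - S.δ * (d * d) = 1) (u : Fin m ⊕ Fin m → F) :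
    ((S.sc c d h : GL (Fin m ⊕ Fin m) F) : Matrix (Fin m ⊕ Fin m) (Fin m ⊕ Fin m) F) *ᵥ u
      = S.act c d u := by
  change (c • (1 : Matrix (Fin m ⊕ Fin m) (Fin m ⊕ Fin m) F) + d • S.J) *ᵥ u = _
  rw [Matrix.add_mulVec, Matrix.smul_mulVec, Matrix.smul_mulVec, Matrix.one_mulVec]
  rfl

end CS

end Cfsg.Agent.Lib.Helper22.C3
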