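import Mathlib
import Cfsg.Prelude.Def_ClassicalGeometry
import Cfsg.Prelude.Def_GeometricClasses
import Cfsg.Agent.Lib.Helper5.SpMax
import Cfsg.Agent.Lib.Helper22.C3Defs

/-! Toolkit for S5665: basic facts about `act`, `zK`, `Ua`, `sc`, `zpl`. -/

set_option autoImplicit false
set_option linter.unusedSectionVars false
set_option linter.unusedVariables false
set_option linter.unusedSimpArgs false

namespace Cfsg.Agent.Lib.Helper22.C3Leaf
open Cfsg Matrix Cfsg.Agent.Lib.Helper5 Cfsg.Agent.Lib.Helper5.SpMax Cfsg.Agent.Lib.Helper22.C3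

variable {F : Type*} [Field F] {m : ℕ}

local notation "𝕍" => (Fin m ⊕ Fin m → F)
local notation "𝕄" => Matrix (Fin m ⊕ Fin m) (Fin m ⊕ Fin m) F

theorem N_act (S : CS m F) (s t : F) (v : 𝕍) : S.N (S.act s t v) = (s * s - S.δ * (t * t)) * S.N v := by
  unfold CS.N CS.act
  rw [Matrix.mulVec_add, Matrix.mulVec_smul, Matrix.mulVec_smul, S.JJ]
  simp only [sympForm_add_left, sympForm_add_right, sympForm_smul_left, sympForm_smul_right,
    sympForm_self]
  have h1 : sympForm m F (S.J *ᵥ v) v = - sympForm m F v (S.J *ᵥ v) := by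
    rw [S.skew]
  rw [h1]
  ring

theorem act_act (S : CS m F) (s t s' t' : F) (v : 𝕍) :
    S.act s t (S.act s' t' v) = S.act (s * s' + S.δ * (t * t')) (s * t' + t * s') v := by
  unfold CS.act
  rw [Matrix.mulVec_add, Matrix.mulVec_smul, Matrix.mulVec_smul, S.JJ]
  ext i
  simp only [Pi.add_apply, Pi.smul_apply, smul_eq_mul]
  ring

/-- `K = F[J]` acts faithfully on non-zero vectors (`v`, `J v` are independent) -/
theorem act_eq_zero (S : CS m F) {s t : F} {v : 𝕍} (hv : v ≠ 0) (h : S.act s t v = 0) : s = 0 ∧ t = 0 := by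
  have h1 : S.act s (-t) (S.act s t v) = 0 := by
    rw [h]; unfold CS.act; simp
  rw [act_act] at h1
  have h2 : s * -t + -t * s = -(2 * s * t) := by ring
  have h3 : s * t + t * s = 2 * s * t := by ring
  have h4 : S.act (s * s + S.δ * (-t * t)) (s * t + -t * s) v = (s * s - S.δ * (t * t)) • v := by
    unfold CS.act
    have : s * t + -t * s = 0 := by ring
    rw [this, zero_smul, add_zero]
    congr 1; ring
  rw [h4] at h1
  have h5 : s * s - S.δ * (t * t) = 0 := by
    rcases smul_eq_zero.mp h1 with h | h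
    · exact h
    · exact absurd h hv
  by_cases ht : t = 0
  · refine ⟨?_, ht⟩
    rw [ht] at h5
    simpa using h5
  · exfalso
    apply S.nsq (s / t)
    field_simp
    linear_combination h5

theorem zK_comm (S : CS m F) (v : 𝕍) (hv : S.N v ≠ 0) :
    ((S.zK v hv : GL (Fin m ⊕ Fin m) F) : 𝕄) * S.J = S.J * ((S.zK v hv : GL (Fin m ⊕ Fin m) F) : 𝕄) := by
  apply mat_eq_of_mulVec
  intro u
  rw [← Matrix.mulVec_mulVec, ← Matrix.mulVec_mulVec, CS.zK_mulVec, CS.zK_mulVec]
  rw [Matrix.mulVec_sub, Matrix.mulVec_smul, Matrix.mulVec_sub, Matrix.mulVec_smul,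
    Matrix.mulVec_smul, S.JJ, S.form_JJ, S.skew]
  ext i
  simp only [Pi.sub_apply, Pi.smul_apply, smul_eq_mul]
  ring

theorem Ua_mulVec (S : CS m F) (a u : 𝕍) (μ : F) (ha : S.N a = 0) :
    ((S.Ua a μ : GL (Fin m ⊕ Fin m) F) : 𝕄) *ᵥ u
      = u + μ • (sympForm m F u a • a - (S.δ⁻¹ * sympForm m F u (S.J *ᵥ a)) • (S.J *ᵥ a)) := by
  unfold CS.Ua
  rw [Units.val_mul, ← Matrix.mulVec_mulVec, tvc_mulVec, tvc_mulVec]
  have h1 : sympForm m F (S.J *ᵥ a) a = 0 := by rw [S.form_J_self, ha, neg_zero]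
  simp only [sympForm_add_left, sympForm_smul_left, h1]
  ext i
  simp only [Pi.add_apply, Pi.sub_apply, Pi.smul_apply, smul_eq_mul]
  field_simp
  ring

theorem Ua_comm (S : CS m F) (a : 𝕍) (μ : F) (ha : S.N a = 0) :
    ((S.Ua a μ : GL (Fin m ⊕ Fin m) F) : 𝕄) * S.J = S.J * ((S.Ua a μ : GL (Fin m ⊕ Fin m) F) : 𝕄) := by
  apply mat_eq_of_mulVec
  intro u
  have hδ := S.δ_ne_zero
  rw [← Matrix.mulVec_mulVec, ← Matrix.mulVec_mulVec, Ua_mulVec S a _ μ ha, Ua_mulVec S a _ μ ha]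
  rw [Matrix.mulVec_add, Matrix.mulVec_smul, Matrix.mulVec_sub, Matrix.mulVec_smul,
    Matrix.mulVec_smul, S.JJ, S.form_JJ, S.skew]
  ext i
  simp only [Pi.add_apply, Pi.sub_apply, Pi.smul_apply, smul_eq_mul]
  field_simp
  ring

theorem sc_mem (S : CS m F) (c d : F) (h : c * c - S.δ * (d * d) = 1) : S.sc c d h ∈ spGL m F := by
  rw [mem_spGL]
  intro u v
  rw [CS.sc_mulVec, CS.sc_mulVec]
  unfold CS.act
  simp only [sympForm_add_left, sympForm_add_right, sympForm_smul_left, sympForm_smul_right,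
    S.form_JJ]
  rw [S.skew u v]
  linear_combination (sympForm m F u v) * h

theorem sc_comm (S : CS m F) (c d : F) (h : c * c - S.δ * (d * d) = 1) :
    ((S.sc c d h : GL (Fin m ⊕ Fin m) F) : 𝕄) * S.J = S.J * ((S.sc c d h : GL (Fin m ⊕ Fin m) F) : 𝕄) := by
  apply mat_eq_of_mulVec
  intro u
  rw [← Matrix.mulVec_mulVec, ← Matrix.mulVec_mulVec, CS.sc_mulVec, CS.sc_mulVec]
  unfold CS.act
  rw [Matrix.mulVec_add, Matrix.mulVec_smul, Matrix.mulVec_smul]

/-- conjugating the plane involution by a symplectic matrix -/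
theorem conj_zpl {g : GL (Fin m ⊕ Fin m) F} (hg : g ∈ spGL m F) (x y : 𝕍) (h : sympForm m F x y = 1) :
    g * zpl x y h * g⁻¹ = zpl ((g : 𝕄) *ᵥ x) ((g : 𝕄) *ᵥ y) (by rw [mem_spGL.mp hg]; exact h) := by
  apply Units.ext
  apply mat_eq_of_mulVec
  intro u
  rw [Units.val_mul, Units.val_mul, ← Matrix.mulVec_mulVec, ← Matrix.mulVec_mulVec, zpl_mulVec,
    zpl_mulVec]
  have e1 : ∀ z : 𝕍, sympForm m F (((g⁻¹ : GL (Fin m ⊕ Fin m) F) : 𝕄) *ᵥ u) z
      = sympForm m F u ((g : 𝕄) *ᵥ z) := by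
    intro z
    rw [← mem_spGL.mp hg _ z, mul_inv_mulVec]
  rw [e1, e1, Matrix.mulVec_sub, Matrix.mulVec_smul, Matrix.mulVec_sub, Matrix.mulVec_smul,
    Matrix.mulVec_smul, mul_inv_mulVec]

/-- the plane involution depends only on the plane -/
theorem zpl_eq_of_mem_span (x y x' y' : 𝕍) (h : sympForm m F x y = 1) (h' : sympForm m F x' y' = 1)
    (hx' : x' ∈ Submodule.span F {x, y}) (hy' : y' ∈ Submodule.span F {x, y}) :
    zpl x' y' h' = zpl x y h := by
  obtain ⟨a, b, rfl⟩ := Submodule.mem_span_pair.mp hx'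
  obtain ⟨c, d, rfl⟩ := Submodule.mem_span_pair.mp hy'
  have hyx : sympForm m F y x = -1 := by rw [sympForm_swap, h]
  have hdet : a * d - b * c = 1 := by
    have := h'
    simp only [sympForm_add_left, sympForm_add_right, sympForm_smul_left, sympForm_smul_right,
      sympForm_self, h, hyx] at this
    linear_combination this
  apply Units.ext
  apply mat_eq_of_mulVec
  intro u
  rw [zpl_mulVec, zpl_mulVec]
  simp only [sympForm_add_right, sympForm_smul_right]
  ext i
  simp only [Pi.add_apply, Pi.sub_apply, Pi.smul_apply, smul_eq_mul]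
  linear_combination (-(2 : F) * (sympForm m F u y * x i - sympForm m F u x * y i)) * hdet

end Cfsg.Agent.Lib.Helper22.C3Leaf
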