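import Mathlib
import Cfsg.Prelude.Def_GeometricClasses
import Cfsg.Agent.Lib.Helper25.C3O2Defs
import Cfsg.Agent.Lib.Helper27.C3u2CW0
import Cfsg.Agent.Lib.Helper25.OEFsaH1
import Cfsg.Agent.Lib.Helper5.TSMax
import Cfsg.Agent.Lib.Helper25.MaxTS

/-!
helper22: C3O2 market (planner helper25; S5825 conjunct (7)), the four tool leaves
TRSQ `exists_sq_trace_ne`, ESING `exists_esing_perp`, PARTNER `exists_partner`, GEO `exists_nonsing_perp3`.
-/

set_option autoImplicit false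
set_option linter.unusedSectionVars false
set_option linter.unusedVariables false

namespace Cfsg.Agent.Lib.Helper22.C3O2Leaf
open Matrix Module QuadraticMap Cfsg Cfsg.Geo Cfsg.Agent.Lib.Helper25.OEFsa
  Cfsg.Agent.Lib.Helper25.CD Cfsg.Agent.Lib.Helper25.Siegel
  Cfsg.Agent.Lib.Helper5.NSMax Cfsg.Agent.Lib.Helper5.TSMax Cfsg.Agent.Lib.Helper25.AutO
  Cfsg.Agent.Lib.Helper25.C3O2

variable {F : Type*} [Field F] [Fintype F] {E : Type*} [Field E] [Algebra F E] [FiniteDimensional F E]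
  {ι : Type} [Fintype ι] [DecidableEq ι]
  {ρ : E →ₐ[F] Matrix ι ι F} {Q : QuadraticForm F (ι → F)} {B : (ι → F) → (ι → F) → E} {QE : (ι → F) → E}
  {κ : E} {δ : F}

/-- TRSQ -/
theorem exists_sq_trace_ne (h2 : (2 : F) ≠ 0) (d : E) (hd : d ≠ 0) :
    ∃ l : E, Algebra.trace F E (l * l * d) ≠ 0 := by
  by_contra hcon
  push Not at hcon
  apply hd
  apply trace_sq_unique (F := F)
  intro b
  rw [hcon b, mul_zero, map_zero]

/-- `c • y = ρ (algebraMap c) y` -/
theorem smul_eq_rho_mulVec (ρ : E →ₐ[F] Matrix ι ι F) (c : F) (y : ι → F) :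
    c • y = ρ (algebraMap F E c) *ᵥ y := by
  rw [AlgHom.commutes, Algebra.algebraMap_eq_smul_one, Matrix.smul_mulVec, Matrix.one_mulVec]

/-- PARTNER -/
theorem exists_partner (h : Forms ρ Q B QE) {p : ι → F} (hp0 : p ≠ 0) (hp : QE p = 0) :
    ∃ p' : ι → F, QE p' = 0 ∧ B p p' = 1 := by
  obtain ⟨u, hu⟩ : ∃ u, B u p ≠ 0 := by
    by_contra hcon
    push Not at hcon
    exact hp0 (h.B_nondeg p hcon)
  obtain ⟨c, hc⟩ : ∃ c, c = B p u := ⟨_, rfl⟩
  have hc0 : c ≠ 0 := by rw [hc, h.B_symm]; exact hu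
  obtain ⟨v, hv⟩ : ∃ v, v = ρ c⁻¹ *ᵥ u := ⟨_, rfl⟩
  have hpv : B p v = 1 := by rw [hv, h.B_smul_right, ← hc, inv_mul_cancel₀ hc0]
  have hpp : B p p = 0 := by rw [h.B_self, hp, mul_zero]
  refine ⟨v + ρ (-(QE v)) *ᵥ p, ?_, ?_⟩
  · rw [h.QE_add, h.QE_smul, hp, mul_zero, h.B_smul_right, h.B_symm v p, hpv]
    ring
  · rw [h.B_add_right, h.B_smul_right, hpv, hpp, mul_zero, add_zero]

/-- ESING -/
theorem exists_esing_perp (h : Forms ρ Q B QE) (h2 : (2 : F) ≠ 0) (hE : finrank F E = 2) (hcard : 7 ≤ Fintype.card ι)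
    (x : ι → F) : ∃ a : ι → F, a ≠ 0 ∧ QE a = 0 ∧ B x a = 0 := by
  have hBsmulR : ∀ (c : F) (u v : ι → F), B u (c • v) = c • B u v := by
    intro c u v
    rw [smul_eq_rho_mulVec ρ, h.B_smul_right, Algebra.smul_def]
  have hBsmulL : ∀ (c : F) (u v : ι → F), B (c • u) v = c • B u v := by
    intro c u v
    rw [smul_eq_rho_mulVec ρ, h.B_smul_left, Algebra.smul_def]
  obtain ⟨φ, hφ⟩ : ∃ φ : (ι → F) →ₗ[F] E, ∀ a, φ a = B x a :=
    ⟨{ toFun := fun a => B x a
       map_add' := fun a b => h.B_add_right x a b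
       map_smul' := fun c a => by simp only [RingHom.id_apply]; exact hBsmulR c x a }, fun a => rfl⟩
  obtain ⟨W, hW⟩ : ∃ W : Submodule F (ι → F), W = LinearMap.ker φ := ⟨_, rfl⟩
  have hfr : 2 * finrank F E < finrank F W := by
    have h1 := LinearMap.finrank_range_add_finrank_ker φ
    have h3 : finrank F (LinearMap.range φ) ≤ finrank F E := Submodule.finrank_le _
    rw [Module.finrank_fintype_fun_eq_card] at h1
    rw [hW]
    omega
  obtain ⟨B', hB'⟩ : ∃ B' : W →ₗ[F] W →ₗ[F] E, ∀ a b : W, B' a b = B (a : ι → F) (b : ι → F) :=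
    ⟨LinearMap.mk₂ F (fun a b : W => B (a : ι → F) (b : ι → F))
      (fun a a' b => h.B_add_left _ _ _) (fun c a b => hBsmulL c _ _)
      (fun a b b' => h.B_add_right _ _ _) (fun c a b => hBsmulR c _ _), fun a b => rfl⟩
  obtain ⟨w, hw0, hww⟩ :=
    Cfsg.Agent.Lib.Helper27.C3u2Leaf.exists_ne_zero_bilin_self_eq_zero B' hfr
  refine ⟨(w : ι → F), fun h0 => hw0 (Subtype.ext h0), ?_, ?_⟩
  · rw [hB', h.B_self] at hww
    exact (mul_eq_zero.mp hww).resolve_left (two_ne_zero_E h2)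
  · have hw : (w : ι → F) ∈ LinearMap.ker φ := hW ▸ w.2
    rw [LinearMap.mem_ker, hφ] at hw
    exact hw

/-- GEO -/
theorem exists_nonsing_perp3 (hnd : (polarBilin Q).Nondegenerate) (h2 : (2 : F) ≠ 0) (hn : 7 ≤ Fintype.card ι)
    (u v w : ι → F) : ∃ b : ι → F, polar Q u b = 0 ∧ polar Q v b = 0 ∧ polar Q w b = 0 ∧ Q b ≠ 0 := by
  classical
  by_contra hcon
  push Not at hcon
  have hTS : Cfsg.Agent.Lib.Helper25.MaxTS.TS Q
      (Cfsg.Agent.Lib.Helper25.MaxTS.perp Q (Submodule.span F ({u, v, w} : Set (ι → F)))) := by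
    intro y hy
    rw [Cfsg.Agent.Lib.Helper25.MaxTS.mem_perp] at hy
    exact hcon y (hy u (Submodule.subset_span (by simp)))
      (hy v (Submodule.subset_span (by simp))) (hy w (Submodule.subset_span (by simp)))
  have h1 := ts_finrank_le Q hnd hTS
  have h2' := Cfsg.Agent.Lib.Helper25.MaxTS.finrank_perp hnd
    (Submodule.span F ({u, v, w} : Set (ι → F)))
  have h3 : finrank F (Submodule.span F ({u, v, w} : Set (ι → F))) ≤ 3 := by
    have h4 := finrank_span_finset_le_card (R := F) ({u, v, w} : Finset (ι → F))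
    have h5 : ((({u, v, w} : Finset (ι → F)) : Set (ι → F))) = {u, v, w} := by simp
    rw [h5] at h4
    exact h4.trans Finset.card_le_three
  rw [Module.finrank_fintype_fun_eq_card] at h2'
  omega

end Cfsg.Agent.Lib.Helper22.C3O2Leaf
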