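import Mathlib
import Cfsg.Prelude.Def_ClassicalGeometry
import Cfsg.Prelude.Def_GeometricClasses
import Cfsg.Agent.Lib.Helper5.SpMax
import Cfsg.Agent.Lib.Helper22.C3Defs

/-!
Shared definitions for S5664 (`Sp_{2m/r}(q^r).r < Sp_2m(q)`, `r` prime): a field `E` acting on
`V = F^(2m)` through an algebra map `ρ` by self-adjoint matrices, with an `E`-bilinear alternating form
`fE` and a functional `τ` with `f(e x, y) = τ (e * fE x y)`; the `E`-lines; and explicit symplectic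
matrices commuting with `E`: the `E`-transvections `kt`, the torus elements `hk`, the `E`-Siegel
elements `sg`.  Also the `F`-Siegel matrices `rhoMat`.
-/

set_option autoImplicit false
set_option linter.unusedSectionVars false
set_option linter.unusedVariables false
set_option linter.unusedSimpArgs false

namespace Cfsg.Agent.Lib.Helper22.C3s
open Cfsg Matrix Cfsg.Agent.Lib.Helper5 Cfsg.Agent.Lib.Helper5.SpMax Cfsg.Agent.Lib.Helper22.C3

/-- a field `E` acting on `F^(2m)` by self-adjoint matrices, with its `E`-bilinear alternating form -/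
structure KS (m : ℕ) (F : Type*) [Field F] (E : Type*) [Field E] [Algebra F E] where
  ρ : E →ₐ[F] Matrix (Fin m ⊕ Fin m) (Fin m ⊕ Fin m) F
  τ : E →ₗ[F] F
  fE : (Fin m ⊕ Fin m → F) → (Fin m ⊕ Fin m → F) → E
  add_left : ∀ x y z, fE (x + y) z = fE x z + fE y z
  smul_left : ∀ (e : E) x y, fE (ρ e *ᵥ x) y = e * fE x y
  skew : ∀ x y, fE x y = - fE y x
  alt : ∀ x, fE x x = 0
  form_eq : ∀ (e : E) x y, sympForm m F (ρ e *ᵥ x) y = τ (e * fE x y)

variable {F : Type*} [Field F] {m : ℕ} {E : Type*} [Field E] [Algebra F E]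

local notation "𝕍" => (Fin m ⊕ Fin m → F)
local notation "𝕄" => Matrix (Fin m ⊕ Fin m) (Fin m ⊕ Fin m) F

namespace KS
variable (S : KS m F E)

/-- the action of `e : E` on vectors -/
def act (e : E) (x : 𝕍) : 𝕍 := S.ρ e *ᵥ x

lemma act_def (e : E) (x : 𝕍) : S.act e x = S.ρ e *ᵥ x := rfl

@[simp] lemma act_one (x : 𝕍) : S.act 1 x = x := by
  rw [act_def, map_one, Matrix.one_mulVec]

@[simp] lemma act_zero (x : 𝕍) : S.act 0 x = 0 := by
  rw [act_def, map_zero, Matrix.zero_mulVec]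

@[simp] lemma act_vzero (e : E) : S.act e (0 : 𝕍) = 0 := by
  rw [act_def, Matrix.mulVec_zero]

lemma act_mul (e e' : E) (x : 𝕍) : S.act (e * e') x = S.act e (S.act e' x) := by
  rw [act_def, act_def, act_def, map_mul, Matrix.mulVec_mulVec]

lemma act_add (e e' : E) (x : 𝕍) : S.act (e + e') x = S.act e x + S.act e' x := by
  rw [act_def, act_def, act_def, map_add, Matrix.add_mulVec]

lemma act_sub (e e' : E) (x : 𝕍) : S.act (e - e') x = S.act e x - S.act e' x := by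
  rw [act_def, act_def, act_def, map_sub, Matrix.sub_mulVec]

lemma act_neg (e : E) (x : 𝕍) : S.act (-e) x = - S.act e x := by
  rw [act_def, act_def, map_neg, Matrix.neg_mulVec]

lemma act_vadd (e : E) (x y : 𝕍) : S.act e (x + y) = S.act e x + S.act e y := by
  rw [act_def, act_def, act_def, Matrix.mulVec_add]

lemma act_vsub (e : E) (x y : 𝕍) : S.act e (x - y) = S.act e x - S.act e y := by
  rw [act_def, act_def, act_def, Matrix.mulVec_sub]

lemma act_vneg (e : E) (x : 𝕍) : S.act e (-x) = - S.act e x := by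
  rw [act_def, act_def, Matrix.mulVec_neg]

lemma act_vsmul (e : E) (c : F) (x : 𝕍) : S.act e (c • x) = c • S.act e x := by
  rw [act_def, act_def, Matrix.mulVec_smul]

lemma act_algebraMap (c : F) (x : 𝕍) : S.act (algebraMap F E c) x = c • x := by
  rw [act_def, AlgHom.commutes, Algebra.algebraMap_eq_smul_one, Matrix.smul_mulVec,
    Matrix.one_mulVec]

lemma act_smul (c : F) (e : E) (x : 𝕍) : S.act (c • e) x = c • S.act e x := by
  rw [act_def, act_def, map_smul, Matrix.smul_mulVec]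

lemma act_comm (e e' : E) (x : 𝕍) : S.act e (S.act e' x) = S.act e' (S.act e x) := by
  rw [← act_mul, ← act_mul, mul_comm]

lemma act_inv_act {e : E} (he : e ≠ 0) (x : 𝕍) : S.act e⁻¹ (S.act e x) = x := by
  rw [← act_mul, inv_mul_cancel₀ he, act_one]

lemma act_act_inv {e : E} (he : e ≠ 0) (x : 𝕍) : S.act e (S.act e⁻¹ x) = x := by
  rw [← act_mul, mul_inv_cancel₀ he, act_one]

lemma act_eq_zero {e : E} {x : 𝕍} (h : S.act e x = 0) : e = 0 ∨ x = 0 := by
  by_cases he : e = 0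
  · exact Or.inl he
  · right
    rw [← S.act_inv_act he x, h, act_vzero]

/-! ### the form `fE` -/

lemma fE_smul_left (e : E) (x y : 𝕍) : S.fE (S.act e x) y = e * S.fE x y := S.smul_left e x y

lemma fE_add_right (x y z : 𝕍) : S.fE x (y + z) = S.fE x y + S.fE x z := by
  rw [S.skew, S.add_left, S.skew y x, S.skew z x]; ring

lemma fE_smul_right (e : E) (x y : 𝕍) : S.fE x (S.act e y) = e * S.fE x y := by
  rw [S.skew, fE_smul_left, S.skew y x]; ring

@[simp] lemma fE_zero_left (y : 𝕍) : S.fE 0 y = 0 := by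
  have h := S.add_left 0 0 y
  rw [add_zero] at h
  exact left_eq_add.mp h

@[simp] lemma fE_zero_right (y : 𝕍) : S.fE y 0 = 0 := by
  rw [S.skew, fE_zero_left, neg_zero]

lemma fE_neg_left (x y : 𝕍) : S.fE (-x) y = - S.fE x y := by
  have h := S.add_left x (-x) y
  rw [add_neg_cancel, fE_zero_left] at h
  exact eq_neg_of_add_eq_zero_right h.symm

lemma fE_neg_right (x y : 𝕍) : S.fE x (-y) = - S.fE x y := by
  rw [S.skew, S.fE_neg_left, S.skew y x, neg_neg]

lemma fE_sub_left (x y z : 𝕍) : S.fE (x - y) z = S.fE x z - S.fE y z := by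
  rw [sub_eq_add_neg, S.add_left, fE_neg_left, sub_eq_add_neg]

lemma fE_sub_right (x y z : 𝕍) : S.fE x (y - z) = S.fE x y - S.fE x z := by
  rw [sub_eq_add_neg, fE_add_right, fE_neg_right, sub_eq_add_neg]

lemma fE_fsmul_left (c : F) (x y : 𝕍) : S.fE (c • x) y = algebraMap F E c * S.fE x y := by
  rw [← S.act_algebraMap, fE_smul_left]

lemma fE_fsmul_right (c : F) (x y : 𝕍) : S.fE x (c • y) = algebraMap F E c * S.fE x y := by
  rw [← S.act_algebraMap, fE_smul_right]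

lemma fE_fsmul_left' (c : F) (x y : 𝕍) : S.fE (c • x) y = c • S.fE x y := by
  rw [fE_fsmul_left, Algebra.smul_def]

lemma fE_fsmul_right' (c : F) (x y : 𝕍) : S.fE x (c • y) = c • S.fE x y := by
  rw [fE_fsmul_right, Algebra.smul_def]

lemma form_eq' (x y : 𝕍) : sympForm m F x y = S.τ (S.fE x y) := by
  have h := S.form_eq 1 x y
  rwa [map_one, Matrix.one_mulVec, one_mul] at h

lemma form_act_left (e : E) (x y : 𝕍) : sympForm m F (S.act e x) y = S.τ (e * S.fE x y) :=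
  S.form_eq e x y

lemma form_act_right (e : E) (x y : 𝕍) : sympForm m F x (S.act e y) = S.τ (e * S.fE x y) := by
  rw [S.form_eq', S.fE_smul_right]

/-- the matrices `ρ e` are self-adjoint -/
lemma selfadj (e : E) (x y : 𝕍) : sympForm m F (S.act e x) y = sympForm m F x (S.act e y) := by
  rw [form_act_left, form_act_right]

lemma fE_act_self (e : E) (v : 𝕍) : S.fE (S.act e v) v = 0 := by
  rw [fE_smul_left, S.alt, mul_zero]

lemma fE_self_act (e : E) (v : 𝕍) : S.fE v (S.act e v) = 0 := by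
  rw [fE_smul_right, S.alt, mul_zero]

lemma fE_act_act_self (e e' : E) (v : 𝕍) : S.fE (S.act e v) (S.act e' v) = 0 := by
  rw [fE_smul_left, fE_smul_right, S.alt, mul_zero, mul_zero]

lemma fE_nondeg {x : 𝕍} (hx : x ≠ 0) : ∃ y, S.fE x y ≠ 0 := by
  obtain ⟨y, hy⟩ := sympForm_nondeg x hx
  refine ⟨y, fun h => hy ?_⟩
  rw [S.form_eq', h, map_zero]

lemma fE_surj {x : 𝕍} (hx : x ≠ 0) (e : E) : ∃ y, S.fE x y = e := by
  obtain ⟨y, hy⟩ := S.fE_nondeg hx
  refine ⟨S.act (e / S.fE x y) y, ?_⟩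
  rw [fE_smul_right, div_mul_cancel₀ _ hy]

/-- the `τ`-form `(a, b) ↦ τ (a * b)` on `E` is non-degenerate (given a non-zero vector) -/
lemma tau_nondeg {v : 𝕍} (hv : v ≠ 0) {a : E} (h : ∀ b, S.τ (a * b) = 0) : a = 0 := by
  by_contra ha
  obtain ⟨y, hy⟩ := sympForm_nondeg v hv
  apply hy
  rw [S.form_eq']
  have := h (a⁻¹ * S.fE v y)
  rwa [← mul_assoc, mul_inv_cancel₀ ha, one_mul] at this

lemma exists_tau_ne {v : 𝕍} (hv : v ≠ 0) {a : E} (ha : a ≠ 0) : ∃ b, S.τ (a * b) ≠ 0 := by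
  by_contra h
  push Not at h
  exact ha (S.tau_nondeg hv h)

/-! ### `E`-lines -/

/-- the linear map `e ↦ e v` -/
def orb (v : 𝕍) : E →ₗ[F] 𝕍 where
  toFun e := S.act e v
  map_add' e e' := S.act_add e e' v
  map_smul' c e := by
    simp only [RingHom.id_apply]
    exact S.act_smul c e v

/-- the `E`-line of `v` as an `F`-subspace -/
def line (v : 𝕍) : Submodule F 𝕍 := LinearMap.range (S.orb v)

lemma mem_line {v x : 𝕍} : x ∈ S.line v ↔ ∃ e, S.act e v = x := by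
  unfold line
  rw [LinearMap.mem_range]
  rfl

lemma act_mem_line (e : E) (v : 𝕍) : S.act e v ∈ S.line v := S.mem_line.mpr ⟨e, rfl⟩

lemma self_mem_line (v : 𝕍) : v ∈ S.line v := S.mem_line.mpr ⟨1, S.act_one v⟩

lemma act_mem_line_of_mem {v x : 𝕍} (hx : x ∈ S.line v) (e : E) : S.act e x ∈ S.line v := by
  obtain ⟨e', rfl⟩ := S.mem_line.mp hx
  rw [← act_mul]
  exact S.act_mem_line _ _

lemma line_eq_of_mem {v x : 𝕍} (hx : x ∈ S.line v) (hx0 : x ≠ 0) : S.line x = S.line v := by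
  obtain ⟨e, rfl⟩ := S.mem_line.mp hx
  have he : e ≠ 0 := by
    rintro rfl
    exact hx0 (S.act_zero v)
  apply le_antisymm
  · intro y hy
    obtain ⟨e', rfl⟩ := S.mem_line.mp hy
    rw [← act_mul]
    exact S.act_mem_line _ _
  · intro y hy
    obtain ⟨e', rfl⟩ := S.mem_line.mp hy
    apply S.mem_line.mpr
    refine ⟨e' * e⁻¹, ?_⟩
    rw [act_mul, S.act_inv_act he]

lemma orb_injective {v : 𝕍} (hv : v ≠ 0) : Function.Injective (S.orb v) := by
  rw [← LinearMap.ker_eq_bot, LinearMap.ker_eq_bot']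
  intro e he
  rcases S.act_eq_zero he with h | h
  · exact h
  · exact absurd h hv

lemma finrank_line {v : 𝕍} (hv : v ≠ 0) : Module.finrank F (S.line v) = Module.finrank F E := by
  unfold line
  exact LinearMap.finrank_range_of_inj (S.orb_injective hv)

lemma mem_perp_line {v x : 𝕍} (hv : v ≠ 0) : x ∈ perp (S.line v) ↔ S.fE x v = 0 := by
  rw [mem_perp]
  constructor
  · intro h
    apply S.tau_nondeg hv
    intro b
    have := h _ (S.act_mem_line b v)
    rwa [form_act_right, mul_comm] at this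
  · intro h w hw
    obtain ⟨e, rfl⟩ := S.mem_line.mp hw
    rw [form_act_right, h, mul_zero, map_zero]

lemma line_le_perp_line (v : 𝕍) : S.line v ≤ perp (S.line v) := by
  intro x hx
  rw [mem_perp]
  intro w hw
  obtain ⟨e, rfl⟩ := S.mem_line.mp hx
  obtain ⟨e', rfl⟩ := S.mem_line.mp hw
  rw [S.form_eq', S.fE_act_act_self, map_zero]

end KS

/-! ### matrices from linear maps -/

/-- the element `1 + N` of `GL` for `N * N = 0` -/
def unipGL (N : 𝕄) (h : N * N = 0) : GL (Fin m ⊕ Fin m) F :=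
  ⟨1 + N, 1 - N, by rw [mul_sub, mul_one, add_mul, one_mul, h]; abel,
    by rw [sub_mul, one_mul, mul_add, mul_one, h]; abel⟩

lemma unipGL_mulVec (N : 𝕄) (h : N * N = 0) (x : 𝕍) :
    ((unipGL N h : GL (Fin m ⊕ Fin m) F) : 𝕄) *ᵥ x = x + N *ᵥ x := by
  change (1 + N) *ᵥ x = _
  rw [Matrix.add_mulVec, Matrix.one_mulVec]

lemma unipGL_inv_mulVec (N : 𝕄) (h : N * N = 0) (x : 𝕍) :
    (((unipGL N h)⁻¹ : GL (Fin m ⊕ Fin m) F) : 𝕄) *ᵥ x = x - N *ᵥ x := by
  change (1 - N) *ᵥ x = _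
  rw [Matrix.sub_mulVec, Matrix.one_mulVec]

namespace KS
variable (S : KS m F E)

/-! ### `E`-transvections -/

/-- the linear map `x ↦ (a * fE x v) v` -/
def ktLin (v : 𝕍) (a : E) : 𝕍 →ₗ[F] 𝕍 where
  toFun x := S.act (a * S.fE x v) v
  map_add' x y := by rw [S.add_left, mul_add, S.act_add]
  map_smul' c x := by
    simp only [RingHom.id_apply]
    rw [S.fE_fsmul_left', mul_smul_comm, S.act_smul]

/-- the matrix of `x ↦ (a * fE x v) v` -/
def ktMat (v : 𝕍) (a : E) : 𝕄 := LinearMap.toMatrix' (S.ktLin v a)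

lemma ktMat_mulVec (v : 𝕍) (a : E) (x : 𝕍) : S.ktMat v a *ᵥ x = S.act (a * S.fE x v) v := by
  unfold ktMat
  rw [← Matrix.toLin'_apply, Matrix.toLin'_toMatrix']
  rfl

lemma ktMat_sq (v : 𝕍) (a : E) : S.ktMat v a * S.ktMat v a = 0 := by
  apply mat_eq_of_mulVec
  intro x
  rw [← Matrix.mulVec_mulVec, ktMat_mulVec, ktMat_mulVec, S.fE_act_self, mul_zero, S.act_zero,
    Matrix.zero_mulVec]

/-- the `E`-transvection `x ↦ x + (a * fE x v) v` -/
def kt (v : 𝕍) (a : E) : GL (Fin m ⊕ Fin m) F := unipGL (S.ktMat v a) (S.ktMat_sq v a)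

lemma kt_mulVec (v : 𝕍) (a : E) (x : 𝕍) :
    ((S.kt v a : GL (Fin m ⊕ Fin m) F) : 𝕄) *ᵥ x = x + S.act (a * S.fE x v) v := by
  unfold kt
  rw [unipGL_mulVec, ktMat_mulVec]

lemma kt_inv_mulVec (v : 𝕍) (a : E) (x : 𝕍) :
    (((S.kt v a)⁻¹ : GL (Fin m ⊕ Fin m) F) : 𝕄) *ᵥ x = x - S.act (a * S.fE x v) v := by
  unfold kt
  rw [unipGL_inv_mulVec, ktMat_mulVec]

lemma kt_fE (v : 𝕍) (a : E) (x y : 𝕍) :
    S.fE (((S.kt v a : GL (Fin m ⊕ Fin m) F) : 𝕄) *ᵥ x)
      (((S.kt v a : GL (Fin m ⊕ Fin m) F) : 𝕄) *ᵥ y) = S.fE x y := by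
  rw [kt_mulVec, kt_mulVec, S.add_left, S.fE_add_right, S.fE_add_right, S.fE_smul_left,
    S.fE_smul_left, S.fE_smul_right, S.fE_smul_right, S.alt, S.skew v y]
  ring

lemma kt_mem (v : 𝕍) (a : E) : S.kt v a ∈ spGL m F := by
  rw [mem_spGL]
  intro x y
  rw [S.form_eq', kt_fE, ← S.form_eq']

lemma kt_comm (v : 𝕍) (a e : E) :
    ((S.kt v a : GL (Fin m ⊕ Fin m) F) : 𝕄) * S.ρ e = S.ρ e * ((S.kt v a : GL (Fin m ⊕ Fin m) F) : 𝕄) := by
  apply mat_eq_of_mulVec
  intro x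
  rw [← Matrix.mulVec_mulVec, ← Matrix.mulVec_mulVec, kt_mulVec, kt_mulVec, ← S.act_def,
    ← S.act_def, S.fE_smul_left, S.act_vadd, ← S.act_mul]
  congr 2
  ring

/-! ### torus elements -/

/-- the linear map `x ↦ ((k - 1) * fE x v') v - ((k⁻¹ - 1) * fE x v) v'` -/
def hkLin (v v' : 𝕍) (k : E) : 𝕍 →ₗ[F] 𝕍 where
  toFun x := S.act ((k - 1) * S.fE x v') v - S.act ((k⁻¹ - 1) * S.fE x v) v'
  map_add' x y := by
    rw [S.add_left, S.add_left, mul_add, mul_add, S.act_add, S.act_add]; abel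
  map_smul' c x := by
    simp only [RingHom.id_apply]
    rw [S.fE_fsmul_left', S.fE_fsmul_left', mul_smul_comm, mul_smul_comm, S.act_smul, S.act_smul,
      smul_sub]

/-- the matrix of `x ↦ x + ((k - 1) * fE x v') v - ((k⁻¹ - 1) * fE x v) v'`: for `fE v v' = 1` this is
`k` on `E v`, `k⁻¹` on `E v'` and `1` on the `E`-orthogonal complement -/
def hkMat (v v' : 𝕍) (k : E) : 𝕄 := 1 + LinearMap.toMatrix' (S.hkLin v v' k)

lemma hkMat_mulVec (v v' : 𝕍) (k : E) (x : 𝕍) :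
    S.hkMat v v' k *ᵥ x = x + (S.act ((k - 1) * S.fE x v') v - S.act ((k⁻¹ - 1) * S.fE x v) v') := by
  unfold hkMat
  rw [Matrix.add_mulVec, Matrix.one_mulVec, ← Matrix.toLin'_apply, Matrix.toLin'_toMatrix']
  rfl

/-! ### `E`-Siegel elements -/

/-- the linear map `x ↦ (fE x v) w + (fE x w) v` -/
def sgLin (v w : 𝕍) : 𝕍 →ₗ[F] 𝕍 where
  toFun x := S.act (S.fE x v) w + S.act (S.fE x w) v
  map_add' x y := by
    rw [S.add_left, S.add_left, S.act_add, S.act_add]; abel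
  map_smul' c x := by
    simp only [RingHom.id_apply]
    rw [S.fE_fsmul_left', S.fE_fsmul_left', S.act_smul, S.act_smul, smul_add]

/-- the matrix of `x ↦ (fE x v) w + (fE x w) v` -/
def sgMat (v w : 𝕍) : 𝕄 := LinearMap.toMatrix' (S.sgLin v w)

lemma sgMat_mulVec (v w x : 𝕍) : S.sgMat v w *ᵥ x = S.act (S.fE x v) w + S.act (S.fE x w) v := by
  unfold sgMat
  rw [← Matrix.toLin'_apply, Matrix.toLin'_toMatrix']
  rfl

lemma sgMat_sq {v w : 𝕍} (h : S.fE w v = 0) : S.sgMat v w * S.sgMat v w = 0 := by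
  have h' : S.fE v w = 0 := by rw [S.skew, h, neg_zero]
  apply mat_eq_of_mulVec
  intro x
  rw [← Matrix.mulVec_mulVec, sgMat_mulVec, sgMat_mulVec, S.add_left, S.add_left, S.fE_smul_left,
    S.fE_smul_left, S.fE_smul_left, S.fE_smul_left, h, h', S.alt, S.alt]
  simp

/-- the `E`-Siegel element `x ↦ x + (fE x v) w + (fE x w) v`, for `fE w v = 0` -/
def sg (v w : 𝕍) (h : S.fE w v = 0) : GL (Fin m ⊕ Fin m) F := unipGL (S.sgMat v w) (S.sgMat_sq h)

lemma sg_mulVec {v w : 𝕍} (h : S.fE w v = 0) (x : 𝕍) :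
    ((S.sg v w h : GL (Fin m ⊕ Fin m) F) : 𝕄) *ᵥ x
      = x + (S.act (S.fE x v) w + S.act (S.fE x w) v) := by
  unfold sg
  rw [unipGL_mulVec, sgMat_mulVec]

end KS

/-! ### `F`-Siegel matrices -/

/-- the matrix of `x ↦ x + c (f(x, p') p + f(x, p) p')` -/
def rhoMat (p p' : 𝕍) (c : F) : 𝕄 := 1 + c • (rk p p' + rk p' p)

lemma rhoMat_mulVec (p p' : 𝕍) (c : F) (x : 𝕍) :
    rhoMat p p' c *ᵥ x = x + c • (sympForm m F x p' • p + sympForm m F x p • p') := by
  unfold rhoMat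
  rw [Matrix.add_mulVec, Matrix.one_mulVec, Matrix.smul_mulVec, Matrix.add_mulVec, rk_mulVec,
    rk_mulVec]


/-! ### images of subspaces, Siegel sets -/

/-- the image of a subspace under an element of `GL` -/
def img (g : GL (Fin m ⊕ Fin m) F) (W : Submodule F 𝕍) : Submodule F 𝕍 :=
  W.map (Matrix.toLin' (g : 𝕄))

lemma mem_img {g : GL (Fin m ⊕ Fin m) F} {W : Submodule F 𝕍} {x : 𝕍} :
    x ∈ img g W ↔ ∃ w ∈ W, (g : 𝕄) *ᵥ w = x := by
  unfold img
  rw [Submodule.mem_map]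
  simp only [Matrix.toLin'_apply]

lemma mulVec_mem_img {g : GL (Fin m ⊕ Fin m) F} {W : Submodule F 𝕍} {w : 𝕍} (hw : w ∈ W) :
    (g : 𝕄) *ᵥ w ∈ img g W := mem_img.mpr ⟨w, hw, rfl⟩

lemma mem_img_iff {g : GL (Fin m ⊕ Fin m) F} {W : Submodule F 𝕍} {x : 𝕍} :
    x ∈ img g W ↔ ((g⁻¹ : GL (Fin m ⊕ Fin m) F) : 𝕄) *ᵥ x ∈ W := by
  rw [mem_img]
  constructor
  · rintro ⟨w, hw, rfl⟩
    rwa [inv_mul_mulVec]
  · intro h
    exact ⟨_, h, mul_inv_mulVec g x⟩

/-- `M` contains all the `F`-Siegel elements `x ↦ x + c (f(x, p₂) p₁ + f(x, p₁) p₂)` with `p₁, p₂ ∈ U` -/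
def Sieg (M : Subgroup (GL (Fin m ⊕ Fin m) F)) (U : Submodule F 𝕍) : Prop :=
  ∀ p₁ ∈ U, ∀ p₂ ∈ U, ∀ c : F, ∃ y ∈ M, (y : 𝕄) = rhoMat p₁ p₂ c

end Cfsg.Agent.Lib.Helper22.C3s
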