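import Mathlib

/-!
# S4840 leaf (T5) glue, core: `p = 3`, `R ≅ Q₈` with `|X : C_X(R)| = 24` is impossible

The three sub-leaves (T5a) `exists_half_subgroup`, (T5b) `card_dvd_card_sub_one_of_semiregular`,
(T5c) `arith_quat_three` enter as hypotheses.
-/

set_option autoImplicit false

universe u v

namespace Cfsg.Agent.Lib.Helper22.Gag

/-- An involution acting fixed-point-freely inverts. -/
theorem inv_of_fpf_involution {X : Type u} [Group X] {V : Type v} [CommGroup V]
    (φ : X →* MulAut V) (z : X) (hzz : z * z = 1)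
    (hz : ∀ v : V, φ z v = v → v = 1) (v : V) : φ z v = v⁻¹ := by
  have h1 : φ z (φ z v) = v := by
    have : φ z (φ z v) = φ (z * z) v := by rw [map_mul]; rfl
    rw [this, hzz, map_one]; rfl
  have h2 : φ z (v * φ z v) = v * φ z v := by
    rw [map_mul, h1, mul_comm]
  have h3 := hz _ h2
  exact (eq_inv_of_mul_eq_one_right h3)

/-- (T5) glue with (T5a), (T5b), (T5c) as hypotheses. -/
theorem false_of_quat_index_24_of_T5abc {X : Type u} [Group X] [Finite X] {V : Type v}
    [CommGroup V] [Finite V]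
    (φ : X →* MulAut V) (hexp : ∀ v : V, v ^ 3 = 1)
    (hfpf : ∀ x : X, x ≠ 1 → (orderOf x).Coprime 3 → ∀ v : V, φ x v = v → v = 1)
    (a : ℕ) (hcard : Nat.card X = (Nat.card V - 1) * 3 ^ a)
    (R : Subgroup X) (e : R ≃* QuaternionGroup 2)
    (hidx : (Subgroup.centralizer (R : Set X)).index = 24)
    (hT5a : ∀ α β : MulAut V, (∀ v, α (α v) = v⁻¹) → (∀ v, β (β v) = v⁻¹) →
      (∀ v, β (α v) = (α (β v))⁻¹) →
      ∃ W : Subgroup V, Nat.card W * Nat.card W = Nat.card V ∧
        ∀ γ : MulAut V, (∀ v, γ (α v) = α (γ v)) → (∀ v, γ (β v) = β (γ v)) →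
          ∀ w ∈ W, γ w ∈ W)
    (hT5b : ∀ (Q : Subgroup X) [Finite Q] (W : Subgroup V),
      (∀ q ∈ Q, ∀ w ∈ W, φ q w ∈ W) →
      (∀ q ∈ Q, q ≠ 1 → ∀ w ∈ W, φ q w = w → w = 1) → Nat.card Q ∣ Nat.card W - 1)
    (hT5c : ∀ (m t c a : ℕ), m = 3 ^ t → c ≠ 0 → 24 * c = (m * m - 1) * 3 ^ a →
      (∀ r : ℕ, r.Prime → r ≠ 3 → r ^ c.factorization r ∣ m - 1) → 2 ∣ c → False) : False := by
  classical
  have h3 : Fact (Nat.Prime 3) := ⟨Nat.prime_three⟩
  -- the standard generators
  set iR : R := e.symm (QuaternionGroup.a 1) with hiR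
  set jR : R := e.symm (QuaternionGroup.xa 0) with hjR
  set zR : R := e.symm (QuaternionGroup.a 2) with hzR
  have q1 : (QuaternionGroup.a 1 : QuaternionGroup 2) * QuaternionGroup.a 1 =
      QuaternionGroup.a 2 := by decide
  have q2 : (QuaternionGroup.xa 0 : QuaternionGroup 2) * QuaternionGroup.xa 0 =
      QuaternionGroup.a 2 := by decide
  have q3 : (QuaternionGroup.xa 0 : QuaternionGroup 2) * QuaternionGroup.a 1 =
      QuaternionGroup.a 2 * (QuaternionGroup.a 1 * QuaternionGroup.xa 0) := by decide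
  have q4 : (QuaternionGroup.a 2 : QuaternionGroup 2) * QuaternionGroup.a 2 = 1 := by decide
  have q5 : (QuaternionGroup.a 2 : QuaternionGroup 2) ≠ 1 := by decide
  have q6 : ∀ q : QuaternionGroup 2, q * QuaternionGroup.a 2 = QuaternionGroup.a 2 * q := by
    decide
  have hii : iR * iR = zR := by
    rw [hiR, hzR, ← map_mul, q1]
  have hjj : jR * jR = zR := by
    rw [hjR, hzR, ← map_mul, q2]
  have hji : jR * iR = zR * (iR * jR) := by
    rw [hiR, hjR, hzR, ← map_mul, ← map_mul, ← map_mul, q3]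
  have hzz : zR * zR = 1 := by
    rw [hzR, ← map_mul, q4, map_one]
  have hz1 : zR ≠ 1 := by
    intro h
    have h' : e zR = e 1 := by rw [h]
    rw [hzR, MulEquiv.apply_symm_apply, map_one] at h'
    exact q5 h'
  have hzc : ∀ r : R, r * zR = zR * r := by
    intro r
    apply e.injective
    rw [map_mul, map_mul, hzR, MulEquiv.apply_symm_apply]
    exact q6 _
  -- in `X`
  set z : X := (zR : X) with hz
  have hzzX : z * z = 1 := by
    have := congrArg (fun r : R => (r : X)) hzz
    simpa using this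
  have hz1X : z ≠ 1 := by
    intro h
    apply hz1
    apply Subtype.ext
    rw [Subgroup.coe_one]
    exact h
  have hzord : orderOf z = 2 := orderOf_eq_prime (by rw [pow_two]; exact hzzX) hz1X
  have hzcop : (orderOf z).Coprime 3 := by rw [hzord]; decide
  have hzinv : ∀ v : V, φ z v = v⁻¹ :=
    inv_of_fpf_involution φ z hzzX (hfpf z hz1X hzcop)
  have hiiX : (iR : X) * (iR : X) = z := by
    have := congrArg (fun r : R => (r : X)) hii
    simpa using this
  have hjjX : (jR : X) * (jR : X) = z := by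
    have := congrArg (fun r : R => (r : X)) hjj
    simpa using this
  have hjiX : (jR : X) * (iR : X) = z * ((iR : X) * (jR : X)) := by
    have := congrArg (fun r : R => (r : X)) hji
    simpa using this
  have hα : ∀ v, φ (iR : X) (φ (iR : X) v) = v⁻¹ := by
    intro v
    have : φ (iR : X) (φ (iR : X) v) = φ ((iR : X) * (iR : X)) v := by rw [map_mul]; rfl
    rw [this, hiiX, hzinv]
  have hβ : ∀ v, φ (jR : X) (φ (jR : X) v) = v⁻¹ := by
    intro v
    have : φ (jR : X) (φ (jR : X) v) = φ ((jR : X) * (jR : X)) v := by rw [map_mul]; rfl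
    rw [this, hjjX, hzinv]
  have hαβ : ∀ v, φ (jR : X) (φ (iR : X) v) = (φ (iR : X) (φ (jR : X) v))⁻¹ := by
    intro v
    have h1 : φ (jR : X) (φ (iR : X) v) = φ ((jR : X) * (iR : X)) v := by rw [map_mul]; rfl
    have h2 : φ (z * ((iR : X) * (jR : X))) v = φ z (φ (iR : X) (φ (jR : X) v)) := by
      rw [map_mul, map_mul]; rfl
    rw [h1, hjiX, h2, hzinv]
  obtain ⟨W, hWcard, hWstab⟩ := hT5a (φ (iR : X)) (φ (jR : X)) hα hβ hαβ
  -- `|W| = 3 ^ t`
  have hWp : IsPGroup 3 W := by
    intro w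
    refine ⟨1, ?_⟩
    apply Subtype.ext
    simpa using hexp (w : V)
  obtain ⟨t, ht⟩ := IsPGroup.iff_card.mp hWp
  set C : Subgroup X := Subgroup.centralizer (R : Set X) with hC
  have hXC : 24 * Nat.card C = Nat.card X := by
    rw [← hidx]; exact Subgroup.index_mul_card C
  have hc0 : Nat.card C ≠ 0 := Nat.card_pos.ne'
  have hzC : z ∈ C := by
    rw [hC, Subgroup.mem_centralizer_iff]
    intro r hr
    have := congrArg (fun r : R => (r : X)) (hzc ⟨r, hr⟩)
    simpa using this
  have h2c : 2 ∣ Nat.card C := by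
    rw [← hzord]
    exact Subgroup.orderOf_dvd_natCard C hzC
  have hiC : ∀ q ∈ C, q * (iR : X) = (iR : X) * q := fun q hq =>
    (Subgroup.mem_centralizer_iff.mp hq (iR : X) iR.2).symm
  have hjC : ∀ q ∈ C, q * (jR : X) = (jR : X) * q := fun q hq =>
    (Subgroup.mem_centralizer_iff.mp hq (jR : X) jR.2).symm
  refine hT5c (Nat.card W) t (Nat.card C) a ht hc0 ?_ ?_ h2c
  · rw [hXC, hcard, hWcard]
  · intro r hr hr3
    have : Fact r.Prime := ⟨hr⟩
    let S : Sylow r C := default
    have hScard : Nat.card S = r ^ (Nat.card C).factorization r := S.card_eq_multiplicity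
    have hQcard : Nat.card ((S : Subgroup C).map C.subtype) = Nat.card S :=
      Subgroup.card_map_of_injective C.subtype_injective
    rw [← hScard, ← hQcard]
    have hQC : (S : Subgroup C).map C.subtype ≤ C := Subgroup.map_subtype_le _
    have hQp : IsPGroup r ((S : Subgroup C).map C.subtype) := S.2.map _
    apply hT5b
    · intro q hq w hw
      have hqC := hQC hq
      apply hWstab (φ q) _ _ w hw
      · intro v
        have h1 : φ q (φ (iR : X) v) = φ (q * (iR : X)) v := by rw [map_mul]; rfl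
        have h2 : φ (iR : X) (φ q v) = φ ((iR : X) * q) v := by rw [map_mul]; rfl
        rw [h1, h2, hiC q hqC]
      · intro v
        have h1 : φ q (φ (jR : X) v) = φ (q * (jR : X)) v := by rw [map_mul]; rfl
        have h2 : φ (jR : X) (φ q v) = φ ((jR : X) * q) v := by rw [map_mul]; rfl
        rw [h1, h2, hjC q hqC]
    · intro q hq hq1 w _ hqw
      refine hfpf q hq1 ?_ w hqw
      obtain ⟨k, hk⟩ := (IsPGroup.iff_orderOf.mp hQp) ⟨q, hq⟩
      have hk' : orderOf q = r ^ k := by
        rw [← hk]; exact (Subgroup.orderOf_mk q hq).symm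
      rw [hk']
      exact Nat.Coprime.pow_left k ((Nat.coprime_primes hr Nat.prime_three).mpr hr3)

end Cfsg.Agent.Lib.Helper22.Gag
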