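import Mathlib
import Cfsg.Agent.Lib.Helper20.GagT5a
import Cfsg.Agent.Lib.Helper20.GagT5b
import Cfsg.Agent.Lib.Helper20.GagT5c
import Cfsg.Agent.Lib.Helper22.GagT5Core

/-!
# S4840 leaf (T5): `p = 3`, `R ≅ Q₈` with `|X : C_X(R)| = 24` is impossible
-/

set_option autoImplicit false

universe u v

namespace Cfsg.Agent.Lib.Helper22.Gag

/-- (T5) `p = 3`, `R ≅ Q₈` with `|X : C_X(R)| = 24` is impossible. -/
theorem false_of_quat_index_24 {X : Type u} [Group X] [Finite X] {V : Type v} [CommGroup V] [Finite V]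
    (φ : X →* MulAut V) (hexp : ∀ v : V, v ^ 3 = 1)
    (hfpf : ∀ x : X, x ≠ 1 → (orderOf x).Coprime 3 → ∀ v : V, φ x v = v → v = 1)
    (a : ℕ) (hcard : Nat.card X = (Nat.card V - 1) * 3 ^ a)
    (R : Subgroup X) (e : R ≃* QuaternionGroup 2)
    (hidx : (Subgroup.centralizer (R : Set X)).index = 24) : False :=
  false_of_quat_index_24_of_T5abc φ hexp hfpf a hcard R e hidx
    (fun α β hα hβ hαβ => Cfsg.Agent.Lib.Helper20.Gag.exists_half_subgroup hexp α β hα hβ hαβ)
    (fun Q _ W hstab hfree =>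
      Cfsg.Agent.Lib.Helper20.Gag.card_dvd_card_sub_one_of_semiregular φ Q W hstab hfree)
    (fun m t c a hm hc0 hc hdvd h2 =>
      Cfsg.Agent.Lib.Helper20.Gag.arith_quat_three m t c a hm hc0 hc hdvd h2)

/-- The statement copied verbatim from `notes/S4840_leaves.lean`. -/
example {X : Type u} [Group X] [Finite X] {V : Type v} [CommGroup V] [Finite V]
    (φ : X →* MulAut V) (hexp : ∀ v : V, v ^ 3 = 1)
    (hfpf : ∀ x : X, x ≠ 1 → (orderOf x).Coprime 3 → ∀ v : V, φ x v = v → v = 1)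
    (a : ℕ) (hcard : Nat.card X = (Nat.card V - 1) * 3 ^ a)
    (R : Subgroup X) (e : R ≃* QuaternionGroup 2)
    (hidx : (Subgroup.centralizer (R : Set X)).index = 24) : False :=
  false_of_quat_index_24 φ hexp hfpf a hcard R e hidx

end Cfsg.Agent.Lib.Helper22.Gag
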