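import Mathlib

set_option autoImplicit false
open Pointwise

namespace Cfsg.Agent.Lib.Helper22.BSOdd

section Gluck

variable {Γ : Type*} [Group Γ] {I : Type*} [MulAction Γ I]

/-- In a finite `p`-group `P`, a proper subgroup `S` lies in a subgroup `M` normalized by `P`, with an
element `x` generating `P` over `M` such that `x ^ j ∈ M ↔ p ∣ j`. -/
theorem exists_maximal_normal {p : ℕ} [hp : Fact p.Prime] (P S : Subgroup Γ) [Finite P]
    (hP : IsPGroup p P) (hSP : S ≤ P) (hne : S ≠ P) :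
    ∃ M : Subgroup Γ, S ≤ M ∧ M ≤ P ∧ (∀ g ∈ P, ∀ m ∈ M, g * m * g⁻¹ ∈ M) ∧
      Nat.card M < Nat.card P ∧
      ∃ x ∈ P, (∀ j : ℕ, x ^ j ∈ M ↔ p ∣ j) ∧ ∀ g ∈ P, ∃ j < p, ∃ m ∈ M, g = x ^ j * m := by
  classical
  obtain ⟨e, he⟩ := IsPGroup.iff_card.mp hP
  have hS' : IsPGroup p (S.subgroupOf P) := hP.to_subgroup _
  obtain ⟨s, hs⟩ := IsPGroup.iff_card.mp hS'
  have hSlt : S.subgroupOf P ≠ ⊤ := by
    intro h
    rw [Subgroup.subgroupOf_eq_top] at h
    exact hne (le_antisymm hSP h)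
  have hse : s < e := by
    have h1 : Nat.card (S.subgroupOf P) ∣ Nat.card P := Subgroup.card_subgroup_dvd_card _
    rw [hs, he] at h1
    have h2 : s ≤ e := (Nat.pow_dvd_pow_iff_le_right hp.out.one_lt).mp h1
    rcases lt_or_eq_of_le h2 with h | h
    · exact h
    · exfalso
      apply hSlt
      apply Subgroup.eq_top_of_card_eq
      rw [hs, he, h]
  obtain ⟨M', hM'card, hSM'⟩ := Sylow.exists_subgroup_card_pow_prime_le p
    (show p ^ (e - 1) ∣ Nat.card P by rw [he]; exact pow_dvd_pow p (Nat.sub_le e 1))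
    (S.subgroupOf P) hs (by omega)
  have hidx : M'.index = p := by
    have h1 := M'.card_mul_index
    rw [hM'card, he] at h1
    have h2 : p ^ e = p ^ (e - 1) * p := by
      rw [← pow_succ]; congr 1; omega
    rw [h2] at h1
    exact Nat.eq_of_mul_eq_mul_left (pow_pos hp.out.pos _) h1
  have hM'n : M'.Normal := by
    apply Subgroup.normal_of_index_eq_minFac_card
    rw [hidx, he, Nat.Prime.pow_minFac hp.out (by omega)]
  have hqcard : Nat.card (↥P ⧸ M') = p := by
    rw [← Subgroup.index_eq_card]; exact hidx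
  have hne' : M' ≠ ⊤ := by
    intro h
    rw [h, Subgroup.index_top] at hidx
    exact hp.out.one_lt.ne hidx
  obtain ⟨x, hx⟩ : ∃ x : ↥P, x ∉ M' := by
    by_contra h
    push Not at h
    exact hne' (eq_top_iff.mpr fun x _ => h x)
  have hxq : (QuotientGroup.mk x : ↥P ⧸ M') ≠ 1 := by
    rwa [Ne, QuotientGroup.eq_one_iff]
  have hgen := zpowers_eq_top_of_prime_card hqcard hxq
  have hxp : (QuotientGroup.mk x : ↥P ⧸ M') ^ p = 1 := by
    rw [← hqcard]; exact pow_card_eq_one'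
  have hord : orderOf (QuotientGroup.mk x : ↥P ⧸ M') = p := orderOf_eq_prime hxp hxq
  refine ⟨M'.map P.subtype, ?_, ?_, ?_, ?_, (x : Γ), x.2, ?_, ?_⟩
  · intro g hg
    exact ⟨⟨g, hSP hg⟩, hSM' (Subgroup.mem_subgroupOf.mpr hg), rfl⟩
  · exact Subgroup.map_subtype_le _
  · rintro g hg _ ⟨m, hm, rfl⟩
    refine ⟨⟨g, hg⟩ * m * ⟨g, hg⟩⁻¹, hM'n.conj_mem m hm ⟨g, hg⟩, rfl⟩
  · rw [Subgroup.card_map_of_injective P.subtype_injective, hM'card, he]
    exact Nat.pow_lt_pow_right hp.out.one_lt (by omega)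
  · intro j
    have h1 : (x : Γ) ^ j ∈ M'.map P.subtype ↔ x ^ j ∈ M' := by
      constructor
      · rintro ⟨y, hy, hyx⟩
        have : y = x ^ j := Subtype.ext (by simpa using hyx)
        rwa [← this]
      · intro h
        exact ⟨x ^ j, h, by simp⟩
    rw [h1, ← QuotientGroup.eq_one_iff, QuotientGroup.mk_pow, ← hord, orderOf_dvd_iff_pow_eq_one]
  · intro g hg
    have h1 : (QuotientGroup.mk ⟨g, hg⟩ : ↥P ⧸ M') ∈ Subgroup.zpowers (QuotientGroup.mk x : ↥P ⧸ M') := by
      rw [hgen]; exact Subgroup.mem_top _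
    rw [← mem_powers_iff_mem_zpowers, Submonoid.mem_powers_iff] at h1
    obtain ⟨n, hn⟩ := h1
    refine ⟨n % p, Nat.mod_lt _ hp.out.pos, ?_⟩
    have h2 : (QuotientGroup.mk x : ↥P ⧸ M') ^ (n % p) = QuotientGroup.mk ⟨g, hg⟩ := by
      rw [← hn, ← hord, pow_mod_orderOf]
    rw [← QuotientGroup.mk_pow, QuotientGroup.eq] at h2
    refine ⟨((x ^ (n % p))⁻¹ * ⟨g, hg⟩ : ↥P), ⟨_, h2, rfl⟩, ?_⟩
    simp

theorem orb_iff (H : Subgroup Γ) (α : I) :
    ∀ g ∈ H, ∀ i, g • i ∈ {i | ∃ k ∈ H, k • α = i} ↔ i ∈ {i | ∃ k ∈ H, k • α = i} := by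
  intro g hg i
  constructor
  · rintro ⟨k, hk, hki⟩
    refine ⟨g⁻¹ * k, H.mul_mem (H.inv_mem hg) hk, ?_⟩
    rw [mul_smul, hki, inv_smul_smul]
  · rintro ⟨k, hk, rfl⟩
    exact ⟨g * k, H.mul_mem hg hk, mul_smul _ _ _⟩

theorem gluck_aux {p : ℕ} [hp : Fact p.Prime] (hp2 : p ≠ 2) :
    ∀ n : ℕ, ∀ (P : Subgroup Γ) (J : Set I), Finite P → IsPGroup p P → J.Finite →
      (∀ g ∈ P, ∀ i ∈ J, g • i ∈ J) → Nat.card P + J.ncard ≤ n →
      ∃ Δ : Set I, Δ ⊆ J ∧ ∀ g ∈ P, (∀ i, g • i ∈ Δ ↔ i ∈ Δ) → ∀ i ∈ J, g • i = i := by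
  intro n
  induction n with
  | zero =>
    intro P J hPf hP hJf hJ hn
    have : 0 < Nat.card P := Nat.card_pos
    omega
  | succ n ih =>
    intro P J hPf hP hJf hJ hn
    by_cases htriv : ∀ g ∈ P, ∀ i ∈ J, g • i = i
    · exact ⟨∅, Set.empty_subset _, fun g hg _ => htriv g hg⟩
    push Not at htriv
    obtain ⟨g₀, hg₀, α, hα, hg₀α⟩ := htriv
    set O : Set I := {i | ∃ g ∈ P, g • α = i} with hO
    have hαO : α ∈ O := ⟨1, P.one_mem, one_smul _ _⟩
    have hOJ : O ⊆ J := by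
      rintro _ ⟨g, hg, rfl⟩
      exact hJ g hg α hα
    have hOiff : ∀ g ∈ P, ∀ i, g • i ∈ O ↔ i ∈ O := orb_iff P α
    by_cases hOeq : O = J
    · -- transitive case
      set S : Subgroup Γ := P ⊓ MulAction.stabilizer Γ α with hS
      have hSne : S ≠ P := by
        intro h
        have : g₀ ∈ S := by rw [h]; exact hg₀
        exact hg₀α (MulAction.mem_stabilizer_iff.mp this.2)
      obtain ⟨M, hSM, hMP, hMn, hMcard, x, hxP, hxj, hdec⟩ :=
        exists_maximal_normal P S hP inf_le_left hSne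
      have : Finite M := Finite.of_injective _ (Subgroup.inclusion_injective hMP)
      have hxjP : ∀ j : ℕ, x ^ j ∈ P := fun j => P.pow_mem hxP j
      set J₀ : Set I := {i | ∃ m ∈ M, m • α = i} with hJ₀
      have hJ₀J : J₀ ⊆ J := by
        rintro _ ⟨m, hm, rfl⟩
        exact hJ m (hMP hm) α hα
      have hJ₀iff : ∀ m ∈ M, ∀ i, m • i ∈ J₀ ↔ i ∈ J₀ := orb_iff M α
      have hJ₀fin : J₀.Finite := hJf.subset hJ₀J
      obtain ⟨Δ₀, hΔ₀J, hΔ₀⟩ := ih M J₀ inferInstance (hP.to_le hMP) hJ₀fin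
        (fun m hm i hi => (hJ₀iff m hm i).mpr hi)
        (by have := Set.ncard_le_ncard hJ₀J hJf; omega)
      -- the sets `T j`
      set T : ℕ → Set I := fun j => if j = p - 1 then J₀ \ Δ₀ else Δ₀ with hT
      have hTsub : ∀ j, T j ⊆ J₀ := by
        intro j
        simp only [hT]
        split_ifs
        · exact Set.sdiff_subset
        · exact hΔ₀J
      have hTstab : ∀ m ∈ M, ∀ j, (∀ i, m • i ∈ T j ↔ i ∈ T j) → ∀ i ∈ J₀, m • i = i := by
        intro m hm j hst
        apply hΔ₀ m hm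
        simp only [hT] at hst
        split_ifs at hst with hj
        · intro i
          by_cases hi : i ∈ J₀
          · have h1 := hst i
            have h2 : m • i ∈ J₀ := (hJ₀iff m hm i).mpr hi
            simp only [Set.mem_sdiff, hi, h2, true_and] at h1
            exact not_iff_not.mp h1
          · have h2 : m • i ∉ J₀ := fun h => hi ((hJ₀iff m hm i).mp h)
            exact ⟨fun h => absurd (hΔ₀J h) h2, fun h => absurd (hΔ₀J h) hi⟩
        · exact hst
      -- uniqueness of the block index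
      have hpowM : ∀ a b : ℕ, a < p → b < p → (x ^ a)⁻¹ * x ^ b ∈ M → a = b := by
        intro a b ha hb h
        rcases le_total a b with hab | hab
        · have h1 : (x ^ a)⁻¹ * x ^ b = x ^ (b - a) := by
            rw [pow_sub x hab, ((Commute.refl x).pow_pow b a).inv_right.eq]
          rw [h1, hxj] at h
          have := Nat.eq_zero_of_dvd_of_lt h (by omega)
          omega
        · have h1 : ((x ^ a)⁻¹ * x ^ b)⁻¹ = x ^ (a - b) := by
            rw [pow_sub x hab, mul_inv_rev, inv_inv, ((Commute.refl x).pow_pow b a).inv_left.eq]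
          have h2 := M.inv_mem h
          rw [h1, hxj] at h2
          have := Nat.eq_zero_of_dvd_of_lt h2 (by omega)
          omega
      have huniq : ∀ a b : ℕ, a < p → b < p → ∀ i ∈ J₀, ∀ i' ∈ J₀,
          x ^ a • i = x ^ b • i' → a = b := by
        rintro a b ha hb _ ⟨m, hm, rfl⟩ _ ⟨m', hm', rfl⟩ h
        have h1 : (m⁻¹ * ((x ^ a)⁻¹ * x ^ b) * m') • α = α := by
          rw [mul_smul, mul_smul, mul_smul, ← h, inv_smul_smul, inv_smul_smul]
        have h2 : m⁻¹ * ((x ^ a)⁻¹ * x ^ b) * m' ∈ M := by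
          apply hSM
          refine ⟨?_, MulAction.mem_stabilizer_iff.mpr h1⟩
          exact P.mul_mem (P.mul_mem (P.inv_mem (hMP hm))
            (P.mul_mem (P.inv_mem (hxjP a)) (hxjP b))) (hMP hm')
        have h3 : (x ^ a)⁻¹ * x ^ b = m * (m⁻¹ * ((x ^ a)⁻¹ * x ^ b) * m') * m'⁻¹ := by group
        apply hpowM a b ha hb
        rw [h3]
        exact M.mul_mem (M.mul_mem hm h2) (M.inv_mem hm')
      set Δ : Set I := {i | ∃ j < p, ∃ i₀ ∈ T j, i = x ^ j • i₀} with hΔ
      have hΔJ : Δ ⊆ J := by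
        rintro _ ⟨j, _, i₀, hi₀, rfl⟩
        exact hJ _ (hxjP j) _ (hJ₀J (hTsub j hi₀))
      have hΔmem : ∀ j < p, ∀ i' ∈ J₀, x ^ j • i' ∈ Δ ↔ i' ∈ T j := by
        intro j hj i' hi'
        constructor
        · rintro ⟨j', hj', i₀, hi₀, h⟩
          have := huniq j j' hj hj' i' hi' i₀ (hTsub j' hi₀) h
          subst this
          rw [smul_left_cancel_iff] at h
          rwa [h]
        · intro h
          exact ⟨j, hj, i', h, rfl⟩
      have hconjM : ∀ m ∈ M, ∀ j : ℕ, (x ^ j)⁻¹ * m * x ^ j ∈ M := by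
        intro m hm j
        have := hMn (x ^ j)⁻¹ (P.inv_mem (hxjP j)) m hm
        rwa [inv_inv] at this
      refine ⟨Δ, hΔJ, ?_⟩
      intro g hg hstab
      obtain ⟨k, hk, m, hm, rfl⟩ := hdec g hg
      rcases Nat.eq_zero_or_pos k with hk0 | hk0
      · -- `g ∈ M`
        subst hk0
        rw [pow_zero, one_mul] at hstab ⊢
        intro i hi
        rw [← hOeq] at hi
        obtain ⟨g', hg', rfl⟩ := hi
        obtain ⟨j, hj, m', hm', rfl⟩ := hdec g' hg'
        set i₀ : I := m' • α with hi₀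
        have hi₀J : i₀ ∈ J₀ := ⟨m', hm', rfl⟩
        set mj := (x ^ j)⁻¹ * m * x ^ j with hmj
        have hmjM : mj ∈ M := hconjM m hm j
        have hmove : ∀ i' : I, m • (x ^ j • i') = x ^ j • (mj • i') := by
          intro i'
          rw [hmj, ← mul_smul, ← mul_smul]
          congr 1
          group
        have hst : ∀ i', mj • i' ∈ T j ↔ i' ∈ T j := by
          intro i'
          by_cases hi' : i' ∈ J₀
          · have hi'' : mj • i' ∈ J₀ := (hJ₀iff mj hmjM i').mpr hi'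
            rw [← hΔmem j hj _ hi'', ← hΔmem j hj _ hi', ← hmove, hstab]
          · have hi'' : mj • i' ∉ J₀ := fun h => hi' ((hJ₀iff mj hmjM i').mp h)
            exact ⟨fun h => absurd (hTsub j h) hi'', fun h => absurd (hTsub j h) hi'⟩
        have htr := hTstab mj hmjM j hst i₀ hi₀J
        rw [mul_smul, hmove, htr]
      · -- `g ∉ M`: impossible
        exfalso
        set j := p - 1 - k with hj
        have hjlt : j < p - 1 := by omega
        have hjk : j + k = p - 1 := by omega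
        set m'' := (x ^ j)⁻¹ * m * x ^ j with hm''
        have hm''M : m'' ∈ M := hconjM m hm j
        have hmove : ∀ i' : I, (x ^ k * m) • (x ^ j • i') = x ^ (p - 1) • (m'' • i') := by
          intro i'
          rw [hm'', ← mul_smul, ← mul_smul]
          congr 1
          rw [← hjk, pow_add]
          group
        have hp1 : p - 1 < p := by have := hp.out.pos; omega
        have hTj : T j = Δ₀ := by
          simp only [hT]
          rw [if_neg (by omega)]
        have hTp : T (p - 1) = J₀ \ Δ₀ := by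
          simp only [hT, if_true]
        have hcl : ∀ i' ∈ J₀, m'' • i' ∈ J₀ \ Δ₀ ↔ i' ∈ Δ₀ := by
          intro i' hi'
          have hi'' : m'' • i' ∈ J₀ := (hJ₀iff m'' hm''M i').mpr hi'
          rw [← hTp, ← hTj, ← hΔmem (p - 1) hp1 _ hi'', ← hΔmem j (by omega) _ hi', ← hmove, hstab]
        have himg : (fun i => m'' • i) '' Δ₀ = J₀ \ Δ₀ := by
          ext y
          constructor
          · rintro ⟨i', hi', rfl⟩
            exact (hcl i' (hΔ₀J hi')).mpr hi'
          · intro hy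
            have h1 : m''⁻¹ • y ∈ J₀ := (hJ₀iff m''⁻¹ (M.inv_mem hm''M) y).mpr hy.1
            refine ⟨m''⁻¹ • y, ?_, smul_inv_smul _ _⟩
            rw [← hcl _ h1, smul_inv_smul]
            exact hy
        have hc1 : (J₀ \ Δ₀).ncard = Δ₀.ncard := by
          rw [← himg]
          exact Set.ncard_image_of_injective _ (MulAction.injective m'')
        have hc2 : (J₀ \ Δ₀).ncard = J₀.ncard - Δ₀.ncard :=
          Set.ncard_sdiff hΔ₀J (hJ₀fin.subset hΔ₀J)
        have hc3 : Δ₀.ncard ≤ J₀.ncard := Set.ncard_le_ncard hΔ₀J hJ₀fin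
        -- `J₀` has odd size
        have horb : J₀ = MulAction.orbit ↥M α := by
          ext i
          constructor
          · rintro ⟨m, hm, rfl⟩
            exact ⟨⟨m, hm⟩, rfl⟩
          · rintro ⟨⟨m, hm⟩, rfl⟩
            exact ⟨m, hm, rfl⟩
        have : Finite ↥(MulAction.orbit ↥M α) := by
          rw [← horb]; exact hJ₀fin.to_subtype
        obtain ⟨e, he⟩ := (hP.to_le hMP).card_orbit α
        have hodd : Odd J₀.ncard := by
          rw [horb, ← Nat.card_coe_set_eq, he]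
          exact (hp.out.odd_of_ne_two hp2).pow
        rcases hodd with ⟨t, ht⟩
        omega
    · -- intransitive case
      obtain ⟨β, hβJ, hβO⟩ : ∃ β ∈ J, β ∉ O := by
        by_contra h
        push Not at h
        exact hOeq (Set.Subset.antisymm hOJ h)
      set J₂ : Set I := J \ O with hJ₂
      have hO_lt : O.ncard < J.ncard := Set.ncard_lt_ncard ⟨hOJ, fun h => hβO (h hβJ)⟩ hJf
      have hJ₂_lt : J₂.ncard < J.ncard :=
        Set.ncard_lt_ncard ⟨Set.sdiff_subset, fun h => (h hα).2 hαO⟩ hJf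
      set K₁ : Subgroup Γ := P ⊓ fixingSubgroup Γ O with hK₁
      have hK₁P : K₁ ≤ P := inf_le_left
      have : Finite K₁ := Finite.of_injective _ (Subgroup.inclusion_injective hK₁P)
      have hK₁card : Nat.card K₁ ≤ Nat.card P := Subgroup.card_le_of_le hK₁P
      obtain ⟨Δ₁, hΔ₁O, hΔ₁⟩ := ih P O hPf hP (hJf.subset hOJ)
        (fun g hg i hi => (hOiff g hg i).mpr hi) (by omega)
      obtain ⟨Δ₂, hΔ₂J, hΔ₂⟩ := ih K₁ J₂ inferInstance (hP.to_le hK₁P) (hJf.subset Set.sdiff_subset)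
        (fun g hg i hi => ⟨hJ g (hK₁P hg) i hi.1, fun h => hi.2 ((hOiff g (hK₁P hg) i).mp h)⟩)
        (by omega)
      refine ⟨Δ₁ ∪ Δ₂, Set.union_subset (hΔ₁O.trans hOJ) (hΔ₂J.trans Set.sdiff_subset), ?_⟩
      intro g hg hstab
      have h1 : ∀ i, g • i ∈ Δ₁ ↔ i ∈ Δ₁ := by
        intro i
        have key : ∀ j, j ∈ Δ₁ ↔ j ∈ Δ₁ ∪ Δ₂ ∧ j ∈ O := by
          intro j
          constructor
          · intro h; exact ⟨Or.inl h, hΔ₁O h⟩
          · rintro ⟨h | h, hjO⟩
            · exact h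
            · exact absurd hjO (hΔ₂J h).2
        rw [key, key, hstab, hOiff g hg]
      have h2 : ∀ i, g • i ∈ Δ₂ ↔ i ∈ Δ₂ := by
        intro i
        have key : ∀ j, j ∈ Δ₂ ↔ j ∈ Δ₁ ∪ Δ₂ ∧ j ∉ O := by
          intro j
          constructor
          · intro h; exact ⟨Or.inr h, (hΔ₂J h).2⟩
          · rintro ⟨h | h, hjO⟩
            · exact absurd (hΔ₁O h) hjO
            · exact h
        rw [key, key, hstab, hOiff g hg]
      have hg1 : ∀ i ∈ O, g • i = i := hΔ₁ g hg h1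
      have hgK : g ∈ K₁ := ⟨hg, (mem_fixingSubgroup_iff Γ).mpr hg1⟩
      have hg2 := hΔ₂ g hgK h2
      intro i hi
      by_cases hiO : i ∈ O
      · exact hg1 i hiO
      · exact hg2 i ⟨hi, hiO⟩

/-- **Gluck's lemma for odd `p`-groups**: a finite `p`-group (`p` odd) acting on a finite invariant set
`J` has a subset `Δ ⊆ J` whose setwise stabilizer fixes `J` pointwise. -/
theorem exists_subset_stabilizer_trivial {p : ℕ} [hp : Fact p.Prime] (hp2 : p ≠ 2)
    (P : Subgroup Γ) [Finite P] (hP : IsPGroup p P) (J : Set I) (hJf : J.Finite)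
    (hJ : ∀ g ∈ P, ∀ i ∈ J, g • i ∈ J) :
    ∃ Δ : Set I, Δ ⊆ J ∧ ∀ g ∈ P, (∀ i, g • i ∈ Δ ↔ i ∈ Δ) → ∀ i ∈ J, g • i = i :=
  gluck_aux hp2 _ P J inferInstance hP hJf hJ le_rfl

end Gluck

end Cfsg.Agent.Lib.Helper22.BSOdd
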