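import Mathlib
import Cfsg.Agent.Lib.Helper1.TraceIdentity

set_option autoImplicit false
open Pointwise

namespace Cfsg.Agent.Lib.Helper22.BSOdd

open Cfsg.Agent.Lib.Helper1 (fixSub mem_fixSub trace_identity)

section Act

variable {W : Type*} [CommGroup W]

/-- common fixed points of a group of automorphisms -/
def fixAll (K : Subgroup (MulAut W)) : Subgroup W where
  carrier := {w | ∀ k ∈ K, k w = w}
  one_mem' := fun k _ => map_one k
  mul_mem' := by
    intro a b ha hb k hk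
    rw [map_mul, ha k hk, hb k hk]
  inv_mem' := by
    intro a ha k hk
    rw [map_inv, ha k hk]

theorem mem_fixAll {K : Subgroup (MulAut W)} {w : W} : w ∈ fixAll K ↔ ∀ k ∈ K, k w = w := Iff.rfl

theorem mem_fixAll_iff_le {K : Subgroup (MulAut W)} {w : W} :
    w ∈ fixAll K ↔ K ≤ MulAction.stabilizer (MulAut W) w := by
  rw [mem_fixAll]
  constructor
  · intro h k hk
    exact MulAction.mem_stabilizer_iff.mpr (h k hk)
  · intro h k hk
    exact MulAction.mem_stabilizer_iff.mp (h hk)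

theorem fixAll_anti {K L : Subgroup (MulAut W)} (h : K ≤ L) : fixAll L ≤ fixAll K :=
  fun _ hw k hk => hw k (h hk)

theorem fixAll_sup (K L : Subgroup (MulAut W)) : fixAll (K ⊔ L) = fixAll K ⊓ fixAll L := by
  ext w
  rw [Subgroup.mem_inf, mem_fixAll_iff_le, mem_fixAll_iff_le, mem_fixAll_iff_le, sup_le_iff]

theorem fixAll_zpowers (e : MulAut W) : fixAll (Subgroup.zpowers e) = fixSub e := by
  ext w
  rw [mem_fixAll_iff_le, Subgroup.zpowers_le, MulAction.mem_stabilizer_iff, mem_fixSub]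
  rfl

theorem fixAll_bot : fixAll (⊥ : Subgroup (MulAut W)) = ⊤ := by
  ext w
  simp only [mem_fixAll, Subgroup.mem_bot, Subgroup.mem_top, iff_true]
  rintro k rfl
  rfl

/-- a group of automorphisms acting trivially is trivial -/
theorem eq_bot_of_fixAll_eq_top {K : Subgroup (MulAut W)} (h : fixAll K = ⊤) : K = ⊥ := by
  rw [eq_bot_iff]
  intro k hk
  rw [Subgroup.mem_bot]
  ext w
  have : w ∈ fixAll K := by rw [h]; exact Subgroup.mem_top _
  exact this k hk

theorem smul_fixAll (x : MulAut W) (K : Subgroup (MulAut W)) {w : W} (hw : w ∈ fixAll K)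
    {k : MulAut W} (hk : x⁻¹ * k * x ∈ K) : k (x w) = x w := by
  have h1 := hw _ hk
  have h2 : k (x w) = x ((x⁻¹ * k * x) w) := by
    simp only [MulAut.mul_apply, MulAut.apply_inv_self]
  rw [h2, h1]

variable [Finite W]

/-- the norm map of a group of automorphisms -/
noncomputable def avg (K : Subgroup (MulAut W)) : W →* W where
  toFun w := ∏ᶠ k : ↥K, (k : MulAut W) w
  map_one' := by simp
  map_mul' := by
    intro a b
    simp only [map_mul]
    exact finprod_mul_distrib (Set.toFinite _) (Set.toFinite _)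

theorem avg_apply (K : Subgroup (MulAut W)) (w : W) : avg K w = ∏ᶠ k : ↥K, (k : MulAut W) w := rfl

omit [Finite W] in
theorem aut_finprod {α : Type*} [Finite α] (x : MulAut W) (f : α → W) :
    x (∏ᶠ i, f i) = ∏ᶠ i, x (f i) :=
  MonoidHom.map_finprod x.toMonoidHom (Set.toFinite _)

theorem avg_mem_fixAll (K : Subgroup (MulAut W)) (w : W) : avg K w ∈ fixAll K := by
  intro k₀ hk₀
  rw [avg_apply, aut_finprod]
  have h1 := finprod_comp_equiv (Equiv.mulLeft (⟨k₀, hk₀⟩ : ↥K))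
    (f := fun k : ↥K => (k : MulAut W) w)
  rw [← h1]
  rfl

theorem avg_of_mem_fixAll (K : Subgroup (MulAut W)) {w : W} (hw : w ∈ fixAll K) :
    avg K w = w ^ Nat.card K := by
  classical
  have : Fintype ↥K := Fintype.ofFinite _
  rw [avg_apply, finprod_eq_prod_of_fintype]
  have : ∀ k : ↥K, (k : MulAut W) w = w := fun k => hw k k.2
  simp only [this]
  rw [Finset.prod_const, Finset.card_univ, Nat.card_eq_fintype_card]

/-- an automorphism normalizing `K` commutes with the norm map of `K` -/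
theorem avg_comm (K : Subgroup (MulAut W)) (x : MulAut W)
    (hx : ∀ k ∈ K, x * k * x⁻¹ ∈ K) (hx' : ∀ k ∈ K, x⁻¹ * k * x ∈ K) (w : W) :
    x (avg K w) = avg K (x w) := by
  rw [avg_apply, avg_apply, aut_finprod]
  let φ : ↥K ≃ ↥K :=
    { toFun := fun k => ⟨x * k * x⁻¹, hx k k.2⟩
      invFun := fun k => ⟨x⁻¹ * k * x, hx' k k.2⟩
      left_inv := fun k => Subtype.ext (by simp [mul_assoc])
      right_inv := fun k => Subtype.ext (by simp [mul_assoc]) }
  have h1 := finprod_comp_equiv φ (f := fun k : ↥K => (k : MulAut W) (x w))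
  rw [← h1]
  apply finprod_congr
  intro k
  show x ((k : MulAut W) w) = (x * (k : MulAut W) * x⁻¹) (x w)
  simp only [MulAut.mul_apply, MulAut.inv_apply_self]

theorem avg_comm_of_commute (K : Subgroup (MulAut W)) (x : MulAut W)
    (hx : ∀ k ∈ K, x * k = k * x) (w : W) : x (avg K w) = avg K (x w) := by
  apply avg_comm
  · intro k hk
    rw [hx k hk, mul_inv_cancel_right]; exact hk
  · intro k hk
    rw [mul_assoc, ← hx k hk, inv_mul_cancel_left]; exact hk

/-! ### coprimality -/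

omit [Finite W] in
theorem mem_of_pow_mem {n : ℕ} (hn : n.Coprime (Nat.card W)) (S : Subgroup W) {w : W}
    (h : w ^ n ∈ S) : w ∈ S := by
  have h1 : n.Coprime (orderOf w) := Nat.Coprime.coprime_dvd_right (orderOf_dvd_natCard w) hn
  obtain ⟨m, hm⟩ := exists_pow_eq_self_of_coprime h1
  rw [← hm]
  exact S.pow_mem h m

omit [Finite W] in
theorem eq_one_of_pow_eq_one {n : ℕ} (hn : n.Coprime (Nat.card W)) {w : W} (h : w ^ n = 1) :
    w = 1 := by
  have : w ∈ (⊥ : Subgroup W) := mem_of_pow_mem hn ⊥ (by rw [h]; exact Subgroup.one_mem _)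
  exact Subgroup.mem_bot.mp this

theorem card_coprime_of_isPGroup {p : ℕ} [hp : Fact p.Prime] (hcop : (Nat.card W).Coprime p)
    {K : Subgroup (MulAut W)} (hK : IsPGroup p K) : (Nat.card K).Coprime (Nat.card W) := by
  obtain ⟨k, hk⟩ := IsPGroup.iff_card.mp hK
  rw [hk]
  exact (Nat.Coprime.pow_right k hcop).symm

omit [Finite W] in
theorem isPGroup_of_exp {p : ℕ} {K : Subgroup (MulAut W)} (hexp : ∀ y ∈ K, y ^ p = 1) :
    IsPGroup p K := by
  intro y
  refine ⟨1, ?_⟩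
  rw [pow_one]
  exact Subtype.ext (by simpa using hexp y y.2)

/-! ### splitting `W = C_W(K) × ker (norm)` -/

theorem fixAll_inf_ker_avg {K : Subgroup (MulAut W)} (hK : (Nat.card K).Coprime (Nat.card W)) :
    fixAll K ⊓ (avg K).ker = ⊥ := by
  rw [eq_bot_iff]
  intro w hw
  rw [Subgroup.mem_inf, MonoidHom.mem_ker] at hw
  rw [Subgroup.mem_bot]
  have h1 := avg_of_mem_fixAll K hw.1
  rw [hw.2] at h1
  exact eq_one_of_pow_eq_one hK h1.symm

theorem exists_mul_of_coprime {K : Subgroup (MulAut W)} (hK : (Nat.card K).Coprime (Nat.card W))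
    (w : W) : ∃ f ∈ fixAll K, ∃ m ∈ (avg K).ker, w = f * m := by
  have h1 : w ^ Nat.card K ∈ fixAll K ⊔ (avg K).ker := by
    have h2 : w ^ Nat.card K = avg K w * (w ^ Nat.card K * (avg K w)⁻¹) := by
      rw [mul_comm (w ^ Nat.card K), mul_inv_cancel_left]
    rw [h2]
    apply Subgroup.mul_mem_sup (avg_mem_fixAll K w)
    rw [MonoidHom.mem_ker, map_mul, map_pow, map_inv, avg_of_mem_fixAll K (avg_mem_fixAll K w),
      mul_inv_cancel]
  have h3 := mem_of_pow_mem hK _ h1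
  obtain ⟨f, hf, m, hm, hfm⟩ := Subgroup.mem_sup.mp h3
  exact ⟨f, hf, m, hm, hfm.symm⟩

/-! ### independence -/

theorem indep_of_pairwise {ι : Type*} [DecidableEq ι] (s : Finset ι)
    (e : ι → Subgroup (MulAut W)) (u : ι → W)
    (hcard : ∀ i ∈ s, (Nat.card (e i)).Coprime (Nat.card W))
    (hu : ∀ i ∈ s, u i ∈ fixAll (e i))
    (hcomm : ∀ i ∈ s, ∀ j ∈ s, ∀ a ∈ e i, ∀ b ∈ e j, a * b = b * a)
    (hpair : ∀ i ∈ s, ∀ j ∈ s, i ≠ j → fixAll (e i) ⊓ fixAll (e j) = ⊥)
    (hprod : ∏ i ∈ s, u i = 1) : ∀ i ∈ s, u i = 1 := by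
  intro i₀ hi₀
  have h1 : ∏ i ∈ s, avg (e i₀) (u i) = 1 := by
    rw [← map_prod, hprod, map_one]
  have h2 : ∀ i ∈ s, i ≠ i₀ → avg (e i₀) (u i) = 1 := by
    intro i hi hne
    have h3 : avg (e i₀) (u i) ∈ fixAll (e i₀) ⊓ fixAll (e i) := by
      refine ⟨avg_mem_fixAll _ _, ?_⟩
      intro b hb
      rw [avg_comm_of_commute (e i₀) b (fun k hk => (hcomm i₀ hi₀ i hi k hk b hb).symm), hu i hi b hb]
    rw [hpair i₀ hi₀ i hi hne.symm] at h3
    exact Subgroup.mem_bot.mp h3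
  rw [Finset.prod_eq_single_of_mem i₀ hi₀ h2, avg_of_mem_fixAll _ (hu i₀ hi₀)] at h1
  exact eq_one_of_pow_eq_one (hcard i₀ hi₀) h1

/-! ### generation by the fixed points of maximal subgroups -/

/-- `K` is a maximal proper subgroup of `Y` -/
def IsCoatomIn (K Y : Subgroup (MulAut W)) : Prop :=
  K < Y ∧ ∀ K' : Subgroup (MulAut W), K < K' → K' ≤ Y → K' = Y

theorem fixAll_le_iSup_coatoms {p : ℕ} [hp : Fact p.Prime] (hcop : (Nat.card W).Coprime p)
    (Y : Subgroup (MulAut W)) (hab : ∀ a ∈ Y, ∀ b ∈ Y, a * b = b * a)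
    (hexp : ∀ y ∈ Y, y ^ p = 1) (hfix : fixAll Y = ⊥) :
    ∀ H : Subgroup (MulAut W), H ≤ Y →
      fixAll H ≤ ⨆ K ∈ {K : Subgroup (MulAut W) | IsCoatomIn K Y ∧ H ≤ K}, fixAll K := by
  intro H
  refine WellFoundedGT.induction
    (motive := fun H => H ≤ Y →
      fixAll H ≤ ⨆ K ∈ {K : Subgroup (MulAut W) | IsCoatomIn K Y ∧ H ≤ K}, fixAll K) H ?_
  intro H ih hHY
  by_cases hHeq : H = Y
  · rw [hHeq, hfix]; exact bot_le
  have hHlt : H < Y := lt_of_le_of_ne hHY hHeq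
  by_cases hco : ∀ K' : Subgroup (MulAut W), H < K' → K' ≤ Y → K' = Y
  · exact le_iSup₂ (f := fun K (_ : K ∈ {K : Subgroup (MulAut W) | IsCoatomIn K Y ∧ H ≤ K}) =>
      fixAll K) H ⟨⟨hHlt, hco⟩, le_rfl⟩
  push Not at hco
  obtain ⟨H', hHH', hH'Y, hH'ne⟩ := hco
  obtain ⟨e₂, he₂H', he₂H⟩ := SetLike.exists_of_lt hHH'
  obtain ⟨e₁, he₁Y, he₁H'⟩ := SetLike.exists_of_lt (lt_of_le_of_ne hH'Y hH'ne)
  have he₂Y : e₂ ∈ Y := hH'Y he₂H'
  set S : Subgroup W := ⨆ K ∈ {K : Subgroup (MulAut W) | IsCoatomIn K Y ∧ H ≤ K}, fixAll K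
    with hS
  -- fixed points of elements outside `H`
  have hstep : ∀ e ∈ Y, e ∉ H → (fixSub e).map (avg H) ≤ S := by
    intro e heY heH
    rintro _ ⟨v, hv, rfl⟩
    have hv' : e v = v := hv
    have h1 : avg H v ∈ fixAll (H ⊔ Subgroup.zpowers e) := by
      rw [fixAll_sup, fixAll_zpowers]
      refine ⟨avg_mem_fixAll _ _, ?_⟩
      show e (avg H v) = avg H v
      rw [avg_comm_of_commute H e (fun k hk => hab e heY k (hHY hk)), hv']
    have hlt : H < H ⊔ Subgroup.zpowers e := by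
      apply lt_of_le_of_ne le_sup_left
      intro h
      apply heH
      rw [h]
      exact Subgroup.mem_sup_right (Subgroup.mem_zpowers e)
    have hle : H ⊔ Subgroup.zpowers e ≤ Y := sup_le hHY (by rwa [Subgroup.zpowers_le])
    have h2 := ih _ hlt hle h1
    refine (iSup₂_le ?_ : _ ≤ S) h2
    intro K hK
    exact le_iSup₂ (f := fun K (_ : K ∈ {K : Subgroup (MulAut W) | IsCoatomIn K Y ∧ H ≤ K}) =>
      fixAll K) K ⟨hK.1, le_sup_left.trans hK.2⟩
  intro w hw
  have ht := trace_identity e₁ e₂ (hab e₁ he₁Y e₂ he₂Y) (hexp e₁ he₁Y) (hexp e₂ he₂Y) w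
  have h3 : avg H (w ^ p) ∈ S := by
    have h4 : avg H (w ^ p) ∈ ((⨆ j : ℕ, fixSub (e₁ * e₂ ^ j)) ⊔ fixSub e₂).map (avg H) :=
      Subgroup.mem_map_of_mem _ ht
    rw [Subgroup.map_sup, Subgroup.map_iSup] at h4
    refine (sup_le (iSup_le ?_) ?_ : _ ≤ S) h4
    · intro j
      apply hstep _ (Y.mul_mem he₁Y (Y.pow_mem he₂Y j))
      intro h
      apply he₁H'
      have h5 : e₁ = (e₁ * e₂ ^ j) * (e₂ ^ j)⁻¹ := by group
      rw [h5]
      exact H'.mul_mem (hHH'.le h) (H'.inv_mem (H'.pow_mem he₂H' j))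
    · exact hstep e₂ he₂Y he₂H
  rw [avg_of_mem_fixAll H (Subgroup.pow_mem _ hw p), ← pow_mul] at h3
  have hHp : IsPGroup p H := isPGroup_of_exp (fun y hy => hexp y (hHY hy))
  have hc : (p * Nat.card H).Coprime (Nat.card W) :=
    Nat.Coprime.mul_left hcop.symm (card_coprime_of_isPGroup hcop hHp)
  exact mem_of_pow_mem hc S h3

end Act

end Cfsg.Agent.Lib.Helper22.BSOdd
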