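import Mathlib
import Cfsg.Agent.Lib.Helper22.BSOddAct

set_option autoImplicit false
open Pointwise

namespace Cfsg.Agent.Lib.Helper22.BSOdd

section Res

variable {W : Type*} [CommGroup W]

theorem apply_mem_of_smul_eq {U : Subgroup W} {x : MulAut W} (hx : x • U = U) {u : W}
    (hu : u ∈ U) : x u ∈ U := by
  have h1 : x • u ∈ x • U := Subgroup.smul_mem_pointwise_smul u x U hu
  rw [hx] at h1
  exact h1

theorem inv_smul_eq_of_smul_eq {U : Subgroup W} {x : MulAut W} (hx : x • U = U) :
    x⁻¹ • U = U := by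
  rw [inv_smul_eq_iff, hx]

theorem smul_eq_of_forall_mem {U : Subgroup W} {x : MulAut W} (h1 : ∀ u ∈ U, x u ∈ U)
    (h2 : ∀ u ∈ U, x⁻¹ u ∈ U) : x • U = U := by
  ext w
  rw [Subgroup.mem_pointwise_smul_iff_inv_smul_mem]
  constructor
  · intro h
    have := h1 _ h
    rwa [MulAut.smul_def, MulAut.apply_inv_self] at this
  · intro h
    exact h2 w h

theorem mem_smul_iff {U : Subgroup W} {x : MulAut W} {w : W} : w ∈ x • U ↔ x⁻¹ w ∈ U :=
  Subgroup.mem_pointwise_smul_iff_inv_smul_mem

theorem apply_mem_smul {U : Subgroup W} (x : MulAut W) {u : W} (hu : u ∈ U) : x u ∈ x • U :=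
  Subgroup.smul_mem_pointwise_smul u x U hu

/-- restriction of automorphisms stabilizing `U` to `U` -/
def resHom (U : Subgroup W) : ↥(MulAction.stabilizer (MulAut W) U) →* MulAut ↥U where
  toFun x :=
    { toFun := fun u => ⟨(x : MulAut W) u, apply_mem_of_smul_eq (MulAction.mem_stabilizer_iff.mp x.2) u.2⟩
      invFun := fun u => ⟨(x : MulAut W)⁻¹ u,
        apply_mem_of_smul_eq (inv_smul_eq_of_smul_eq (MulAction.mem_stabilizer_iff.mp x.2)) u.2⟩
      left_inv := fun u => Subtype.ext (by simp)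
      right_inv := fun u => Subtype.ext (by simp)
      map_mul' := fun u v => Subtype.ext (by simp) }
  map_one' := by
    ext u
    rfl
  map_mul' := by
    intro x y
    ext u
    rfl

theorem resHom_apply (U : Subgroup W) (x : ↥(MulAction.stabilizer (MulAut W) U)) (u : ↥U) :
    ((resHom U x) u : W) = (x : MulAut W) (u : W) := rfl

/-- the group induced on `U` by the elements of `X` stabilizing `U` -/
def resImage (U : Subgroup W) (X : Subgroup (MulAut W)) : Subgroup (MulAut ↥U) :=
  (X.subgroupOf (MulAction.stabilizer (MulAut W) U)).map (resHom U)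

theorem mem_resImage {U : Subgroup W} {X : Subgroup (MulAut W)} {y : MulAut ↥U} :
    y ∈ resImage U X ↔ ∃ x ∈ X, ∃ hx : x • U = U,
      resHom U ⟨x, MulAction.mem_stabilizer_iff.mpr hx⟩ = y := by
  constructor
  · rintro ⟨x, hx, rfl⟩
    exact ⟨x, Subgroup.mem_subgroupOf.mp hx, MulAction.mem_stabilizer_iff.mp x.2, rfl⟩
  · rintro ⟨x, hxX, hx, rfl⟩
    exact ⟨⟨x, MulAction.mem_stabilizer_iff.mpr hx⟩, Subgroup.mem_subgroupOf.mpr hxX, rfl⟩

theorem resImage_isPGroup {p : ℕ} {U : Subgroup W} {X : Subgroup (MulAut W)} (hX : IsPGroup p X) :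
    IsPGroup p (resImage U X) :=
  (hX.comap_subtype).map _

theorem resHom_eq_one_iff {U : Subgroup W} (x : ↥(MulAction.stabilizer (MulAut W) U)) :
    resHom U x = 1 ↔ ∀ u ∈ U, (x : MulAut W) u = u := by
  constructor
  · intro h u hu
    have := congrArg (fun f : MulAut ↥U => ((f ⟨u, hu⟩ : ↥U) : W)) h
    exact this
  · intro h
    ext u
    exact h u u.2

end Res

end Cfsg.Agent.Lib.Helper22.BSOdd
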