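import Mathlib
import Cfsg.Agent.Lib.Helper22.BSOddRes
import Cfsg.Agent.Lib.Helper22.BSOddGluck

set_option autoImplicit false
open Pointwise

namespace Cfsg.Agent.Lib.Helper22.BSOdd

open Cfsg.Agent.Lib.Helper1 (fixSub mem_fixSub)

universe u

section Imp

/-- the Main Lemma property -/
def MLProp (p : ℕ) (W : Type u) [CommGroup W] : Prop :=
  ∀ (X N : Subgroup (MulAut W)) (a : MulAut W), N ≤ X → (∀ x ∈ X, ∀ n ∈ N, x * n * x⁻¹ ∈ N) →
    IsPGroup p N → a ∈ N → a ≠ 1 → a ^ p = 1 → ∃ w : W, ∀ x ∈ X, (x * a * x⁻¹) w ≠ w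

variable {W : Type u} [CommGroup W]

/-- an `X`-invariant direct decomposition with at least two components -/
structure Decomp (X : Subgroup (MulAut W)) (𝒟 : Finset (Subgroup W)) : Prop where
  ne_bot : ∀ U ∈ 𝒟, U ≠ ⊥
  inv : ∀ x ∈ X, ∀ U ∈ 𝒟, x • U ∈ 𝒟
  indep : ∀ h : Subgroup W → W, (∀ U ∈ 𝒟, h U ∈ U) → ∏ U ∈ 𝒟, h U = 1 → ∀ U ∈ 𝒟, h U = 1
  span : ∀ e : MulAut W, (∀ U ∈ 𝒟, ∀ u ∈ U, e u = u) → e = 1
  two : ∃ U₁ ∈ 𝒟, ∃ U₂ ∈ 𝒟, U₁ ≠ U₂

variable {X : Subgroup (MulAut W)} {𝒟 : Finset (Subgroup W)}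

theorem Decomp.indep' (hD : Decomp X 𝒟) (h₁ h₂ : Subgroup W → W) (hh₁ : ∀ U ∈ 𝒟, h₁ U ∈ U)
    (hh₂ : ∀ U ∈ 𝒟, h₂ U ∈ U) (hprod : ∏ U ∈ 𝒟, h₁ U = ∏ U ∈ 𝒟, h₂ U) :
    ∀ U ∈ 𝒟, h₁ U = h₂ U := by
  intro U hU
  have := hD.indep (fun U => h₁ U * (h₂ U)⁻¹)
    (fun U hU => U.mul_mem (hh₁ U hU) (U.inv_mem (hh₂ U hU)))
    (by rw [Finset.prod_mul_distrib, Finset.prod_inv_distrib, hprod, mul_inv_cancel]) U hU
  exact mul_inv_eq_one.mp this

theorem Decomp.ne_top (hD : Decomp X 𝒟) : ∀ U ∈ 𝒟, U ≠ ⊤ := by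
  classical
  intro U hU htop
  obtain ⟨U₁, hU₁, U₂, hU₂, h12⟩ := hD.two
  obtain ⟨V, hV, hVU⟩ : ∃ V ∈ 𝒟, V ≠ U := by
    by_cases h : U₁ = U
    · exact ⟨U₂, hU₂, fun h' => h12 (h.trans h'.symm)⟩
    · exact ⟨U₁, hU₁, h⟩
  obtain ⟨⟨v, hv⟩, hv1⟩ := Subgroup.ne_bot_iff_exists_ne_one.mp (hD.ne_bot V hV)
  have hv1' : v ≠ 1 := fun h => hv1 (Subtype.ext h)
  have := hD.indep (fun T => if T = V then v else if T = U then v⁻¹ else 1) (by
    intro T hT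
    show (if T = V then v else if T = U then v⁻¹ else 1) ∈ T
    split_ifs with h1 h2
    · rw [h1]; exact hv
    · rw [h2, htop]; exact Subgroup.mem_top _
    · exact T.one_mem) (by
    rw [Finset.prod_eq_mul_of_mem V U hV hU hVU]
    · simp only [if_true, if_neg hVU.symm]
      exact mul_inv_cancel v
    · intro T _ hT
      simp only [if_neg hT.1, if_neg hT.2]) V hV
  simp only [if_true] at this
  exact hv1' this

/-- Case 2: some conjugate of `a` moves a component. -/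
theorem Decomp.ml_case2 [Finite W] {p : ℕ} [hp : Fact p.Prime] (hp2 : p ≠ 2) (hD : Decomp X 𝒟)
    (N : Subgroup (MulAut W)) (a : MulAut W) (hNX : N ≤ X)
    (hnorm : ∀ x ∈ X, ∀ n ∈ N, x * n * x⁻¹ ∈ N) (hN : IsPGroup p N) (haN : a ∈ N)
    (U₀ : Subgroup W) (hU₀ : U₀ ∈ 𝒟) (hmove : a • U₀ ≠ U₀) :
    ∃ w : W, ∀ x ∈ X, (x * a * x⁻¹) w ≠ w := by
  classical
  obtain ⟨Δ, hΔ𝒟, hΔ⟩ := exists_subset_stabilizer_trivial hp2 N hN (↑𝒟 : Set (Subgroup W))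
    𝒟.finite_toSet (fun g hg U hU => hD.inv g (hNX hg) U hU)
  -- nontrivial elements of the components
  have hex : ∀ U : Subgroup W, ∃ c : W, c ∈ U ∧ (U ∈ 𝒟 → c ≠ 1) := by
    intro U
    by_cases hU : U ∈ 𝒟
    · obtain ⟨⟨v, hv⟩, hv1⟩ := Subgroup.ne_bot_iff_exists_ne_one.mp (hD.ne_bot U hU)
      exact ⟨v, hv, fun _ h => hv1 (Subtype.ext h)⟩
    · exact ⟨1, U.one_mem, fun h => absurd h hU⟩
  choose c hcU hc1 using hex
  set f : Subgroup W → W := fun U => if U ∈ Δ then c U else 1 with hf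
  have hfU : ∀ U, f U ∈ U := by
    intro U
    simp only [hf]
    split_ifs
    · exact hcU U
    · exact U.one_mem
  have hf1 : ∀ U ∈ 𝒟, (f U ≠ 1 ↔ U ∈ Δ) := by
    intro U hU
    simp only [hf]
    split_ifs with h
    · exact ⟨fun _ => h, fun _ => hc1 U hU⟩
    · exact ⟨fun h' => absurd rfl h', fun h' => absurd h' h⟩
  refine ⟨∏ U ∈ 𝒟, f U, ?_⟩
  intro x hx hfix
  set a' := x * a * x⁻¹ with ha'
  have ha'N : a' ∈ N := hnorm x hx a haN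
  have ha'X : a' ∈ X := hNX ha'N
  have ha'invX : a'⁻¹ ∈ X := X.inv_mem ha'X
  set g : Subgroup W → W := fun V => a' (f (a'⁻¹ • V)) with hg
  have hgV : ∀ V, g V ∈ V := by
    intro V
    have h1 : a' (f (a'⁻¹ • V)) ∈ a' • (a'⁻¹ • V) := apply_mem_smul a' (hfU _)
    rwa [smul_inv_smul] at h1
  have hprod : ∏ V ∈ 𝒟, g V = ∏ V ∈ 𝒟, f V := by
    rw [← hfix, map_prod]
    symm
    apply Finset.prod_nbij' (fun U => a' • U) (fun V => a'⁻¹ • V)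
    · intro U hU; exact hD.inv a' ha'X U hU
    · intro V hV; exact hD.inv a'⁻¹ ha'invX V hV
    · intro U _; exact inv_smul_smul a' U
    · intro V _; exact smul_inv_smul a' V
    · intro U _
      simp only [hg, inv_smul_smul]
  have heq := hD.indep' g f (fun V _ => hgV V) (fun V _ => hfU V) hprod
  have hstab : ∀ U, a' • U ∈ Δ ↔ U ∈ Δ := by
    intro U
    by_cases hU : U ∈ 𝒟
    · have hV : a' • U ∈ 𝒟 := hD.inv a' ha'X U hU
      rw [← hf1 _ hV, ← hf1 _ hU, ← heq _ hV]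
      simp only [hg, inv_smul_smul]
      rw [Ne, map_eq_one_iff _ (MulEquiv.injective a')]
    · have hV : a' • U ∉ 𝒟 := by
        intro h
        apply hU
        have := hD.inv a'⁻¹ ha'invX _ h
        rwa [inv_smul_smul] at this
      exact ⟨fun h => absurd (hΔ𝒟 h) hV, fun h => absurd (hΔ𝒟 h) hU⟩
  have hall := hΔ a' ha'N hstab
  apply hmove
  have hxU : x • U₀ ∈ 𝒟 := hD.inv x hx U₀ hU₀
  have h1 := hall _ hxU
  have h2 : a = x⁻¹ * a' * x := by rw [ha']; group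
  rw [h2, mul_smul, mul_smul, h1, inv_smul_smul]

theorem resImage_mono {U : Subgroup W} {N X : Subgroup (MulAut W)} (h : N ≤ X) :
    resImage U N ≤ resImage U X := by
  intro y hy
  obtain ⟨x, hxN, hx, rfl⟩ := mem_resImage.mp hy
  exact mem_resImage.mpr ⟨x, h hxN, hx, rfl⟩

/-- Case 1: `a` stabilizes every component. -/
theorem Decomp.ml_case1 [Finite W] {p : ℕ} [hp : Fact p.Prime] (hD : Decomp X 𝒟)
    (ih : ∀ U : Subgroup W, U ≠ ⊤ → MLProp p ↥U)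
    (N : Subgroup (MulAut W)) (a : MulAut W) (hNX : N ≤ X)
    (hnorm : ∀ x ∈ X, ∀ n ∈ N, x * n * x⁻¹ ∈ N) (hN : IsPGroup p N) (haN : a ∈ N)
    (ha1 : a ≠ 1) (hap : a ^ p = 1) (hfix : ∀ U ∈ 𝒟, a • U = U) :
    ∃ w : W, ∀ x ∈ X, (x * a * x⁻¹) w ≠ w := by
  classical
  -- a component on which `a` acts nontrivially
  obtain ⟨Uj, hUj, u₀, hu₀, hau₀⟩ : ∃ Uj ∈ 𝒟, ∃ u ∈ Uj, a u ≠ u := by
    by_contra h
    push Not at h
    exact ha1 (hD.span a h)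
  have hUjtop := hD.ne_top Uj hUj
  have haUj : a • Uj = Uj := hfix Uj hUj
  set S := MulAction.stabilizer (MulAut W) Uj with hS
  have hstab : ∀ {x : MulAut W}, x • Uj = Uj → x ∈ S := fun h => MulAction.mem_stabilizer_iff.mpr h
  set abar : MulAut ↥Uj := resHom Uj ⟨a, hstab haUj⟩ with habar
  obtain ⟨wj, hwj⟩ := ih Uj hUjtop (resImage Uj X) (resImage Uj N) abar (resImage_mono hNX) (by
      intro y hy n hn
      obtain ⟨x, hxX, hx, rfl⟩ := mem_resImage.mp hy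
      obtain ⟨m, hmN, hm, rfl⟩ := mem_resImage.mp hn
      have hxm : (x * m * x⁻¹) • Uj = Uj := by
        rw [mul_smul, mul_smul, inv_smul_eq_of_smul_eq hx, hm, hx]
      refine mem_resImage.mpr ⟨x * m * x⁻¹, hnorm x hxX m hmN, hxm, ?_⟩
      rw [← map_inv, ← map_mul, ← map_mul]
      rfl)
    (resImage_isPGroup hN) (mem_resImage.mpr ⟨a, haN, haUj, rfl⟩) (by
      intro h
      exact hau₀ ((resHom_eq_one_iff _).mp h u₀ hu₀)) (by
      rw [habar, ← map_pow]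
      have : (⟨a, hstab haUj⟩ : ↥S) ^ p = 1 := Subtype.ext (by simpa using hap)
      rw [this, map_one])
  -- transversal elements
  have hex : ∀ U : Subgroup W, ∃ t : MulAut W, (∃ x ∈ X, x • Uj = U) → t ∈ X ∧ t • Uj = U := by
    intro U
    by_cases h : ∃ x ∈ X, x • Uj = U
    · obtain ⟨x, hx, hxU⟩ := h
      exact ⟨x, fun _ => ⟨hx, hxU⟩⟩
    · exact ⟨1, fun h' => absurd h' h⟩
  choose t ht using hex
  set h₁ : Subgroup W → W := fun U => if (∃ x ∈ X, x • Uj = U) then (t U) (wj : W) else 1 with hh₁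
  have hh₁U : ∀ U, h₁ U ∈ U := by
    intro U
    simp only [hh₁]
    split_ifs with h
    · have h1 : (t U) (wj : W) ∈ t U • Uj := apply_mem_smul (t U) wj.2
      rwa [(ht U h).2] at h1
    · exact U.one_mem
  refine ⟨∏ U ∈ 𝒟, h₁ U, ?_⟩
  intro x hx hfixw
  set a' := x * a * x⁻¹ with ha'
  have hxinv : x⁻¹ ∈ X := X.inv_mem hx
  have ha'fix : ∀ U ∈ 𝒟, a' • U = U := by
    intro U hU
    have h1 := hfix _ (hD.inv x⁻¹ hxinv U hU)
    rw [ha', mul_smul, mul_smul, h1, smul_inv_smul]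
  have hprod : ∏ U ∈ 𝒟, a' (h₁ U) = ∏ U ∈ 𝒟, h₁ U := by
    rw [← map_prod]; exact hfixw
  have heq := hD.indep' (fun U => a' (h₁ U)) h₁ (by
    intro U hU
    have h1 : a' (h₁ U) ∈ a' • U := apply_mem_smul a' (hh₁U U)
    rwa [ha'fix U hU] at h1) (fun U _ => hh₁U U) hprod
  -- the component `x • Uj`
  have hU' : x • Uj ∈ 𝒟 := hD.inv x hx Uj hUj
  have hexU' : ∃ x' ∈ X, x' • Uj = x • Uj := ⟨x, hx, rfl⟩
  have h2 := heq _ hU'
  simp only [hh₁, if_pos hexU'] at h2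
  obtain ⟨htX, htU⟩ := ht _ hexU'
  set τ := t (x • Uj) with hτ
  set y := τ⁻¹ * x with hy
  have hyX : y ∈ X := X.mul_mem (X.inv_mem htX) hx
  have hyU : y • Uj = Uj := by
    rw [hy, mul_smul, ← htU, inv_smul_smul]
  have hyS : y ∈ S := hstab hyU
  have hyfix : (y * a * y⁻¹) (wj : W) = wj := by
    have h3 : y * a * y⁻¹ = τ⁻¹ * a' * τ := by rw [hy, ha']; group
    rw [h3]
    simp only [MulAut.mul_apply, h2, MulAut.inv_apply_self]
  apply hwj (resHom Uj ⟨y, hyS⟩) (mem_resImage.mpr ⟨y, hyX, hyU, rfl⟩)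
  apply Subtype.ext
  rw [habar, ← map_inv, ← map_mul, ← map_mul, resHom_apply]
  exact hyfix

/-- The Main Lemma holds as soon as there is an invariant decomposition and it holds for all proper
subgroups. -/
theorem Decomp.ml [Finite W] {p : ℕ} [hp : Fact p.Prime] (hp2 : p ≠ 2) (hD : Decomp X 𝒟)
    (ih : ∀ U : Subgroup W, U ≠ ⊤ → MLProp p ↥U)
    (N : Subgroup (MulAut W)) (a : MulAut W) (hNX : N ≤ X)
    (hnorm : ∀ x ∈ X, ∀ n ∈ N, x * n * x⁻¹ ∈ N) (hN : IsPGroup p N) (haN : a ∈ N)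
    (ha1 : a ≠ 1) (hap : a ^ p = 1) :
    ∃ w : W, ∀ x ∈ X, (x * a * x⁻¹) w ≠ w := by
  by_cases hfix : ∀ U ∈ 𝒟, a • U = U
  · exact hD.ml_case1 ih N a hNX hnorm hN haN ha1 hap hfix
  · push Not at hfix
    obtain ⟨U₀, hU₀, hmove⟩ := hfix
    exact hD.ml_case2 hp2 N a hNX hnorm hN haN U₀ hU₀ hmove

end Imp

end Cfsg.Agent.Lib.Helper22.BSOdd
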