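import Mathlib
import Cfsg.Agent.Lib.Helper22.BSOddImp

set_option autoImplicit false
open Pointwise

namespace Cfsg.Agent.Lib.Helper22.BSOdd

open Cfsg.Agent.Lib.Helper1 (fixSub mem_fixSub)

universe u

section Prim

variable {W : Type u} [CommGroup W] [Finite W]

omit [Finite W] in
theorem fixSub_eq_top_iff' {e : MulAut W} : fixSub e = ⊤ ↔ e = 1 := by
  constructor
  · intro h
    ext w
    have : w ∈ fixSub e := by rw [h]; exact Subgroup.mem_top _
    exact this
  · rintro rfl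
    ext w
    simp [mem_fixSub]

/-- the fixed points and the kernel of the norm form an invariant decomposition -/
theorem decomp_of_split {X K : Subgroup (MulAut W)}
    (hKcop : (Nat.card K).Coprime (Nat.card W))
    (hKX : ∀ x ∈ X, ∀ k ∈ K, x * k * x⁻¹ ∈ K) (hF : fixAll K ≠ ⊥) (hM : (avg K).ker ≠ ⊥) :
    ∃ 𝒟 : Finset (Subgroup W), Decomp X 𝒟 := by
  classical
  set F := fixAll K with hFdef
  set M := (avg K).ker with hMdef
  have hFM : F ⊓ M = ⊥ := fixAll_inf_ker_avg hKcop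
  have hne : F ≠ M := by
    intro h
    apply hF
    rw [← hFM, ← h, inf_idem]
  have hKX' : ∀ x ∈ X, ∀ k ∈ K, x⁻¹ * k * x ∈ K := by
    intro x hx k hk
    have := hKX x⁻¹ (X.inv_mem hx) k hk
    rwa [inv_inv] at this
  have hXF : ∀ x ∈ X, x • F = F := by
    intro x hx
    apply smul_eq_of_forall_mem
    · intro u hu k hk
      exact smul_fixAll x K hu (hKX' x hx k hk)
    · intro u hu k hk
      apply smul_fixAll x⁻¹ K hu
      rw [inv_inv]
      exact hKX x hx k hk
  have hXM : ∀ x ∈ X, x • M = M := by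
    intro x hx
    apply smul_eq_of_forall_mem
    · intro u hu
      rw [hMdef, MonoidHom.mem_ker] at hu ⊢
      rw [← avg_comm K x (hKX x hx) (hKX' x hx), hu, map_one]
    · intro u hu
      rw [hMdef, MonoidHom.mem_ker] at hu ⊢
      rw [← avg_comm K x⁻¹ (hKX x⁻¹ (X.inv_mem hx)) (hKX' x⁻¹ (X.inv_mem hx)), hu, map_one]
  refine ⟨{F, M}, ?_, ?_, ?_, ?_, ?_⟩
  · intro U hU
    rw [Finset.mem_insert, Finset.mem_singleton] at hU
    rcases hU with rfl | rfl
    · exact hF
    · exact hM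
  · intro x hx U hU
    rw [Finset.mem_insert, Finset.mem_singleton] at hU ⊢
    rcases hU with rfl | rfl
    · exact Or.inl (hXF x hx)
    · exact Or.inr (hXM x hx)
  · intro h hh hprod U hU
    rw [Finset.prod_pair hne] at hprod
    have hhF : h F ∈ F := hh F (by simp)
    have hhM : h M ∈ M := hh M (by simp)
    have h1 : h F = (h M)⁻¹ := eq_inv_of_mul_eq_one_left hprod
    have h2 : h F ∈ F ⊓ M := ⟨hhF, by rw [h1]; exact M.inv_mem hhM⟩
    rw [hFM, Subgroup.mem_bot] at h2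
    rw [Finset.mem_insert, Finset.mem_singleton] at hU
    rcases hU with rfl | rfl
    · exact h2
    · rw [h2, one_mul] at hprod
      exact hprod
  · intro e he
    ext w
    obtain ⟨f, hf, m, hm, rfl⟩ := exists_mul_of_coprime hKcop w
    rw [map_mul, he F (by simp) f hf, he M (by simp) m hm]
    rfl
  · exact ⟨F, by simp, M, by simp, hne⟩

theorem eq_bot_or_fixAll_eq_bot {X K : Subgroup (MulAut W)}
    (hno : ¬ ∃ 𝒟 : Finset (Subgroup W), Decomp X 𝒟)
    (hKcop : (Nat.card K).Coprime (Nat.card W))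
    (hKX : ∀ x ∈ X, ∀ k ∈ K, x * k * x⁻¹ ∈ K) : K = ⊥ ∨ fixAll K = ⊥ := by
  by_contra hcon
  push Not at hcon
  apply hno
  apply decomp_of_split hKcop hKX hcon.2
  intro hM
  apply hcon.1
  apply eq_bot_of_fixAll_eq_top
  rw [eq_top_iff]
  intro w _
  obtain ⟨f, hf, m, hm, rfl⟩ := exists_mul_of_coprime hKcop w
  rw [hM, Subgroup.mem_bot] at hm
  rw [hm, mul_one]
  exact hf

/-- conjugation of subgroups of automorphisms -/
theorem mem_conj_smul {x k : MulAut W} {K : Subgroup (MulAut W)} :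
    k ∈ MulAut.conj x • K ↔ x⁻¹ * k * x ∈ K := by
  rw [Subgroup.mem_pointwise_smul_iff_inv_smul_mem]
  rfl

theorem smul_fixAll_eq (x : MulAut W) (K : Subgroup (MulAut W)) :
    x • fixAll K = fixAll (MulAut.conj x • K) := by
  ext w
  rw [mem_smul_iff, mem_fixAll, mem_fixAll]
  constructor
  · intro h k hk
    have h1 := h _ (mem_conj_smul.mp hk)
    have h2 := congrArg (fun v => x v) h1
    simpa using h2
  · intro h k hk
    have hk' : x * k * x⁻¹ ∈ MulAut.conj x • K := by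
      rw [mem_conj_smul]
      have : x⁻¹ * (x * k * x⁻¹) * x = k := by group
      rw [this]; exact hk
    have h1 := h _ hk'
    have h2 := congrArg (fun v => x⁻¹ v) h1
    simpa using h2

theorem conj_smul_eq_self {x : MulAut W} {Y : Subgroup (MulAut W)}
    (h1 : ∀ y ∈ Y, x * y * x⁻¹ ∈ Y) (h2 : ∀ y ∈ Y, x⁻¹ * y * x ∈ Y) : MulAut.conj x • Y = Y := by
  ext k
  rw [mem_conj_smul]
  constructor
  · intro h
    have := h1 _ h
    have h3 : x * (x⁻¹ * k * x) * x⁻¹ = k := by group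
    rwa [h3] at this
  · exact h2 k

theorem IsCoatomIn.conj {x : MulAut W} {K Y : Subgroup (MulAut W)} (hK : IsCoatomIn K Y)
    (h1 : ∀ y ∈ Y, x * y * x⁻¹ ∈ Y) (h2 : ∀ y ∈ Y, x⁻¹ * y * x ∈ Y) :
    IsCoatomIn (MulAut.conj x • K) Y := by
  have hY : MulAut.conj x • Y = Y := conj_smul_eq_self h1 h2
  have hY' : (MulAut.conj x)⁻¹ • Y = Y := by rw [inv_smul_eq_iff, hY]
  constructor
  · rw [← hY]
    constructor
    · exact Subgroup.pointwise_smul_le_pointwise_smul_iff.mpr hK.1.le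
    · intro h
      exact hK.1.not_ge (Subgroup.pointwise_smul_le_pointwise_smul_iff.mp h)
  · intro K' hlt hle
    have h3 : K < (MulAut.conj x)⁻¹ • K' := by
      constructor
      · rw [← Subgroup.pointwise_smul_le_pointwise_smul_iff (a := MulAut.conj x), smul_inv_smul]
        exact hlt.le
      · intro h
        apply hlt.not_ge
        rw [← Subgroup.pointwise_smul_le_pointwise_smul_iff (a := (MulAut.conj x)⁻¹), inv_smul_smul]
        exact h
    have h4 : (MulAut.conj x)⁻¹ • K' ≤ Y := by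
      rw [← hY']
      exact Subgroup.pointwise_smul_le_pointwise_smul_iff.mpr hle
    have h5 := hK.2 _ h3 h4
    rw [inv_smul_eq_iff, hY] at h5
    exact h5

theorem IsCoatomIn.sup_eq {K K' Y : Subgroup (MulAut W)} (hK : IsCoatomIn K Y)
    (hK' : IsCoatomIn K' Y) (hne : K ≠ K') : K ⊔ K' = Y := by
  apply hK.2 _ _ (sup_le hK.1.le hK'.1.le)
  apply lt_of_le_of_ne le_sup_left
  intro h
  have h1 : K' ≤ K := by rw [h]; exact le_sup_right
  have h2 : K' < K := lt_of_le_of_ne h1 (Ne.symm hne)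
  exact hK.1.ne (hK'.2 K h2 hK.1.le)

/-- In the absence of invariant decompositions, an invariant elementary abelian `p`-group of
automorphisms without fixed points has order `p`. -/
theorem unique_of_no_decomp {p : ℕ} [hp : Fact p.Prime] (hcop : (Nat.card W).Coprime p)
    {X Y : Subgroup (MulAut W)} (hno : ¬ ∃ 𝒟 : Finset (Subgroup W), Decomp X 𝒟)
    (hW : ∃ w : W, w ≠ 1) (hab : ∀ a ∈ Y, ∀ b ∈ Y, a * b = b * a) (hexp : ∀ y ∈ Y, y ^ p = 1)
    (hYX : ∀ x ∈ X, ∀ y ∈ Y, x * y * x⁻¹ ∈ Y) (hfix : fixAll Y = ⊥) :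
    ∀ u ∈ Y, ∀ v ∈ Y, u ≠ 1 → v ∈ Subgroup.zpowers u := by
  classical
  have hYX' : ∀ x ∈ X, ∀ y ∈ Y, x⁻¹ * y * x ∈ Y := by
    intro x hx y hy
    have := hYX x⁻¹ (X.inv_mem hx) y hy
    rwa [inv_inv] at this
  have hYp : IsPGroup p Y := isPGroup_of_exp hexp
  set 𝒟set : Set (Subgroup W) := {U | ∃ K, IsCoatomIn K Y ∧ fixAll K = U ∧ U ≠ ⊥} with h𝒟set
  set 𝒟 : Finset (Subgroup W) := (Set.toFinite 𝒟set).toFinset with h𝒟
  have hmem : ∀ U, U ∈ 𝒟 ↔ ∃ K, IsCoatomIn K Y ∧ fixAll K = U ∧ U ≠ ⊥ := by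
    intro U
    rw [h𝒟, Set.Finite.mem_toFinset]
    rfl
  have hgen := fixAll_le_iSup_coatoms hcop Y hab hexp hfix ⊥ bot_le
  rw [fixAll_bot] at hgen
  -- everything below the span of `𝒟`
  have hspan : ∀ T : Subgroup W, (∀ U ∈ 𝒟, U ≤ T) → T = ⊤ := by
    intro T hT
    rw [eq_top_iff]
    refine hgen.trans (iSup₂_le ?_)
    intro K hK
    by_cases hb : fixAll K = ⊥
    · rw [hb]; exact bot_le
    · exact hT _ ((hmem _).mpr ⟨K, hK.1, rfl, hb⟩)
  by_cases htwo : ∃ U₁ ∈ 𝒟, ∃ U₂ ∈ 𝒟, U₁ ≠ U₂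
  · exfalso
    apply hno
    refine ⟨𝒟, ?_, ?_, ?_, ?_, htwo⟩
    · intro U hU
      obtain ⟨K, _, _, hne⟩ := (hmem U).mp hU
      exact hne
    · intro x hx U hU
      obtain ⟨K, hK, rfl, hne⟩ := (hmem U).mp hU
      rw [hmem]
      refine ⟨MulAut.conj x • K, hK.conj (hYX x hx) (hYX' x hx), (smul_fixAll_eq x K).symm, ?_⟩
      intro h
      apply hne
      have h1 : x • fixAll K = x • (⊥ : Subgroup W) := by rw [h, Subgroup.smul_bot]
      exact smul_left_cancel x h1
    · intro h hh hprod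
      have hex : ∀ U : Subgroup W, ∃ K : Subgroup (MulAut W),
          U ∈ 𝒟 → IsCoatomIn K Y ∧ fixAll K = U := by
        intro U
        by_cases hU : U ∈ 𝒟
        · obtain ⟨K, hK, hKU, _⟩ := (hmem U).mp hU
          exact ⟨K, fun _ => ⟨hK, hKU⟩⟩
        · exact ⟨⊥, fun h' => absurd h' hU⟩
      choose e he using hex
      apply indep_of_pairwise 𝒟 e h
      · intro U hU
        exact card_coprime_of_isPGroup hcop (hYp.to_le (he U hU).1.1.le)
      · intro U hU
        rw [(he U hU).2]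
        exact hh U hU
      · intro U hU U' hU' a ha b hb
        exact hab a ((he U hU).1.1.le ha) b ((he U' hU').1.1.le hb)
      · intro U hU U' hU' hne
        have hne' : e U ≠ e U' := by
          intro h'
          apply hne
          rw [← (he U hU).2, ← (he U' hU').2, h']
        rw [← fixAll_sup, (he U hU).1.sup_eq (he U' hU').1 hne', hfix]
      · exact hprod
    · intro e he
      rw [← Cfsg.Agent.Lib.Helper22.BSOdd.fixSub_eq_top_iff']
      apply hspan
      intro U hU u hu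
      exact he U hU u hu
  · push Not at htwo
    obtain ⟨w₁, hw₁⟩ := hW
    -- some component is nontrivial
    obtain ⟨U₀, hU₀⟩ : ∃ U₀, U₀ ∈ 𝒟 := by
      by_contra hemp
      push Not at hemp
      have h1 := hspan ⊥ (fun U hU => absurd hU (hemp U))
      apply hw₁
      have : w₁ ∈ (⊥ : Subgroup W) := by rw [h1]; exact Subgroup.mem_top _
      exact Subgroup.mem_bot.mp this
    have hU₀top : U₀ = ⊤ := hspan U₀ (fun U hU => by rw [htwo U hU U₀ hU₀])
    obtain ⟨K₀, hK₀, hK₀U, _⟩ := (hmem U₀).mp hU₀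
    have hK₀bot : K₀ = ⊥ := eq_bot_of_fixAll_eq_top (by rw [hK₀U, hU₀top])
    intro u hu v hv hu1
    have h1 : K₀ < Subgroup.zpowers u := by
      rw [hK₀bot, bot_lt_iff_ne_bot]
      intro h
      apply hu1
      have := Subgroup.mem_zpowers u
      rw [h] at this
      exact Subgroup.mem_bot.mp this
    have h2 := hK₀.2 _ h1 (by rwa [Subgroup.zpowers_le])
    rw [h2]
    exact hv

end Prim

end Cfsg.Agent.Lib.Helper22.BSOdd
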