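import Mathlib
import Cfsg.Agent.Lib.Helper22.BSOddRes

set_option autoImplicit false
open Pointwise

namespace Cfsg.Agent.Lib.Helper22.BSOdd

open Cfsg.Agent.Lib.Helper1 (fixSub mem_fixSub trace_identity)

universe u

section Reg

/-- the regular orbit property for groups of automorphisms of exponent `p` and class at most two -/
def RegProp (p : ℕ) (W : Type u) [CommGroup W] : Prop :=
  ∀ Q : Subgroup (MulAut W), (∀ q ∈ Q, q ^ p = 1) →
    (∀ x ∈ Q, ∀ y ∈ Q, ∀ z ∈ Q, (x * y * x⁻¹ * y⁻¹) * z = z * (x * y * x⁻¹ * y⁻¹)) →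
    ∃ w : W, ∀ q ∈ Q, q w = w → q = 1

variable {W : Type u} [CommGroup W]

theorem RegProp.exists_on {p : ℕ} {U : Subgroup W} (h : RegProp p ↥U) (Q : Subgroup (MulAut W))
    (hQU : ∀ q ∈ Q, q • U = U) (hexp : ∀ q ∈ Q, q ^ p = 1)
    (hcl : ∀ x ∈ Q, ∀ y ∈ Q, ∀ z ∈ Q, (x * y * x⁻¹ * y⁻¹) * z = z * (x * y * x⁻¹ * y⁻¹)) :
    ∃ w ∈ U, ∀ q ∈ Q, q w = w → ∀ u ∈ U, q u = u := by
  obtain ⟨w, hw⟩ := h (resImage U Q) (by
    intro y hy
    obtain ⟨x, hxQ, hx, rfl⟩ := mem_resImage.mp hy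
    rw [← map_pow]
    have : (⟨x, MulAction.mem_stabilizer_iff.mpr hx⟩ : ↥(MulAction.stabilizer (MulAut W) U)) ^ p
        = 1 := Subtype.ext (by simpa using hexp x hxQ)
    rw [this, map_one]) (by
    intro y₁ hy₁ y₂ hy₂ y₃ hy₃
    obtain ⟨x₁, hx₁Q, hx₁, rfl⟩ := mem_resImage.mp hy₁
    obtain ⟨x₂, hx₂Q, hx₂, rfl⟩ := mem_resImage.mp hy₂
    obtain ⟨x₃, hx₃Q, hx₃, rfl⟩ := mem_resImage.mp hy₃
    simp only [← map_mul, ← map_inv]
    congr 1
    exact Subtype.ext (hcl x₁ hx₁Q x₂ hx₂Q x₃ hx₃Q))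
  refine ⟨w, w.2, ?_⟩
  intro q hq hqw u hu
  have hmem : resHom U ⟨q, MulAction.mem_stabilizer_iff.mpr (hQU q hq)⟩ ∈ resImage U Q :=
    mem_resImage.mpr ⟨q, hq, hQU q hq, rfl⟩
  have h1 := hw _ hmem (Subtype.ext hqw)
  exact (resHom_eq_one_iff _).mp h1 u hu

theorem card_lt_of_ne_top [Finite W] {U : Subgroup W} (h : U ≠ ⊤) : Nat.card U < Nat.card W := by
  apply lt_of_le_of_ne (Subgroup.card_le_card_group U)
  intro h'
  exact h (Subgroup.eq_top_of_card_eq U h')

theorem coprime_card_subgroup [Finite W] {p : ℕ} (hcop : (Nat.card W).Coprime p) (U : Subgroup W) :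
    (Nat.card U).Coprime p :=
  Nat.Coprime.coprime_dvd_left (Subgroup.card_subgroup_dvd_card U) hcop

theorem mem_fixSub_conj {x e : MulAut W} {w : W} :
    w ∈ fixSub (x * e * x⁻¹) ↔ x⁻¹ w ∈ fixSub e := by
  rw [mem_fixSub, mem_fixSub]
  constructor
  · intro h
    have := congrArg (fun v => x⁻¹ v) h
    simpa using this
  · intro h
    have := congrArg (fun v => x v) h
    simpa using this

theorem apply_mem_fixSub_conj {x e : MulAut W} {w : W} (hw : w ∈ fixSub e) :
    x w ∈ fixSub (x * e * x⁻¹) := by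
  rw [mem_fixSub_conj]
  simpa using hw

theorem fixSub_eq_top_iff {e : MulAut W} : fixSub e = ⊤ ↔ e = 1 := by
  constructor
  · intro h
    ext w
    have : w ∈ fixSub e := by rw [h]; exact Subgroup.mem_top _
    exact this
  · rintro rfl
    ext w
    simp [mem_fixSub]

/-- Case A: a central element with nontrivial fixed points splits the module. -/
theorem regProp_caseA [Finite W] {p : ℕ} [hp : Fact p.Prime] (hcop : (Nat.card W).Coprime p)
    (ih : ∀ U : Subgroup W, U ≠ ⊤ → RegProp p ↥U)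
    (Q : Subgroup (MulAut W)) (hexp : ∀ q ∈ Q, q ^ p = 1)
    (hcl : ∀ x ∈ Q, ∀ y ∈ Q, ∀ z ∈ Q, (x * y * x⁻¹ * y⁻¹) * z = z * (x * y * x⁻¹ * y⁻¹))
    (y : MulAut W) (hyQ : y ∈ Q) (hy1 : y ≠ 1) (hyZ : ∀ q ∈ Q, q * y = y * q)
    (hyfix : fixSub y ≠ ⊥) : ∃ w : W, ∀ q ∈ Q, q w = w → q = 1 := by
  have hQp : IsPGroup p Q := isPGroup_of_exp hexp
  set K := Subgroup.zpowers y with hK
  have hKQ : K ≤ Q := by rwa [hK, Subgroup.zpowers_le]
  have hKcop : (Nat.card K).Coprime (Nat.card W) := card_coprime_of_isPGroup hcop (hQp.to_le hKQ)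
  have hKcomm : ∀ q ∈ Q, ∀ k ∈ K, q * k = k * q := by
    intro q hq k hk
    obtain ⟨j, rfl⟩ := Subgroup.mem_zpowers_iff.mp hk
    exact ((show Commute q y from hyZ q hq).zpow_right j).eq
  set F := fixAll K with hF
  set M := (avg K).ker with hM
  have hFM : F ⊓ M = ⊥ := fixAll_inf_ker_avg hKcop
  have hdec := exists_mul_of_coprime hKcop
  have hFne : F ≠ ⊥ := by rw [hF, hK, fixAll_zpowers]; exact hyfix
  have hMne : M ≠ ⊥ := by
    intro hMb
    apply hy1
    have h1 : F = ⊤ := by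
      rw [eq_top_iff]
      intro w _
      obtain ⟨f, hf, m, hm, rfl⟩ := hdec w
      rw [← hM, hMb, Subgroup.mem_bot] at hm
      rw [hm, mul_one]; exact hf
    have h2 := eq_bot_of_fixAll_eq_top h1
    have h3 : y ∈ K := Subgroup.mem_zpowers y
    rw [h2] at h3
    exact Subgroup.mem_bot.mp h3
  have hFtop : F ≠ ⊤ := by
    intro h
    apply hMne
    rw [← hFM, h, top_inf_eq]
  have hMtop : M ≠ ⊤ := by
    intro h
    apply hFne
    rw [← hFM, h, inf_top_eq]
  have hQF : ∀ q ∈ Q, q • F = F := by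
    intro q hq
    apply smul_eq_of_forall_mem
    · intro u hu k hk
      apply smul_fixAll q K hu
      rw [mul_assoc, ← hKcomm q hq k hk, inv_mul_cancel_left]; exact hk
    · intro u hu k hk
      apply smul_fixAll q⁻¹ K hu
      rw [inv_inv, hKcomm q hq k hk, mul_inv_cancel_right]; exact hk
  have hQM : ∀ q ∈ Q, q • M = M := by
    intro q hq
    apply smul_eq_of_forall_mem
    · intro u hu
      rw [hM, MonoidHom.mem_ker] at hu ⊢
      rw [← avg_comm_of_commute K q (hKcomm q hq), hu, map_one]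
    · intro u hu
      rw [hM, MonoidHom.mem_ker] at hu ⊢
      rw [← avg_comm_of_commute K q⁻¹ (fun k hk => by
        have := hKcomm q hq k hk
        rw [inv_mul_eq_iff_eq_mul, ← mul_assoc, this, mul_inv_cancel_right]), hu, map_one]
  obtain ⟨wF, hwF, hwF'⟩ := (ih F hFtop).exists_on Q hQF hexp hcl
  obtain ⟨wM, hwM, hwM'⟩ := (ih M hMtop).exists_on Q hQM hexp hcl
  refine ⟨wF * wM, ?_⟩
  intro q hq hqw
  rw [map_mul] at hqw
  have hqF : q wF ∈ F := apply_mem_of_smul_eq (hQF q hq) hwF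
  have hqM : q wM ∈ M := apply_mem_of_smul_eq (hQM q hq) hwM
  have h1 : q wF * wF⁻¹ = wM * (q wM)⁻¹ := by
    rw [mul_inv_eq_iff_eq_mul, mul_assoc, mul_comm _ wF, ← mul_assoc, eq_mul_inv_iff_mul_eq,
      mul_comm wM wF]
    exact hqw
  have h2 : q wF * wF⁻¹ ∈ F ⊓ M := by
    refine ⟨F.mul_mem hqF (F.inv_mem hwF), ?_⟩
    rw [h1]
    exact M.mul_mem hwM (M.inv_mem hqM)
  rw [hFM, Subgroup.mem_bot] at h2
  have h3 : q wF = wF := by rwa [mul_inv_eq_one] at h2
  have h4 : q wM = wM := by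
    rw [h3] at hqw
    exact mul_left_cancel hqw
  ext w
  obtain ⟨f, hf, m, hm, rfl⟩ := hdec w
  rw [map_mul, hwF' q hq h3 f hf, hwM' q hq h4 m hm]
  rfl

/-- Case B2: the nonabelian case with fixed-point-free centre. -/
theorem regProp_caseB2 [Finite W] {p : ℕ} [hp : Fact p.Prime] (hp2 : p ≠ 2)
    (hcop : (Nat.card W).Coprime p)
    (ih : ∀ U : Subgroup W, U ≠ ⊤ → RegProp p ↥U)
    (Q : Subgroup (MulAut W)) (hexp : ∀ q ∈ Q, q ^ p = 1)
    (hcl : ∀ x ∈ Q, ∀ y ∈ Q, ∀ z ∈ Q, (x * y * x⁻¹ * y⁻¹) * z = z * (x * y * x⁻¹ * y⁻¹))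
    (hB : ∀ y ∈ Q, y ≠ 1 → (∀ q ∈ Q, q * y = y * q) → fixSub y = ⊥)
    (g b : MulAut W) (hg : g ∈ Q) (hb : b ∈ Q) (hgb : g * b ≠ b * g) :
    ∃ w : W, ∀ q ∈ Q, q w = w → q = 1 := by
  classical
  have hQp : IsPGroup p Q := isPGroup_of_exp hexp
  set c := g * b * g⁻¹ * b⁻¹ with hc
  have hcQ : c ∈ Q := Q.mul_mem (Q.mul_mem (Q.mul_mem hg hb) (Q.inv_mem hg)) (Q.inv_mem hb)
  have hcZ : ∀ q ∈ Q, q * c = c * q := fun q hq => (hcl g hg b hb q hq).symm
  have hc1 : c ≠ 1 := by
    intro h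
    apply hgb
    have h1 : g * b * g⁻¹ * b⁻¹ = 1 := h
    rw [mul_inv_eq_one, mul_inv_eq_iff_eq_mul] at h1
    exact h1
  have hcfix : fixSub c = ⊥ := hB c hcQ hc1 hcZ
  have hcp : c ^ p = 1 := hexp c hcQ
  have hconj : g * b * g⁻¹ = c * b := by rw [hc]; group
  have hcord : orderOf c = p := orderOf_eq_prime hcp hc1
  -- nontriviality
  obtain ⟨w₁, hw₁⟩ : ∃ w₁ : W, w₁ ≠ 1 := by
    by_contra h
    push Not at h
    apply hc1
    ext w
    rw [h w, map_one]
    rfl
  have hbot_of : ∀ S : Subgroup W, (∀ w : W, w ^ p ∈ S) → S ≠ ⊥ := by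
    intro S hS hbot
    apply hw₁
    have := hS w₁
    rw [hbot, Subgroup.mem_bot] at this
    exact eq_one_of_pow_eq_one hcop.symm this
  -- the centre is generated by `c`
  have hZc : ∀ z ∈ Q, (∀ q ∈ Q, q * z = z * q) → z ∈ Subgroup.zpowers c := by
    intro z hz hzZ
    by_contra hzc
    apply hbot_of ((⨆ j : ℕ, fixSub (z * c ^ j)) ⊔ fixSub c)
      (fun w => trace_identity z c (hcZ z hz) (hexp z hz) hcp w)
    rw [hcfix, sup_bot_eq, iSup_eq_bot]
    intro j
    apply hB _ (Q.mul_mem hz (Q.pow_mem hcQ j))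
    · intro h
      apply hzc
      have : z = (c ^ j)⁻¹ := eq_inv_of_mul_eq_one_left h
      rw [this]
      exact Subgroup.inv_mem _ (Subgroup.pow_mem _ (Subgroup.mem_zpowers c) j)
    · intro q hq
      have h1 : Commute q z := hzZ q hq
      have h2 : Commute q c := hcZ q hq
      exact (h1.mul_right (h2.pow_right j)).eq
  -- the centralizer of `b`
  set C : Subgroup (MulAut W) := Q ⊓ Subgroup.centralizer {b} with hC
  have hCmem : ∀ h, h ∈ C ↔ h ∈ Q ∧ h * b = b * h := by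
    intro h
    rw [hC, Subgroup.mem_inf, Subgroup.mem_centralizer_singleton_iff]
  have hCQ : C ≤ Q := inf_le_left
  have hgc : ∀ n : ℕ, g * c ^ n * g⁻¹ = c ^ n := by
    intro n
    rw [((show Commute g c from hcZ g hg).pow_right n).eq, mul_inv_cancel_right]
  have hgpow : ∀ n : ℕ, g ^ n * b * (g ^ n)⁻¹ = c ^ n * b := by
    intro n
    induction n with
    | zero => simp
    | succ n ihn =>
      have h1 : g ^ (n + 1) * b * (g ^ (n + 1))⁻¹ = g * (g ^ n * b * (g ^ n)⁻¹) * g⁻¹ := by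
        rw [pow_succ']; group
      rw [h1, ihn]
      have h2 : g * (c ^ n * b) * g⁻¹ = (g * c ^ n * g⁻¹) * (g * b * g⁻¹) := by group
      rw [h2, hgc, hconj, pow_succ, mul_assoc (c ^ n) c b]
  have hdecQ : ∀ q ∈ Q, ∃ n : ℕ, ∃ h ∈ C, q = g ^ n * h := by
    intro q hq
    set d := q * b * q⁻¹ * b⁻¹ with hd
    have hdQ : d ∈ Q := Q.mul_mem (Q.mul_mem (Q.mul_mem hq hb) (Q.inv_mem hq)) (Q.inv_mem hb)
    have hdZ : ∀ q' ∈ Q, q' * d = d * q' := fun q' hq' => (hcl q hq b hb q' hq').symm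
    have hdc := hZc d hdQ hdZ
    rw [← mem_powers_iff_mem_zpowers, Submonoid.mem_powers_iff] at hdc
    obtain ⟨n, hn⟩ := hdc
    refine ⟨n, (g ^ n)⁻¹ * q, ?_, by group⟩
    rw [hCmem]
    refine ⟨Q.mul_mem (Q.inv_mem (Q.pow_mem hg n)) hq, ?_⟩
    have h1 : q * b * q⁻¹ = c ^ n * b := by rw [hn, hd]; group
    have h3 : q * b * q⁻¹ = g ^ n * b * (g ^ n)⁻¹ := by rw [h1, hgpow n]
    calc (g ^ n)⁻¹ * q * b = (g ^ n)⁻¹ * (q * b * q⁻¹) * q := by group
      _ = (g ^ n)⁻¹ * (g ^ n * b * (g ^ n)⁻¹) * q := by rw [h3]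
      _ = b * ((g ^ n)⁻¹ * q) := by group
  -- the subgroups `fixSub (c ^ a * b)`
  have hWg : ∀ (a : ℕ) (w : W), w ∈ fixSub (c ^ a * b) → g w ∈ fixSub (c ^ (a + 1) * b) := by
    intro a w hw
    have h1 : g * (c ^ a * b) * g⁻¹ = c ^ (a + 1) * b := by
      have h2 : g * (c ^ a * b) * g⁻¹ = (g * c ^ a * g⁻¹) * (g * b * g⁻¹) := by group
      rw [h2, hgc, hconj, pow_succ, mul_assoc (c ^ a) c b]
    rw [← h1]
    exact apply_mem_fixSub_conj hw
  have hWg' : ∀ (a : ℕ) (w : W), w ∈ fixSub (c ^ (a + 1) * b) → g⁻¹ w ∈ fixSub (c ^ a * b) := by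
    intro a w hw
    have h1 : g * (c ^ a * b) * g⁻¹ = c ^ (a + 1) * b := by
      have h2 : g * (c ^ a * b) * g⁻¹ = (g * c ^ a * g⁻¹) * (g * b * g⁻¹) := by group
      rw [h2, hgc, hconj, pow_succ, mul_assoc (c ^ a) c b]
    rw [← h1] at hw
    exact mem_fixSub_conj.mp hw
  have hWgpow : ∀ (j a : ℕ) (w : W), w ∈ fixSub (c ^ a * b) →
      (g ^ j) w ∈ fixSub (c ^ (a + j) * b) := by
    intro j
    induction j with
    | zero => intro a w hw; simpa using hw
    | succ j ihj =>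
      intro a w hw
      have := hWg _ _ (ihj a w hw)
      rw [pow_succ', MulAut.mul_apply]
      exact this
  have hWC : ∀ h ∈ C, ∀ (a : ℕ) (w : W), w ∈ fixSub (c ^ a * b) → h w ∈ fixSub (c ^ a * b) := by
    intro h hh a w hw
    have hh' := (hCmem h).mp hh
    have hcomm : (c ^ a * b) * h = h * (c ^ a * b) := by
      have h1 : Commute h c := hcZ h hh'.1
      have h2 : Commute h b := hh'.2
      exact ((h1.pow_right a).mul_right h2).eq.symm
    show (c ^ a * b) (h w) = h w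
    have hw' : (c ^ a * b) w = w := hw
    rw [← MulAut.mul_apply, hcomm, MulAut.mul_apply, hw']
  have hW0 : fixSub b ≠ ⊥ := by
    intro h0
    have hall : ∀ a : ℕ, fixSub (c ^ a * b) = ⊥ := by
      intro a
      induction a with
      | zero => simpa using h0
      | succ a iha =>
        rw [eq_bot_iff]
        intro w hw
        have h1 := hWg' a w hw
        rw [iha, Subgroup.mem_bot] at h1
        rw [Subgroup.mem_bot]
        simpa using h1
    apply hbot_of ((⨆ j : ℕ, fixSub (b * c ^ j)) ⊔ fixSub c)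
      (fun w => trace_identity b c (hcZ b hb) (hexp b hb) hcp w)
    rw [hcfix, sup_bot_eq, iSup_eq_bot]
    intro j
    rw [((show Commute b c from hcZ b hb).pow_right j).eq]
    exact hall j
  have hW1 : fixSub (c * b) ≠ ⊥ := by
    obtain ⟨⟨v, hv⟩, hv1⟩ := Subgroup.ne_bot_iff_exists_ne_one.mp hW0
    have h1 := hWg 0 v (by simpa using hv)
    rw [zero_add, pow_one] at h1
    intro h
    rw [h, Subgroup.mem_bot] at h1
    apply hv1
    apply Subtype.ext
    simpa using h1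
  have hW01 : fixSub b ⊓ fixSub (c * b) = ⊥ := by
    rw [eq_bot_iff]
    intro w hw
    rw [← hcfix]
    have h1 : b w = w := hw.1
    have h2 : (c * b) w = w := hw.2
    rw [MulAut.mul_apply, h1] at h2
    exact h2
  have hW0top : fixSub b ≠ ⊤ := by
    intro h
    apply hW1
    rw [← hW01, h, top_inf_eq]
  have hCW0 : ∀ h ∈ C, h • fixSub b = fixSub b := by
    intro h hh
    apply smul_eq_of_forall_mem
    · intro u hu
      have := hWC h hh 0 u (by simpa using hu)
      simpa using this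
    · intro u hu
      have := hWC h⁻¹ (C.inv_mem hh) 0 u (by simpa using hu)
      simpa using this
  obtain ⟨w₀, hw₀, hw₀'⟩ := (ih (fixSub b) hW0top).exists_on C hCW0
    (fun q hq => hexp q (hCQ hq))
    (fun x hx y hy z hz => hcl x (hCQ hx) y (hCQ hy) z (hCQ hz))
  have hcC : c ∈ C := (hCmem c).mpr ⟨hcQ, (hcZ b hb).symm⟩
  have hw₀1 : w₀ ≠ 1 := by
    intro h
    apply hW0
    rw [eq_bot_iff, ← hcfix]
    intro u hu
    exact hw₀' c hcC (by rw [h, map_one]) u hu
  -- powers of `c` acting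
  have hpow_inj : ∀ a a' : ℕ, a' < a → a < p → ∀ v : W, (c ^ a) v = (c ^ a') v → v = 1 := by
    intro a a' haa' hap v hv
    have h1 : c ^ (a - a') ≠ 1 :=
      pow_ne_one_of_lt_orderOf (by omega) (by rw [hcord]; omega)
    have h2 : fixSub (c ^ (a - a')) = ⊥ := by
      apply hB _ (Q.pow_mem hcQ _) h1
      intro q hq
      exact ((show Commute q c from hcZ q hq).pow_right _).eq
    have h3 : v ∈ fixSub (c ^ (a - a')) := by
      show (c ^ (a - a')) v = v
      have h4 : c ^ a = c ^ a' * c ^ (a - a') := by rw [← pow_add]; congr 1; omega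
      rw [h4, MulAut.mul_apply] at hv
      exact (c ^ a').injective hv
    rw [h2] at h3
    exact Subgroup.mem_bot.mp h3
  haveI : NeZero p := ⟨hp.out.ne_zero⟩
  haveI : Fact (1 < p) := ⟨hp.out.one_lt⟩
  -- the vector
  set u : ZMod p → W := fun k => if k = -1 then 1 else (g ^ k.val) w₀ with hu_def
  have hu : ∀ k, u k ∈ fixSub (c ^ k.val * b) := by
    intro k
    simp only [hu_def]
    split_ifs
    · exact Subgroup.one_mem _
    · have := hWgpow k.val 0 w₀ (by simpa using hw₀)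
      rwa [zero_add] at this
  have hVshift : ∀ (k : ZMod p) (j : ℕ) (w : W), w ∈ fixSub (c ^ k.val * b) →
      (g ^ j) w ∈ fixSub (c ^ (k + (j : ZMod p)).val * b) := by
    intro k j w hw
    have h1 := hWgpow j k.val w hw
    have h2 : c ^ (k + (j : ZMod p)).val = c ^ (k.val + j) := by
      rw [ZMod.val_add, ZMod.val_natCast, Nat.add_mod_mod, ← pow_eq_pow_mod _ hcp]
    rwa [h2]
  have hcb : ∀ i i' : ℕ, Commute (c ^ i * b) (c ^ i' * b) := by
    intro i i'
    have h1 : Commute c b := (hcZ b hb).symm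
    have h2 : Commute (c ^ i) (c ^ i' * b) :=
      ((Commute.refl c).pow_pow i i').mul_right (h1.pow_left i)
    have h3 : Commute b (c ^ i' * b) := ((h1.pow_left i').symm).mul_right (Commute.refl b)
    exact h2.mul_left h3
  have hindep : ∀ r : ZMod p → W, (∀ k, r k ∈ fixSub (c ^ k.val * b)) →
      ∏ k : ZMod p, r k = 1 → ∀ k, r k = 1 := by
    intro r hr hprod k
    refine indep_of_pairwise Finset.univ (fun k : ZMod p => Subgroup.zpowers (c ^ k.val * b)) r
      ?_ ?_ ?_ ?_ hprod k (Finset.mem_univ k)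
    · intro i _
      apply card_coprime_of_isPGroup hcop
      apply hQp.to_le
      rw [Subgroup.zpowers_le]
      exact Q.mul_mem (Q.pow_mem hcQ _) hb
    · intro i _
      rw [fixAll_zpowers]
      exact hr i
    · intro i _ i' _ a ha a' ha'
      obtain ⟨n, rfl⟩ := Subgroup.mem_zpowers_iff.mp ha
      obtain ⟨n', rfl⟩ := Subgroup.mem_zpowers_iff.mp ha'
      exact ((hcb i.val i'.val).zpow_zpow n n').eq
    · intro i _ i' _ hii'
      rw [fixAll_zpowers, fixAll_zpowers, eq_bot_iff]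
      intro w hw
      rw [Subgroup.mem_bot]
      have h1 : (c ^ i.val) (b w) = w := hw.1
      have h2 : (c ^ i'.val) (b w) = w := hw.2
      have hne : i.val ≠ i'.val := fun h => hii' (ZMod.val_injective p h)
      have hbw : b w = 1 := by
        rcases lt_or_gt_of_ne hne with hlt | hlt
        · exact hpow_inj i'.val i.val hlt (ZMod.val_lt i') (b w) (by rw [h1, h2])
        · exact hpow_inj i.val i'.val hlt (ZMod.val_lt i) (b w) (by rw [h1, h2])
      exact (map_eq_one_iff b b.injective).mp hbw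
  have hCnorm : ∀ h ∈ C, g⁻¹ * h * g ∈ C := by
    intro h hh
    have hh' := (hCmem h).mp hh
    rw [hCmem]
    refine ⟨Q.mul_mem (Q.mul_mem (Q.inv_mem hg) hh'.1) hg, ?_⟩
    have he : h * (c * b) = (c * b) * h := by
      have h1 : Commute h c := hcZ h hh'.1
      have h2 : Commute h b := hh'.2
      exact (h1.mul_right h2).eq
    calc g⁻¹ * h * g * b = g⁻¹ * (h * (g * b * g⁻¹)) * g := by group
      _ = g⁻¹ * ((g * b * g⁻¹) * h) * g := by rw [hconj, he]
      _ = b * (g⁻¹ * h * g) := by group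
  refine ⟨∏ k : ZMod p, u k, ?_⟩
  intro q hq hqw
  obtain ⟨j, h, hhC, rfl⟩ := hdecQ q hq
  have hhQ : h ∈ Q := hCQ hhC
  have hqw' : ∏ k : ZMod p, (g ^ j * h) (u (k - (j : ZMod p))) = ∏ k : ZMod p, u k := by
    rw [← hqw, map_prod]
    exact Fintype.prod_equiv (Equiv.subRight (j : ZMod p)) _ _ (fun k => rfl)
  have hr : ∀ k, u k * ((g ^ j * h) (u (k - (j : ZMod p))))⁻¹ = 1 := by
    apply hindep
    · intro k
      apply Subgroup.mul_mem _ (hu k) (Subgroup.inv_mem _ ?_)
      rw [MulAut.mul_apply]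
      have := hVshift (k - (j : ZMod p)) j _ (hWC h hhC _ _ (hu (k - (j : ZMod p))))
      rwa [sub_add_cancel] at this
    · rw [Finset.prod_mul_distrib, Finset.prod_inv_distrib, hqw', mul_inv_cancel]
  have hj0 : (j : ZMod p) = 0 := by
    by_contra hj
    have h1 := hr (-1)
    have hu1 : u (-1) = 1 := by simp only [hu_def, if_true]
    rw [hu1, one_mul, inv_eq_one, map_eq_one_iff _ (MulEquiv.injective _)] at h1
    have hne : (-1 - (j : ZMod p)) ≠ -1 := by
      intro h2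
      exact hj (sub_eq_self.mp h2)
    simp only [hu_def, if_neg hne] at h1
    exact hw₀1 ((map_eq_one_iff _ (MulEquiv.injective _)).mp h1)
  have hgj : g ^ j = 1 := by
    obtain ⟨t, rfl⟩ := (ZMod.natCast_eq_zero_iff j p).mp hj0
    rw [pow_mul, hexp g hg, one_pow]
  rw [hgj, one_mul]
  have hfixu : ∀ k, h (u k) = u k := by
    intro k
    have h1 := hr k
    rw [hj0, sub_zero, hgj, one_mul, mul_inv_eq_one] at h1
    exact h1.symm
  -- `h` is trivial on `fixSub b`
  have h0ne : (0 : ZMod p) ≠ -1 := by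
    intro h2
    have : (1 : ZMod p) = 0 := by
      have := congrArg (fun t => t + 1) h2
      simpa using this.symm
    exact one_ne_zero this
  have h1ne : (1 : ZMod p) ≠ -1 := by
    intro h2
    have h3 : ((2 : ℕ) : ZMod p) = 0 := by
      have := congrArg (fun t => t + 1) h2
      simp only [neg_add_cancel] at this
      rw [one_add_one_eq_two] at this
      exact_mod_cast this
    have h4 := (ZMod.natCast_eq_zero_iff 2 p).mp h3
    exact hp2 ((Nat.prime_dvd_prime_iff_eq hp.out Nat.prime_two).mp h4)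
  have htr0 : ∀ v ∈ fixSub b, h v = v := by
    apply hw₀' h hhC
    have := hfixu 0
    simp only [hu_def, if_neg h0ne, ZMod.val_zero, pow_zero, MulAut.one_apply] at this
    exact this
  have htr1 : ∀ v ∈ fixSub (c * b), h v = v := by
    have h2 := hfixu 1
    simp only [hu_def, if_neg h1ne, ZMod.val_one, pow_one] at h2
    have h3 : (g⁻¹ * h * g) w₀ = w₀ := by
      simp only [MulAut.mul_apply, h2, MulAut.inv_apply_self]
    have h4 := hw₀' _ (hCnorm h hhC) h3
    intro v hv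
    have h5 : g⁻¹ v ∈ fixSub b := by
      have := hWg' 0 v (by simpa using hv)
      simpa using this
    have h6 := h4 _ h5
    simp only [MulAut.mul_apply, MulAut.apply_inv_self] at h6
    exact (g⁻¹).injective h6
  have htr0' : ∀ v ∈ fixSub b, h⁻¹ v = v := by
    intro v hv
    have h1 : h⁻¹ (h v) = v := MulAut.inv_apply_self _ _ _
    rwa [htr0 v hv] at h1
  -- `h` centralizes `C`
  have hcommC : ∀ x ∈ C, h * x = x * h := by
    intro x hx
    set t := h * x * h⁻¹ * x⁻¹ with ht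
    have hxQ := hCQ hx
    have htQ : t ∈ Q := Q.mul_mem (Q.mul_mem (Q.mul_mem hhQ hxQ) (Q.inv_mem hhQ)) (Q.inv_mem hxQ)
    have htZ : ∀ q' ∈ Q, q' * t = t * q' := fun q' hq' => (hcl h hhQ x hxQ q' hq').symm
    have ht1 : t = 1 := by
      by_contra hne
      apply hW0
      rw [eq_bot_iff, ← hB t htQ hne htZ]
      intro v hv
      show t v = v
      have h1 : x⁻¹ v ∈ fixSub b := by
        have := hWC x⁻¹ (C.inv_mem hx) 0 v (by simpa using hv)
        simpa using this
      simp only [ht, MulAut.mul_apply, htr0' _ h1, MulAut.apply_inv_self, htr0 v hv]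
    have : h * x * h⁻¹ * x⁻¹ = 1 := ht1
    rw [mul_inv_eq_one, mul_inv_eq_iff_eq_mul] at this
    exact this
  have hcommg : h * g = g * h := by
    set t := h * g * h⁻¹ * g⁻¹ with ht
    have htQ : t ∈ Q := Q.mul_mem (Q.mul_mem (Q.mul_mem hhQ hg) (Q.inv_mem hhQ)) (Q.inv_mem hg)
    have htZ : ∀ q' ∈ Q, q' * t = t * q' := fun q' hq' => (hcl h hhQ g hg q' hq').symm
    have ht1 : t = 1 := by
      by_contra hne
      apply hW1
      rw [eq_bot_iff, ← hB t htQ hne htZ]
      intro v hv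
      show t v = v
      have h1 : g⁻¹ v ∈ fixSub b := by
        have := hWg' 0 v (by simpa using hv)
        simpa using this
      simp only [ht, MulAut.mul_apply, htr0' _ h1, MulAut.apply_inv_self, htr1 v hv]
    have : h * g * h⁻¹ * g⁻¹ = 1 := ht1
    rw [mul_inv_eq_one, mul_inv_eq_iff_eq_mul] at this
    exact this
  have hhZ : ∀ q' ∈ Q, q' * h = h * q' := by
    intro q' hq'
    obtain ⟨n, h', hh', rfl⟩ := hdecQ q' hq'
    have h1 : Commute h g := hcommg
    have h2 : Commute h h' := hcommC h' hh'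
    exact ((h1.pow_right n).mul_right h2).eq.symm
  by_contra hne
  apply hW0
  rw [eq_bot_iff, ← hB h hhQ hne hhZ]
  intro v hv
  exact htr0 v hv

theorem regProp_aux {p : ℕ} [hp : Fact p.Prime] (hp2 : p ≠ 2) :
    ∀ n : ℕ, ∀ (W : Type u) [CommGroup W] [Finite W], Nat.card W ≤ n →
      (Nat.card W).Coprime p → RegProp p W := by
  intro n
  induction n with
  | zero =>
    intro W _ _ hn _
    have := Nat.card_pos (α := W)
    omega
  | succ n ih =>
    intro W _ _ hn hcop Q hexp hcl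
    have ih' : ∀ U : Subgroup W, U ≠ ⊤ → RegProp p ↥U := by
      intro U hU
      apply ih ↥U
      · have := card_lt_of_ne_top hU
        omega
      · exact coprime_card_subgroup hcop U
    by_cases hA : ∃ y ∈ Q, y ≠ 1 ∧ (∀ q ∈ Q, q * y = y * q) ∧ fixSub y ≠ ⊥
    · obtain ⟨y, hyQ, hy1, hyZ, hyfix⟩ := hA
      exact regProp_caseA hcop ih' Q hexp hcl y hyQ hy1 hyZ hyfix
    push Not at hA
    have hB : ∀ y ∈ Q, y ≠ 1 → (∀ q ∈ Q, q * y = y * q) → fixSub y = ⊥ :=
      fun y hy h1 hZ => hA y hy h1 hZ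
    by_cases hab : ∀ x ∈ Q, ∀ y ∈ Q, x * y = y * x
    · by_cases hQ1 : ∀ q ∈ Q, q = 1
      · exact ⟨1, fun q hq _ => hQ1 q hq⟩
      push Not at hQ1
      obtain ⟨q₀, hq₀, hq₀1⟩ := hQ1
      obtain ⟨w₁, hw₁⟩ : ∃ w₁ : W, w₁ ≠ 1 := by
        by_contra h
        push Not at h
        apply hq₀1
        ext w
        rw [h w, map_one]
        rfl
      refine ⟨w₁, fun q hq hqw => ?_⟩
      by_contra hne
      have h1 := hB q hq hne (fun q' hq' => hab q' hq' q hq)
      apply hw₁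
      have hmem : w₁ ∈ fixSub q := hqw
      rw [h1] at hmem
      exact Subgroup.mem_bot.mp hmem
    · push Not at hab
      obtain ⟨g, hg, b, hb, hgb⟩ := hab
      exact regProp_caseB2 hp2 hcop ih' Q hexp hcl hB g b hg hb hgb

/-- **Regular orbits**: a group of automorphisms of exponent `p` (odd) and class at most two of a finite
abelian group of order prime to `p` has a regular orbit. -/
theorem regProp_of_odd {p : ℕ} [Fact p.Prime] (hp2 : p ≠ 2) (W : Type u) [CommGroup W] [Finite W]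
    (hcop : (Nat.card W).Coprime p) : RegProp p W :=
  regProp_aux hp2 _ W le_rfl hcop

end Reg

end Cfsg.Agent.Lib.Helper22.BSOdd
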