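import Mathlib
import Cfsg.Agent.Lib.Helper22.BSOddPrim
import Cfsg.Agent.Lib.Helper22.BSOddReg
import Cfsg.Agent.Lib.Helper20.SympMain
import Cfsg.Agent.Lib.Helper9.PGroupMisc

set_option autoImplicit false
open Pointwise
open scoped commutatorElement

namespace Cfsg.Agent.Lib.Helper22.BSOdd

open Cfsg.Agent.Lib.Helper1 (fixSub mem_fixSub)

universe u

section ClassTwo

variable {G : Type*} [Group G]

theorem pow_mul_comm_of_central' {w v z : G} (hz : ∀ x : G, z * x = x * z)
    (h : w * v = z * v * w) (k : ℕ) : w ^ k * v = z ^ k * v * w ^ k := by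
  induction k with
  | zero => simp
  | succ k ih =>
    have hzk : ∀ x : G, z ^ k * x = x * z ^ k := fun x =>
      ((show Commute z x from hz x).pow_left k).eq
    calc w ^ (k + 1) * v = w * (w ^ k * v) := by rw [pow_succ']; group
      _ = w * (z ^ k * v * w ^ k) := by rw [ih]
      _ = (w * z ^ k) * v * w ^ k := by group
      _ = z ^ k * (w * v) * w ^ k := by rw [← hzk w]; group
      _ = z ^ k * (z * v * w) * w ^ k := by rw [h]
      _ = z ^ (k + 1) * v * w ^ (k + 1) := by rw [pow_succ, pow_succ']; group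

theorem mul_pow_of_central' {w v z : G} (hz : ∀ x : G, z * x = x * z)
    (h : w * v = z * v * w) (k : ℕ) : (v * w) ^ k = z ^ (k.choose 2) * v ^ k * w ^ k := by
  induction k with
  | zero => simp
  | succ k ih =>
    have h1 := pow_mul_comm_of_central' hz h k
    have hzk : ∀ x : G, z ^ k * x = x * z ^ k := fun x =>
      ((show Commute z x from hz x).pow_left k).eq
    have hch : (k + 1).choose 2 = k.choose 2 + k := by
      rw [Nat.choose_succ_succ' k 1, Nat.choose_one_right, add_comm]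
    calc (v * w) ^ (k + 1) = (v * w) ^ k * (v * w) := pow_succ _ _
      _ = z ^ (k.choose 2) * v ^ k * w ^ k * (v * w) := by rw [ih]
      _ = z ^ (k.choose 2) * v ^ k * (w ^ k * v) * w := by group
      _ = z ^ (k.choose 2) * v ^ k * (z ^ k * v * w ^ k) * w := by rw [h1]
      _ = z ^ (k.choose 2) * (v ^ k * z ^ k) * v * w ^ k * w := by group
      _ = z ^ (k.choose 2) * (z ^ k * v ^ k) * v * w ^ k * w := by rw [hzk (v ^ k)]
      _ = z ^ ((k + 1).choose 2) * v ^ (k + 1) * w ^ (k + 1) := by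
        rw [hch, pow_add, pow_succ, pow_succ]; group

/-- If all commutators are central of order dividing an odd prime `p`, the `p`-th power map is
multiplicative. -/
theorem mul_pow_prime_of_class_two' {p : ℕ} (hp : p.Prime) (hp2 : p ≠ 2) (Z : Subgroup G)
    (hZc : ∀ z ∈ Z, ∀ x : G, z * x = x * z) (hZp : ∀ z ∈ Z, z ^ p = 1)
    (hcomm : ∀ u v : G, u * v * u⁻¹ * v⁻¹ ∈ Z) (v w : G) : (v * w) ^ p = v ^ p * w ^ p := by
  have hz := hcomm w v
  have h : w * v = (w * v * w⁻¹ * v⁻¹) * v * w := by group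
  rw [mul_pow_of_central' (hZc _ hz) h p]
  have hdvd : p ∣ p.choose 2 := hp.dvd_choose_self (by norm_num) (by
    have := hp.two_le
    omega)
  obtain ⟨t, ht⟩ := hdvd
  rw [ht, pow_mul, hZp _ hz, one_pow, one_mul]

/-- From P. Hall's theorem: a `p`-group (`p` odd) all of whose characteristic abelian subgroups are
cyclic has a central subgroup of exponent `p` containing all commutators. -/
theorem exists_central_of_symp {p : ℕ} [hp : Fact p.Prime] (hp2 : p ≠ 2) [Finite G]
    (hG : IsPGroup p G)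
    (hsymp : ∀ A : Subgroup G, A.Characteristic → IsMulCommutative A → IsCyclic A) :
    ∃ Z : Subgroup G, (∀ z ∈ Z, ∀ x : G, z * x = x * z) ∧ (∀ z ∈ Z, z ^ p = 1) ∧
      (∀ u v : G, u * v * u⁻¹ * v⁻¹ ∈ Z) := by
  obtain ⟨E, R, hER, hsup, hE, hR⟩ := Cfsg.Agent.Lib.Helper20.Symp.symp_main hG hsymp
  have hRc : IsCyclic R := by
    rcases hR with h | h
    · exact h
    · exact absurd h.1 hp2
  have hRab : ∀ r ∈ R, ∀ r' ∈ R, r * r' = r' * r := by
    intro r hr r' hr'
    haveI := IsCyclic.commutative (α := ↥R)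
    have := mul_comm' (⟨r, hr⟩ : ↥R) ⟨r', hr'⟩
    exact congrArg Subtype.val this
  -- every element is a product
  have hprod : ∀ g : G, ∃ e ∈ E, ∃ r ∈ R, g = e * r := by
    let T : Subgroup G :=
      { carrier := {g | ∃ e ∈ E, ∃ r ∈ R, g = e * r}
        one_mem' := ⟨1, E.one_mem, 1, R.one_mem, (one_mul 1).symm⟩
        mul_mem' := by
          rintro _ _ ⟨e, he, r, hr, rfl⟩ ⟨e', he', r', hr', rfl⟩
          refine ⟨e * e', E.mul_mem he he', r * r', R.mul_mem hr hr', ?_⟩
          calc e * r * (e' * r') = e * (r * e') * r' := by group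
            _ = e * (e' * r) * r' := by rw [hER e' he' r hr]
            _ = e * e' * (r * r') := by group
        inv_mem' := by
          rintro _ ⟨e, he, r, hr, rfl⟩
          refine ⟨e⁻¹, E.inv_mem he, r⁻¹, R.inv_mem hr, ?_⟩
          rw [mul_inv_rev, hER e⁻¹ (E.inv_mem he) r⁻¹ (R.inv_mem hr)] }
    have hET : E ≤ T := fun e he => ⟨e, he, 1, R.one_mem, (mul_one e).symm⟩
    have hRT : R ≤ T := fun r hr => ⟨1, E.one_mem, r, hr, (one_mul r).symm⟩
    intro g
    have : g ∈ T := by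
      apply (sup_le hET hRT : E ⊔ R ≤ T)
      rw [hsup]; exact Subgroup.mem_top g
    exact this
  have hRcentral : ∀ r ∈ R, ∀ x : G, r * x = x * r := by
    intro r hr x
    obtain ⟨e, he, r', hr', rfl⟩ := hprod x
    calc r * (e * r') = (r * e) * r' := by group
      _ = (e * r) * r' := by rw [hER e he r hr]
      _ = e * (r * r') := by group
      _ = e * (r' * r) := by rw [hRab r hr r' hr']
      _ = e * r' * r := by group
  refine ⟨(Subgroup.center ↥E).map E.subtype, ?_, ?_, ?_⟩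
  · rintro _ ⟨z, hz, rfl⟩ x
    obtain ⟨e, he, r, hr, rfl⟩ := hprod x
    have h1 : (z : G) * e = e * z := by
      have := Subgroup.mem_center_iff.mp hz ⟨e, he⟩
      exact (congrArg Subtype.val this).symm
    show (z : G) * (e * r) = e * r * z
    calc (z : G) * (e * r) = ((z : G) * e) * r := by group
      _ = (e * z) * r := by rw [h1]
      _ = e * ((z : G) * r) := by group
      _ = e * (r * z) := by rw [hER z z.2 r hr]
      _ = e * r * z := by group
  · rintro _ ⟨z, hz, rfl⟩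
    show (z : G) ^ p = 1
    rcases hE with hE | hE
    · have hle : E ≤ ⊥ := le_of_eq hE
      have := Subgroup.mem_bot.mp (hle z.2)
      rw [this, one_pow]
    · have hcard : Nat.card (Subgroup.center ↥E) = p := hE.2
      have h1 : (⟨z, hz⟩ : Subgroup.center ↥E) ^ p = 1 := by
        rw [← hcard]; exact pow_card_eq_one'
      have h2 := congrArg (fun t : Subgroup.center ↥E => ((t : ↥E) : G)) h1
      simpa using h2
  · intro u v
    obtain ⟨e, he, r, hr, rfl⟩ := hprod u
    obtain ⟨e', he', r', hr', rfl⟩ := hprod v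
    have step1 : (e * r) * (e' * r') * (e * r)⁻¹ * (e' * r')⁻¹
        = e * (e' * r') * e⁻¹ * (e' * r')⁻¹ := by
      have h1 : r * (e' * r') * r⁻¹ = e' * r' := by
        rw [hRcentral r hr, mul_inv_cancel_right]
      calc (e * r) * (e' * r') * (e * r)⁻¹ * (e' * r')⁻¹
          = e * (r * (e' * r') * r⁻¹) * e⁻¹ * (e' * r')⁻¹ := by group
        _ = e * (e' * r') * e⁻¹ * (e' * r')⁻¹ := by rw [h1]
    have step2 : e * (e' * r') * e⁻¹ * (e' * r')⁻¹ = e * e' * e⁻¹ * e'⁻¹ := by
      have h1 : r' * e⁻¹ * r'⁻¹ = e⁻¹ := by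
        rw [hRcentral r' hr', mul_inv_cancel_right]
      calc e * (e' * r') * e⁻¹ * (e' * r')⁻¹ = e * e' * (r' * e⁻¹ * r'⁻¹) * e'⁻¹ := by group
        _ = e * e' * e⁻¹ * e'⁻¹ := by rw [h1]
    rw [step1, step2]
    rcases hE with hE | hE
    · have h1 : e = 1 := by rw [hE, Subgroup.mem_bot] at he; exact he
      have h2 : e' = 1 := by rw [hE, Subgroup.mem_bot] at he'; exact he'
      rw [h1, h2]
      simp
    · have hspec : commutator ↥E = Subgroup.center ↥E := hE.1.2.2
      refine ⟨⁅(⟨e, he⟩ : ↥E), ⟨e', he'⟩⁆, ?_, ?_⟩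
      · rw [← hspec, commutator_def]
        exact Subgroup.commutator_mem_commutator (Subgroup.mem_top _) (Subgroup.mem_top _)
      · rw [commutatorElement_def]
        rfl

end ClassTwo

section Main

variable {W : Type u} [CommGroup W] [Finite W]

/-- In the absence of invariant decompositions, the characteristic abelian subgroups of `N` are
cyclic. -/
theorem isCyclic_of_char_of_no_decomp {p : ℕ} [hp : Fact p.Prime] (hcop : (Nat.card W).Coprime p)
    {X N : Subgroup (MulAut W)} (hno : ¬ ∃ 𝒟 : Finset (Subgroup W), Decomp X 𝒟)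
    (hW : ∃ w : W, w ≠ 1) (hnorm : ∀ x ∈ X, ∀ n ∈ N, x * n * x⁻¹ ∈ N) (hN : IsPGroup p N)
    (B : Subgroup ↥N) (hBchar : B.Characteristic) (hBcomm : IsMulCommutative B) : IsCyclic B := by
  classical
  have hBc : ∀ b ∈ B, ∀ b' ∈ B, b * b' = b' * b := by
    intro b hb b' hb'
    have := mul_comm' (⟨b, hb⟩ : ↥B) ⟨b', hb'⟩
    exact congrArg Subtype.val this
  let Ω : Subgroup ↥N :=
    { carrier := {b | b ∈ B ∧ b ^ p = 1}
      one_mem' := ⟨B.one_mem, one_pow p⟩
      mul_mem' := by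
        rintro b b' ⟨hb, hbp⟩ ⟨hb', hbp'⟩
        refine ⟨B.mul_mem hb hb', ?_⟩
        rw [(show Commute b b' from hBc b hb b' hb').mul_pow, hbp, hbp', one_mul]
      inv_mem' := by
        rintro b ⟨hb, hbp⟩
        exact ⟨B.inv_mem hb, by rw [inv_pow, hbp, inv_one]⟩ }
  have hΩmem : ∀ b : ↥N, b ∈ Ω ↔ b ∈ B ∧ b ^ p = 1 := fun b => Iff.rfl
  set Y : Subgroup (MulAut W) := Ω.map N.subtype with hY
  have hYN : Y ≤ N := Subgroup.map_subtype_le _
  have hab : ∀ a ∈ Y, ∀ b ∈ Y, a * b = b * a := by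
    rintro _ ⟨a, ha, rfl⟩ _ ⟨b, hb, rfl⟩
    have := hBc a ha.1 b hb.1
    exact congrArg Subtype.val this
  have hexp : ∀ y ∈ Y, y ^ p = 1 := by
    rintro _ ⟨a, ha, rfl⟩
    have := congrArg Subtype.val ha.2
    simpa using this
  have hYX : ∀ x ∈ X, ∀ y ∈ Y, x * y * x⁻¹ ∈ Y := by
    rintro x hx _ ⟨b, hb, rfl⟩
    have hnorm' : ∀ n ∈ N, x⁻¹ * n * x ∈ N := by
      intro n hn
      have := hnorm x⁻¹ (X.inv_mem hx) n hn
      rwa [inv_inv] at this
    let φ : ↥N ≃* ↥N :=
      { toFun := fun n => ⟨x * n * x⁻¹, hnorm x hx n n.2⟩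
        invFun := fun n => ⟨x⁻¹ * n * x, hnorm' n n.2⟩
        left_inv := fun n => Subtype.ext (by simp [mul_assoc])
        right_inv := fun n => Subtype.ext (by simp [mul_assoc])
        map_mul' := fun n m => Subtype.ext (by simp [mul_assoc]) }
    have hφB : φ b ∈ B := by
      have h1 := hBchar.fixed φ
      have h2 : b ∈ B.comap φ.toMonoidHom := by rw [h1]; exact hb.1
      exact h2
    refine ⟨φ b, ⟨hφB, ?_⟩, rfl⟩
    rw [← map_pow, hb.2, map_one]
  have hYp : IsPGroup p Y := hN.to_le hYN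
  have hcase := eq_bot_or_fixAll_eq_bot hno (card_coprime_of_isPGroup hcop hYp) hYX
  haveI : IsMulCommutative ↥B := hBcomm
  open scoped IsMulCommutative in
  apply Cfsg.Agent.Lib.Helper9.PGroupMisc.isCyclic_of_comm_of_unique_order_p (p := p)
    (hN.to_subgroup B)
  intro u v hu hv
  have hu1 : u ≠ 1 := by
    intro h
    rw [h, orderOf_one] at hu
    exact hp.out.one_lt.ne hu
  have hup : (u : ↥N) ^ p = 1 := by
    have := pow_orderOf_eq_one u
    rw [hu] at this
    exact_mod_cast congrArg Subtype.val this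
  have hvp : (v : ↥N) ^ p = 1 := by
    have := pow_orderOf_eq_one v
    rw [hv] at this
    exact_mod_cast congrArg Subtype.val this
  have huY : ((u : ↥N) : MulAut W) ∈ Y := ⟨(u : ↥N), ⟨u.2, hup⟩, rfl⟩
  have hvY : ((v : ↥N) : MulAut W) ∈ Y := ⟨(v : ↥N), ⟨v.2, hvp⟩, rfl⟩
  have hu1' : ((u : ↥N) : MulAut W) ≠ 1 := by
    intro h
    apply hu1
    apply Subtype.ext
    apply Subtype.ext
    exact h
  rcases hcase with hbot | hfix
  · exfalso
    rw [hbot, Subgroup.mem_bot] at huY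
    exact hu1' huY
  · have h1 := unique_of_no_decomp hcop hno hW hab hexp hYX hfix _ huY _ hvY hu1'
    obtain ⟨k, hk⟩ := Subgroup.mem_zpowers_iff.mp h1
    rw [Subgroup.mem_zpowers_iff]
    refine ⟨k, ?_⟩
    apply Subtype.ext
    apply Subtype.ext
    simpa using hk

/-- The primitive case of the Main Lemma. -/
theorem ml_of_no_decomp {p : ℕ} [hp : Fact p.Prime] (hp2 : p ≠ 2) (hcop : (Nat.card W).Coprime p)
    {X : Subgroup (MulAut W)} (hno : ¬ ∃ 𝒟 : Finset (Subgroup W), Decomp X 𝒟)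
    (N : Subgroup (MulAut W)) (a : MulAut W)
    (hnorm : ∀ x ∈ X, ∀ n ∈ N, x * n * x⁻¹ ∈ N) (hN : IsPGroup p N) (haN : a ∈ N)
    (ha1 : a ≠ 1) (hap : a ^ p = 1) :
    ∃ w : W, ∀ x ∈ X, (x * a * x⁻¹) w ≠ w := by
  have hW : ∃ w : W, w ≠ 1 := by
    by_contra h
    push Not at h
    apply ha1
    ext w
    rw [h w, map_one]
    rfl
  obtain ⟨Z, hZc, hZp, hZcomm⟩ := exists_central_of_symp hp2 hN
    (fun B hB hBc => isCyclic_of_char_of_no_decomp hcop hno hW hnorm hN B hB hBc)
  let Ω : Subgroup ↥N :=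
    { carrier := {n | n ^ p = 1}
      one_mem' := one_pow p
      mul_mem' := by
        intro n m hn hm
        show (n * m) ^ p = 1
        rw [mul_pow_prime_of_class_two' hp.out hp2 Z hZc hZp hZcomm, hn, hm, one_mul]
      inv_mem' := by
        intro n hn
        show n⁻¹ ^ p = 1
        rw [inv_pow, hn, inv_one] }
  set Q : Subgroup (MulAut W) := Ω.map N.subtype with hQ
  have hQexp : ∀ q ∈ Q, q ^ p = 1 := by
    rintro _ ⟨n, hn, rfl⟩
    have h1 : n ^ p = 1 := hn
    have := congrArg Subtype.val h1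
    simpa using this
  have hQcl : ∀ x ∈ Q, ∀ y ∈ Q, ∀ z ∈ Q,
      (x * y * x⁻¹ * y⁻¹) * z = z * (x * y * x⁻¹ * y⁻¹) := by
    rintro _ ⟨n₁, _, rfl⟩ _ ⟨n₂, _, rfl⟩ _ ⟨n₃, _, rfl⟩
    have := hZc _ (hZcomm n₁ n₂) n₃
    exact congrArg Subtype.val this
  obtain ⟨w, hw⟩ := regProp_of_odd hp2 W hcop Q hQexp hQcl
  refine ⟨w, ?_⟩
  intro x hx hfix
  have hmemN : x * a * x⁻¹ ∈ N := hnorm x hx a haN
  have hpow : (x * a * x⁻¹) ^ p = 1 := by
    rw [conj_pow, hap, mul_one, mul_inv_cancel]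
  have hmemQ : x * a * x⁻¹ ∈ Q := by
    refine ⟨⟨x * a * x⁻¹, hmemN⟩, ?_, rfl⟩
    show (⟨x * a * x⁻¹, hmemN⟩ : ↥N) ^ p = 1
    exact Subtype.ext (by simpa using hpow)
  have h1 := hw _ hmemQ hfix
  apply ha1
  have h2 : a = x⁻¹ * (x * a * x⁻¹) * x := by group
  rw [h2, h1]
  group

theorem mlProp_aux {p : ℕ} [hp : Fact p.Prime] (hp2 : p ≠ 2) :
    ∀ n : ℕ, ∀ (W : Type u) [CommGroup W] [Finite W], Nat.card W ≤ n →
      (Nat.card W).Coprime p → MLProp p W := by
  intro n
  induction n with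
  | zero =>
    intro W _ _ hn _
    have := Nat.card_pos (α := W)
    omega
  | succ n ih =>
    intro W _ _ hn hcop X N a hNX hnorm hN haN ha1 hap
    have ih' : ∀ U : Subgroup W, U ≠ ⊤ → MLProp p ↥U := by
      intro U hU
      apply ih ↥U
      · have := card_lt_of_ne_top hU
        omega
      · exact coprime_card_subgroup hcop U
    by_cases hdec : ∃ 𝒟 : Finset (Subgroup W), Decomp X 𝒟
    · obtain ⟨𝒟, hD⟩ := hdec
      exact hD.ml hp2 ih' N a hNX hnorm hN haN ha1 hap
    · exact ml_of_no_decomp hp2 hcop hdec N a hnorm hN haN ha1 hap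

/-- **Main Lemma.** Let `X` be a group of automorphisms of a finite abelian group `W` of order prime to
the odd prime `p`, `N` a `p`-subgroup of `X` normalized by `X` and `a ∈ N` of order `p`.  Then some
`w ∈ W` is fixed by no `X`-conjugate of `a`. -/
theorem mlProp_of_odd {p : ℕ} [Fact p.Prime] (hp2 : p ≠ 2) (W : Type u) [CommGroup W] [Finite W]
    (hcop : (Nat.card W).Coprime p) : MLProp p W :=
  mlProp_aux hp2 _ W le_rfl hcop

end Main

end Cfsg.Agent.Lib.Helper22.BSOdd
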