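import Mathlib
import Cfsg.Prelude.Def_Solvable
import Cfsg.Agent.Lib.Helper22.BSOddMain
import Cfsg.Agent.Lib.Helper20.Subnormal

set_option autoImplicit false
open Pointwise

namespace Cfsg.Agent.Lib.Helper22.BSOdd

universe u

section Red

variable {G : Type u} [Group G]

theorem mem_conj_smul_iff {g x : G} {A : Subgroup G} :
    x ∈ MulAut.conj g • A ↔ g⁻¹ * x * g ∈ A := by
  rw [Subgroup.mem_pointwise_smul_iff_inv_smul_mem]
  rfl

theorem conj_mem_conj_smul {g a : G} {A : Subgroup G} (ha : a ∈ A) :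
    g * a * g⁻¹ ∈ MulAut.conj g • A := by
  rw [mem_conj_smul_iff]
  have : g⁻¹ * (g * a * g⁻¹) * g = a := by group
  rw [this]; exact ha

theorem map_conj_smul {H : Type*} [Group H] (f : G →* H) (g : G) (A : Subgroup G) :
    (MulAut.conj g • A).map f = MulAut.conj (f g) • A.map f := by
  ext y
  constructor
  · rintro ⟨x, hx, rfl⟩
    have hx' : g⁻¹ * x * g ∈ A := mem_conj_smul_iff.mp hx
    rw [mem_conj_smul_iff]
    refine ⟨g⁻¹ * x * g, hx', ?_⟩
    simp
  · intro hy
    rw [mem_conj_smul_iff] at hy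
    obtain ⟨a, ha, hay⟩ := hy
    refine ⟨g * a * g⁻¹, conj_mem_conj_smul ha, ?_⟩
    rw [map_mul, map_mul, hay, map_inv]
    group

theorem isPGroup_conj_smul {p : ℕ} {A : Subgroup G} (hA : IsPGroup p A) (g : G) :
    IsPGroup p ↥(MulAut.conj g • A) := by
  rintro ⟨x, hx⟩
  rw [mem_conj_smul_iff] at hx
  obtain ⟨k, hk⟩ := hA ⟨_, hx⟩
  refine ⟨k, ?_⟩
  have h1 : (g⁻¹ * x * g) ^ p ^ k = 1 := by
    have := congrArg Subtype.val hk
    simpa using this
  apply Subtype.ext
  show x ^ p ^ k = 1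
  have h2 : x = g * (g⁻¹ * x * g) * g⁻¹ := by group
  rw [h2, conj_pow, h1]
  group

/-- every subgroup of a finite `p`-group is subnormal -/
theorem isSubnormal_of_isPGroup' [Finite G] {p : ℕ} [Fact p.Prime] (hG : IsPGroup p G) :
    ∀ (n : ℕ) (B : Subgroup G), Nat.card G - Nat.card B = n → B.IsSubnormal := by
  have : Group.IsNilpotent G := hG.isNilpotent
  have hnc : NormalizerCondition G := Group.normalizerCondition_of_isNilpotent
  intro n
  induction n using Nat.strong_induction_on with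
  | _ n ih =>
  intro B hn
  by_cases hB : B = ⊤
  · rw [hB]; exact Subgroup.IsSubnormal.top
  · have hlt : B < Subgroup.normalizer (B : Set G) := hnc B (lt_top_iff_ne_top.mpr hB)
    have hcard : Nat.card B < Nat.card (Subgroup.normalizer (B : Set G)) := by
      by_contra hge
      rw [not_lt] at hge
      exact hlt.ne (Subgroup.eq_of_le_of_card_ge hlt.le hge)
    have hle : Nat.card (Subgroup.normalizer (B : Set G)) ≤ Nat.card G :=
      Subgroup.card_le_card_group _
    have h1 := ih (Nat.card G - Nat.card (Subgroup.normalizer (B : Set G))) (by omega) _ rfl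
    exact Subgroup.IsSubnormal.step B _ hlt.le h1 Subgroup.normal_in_normalizer

/-- If the `p`-group `A` is subnormal in the join with another `p`-group, the join is a `p`-group. -/
theorem isPGroup_sup_of_subnormal [Finite G] {p : ℕ} [Fact p.Prime] {A B : Subgroup G}
    (hA : IsPGroup p A) (hB : IsPGroup p B) (hsn : (A.subgroupOf (A ⊔ B)).IsSubnormal) :
    IsPGroup p ↥(A ⊔ B) := by
  set H := A ⊔ B with hH
  have hA' : IsPGroup p (A.subgroupOf H) := hA.comap_subtype
  have hB' : IsPGroup p (B.subgroupOf H) := hB.comap_subtype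
  have h1 : A.subgroupOf H ≤ Cfsg.pCore p ↥H :=
    Cfsg.Agent.Lib.Helper20.subnormal_pgroup_le_pCore p _ hsn hA'
  have : (Cfsg.pCore p ↥H).Normal := Cfsg.Agent.Lib.Helper1.pCore_normal p ↥H
  have h2 : IsPGroup p ↥(Cfsg.pCore p ↥H ⊔ B.subgroupOf H) :=
    (Cfsg.Agent.Lib.Helper1.pCore_isPGroup p ↥H).to_sup_of_normal_left hB'
  have h3 : (⊤ : Subgroup ↥H) ≤ Cfsg.pCore p ↥H ⊔ B.subgroupOf H := by
    rw [← Subgroup.subgroupOf_self H, hH, Subgroup.subgroupOf_sup le_sup_left le_sup_right]
    exact sup_le_sup_right h1 _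
  intro x
  obtain ⟨k, hk⟩ := h2 ⟨x, h3 (Subgroup.mem_top x)⟩
  exact ⟨k, by simpa using congrArg Subtype.val hk⟩

/-- a nontrivial solvable group has a nontrivial abelian normal subgroup -/
theorem exists_normal_abelian_ne_bot [Nontrivial G] (hG : Group.IsSolvable G) :
    ∃ V : Subgroup G, V.Normal ∧ V ≠ ⊥ ∧ ∀ a ∈ V, ∀ b ∈ V, a * b = b * a := by
  classical
  have hex : ∃ n, derivedSeries G n = ⊥ := hG.solvable
  have h0 : Nat.find hex ≠ 0 := by
    intro h
    have := Nat.find_spec hex
    rw [h, derivedSeries_zero] at this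
    exact top_ne_bot this
  obtain ⟨k, hk⟩ := Nat.exists_eq_succ_of_ne_zero h0
  refine ⟨derivedSeries G k, derivedSeries_normal G k, ?_, ?_⟩
  · exact Nat.find_min hex (by omega)
  · have h1 : derivedSeries G (k + 1) = ⊥ := by
      have := Nat.find_spec hex
      rwa [hk] at this
    rw [derivedSeries_succ, Subgroup.commutator_eq_bot_iff_le_centralizer] at h1
    intro a ha b hb
    exact (Subgroup.mem_centralizer_iff.mp (h1 ha) b hb).symm

/-- an abelian normal subgroup of a group with trivial `p`-core has order prime to `p` -/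
theorem coprime_card_of_pCore_eq_bot [Finite G] {p : ℕ} [hp : Fact p.Prime]
    (hO : Cfsg.pCore p G = ⊥) (V : Subgroup G) [hVn : V.Normal]
    (hVab : ∀ a ∈ V, ∀ b ∈ V, a * b = b * a) : (Nat.card V).Coprime p := by
  let T : Subgroup G :=
    { carrier := {v | v ∈ V ∧ ∃ k : ℕ, v ^ p ^ k = 1}
      one_mem' := ⟨V.one_mem, 0, one_pow _⟩
      mul_mem' := by
        rintro a b ⟨ha, k, hk⟩ ⟨hb, l, hl⟩
        refine ⟨V.mul_mem ha hb, k + l, ?_⟩
        rw [(show Commute a b from hVab a ha b hb).mul_pow, pow_add, pow_mul, hk, one_pow,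
          mul_comm (p ^ k), pow_mul, hl, one_pow, one_mul]
      inv_mem' := by
        rintro a ⟨ha, k, hk⟩
        exact ⟨V.inv_mem ha, k, by rw [inv_pow, hk, inv_one]⟩ }
  have hTn : T.Normal := by
    constructor
    rintro a ⟨ha, k, hk⟩ g
    refine ⟨hVn.conj_mem a ha g, k, ?_⟩
    rw [conj_pow, hk, mul_one, mul_inv_cancel]
  have hTp : IsPGroup p T := by
    rintro ⟨a, ha, k, hk⟩
    exact ⟨k, Subtype.ext hk⟩
  have hT : T = ⊥ := by
    rw [eq_bot_iff, ← hO]
    exact Cfsg.Agent.Lib.Helper1.le_pCore hTn hTp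
  rw [Nat.coprime_comm, Nat.Prime.coprime_iff_not_dvd hp.out]
  intro hdvd
  obtain ⟨x, hx⟩ := exists_prime_orderOf_dvd_card' (G := ↥V) p hdvd
  have hxT : (x : G) ∈ T := by
    refine ⟨x.2, 1, ?_⟩
    rw [pow_one]
    have := pow_orderOf_eq_one x
    rw [hx] at this
    exact_mod_cast congrArg Subtype.val this
  rw [hT, Subgroup.mem_bot] at hxT
  have hx1 : x = 1 := Subtype.ext hxT
  rw [hx1, orderOf_one] at hx
  exact hp.out.one_lt.ne hx

/-- the hypothesis in `p`-group form -/
def Hyp (p : ℕ) (A : Subgroup G) : Prop :=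
  ∀ c : G, ∃ g : G, IsConj c g ∧ IsPGroup p ↥(A ⊔ MulAut.conj g • A)

theorem Hyp.quotient {p : ℕ} {A : Subgroup G} (h : Hyp p A) (V : Subgroup G) [V.Normal] :
    Hyp p (A.map (QuotientGroup.mk' V)) := by
  intro cbar
  obtain ⟨c, rfl⟩ := QuotientGroup.mk'_surjective V cbar
  obtain ⟨g, hcg, hpg⟩ := h c
  refine ⟨QuotientGroup.mk' V g, (QuotientGroup.mk' V).map_isConj hcg, ?_⟩
  rw [← map_conj_smul, ← Subgroup.map_sup]
  exact hpg.map _

theorem pCore_quotient_pCore [Finite G] (p : ℕ) [hp : Fact p.Prime]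
    [hn : (Cfsg.pCore p G).Normal] : Cfsg.pCore p (G ⧸ Cfsg.pCore p G) = ⊥ := by
  set O := Cfsg.pCore p G with hO
  set Ob := Cfsg.pCore p (G ⧸ O) with hOb
  have hObn : Ob.Normal := Cfsg.Agent.Lib.Helper1.pCore_normal p _
  have hObp : IsPGroup p Ob := Cfsg.Agent.Lib.Helper1.pCore_isPGroup p _
  have hOp : IsPGroup p O := Cfsg.Agent.Lib.Helper1.pCore_isPGroup p _
  have h1 : Ob.comap (QuotientGroup.mk' O) ≤ O := by
    apply Cfsg.Agent.Lib.Helper1.le_pCore (hObn.comap _)
    rintro ⟨x, hx⟩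
    obtain ⟨k, hk⟩ := hObp ⟨QuotientGroup.mk' O x, hx⟩
    have hk' : (QuotientGroup.mk' O x) ^ p ^ k = 1 := by
      have := congrArg Subtype.val hk
      simpa using this
    rw [← map_pow, QuotientGroup.mk'_apply, QuotientGroup.eq_one_iff] at hk'
    obtain ⟨l, hl⟩ := hOp ⟨_, hk'⟩
    have hl' : (x ^ p ^ k) ^ p ^ l = 1 := by
      have := congrArg Subtype.val hl
      simpa using this
    refine ⟨k + l, Subtype.ext ?_⟩
    show x ^ p ^ (k + l) = 1
    rw [pow_add, pow_mul, hl']
  rw [eq_bot_iff]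
  intro y hy
  obtain ⟨x, rfl⟩ := QuotientGroup.mk'_surjective O y
  rw [Subgroup.mem_bot, QuotientGroup.mk'_apply, QuotientGroup.eq_one_iff]
  exact h1 hy

theorem card_quotient_le_of_ne_bot [Finite G] {V : Subgroup G} (hV : V ≠ ⊥) {n : ℕ}
    (hn : Nat.card G ≤ n + 1) : Nat.card (G ⧸ V) ≤ n := by
  have h1 := Subgroup.card_eq_card_quotient_mul_card_subgroup V
  have h2 : 1 < Nat.card V := (Subgroup.one_lt_card_iff_ne_bot V).mpr hV
  have h3 : 0 < Nat.card (G ⧸ V) := Nat.card_pos
  nlinarith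

theorem main_aux {p : ℕ} [hp : Fact p.Prime] (hp2 : p ≠ 2) :
    ∀ n : ℕ, ∀ (G : Type u) [Group G] [Finite G], Nat.card G ≤ n → Group.IsSolvable G →
      ∀ A : Subgroup G, IsPGroup p A → Hyp p A → A ≤ Cfsg.pCore p G := by
  intro n
  induction n with
  | zero =>
    intro G _ _ hn
    have := Nat.card_pos (α := G)
    omega
  | succ n ih =>
    intro G _ _ hn hG A hA hyp
    have := hG
    by_cases hGt : Subsingleton G
    · intro a _
      have : a = 1 := Subsingleton.elim _ _
      rw [this]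
      exact Subgroup.one_mem _
    have : Nontrivial G := not_subsingleton_iff_nontrivial.mp hGt
    have hOn : (Cfsg.pCore p G).Normal := Cfsg.Agent.Lib.Helper1.pCore_normal p G
    by_cases hO : Cfsg.pCore p G = ⊥
    swap
    · have h4 := ih (G ⧸ Cfsg.pCore p G) (card_quotient_le_of_ne_bot hO hn) inferInstance _
        (hA.map _) (hyp.quotient _)
      rw [pCore_quotient_pCore] at h4
      intro a ha
      have h5 : QuotientGroup.mk' (Cfsg.pCore p G) a ∈ (⊥ : Subgroup (G ⧸ Cfsg.pCore p G)) :=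
        h4 ⟨a, ha, rfl⟩
      rw [Subgroup.mem_bot, QuotientGroup.mk'_apply, QuotientGroup.eq_one_iff] at h5
      exact h5
    obtain ⟨V, hVn, hVne, hVab⟩ := exists_normal_abelian_ne_bot hG
    have := hVn
    have hVcop : (Nat.card V).Coprime p := coprime_card_of_pCore_eq_bot hO V hVab
    have hIH := ih (G ⧸ V) (card_quotient_le_of_ne_bot hVne hn) inferInstance _
      (hA.map _) (hyp.quotient V)
    set Obar := Cfsg.pCore p (G ⧸ V) with hObar
    have hObn : Obar.Normal := Cfsg.Agent.Lib.Helper1.pCore_normal p _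
    have hObp : IsPGroup p Obar := Cfsg.Agent.Lib.Helper1.pCore_isPGroup p _
    set P := Obar.comap (QuotientGroup.mk' V) with hP
    have hPn : P.Normal := hObn.comap _
    have hAP : A ≤ P := fun a ha => hIH ⟨a, ha, rfl⟩
    have hPpow : ∀ x ∈ P, ∃ k : ℕ, x ^ p ^ k ∈ V := by
      intro x hx
      obtain ⟨k, hk⟩ := hObp ⟨QuotientGroup.mk' V x, hx⟩
      have hk' : (QuotientGroup.mk' V x) ^ p ^ k = 1 := by
        have := congrArg Subtype.val hk
        simpa using this
      rw [← map_pow, QuotientGroup.mk'_apply, QuotientGroup.eq_one_iff] at hk'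
      exact ⟨k, hk'⟩
    -- the action on `V`
    set φ : G →* MulAut ↥V := MulAut.conjNormal with hφ
    have hφapp : ∀ (g : G) (v : ↥V), ((φ g v : ↥V) : G) = g * v * g⁻¹ :=
      fun g v => MulAut.conjNormal_apply g v
    have hφV : ∀ v ∈ V, φ v = 1 := by
      intro v hv
      ext u
      rw [hφapp, MulAut.one_apply, hVab v hv u u.2, mul_inv_cancel_right]
    by_cases hcent : ∀ a ∈ A, φ a = 1
    · -- `A` centralizes `V`
      have hcomm : ∀ a ∈ A, ∀ v ∈ V, a * v = v * a := by
        intro a ha v hv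
        have h1 := hφapp a ⟨v, hv⟩
        rw [hcent a ha, MulAut.one_apply] at h1
        have h2 : v = a * v * a⁻¹ := h1
        rw [eq_mul_inv_iff_mul_eq] at h2
        exact h2.symm
      have hVA : V ≤ Subgroup.normalizer (A : Set G) := by
        intro v hv
        rw [Subgroup.mem_normalizer_iff]
        intro h
        constructor
        · intro hh
          have : v * h * v⁻¹ = h := by rw [← hcomm h hh v hv, mul_inv_cancel_right]
          rw [this]; exact hh
        · intro hh
          have h1 := hcomm _ hh v hv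
          have h2 : h = v * h * v⁻¹ := by
            have : v * h * v⁻¹ * v = v * (v * h * v⁻¹) := h1
            have h3 : v * h = v * (v * h * v⁻¹) := by
              rw [← this]; group
            exact mul_left_cancel h3
          rw [h2]; exact hh
      have h1 : ((A.map (QuotientGroup.mk' V)).subgroupOf Obar).IsSubnormal :=
        isSubnormal_of_isPGroup' hObp _ _ rfl
      have h2 : (A.map (QuotientGroup.mk' V)).IsSubnormal :=
        Subgroup.IsSubnormal.trans hIH h1 hObn.isSubnormal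
      have h3 := h2.comap (QuotientGroup.mk' V)
      rw [QuotientGroup.comap_map_mk'] at h3
      have h4 : (A.subgroupOf (V ⊔ A)).Normal :=
        (Subgroup.normal_subgroupOf_iff_le_normalizer le_sup_right).mpr
          (sup_le hVA Subgroup.le_normalizer)
      have h5 : A.IsSubnormal := Subgroup.IsSubnormal.trans le_sup_right h4.isSubnormal h3
      exact Cfsg.Agent.Lib.Helper20.subnormal_pgroup_le_pCore p A h5 hA
    · -- `A` acts nontrivially: contradiction with the Main Lemma
      exfalso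
      push Not at hcent
      obtain ⟨a₀, ha₀, ha₀1⟩ := hcent
      set N : Subgroup (MulAut ↥V) := P.map φ with hN
      set X : Subgroup (MulAut ↥V) := φ.range with hX
      have hNX : N ≤ X := by
        rintro _ ⟨x, _, rfl⟩
        exact ⟨x, rfl⟩
      have hnormXN : ∀ x ∈ X, ∀ m ∈ N, x * m * x⁻¹ ∈ N := by
        rintro _ ⟨x, rfl⟩ _ ⟨m, hm, rfl⟩
        refine ⟨x * m * x⁻¹, hPn.conj_mem m hm x, ?_⟩
        rw [map_mul, map_mul, map_inv]
      have hNp : IsPGroup p N := by
        rintro ⟨_, x, hx, rfl⟩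
        obtain ⟨k, hk⟩ := hPpow x hx
        refine ⟨k, Subtype.ext ?_⟩
        show (φ x) ^ p ^ k = 1
        rw [← map_pow]
        exact hφV _ hk
      have hex : ∃ k : ℕ, (φ a₀) ^ p ^ k = 1 := by
        obtain ⟨k, hk⟩ := hNp ⟨φ a₀, a₀, hAP ha₀, rfl⟩
        exact ⟨k, by simpa using congrArg Subtype.val hk⟩
      classical
      have hk0 : Nat.find hex ≠ 0 := by
        intro h
        have := Nat.find_spec hex
        rw [h, pow_zero, pow_one] at this
        exact ha₀1 this
      obtain ⟨m, hm⟩ := Nat.exists_eq_succ_of_ne_zero hk0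
      set a := a₀ ^ p ^ m with ha
      have haA : a ∈ A := A.pow_mem ha₀ _
      have hφa1 : φ a ≠ 1 := by
        rw [ha, map_pow]
        exact Nat.find_min hex (by omega)
      have hφap : (φ a) ^ p = 1 := by
        have := Nat.find_spec hex
        rw [hm, Nat.succ_eq_add_one, pow_succ, pow_mul] at this
        rw [ha, map_pow]
        exact this
      have : IsMulCommutative ↥V := ⟨⟨fun x y => Subtype.ext (hVab x x.2 y y.2)⟩⟩
      obtain ⟨w, hw⟩ := (open scoped IsMulCommutative in mlProp_of_odd hp2 ↥V hVcop)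
        X N (φ a) hNX hnormXN hNp ⟨a, hAP haA, rfl⟩ hφa1 hφap
      obtain ⟨g, hcg, hpg⟩ := hyp (w : G)
      obtain ⟨y, hy⟩ := isConj_iff.mp hcg
      have hgV : g ∈ V := by rw [← hy]; exact hVn.conj_mem _ w.2 y
      set t := a * g * a⁻¹ * g⁻¹ with ht
      have htV : t ∈ V := V.mul_mem (hVn.conj_mem g hgV a) (V.inv_mem hgV)
      have htD : t ∈ A ⊔ MulAut.conj g • A := by
        have h1 : t = a * (g * a⁻¹ * g⁻¹) := by rw [ht]; group
        rw [h1]
        exact Subgroup.mul_mem_sup haA (conj_mem_conj_smul (A.inv_mem haA))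
      have ht1 : t = 1 := by
        obtain ⟨k, hk⟩ := hpg ⟨t, htD⟩
        have hk' : t ^ p ^ k = 1 := by simpa using congrArg Subtype.val hk
        have h1 : orderOf t ∣ p ^ k := orderOf_dvd_of_pow_eq_one hk'
        have h2 : orderOf t ∣ Nat.card V := by
          have := orderOf_dvd_natCard (⟨t, htV⟩ : ↥V)
          rwa [Subgroup.orderOf_mk] at this
        have h3 : orderOf t = 1 :=
          Nat.eq_one_of_dvd_coprimes (Nat.Coprime.pow_right k hVcop) h2 h1
        exact orderOf_eq_one_iff.mp h3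
      have hag : a * g * a⁻¹ = g := by
        have : a * g * a⁻¹ * g⁻¹ = 1 := ht1
        rwa [mul_inv_eq_one] at this
      apply hw (φ y⁻¹) ⟨y⁻¹, rfl⟩
      rw [← map_inv, ← map_mul, ← map_mul]
      apply Subtype.ext
      rw [hφapp]
      have hw' : (w : G) = y⁻¹ * g * y := by rw [← hy]; group
      calc y⁻¹ * a * y⁻¹⁻¹ * (w : G) * (y⁻¹ * a * y⁻¹⁻¹)⁻¹
          = y⁻¹ * (a * (y * (w : G) * y⁻¹) * a⁻¹) * y := by group
        _ = y⁻¹ * (a * g * a⁻¹) * y := by rw [hy]
        _ = y⁻¹ * g * y := by rw [hag]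
        _ = (w : G) := hw'.symm

end Red

end Cfsg.Agent.Lib.Helper22.BSOdd
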