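/-
helper22: S4648 leaf RANK (planner helper1, `notes/S4648_leaves.lean`): the rank of an idempotent of `O_M[G]`
modulo `M`, through the characters.
-/
import Mathlib
import Cfsg.Prelude.Def_BlockRank
import Cfsg.Prelude.Def_BrauerPairs
import Cfsg.Agent.Lib.Helper27.SymAlgDefs
import Cfsg.Agent.Lib.Helper27.BlkAlgDefs2
import Cfsg.Agent.Lib.Helper18.BlkAlgB2
import Cfsg.Agent.Lib.Helper18.BlkAlgB3
import Cfsg.Agent.Lib.Helper19.BlkAlgB1
import Cfsg.Agent.Lib.Helper24.BlkAlgB5a

set_option autoImplicit false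
set_option linter.unusedSectionVars false
set_option linter.unusedVariables false

namespace Cfsg.Agent.Lib.Helper22.K4RANK

open Cfsg Cfsg.Agent.Lib.Helper6 Cfsg.Agent.Lib.Helper24
open Cfsg.Agent.Lib.Helper27.SymAlg Cfsg.Agent.Lib.Helper27.BlkAlg
open Cfsg.Agent.Lib.Helper24.BlkAlgB5a (gmat)

universe u

variable (M : Ideal AlgInt) [M.IsMaximal] {p : ℕ} [Fact p.Prime]

section lift

variable {G : Type u} [Group G] [Fintype G]

/-- (RANK) the rank of an idempotent of `O_M[G]` modulo `M`, through the characters -/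
theorem rank_gmat_redFun [Fintype (IrrCharacter G)] [DecidableEq G] (hM : IsPModular p M)
    (a : G → ℂ) (ha : ∀ g, MemLocalRing M (a g)) (hidem : conv a a = a) :
    ((gmat (fun g => (redFun M a).coeff g)).rank : ℂ) =
      ∑ χ : IrrCharacter G, (χ : G → ℂ) 1 * ∑ g, a g * (χ : G → ℂ) g := by
  classical
  set ι : localSubring M →+* ℂ := (localSubring M).subtype with hιdef
  have hι : Function.Injective ι := Subtype.val_injective
  -- the idempotent matrix over `O_M` and its complement
  set aO : G → localSubring M := fun g => ⟨a g, ha g⟩ with haO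
  set A₁ : Matrix G G (localSubring M) := gmat aO with hA₁
  have hinj : Function.Injective (ι.mapMatrix : Matrix G G (localSubring M) →+* Matrix G G ℂ) := by
    intro X Y hXY
    rw [RingHom.mapMatrix_apply, RingHom.mapMatrix_apply] at hXY
    exact Matrix.map_injective hι hXY
  have hmapι : ι.mapMatrix A₁ = gmat a := by
    ext k g
    simp only [hA₁, RingHom.mapMatrix_apply, Matrix.map_apply, BlkAlgB5a.gmat_apply]
    rfl
  have hP : gmat a * gmat a = gmat a := by
    rw [BlkAlgB5a.gmat_mul]
    congr 1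
  have hidem₁ : A₁ * A₁ = A₁ := by
    apply hinj
    rw [map_mul, hmapι, hP]
  let A : Bool → Matrix G G (localSubring M) := fun b => if b then A₁ else 1 - A₁
  have hA1 : ∀ i ∈ (Finset.univ : Finset Bool), A i * A i = A i := by
    intro i _
    cases i
    · show (1 - A₁) * (1 - A₁) = 1 - A₁
      rw [mul_sub, sub_mul, sub_mul, one_mul, mul_one, one_mul, hidem₁, sub_self, sub_zero]
    · exact hidem₁
  have hA2 : ∀ i ∈ (Finset.univ : Finset Bool), ∀ j ∈ (Finset.univ : Finset Bool), i ≠ j →
      A i * A j = 0 := by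
    intro i _ j _ hij
    cases i <;> cases j
    · exact absurd rfl hij
    · show (1 - A₁) * A₁ = 0
      rw [sub_mul, one_mul, hidem₁, sub_self]
    · show A₁ * (1 - A₁) = 0
      rw [mul_sub, mul_one, hidem₁, sub_self]
    · exact absurd rfl hij
  have hA3 : ∑ i ∈ (Finset.univ : Finset Bool), A i = 1 := by
    rw [Fintype.sum_bool]
    show A₁ + (1 - A₁) = 1
    abel
  have hrank := Cfsg.Agent.Lib.Helper14.BlkAlgB4c.rank_map_eq_of_complete ι hι (red M)
    (Finset.univ : Finset Bool) A hA1 hA2 hA3 true (Finset.mem_univ _)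
  -- the `F`-side
  have hF : A₁.map (red M) = gmat (fun g => (redFun M a).coeff g) := by
    ext k g
    simp only [hA₁, Matrix.map_apply, BlkAlgB5a.gmat_apply]
    rw [BlkAlgB5a.coeff_redFun', redC_of_mem M (ha _)]
  -- the complex side
  have hC : A₁.map ι = gmat a := by
    have := hmapι
    rwa [RingHom.mapMatrix_apply] at this
  have hrank' : (gmat (fun g => (redFun M a).coeff g)).rank = (gmat a).rank := by
    rw [← hF, ← hC]
    exact hrank
  rw [hrank', BlkAlgB5a.rank_eq_trace_of_idem _ hP, BlkAlgB5a.trace_gmat]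
  -- the regular character
  have hreg : ∑ χ : IrrCharacter G, (χ : G → ℂ) 1 * ∑ g, a g * (χ : G → ℂ) g =
      ∑ g, a g * ∑ χ : IrrCharacter G, (χ : G → ℂ) 1 * (χ : G → ℂ) g := by
    simp only [Finset.mul_sum]
    rw [Finset.sum_comm]
    refine Finset.sum_congr rfl (fun g _ => Finset.sum_congr rfl (fun χ _ => ?_))
    ring
  rw [hreg]
  simp only [sum_irr_degree_mul, mul_ite, mul_zero, Finset.sum_ite_eq', Finset.mem_univ, if_true]
  ring

end lift

end Cfsg.Agent.Lib.Helper22.K4RANK
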