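import Mathlib

/-!
Helper lemmas of helper22 (general finite group theory).
-/

set_option autoImplicit false

namespace Cfsg.Agent.Lib.Helper22

/-- In a finite perfect group, a Sylow `p`-subgroup `P` with `N(P) ≤ C(P)` is trivial
(Burnside's transfer theorem). -/
theorem sylow_eq_bot_of_isPerfect {G : Type*} [Group G] [Finite G] [Group.IsPerfect G]
    {p : ℕ} [Fact p.Prime] (P : Sylow p G)
    (hP : Subgroup.normalizer (P : Set G) ≤ Subgroup.centralizer (P : Set G)) :
    (P : Subgroup G) = ⊥ := by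
  have hcomm : ∀ a b : P, a * b = b * a :=
    fun a b => Subtype.ext (hP (Subgroup.le_normalizer b.2) a a.2)
  letI : CommGroup P := { (inferInstance : Group P) with mul_comm := hcomm }
  have hker : (MonoidHom.transferSylow P hP).ker = ⊤ := by
    rw [eq_top_iff, ← Group.IsPerfect.commutator_eq_top]
    exact Abelianization.commutator_subset_ker _
  have h := MonoidHom.ker_transferSylow_isComplement' P hP
  rw [hker] at h
  exact Subgroup.isComplement'_top_left.mp h

/-- A `p`-subgroup of a finite group all of whose elements map trivially to a quotient of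
order prime to `p`: a Sylow `p`-subgroup is contained in any normal subgroup of index prime to `p`. -/
theorem sylow_le_of_not_dvd_index {G : Type*} [Group G] [Finite G]
    {p : ℕ} [Fact p.Prime] (P : Sylow p G) (N : Subgroup G) [N.Normal] (h : ¬ p ∣ N.index) :
    (P : Subgroup G) ≤ N := by
  intro x hx
  obtain ⟨k, hk⟩ := (IsPGroup.iff_orderOf.mp P.2) ⟨x, hx⟩
  have hk' : orderOf x = p ^ k := by
    rw [← hk]; exact (Subgroup.orderOf_mk x hx).symm
  have h1 : orderOf (QuotientGroup.mk' N x) ∣ p ^ k := hk' ▸ orderOf_map_dvd _ x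
  have h2 : orderOf (QuotientGroup.mk' N x) ∣ N.index := by
    rw [Subgroup.index_eq_card]; exact orderOf_dvd_natCard _
  have hcop : (p ^ k).Coprime N.index :=
    Nat.Coprime.pow_left k ((Nat.Prime.coprime_iff_not_dvd Fact.out).mpr h)
  have h3 : orderOf (QuotientGroup.mk' N x) = 1 := Nat.eq_one_of_dvd_coprimes hcop h1 h2
  rw [orderOf_eq_one_iff] at h3
  exact (QuotientGroup.eq_one_iff x).mp h3

end Cfsg.Agent.Lib.Helper22

namespace Cfsg.Agent.Lib.Helper22

variable {G : Type*} [Group G]

theorem card_mul_relIndex_of_le {H K : Subgroup G} (h : H ≤ K) :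
    Nat.card H * H.relIndex K = Nat.card K := by
  have h1 := Subgroup.card_mul_index (H.subgroupOf K)
  rw [Nat.card_congr (Subgroup.subgroupOfEquivOfLe h).toEquiv] at h1
  exact h1

/-- Second isomorphism theorem, cardinality form: if `L` normalizes `H` then
`[H : H ∩ L] = [HL : L]`. -/
theorem relIndex_inf_eq_relIndex_sup [Finite G] (H L : Subgroup G)
    (hL : L ≤ Subgroup.normalizer (H : Set G)) :
    (H ⊓ L).relIndex H = L.relIndex (H ⊔ L) := by
  -- [L : H ∩ L] = [HL : H]
  have e1 : H.relIndex L = H.relIndex (L ⊔ H) := by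
    letI := Subgroup.normal_subgroupOf_of_le_normalizer hL
    letI := Subgroup.normal_subgroupOf_sup_of_le_normalizer hL
    exact Nat.card_congr (QuotientGroup.quotientInfEquivProdNormalizerQuotient L H hL).toEquiv
  rw [sup_comm] at e1
  have c1 := card_mul_relIndex_of_le (inf_le_left : H ⊓ L ≤ H)
  have c2 := card_mul_relIndex_of_le (inf_le_right : H ⊓ L ≤ L)
  have c3 := card_mul_relIndex_of_le (le_sup_left : H ≤ H ⊔ L)
  have c4 := card_mul_relIndex_of_le (le_sup_right : L ≤ H ⊔ L)
  rw [Subgroup.inf_relIndex_right, e1] at c2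
  -- |H ⊔ L| = |H| * [L : H ∩ L] and = |L| * [HL : L]
  have hpos : 0 < Nat.card (H ⊓ L : Subgroup G) := Nat.card_pos
  have hpos2 : 0 < H.relIndex (H ⊔ L) := by
    rcases Nat.eq_zero_or_pos (H.relIndex (H ⊔ L)) with h0 | h0
    · rw [h0, mul_zero] at c3
      exact absurd c3.symm (Nat.card_pos).ne'
    · exact h0
  -- (|H⊓L| * a) * r = |H ⊔ L| where a = [H : H⊓L], r = [HL : H];  (|H ⊓ L| * r) * b = |H ⊔ L|, b = [HL : L]
  have : Nat.card (H ⊓ L : Subgroup G) * H.relIndex (H ⊔ L) * (H ⊓ L).relIndex H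
      = Nat.card (H ⊓ L : Subgroup G) * H.relIndex (H ⊔ L) * L.relIndex (H ⊔ L) := by
    calc Nat.card (H ⊓ L : Subgroup G) * H.relIndex (H ⊔ L) * (H ⊓ L).relIndex H
        = (Nat.card (H ⊓ L : Subgroup G) * (H ⊓ L).relIndex H) * H.relIndex (H ⊔ L) := by ring
      _ = Nat.card (H ⊔ L : Subgroup G) := by rw [c1, c3]
      _ = Nat.card (H ⊓ L : Subgroup G) * H.relIndex (H ⊔ L) * L.relIndex (H ⊔ L) := by rw [c2, c4]
  exact Nat.eq_of_mul_eq_mul_left (Nat.mul_pos hpos hpos2) this

/-- For a subnormal subgroup `H` of a finite group and any subgroup `K`, `[H : H ∩ K]` divides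
`[G : K]`. -/
theorem IsSubnormal.relIndex_inf_dvd_index [Finite G] {H : Subgroup G} (hH : H.IsSubnormal)
    (K : Subgroup G) : (H ⊓ K).relIndex H ∣ K.index := by
  induction hH with
  | top => rw [top_inf_eq, Subgroup.relIndex_top_right]
  | step H K' h_le hSubn hN ih =>
    have hnorm : K' ≤ Subgroup.normalizer (H : Set G) :=
      (Subgroup.normal_subgroupOf_iff_le_normalizer h_le).mp hN
    set L := K' ⊓ K with hL
    have hLK' : L ≤ K' := inf_le_left
    have e : H ⊓ K = H ⊓ L := by
      rw [hL, ← inf_assoc, inf_of_le_left h_le]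
    rw [e, relIndex_inf_eq_relIndex_sup H L (hLK'.trans hnorm)]
    have h1 : L.relIndex (H ⊔ L) ∣ L.relIndex K' := by
      rw [← Subgroup.relIndex_mul_relIndex L (H ⊔ L) K' le_sup_right (sup_le h_le hLK')]
      exact dvd_mul_right _ _
    exact h1.trans ih

end Cfsg.Agent.Lib.Helper22

namespace Cfsg.Agent.Lib.Helper22

variable {G : Type*} [Group G]

/-- For a subnormal subgroup `H`, `x ^ [G : H] ∈ H` for every `x`. -/
theorem IsSubnormal.pow_index_mem {H : Subgroup G} (hH : H.IsSubnormal) (x : G) :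
    x ^ H.index ∈ H := by
  induction hH with
  | top => simp
  | step H K h_le hSubn hN ih =>
    have h1 : (⟨x ^ K.index, ih⟩ : K) ^ (H.subgroupOf K).index ∈ H.subgroupOf K :=
      Subgroup.pow_index_mem _ _
    rw [Subgroup.mem_subgroupOf] at h1
    rw [← Subgroup.relIndex_mul_index h_le, mul_comm, pow_mul]
    have h2 : (x ^ K.index) ^ (H.subgroupOf K).index ∈ H := by simpa using h1
    exact h2

end Cfsg.Agent.Lib.Helper22
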