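import Mathlib

/-! Helper22 library (S4184): class sizes as centralizer indices; basic divisibility facts. -/

set_option autoImplicit false

namespace Cfsg.Agent.Lib.Helper22.ClsSet

open Subgroup

section basic

variable {G : Type*} [Group G]

/-- the class size of `g` as a centralizer index -/
noncomputable def idx (g : G) : ℕ := (Subgroup.centralizer ({g} : Set G)).index

theorem mem_cent_singleton (g x : G) :
    x ∈ Subgroup.centralizer ({g} : Set G) ↔ g * x = x * g := by
  rw [Subgroup.mem_centralizer_iff]
  constructor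
  · intro h
    exact h g rfl
  · rintro h _ rfl
    exact h

theorem cent_le_of_mem_zpowers {x y : G} (h : y ∈ Subgroup.zpowers x) :
    Subgroup.centralizer ({x} : Set G) ≤ Subgroup.centralizer ({y} : Set G) := by
  intro g hg
  rw [mem_cent_singleton] at hg ⊢
  obtain ⟨k, rfl⟩ := Subgroup.mem_zpowers_iff.1 h
  exact (Commute.zpow_left (show Commute x g from hg) k).eq

theorem idx_dvd_of_mem_zpowers {x y : G} (h : y ∈ Subgroup.zpowers x) : idx y ∣ idx x :=
  Subgroup.index_dvd_of_le (cent_le_of_mem_zpowers h)

theorem idx_conj (h g : G) : idx (h * g * h⁻¹) = idx g := by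
  have : Subgroup.centralizer ({h * g * h⁻¹} : Set G) =
      (Subgroup.centralizer ({g} : Set G)).map ((MulAut.conj h : G ≃* G) : G →* G) := by
    ext x
    rw [Subgroup.mem_map, mem_cent_singleton]
    constructor
    · intro hx
      refine ⟨h⁻¹ * x * h, ?_, ?_⟩
      · rw [mem_cent_singleton]
        have h1 : g = h⁻¹ * (h * g * h⁻¹) * h := by group
        calc g * (h⁻¹ * x * h) = h⁻¹ * ((h * g * h⁻¹) * x) * h := by group
          _ = h⁻¹ * (x * (h * g * h⁻¹)) * h := by rw [hx]
          _ = h⁻¹ * x * h * g := by group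
      · show MulAut.conj h (h⁻¹ * x * h) = x
        rw [MulAut.conj_apply]
        group
    · rintro ⟨y, hy, rfl⟩
      rw [mem_cent_singleton] at hy
      show h * g * h⁻¹ * MulAut.conj h y = MulAut.conj h y * (h * g * h⁻¹)
      rw [MulAut.conj_apply]
      calc h * g * h⁻¹ * (h * y * h⁻¹) = h * (g * y) * h⁻¹ := by group
        _ = h * (y * g) * h⁻¹ := by rw [hy]
        _ = h * y * h⁻¹ * (h * g * h⁻¹) := by group
  unfold idx
  rw [this, Subgroup.index_map_equiv]

theorem idx_eq_one_iff (g : G) : idx g = 1 ↔ g ∈ Subgroup.center G := by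
  unfold idx
  rw [Subgroup.index_eq_one, Subgroup.centralizer_eq_top_iff_subset, Set.singleton_subset_iff]
  rfl

theorem idx_one : idx (1 : G) = 1 := (idx_eq_one_iff 1).2 (Subgroup.one_mem _)

/-- for commuting elements of coprime orders each factor is a power of the product -/
theorem mem_zpowers_mul_of_coprime {x y : G} (hc : Commute x y)
    (hcop : (orderOf x).Coprime (orderOf y)) : x ∈ Subgroup.zpowers (x * y) := by
  have h1 : (x * y) ^ orderOf y = x ^ orderOf y := by
    rw [hc.mul_pow, pow_orderOf_eq_one, mul_one]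
  obtain ⟨m, hm⟩ := exists_pow_eq_self_of_coprime (x := x) (n := orderOf y) hcop.symm
  have h2 : x = (x * y) ^ (orderOf y * m) := by
    rw [pow_mul, h1, hm]
  rw [Subgroup.mem_zpowers_iff]
  refine ⟨((orderOf y * m : ℕ) : ℤ), ?_⟩
  rw [zpow_natCast]
  exact h2.symm

theorem idx_dvd_mul_left_of_coprime {x y : G} (hc : Commute x y)
    (hcop : (orderOf x).Coprime (orderOf y)) : idx x ∣ idx (x * y) :=
  idx_dvd_of_mem_zpowers (mem_zpowers_mul_of_coprime hc hcop)

theorem idx_dvd_mul_right_of_coprime {x y : G} (hc : Commute x y)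
    (hcop : (orderOf x).Coprime (orderOf y)) : idx y ∣ idx (x * y) := by
  have := idx_dvd_mul_left_of_coprime hc.symm hcop.symm
  rw [← hc.eq] at this
  exact this

theorem card_cent_mul_idx [Finite G] (g : G) :
    Nat.card (Subgroup.centralizer ({g} : Set G)) * idx g = Nat.card G :=
  Subgroup.card_mul_index _

theorem idx_ne_zero [Finite G] (g : G) : idx g ≠ 0 := Subgroup.index_ne_zero_of_finite

end basic

end Cfsg.Agent.Lib.Helper22.ClsSet
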