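import Mathlib
import Cfsg.Agent.Lib.Helper17.Coprime
import Cfsg.Agent.Lib.Helper1.MaxNormalAbelian

set_option autoImplicit false

namespace Cfsg.Agent.Lib.Helper22.Ito

open Subgroup
open scoped commutatorElement

variable {G : Type*} [Group G]

/-- the two-class-size hypothesis -/
def TwoCS (G : Type*) [Group G] (n : ℕ) : Prop :=
  ∀ x : G, (centralizer ({x} : Set G)).index = 1 ∨ (centralizer ({x} : Set G)).index = n

theorem index_cent_eq_one_iff (x : G) :
    (centralizer ({x} : Set G)).index = 1 ↔ x ∈ center G := by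
  rw [Subgroup.index_eq_one, Subgroup.centralizer_eq_top_iff_subset, Set.singleton_subset_iff]
  rfl

theorem index_cent_of_not_mem {n : ℕ} (h : TwoCS G n) {x : G} (hx : x ∉ center G) :
    (centralizer ({x} : Set G)).index = n := by
  rcases h x with h1 | h1
  · exact absurd ((index_cent_eq_one_iff x).1 h1) hx
  · exact h1

theorem center_le_cent (x : G) : center G ≤ centralizer ({x} : Set G) :=
  Subgroup.center_le_centralizer _

theorem mem_cent_iff {x g : G} : g ∈ centralizer ({x} : Set G) ↔ g * x = x * g := by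
  rw [Subgroup.mem_centralizer_iff]
  constructor
  · intro h; exact (h x rfl).symm
  · intro h y hy; rw [Set.mem_singleton_iff] at hy; subst hy; exact h.symm

theorem cent_le_cent_zpow (x : G) (k : ℤ) :
    centralizer ({x} : Set G) ≤ centralizer ({x ^ k} : Set G) := by
  intro g hg
  rw [mem_cent_iff] at hg ⊢
  exact ((Commute.zpow_right (show Commute g x from hg) k)).eq

theorem cent_le_cent_pow (x : G) (k : ℕ) :
    centralizer ({x} : Set G) ≤ centralizer ({x ^ k} : Set G) := by
  intro g hg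
  rw [mem_cent_iff] at hg ⊢
  exact ((Commute.pow_right (show Commute g x from hg) k)).eq

variable [Finite G]

/-- L1: centralizers of noncentral elements are incomparable -/
theorem cent_eq_of_le {n : ℕ} (hn : 1 < n) (h : TwoCS G n) {x y : G} (hy : y ∉ center G)
    (hle : centralizer ({x} : Set G) ≤ centralizer ({y} : Set G)) :
    centralizer ({x} : Set G) = centralizer ({y} : Set G) := by
  have hx : x ∉ center G := by
    intro hx
    apply hy
    have : centralizer ({x} : Set G) = ⊤ := by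
      rw [← Subgroup.index_eq_one]; exact (index_cent_eq_one_iff x).2 hx
    rw [this] at hle
    rw [← index_cent_eq_one_iff, Subgroup.index_eq_one]
    exact top_le_iff.1 hle
  have h1 := index_cent_of_not_mem h hx
  have h2 := index_cent_of_not_mem h hy
  have h3 := Subgroup.relIndex_mul_index hle
  rw [h1, h2] at h3
  have h4 : (centralizer ({x} : Set G)).relIndex (centralizer ({y} : Set G)) = 1 := by
    have hn0 : 0 < n := by omega
    exact Nat.eq_of_mul_eq_mul_right hn0 (by rw [h3, one_mul])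
  exact le_antisymm hle (Subgroup.relIndex_eq_one.1 h4)

theorem card_cent_eq {n : ℕ} (h : TwoCS G n) {x y : G} (hx : x ∉ center G) (hy : y ∉ center G) :
    Nat.card (centralizer ({x} : Set G)) = Nat.card (centralizer ({y} : Set G)) := by
  have h1 := index_cent_of_not_mem h hx
  have h2 := index_cent_of_not_mem h hy
  have h3 := Subgroup.card_mul_index (centralizer ({x} : Set G))
  have h4 := Subgroup.card_mul_index (centralizer ({y} : Set G))
  rw [h1] at h3; rw [h2] at h4
  have hn0 : 0 < n := by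
    rcases Nat.eq_zero_or_pos n with h0 | h0
    · subst h0; rw [mul_zero] at h3; exact absurd h3.symm (Nat.card_pos).ne'
    · exact h0
  exact Nat.eq_of_mul_eq_mul_right hn0 (h3.trans h4.symm)

/-- x is a power of x*y when x,y commute with coprime orders -/
theorem mem_zpowers_mul_of_coprime {x y : G} (hc : Commute x y)
    (hcop : (orderOf x).Coprime (orderOf y)) : ∃ k : ℕ, (x * y) ^ k = x := by
  by_cases h1 : orderOf x = 1
  · rw [orderOf_eq_one_iff] at h1
    subst h1
    exact ⟨orderOf y, by rw [one_mul, pow_orderOf_eq_one]⟩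
  · have hpos : 0 < orderOf x := orderOf_pos x
    have h1' : 1 < orderOf x := by omega
    obtain ⟨m, -, hm⟩ := Nat.exists_mul_mod_eq_one_of_coprime hcop.symm h1'
    refine ⟨orderOf y * m, ?_⟩
    rw [hc.mul_pow, pow_mul y, pow_orderOf_eq_one, one_pow, mul_one, ← pow_mod_orderOf, hm, pow_one]

/-- Step A -/
theorem cent_le_of_coprime {n : ℕ} (hn : 1 < n) (h : TwoCS G n) {x y : G} (hx : x ∉ center G)
    (hc : Commute x y) (hcop : (orderOf x).Coprime (orderOf y)) :
    centralizer ({x} : Set G) ≤ centralizer ({y} : Set G) := by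
  obtain ⟨k, hk⟩ := mem_zpowers_mul_of_coprime hc hcop
  obtain ⟨l, hl⟩ := mem_zpowers_mul_of_coprime hc.symm hcop.symm
  rw [hc.symm.eq] at hl
  have h1 : centralizer ({x * y} : Set G) ≤ centralizer ({x} : Set G) := by
    have := cent_le_cent_pow (x * y) k
    rwa [hk] at this
  have h2 : centralizer ({x * y} : Set G) ≤ centralizer ({y} : Set G) := by
    have := cent_le_cent_pow (x * y) l
    rwa [hl] at this
  rw [← cent_eq_of_le hn h hx h1]
  exact h2
theorem normal_of_le_center' {N : Subgroup G} (hN : N ≤ center G) : N.Normal := by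
  constructor
  intro x hx g
  have : g * x * g⁻¹ = x := by
    have h := (Subgroup.mem_center_iff.1 (hN hx)) g
    rw [h, mul_inv_cancel_right]
  rw [this]; exact hx

/-- L2 : a noncentral element has a noncentral primary power -/
theorem exists_primary_noncentral : ∀ (m : ℕ) (g : G), orderOf g = m → g ∉ center G →
    ∃ (p : ℕ) (_ : p.Prime) (k : ℤ) (e : ℕ), g ^ k ∉ center G ∧ orderOf (g ^ k) = p ^ e := by
  intro m
  induction m using Nat.strong_induction_on with
  | _ m ih =>
    intro g hm hg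
    have hne1 : orderOf g ≠ 1 := by
      intro h1
      rw [orderOf_eq_one_iff] at h1
      exact hg (h1 ▸ Subgroup.one_mem _)
    obtain ⟨p, hp, hpd⟩ := Nat.exists_prime_and_dvd hne1
    have : Fact p.Prime := ⟨hp⟩
    obtain ⟨i, j, hij, ⟨e, he⟩, hcop⟩ := Cfsg.Agent.Lib.Helper17.exists_p_pprime_decomp p g
    by_cases hi : g ^ i ∈ center G
    · have hj : g ^ j ∉ center G := by
        intro hj
        apply hg
        rw [hij]
        exact Subgroup.mul_mem _ hi hj
      have hdvd : orderOf (g ^ j) ∣ orderOf g :=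
        orderOf_dvd_of_mem_zpowers (Subgroup.zpow_mem_zpowers g j)
      have hlt : orderOf (g ^ j) < m := by
        rw [← hm]
        apply lt_of_le_of_ne (Nat.le_of_dvd (orderOf_pos g) hdvd)
        intro heq
        rw [heq] at hcop
        exact hp.one_lt.ne' (Nat.Coprime.eq_one_of_dvd hcop.symm hpd)
      obtain ⟨p', hp', k', e', h1, h2⟩ := ih _ hlt (g ^ j) rfl hj
      refine ⟨p', hp', j * k', e', ?_, ?_⟩
      · rwa [zpow_mul]
      · rwa [zpow_mul]
    · exact ⟨p, hp, i, e, hi, he⟩

theorem exists_primary_noncentral' {g : G} (hg : g ∉ center G) :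
    ∃ (p : ℕ) (_ : p.Prime) (k : ℤ) (e : ℕ), g ^ k ∉ center G ∧ orderOf (g ^ k) = p ^ e :=
  exists_primary_noncentral _ g rfl hg

/-- Lemma K -/
theorem lemmaK {n : ℕ} (h : TwoCS G n) (q : ℕ) [hq : Fact q.Prime] {x1 x2 : G}
    (hx1 : x1 ∉ center G) (hx2 : x2 ∉ center G)
    (hall : ∀ w ∈ centralizer ({x1} : Set G), (∃ e : ℕ, orderOf w = q ^ e) → w ∈ center G) :
    ∀ w ∈ centralizer ({x2} : Set G), (∃ e : ℕ, orderOf w = q ^ e) → w ∈ center G := by
  intro w hw ⟨e, he⟩
  obtain ⟨S⟩ : Nonempty (Sylow q (centralizer ({x1} : Set G))) := inferInstance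
  set S' : Subgroup G := (S : Subgroup (centralizer ({x1} : Set G))).map
    (centralizer ({x1} : Set G)).subtype with hS'
  have hS'c : S' ≤ center G := by
    rintro s ⟨s0, hs0, rfl⟩
    apply hall _ s0.2
    obtain ⟨k, hk⟩ := S.2 ⟨s0, hs0⟩
    have hk' : s0 ^ q ^ k = 1 := by
      have := congrArg Subtype.val hk
      simpa using this
    have hd : orderOf s0 ∣ q ^ k := orderOf_dvd_of_pow_eq_one hk'
    obtain ⟨e', -, he'⟩ := (Nat.dvd_prime_pow hq.out).1 hd
    exact ⟨e', by rw [Subgroup.orderOf_coe, he']⟩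
  have hS'card : Nat.card S' = q ^ (Nat.card (centralizer ({x1} : Set G))).factorization q := by
    rw [hS', Subgroup.card_map_of_injective (Subgroup.subtype_injective _)]
    exact S.card_eq_multiplicity
  have hS'n : S'.Normal := normal_of_le_center' hS'c
  have hS'p : IsPGroup q S' := by
    rw [hS']; exact S.2.map _
  have hwp : IsPGroup q (zpowers w) := by
    apply IsPGroup.of_card (n := e)
    rw [Nat.card_zpowers, he]
  have hTp : IsPGroup q (S' ⊔ zpowers w : Subgroup G) := IsPGroup.to_sup_of_normal_left hS'p hwp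
  have hTle : S' ⊔ zpowers w ≤ centralizer ({x2} : Set G) := by
    apply sup_le (hS'c.trans (center_le_cent x2))
    rw [Subgroup.zpowers_le]; exact hw
  obtain ⟨k, hk⟩ := IsPGroup.iff_card.1 hTp
  have hdvd : Nat.card (S' ⊔ zpowers w : Subgroup G) ∣ Nat.card (centralizer ({x2} : Set G)) :=
    Subgroup.card_dvd_of_le hTle
  rw [hk, ← card_cent_eq h hx1 hx2] at hdvd
  have hkle : k ≤ (Nat.card (centralizer ({x1} : Set G))).factorization q :=
    (hq.out.pow_dvd_iff_le_factorization (Nat.card_pos).ne').1 hdvd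
  have hle : Nat.card (S' ⊔ zpowers w : Subgroup G) ≤ Nat.card S' := by
    rw [hk, hS'card]; exact Nat.pow_le_pow_right hq.out.pos hkle
  have heq : S' = S' ⊔ zpowers w := Subgroup.eq_of_le_of_card_ge le_sup_left hle
  apply hS'c
  rw [heq]
  exact le_sup_right (a := S') (Subgroup.mem_zpowers w)

/-- Case A -/
theorem caseA {n : ℕ} (h : TwoCS G n) (hex : ∃ x : G, x ∉ center G)
    (hA : ∀ (p : ℕ), p.Prime → ∀ x : G, x ∉ center G → (∃ e : ℕ, orderOf x = p ^ e) →
      ∀ y ∈ centralizer ({x} : Set G), (orderOf y).Coprime p → y ∈ center G) :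
    ∃ p : ℕ, p.Prime ∧ ∀ y : G, (orderOf y).Coprime p → y ∈ center G := by
  obtain ⟨x0, hx0⟩ := hex
  obtain ⟨p, hp, k, e, hx, hxo⟩ := exists_primary_noncentral' hx0
  refine ⟨p, hp, ?_⟩
  intro y hy
  by_contra hyc
  obtain ⟨r, hr, k', e', hy', hyo⟩ := exists_primary_noncentral' hyc
  have : Fact r.Prime := ⟨hr⟩
  have hdvd : orderOf (y ^ k') ∣ orderOf y :=
    orderOf_dvd_of_mem_zpowers (Subgroup.zpow_mem_zpowers y k')
  have hcop : (r ^ e').Coprime p := by
    rw [← hyo]; exact Nat.Coprime.coprime_dvd_left hdvd hy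
  have he' : e' ≠ 0 := by
    intro h0
    rw [h0, pow_zero, orderOf_eq_one_iff] at hyo
    exact hy' (hyo ▸ Subgroup.one_mem _)
  have hrp : r.Coprime p := by
    have := Nat.Coprime.coprime_dvd_left (dvd_pow_self r he') hcop
    exact this
  apply hy'
  apply lemmaK h r hx hy' _ (y ^ k') (Subgroup.mem_centralizer_singleton_iff.2 rfl) ⟨e', hyo⟩
  intro w hw ⟨f, hf⟩
  apply hA p hp _ hx ⟨e, hxo⟩ w hw
  rw [hf]
  exact Nat.Coprime.pow_left f hrp
section structure_part

variable {p : ℕ} [hp : Fact p.Prime]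

theorem isPGroup_quot_center (hcen : ∀ y : G, (orderOf y).Coprime p → y ∈ center G) :
    IsPGroup p (G ⧸ center G) := by
  intro q
  obtain ⟨g, rfl⟩ := QuotientGroup.mk_surjective q
  obtain ⟨i, j, hij, ⟨e, he⟩, hcop⟩ := Cfsg.Agent.Lib.Helper17.exists_p_pprime_decomp p g
  refine ⟨e, ?_⟩
  have hj : g ^ j ∈ center G := hcen _ hcop
  have h1 : g ^ i = g * (g ^ j)⁻¹ := eq_mul_inv_of_mul_eq hij.symm
  have h2 : (QuotientGroup.mk g : G ⧸ center G) = QuotientGroup.mk (g ^ i) := by
    rw [QuotientGroup.eq, h1, inv_mul_cancel_left]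
    exact Subgroup.inv_mem _ hj
  rw [h2, ← QuotientGroup.mk_pow, ← he, pow_orderOf_eq_one]
  rfl

theorem isNilpotent_of_pprime_central (hcen : ∀ y : G, (orderOf y).Coprime p → y ∈ center G) :
    Group.IsNilpotent G := by
  have h1 : Group.IsNilpotent (G ⧸ center G) := (isPGroup_quot_center hcen).isNilpotent
  have := h1
  exact Subgroup.isNilpotent_of_ker_le_center (QuotientGroup.mk' (center G))
    (by rw [QuotientGroup.ker_mk'])

theorem index_eq_prime_pow (hcen : ∀ y : G, (orderOf y).Coprime p → y ∈ center G) (x : G) :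
    ∃ a : ℕ, (centralizer ({x} : Set G)).index = p ^ a := by
  obtain ⟨m, hm⟩ := IsPGroup.iff_card.1 (isPGroup_quot_center hcen)
  have h1 : (centralizer ({x} : Set G)).index ∣ (center G).index :=
    Subgroup.index_dvd_of_le (center_le_cent x)
  have h2 : (center G).index = p ^ m := by rw [Subgroup.index_eq_card, hm]
  rw [h2] at h1
  obtain ⟨a, -, ha⟩ := (Nat.dvd_prime_pow hp.out).1 h1
  exact ⟨a, ha⟩

theorem sylow_normal_of_pprime_central (hcen : ∀ y : G, (orderOf y).Coprime p → y ∈ center G)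
    (P : Sylow p G) : (P : Subgroup G).Normal := by
  have hnil := isNilpotent_of_pprime_central hcen
  have := (Group.isNilpotent_of_finite_tfae (G := G)).out 0 3
  exact (this.1 hnil) p hp P

/-- the `p'`-part of the center -/
def pPrimeCenter (G : Type*) [Group G] (p : ℕ) : Subgroup G where
  carrier := {z | z ∈ center G ∧ (orderOf z).Coprime p}
  one_mem' := ⟨Subgroup.one_mem _, by rw [orderOf_one]; exact Nat.coprime_one_left p⟩
  mul_mem' := by
    rintro a b ⟨ha, ha'⟩ ⟨hb, hb'⟩
    refine ⟨Subgroup.mul_mem _ ha hb, ?_⟩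
    have hc : Commute a b := (Subgroup.mem_center_iff.1 hb a)
    exact Nat.Coprime.coprime_dvd_left hc.orderOf_mul_dvd_mul_orderOf (Nat.Coprime.mul_left ha' hb')
  inv_mem' := by
    rintro a ⟨ha, ha'⟩
    exact ⟨Subgroup.inv_mem _ ha, by rwa [orderOf_inv]⟩

theorem mem_pPrimeCenter {z : G} : z ∈ pPrimeCenter G p ↔ z ∈ center G ∧ (orderOf z).Coprime p :=
  Iff.rfl

theorem pPrimeCenter_le_center : pPrimeCenter G p ≤ center G := fun _ h => h.1

theorem structure_of_pprime_central (hcen : ∀ y : G, (orderOf y).Coprime p → y ∈ center G)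
    (P : Sylow p G) :
    (P : Subgroup G).Normal ∧ (pPrimeCenter G p).Normal ∧
      (pPrimeCenter G p).IsComplement' (P : Subgroup G) ∧ IsMulCommutative (pPrimeCenter G p) ∧
      ∀ x ∈ pPrimeCenter G p, ∀ y ∈ (P : Subgroup G), x * y = y * x := by
  have hPn := sylow_normal_of_pprime_central hcen P
  have hNn : (pPrimeCenter G p).Normal := normal_of_le_center' pPrimeCenter_le_center
  refine ⟨hPn, hNn, ?_, ?_, ?_⟩
  · apply Subgroup.isComplement'_of_disjoint_and_mul_eq_univ
    · rw [disjoint_iff, eq_bot_iff]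
      rintro z ⟨hz1, hz2⟩
      rw [Subgroup.mem_bot]
      obtain ⟨k, hk⟩ := P.2 ⟨z, hz2⟩
      have hk' : z ^ p ^ k = 1 := by
        have := congrArg Subtype.val hk
        simpa using this
      have hd : orderOf z ∣ p ^ k := orderOf_dvd_of_pow_eq_one hk'
      have hc : (orderOf z).Coprime (p ^ k) := Nat.Coprime.pow_right k hz1.2
      rw [← orderOf_eq_one_iff]
      exact Nat.Coprime.eq_one_of_dvd hc hd
    · rw [Set.eq_univ_iff_forall]
      intro g
      obtain ⟨i, j, hij, ⟨e, he⟩, hcop⟩ := Cfsg.Agent.Lib.Helper17.exists_p_pprime_decomp p g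
      have hj : g ^ j ∈ pPrimeCenter G p := ⟨hcen _ hcop, hcop⟩
      have hi : g ^ i ∈ (P : Subgroup G) := by
        have h1 : IsPGroup p (zpowers (g ^ i)) := by
          apply IsPGroup.of_card (n := e)
          rw [Nat.card_zpowers, he]
        obtain ⟨S, hS⟩ := h1.exists_le_sylow
        obtain ⟨t, ht⟩ := MulAction.exists_smul_eq G P S
        rw [Sylow.smul_eq_of_normal] at ht
        rw [ht]; exact hS (Subgroup.mem_zpowers _)
      refine ⟨g ^ j, hj, g ^ i, hi, ?_⟩
      show g ^ j * g ^ i = g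
      rw [← zpow_add, add_comm, zpow_add, ← hij]
  · exact ⟨⟨fun a b => Subtype.ext ((Subgroup.mem_center_iff.1 b.2.1 a))⟩⟩
  · intro x hx y _
    exact ((Subgroup.mem_center_iff.1 hx.1 y)).symm

end structure_part
section lemmaD

variable {Q : Type*} [Group Q] [Finite Q] {p : ℕ} [hp : Fact p.Prime]

/-- conjugation by powers: if `a y a⁻¹ = z y` with `z` commuting with `a` then
`a^m y a^-m = z^m y` -/
theorem conj_pow_of_comm {a y z : Q} (h : a * y * a⁻¹ = z * y) (hz : Commute a z) (m : ℕ) :
    a ^ m * y * (a ^ m)⁻¹ = z ^ m * y := by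
  induction m with
  | zero => simp
  | succ m ih =>
    have : a ^ (m + 1) * y * (a ^ (m + 1))⁻¹ = a * (a ^ m * y * (a ^ m)⁻¹) * a⁻¹ := by
      rw [pow_succ']; group
    rw [this, ih]
    have h2 : a * (z ^ m * y) * a⁻¹ = z ^ m * (a * y * a⁻¹) := by
      have := (hz.pow_right m).eq
      calc a * (z ^ m * y) * a⁻¹ = (a * z ^ m) * y * a⁻¹ := by group
        _ = (z ^ m * a) * y * a⁻¹ := by rw [this]
        _ = z ^ m * (a * y * a⁻¹) := by group
    rw [h2, h, ← mul_assoc, ← pow_succ]

/-- if `a y a⁻¹ = z y` with `z` commuting with `y` then `a y^k a⁻¹ = z^k y^k` -/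
theorem conj_pow_arg_of_comm {a y z : Q} (h : a * y * a⁻¹ = z * y) (hz : Commute z y) (k : ℕ) :
    a * y ^ k * a⁻¹ = z ^ k * y ^ k := by
  have h1 : a * y ^ k * a⁻¹ = (a * y * a⁻¹) ^ k := by
    rw [conj_pow]
  rw [h1, h, hz.mul_pow]

theorem lemmaD_aux (hQ : IsPGroup p Q)
    (hstar : ∀ (y : Q) (k : ℕ), y ^ k ∉ center Q →
      centralizer ({y ^ k} : Set Q) = centralizer ({y} : Set Q))
    (A : Subgroup Q) [hAn : A.Normal] (hA : IsMulCommutative A) (y : Q) :
    y ^ p ∈ centralizer (A : Set Q) := by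
  by_contra hcon
  -- the largest j with y^(p^j) ∉ C(A)
  obtain ⟨N, hN⟩ := hQ y
  have hbound : ∀ j, y ^ (p ^ j) ∉ centralizer (A : Set Q) → j ≤ N := by
    intro j hj
    by_contra hlt
    rw [not_le] at hlt
    apply hj
    have : y ^ p ^ j = 1 := by
      obtain ⟨d, rfl⟩ := Nat.exists_eq_add_of_le hlt.le
      rw [pow_add, pow_mul, hN, one_pow]
    rw [this]; exact Subgroup.one_mem _
  classical
  let j := Nat.findGreatest (fun j => y ^ (p ^ j) ∉ centralizer (A : Set Q)) N
  have hj1 : y ^ (p ^ j) ∉ centralizer (A : Set Q) := by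
    have := Nat.findGreatest_spec (P := fun j => y ^ (p ^ j) ∉ centralizer (A : Set Q))
      (hbound 1 (by rwa [pow_one])) (by rwa [pow_one])
    exact this
  have hj2 : 1 ≤ j := Nat.le_findGreatest (hbound 1 (by rwa [pow_one])) (by rwa [pow_one])
  have hj3 : y ^ (p ^ (j + 1)) ∈ centralizer (A : Set Q) := by
    by_contra h3
    have := Nat.le_findGreatest (P := fun j => y ^ (p ^ j) ∉ centralizer (A : Set Q))
      (hbound _ h3) h3
    omega
  set t := y ^ (p ^ j) with ht
  have htc : t ∉ center Q := fun h => hj1 (Subgroup.center_le_centralizer _ h)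
  have hCt : centralizer ({t} : Set Q) = centralizer ({y} : Set Q) := hstar y _ htc
  -- A is not inside C(y)
  have hAy : ∃ a ∈ A, a ∉ centralizer ({y} : Set Q) := by
    by_contra hall
    push Not at hall
    apply hj1
    rw [Subgroup.mem_centralizer_iff]
    intro a ha
    have h1 := hall a ha
    rw [mem_cent_iff] at h1
    exact ((Commute.pow_right (show Commute a y from h1) _)).eq
  -- descend along the lower central series
  obtain ⟨c, hc⟩ := (Subgroup.nilpotent_iff_lowerCentralSeries).1 hQ.isNilpotent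
  have key : ∀ d k, k + d = c → ∀ a ∈ A, a ∈ (⊤ : Subgroup Q).lowerCentralSeries k →
      a ∉ centralizer ({y} : Set Q) →
      ∃ a' ∈ A, a' ∉ centralizer ({y} : Set Q) ∧ ⁅a', y⁆ ∈ centralizer ({y} : Set Q) := by
    intro d
    induction d with
    | zero =>
      intro k hk a _ hak hay
      rw [add_zero] at hk
      rw [hk, hc, Subgroup.mem_bot] at hak
      exact absurd (hak ▸ Subgroup.one_mem _) hay
    | succ d ih =>
      intro k hk a haA hak hay
      by_cases hz : ⁅a, y⁆ ∈ centralizer ({y} : Set Q)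
      · exact ⟨a, haA, hay, hz⟩
      · apply ih (k + 1) (by omega) ⁅a, y⁆ _ _ hz
        · rw [commutatorElement_def]
          have : a * y * a⁻¹ * y⁻¹ = a * (y * a⁻¹ * y⁻¹) := by group
          rw [this]
          exact A.mul_mem haA (hAn.conj_mem _ (A.inv_mem haA) y)
        · rw [Subgroup.lowerCentralSeries_succ]
          exact Subgroup.commutator_mem_commutator hak (Subgroup.mem_top y)
  obtain ⟨a0, ha0A, ha0y⟩ := hAy
  obtain ⟨a, haA, hay, hz⟩ := key c 0 (by omega) a0 ha0A (by simp) ha0y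
  set z := ⁅a, y⁆ with hzdef
  have hzA : z ∈ A := by
    rw [hzdef, commutatorElement_def]
    have : a * y * a⁻¹ * y⁻¹ = a * (y * a⁻¹ * y⁻¹) := by group
    rw [this]
    exact A.mul_mem haA (hAn.conj_mem _ (A.inv_mem haA) y)
  have hz1 : z ≠ 1 := by
    intro h1
    apply hay
    rw [mem_cent_iff]
    rw [hzdef, commutatorElement_eq_one_iff_commute] at h1
    exact h1.eq
  have hconj : a * y * a⁻¹ = z * y := by
    rw [hzdef, commutatorElement_def]; group
  have haz : Commute a z := by
    have := congrArg Subtype.val (hA.is_comm.comm ⟨a, haA⟩ ⟨z, hzA⟩)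
    exact this
  have hzy : Commute z y := by
    rw [mem_cent_iff] at hz; exact hz
  -- order of z
  obtain ⟨e, he⟩ := hQ.exists_orderOf_eq_pow z
  have he0 : e ≠ 0 := by
    intro h0
    rw [h0, pow_zero, orderOf_eq_one_iff] at he
    exact hz1 he
  obtain ⟨e', rfl⟩ := Nat.exists_eq_succ_of_ne_zero he0
  have hc1 := conj_pow_of_comm hconj haz (p ^ e')
  have hz'p : (z ^ p ^ e') ^ p = 1 := by
    rw [← pow_mul, ← pow_succ, ← he, pow_orderOf_eq_one]
  have hz'1 : z ^ p ^ e' ≠ 1 := by
    intro h1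
    have hd := orderOf_dvd_of_pow_eq_one h1
    rw [he] at hd
    have := (Nat.pow_dvd_pow_iff_le_right hp.out.one_lt).1 hd
    omega
  have hz'y : Commute (z ^ p ^ e') y := hzy.pow_left _
  have hc2 := conj_pow_arg_of_comm hc1 hz'y (p ^ j)
  have hzj : (z ^ p ^ e') ^ p ^ j = 1 := by
    obtain ⟨j', hj'⟩ := Nat.exists_eq_add_of_le hj2
    rw [hj', pow_add, pow_one, pow_mul, hz'p, one_pow]
  rw [hzj, one_mul] at hc2
  have hat : a ^ p ^ e' ∈ centralizer ({t} : Set Q) := by
    rw [mem_cent_iff, ht]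
    exact mul_inv_eq_iff_eq_mul.1 hc2
  rw [hCt, mem_cent_iff] at hat
  apply hz'1
  have : a ^ p ^ e' * y * (a ^ p ^ e')⁻¹ = y := by
    rw [hat, mul_inv_cancel_right]
  rw [this] at hc1
  exact (mul_eq_right (a := z ^ p ^ e') (b := y)).1 hc1.symm

theorem lemmaD (hQ : IsPGroup p Q)
    (hstar : ∀ (y : Q) (k : ℕ), y ^ k ∉ center Q →
      centralizer ({y ^ k} : Set Q) = centralizer ({y} : Set Q)) :
    ∃ A : Subgroup Q, A.Normal ∧ IsMulCommutative A ∧ ∀ y : Q, y ^ p ∈ A := by
  classical
  obtain ⟨A, -, hAmax⟩ := (Set.toFinite {A : Subgroup Q | A.Normal ∧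
    IsMulCommutative A}).exists_le_maximal (show (⊥ : Subgroup Q) ∈ {A : Subgroup Q | A.Normal ∧
      IsMulCommutative A} from ⟨inferInstance, inferInstance⟩)
  obtain ⟨⟨hAn, hAc⟩, hAmax'⟩ := hAmax
  have hcent := Cfsg.Agent.Lib.Helper1.centralizer_eq_of_max_normal_abelian hQ A hAc
    (fun B hBn hBc hAB => le_antisymm (hAmax' ⟨hBn, hBc⟩ hAB) hAB)
  refine ⟨A, hAn, hAc, fun y => ?_⟩
  have := lemmaD_aux hQ hstar A hAc y
  rwa [hcent] at this

end lemmaD
section caseB

/-- B1 -/
theorem abelian_cent_of_caseB {n : ℕ} (hn : 1 < n) (h : TwoCS G n) {p : ℕ} (hp : p.Prime)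
    {x : G} (hx : x ∉ center G) {e : ℕ} (hxo : orderOf x = p ^ e) {y : G}
    (hy : y ∈ centralizer ({x} : Set G)) (hyo : (orderOf y).Coprime p) (hyc : y ∉ center G) :
    ∀ a ∈ centralizer ({x} : Set G), ∀ b ∈ centralizer ({x} : Set G), a * b = b * a := by
  have : Fact p.Prime := ⟨hp⟩
  obtain ⟨r, hr, k', e', hy', hyo'⟩ := exists_primary_noncentral' hyc
  have hdvd : orderOf (y ^ k') ∣ orderOf y :=
    orderOf_dvd_of_mem_zpowers (Subgroup.zpow_mem_zpowers y k')
  have hcop : (r ^ e').Coprime p := by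
    rw [← hyo']; exact Nat.Coprime.coprime_dvd_left hdvd hyo
  have he' : e' ≠ 0 := by
    intro h0
    rw [h0, pow_zero, orderOf_eq_one_iff] at hyo'
    exact hy' (hyo' ▸ Subgroup.one_mem _)
  have hrp : r.Coprime p := Nat.Coprime.coprime_dvd_left (dvd_pow_self r he') hcop
  have hxy : Commute x y := by
    rw [mem_cent_iff] at hy; exact hy.symm
  have h1 : centralizer ({x} : Set G) = centralizer ({y} : Set G) :=
    cent_eq_of_le hn h hyc (cent_le_of_coprime hn h hx hxy (by rw [hxo]; exact (Nat.Coprime.pow_right e hyo).symm))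
  have h2 : centralizer ({y} : Set G) = centralizer ({y ^ k'} : Set G) :=
    cent_eq_of_le hn h hy' (cent_le_cent_zpow y k')
  have h3 : centralizer ({x} : Set G) = centralizer ({y ^ k'} : Set G) := h1.trans h2
  intro a ha b hb
  obtain ⟨i, j, hij, ⟨f, hf⟩, hcj⟩ := Cfsg.Agent.Lib.Helper17.exists_p_pprime_decomp p a
  have hai : a ^ i ∈ centralizer ({x} : Set G) := Subgroup.zpow_mem _ ha i
  have haj : a ^ j ∈ centralizer ({x} : Set G) := Subgroup.zpow_mem _ ha j
  -- b commutes with a^j
  have hbj : b * a ^ j = a ^ j * b := by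
    have hc : Commute x (a ^ j) := by
      rw [mem_cent_iff] at haj; exact haj.symm
    have := cent_le_of_coprime hn h hx hc (by rw [hxo]; exact (Nat.Coprime.pow_right e hcj).symm) hb
    rwa [mem_cent_iff] at this
  have hbi : b * a ^ i = a ^ i * b := by
    have hai' : a ^ i ∈ centralizer ({y ^ k'} : Set G) := h3 ▸ hai
    have hc : Commute (y ^ k') (a ^ i) := by
      rw [mem_cent_iff] at hai'; exact hai'.symm
    have hb' : b ∈ centralizer ({y ^ k'} : Set G) := h3 ▸ hb
    have := cent_le_of_coprime hn h hy' hc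
      (by rw [hyo', hf]; exact Nat.Coprime.pow _ _ hrp) hb'
    rwa [mem_cent_iff] at this
  rw [hij]
  calc a ^ i * a ^ j * b = a ^ i * (a ^ j * b) := by group
    _ = a ^ i * (b * a ^ j) := by rw [hbj]
    _ = (a ^ i * b) * a ^ j := by group
    _ = (b * a ^ i) * a ^ j := by rw [hbi]
    _ = b * (a ^ i * a ^ j) := by group

/-- data of Case B -/
structure CaseBData (G : Type*) [Group G] where
  p : ℕ
  hp : p.Prime
  x : G
  hx : x ∉ center G
  e : ℕ
  hxo : orderOf x = p ^ e
  y : G
  hy : y ∈ centralizer ({x} : Set G)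
  hyo : (orderOf y).Coprime p
  hyc : y ∉ center G

/-- in Case B there are noncentral elements `x`, `y'` of coprime prime power orders with the same
centralizer -/
theorem caseB_two_primes {n : ℕ} (hn : 1 < n) (h : TwoCS G n) (D : CaseBData G) :
    ∃ (r : ℕ) (_ : r.Prime) (y' : G) (e' : ℕ), r ≠ D.p ∧ y' ∉ center G ∧ orderOf y' = r ^ e' ∧
      centralizer ({D.x} : Set G) = centralizer ({y'} : Set G) := by
  obtain ⟨p, hp, x, hx, e, hxo, y, hy, hyo, hyc⟩ := D
  obtain ⟨r, hr, k', e', hy', hyo'⟩ := exists_primary_noncentral' hyc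
  have hdvd : orderOf (y ^ k') ∣ orderOf y :=
    orderOf_dvd_of_mem_zpowers (Subgroup.zpow_mem_zpowers y k')
  have hcop : (r ^ e').Coprime p := by
    rw [← hyo']; exact Nat.Coprime.coprime_dvd_left hdvd hyo
  have he' : e' ≠ 0 := by
    intro h0
    rw [h0, pow_zero, orderOf_eq_one_iff] at hyo'
    exact hy' (hyo' ▸ Subgroup.one_mem _)
  have hrp : r.Coprime p := Nat.Coprime.coprime_dvd_left (dvd_pow_self r he') hcop
  have hxy : Commute x y := by
    rw [mem_cent_iff] at hy; exact hy.symm
  have h1 : centralizer ({x} : Set G) = centralizer ({y} : Set G) :=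
    cent_eq_of_le hn h hyc (cent_le_of_coprime hn h hx hxy (by rw [hxo]; exact (Nat.Coprime.pow_right e hyo).symm))
  have h2 : centralizer ({y} : Set G) = centralizer ({y ^ k'} : Set G) :=
    cent_eq_of_le hn h hy' (cent_le_cent_zpow y k')
  refine ⟨r, hr, y ^ k', e', ?_, hy', hyo', h1.trans h2⟩
  rintro rfl
  exact hr.one_lt.ne' ((Nat.coprime_self r).1 hrp)

/-- B2 : in Case B all noncentral centralizers are abelian -/
theorem abelian_cent_all {n : ℕ} (hn : 1 < n) (h : TwoCS G n) (D : CaseBData G)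
    {g : G} (hg : g ∉ center G) :
    ∀ a ∈ centralizer ({g} : Set G), ∀ b ∈ centralizer ({g} : Set G), a * b = b * a := by
  obtain ⟨r, hr, y', e', hrp, hy', hyo', hC⟩ := caseB_two_primes hn h D
  obtain ⟨s, hs, k, f, hu, huo⟩ := exists_primary_noncentral' hg
  have hCg : centralizer ({g} : Set G) = centralizer ({g ^ k} : Set G) :=
    cent_eq_of_le hn h hu (cent_le_cent_zpow g k)
  rw [hCg]
  -- there is a noncentral s'-element in C(u)
  have hex : ∃ y2 ∈ centralizer ({g ^ k} : Set G), (orderOf y2).Coprime s ∧ y2 ∉ center G := by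
    by_contra hno
    push Not at hno
    -- choose q ∈ {p, r}, q ≠ s
    by_cases hsp : s = D.p
    · -- use r, y'
      have : Fact r.Prime := ⟨hr⟩
      apply hy'
      apply lemmaK h r hu hy' _ y' (Subgroup.mem_centralizer_singleton_iff.2 rfl) ⟨e', hyo'⟩
      intro w hw ⟨f', hf'⟩
      apply hno w hw
      rw [hf', hsp]
      exact Nat.Coprime.pow_left _ ((Nat.coprime_primes hr D.hp).2 hrp)
    · have : Fact D.p.Prime := ⟨D.hp⟩
      apply D.hx
      apply lemmaK h D.p hu D.hx _ D.x (Subgroup.mem_centralizer_singleton_iff.2 rfl) ⟨D.e, D.hxo⟩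
      intro w hw ⟨f', hf'⟩
      apply hno w hw
      rw [hf']
      exact Nat.Coprime.pow_left _ ((Nat.coprime_primes D.hp hs).2 (Ne.symm hsp))
  obtain ⟨y2, hy2, hy2o, hy2c⟩ := hex
  exact abelian_cent_of_caseB hn h hs hu huo hy2 hy2o hy2c

/-- B3 -/
theorem cent_eq_of_mem_of_abelian {n : ℕ} (hn : 1 < n) (h : TwoCS G n) {g0 g : G}
    (hab : ∀ a ∈ centralizer ({g0} : Set G), ∀ b ∈ centralizer ({g0} : Set G), a * b = b * a)
    (hg : g ∉ center G) (hmem : g ∈ centralizer ({g0} : Set G)) :
    centralizer ({g} : Set G) = centralizer ({g0} : Set G) := by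
  symm
  apply cent_eq_of_le hn h hg
  intro a ha
  rw [mem_cent_iff]
  exact hab a ha g hmem

end caseB
section sylowparts

/-- a `q`-subgroup of `H` has order at most the `q`-part of `|H|` -/
theorem card_le_of_isPGroup_of_le {q : ℕ} [hq : Fact q.Prime] {T H : Subgroup G}
    (hT : IsPGroup q T) (hle : T ≤ H) :
    ∃ k, Nat.card T = q ^ k ∧ k ≤ (Nat.card H).factorization q := by
  obtain ⟨k, hk⟩ := IsPGroup.iff_card.1 hT
  refine ⟨k, hk, ?_⟩
  have hdvd : Nat.card T ∣ Nat.card H := Subgroup.card_dvd_of_le hle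
  rw [hk] at hdvd
  exact (hq.out.pow_dvd_iff_le_factorization (Nat.card_pos).ne').1 hdvd

theorem isPGroup_zpowers {q : ℕ} [Fact q.Prime] {w : G} {f : ℕ} (hwo : orderOf w = q ^ f) :
    IsPGroup q (zpowers w) := by
  apply IsPGroup.of_card (n := f)
  rw [Nat.card_zpowers, hwo]

/-- Lemma V -/
theorem lemmaV (q : ℕ) [hq : Fact q.Prime] {w : G} (hw : w ∉ center G) {f : ℕ}
    (hwo : orderOf w = q ^ f) :
    (Nat.card (center G)).factorization q <
      (Nat.card (centralizer ({w} : Set G))).factorization q := by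
  obtain ⟨T⟩ : Nonempty (Sylow q (center G)) := inferInstance
  set T' : Subgroup G := (T : Subgroup (center G)).map (center G).subtype with hT'
  have hT'c : T' ≤ center G := by
    rintro s ⟨s0, -, rfl⟩; exact s0.2
  have hT'card : Nat.card T' = q ^ (Nat.card (center G)).factorization q := by
    rw [hT', Subgroup.card_map_of_injective (Subgroup.subtype_injective _)]
    exact T.card_eq_multiplicity
  have hT'n : T'.Normal := normal_of_le_center' hT'c
  have hT'p : IsPGroup q T' := by
    rw [hT']; exact T.2.map _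
  have hTp : IsPGroup q (T' ⊔ zpowers w : Subgroup G) :=
    IsPGroup.to_sup_of_normal_left hT'p (isPGroup_zpowers hwo)
  have hTle : T' ⊔ zpowers w ≤ centralizer ({w} : Set G) := by
    apply sup_le (hT'c.trans (center_le_cent w))
    rw [Subgroup.zpowers_le]; exact Subgroup.mem_centralizer_singleton_iff.2 rfl
  obtain ⟨k, hk, hkle⟩ := card_le_of_isPGroup_of_le hTp hTle
  have hlt : Nat.card T' < Nat.card (T' ⊔ zpowers w : Subgroup G) := by
    by_contra hge
    rw [not_lt] at hge
    have heq : T' = T' ⊔ zpowers w := Subgroup.eq_of_le_of_card_ge le_sup_left hge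
    apply hw
    apply hT'c
    rw [heq]
    exact le_sup_right (a := T') (Subgroup.mem_zpowers w)
  rw [hT'card, hk] at hlt
  have := (Nat.pow_lt_pow_iff_right hq.out.one_lt).1 hlt
  omega

/-- Lemma U -/
theorem lemmaU {n : ℕ} (h : TwoCS G n) (s : ℕ) [hs : Fact s.Prime] {g0 : G}
    (hg0 : g0 ∉ center G)
    (hlt : (Nat.card (centralizer ({g0} : Set G))).factorization s <
      (Nat.card G).factorization s) (S : Sylow s G) :
    ∃ u ∈ (S : Subgroup G), u ∉ center G ∧ ∀ g ∈ (S : Subgroup G), ⁅g, u⁆ ∈ center G := by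
  have hcardS : Nat.card S = s ^ (Nat.card G).factorization s := S.card_eq_multiplicity
  have key0 : ∀ w : G, w ∉ center G → ¬ ((S : Subgroup G) ≤ centralizer ({w} : Set G)) := by
    intro w hw hle
    have hdvd : Nat.card (S : Subgroup G) ∣ Nat.card (centralizer ({w} : Set G)) :=
      Subgroup.card_dvd_of_le hle
    rw [card_cent_eq h hw hg0] at hdvd
    have hcS : Nat.card (S : Subgroup G) = s ^ (Nat.card G).factorization s := hcardS
    rw [hcS] at hdvd
    have := (hs.out.pow_dvd_iff_le_factorization (Nat.card_pos).ne').1 hdvd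
    omega
  have claim1 : ∀ w : (S : Subgroup G), w ∈ center (S : Subgroup G) → (w : G) ∈ center G := by
    intro w hw
    by_contra hwc
    apply key0 _ hwc
    intro g hg
    rw [mem_cent_iff]
    have := Subgroup.mem_center_iff.1 hw ⟨g, hg⟩
    exact congrArg Subtype.val this
  have claim2 : ¬ ((⊤ : Subgroup (S : Subgroup G)) ≤ center (S : Subgroup G)) := by
    intro htop
    apply key0 g0 hg0
    intro g hg
    exact center_le_cent g0 (claim1 ⟨g, hg⟩ (htop (Subgroup.mem_top _)))
  obtain ⟨t, -, htc, htcomm⟩ := Cfsg.Agent.Lib.Helper1.exists_central_mod_of_lt S.2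
    (center (S : Subgroup G)) ⊤ claim2
  refine ⟨(t : G), t.2, ?_, ?_⟩
  · intro hcen
    apply htc
    rw [Subgroup.mem_center_iff]
    intro g
    apply Subtype.ext
    exact Subgroup.mem_center_iff.1 hcen (g : G)
  · intro g hg
    have := claim1 _ (htcomm ⟨g, hg⟩)
    simpa [commutatorElement_def] using this

/-- Lemma T : the `t`-part of an abelian subgroup -/
theorem lemmaT (H : Subgroup G) (hH : ∀ a ∈ H, ∀ b ∈ H, a * b = b * a) (t : ℕ)
    [ht : Fact t.Prime] :
    ∃ R : Subgroup G, R ≤ H ∧ Nat.card R = t ^ (Nat.card H).factorization t ∧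
      ∀ v, v ∈ R ↔ v ∈ H ∧ ∃ e : ℕ, orderOf v = t ^ e := by
  obtain ⟨T⟩ : Nonempty (Sylow t H) := inferInstance
  have hTn : (T : Subgroup H).Normal := by
    constructor
    intro n hn g
    have : g * n * g⁻¹ = n := by
      rw [show g * n = n * g from Subtype.ext (hH _ g.2 _ n.2), mul_inv_cancel_right]
    rwa [this]
  refine ⟨(T : Subgroup H).map H.subtype, ?_, ?_, ?_⟩
  · rintro s ⟨s0, -, rfl⟩; exact s0.2
  · rw [Subgroup.card_map_of_injective (Subgroup.subtype_injective _)]
    exact T.card_eq_multiplicity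
  · intro v
    constructor
    · rintro ⟨s0, hs0, rfl⟩
      refine ⟨s0.2, ?_⟩
      obtain ⟨k, hk⟩ := T.2 ⟨s0, hs0⟩
      have hk' : s0 ^ t ^ k = 1 := by
        have := congrArg Subtype.val hk
        simpa using this
      have hd : orderOf s0 ∣ t ^ k := orderOf_dvd_of_pow_eq_one hk'
      obtain ⟨e', -, he'⟩ := (Nat.dvd_prime_pow ht.out).1 hd
      exact ⟨e', by rw [Subgroup.subtype_apply, Subgroup.orderOf_coe, he']⟩
    · rintro ⟨hv, e, he⟩
      have h1 : IsPGroup t (zpowers (⟨v, hv⟩ : H)) := by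
        apply isPGroup_zpowers (f := e)
        rw [← he, ← Subgroup.orderOf_coe]
      obtain ⟨S', hS'⟩ := h1.exists_le_sylow
      obtain ⟨g, hg⟩ := MulAction.exists_smul_eq H T S'
      rw [Sylow.smul_eq_of_normal] at hg
      refine ⟨⟨v, hv⟩, ?_, rfl⟩
      rw [hg]; exact hS' (Subgroup.mem_zpowers _)

end sylowparts
section keyineq

theorem orderOf_conj' (g y : G) : orderOf (g * y * g⁻¹) = orderOf y := by
  have := (MulAut.conj g).orderOf_eq y
  rwa [MulAut.conj_apply] at this

theorem key_ineq {n : ℕ} (hn : 1 < n) (h : TwoCS G n)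
    (hab : ∀ g : G, g ∉ center G → ∀ a ∈ centralizer ({g} : Set G),
      ∀ b ∈ centralizer ({g} : Set G), a * b = b * a)
    (s t : ℕ) [hs : Fact s.Prime] [ht : Fact t.Prime] (hst : s ≠ t) {g0 : G}
    (hg0 : g0 ∉ center G)
    (htlt : (Nat.card (center G)).factorization t <
      (Nat.card (centralizer ({g0} : Set G))).factorization t) :
    s ^ ((Nat.card G).factorization s -
        (Nat.card (centralizer ({g0} : Set G))).factorization s) <
      t ^ ((Nat.card (centralizer ({g0} : Set G))).factorization t -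
        (Nat.card (center G)).factorization t) := by
  by_cases hle : (Nat.card G).factorization s ≤
      (Nat.card (centralizer ({g0} : Set G))).factorization s
  · rw [Nat.sub_eq_zero_of_le hle, pow_zero]
    exact Nat.one_lt_pow (by omega) ht.out.one_lt
  · rw [not_le] at hle
    obtain ⟨S⟩ : Nonempty (Sylow s G) := inferInstance
    obtain ⟨u, huS, huc, hucomm⟩ := lemmaU h s hg0 hle S
    have hC1card : Nat.card (centralizer ({u} : Set G)) =
        Nat.card (centralizer ({g0} : Set G)) := card_cent_eq h huc hg0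
    have hC1ab := hab u huc
    -- S normalizes C1
    have hnorm : ∀ g ∈ (S : Subgroup G), ∀ y ∈ centralizer ({u} : Set G),
        g * y * g⁻¹ ∈ centralizer ({u} : Set G) := by
      intro g hg y hy
      rw [mem_cent_iff] at hy ⊢
      have hz := hucomm g hg
      have hgu : g * u * g⁻¹ = ⁅g, u⁆ * u := by
        rw [commutatorElement_def]; group
      have h1 : (g * y * g⁻¹) * (g * u * g⁻¹) = (g * u * g⁻¹) * (g * y * g⁻¹) := by
        have : (g * y * g⁻¹) * (g * u * g⁻¹) = g * (y * u) * g⁻¹ := by group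
        rw [this, hy]; group
      rw [hgu] at h1
      have hzc := Subgroup.mem_center_iff.1 hz
      have h2 : g * y * g⁻¹ * (⁅g, u⁆ * u) = ⁅g, u⁆ * (g * y * g⁻¹ * u) := by
        rw [← mul_assoc, hzc (g * y * g⁻¹), mul_assoc]
      rw [h2, mul_assoc ⁅g, u⁆] at h1
      exact mul_left_cancel h1
    obtain ⟨R1, hR1le, hR1card, hR1mem⟩ := lemmaT (centralizer ({u} : Set G)) hC1ab t
    obtain ⟨Zt, hZtle, hZtcard, hZtmem⟩ := lemmaT (center G)
      (fun a _ b hb => (Subgroup.mem_center_iff.1 hb a)) t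
    have hZtR1 : Zt ≤ R1 := fun v hv =>
      (hR1mem v).2 ⟨center_le_cent u ((hZtmem v).1 hv).1, ((hZtmem v).1 hv).2⟩
    have hexy : ∃ y ∈ R1, y ∉ center G := by
      by_contra hall
      push Not at hall
      have hle' : R1 ≤ Zt := fun v hv => (hZtmem v).2 ⟨hall v hv, ((hR1mem v).1 hv).2⟩
      have h1 := Subgroup.card_le_of_le hle'
      rw [hR1card, hZtcard, hC1card] at h1
      have := (Nat.pow_le_pow_iff_right ht.out.one_lt).1 h1
      omega
    obtain ⟨y, hyR1, hyc⟩ := hexy
    have hyC1 : y ∈ centralizer ({u} : Set G) := hR1le hyR1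
    have hCy : centralizer ({y} : Set G) = centralizer ({u} : Set G) :=
      cent_eq_of_mem_of_abelian hn h hC1ab hyc hyC1
    obtain ⟨ey, hey⟩ := ((hR1mem y).1 hyR1).2
    let act : MulAction (S : Subgroup G) G :=
      MulAction.compHom G ((MulAut.conj : G →* MulAut G).comp (S : Subgroup G).subtype)
    have hsmul : ∀ (g : (S : Subgroup G)) (w : G), g • w = (g : G) * w * (g : G)⁻¹ :=
      fun g w => rfl
    -- (α)
    have hO1 : ∀ w ∈ MulAction.orbit (S : Subgroup G) y, w ∈ R1 ∧ w ∉ center G := by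
      rintro w ⟨g, rfl⟩
      show g • y ∈ R1 ∧ g • y ∉ center G
      rw [hsmul]
      constructor
      · rw [hR1mem]
        exact ⟨hnorm g g.2 y hyC1, ey, by rw [orderOf_conj', hey]⟩
      · intro hcen
        apply hyc
        have : y = (g : G)⁻¹ * ((g : G) * y * (g : G)⁻¹) * (g : G) := by group
        rw [this]
        have hh := Subgroup.mem_center_iff.1 hcen ((g : G)⁻¹)
        rw [hh, inv_mul_cancel_right]
        exact hcen
    -- (β)
    have hO2 : s ^ ((Nat.card G).factorization s -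
        (Nat.card (centralizer ({g0} : Set G))).factorization s) ≤
        (MulAction.orbit (S : Subgroup G) y).ncard := by
      rw [← MulAction.index_stabilizer]
      have hstabp : IsPGroup s (MulAction.stabilizer (S : Subgroup G) y) :=
        S.2.to_subgroup _
      have hstab_le : (MulAction.stabilizer (S : Subgroup G) y).map (S : Subgroup G).subtype ≤
          centralizer ({u} : Set G) := by
        rintro _ ⟨g, hg, rfl⟩
        rw [← hCy, mem_cent_iff]
        have : g • y = y := hg
        rw [hsmul] at this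
        exact mul_inv_eq_iff_eq_mul.1 this
      have hmp : IsPGroup s ((MulAction.stabilizer (S : Subgroup G) y).map
          (S : Subgroup G).subtype) := hstabp.map _
      obtain ⟨k, hk, hkle⟩ := card_le_of_isPGroup_of_le hmp hstab_le
      rw [Subgroup.card_map_of_injective (Subgroup.subtype_injective _)] at hk
      have hmul := Subgroup.card_mul_index (MulAction.stabilizer (S : Subgroup G) y)
      have hcardS : Nat.card (S : Subgroup G) = s ^ (Nat.card G).factorization s :=
        S.card_eq_multiplicity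
      rw [hk, hcardS] at hmul
      rw [hC1card] at hkle
      have hka : k ≤ (Nat.card G).factorization s := by omega
      have hidx : (MulAction.stabilizer (S : Subgroup G) y).index =
          s ^ ((Nat.card G).factorization s - k) := by
        have h2 : s ^ (Nat.card G).factorization s =
            s ^ k * s ^ ((Nat.card G).factorization s - k) := by
          rw [← pow_add]; congr 1; omega
        rw [h2] at hmul
        exact Nat.eq_of_mul_eq_mul_left (pow_pos hs.out.pos k) hmul
      rw [hidx]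
      exact Nat.pow_le_pow_right hs.out.pos (by omega)
    -- (γ)
    have hO3 : (MulAction.orbit (S : Subgroup G) y).ncard * Nat.card Zt ≤
        Nat.card R1 - Nat.card Zt := by
      have hinj : Set.InjOn (fun q : G × G => q.1 * q.2)
          ((MulAction.orbit (S : Subgroup G) y) ×ˢ (Zt : Set G)) := by
        rintro ⟨w, ζ⟩ ⟨hw, hζ⟩ ⟨w', ζ'⟩ ⟨hw', hζ'⟩ heq
        simp only at heq hw hζ hw' hζ'
        obtain ⟨g1, rfl⟩ := hw
        obtain ⟨g2, rfl⟩ := hw'
        simp only [hsmul] at heq ⊢
        set w := (g1 : G) * y * (g1 : G)⁻¹ with hwdef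
        set η := ζ * ζ'⁻¹ with hη
        have hηZ : η ∈ Zt := Zt.mul_mem hζ (Zt.inv_mem hζ')
        have hηc : η ∈ center G := ((hZtmem η).1 hηZ).1
        obtain ⟨eη, heη⟩ := ((hZtmem η).1 hηZ).2
        have hw' : (g2 : G) * y * (g2 : G)⁻¹ = w * η := by
          rw [hη, ← mul_assoc, heq, mul_inv_cancel_right]
        set g : G := (g2 : G) * (g1 : G)⁻¹ with hg
        have hgS : g ∈ (S : Subgroup G) := Subgroup.mul_mem _ g2.2 (Subgroup.inv_mem _ g1.2)
        have hconj : g * w * g⁻¹ = η * w := by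
          rw [(Subgroup.mem_center_iff.1 hηc w).symm, ← hw', hg, hwdef]; group
        have hcg : Commute g η := (Subgroup.mem_center_iff.1 hηc g)
        have hp := conj_pow_of_comm hconj hcg (orderOf g)
        rw [pow_orderOf_eq_one, one_mul, inv_one, mul_one] at hp
        have hη1 : η ^ orderOf g = 1 := (mul_eq_right (b := w)).1 hp.symm
        have hdvd : orderOf η ∣ orderOf g := orderOf_dvd_of_pow_eq_one hη1
        obtain ⟨kg, hkg⟩ := S.2.exists_orderOf_eq_pow ⟨g, hgS⟩
        rw [← Subgroup.orderOf_coe] at hkg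
        simp only at hkg
        rw [heη, hkg] at hdvd
        have hcop : (t ^ eη).Coprime (s ^ kg) :=
          Nat.Coprime.pow _ _ ((Nat.coprime_primes ht.out hs.out).2 (Ne.symm hst))
        have h1 : t ^ eη = 1 := Nat.Coprime.eq_one_of_dvd hcop hdvd
        rw [h1, orderOf_eq_one_iff] at heη
        have hζeq : ζ = ζ' := by
          rw [hη] at heη
          exact mul_inv_eq_one.1 heη
        subst hζeq
        have hweq : w = (g2 : G) * y * (g2 : G)⁻¹ := mul_right_cancel heq
        rw [hweq]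
      have hmaps : ∀ q ∈ (MulAction.orbit (S : Subgroup G) y) ×ˢ (Zt : Set G),
          (fun q : G × G => q.1 * q.2) q ∈ ((R1 : Set G) \ (Zt : Set G)) := by
        rintro ⟨w, ζ⟩ ⟨hw, hζ⟩
        simp only at hw hζ ⊢
        obtain ⟨hwR, hwc⟩ := hO1 w hw
        refine ⟨R1.mul_mem hwR (hZtR1 hζ), ?_⟩
        intro hmem
        apply hwc
        have : w = w * ζ * ζ⁻¹ := by group
        rw [this]
        exact hZtle (Zt.mul_mem hmem (Zt.inv_mem hζ))
      have h1 := Set.ncard_le_ncard_of_injOn _ hmaps hinj (Set.toFinite _)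
      rw [Set.ncard_prod, Set.ncard_sdiff (show (Zt : Set G) ⊆ R1 from hZtR1) (Set.toFinite _)] at h1
      exact h1
    rw [hR1card, hZtcard, hC1card] at hO3
    set X := s ^ ((Nat.card G).factorization s -
        (Nat.card (centralizer ({g0} : Set G))).factorization s) with hX
    set bt := (Nat.card (centralizer ({g0} : Set G))).factorization t with hbt
    set dt := (Nat.card (center G)).factorization t with hdt
    have h4 : X * t ^ dt ≤ t ^ bt - t ^ dt :=
      le_trans (Nat.mul_le_mul_right _ hO2) hO3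
    have h5 : t ^ bt = t ^ (bt - dt) * t ^ dt := by
      rw [← pow_add]; congr 1; omega
    have h6 : 0 < t ^ dt := pow_pos ht.out.pos _
    have h7 : X * t ^ dt < t ^ (bt - dt) * t ^ dt := by
      rw [← h5]
      have : 0 < t ^ bt := pow_pos ht.out.pos _
      omega
    exact Nat.lt_of_mul_lt_mul_right h7

end keyineq
section numeric

omit [Finite G] in
theorem numeric_lt (n c : ℕ) (hn : n ≠ 0) (hc : c ≠ 0)
    (h1 : ∀ s t : ℕ, s.Prime → t.Prime → s ≠ t → t ∣ c →
      s ^ n.factorization s < t ^ c.factorization t)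
    (h2 : ∀ s : ℕ, s.Prime → s ∣ n → s ∣ c)
    {q r : ℕ} (hq : q.Prime) (hr : r.Prime) (hqr : q ≠ r) (hqc : q ∣ c) (hrc : r ∣ c) :
    n < c := by
  classical
  have hnT : n.factorization.support ⊆ c.primeFactors := by
    intro s hs
    rw [Nat.support_factorization] at hs
    have := Nat.mem_primeFactors.1 hs
    exact Nat.mem_primeFactors.2 ⟨this.1, h2 s this.1 this.2.1, hc⟩
  have hnprod : n = ∏ s ∈ c.primeFactors, s ^ n.factorization s := by
    conv_lhs => rw [← Nat.prod_factorization_pow_eq_self hn]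
    exact Finsupp.prod_of_support_subset _ hnT _ (fun i _ => pow_zero i)
  have hcprod : c = ∏ s ∈ c.primeFactors, s ^ c.factorization s :=
    Nat.prod_primeFactors_pow_factorization hc
  have hqT : q ∈ c.primeFactors := Nat.mem_primeFactors.2 ⟨hq, hqc, hc⟩
  have hrT : r ∈ c.primeFactors := Nat.mem_primeFactors.2 ⟨hr, hrc, hc⟩
  obtain ⟨q0, hq0T, hq0min⟩ := Finset.exists_min_image c.primeFactors
    (fun s => s ^ c.factorization s) ⟨q, hqT⟩
  obtain ⟨q1, hq1T, hq1ne⟩ : ∃ q1 ∈ c.primeFactors, q1 ≠ q0 := by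
    by_cases hq0 : q = q0
    · exact ⟨r, hrT, fun h => hqr (hq0.trans h.symm)⟩
    · exact ⟨q, hqT, hq0⟩
  have hq0p := (Nat.mem_primeFactors.1 hq0T).1
  have hq0d := (Nat.mem_primeFactors.1 hq0T).2.1
  have hq1p := (Nat.mem_primeFactors.1 hq1T).1
  have hq1d := (Nat.mem_primeFactors.1 hq1T).2.1
  have hswap : ∏ s ∈ c.primeFactors, (Equiv.swap q0 q1 s) ^ c.factorization (Equiv.swap q0 q1 s) =
      ∏ s ∈ c.primeFactors, s ^ c.factorization s := by
    apply Finset.prod_equiv (Equiv.swap q0 q1)
    · intro i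
      by_cases hi0 : i = q0
      · subst hi0; rw [Equiv.swap_apply_left]; exact ⟨fun _ => hq1T, fun _ => hq0T⟩
      · by_cases hi1 : i = q1
        · subst hi1; rw [Equiv.swap_apply_right]; exact ⟨fun _ => hq0T, fun _ => hq1T⟩
        · rw [Equiv.swap_apply_of_ne_of_ne hi0 hi1]
    · intro i _; rfl
  refine lt_of_lt_of_eq (lt_of_eq_of_lt hnprod ?_) (hswap.trans hcprod.symm)
  apply Finset.prod_lt_prod_of_nonempty
  · intro i hi
    exact pow_pos (Nat.mem_primeFactors.1 hi).1.pos _
  · intro i hi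
    have hip := (Nat.mem_primeFactors.1 hi).1
    by_cases hi0 : i = q0
    · subst hi0; rw [Equiv.swap_apply_left]
      exact h1 i q1 hip hq1p (Ne.symm hq1ne) hq1d
    · by_cases hi1 : i = q1
      · subst hi1; rw [Equiv.swap_apply_right]
        exact h1 i q0 hip hq0p hi0 hq0d
      · rw [Equiv.swap_apply_of_ne_of_ne hi0 hi1]
        exact lt_of_lt_of_le (h1 i q0 hip hq0p hi0 hq0d) (hq0min i hi)
  · exact ⟨q, hqT⟩

end numeric

section final

theorem caseB_false {n : ℕ} (hn : 1 < n) (h : TwoCS G n) (D : CaseBData G) : False := by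
  obtain ⟨r, hr, y', e', hrp, hy', hyo', hC⟩ := caseB_two_primes hn h D
  have hab : ∀ g : G, g ∉ center G → ∀ a ∈ centralizer ({g} : Set G),
      ∀ b ∈ centralizer ({g} : Set G), a * b = b * a := fun g hg => abelian_cent_all hn h D hg
  have hpF : Fact D.p.Prime := ⟨D.hp⟩
  have hrF : Fact r.Prime := ⟨hr⟩
  obtain ⟨c0, hc0⟩ : ∃ c0, c0 = Nat.card (centralizer ({D.x} : Set G)) := ⟨_, rfl⟩
  obtain ⟨z0, hz0⟩ : ∃ z0, z0 = Nat.card (center G) := ⟨_, rfl⟩
  have hc0pos : 0 < c0 := hc0 ▸ Nat.card_pos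
  have hz0pos : 0 < z0 := hz0 ▸ Nat.card_pos
  have hzc : z0 ∣ c0 := by
    rw [hc0, hz0]; exact Subgroup.card_dvd_of_le (center_le_cent D.x)
  obtain ⟨c, hc⟩ := hzc
  have hcpos : c ≠ 0 := by
    rintro rfl
    rw [mul_zero] at hc; omega
  have hN0 : c0 * n = Nat.card G := by
    have := Subgroup.card_mul_index (centralizer ({D.x} : Set G))
    rwa [index_cent_of_not_mem h D.hx, ← hc0] at this
  have hn0 : n ≠ 0 := by omega
  -- factorization bookkeeping
  have hfn : ∀ s : ℕ, n.factorization s = (Nat.card G).factorization s - c0.factorization s := by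
    intro s
    rw [← hN0, Nat.factorization_mul hc0pos.ne' hn0]
    simp
  have hfc : ∀ s : ℕ, c.factorization s = c0.factorization s - z0.factorization s := by
    intro s
    rw [hc, Nat.factorization_mul hz0pos.ne' hcpos]
    simp
  have hfcle : ∀ s : ℕ, z0.factorization s ≤ c0.factorization s := by
    intro s
    rw [hc, Nat.factorization_mul hz0pos.ne' hcpos]
    simp
  have hfnle : ∀ s : ℕ, c0.factorization s ≤ (Nat.card G).factorization s := by
    intro s
    rw [← hN0, Nat.factorization_mul hc0pos.ne' hn0]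
    simp
  -- c ≤ n
  have hcn : c ≤ n := by
    have hex2 : ∃ g2 : G, g2 ∉ center G ∧
        centralizer ({g2} : Set G) ≠ centralizer ({D.x} : Set G) := by
      by_contra hno
      push Not at hno
      apply D.hx
      rw [← index_cent_eq_one_iff, Subgroup.index_eq_one, eq_top_iff]
      intro g _
      by_cases hg : g ∈ center G
      · exact center_le_cent _ hg
      · rw [← hno g hg]; exact Subgroup.mem_centralizer_singleton_iff.2 rfl
    obtain ⟨g2, hg2, hne⟩ := hex2
    have hinf : centralizer ({D.x} : Set G) ⊓ centralizer ({g2} : Set G) = center G := by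
      apply le_antisymm
      · rintro v ⟨hv1, hv2⟩
        by_contra hvc
        apply hne
        rw [← cent_eq_of_mem_of_abelian hn h (hab _ D.hx) hvc hv1,
          ← cent_eq_of_mem_of_abelian hn h (hab _ hg2) hvc hv2]
      · exact le_inf (center_le_cent _) (center_le_cent _)
    have h3 := Subgroup.index_inf_le (H := centralizer ({D.x} : Set G))
      (K := centralizer ({g2} : Set G))
    rw [hinf, index_cent_of_not_mem h D.hx, index_cent_of_not_mem h hg2] at h3
    have h4 := Subgroup.index_mul_card (center G)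
    rw [← hN0, ← hz0, hc] at h4
    have h5 : (center G).index = c * n := by
      have : (center G).index * z0 = (c * n) * z0 := by rw [h4]; ring
      exact Nat.eq_of_mul_eq_mul_right hz0pos this
    rw [h5] at h3
    exact Nat.le_of_mul_le_mul_right h3 (by omega)
  -- primes dividing c
  have hpc : D.p ∣ c := by
    apply Nat.dvd_of_factorization_pos
    rw [hfc]
    have := lemmaV D.p D.hx D.hxo
    rw [← hc0, ← hz0] at this
    omega
  have hrc : r ∣ c := by
    apply Nat.dvd_of_factorization_pos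
    rw [hfc]
    have := lemmaV r hy' hyo'
    rw [← hC, ← hc0, ← hz0] at this
    omega
  have hlt : n < c := by
    apply numeric_lt n c hn0 hcpos _ _ D.hp hr (Ne.symm hrp) hpc hrc
    · intro s t hs ht hst htc
      have hsF : Fact s.Prime := ⟨hs⟩
      have htF : Fact t.Prime := ⟨ht⟩
      rw [hfn, hfc, hc0, hz0]
      apply key_ineq hn h hab s t hst D.hx
      have := ht.factorization_pos_of_dvd hcpos htc
      rw [hfc, hc0, hz0] at this
      omega
    · intro s hs hsn
      have hsF : Fact s.Prime := ⟨hs⟩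
      have h6 := hs.factorization_pos_of_dvd hn0 hsn
      rw [hfn] at h6
      obtain ⟨S⟩ : Nonempty (Sylow s G) := inferInstance
      obtain ⟨u, huS, huc, -⟩ := lemmaU h s D.hx (by rw [← hc0]; omega) S
      obtain ⟨k, hk⟩ := S.2.exists_orderOf_eq_pow ⟨u, huS⟩
      rw [← Subgroup.orderOf_coe] at hk
      have h7 := lemmaV s huc hk
      rw [card_cent_eq h huc D.hx, ← hc0, ← hz0] at h7
      apply Nat.dvd_of_factorization_pos
      rw [hfc]
      omega
  omega

end final
section main

/-- Itô: two class sizes -/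
theorem ito_two_class_sizes {n : ℕ} (hn : 1 < n) (h : TwoCS G n)
    (hex : ∃ x : G, (centralizer ({x} : Set G)).index = n) :
    ∃ (p : ℕ) (_ : Fact p.Prime) (a : ℕ), n = p ^ a ∧ ∀ P : Sylow p G,
      (P : Subgroup G).Normal ∧
      (∃ N : Subgroup G, N.Normal ∧ N.IsComplement' (P : Subgroup G) ∧ IsMulCommutative N ∧
        ∀ x ∈ N, ∀ y ∈ (P : Subgroup G), x * y = y * x) ∧
      ∃ A : Subgroup (P : Subgroup G), A.Normal ∧ IsMulCommutative A ∧
        ∀ y : (P : Subgroup G), y ^ p ∈ A := by
  obtain ⟨x0, hx0⟩ := hex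
  have hx0c : x0 ∉ center G := by
    intro hc
    rw [(index_cent_eq_one_iff x0).2 hc] at hx0
    omega
  have hcen : ∃ p : ℕ, p.Prime ∧ ∀ y : G, (orderOf y).Coprime p → y ∈ center G := by
    by_cases hA : ∀ (p : ℕ), p.Prime → ∀ x : G, x ∉ center G → (∃ e : ℕ, orderOf x = p ^ e) →
        ∀ y ∈ centralizer ({x} : Set G), (orderOf y).Coprime p → y ∈ center G
    · exact caseA h ⟨x0, hx0c⟩ hA
    · exfalso
      push Not at hA
      obtain ⟨p, hp, x, hx, ⟨e, hxo⟩, y, hy, hyo, hyc⟩ := hA
      exact caseB_false hn h ⟨p, hp, x, hx, e, hxo, y, hy, hyo, hyc⟩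
  obtain ⟨p, hp, hcen⟩ := hcen
  have hpF : Fact p.Prime := ⟨hp⟩
  obtain ⟨a, ha⟩ := index_eq_prime_pow hcen x0
  refine ⟨p, hpF, a, by rw [← hx0, ha], fun P => ?_⟩
  obtain ⟨hPn, hNn, hcompl, hNc, hNP⟩ := structure_of_pprime_central hcen P
  refine ⟨hPn, ⟨pPrimeCenter G p, hNn, hcompl, hNc, hNP⟩, ?_⟩
  apply lemmaD P.2
  intro y k hyk
  have hykG : ((y : G) ^ k) ∉ center G := by
    intro hc
    apply hyk
    rw [Subgroup.mem_center_iff]
    intro g
    apply Subtype.ext
    have := Subgroup.mem_center_iff.1 hc (g : G)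
    simpa using this
  have hCG : centralizer ({(y : G)} : Set G) = centralizer ({(y : G) ^ k} : Set G) :=
    cent_eq_of_le hn h hykG (cent_le_cent_pow (y : G) k)
  ext g
  rw [mem_cent_iff, mem_cent_iff]
  have h1 : (g * y ^ k = y ^ k * g) ↔ ((g : G) ∈ centralizer ({(y : G) ^ k} : Set G)) := by
    rw [mem_cent_iff, Subtype.ext_iff]
    simp
  have h2 : (g * y = y * g) ↔ ((g : G) ∈ centralizer ({(y : G)} : Set G)) := by
    rw [mem_cent_iff, Subtype.ext_iff]
    simp
  rw [h1, h2, hCG]

end main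

end Cfsg.Agent.Lib.Helper22.Ito
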