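import Mathlib
import Cfsg.Agent.Lib.Helper22.Ito

set_option autoImplicit false

/-!
# Two `p`-regular class sizes: basic lemmas and the case where all `{p,q}'`-elements are central
-/

namespace Cfsg.Agent.Lib.Helper22.PReg

open Subgroup
open Cfsg.Agent.Lib.Helper22.Ito

variable {G : Type*} [Group G]

/-- the `p`-regular elements have centralizer index `1` or `n` -/
def PRegCS (G : Type*) [Group G] (p n : ℕ) : Prop :=
  ∀ x : G, (orderOf x).Coprime p →
    (centralizer ({x} : Set G)).index = 1 ∨ (centralizer ({x} : Set G)).index = n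

theorem index_cent_of_not_mem {p n : ℕ} (h : PRegCS G p n) {x : G} (hxp : (orderOf x).Coprime p)
    (hx : x ∉ center G) : (centralizer ({x} : Set G)).index = n := by
  rcases h x hxp with h1 | h1
  · exact absurd ((index_cent_eq_one_iff x).1 h1) hx
  · exact h1

theorem coprime_zpow {p : ℕ} {x : G} (hxp : (orderOf x).Coprime p) (k : ℤ) :
    (orderOf (x ^ k)).Coprime p :=
  Nat.Coprime.coprime_dvd_left (orderOf_dvd_of_mem_zpowers (Subgroup.zpow_mem_zpowers x k)) hxp

theorem coprime_pow {p : ℕ} {x : G} (hxp : (orderOf x).Coprime p) (k : ℕ) :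
    (orderOf (x ^ k)).Coprime p :=
  Nat.Coprime.coprime_dvd_left (orderOf_dvd_of_mem_zpowers (Subgroup.npow_mem_zpowers x k)) hxp

theorem coprime_mul {p : ℕ} {x y : G} (hc : Commute x y) (hxp : (orderOf x).Coprime p)
    (hyp : (orderOf y).Coprime p) : (orderOf (x * y)).Coprime p :=
  Nat.Coprime.coprime_dvd_left hc.orderOf_mul_dvd_mul_orderOf (Nat.Coprime.mul_left hxp hyp)

theorem coprime_of_prime_pow {p q e : ℕ} (hp : p.Prime) (hq : q.Prime) (hqp : q ≠ p) :
    (q ^ e).Coprime p :=
  Nat.Coprime.pow_left e ((Nat.coprime_primes hq hp).2 hqp)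

variable [Finite G]

/-- centralizers of noncentral `p`-regular elements are incomparable -/
theorem cent_eq_of_le {p n : ℕ} (hn : 1 < n) (h : PRegCS G p n) {x y : G}
    (hxp : (orderOf x).Coprime p) (hyp : (orderOf y).Coprime p) (hy : y ∉ center G)
    (hle : centralizer ({x} : Set G) ≤ centralizer ({y} : Set G)) :
    centralizer ({x} : Set G) = centralizer ({y} : Set G) := by
  have hx : x ∉ center G := by
    intro hx
    apply hy
    have : centralizer ({x} : Set G) = ⊤ := by
      rw [← Subgroup.index_eq_one]; exact (index_cent_eq_one_iff x).2 hx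
    rw [this] at hle
    rw [← index_cent_eq_one_iff, Subgroup.index_eq_one]
    exact top_le_iff.1 hle
  have h1 := index_cent_of_not_mem h hxp hx
  have h2 := index_cent_of_not_mem h hyp hy
  have h3 := Subgroup.relIndex_mul_index hle
  rw [h1, h2] at h3
  have h4 : (centralizer ({x} : Set G)).relIndex (centralizer ({y} : Set G)) = 1 := by
    have hn0 : 0 < n := by omega
    exact Nat.eq_of_mul_eq_mul_right hn0 (by rw [h3, one_mul])
  exact le_antisymm hle (Subgroup.relIndex_eq_one.1 h4)

theorem card_cent_eq {p n : ℕ} (h : PRegCS G p n) {x y : G}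
    (hxp : (orderOf x).Coprime p) (hyp : (orderOf y).Coprime p)
    (hx : x ∉ center G) (hy : y ∉ center G) :
    Nat.card (centralizer ({x} : Set G)) = Nat.card (centralizer ({y} : Set G)) := by
  have h1 := index_cent_of_not_mem h hxp hx
  have h2 := index_cent_of_not_mem h hyp hy
  have h3 := Subgroup.card_mul_index (centralizer ({x} : Set G))
  have h4 := Subgroup.card_mul_index (centralizer ({y} : Set G))
  rw [h1] at h3; rw [h2] at h4
  have hn0 : 0 < n := by
    rcases Nat.eq_zero_or_pos n with h0 | h0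
    · subst h0; rw [mul_zero] at h3; exact absurd h3.symm (Nat.card_pos).ne'
    · exact h0
  exact Nat.eq_of_mul_eq_mul_right hn0 (h3.trans h4.symm)

/-- commuting `p`-regular elements of coprime orders -/
theorem cent_le_of_coprime {p n : ℕ} (hn : 1 < n) (h : PRegCS G p n) {x y : G}
    (hxp : (orderOf x).Coprime p) (hyp : (orderOf y).Coprime p) (hx : x ∉ center G)
    (hc : Commute x y) (hcop : (orderOf x).Coprime (orderOf y)) :
    centralizer ({x} : Set G) ≤ centralizer ({y} : Set G) := by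
  obtain ⟨k, hk⟩ := mem_zpowers_mul_of_coprime hc hcop
  obtain ⟨l, hl⟩ := mem_zpowers_mul_of_coprime hc.symm hcop.symm
  rw [hc.symm.eq] at hl
  have h1 : centralizer ({x * y} : Set G) ≤ centralizer ({x} : Set G) := by
    have := cent_le_cent_pow (x * y) k
    rwa [hk] at this
  have h2 : centralizer ({x * y} : Set G) ≤ centralizer ({y} : Set G) := by
    have := cent_le_cent_pow (x * y) l
    rwa [hl] at this
  rw [← cent_eq_of_le hn h (coprime_mul hc hxp hyp) hxp hx h1]
  exact h2

/-- a noncentral `p`-regular element has a noncentral primary power, for a prime `≠ p` -/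
theorem exists_primary_noncentral_preg {p : ℕ} {g : G} (hgp : (orderOf g).Coprime p)
    (hg : g ∉ center G) :
    ∃ (q : ℕ) (_ : q.Prime) (k : ℤ) (e : ℕ), q ≠ p ∧ g ^ k ∉ center G ∧ orderOf (g ^ k) = q ^ e ∧
      (orderOf (g ^ k)).Coprime p := by
  obtain ⟨q, hq, k, e, hk, hko⟩ := exists_primary_noncentral' hg
  refine ⟨q, hq, k, e, ?_, hk, hko, coprime_zpow hgp k⟩
  rintro rfl
  have he : e ≠ 0 := by
    intro h0
    rw [h0, pow_zero, orderOf_eq_one_iff] at hko
    exact hk (hko ▸ Subgroup.one_mem _)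
  have h1 := coprime_zpow hgp k
  rw [hko] at h1
  have h2 : q.Coprime q := Nat.Coprime.coprime_dvd_left (dvd_pow_self q he) h1
  exact hq.one_lt.ne' ((Nat.coprime_self q).1 h2)

/-- Lemma K -/
theorem lemmaK {p n : ℕ} (h : PRegCS G p n) (q : ℕ) [hq : Fact q.Prime] {x1 x2 : G}
    (hx1p : (orderOf x1).Coprime p) (hx2p : (orderOf x2).Coprime p)
    (hx1 : x1 ∉ center G) (hx2 : x2 ∉ center G)
    (hall : ∀ w ∈ centralizer ({x1} : Set G), (∃ e : ℕ, orderOf w = q ^ e) → w ∈ center G) :
    ∀ w ∈ centralizer ({x2} : Set G), (∃ e : ℕ, orderOf w = q ^ e) → w ∈ center G := by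
  intro w hw ⟨e, he⟩
  obtain ⟨S⟩ : Nonempty (Sylow q (centralizer ({x1} : Set G))) := inferInstance
  set S' : Subgroup G := (S : Subgroup (centralizer ({x1} : Set G))).map
    (centralizer ({x1} : Set G)).subtype with hS'
  have hS'c : S' ≤ center G := by
    rintro s ⟨s0, hs0, rfl⟩
    apply hall _ s0.2
    obtain ⟨k, hk⟩ := S.2 ⟨s0, hs0⟩
    have hk' : s0 ^ q ^ k = 1 := by
      have := congrArg Subtype.val hk
      simpa using this
    have hd : orderOf s0 ∣ q ^ k := orderOf_dvd_of_pow_eq_one hk'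
    obtain ⟨e', -, he'⟩ := (Nat.dvd_prime_pow hq.out).1 hd
    exact ⟨e', by rw [Subgroup.orderOf_coe, he']⟩
  have hS'card : Nat.card S' = q ^ (Nat.card (centralizer ({x1} : Set G))).factorization q := by
    rw [hS', Subgroup.card_map_of_injective (Subgroup.subtype_injective _)]
    exact S.card_eq_multiplicity
  have hS'n : S'.Normal := normal_of_le_center' hS'c
  have hS'p : IsPGroup q S' := by
    rw [hS']; exact S.2.map _
  have hwp : IsPGroup q (zpowers w) := by
    apply IsPGroup.of_card (n := e)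
    rw [Nat.card_zpowers, he]
  have hTp : IsPGroup q (S' ⊔ zpowers w : Subgroup G) := IsPGroup.to_sup_of_normal_left hS'p hwp
  have hTle : S' ⊔ zpowers w ≤ centralizer ({x2} : Set G) := by
    apply sup_le (hS'c.trans (center_le_cent x2))
    rw [Subgroup.zpowers_le]; exact hw
  obtain ⟨k, hk⟩ := IsPGroup.iff_card.1 hTp
  have hdvd : Nat.card (S' ⊔ zpowers w : Subgroup G) ∣ Nat.card (centralizer ({x2} : Set G)) :=
    Subgroup.card_dvd_of_le hTle
  rw [hk, ← card_cent_eq h hx1p hx2p hx1 hx2] at hdvd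
  have hkle : k ≤ (Nat.card (centralizer ({x1} : Set G))).factorization q :=
    (hq.out.pow_dvd_iff_le_factorization (Nat.card_pos).ne').1 hdvd
  have hle : Nat.card (S' ⊔ zpowers w : Subgroup G) ≤ Nat.card S' := by
    rw [hk, hS'card]; exact Nat.pow_le_pow_right hq.out.pos hkle
  have heq : S' = S' ⊔ zpowers w := Subgroup.eq_of_le_of_card_ge le_sup_left hle
  apply hS'c
  rw [heq]
  exact le_sup_right (a := S') (Subgroup.mem_zpowers w)

/-- Case A: one prime `q ≠ p` carries all the noncentral `p`-regular elements -/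
theorem caseA {p n : ℕ} (h : PRegCS G p n)
    (hex : ∃ x : G, (orderOf x).Coprime p ∧ x ∉ center G)
    (hA : ∀ (q : ℕ), q.Prime → q ≠ p → ∀ x : G, x ∉ center G → (∃ e : ℕ, orderOf x = q ^ e) →
      ∀ y ∈ centralizer ({x} : Set G), (orderOf y).Coprime p → (orderOf y).Coprime q →
        y ∈ center G) :
    ∃ q : ℕ, q.Prime ∧ q ≠ p ∧
      ∀ y : G, (orderOf y).Coprime p → (orderOf y).Coprime q → y ∈ center G := by
  obtain ⟨x0, hx0p, hx0⟩ := hex
  obtain ⟨q, hq, k, e, hqp, hx, hxo, hxp⟩ := exists_primary_noncentral_preg hx0p hx0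
  refine ⟨q, hq, hqp, ?_⟩
  intro y hyp hyq
  by_contra hyc
  obtain ⟨r, hr, k', e', hrp, hy', hyo, hy'p⟩ := exists_primary_noncentral_preg hyp hyc
  have : Fact r.Prime := ⟨hr⟩
  have hdvd : orderOf (y ^ k') ∣ orderOf y :=
    orderOf_dvd_of_mem_zpowers (Subgroup.zpow_mem_zpowers y k')
  have hcop : (r ^ e').Coprime q := by
    rw [← hyo]; exact Nat.Coprime.coprime_dvd_left hdvd hyq
  have he' : e' ≠ 0 := by
    intro h0
    rw [h0, pow_zero, orderOf_eq_one_iff] at hyo
    exact hy' (hyo ▸ Subgroup.one_mem _)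
  have hrq : r.Coprime q := Nat.Coprime.coprime_dvd_left (dvd_pow_self r he') hcop
  apply hy'
  apply lemmaK h r hxp hy'p hx hy' _ (y ^ k') (Subgroup.mem_centralizer_singleton_iff.2 rfl)
    ⟨e', hyo⟩
  intro w hw ⟨f, hf⟩
  apply hA q hq hqp _ hx ⟨e, hxo⟩ w hw
  · rw [hf]
    have hp1 : r.Coprime p := by
      have h1 := hy'p
      rw [hyo] at h1
      exact Nat.Coprime.coprime_dvd_left (dvd_pow_self r he') h1
    exact Nat.Coprime.pow_left f hp1
  · rw [hf]
    exact Nat.Coprime.pow_left f hrq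

end Cfsg.Agent.Lib.Helper22.PReg
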