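import Mathlib
import Cfsg.Agent.Lib.Helper22.PRegA

set_option autoImplicit false

/-!
# All `{p,q}'`-elements central: `G = PQ × A`
-/

namespace Cfsg.Agent.Lib.Helper22.PReg

open Subgroup
open Cfsg.Agent.Lib.Helper22.Ito

variable {G : Type*} [Group G] [Finite G]

/-- a `p`-subgroup lies in every normal subgroup of index prime to `p` -/
theorem le_of_isPGroup_of_coprime_index {p : ℕ} [hp : Fact p.Prime] {P K : Subgroup G}
    (hP : IsPGroup p P) [hK : K.Normal] (hcop : (K.index).Coprime p) : P ≤ K := by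
  have h1 : IsPGroup p (P.map (QuotientGroup.mk' K)) := hP.map _
  obtain ⟨k, hk⟩ := IsPGroup.iff_card.1 h1
  have h2 : Nat.card (P.map (QuotientGroup.mk' K)) ∣ Nat.card (G ⧸ K) := Subgroup.card_subgroup_dvd_card _
  rw [hk, ← Subgroup.index_eq_card] at h2
  have h3 : p ^ k = 1 := Nat.Coprime.eq_one_of_dvd (Nat.Coprime.pow_left k hcop.symm) h2
  rw [h3, Subgroup.card_eq_one] at hk
  intro x hx
  have h4 : (QuotientGroup.mk' K) x ∈ P.map (QuotientGroup.mk' K) := Subgroup.mem_map_of_mem _ hx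
  rw [hk, Subgroup.mem_bot] at h4
  rwa [QuotientGroup.mk'_apply, QuotientGroup.eq_one_iff] at h4

theorem structure_pq {p q : ℕ} [hp : Fact p.Prime] [hq : Fact q.Prime] (hqp : q ≠ p)
    (hcen : ∀ y : G, (orderOf y).Coprime p → (orderOf y).Coprime q → y ∈ center G)
    (P : Sylow p G) (Q : Sylow q G) :
    ∃ A : Subgroup G, A ≤ center G ∧
      Nat.card ↥((P : Subgroup G) ⊔ (Q : Subgroup G)) = Nat.card P * Nat.card Q ∧
      ((P : Subgroup G) ⊔ (Q : Subgroup G)).Normal ∧
      ((P : Subgroup G) ⊔ (Q : Subgroup G)) ⊓ A = ⊥ ∧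
      ((P : Subgroup G) ⊔ (Q : Subgroup G)) ⊔ A = ⊤ := by
  classical
  set A : Subgroup G := pPrimeCenter G (p * q) with hA
  have hAc : A ≤ center G := fun _ h => h.1
  have hAn : A.Normal := normal_of_le_center' hAc
  have hpq : p.Coprime q := (Nat.coprime_primes hp.out hq.out).2 (Ne.symm hqp)
  -- card A is coprime to p * q
  have hAcop : (Nat.card A).Coprime (p * q) := by
    by_contra hnc
    obtain ⟨r, hr, hrA, hrpq⟩ := Nat.Prime.not_coprime_iff_dvd.1 hnc
    have : Fact r.Prime := ⟨hr⟩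
    obtain ⟨a, ha⟩ := exists_prime_orderOf_dvd_card' (G := A) r hrA
    have h1 : (orderOf (a : G)).Coprime (p * q) := a.2.2
    rw [Subgroup.orderOf_coe, ha] at h1
    exact hr.one_lt.ne' (Nat.Coprime.eq_one_of_dvd h1 hrpq)
  have hAp : (Nat.card A).Coprime p := Nat.Coprime.coprime_mul_right_right hAcop
  have hAq : (Nat.card A).Coprime q := Nat.Coprime.coprime_mul_left_right hAcop
  -- prime factors of the index
  have hidx : ∀ r : ℕ, r.Prime → r ∣ A.index → r = p ∨ r = q := by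
    intro r hr hrA
    have : Fact r.Prime := ⟨hr⟩
    rw [Subgroup.index_eq_card] at hrA
    obtain ⟨gb, hgb⟩ := exists_prime_orderOf_dvd_card' (G := G ⧸ A) r hrA
    obtain ⟨g, rfl⟩ := QuotientGroup.mk_surjective gb
    obtain ⟨i, j, hij, ⟨e, he⟩, hcop⟩ := Cfsg.Agent.Lib.Helper17.exists_p_pprime_decomp p g
    obtain ⟨i', j', hij', ⟨e', he'⟩, hcop'⟩ :=
      Cfsg.Agent.Lib.Helper17.exists_p_pprime_decomp q (g ^ j)
    have hcp : (orderOf ((g ^ j) ^ j')).Coprime p := coprime_zpow hcop j'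
    have hcA : (g ^ j) ^ j' ∈ A :=
      ⟨hcen _ hcp hcop', Nat.Coprime.mul_right hcp hcop'⟩
    have hg : g = g ^ i * ((g ^ j) ^ i' * (g ^ j) ^ j') := by rw [← hij', ← hij]
    have hpow : g ^ (p ^ e * q ^ e') ∈ A := by
      have h1 : (g ^ i) ^ (p ^ e * q ^ e') = 1 := by
        rw [pow_mul, ← he, pow_orderOf_eq_one, one_pow]
      have h2 : ((g ^ j) ^ i') ^ (p ^ e * q ^ e') = 1 := by
        rw [mul_comm, pow_mul, ← he', pow_orderOf_eq_one, one_pow]
      have h3 : g ^ (p ^ e * q ^ e') =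
          (g ^ i) ^ (p ^ e * q ^ e') * (((g ^ j) ^ i') ^ (p ^ e * q ^ e') *
            ((g ^ j) ^ j') ^ (p ^ e * q ^ e')) := by
        conv_lhs => rw [hg]
        simp only [← zpow_natCast, ← zpow_mul, ← zpow_add]
        congr 1; ring
      rw [h3, h1, h2, one_mul, one_mul]
      exact Subgroup.pow_mem _ hcA _
    have h4 : (QuotientGroup.mk g : G ⧸ A) ^ (p ^ e * q ^ e') = 1 := by
      rw [← QuotientGroup.mk_pow, QuotientGroup.eq_one_iff]
      exact hpow
    have h5 : r ∣ p ^ e * q ^ e' := by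
      rw [← hgb]; exact orderOf_dvd_of_pow_eq_one h4
    rcases (Nat.Prime.dvd_mul hr).1 h5 with h6 | h6
    · left; exact (Nat.prime_dvd_prime_iff_eq hr hp.out).1 (hr.dvd_of_dvd_pow h6)
    · right; exact (Nat.prime_dvd_prime_iff_eq hr hq.out).1 (hr.dvd_of_dvd_pow h6)
  have hcopA : (Nat.card A).Coprime A.index := by
    by_contra hnc
    obtain ⟨r, hr, hrA, hri⟩ := Nat.Prime.not_coprime_iff_dvd.1 hnc
    rcases hidx r hr hri with rfl | rfl
    · exact hr.one_lt.ne' (Nat.Coprime.eq_one_of_dvd hAp.symm hrA)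
    · exact hr.one_lt.ne' (Nat.Coprime.eq_one_of_dvd hAq.symm hrA)
  obtain ⟨K, hK⟩ := Subgroup.exists_left_complement'_of_coprime hcopA
  have hKA : K ⊔ A = ⊤ := hK.sup_eq_top
  have hKd : K ⊓ A = ⊥ := disjoint_iff.1 hK.disjoint
  have hKn : K.Normal := by
    constructor
    intro x hx g
    have hg : g ∈ K ⊔ A := hKA ▸ Subgroup.mem_top g
    rw [← SetLike.mem_coe, Subgroup.mul_normal] at hg
    obtain ⟨k, hk, a, ha, rfl⟩ := hg
    have hac := Subgroup.mem_center_iff.1 (hAc ha)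
    have : k * a * x * (k * a)⁻¹ = k * x * k⁻¹ := by
      rw [mul_inv_rev, mul_assoc k a x, ← hac x]
      group
    rw [this]
    exact K.mul_mem (K.mul_mem hk hx) (K.inv_mem hk)
  have hKidx : K.index = Nat.card A := hK.symm.index_eq_card
  have hcard : Nat.card K * Nat.card A = Nat.card G := hK.card_mul_card
  have hPK : (P : Subgroup G) ≤ K :=
    le_of_isPGroup_of_coprime_index P.2 (by rw [hKidx]; exact hAp)
  have hQK : (Q : Subgroup G) ≤ K :=
    le_of_isPGroup_of_coprime_index Q.2 (by rw [hKidx]; exact hAq)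
  have hPQK : (P : Subgroup G) ⊔ (Q : Subgroup G) ≤ K := sup_le hPK hQK
  have hcP : Nat.card (P : Subgroup G) = p ^ (Nat.card G).factorization p := P.card_eq_multiplicity
  have hcQ : Nat.card (Q : Subgroup G) = q ^ (Nat.card G).factorization q := Q.card_eq_multiplicity
  have hPQcop : (Nat.card (P : Subgroup G)).Coprime (Nat.card (Q : Subgroup G)) := by
    rw [hcP, hcQ]; exact Nat.Coprime.pow _ _ hpq
  -- card K divides card P * card Q
  have hK0 : Nat.card K ≠ 0 := Nat.card_pos.ne'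
  have hKidx' : Nat.card K = A.index := by
    have := hK.index_eq_card
    exact this.symm
  have hKdvd : Nat.card K ∣ Nat.card (P : Subgroup G) * Nat.card (Q : Subgroup G) := by
    obtain ⟨a, M1, hpM1, hM⟩ := Nat.exists_eq_pow_mul_and_not_dvd hK0 p hp.out.ne_one
    have hM10 : M1 ≠ 0 := by
      rintro rfl; rw [mul_zero] at hM; exact hK0 hM
    obtain ⟨b, M2, hqM2, hM1⟩ := Nat.exists_eq_pow_mul_and_not_dvd hM10 q hq.out.ne_one
    have hM2 : M2 = 1 := by
      by_contra hne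
      obtain ⟨r, hr, hrM2⟩ := Nat.exists_prime_and_dvd hne
      have hrK : r ∣ A.index := by
        rw [← hKidx', hM, hM1]
        exact Dvd.dvd.mul_left (Dvd.dvd.mul_left hrM2 _) _
      rcases hidx r hr hrK with rfl | rfl
      · exact hpM1 (by rw [hM1]; exact Dvd.dvd.mul_left hrM2 _)
      · exact hqM2 hrM2
    rw [hM2, mul_one] at hM1
    rw [hM1] at hM
    have hKG : Nat.card K ∣ Nat.card G := Subgroup.card_subgroup_dvd_card K
    have h1 : p ^ a ∣ Nat.card G := dvd_trans (by rw [hM]; exact Dvd.intro _ rfl) hKG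
    have h2 : q ^ b ∣ Nat.card G := dvd_trans (by rw [hM]; exact Dvd.intro_left _ rfl) hKG
    have h3 : a ≤ (Nat.card G).factorization p :=
      (hp.out.pow_dvd_iff_le_factorization (Nat.card_pos).ne').1 h1
    have h4 : b ≤ (Nat.card G).factorization q :=
      (hq.out.pow_dvd_iff_le_factorization (Nat.card_pos).ne').1 h2
    rw [hM, hcP, hcQ]
    exact Nat.mul_dvd_mul (pow_dvd_pow p h3) (pow_dvd_pow q h4)
  have hPQdvd : Nat.card (P : Subgroup G) * Nat.card (Q : Subgroup G) ∣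
      Nat.card ((P : Subgroup G) ⊔ (Q : Subgroup G) : Subgroup G) :=
    Nat.Coprime.mul_dvd_of_dvd_of_dvd hPQcop (Subgroup.card_dvd_of_le le_sup_left)
      (Subgroup.card_dvd_of_le le_sup_right)
  have hle2 : Nat.card ((P : Subgroup G) ⊔ (Q : Subgroup G) : Subgroup G) ∣ Nat.card K :=
    Subgroup.card_dvd_of_le hPQK
  have heq1 : Nat.card ((P : Subgroup G) ⊔ (Q : Subgroup G) : Subgroup G) = Nat.card K :=
    Nat.dvd_antisymm hle2 (dvd_trans hKdvd hPQdvd)
  have heq2 : Nat.card K = Nat.card (P : Subgroup G) * Nat.card (Q : Subgroup G) :=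
    Nat.dvd_antisymm hKdvd (dvd_trans hPQdvd hle2)
  have hPQeq : (P : Subgroup G) ⊔ (Q : Subgroup G) = K :=
    Subgroup.eq_of_le_of_card_ge hPQK (by rw [heq1])
  refine ⟨A, hAc, ?_, ?_, ?_, ?_⟩
  · rw [heq1, heq2]
  · rw [hPQeq]; exact hKn
  · rw [hPQeq]; exact hKd
  · rw [hPQeq]; exact hKA

end Cfsg.Agent.Lib.Helper22.PReg
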