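import Mathlib
import Cfsg.Agent.Lib.Helper22.PRegA

set_option autoImplicit false

/-!
# Two `p`-regular class sizes, Case B: `p`-regular elements of a centralizer are central in it
-/

namespace Cfsg.Agent.Lib.Helper22.PReg

open Subgroup
open Cfsg.Agent.Lib.Helper22.Ito

variable {G : Type*} [Group G] [Finite G]

/-- data of Case B -/
structure CaseBData (G : Type*) [Group G] (p : ℕ) where
  q : ℕ
  hq : q.Prime
  hqp : q ≠ p
  x : G
  hx : x ∉ center G
  e : ℕ
  hxo : orderOf x = q ^ e
  y : G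
  hy : y ∈ centralizer ({x} : Set G)
  hyp : (orderOf y).Coprime p
  hyq : (orderOf y).Coprime q
  hyc : y ∉ center G

theorem prime_ne_of_pow_coprime {r q e : ℕ} (hr : r.Prime) (he : e ≠ 0) (h : (r ^ e).Coprime q) :
    r ≠ q := by
  rintro rfl
  have h2 : r.Coprime r := Nat.Coprime.coprime_dvd_left (dvd_pow_self r he) h
  exact hr.one_lt.ne' ((Nat.coprime_self r).1 h2)

theorem exp_ne_zero_of_noncentral {x : G} {r e : ℕ} (hx : x ∉ center G) (hxo : orderOf x = r ^ e) :
    e ≠ 0 := by
  intro h0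
  rw [h0, pow_zero, orderOf_eq_one_iff] at hxo
  exact hx (hxo ▸ Subgroup.one_mem _)

/-- in Case B there are noncentral elements `x`, `y'` of coprime prime power orders (for primes
different from `p`) with the same centralizer -/
theorem caseB_two_primes {p n : ℕ} (hp : p.Prime) (hn : 1 < n) (h : PRegCS G p n)
    (D : CaseBData G p) :
    ∃ (r : ℕ) (_ : r.Prime) (y' : G) (e' : ℕ), r ≠ p ∧ r ≠ D.q ∧ y' ∉ center G ∧
      orderOf y' = r ^ e' ∧
      centralizer ({D.x} : Set G) = centralizer ({y'} : Set G) := by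
  obtain ⟨q, hq, hqp, x, hx, e, hxo, y, hy, hyp, hyq, hyc⟩ := D
  have hxp : (orderOf x).Coprime p := by rw [hxo]; exact coprime_of_prime_pow hp hq hqp
  obtain ⟨r, hr, k', e', hrp, hy', hyo', hy'p⟩ := exists_primary_noncentral_preg hyp hyc
  have he' : e' ≠ 0 := exp_ne_zero_of_noncentral hy' hyo'
  have hdvd : orderOf (y ^ k') ∣ orderOf y :=
    orderOf_dvd_of_mem_zpowers (Subgroup.zpow_mem_zpowers y k')
  have hrq : r ≠ q := by
    apply prime_ne_of_pow_coprime hr he'
    rw [← hyo']; exact Nat.Coprime.coprime_dvd_left hdvd hyq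
  have hxy : Commute x y := by
    rw [mem_cent_iff] at hy; exact hy.symm
  have h1 : centralizer ({x} : Set G) = centralizer ({y} : Set G) :=
    cent_eq_of_le hn h hxp hyp hyc (cent_le_of_coprime hn h hxp hyp hx hxy
      (by rw [hxo]; exact (Nat.Coprime.pow_right e hyq).symm))
  have h2 : centralizer ({y} : Set G) = centralizer ({y ^ k'} : Set G) :=
    cent_eq_of_le hn h hyp hy'p hy' (cent_le_cent_zpow y k')
  exact ⟨r, hr, y ^ k', e', hrp, hrq, hy', hyo', h1.trans h2⟩

/-- B1 -/
theorem central_of_caseB {p n : ℕ} (hp : p.Prime) (hn : 1 < n) (h : PRegCS G p n) {s : ℕ}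
    (hs : s.Prime) (hsp : s ≠ p)
    {u : G} (hu : u ∉ center G) {f : ℕ} (huo : orderOf u = s ^ f) {y : G}
    (hy : y ∈ centralizer ({u} : Set G)) (hyp : (orderOf y).Coprime p)
    (hys : (orderOf y).Coprime s) (hyc : y ∉ center G) :
    ∀ a ∈ centralizer ({u} : Set G), (orderOf a).Coprime p →
      ∀ b ∈ centralizer ({u} : Set G), a * b = b * a := by
  have : Fact s.Prime := ⟨hs⟩
  have hup : (orderOf u).Coprime p := by rw [huo]; exact coprime_of_prime_pow hp hs hsp
  obtain ⟨r, hr, k', e', hrp, hy', hyo', hy'p⟩ := exists_primary_noncentral_preg hyp hyc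
  have he' : e' ≠ 0 := exp_ne_zero_of_noncentral hy' hyo'
  have hdvd : orderOf (y ^ k') ∣ orderOf y :=
    orderOf_dvd_of_mem_zpowers (Subgroup.zpow_mem_zpowers y k')
  have hrs : r ≠ s := by
    apply prime_ne_of_pow_coprime hr he'
    rw [← hyo']; exact Nat.Coprime.coprime_dvd_left hdvd hys
  have hrs' : r.Coprime s := (Nat.coprime_primes hr hs).2 hrs
  have huy : Commute u y := by
    rw [mem_cent_iff] at hy; exact hy.symm
  have h1 : centralizer ({u} : Set G) = centralizer ({y} : Set G) :=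
    cent_eq_of_le hn h hup hyp hyc (cent_le_of_coprime hn h hup hyp hu huy
      (by rw [huo]; exact (Nat.Coprime.pow_right f hys).symm))
  have h2 : centralizer ({y} : Set G) = centralizer ({y ^ k'} : Set G) :=
    cent_eq_of_le hn h hyp hy'p hy' (cent_le_cent_zpow y k')
  have h3 : centralizer ({u} : Set G) = centralizer ({y ^ k'} : Set G) := h1.trans h2
  intro a ha hap b hb
  obtain ⟨i, j, hij, ⟨f', hf'⟩, hcj⟩ := Cfsg.Agent.Lib.Helper17.exists_p_pprime_decomp s a
  have hai : a ^ i ∈ centralizer ({u} : Set G) := Subgroup.zpow_mem _ ha i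
  have haj : a ^ j ∈ centralizer ({u} : Set G) := Subgroup.zpow_mem _ ha j
  have hbj : b * a ^ j = a ^ j * b := by
    have hc : Commute u (a ^ j) := by
      rw [mem_cent_iff] at haj; exact haj.symm
    have := cent_le_of_coprime hn h hup (coprime_zpow hap j) hu hc
      (by rw [huo]; exact (Nat.Coprime.pow_right f hcj).symm) hb
    rwa [mem_cent_iff] at this
  have hbi : b * a ^ i = a ^ i * b := by
    have hai' : a ^ i ∈ centralizer ({y ^ k'} : Set G) := h3 ▸ hai
    have hc : Commute (y ^ k') (a ^ i) := by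
      rw [mem_cent_iff] at hai'; exact hai'.symm
    have hb' : b ∈ centralizer ({y ^ k'} : Set G) := h3 ▸ hb
    have := cent_le_of_coprime hn h hy'p (coprime_zpow hap i) hy' hc
      (by rw [hyo', hf']; exact Nat.Coprime.pow _ _ hrs') hb'
    rwa [mem_cent_iff] at this
  rw [hij]
  calc a ^ i * a ^ j * b = a ^ i * (a ^ j * b) := by group
    _ = a ^ i * (b * a ^ j) := by rw [hbj]
    _ = (a ^ i * b) * a ^ j := by group
    _ = (b * a ^ i) * a ^ j := by rw [hbi]
    _ = b * (a ^ i * a ^ j) := by group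

/-- in Case B, the centralizer of a noncentral `s`-element contains a noncentral `{p,s}'`-element -/
theorem exists_noncentral_coprime {p n : ℕ} (hp : p.Prime) (hn : 1 < n) (h : PRegCS G p n)
    (D : CaseBData G p) {s : ℕ} (hs : s.Prime) (hsp : s ≠ p)
    {u : G} (hu : u ∉ center G) {f : ℕ} (huo : orderOf u = s ^ f) :
    ∃ y2 ∈ centralizer ({u} : Set G), (orderOf y2).Coprime p ∧ (orderOf y2).Coprime s ∧
      y2 ∉ center G := by
  obtain ⟨r, hr, y', e', hrp, hrq, hy', hyo', hC⟩ := caseB_two_primes hp hn h D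
  have hup : (orderOf u).Coprime p := by rw [huo]; exact coprime_of_prime_pow hp hs hsp
  have hxp : (orderOf D.x).Coprime p := by
    rw [D.hxo]; exact coprime_of_prime_pow hp D.hq D.hqp
  have hy'p : (orderOf y').Coprime p := by
    rw [hyo']; exact coprime_of_prime_pow hp hr hrp
  by_contra hno
  push Not at hno
  by_cases hsq : s = D.q
  · -- use r, y'
    have : Fact r.Prime := ⟨hr⟩
    apply hy'
    apply lemmaK h r hup hy'p hu hy' _ y' (Subgroup.mem_centralizer_singleton_iff.2 rfl) ⟨e', hyo'⟩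
    intro w hw ⟨f', hf'⟩
    apply hno w hw
    · rw [hf']; exact coprime_of_prime_pow hp hr hrp
    · rw [hf', hsq]; exact coprime_of_prime_pow D.hq hr hrq
  · have : Fact D.q.Prime := ⟨D.hq⟩
    apply D.hx
    apply lemmaK h D.q hup hxp hu D.hx _ D.x (Subgroup.mem_centralizer_singleton_iff.2 rfl)
      ⟨D.e, D.hxo⟩
    intro w hw ⟨f', hf'⟩
    apply hno w hw
    · rw [hf']; exact coprime_of_prime_pow hp D.hq D.hqp
    · rw [hf']; exact coprime_of_prime_pow hs D.hq (Ne.symm hsq)

/-- B2 : in Case B the `p`-regular elements of `C(g)` are central in `C(g)` -/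
theorem central_in_cent {p n : ℕ} (hp : p.Prime) (hn : 1 < n) (h : PRegCS G p n)
    (D : CaseBData G p) {g : G} (hgp : (orderOf g).Coprime p) (hg : g ∉ center G) :
    ∀ a ∈ centralizer ({g} : Set G), (orderOf a).Coprime p →
      ∀ b ∈ centralizer ({g} : Set G), a * b = b * a := by
  obtain ⟨s, hs, k, f, hsp, hu, huo, hup⟩ := exists_primary_noncentral_preg hgp hg
  have hCg : centralizer ({g} : Set G) = centralizer ({g ^ k} : Set G) :=
    cent_eq_of_le hn h hgp hup hu (cent_le_cent_zpow g k)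
  rw [hCg]
  obtain ⟨y2, hy2, hy2p, hy2s, hy2c⟩ := exists_noncentral_coprime hp hn h D hs hsp hu huo
  exact central_of_caseB hp hn h hs hsp hu huo hy2 hy2p hy2s hy2c

/-- B3 -/
theorem cent_eq_of_mem {p n : ℕ} (hp : p.Prime) (hn : 1 < n) (h : PRegCS G p n)
    (D : CaseBData G p) {g v : G} (hgp : (orderOf g).Coprime p) (hg : g ∉ center G)
    (hvp : (orderOf v).Coprime p) (hv : v ∉ center G) (hmem : v ∈ centralizer ({g} : Set G)) :
    centralizer ({v} : Set G) = centralizer ({g} : Set G) := by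
  symm
  apply cent_eq_of_le hn h hgp hvp hv
  intro a ha
  rw [mem_cent_iff]
  exact (central_in_cent hp hn h D hgp hg v hmem hvp a ha).symm

end Cfsg.Agent.Lib.Helper22.PReg
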