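import Mathlib
import Cfsg.Agent.Lib.Helper22.PRegC
import Cfsg.Agent.Lib.Helper1.Coprime

set_option autoImplicit false

/-!
# Case B context: primary parts of centralizers, almost central elements of Sylow subgroups
-/

namespace Cfsg.Agent.Lib.Helper22.PReg

open Subgroup
open scoped commutatorElement
open Cfsg.Agent.Lib.Helper22.Ito

variable {G : Type*} [Group G] [Finite G]

/-- Case B context -/
structure CB (G : Type*) [Group G] (p n : ℕ) : Prop where
  hp : p.Prime
  hn : 1 < n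
  cs : PRegCS G p n
  ex : ∃ g0 : G, (orderOf g0).Coprime p ∧ g0 ∉ center G
  cen : ∀ g : G, (orderOf g).Coprime p → g ∉ center G →
    ∀ a ∈ centralizer ({g} : Set G), (orderOf a).Coprime p →
      ∀ b ∈ centralizer ({g} : Set G), a * b = b * a
  two : ∀ (s : ℕ), s.Prime → s ≠ p → ∀ u : G, u ∉ center G → ∀ f : ℕ, orderOf u = s ^ f →
    ∃ y2 ∈ centralizer ({u} : Set G), (orderOf y2).Coprime p ∧ (orderOf y2).Coprime s ∧
      y2 ∉ center G

theorem CB.of_data {p n : ℕ} (hp : p.Prime) (hn : 1 < n) (h : PRegCS G p n)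
    (D : CaseBData G p) : CB G p n where
  hp := hp
  hn := hn
  cs := h
  ex := ⟨D.x, by rw [D.hxo]; exact coprime_of_prime_pow hp D.hq D.hqp, D.hx⟩
  cen := fun _ hgp hg => central_in_cent hp hn h D hgp hg
  two := fun _ hs hsp _ hu _ huo => exists_noncentral_coprime hp hn h D hs hsp hu huo

theorem CB.cent_eq_of_mem {p n : ℕ} (hc : CB G p n) {g v : G} (hgp : (orderOf g).Coprime p)
    (hg : g ∉ center G) (hvp : (orderOf v).Coprime p) (hv : v ∉ center G)
    (hmem : v ∈ centralizer ({g} : Set G)) :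
    centralizer ({v} : Set G) = centralizer ({g} : Set G) := by
  symm
  apply cent_eq_of_le hc.hn hc.cs hgp hvp hv
  intro a ha
  rw [mem_cent_iff]
  exact (hc.cen g hgp hg v hmem hvp a ha).symm

/-- a noncentral element of prime power order for a second prime -/
theorem CB.exists_second_prime {p n : ℕ} (hc : CB G p n) {s : ℕ} (hs : s.Prime) (hsp : s ≠ p)
    {u : G} (hu : u ∉ center G) {f : ℕ} (huo : orderOf u = s ^ f) :
    ∃ (t : ℕ) (_ : t.Prime) (y : G) (e : ℕ), t ≠ p ∧ t ≠ s ∧ y ∉ center G ∧ orderOf y = t ^ e ∧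
      y ∈ centralizer ({u} : Set G) := by
  obtain ⟨y2, hy2, hy2p, hy2s, hy2c⟩ := hc.two s hs hsp u hu f huo
  obtain ⟨t, ht, k, e, htp, hy, hyo, -⟩ := exists_primary_noncentral_preg hy2p hy2c
  refine ⟨t, ht, y2 ^ k, e, htp, ?_, hy, hyo, Subgroup.zpow_mem _ hy2 k⟩
  apply prime_ne_of_pow_coprime ht (exp_ne_zero_of_noncentral hy hyo)
  rw [← hyo]
  exact Nat.Coprime.coprime_dvd_left
    (orderOf_dvd_of_mem_zpowers (Subgroup.zpow_mem_zpowers y2 k)) hy2s

/-- the `r`-primary part of a centralizer -/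
theorem CB.exists_primary {p n : ℕ} (hc : CB G p n) {g : G} (hgp : (orderOf g).Coprime p)
    (hg : g ∉ center G) (r : ℕ) [hr : Fact r.Prime] (hrp : r ≠ p) :
    ∃ R : Subgroup G, R ≤ centralizer ({g} : Set G) ∧
      Nat.card R = r ^ (Nat.card (centralizer ({g} : Set G))).factorization r ∧
      ∀ v, v ∈ R ↔ v ∈ centralizer ({g} : Set G) ∧ ∃ e : ℕ, orderOf v = r ^ e := by
  set H := centralizer ({g} : Set G) with hH
  obtain ⟨T⟩ : Nonempty (Sylow r H) := inferInstance
  have hord : ∀ n : H, n ∈ (T : Subgroup H) → ∃ e : ℕ, orderOf (n : G) = r ^ e := by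
    intro n hn
    obtain ⟨k, hk⟩ := T.2 ⟨n, hn⟩
    have hk' : n ^ r ^ k = 1 := by
      have := congrArg Subtype.val hk
      simpa using this
    have hd : orderOf n ∣ r ^ k := orderOf_dvd_of_pow_eq_one hk'
    obtain ⟨e', -, he'⟩ := (Nat.dvd_prime_pow hr.out).1 hd
    exact ⟨e', by rw [Subgroup.orderOf_coe, he']⟩
  have hTn : (T : Subgroup H).Normal := by
    constructor
    intro n hn x
    obtain ⟨e, he⟩ := hord n hn
    have hnp : (orderOf (n : G)).Coprime p := by
      rw [he]; exact coprime_of_prime_pow hc.hp hr.out hrp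
    have : x * n * x⁻¹ = n := by
      rw [show x * n = n * x from Subtype.ext (hc.cen g hgp hg n n.2 hnp x x.2).symm,
        mul_inv_cancel_right]
    rwa [this]
  refine ⟨(T : Subgroup H).map H.subtype, ?_, ?_, ?_⟩
  · rintro s ⟨s0, -, rfl⟩; exact s0.2
  · rw [Subgroup.card_map_of_injective (Subgroup.subtype_injective _)]
    exact T.card_eq_multiplicity
  · intro v
    constructor
    · rintro ⟨s0, hs0, rfl⟩
      exact ⟨s0.2, hord s0 hs0⟩
    · rintro ⟨hv, e, he⟩
      have h1 : IsPGroup r (zpowers (⟨v, hv⟩ : H)) := by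
        apply isPGroup_zpowers (f := e)
        rw [← he, ← Subgroup.orderOf_coe]
      obtain ⟨S', hS'⟩ := h1.exists_le_sylow
      obtain ⟨x, hx⟩ := MulAction.exists_smul_eq H T S'
      rw [Sylow.smul_eq_of_normal] at hx
      refine ⟨⟨v, hv⟩, ?_, rfl⟩
      rw [hx]; exact hS' (Subgroup.mem_zpowers _)

omit [Finite G] in
/-- elements of a Sylow `s`-subgroup, `s ≠ p`, are `p`-regular -/
theorem coprime_of_mem_sylow {p s : ℕ} (hp : p.Prime) [hs : Fact s.Prime] (hsp : s ≠ p)
    (S : Sylow s G) {x : G} (hx : x ∈ (S : Subgroup G)) :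
    (∃ k : ℕ, orderOf x = s ^ k) ∧ (orderOf x).Coprime p := by
  obtain ⟨k, hk⟩ := S.2.exists_orderOf_eq_pow ⟨x, hx⟩
  rw [← Subgroup.orderOf_coe] at hk
  simp only at hk
  exact ⟨⟨k, hk⟩, by rw [hk]; exact coprime_of_prime_pow hp hs.out hsp⟩

/-- an almost central element of a Sylow `s`-subgroup when `s` divides the class size -/
theorem exists_almost_central {p n : ℕ} (hp : p.Prime) (h : PRegCS G p n) (s : ℕ)
    [hs : Fact s.Prime] (hsp : s ≠ p) {g0 : G} (hg0p : (orderOf g0).Coprime p)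
    (hg0 : g0 ∉ center G)
    (hlt : (Nat.card (centralizer ({g0} : Set G))).factorization s <
      (Nat.card G).factorization s) (S : Sylow s G) :
    ∃ u ∈ (S : Subgroup G), u ∉ center G ∧ ∀ g ∈ (S : Subgroup G), ⁅g, u⁆ ∈ center G := by
  have hcardS : Nat.card S = s ^ (Nat.card G).factorization s := S.card_eq_multiplicity
  have key0 : ∀ w : G, (orderOf w).Coprime p → w ∉ center G →
      ¬ ((S : Subgroup G) ≤ centralizer ({w} : Set G)) := by
    intro w hwp hw hle
    have hdvd : Nat.card (S : Subgroup G) ∣ Nat.card (centralizer ({w} : Set G)) :=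
      Subgroup.card_dvd_of_le hle
    rw [card_cent_eq h hwp hg0p hw hg0] at hdvd
    have hcS : Nat.card (S : Subgroup G) = s ^ (Nat.card G).factorization s := hcardS
    rw [hcS] at hdvd
    have := (hs.out.pow_dvd_iff_le_factorization (Nat.card_pos).ne').1 hdvd
    omega
  have claim1 : ∀ w : (S : Subgroup G), w ∈ center (S : Subgroup G) → (w : G) ∈ center G := by
    intro w hw
    by_contra hwc
    apply key0 _ (coprime_of_mem_sylow hp hsp S w.2).2 hwc
    intro g hg
    rw [mem_cent_iff]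
    have := Subgroup.mem_center_iff.1 hw ⟨g, hg⟩
    exact congrArg Subtype.val this
  have claim2 : ¬ ((⊤ : Subgroup (S : Subgroup G)) ≤ center (S : Subgroup G)) := by
    intro htop
    apply key0 g0 hg0p hg0
    intro g hg
    exact center_le_cent g0 (claim1 ⟨g, hg⟩ (htop (Subgroup.mem_top _)))
  obtain ⟨t, -, htc, htcomm⟩ := Cfsg.Agent.Lib.Helper1.exists_central_mod_of_lt S.2
    (center (S : Subgroup G)) ⊤ claim2
  refine ⟨(t : G), t.2, ?_, ?_⟩
  · intro hcen
    apply htc
    rw [Subgroup.mem_center_iff]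
    intro g
    apply Subtype.ext
    exact Subgroup.mem_center_iff.1 hcen (g : G)
  · intro g hg
    have := claim1 _ (htcomm ⟨g, hg⟩)
    simpa [commutatorElement_def] using this

omit [Finite G] in
/-- if `[g,u]` is central then `g` normalizes `C(u)` -/
theorem conj_mem_cent_of_commutator_central {g u : G} (hz : ⁅g, u⁆ ∈ center G) {y : G}
    (hy : y ∈ centralizer ({u} : Set G)) : g * y * g⁻¹ ∈ centralizer ({u} : Set G) := by
  rw [mem_cent_iff] at hy ⊢
  have hgu : g * u * g⁻¹ = ⁅g, u⁆ * u := by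
    rw [commutatorElement_def]; group
  have h1 : (g * y * g⁻¹) * (g * u * g⁻¹) = (g * u * g⁻¹) * (g * y * g⁻¹) := by
    have : (g * y * g⁻¹) * (g * u * g⁻¹) = g * (y * u) * g⁻¹ := by group
    rw [this, hy]; group
  rw [hgu] at h1
  have hzc := Subgroup.mem_center_iff.1 hz
  have h2 : g * y * g⁻¹ * (⁅g, u⁆ * u) = ⁅g, u⁆ * (g * y * g⁻¹ * u) := by
    rw [← mul_assoc, hzc (g * y * g⁻¹), mul_assoc]
  rw [h2, mul_assoc ⁅g, u⁆] at h1
  exact mul_left_cancel h1

/-- an almost central element is normalized-centralizer: `S ≤ N_G(C(u))` -/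
theorem le_normalizer_cent {s : ℕ} [Fact s.Prime] (S : Sylow s G) {u : G}
    (hu : ∀ g ∈ (S : Subgroup G), ⁅g, u⁆ ∈ center G) :
    (S : Subgroup G) ≤ normalizer ((centralizer ({u} : Set G) : Subgroup G) : Set G) := by
  intro g hg
  apply Cfsg.Agent.Lib.Helper1.mem_normalizer_of_forall_conj_mem
  intro y hy
  exact conj_mem_cent_of_commutator_central (hu g hg) hy

end Cfsg.Agent.Lib.Helper22.PReg
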