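import Mathlib
import Cfsg.Agent.S4036
import Cfsg.Agent.Lib.Helper1.TraceIdentity
import Cfsg.Agent.Lib.Helper1.MinNormal
import Cfsg.Agent.Lib.Helper20.NormalRankTwoB

set_option autoImplicit false

/-!
# A group acting with uniform fixed points on an abelian `s`-group and on an abelian `t`-group

If every nonidentity element of `F` has the same (proper) fixed point subgroup on an abelian
`s`-group and on an abelian `t`-group (`s ≠ t`), then `s` and `t` do not both divide `|F|`.
-/

namespace Cfsg.Agent.Lib.Helper22.PReg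

open Cfsg.Agent.Lib.Helper1

section abstractF

variable {F A : Type*} [Group F] [Finite F] [CommGroup A] [Finite A]

/-- an action with uniform fixed points -/
structure UFix (ρ : F →* MulAut A) (B : Subgroup A) : Prop where
  ne_top : B ≠ ⊤
  fix : ∀ f : F, f ≠ 1 → ∀ a : A, ρ f a = a ↔ a ∈ B

variable {ρ : F →* MulAut A} {B : Subgroup A}

omit [Finite F] [Finite A] in
theorem UFix.fix_of_mem (h : UFix ρ B) (f : F) {a : A} (ha : a ∈ B) : ρ f a = a := by
  by_cases hf : f = 1
  · subst hf; rw [map_one]; rfl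
  · exact (h.fix f hf a).2 ha

omit [Finite F] [Finite A] in
theorem UFix.injective (h : UFix ρ B) : Function.Injective ρ := by
  rw [injective_iff_map_eq_one]
  intro f hf
  by_contra hne
  apply h.ne_top
  rw [eq_top_iff]
  intro a _
  exact (h.fix f hne a).1 (by rw [hf]; rfl)

/-- normal subgroups of order prime to `s` are trivial -/
theorem UFix.normal_eq_bot {s : ℕ} [Fact s.Prime] (hA : IsPGroup s A) (h : UFix ρ B)
    (hs : s ∣ Nat.card F) (N : Subgroup F) [hN : N.Normal] (hsN : ¬ s ∣ Nat.card N) : N = ⊥ := by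
  have hinj := h.injective
  have hcardK : Nat.card ρ.range = Nat.card F :=
    (Nat.card_congr (MonoidHom.ofInjective hinj).toEquiv).symm
  have hK : s ∣ Nat.card ρ.range := by rw [hcardK]; exact hs
  have hfix : ∀ x y : MulAut A, x ∈ ρ.range → y ∈ ρ.range → x ≠ 1 → y ≠ 1 →
      ∀ v : A, x v = v ↔ y v = v := by
    rintro x y ⟨f, rfl⟩ ⟨f', rfl⟩ hx hy v
    have hf : f ≠ 1 := by rintro rfl; exact hx (map_one ρ)
    have hf' : f' ≠ 1 := by rintro rfl; exact hy (map_one ρ)
    rw [h.fix f hf v, h.fix f' hf' v]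
  have hrinj : Function.Injective ρ.rangeRestrict := by
    intro a b hab
    apply hinj
    have := congrArg Subtype.val hab
    simpa using this
  have hN' : (N.map ρ.rangeRestrict).Normal :=
    Subgroup.Normal.map hN _ ρ.rangeRestrict_surjective
  have hcard : Nat.card (N.map ρ.rangeRestrict) = Nat.card N :=
    Subgroup.card_map_of_injective hrinj
  have := Cfsg.Agent.S4036.result hA ρ.range hK hfix (N.map ρ.rangeRestrict) hN'
    (by rw [hcard]; exact hsN)
  exact (Subgroup.map_eq_bot_iff_of_injective N hrinj).1 this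

/-- no `C_r × C_r` for `r ≠ s` -/
theorem UFix.no_rank_two {s r : ℕ} [Fact s.Prime] [Fact r.Prime] (hA : IsPGroup s A)
    (h : UFix ρ B) (hrs : r ≠ s) {a b : F} (hab : a * b = b * a) (ha : a ^ r = 1)
    (hb : b ^ r = 1) (hb1 : b ≠ 1) (hnot : a ∉ Subgroup.zpowers b) : False := by
  have h1 := iSup_fixSub_eq_top hA hrs (ρ a) (ρ b) (by rw [← map_mul, hab, map_mul])
    (by rw [← map_pow, ha, map_one]) (by rw [← map_pow, hb, map_one])
  apply h.ne_top
  rw [eq_top_iff, ← h1]
  apply sup_le
  · apply iSup_le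
    intro j v hv
    rw [mem_fixSub] at hv
    have hne : a * b ^ j ≠ 1 := by
      intro h0
      apply hnot
      have : a = (b ^ j)⁻¹ := eq_inv_of_mul_eq_one_left h0
      rw [this]
      exact Subgroup.inv_mem _ (Subgroup.pow_mem _ (Subgroup.mem_zpowers b) j)
    rw [← map_pow, ← map_mul] at hv
    exact (h.fix _ hne v).1 hv
  · intro v hv
    rw [mem_fixSub] at hv
    exact (h.fix _ hb1 v).1 hv

/-- the even case: a nontrivial normal subgroup which is an `s`-group or a `2`-group -/
theorem UFix.even_case {s : ℕ} [hs : Fact s.Prime] (hs2 : s ≠ 2) (hA : IsPGroup s A)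
    (h : UFix ρ B) (h2 : 2 ∣ Nat.card F) :
    ∃ N : Subgroup F, N.Normal ∧ N ≠ ⊥ ∧ (IsPGroup s N ∨ IsPGroup 2 N) := by
  classical
  have hinj := h.injective
  -- the kernel of the action on A / B
  let F₁ : Subgroup F :=
    { carrier := {f | ∀ a : A, ρ f a * a⁻¹ ∈ B}
      one_mem' := by
        intro a
        simp only [map_one, MulAut.one_apply, mul_inv_cancel]
        exact B.one_mem
      mul_mem' := by
        intro f f' hf hf' a
        have h1 := hf' a
        have h2 := hf a
        have e : ρ (f * f') a * a⁻¹ = (ρ f' a * a⁻¹) * (ρ f a * a⁻¹) := by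
          have e1 : ρ f' a = (ρ f' a * a⁻¹) * a := by rw [inv_mul_cancel_right]
          rw [map_mul, MulAut.mul_apply]
          conv_lhs => rw [e1, map_mul, h.fix_of_mem f h1]
          rw [mul_assoc]
        rw [e]
        exact B.mul_mem h1 h2
      inv_mem' := by
        intro f hf a
        have h1 := hf (ρ f⁻¹ a)
        have e1 : ρ f (ρ f⁻¹ a) = a := by
          rw [← MulAut.mul_apply, ← map_mul, mul_inv_cancel, map_one]; rfl
        rw [e1] at h1
        have e2 : ρ f⁻¹ a * a⁻¹ = (a * (ρ f⁻¹ a)⁻¹)⁻¹ := by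
          rw [mul_inv_rev, inv_inv]
        rw [e2]
        exact B.inv_mem h1 }
  have hF₁mem : ∀ f : F, f ∈ F₁ ↔ ∀ a : A, ρ f a * a⁻¹ ∈ B := fun f => Iff.rfl
  have hF₁n : F₁.Normal := by
    constructor
    intro f hf g
    rw [hF₁mem] at hf ⊢
    intro a
    have h1 := hf (ρ g⁻¹ a)
    have e1 : ρ (g * f * g⁻¹) a = ρ g (ρ f (ρ g⁻¹ a)) := by
      rw [map_mul, map_mul, MulAut.mul_apply, MulAut.mul_apply]
    have e2 : ρ f (ρ g⁻¹ a) = (ρ f (ρ g⁻¹ a) * (ρ g⁻¹ a)⁻¹) * ρ g⁻¹ a := by
      rw [inv_mul_cancel_right]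
    have e3 : ρ g (ρ g⁻¹ a) = a := by
      rw [← MulAut.mul_apply, ← map_mul, mul_inv_cancel, map_one]; rfl
    rw [e1, e2, map_mul, h.fix_of_mem g h1, e3, mul_inv_cancel_right]
    exact h1
  -- F₁ is an s-group
  have hpow : ∀ (f : F), f ∈ F₁ → ∀ (n : ℕ) (a : A), ρ (f ^ n) a = (ρ f a * a⁻¹) ^ n * a := by
    intro f hf n
    induction n with
    | zero => intro a; simp
    | succ n ih =>
      intro a
      rw [pow_succ', map_mul, MulAut.mul_apply, ih a, map_mul, map_pow,
        h.fix_of_mem f (hf a), pow_succ, mul_assoc, inv_mul_cancel_right]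
  have hF₁p : IsPGroup s F₁ := by
    obtain ⟨k, hk⟩ := IsPGroup.iff_card.1 hA
    intro f
    refine ⟨k, ?_⟩
    apply Subtype.ext
    rw [Subgroup.coe_pow, Subgroup.coe_one]
    apply hinj
    rw [map_one]
    ext a
    rw [hpow f f.2 (s ^ k) a, ← hk, pow_card_eq_one', one_mul]
    rfl
  by_cases hF₁ : F₁ = ⊥
  · -- unique involution
    have : Fact (Nat.Prime 2) := ⟨Nat.prime_two⟩
    obtain ⟨i, hi⟩ := exists_prime_orderOf_dvd_card' (G := F) 2 h2
    have hinv : ∀ j : F, orderOf j = 2 → ∀ a : A, ρ j a * a ∈ B := by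
      intro j hj a
      have hj1 : j ≠ 1 := by
        rintro rfl; rw [orderOf_one] at hj; omega
      have hjj : j * j = 1 := by
        rw [← pow_two, ← hj, pow_orderOf_eq_one]
      apply (h.fix j hj1 _).1
      rw [map_mul, ← MulAut.mul_apply, ← map_mul, hjj, map_one, MulAut.one_apply, mul_comm]
    have huniq : ∀ j : F, orderOf j = 2 → j = i := by
      intro j hj
      have hmem : i * j ∈ F₁ := by
        rw [hF₁mem]
        intro a
        have hcj := hinv j hj a
        have hci := hinv i hi a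
        have e1 : ρ j a = (ρ j a * a) * a⁻¹ := (mul_inv_cancel_right _ _).symm
        have e : ρ (i * j) a * a⁻¹ = (ρ j a * a) * (ρ i a * a)⁻¹ := by
          calc ρ (i * j) a * a⁻¹ = ρ i (ρ j a) * a⁻¹ := by rw [map_mul, MulAut.mul_apply]
            _ = ρ i ((ρ j a * a) * a⁻¹) * a⁻¹ := by rw [← e1]
            _ = (ρ j a * a) * (ρ i a)⁻¹ * a⁻¹ := by rw [map_mul, h.fix_of_mem i hcj, map_inv]
            _ = (ρ j a * a) * (ρ i a * a)⁻¹ := by rw [mul_inv, mul_assoc]
        rw [e]
        exact B.mul_mem hcj (B.inv_mem hci)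
      rw [hF₁, Subgroup.mem_bot] at hmem
      have hii : i * i = 1 := by rw [← pow_two, ← hi, pow_orderOf_eq_one]
      have : j = i⁻¹ := eq_inv_of_mul_eq_one_right hmem
      rw [this]
      exact inv_eq_of_mul_eq_one_left hii
    refine ⟨Subgroup.zpowers i, ?_, ?_, Or.inr ?_⟩
    · constructor
      intro x hx g
      obtain ⟨k, rfl⟩ := Subgroup.mem_zpowers_iff.1 hx
      have hgi : g * i * g⁻¹ = i := by
        apply huniq
        have := (MulAut.conj g).orderOf_eq i
        rw [MulAut.conj_apply] at this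
        rw [this, hi]
      have : g * i ^ k * g⁻¹ = (g * i * g⁻¹) ^ k := by
        rw [conj_zpow]
      rw [this, hgi]
      exact Subgroup.zpow_mem_zpowers i k
    · intro hbot
      have : i ∈ Subgroup.zpowers i := Subgroup.mem_zpowers i
      rw [hbot, Subgroup.mem_bot] at this
      rw [this, orderOf_one] at hi
      omega
    · apply IsPGroup.of_card (n := 1)
      rw [Nat.card_zpowers, hi, pow_one]
  · exact ⟨F₁, hF₁n, hF₁, Or.inl hF₁p⟩

end abstractF

section twoactions

variable {F A A' : Type*} [Group F] [Finite F] [CommGroup A] [Finite A] [CommGroup A'] [Finite A']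
variable {ρ : F →* MulAut A} {B : Subgroup A} {ρ' : F →* MulAut A'} {B' : Subgroup A'}

/-- in the odd case `F` is a Z-group -/
theorem isZGroup_of_ufix {s t : ℕ} [hs : Fact s.Prime] [ht : Fact t.Prime] (hst : s ≠ t)
    (hA : IsPGroup s A) (hA' : IsPGroup t A') (h : UFix ρ B) (h' : UFix ρ' B')
    (hodd : ¬ 2 ∣ Nat.card F) : IsZGroup F := by
  constructor
  intro r hr Q
  have : Fact r.Prime := ⟨hr⟩
  by_cases hr2 : r = 2
  · subst hr2
    have h1 : Nat.card Q = 2 ^ (Nat.card F).factorization 2 := Q.card_eq_multiplicity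
    rw [Nat.factorization_eq_zero_of_not_dvd hodd, pow_zero] at h1
    have : Subsingleton Q := (Nat.card_eq_one_iff_unique.1 h1).1
    exact isCyclic_of_subsingleton
  · by_contra hnc
    obtain ⟨M, -, hMc, hMexp, hMcard⟩ :=
      Cfsg.Agent.Lib.Helper20.exists_normal_elemAb_of_not_isCyclic (R := ↥(Q : Subgroup F))
        hr2 Q.2 hnc
    have hMne : M ≠ ⊥ := by
      intro hb
      rw [hb, Subgroup.card_bot] at hMcard
      have := Nat.one_lt_pow (n := 2) (by norm_num) hr.one_lt
      omega
    obtain ⟨⟨b, hbM⟩, hb1'⟩ := (Subgroup.ne_bot_iff_exists_ne_one).1 hMne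
    have hb1 : b ≠ 1 := fun h0 => hb1' (Subtype.ext h0)
    have hbr : b ^ r = 1 := hMexp b hbM
    have hbo : orderOf b = r := orderOf_eq_prime hbr hb1
    have hex : ∃ a ∈ M, a ∉ Subgroup.zpowers b := by
      by_contra hno
      push Not at hno
      have hle : M ≤ Subgroup.zpowers b := hno
      have := Subgroup.card_le_of_le hle
      rw [hMcard, Nat.card_zpowers, hbo] at this
      have h2 : r < r ^ 2 := by
        have := hr.one_lt
        nlinarith
      omega
    obtain ⟨a, haM, hab⟩ := hex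
    have har : a ^ r = 1 := hMexp a haM
    have hcomm : a * b = b * a := by
      have := mul_comm' (⟨a, haM⟩ : M) ⟨b, hbM⟩
      exact congrArg Subtype.val this
    -- move to F
    have hab' : (a : F) * (b : F) = (b : F) * (a : F) := by
      have := congrArg Subtype.val hcomm
      simpa using this
    have har' : (a : F) ^ r = 1 := by
      have := congrArg Subtype.val har
      simpa using this
    have hbr' : (b : F) ^ r = 1 := by
      have := congrArg Subtype.val hbr
      simpa using this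
    have hb1' : (b : F) ≠ 1 := fun h0 => hb1 (Subtype.ext h0)
    have hnot' : (a : F) ∉ Subgroup.zpowers (b : F) := by
      intro hmem
      obtain ⟨k, hk⟩ := Subgroup.mem_zpowers_iff.1 hmem
      apply hab
      rw [Subgroup.mem_zpowers_iff]
      exact ⟨k, Subtype.ext (by simpa using hk)⟩
    by_cases hrs : r = s
    · have hrt : r ≠ t := by rw [hrs]; exact hst
      exact h'.no_rank_two hA' hrt hab' har' hbr' hb1' hnot'
    · exact h.no_rank_two hA hrs hab' har' hbr' hb1' hnot'

/-- **Lemma F**: `s` and `t` do not both divide `|F|`. -/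
theorem no_two_primes {s t : ℕ} [hs : Fact s.Prime] [ht : Fact t.Prime] (hst : s ≠ t)
    (hA : IsPGroup s A) (hA' : IsPGroup t A') (h : UFix ρ B) (h' : UFix ρ' B')
    (hsF : s ∣ Nat.card F) (htF : t ∣ Nat.card F) : False := by
  -- normal r-subgroups are trivial
  have key : ∀ (r : ℕ), r.Prime → ∀ N : Subgroup F, N.Normal → IsPGroup r N → N = ⊥ := by
    intro r hr N hN hNr
    have : Fact r.Prime := ⟨hr⟩
    obtain ⟨k, hk⟩ := IsPGroup.iff_card.1 hNr
    by_cases hrs : r = s
    · have hrt : r ≠ t := by rw [hrs]; exact hst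
      apply h'.normal_eq_bot hA' htF N
      rw [hk]
      intro hd
      exact hrt ((Nat.prime_dvd_prime_iff_eq ht.out hr).1 (ht.out.dvd_of_dvd_pow hd)).symm
    · apply h.normal_eq_bot hA hsF N
      rw [hk]
      intro hd
      exact hrs ((Nat.prime_dvd_prime_iff_eq hs.out hr).1 (hs.out.dvd_of_dvd_pow hd)).symm
  by_cases h2 : 2 ∣ Nat.card F
  · by_cases hs2 : s = 2
    · have ht2 : t ≠ 2 := by rw [← hs2]; exact Ne.symm hst
      obtain ⟨N, hNn, hN1, hN | hN⟩ := h'.even_case ht2 hA' h2
      · exact hN1 (key t ht.out N hNn hN)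
      · exact hN1 (key 2 Nat.prime_two N hNn hN)
    · obtain ⟨N, hNn, hN1, hN | hN⟩ := h.even_case hs2 hA h2
      · exact hN1 (key s hs.out N hNn hN)
      · exact hN1 (key 2 Nat.prime_two N hNn hN)
  · have hZ : IsZGroup F := isZGroup_of_ufix hst hA hA' h h' h2
    have hsol : Group.IsSolvable F := inferInstance
    have hnt : Nontrivial F := by
      rw [← Finite.one_lt_card_iff_nontrivial]
      exact lt_of_lt_of_le hs.out.one_lt (Nat.le_of_dvd Nat.card_pos hsF)
    obtain ⟨N, hN⟩ := exists_isMinNormal (G := F)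
    obtain ⟨r, hr, hNr⟩ := hN.exists_prime_isPGroup
    exact hN.2.1 (key r hr N hN.1 hNr)

end twoactions

end Cfsg.Agent.Lib.Helper22.PReg
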