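import Mathlib
import Cfsg.Agent.Lib.Helper22.PRegE

set_option autoImplicit false

/-!
# Concrete form of Lemma F: two normal abelian subgroups of a group `X`
-/

namespace Cfsg.Agent.Lib.Helper22.PReg

section concreteF

variable {X : Type*} [Group X] [Finite X]

theorem no_two_primes_concrete {s t : ℕ} [hs : Fact s.Prime] [ht : Fact t.Prime] (hst : s ≠ t)
    (A₁ A₂ Z₀ : Subgroup X) [hn₁ : A₁.Normal] [hn₂ : A₂.Normal]
    (hc₁ : ∀ a ∈ A₁, ∀ b ∈ A₁, a * b = b * a) (hc₂ : ∀ a ∈ A₂, ∀ b ∈ A₂, a * b = b * a)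
    (hp₁ : IsPGroup s A₁) (hp₂ : IsPGroup t A₂)
    (hZ : ∀ z ∈ Z₀, ∀ x : X, x * z = z * x)
    (ha₁ : ∃ a ∈ A₁, a ∉ Z₀) (ha₂ : ∃ a ∈ A₂, a ∉ Z₀)
    (hfix : ∀ x a : X, (a ∈ A₁ ∨ a ∈ A₂) → a ∉ Z₀ → x * a = a * x →
      ∀ b, (b ∈ A₁ ∨ b ∈ A₂) → x * b = b * x)
    {x y : X} (hx : ∃ k : ℕ, orderOf x = s ^ k) (hy : ∃ k : ℕ, orderOf y = t ^ k)
    (hxn : ∃ b, (b ∈ A₁ ∨ b ∈ A₂) ∧ x * b ≠ b * x)
    (hyn : ∃ b, (b ∈ A₁ ∨ b ∈ A₂) ∧ y * b ≠ b * y) : False := by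
  classical
  letI : CommGroup ↥A₁ :=
    { (inferInstance : Group ↥A₁) with
      mul_comm := fun a b => Subtype.ext (hc₁ a a.2 b b.2) }
  letI : CommGroup ↥A₂ :=
    { (inferInstance : Group ↥A₂) with
      mul_comm := fun a b => Subtype.ext (hc₂ a a.2 b b.2) }
  let ψ₁ : X →* MulAut ↥A₁ := MulAut.conjNormal
  let ψ₂ : X →* MulAut ↥A₂ := MulAut.conjNormal
  let ψ : X →* MulAut ↥A₁ × MulAut ↥A₂ := ψ₁.prod ψ₂
  let F : Subgroup (MulAut ↥A₁ × MulAut ↥A₂) := ψ.range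
  let ρ : ↥F →* MulAut ↥A₁ := (MonoidHom.fst _ _).comp F.subtype
  let ρ' : ↥F →* MulAut ↥A₂ := (MonoidHom.snd _ _).comp F.subtype
  have hψ₁ : ∀ (g : X) (a : ↥A₁), ((ψ₁ g a : ↥A₁) : X) = g * a * g⁻¹ :=
    fun g a => MulAut.conjNormal_apply g a
  have hψ₂ : ∀ (g : X) (a : ↥A₂), ((ψ₂ g a : ↥A₂) : X) = g * a * g⁻¹ :=
    fun g a => MulAut.conjNormal_apply g a
  -- elements centralizing everything map to 1
  have hker : ∀ g : X, (∀ b, (b ∈ A₁ ∨ b ∈ A₂) → g * b = b * g) → ψ g = 1 := by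
    intro g hg
    apply Prod.ext
    · ext a
      show ((ψ₁ g a : ↥A₁) : X) = a
      rw [hψ₁, hg a (Or.inl a.2), mul_inv_cancel_right]
    · ext a
      show ((ψ₂ g a : ↥A₂) : X) = a
      rw [hψ₂, hg a (Or.inr a.2), mul_inv_cancel_right]
  have hfixF : ∀ f : ↥F, f ≠ 1 → ∀ (a : X), (a ∈ A₁ ∨ a ∈ A₂) →
      (∃ g : X, ψ g = f ∧ g * a * g⁻¹ = a) → a ∈ Z₀ := by
    rintro f hf a ha ⟨g, hgf, hga⟩
    by_contra haZ
    apply hf
    apply Subtype.ext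
    rw [← hgf]
    apply hker g
    apply hfix g a ha haZ
    exact mul_inv_eq_iff_eq_mul.1 hga
  have hU₁ : UFix ρ (Z₀.subgroupOf A₁) := by
    constructor
    · intro htop
      obtain ⟨a, ha, haZ⟩ := ha₁
      have : (⟨a, ha⟩ : ↥A₁) ∈ Z₀.subgroupOf A₁ := htop ▸ Subgroup.mem_top _
      exact haZ (Subgroup.mem_subgroupOf.1 this)
    · intro f hf a
      obtain ⟨g, hg⟩ := f.2
      have hρ : ρ f = ψ₁ g := by
        show (f : MulAut ↥A₁ × MulAut ↥A₂).1 = ψ₁ g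
        rw [← hg]; rfl
      rw [hρ, Subgroup.mem_subgroupOf]
      constructor
      · intro hfa
        apply hfixF f hf a (Or.inl a.2)
        refine ⟨g, hg, ?_⟩
        rw [← hψ₁, hfa]
      · intro haZ
        apply Subtype.ext
        rw [hψ₁, hZ a haZ g, mul_inv_cancel_right]
  have hU₂ : UFix ρ' (Z₀.subgroupOf A₂) := by
    constructor
    · intro htop
      obtain ⟨a, ha, haZ⟩ := ha₂
      have : (⟨a, ha⟩ : ↥A₂) ∈ Z₀.subgroupOf A₂ := htop ▸ Subgroup.mem_top _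
      exact haZ (Subgroup.mem_subgroupOf.1 this)
    · intro f hf a
      obtain ⟨g, hg⟩ := f.2
      have hρ : ρ' f = ψ₂ g := by
        show (f : MulAut ↥A₁ × MulAut ↥A₂).2 = ψ₂ g
        rw [← hg]; rfl
      rw [hρ, Subgroup.mem_subgroupOf]
      constructor
      · intro hfa
        apply hfixF f hf a (Or.inr a.2)
        refine ⟨g, hg, ?_⟩
        rw [← hψ₂, hfa]
      · intro haZ
        apply Subtype.ext
        rw [hψ₂, hZ a haZ g, mul_inv_cancel_right]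
  -- prime divisors of card F
  have hdiv : ∀ (r : ℕ) (_ : r.Prime) (g : X), (∃ k : ℕ, orderOf g = r ^ k) →
      (∃ b, (b ∈ A₁ ∨ b ∈ A₂) ∧ g * b ≠ b * g) → r ∣ Nat.card ↥F := by
    rintro r hr g ⟨k, hk⟩ ⟨b, hb, hgb⟩
    let f : ↥F := ⟨ψ g, ⟨g, rfl⟩⟩
    have hf1 : f ≠ 1 := by
      intro h1
      have h2 : ψ g = 1 := congrArg Subtype.val h1
      apply hgb
      rcases hb with hb | hb
      · have h3 : ψ₁ g = 1 := congrArg Prod.fst h2
        have h4 := hψ₁ g ⟨b, hb⟩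
        rw [h3] at h4
        have h5 : b = g * b * g⁻¹ := h4
        exact (mul_inv_eq_iff_eq_mul.1 h5.symm)
      · have h3 : ψ₂ g = 1 := congrArg Prod.snd h2
        have h4 := hψ₂ g ⟨b, hb⟩
        rw [h3] at h4
        have h5 : b = g * b * g⁻¹ := h4
        exact (mul_inv_eq_iff_eq_mul.1 h5.symm)
    have hfpow : f ^ (r ^ k) = 1 := by
      apply Subtype.ext
      rw [Subgroup.coe_pow, Subgroup.coe_one]
      show ψ g ^ (r ^ k) = 1
      rw [← map_pow, ← hk, pow_orderOf_eq_one, map_one]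
    have hdvd : orderOf f ∣ r ^ k := orderOf_dvd_of_pow_eq_one hfpow
    obtain ⟨j, -, hj⟩ := (Nat.dvd_prime_pow hr).1 hdvd
    have hj0 : j ≠ 0 := by
      rintro rfl
      rw [pow_zero, orderOf_eq_one_iff] at hj
      exact hf1 hj
    have : r ∣ orderOf f := by rw [hj]; exact dvd_pow_self r hj0
    exact dvd_trans this (orderOf_dvd_natCard f)
  have hsF : s ∣ Nat.card ↥F := hdiv s hs.out x hx hxn
  have htF : t ∣ Nat.card ↥F := hdiv t ht.out y hy hyn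
  exact no_two_primes hst hp₁ hp₂ hU₁ hU₂ hsF htF

end concreteF

end Cfsg.Agent.Lib.Helper22.PReg
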