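import Mathlib
import Cfsg.Agent.Lib.Helper22.PRegD
import Cfsg.Agent.Lib.Helper22.PRegF

set_option autoImplicit false

/-!
# Case B: if a prime `s ≠ p` divides the class size `n`, no other prime `≠ p` does
-/

namespace Cfsg.Agent.Lib.Helper22.PReg

open Subgroup
open scoped commutatorElement
open Cfsg.Agent.Lib.Helper22.Ito

variable {G : Type*} [Group G] [Finite G]

theorem CB.card_cent_mul {p n : ℕ} (hc : CB G p n) {g : G} (hgp : (orderOf g).Coprime p)
    (hg : g ∉ center G) : Nat.card (centralizer ({g} : Set G)) * n = Nat.card G := by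
  have := Subgroup.card_mul_index (centralizer ({g} : Set G))
  rwa [index_cent_of_not_mem hc.cs hgp hg] at this

theorem CB.factorization_lt {p n : ℕ} (hc : CB G p n) {g : G} (hgp : (orderOf g).Coprime p)
    (hg : g ∉ center G) {r : ℕ} (hr : r.Prime) (hrn : r ∣ n) :
    (Nat.card (centralizer ({g} : Set G))).factorization r < (Nat.card G).factorization r := by
  have hn0 : n ≠ 0 := by have := hc.hn; omega
  rw [← hc.card_cent_mul hgp hg, Nat.factorization_mul (Nat.card_pos).ne' hn0]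
  have := hr.factorization_pos_of_dvd hn0 hrn
  simp only [Finsupp.coe_add, Pi.add_apply]
  omega

theorem CB.factorization_eq {p n : ℕ} (hc : CB G p n) {g : G} (hgp : (orderOf g).Coprime p)
    (hg : g ∉ center G) {r : ℕ} (hrn : ¬ r ∣ n) :
    (Nat.card (centralizer ({g} : Set G))).factorization r = (Nat.card G).factorization r := by
  have hn0 : n ≠ 0 := by have := hc.hn; omega
  rw [← hc.card_cent_mul hgp hg, Nat.factorization_mul (Nat.card_pos).ne' hn0]
  simp only [Finsupp.coe_add, Pi.add_apply]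
  rw [Nat.factorization_eq_zero_of_not_dvd hrn, add_zero]

/-- a Sylow `r`-subgroup is not inside `C(g)` when `r ∣ n` -/
theorem CB.sylow_not_le {p n : ℕ} (hc : CB G p n) {g : G} (hgp : (orderOf g).Coprime p)
    (hg : g ∉ center G) {r : ℕ} [hr : Fact r.Prime] (hrn : r ∣ n) (R : Sylow r G) :
    ¬ ((R : Subgroup G) ≤ centralizer ({g} : Set G)) := by
  intro hle
  have hdvd : Nat.card (R : Subgroup G) ∣ Nat.card (centralizer ({g} : Set G)) :=
    Subgroup.card_dvd_of_le hle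
  have hcR : Nat.card (R : Subgroup G) = r ^ (Nat.card G).factorization r := R.card_eq_multiplicity
  rw [hcR] at hdvd
  have := (hr.out.pow_dvd_iff_le_factorization (Nat.card_pos).ne').1 hdvd
  have := hc.factorization_lt hgp hg hr.out hrn
  omega

theorem CB.not_dvd_of_ne {p n : ℕ} (hc : CB G p n) {s : ℕ} [hs : Fact s.Prime] (hsp : s ≠ p)
    (hsn : s ∣ n) {t : ℕ} [ht : Fact t.Prime] (htp : t ≠ p) (hts : t ≠ s) : ¬ t ∣ n := by
  intro htn
  obtain ⟨g0, hg0p, hg0⟩ := hc.ex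
  obtain ⟨S⟩ : Nonempty (Sylow s G) := inferInstance
  obtain ⟨u, huS, huc, hucomm⟩ := exists_almost_central hc.hp hc.cs s hsp hg0p hg0
    (hc.factorization_lt hg0p hg0 hs.out hsn) S
  obtain ⟨⟨f, huo⟩, hup⟩ := coprime_of_mem_sylow hc.hp hsp S huS
  set C := centralizer ({u} : Set G) with hC
  obtain ⟨K₁, hK₁le, hK₁card, hK₁mem⟩ := hc.exists_primary hup huc s hsp
  obtain ⟨K₂, hK₂le, hK₂card, hK₂mem⟩ := hc.exists_primary hup huc t htp
  set L := normalizer ((C : Subgroup G) : Set G) with hL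
  have hSL : (S : Subgroup G) ≤ L := le_normalizer_cent S hucomm
  have hCL : C ≤ L := Subgroup.le_normalizer
  -- an element of S outside C
  obtain ⟨g, hgS, hgC⟩ : ∃ g ∈ (S : Subgroup G), g ∉ C := by
    by_contra hno
    push Not at hno
    exact hc.sylow_not_le hup huc hsn S hno
  -- K₂ is not central
  obtain ⟨a₂, ha₂K, ha₂c⟩ : ∃ a₂ ∈ K₂, a₂ ∉ center G := by
    by_contra hno
    push Not at hno
    obtain ⟨T0⟩ : Nonempty (Sylow t G) := inferInstance
    obtain ⟨w, hwT, hwc⟩ : ∃ w ∈ (T0 : Subgroup G), w ∉ center G := by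
      by_contra hno2
      push Not at hno2
      apply hc.sylow_not_le hup huc htn T0
      intro x hx
      exact center_le_cent u (hno2 x hx)
    obtain ⟨⟨e, hwo⟩, hwp⟩ := coprime_of_mem_sylow hc.hp htp T0 hwT
    have h1 := lemmaV t hwc hwo
    rw [card_cent_eq hc.cs hwp hup hwc huc] at h1
    have h2 : Nat.card K₂ ∣ Nat.card (center G) := Subgroup.card_dvd_of_le hno
    rw [hK₂card] at h2
    have h3 := (ht.out.pow_dvd_iff_le_factorization (Nat.card_pos).ne').1 h2
    omega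
  have ha₂C : a₂ ∈ C := hK₂le ha₂K
  obtain ⟨e₂, ha₂o⟩ := ((hK₂mem a₂).1 ha₂K).2
  have ha₂p : (orderOf a₂).Coprime p := by
    rw [ha₂o]; exact coprime_of_prime_pow hc.hp ht.out htp
  have hCa₂ : centralizer ({a₂} : Set G) = C := hc.cent_eq_of_mem hup huc ha₂p ha₂c ha₂C
  -- K₂ is a proper subgroup of a Sylow t-subgroup
  have hK₂p : IsPGroup t K₂ := IsPGroup.of_card hK₂card
  obtain ⟨T1, hT1⟩ := hK₂p.exists_le_sylow
  have hcT1 : Nat.card (T1 : Subgroup G) = t ^ (Nat.card G).factorization t :=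
    T1.card_eq_multiplicity
  have hlt := hc.factorization_lt hup huc ht.out htn
  have hK₂ne : K₂.subgroupOf (T1 : Subgroup G) < ⊤ := by
    rw [lt_top_iff_ne_top]
    intro htop
    rw [Subgroup.subgroupOf_eq_top] at htop
    have h1 : Nat.card (T1 : Subgroup G) ≤ Nat.card K₂ := Subgroup.card_le_of_le htop
    rw [hcT1, hK₂card] at h1
    have := (Nat.pow_le_pow_iff_right ht.out.one_lt).1 h1
    omega
  have hnil : Group.IsNilpotent (T1 : Subgroup G) := T1.2.isNilpotent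
  have hnc := Group.normalizerCondition_of_isNilpotent (G := (T1 : Subgroup G))
    (K₂.subgroupOf (T1 : Subgroup G)) hK₂ne
  obtain ⟨y', hy'N, hy'K⟩ := SetLike.exists_of_lt hnc
  set y : G := (y' : G) with hy
  have hyT1 : y ∈ (T1 : Subgroup G) := y'.2
  have hyK₂ : y ∉ K₂ := fun h0 => hy'K (Subgroup.mem_subgroupOf.2 h0)
  have hynorm : ∀ k ∈ K₂, y * k * y⁻¹ ∈ K₂ := by
    intro k hk
    have h1 := (Subgroup.mem_normalizer_iff.1 hy'N ⟨k, hT1 hk⟩).1 (Subgroup.mem_subgroupOf.2 hk)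
    exact Subgroup.mem_subgroupOf.1 h1
  obtain ⟨⟨ey, hyo⟩, hyp⟩ := coprime_of_mem_sylow hc.hp htp T1 hyT1
  -- y normalizes C
  have hyL : y ∈ L := by
    apply Cfsg.Agent.Lib.Helper1.mem_normalizer_of_forall_conj_mem
    intro c hcC
    have hb : y * a₂ * y⁻¹ ∈ K₂ := hynorm a₂ ha₂K
    have hbC : y * a₂ * y⁻¹ ∈ C := hK₂le hb
    have hbc : y * a₂ * y⁻¹ ∉ center G := by
      intro hcen
      apply ha₂c
      have : a₂ = y⁻¹ * (y * a₂ * y⁻¹) * y := by group
      rw [this]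
      have hh := Subgroup.mem_center_iff.1 hcen (y⁻¹)
      rw [hh, inv_mul_cancel_right]
      exact hcen
    have hbp : (orderOf (y * a₂ * y⁻¹)).Coprime p := by
      rw [orderOf_conj']; exact ha₂p
    have hCb : centralizer ({y * a₂ * y⁻¹} : Set G) = C :=
      hc.cent_eq_of_mem hup huc hbp hbc hbC
    rw [← hCb, mem_cent_iff]
    have hca : c * a₂ = a₂ * c := by
      have : c ∈ centralizer ({a₂} : Set G) := hCa₂ ▸ hcC
      rwa [mem_cent_iff] at this
    calc y * c * y⁻¹ * (y * a₂ * y⁻¹) = y * (c * a₂) * y⁻¹ := by group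
      _ = y * (a₂ * c) * y⁻¹ := by rw [hca]
      _ = y * a₂ * y⁻¹ * (y * c * y⁻¹) := by group
  have hyC : y ∉ C := fun h0 => hyK₂ ((hK₂mem y).2 ⟨h0, ey, hyo⟩)
  have hgL : g ∈ L := hSL hgS
  obtain ⟨⟨eg, hgo⟩, hgp⟩ := coprime_of_mem_sylow hc.hp hsp S hgS
  have huK₁ : u ∈ K₁ := (hK₁mem u).2 ⟨Subgroup.mem_centralizer_singleton_iff.2 rfl, f, huo⟩
  have huL : u ∈ L := hCL (Subgroup.mem_centralizer_singleton_iff.2 rfl)
  -- normality in L
  have hnorm₁ : (K₁.subgroupOf L).Normal := by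
    constructor
    intro a ha l
    rw [Subgroup.mem_subgroupOf] at ha ⊢
    obtain ⟨haC, e, hae⟩ := (hK₁mem _).1 ha
    rw [hK₁mem]
    refine ⟨?_, e, ?_⟩
    · have := (Subgroup.mem_normalizer_iff.1 l.2 (a : G)).1 haC
      simpa using this
    · have : ((l * a * l⁻¹ : L) : G) = (l : G) * (a : G) * (l : G)⁻¹ := by simp
      rw [this, orderOf_conj', hae]
  have hnorm₂ : (K₂.subgroupOf L).Normal := by
    constructor
    intro a ha l
    rw [Subgroup.mem_subgroupOf] at ha ⊢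
    obtain ⟨haC, e, hae⟩ := (hK₂mem _).1 ha
    rw [hK₂mem]
    refine ⟨?_, e, ?_⟩
    · have := (Subgroup.mem_normalizer_iff.1 l.2 (a : G)).1 haC
      simpa using this
    · have : ((l * a * l⁻¹ : L) : G) = (l : G) * (a : G) * (l : G)⁻¹ := by simp
      rw [this, orderOf_conj', hae]
  -- members of K₁ ∪ K₂ are p-regular elements of C
  have hmemC : ∀ b : G, (b ∈ K₁ ∨ b ∈ K₂) → b ∈ C ∧ (orderOf b).Coprime p := by
    rintro b (hb | hb)
    · obtain ⟨hbC, e, hbe⟩ := (hK₁mem b).1 hb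
      exact ⟨hbC, by rw [hbe]; exact coprime_of_prime_pow hc.hp hs.out hsp⟩
    · obtain ⟨hbC, e, hbe⟩ := (hK₂mem b).1 hb
      exact ⟨hbC, by rw [hbe]; exact coprime_of_prime_pow hc.hp ht.out htp⟩
  have hcomm : ∀ b : G, (b ∈ K₁ ∨ b ∈ K₂) → ∀ x ∈ C, x * b = b * x := by
    intro b hb x hx
    obtain ⟨hbC, hbp⟩ := hmemC b hb
    exact (hc.cen u hup huc b hbC hbp x hx).symm
  apply no_two_primes_concrete (X := ↥L) (Ne.symm hts) (K₁.subgroupOf L) (K₂.subgroupOf L)
    ((center G).subgroupOf L)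
    (x := ⟨g, hgL⟩) (y := ⟨y, hyL⟩)
  · intro a ha b hb
    rw [Subgroup.mem_subgroupOf] at ha hb
    apply Subtype.ext
    exact hcomm b (Or.inl hb) a (hmemC a (Or.inl ha)).1
  · intro a ha b hb
    rw [Subgroup.mem_subgroupOf] at ha hb
    apply Subtype.ext
    exact hcomm b (Or.inr hb) a (hmemC a (Or.inr ha)).1
  · exact (IsPGroup.of_card hK₁card).comap_subtype
  · exact hK₂p.comap_subtype
  · intro z hz x
    rw [Subgroup.mem_subgroupOf] at hz
    apply Subtype.ext
    exact Subgroup.mem_center_iff.1 hz (x : G)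
  · exact ⟨⟨u, huL⟩, Subgroup.mem_subgroupOf.2 huK₁, fun h0 => huc (Subgroup.mem_subgroupOf.1 h0)⟩
  · exact ⟨⟨a₂, hCL ha₂C⟩, Subgroup.mem_subgroupOf.2 ha₂K,
      fun h0 => ha₂c (Subgroup.mem_subgroupOf.1 h0)⟩
  · intro x a ha haZ hxa b hb
    have ha' : (a : G) ∈ K₁ ∨ (a : G) ∈ K₂ := by
      rcases ha with ha | ha
      · exact Or.inl (Subgroup.mem_subgroupOf.1 ha)
      · exact Or.inr (Subgroup.mem_subgroupOf.1 ha)
    have hb' : (b : G) ∈ K₁ ∨ (b : G) ∈ K₂ := by
      rcases hb with hb | hb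
      · exact Or.inl (Subgroup.mem_subgroupOf.1 hb)
      · exact Or.inr (Subgroup.mem_subgroupOf.1 hb)
    have hac : (a : G) ∉ center G := fun h0 => haZ (Subgroup.mem_subgroupOf.2 h0)
    obtain ⟨haC, hap⟩ := hmemC a ha'
    have hCa : centralizer ({(a : G)} : Set G) = C := hc.cent_eq_of_mem hup huc hap hac haC
    have hxC : (x : G) ∈ C := by
      rw [← hCa, mem_cent_iff]
      exact congrArg Subtype.val hxa
    apply Subtype.ext
    exact hcomm b hb' x hxC
  · exact ⟨eg, by rw [Subgroup.orderOf_mk, hgo]⟩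
  · exact ⟨ey, by rw [Subgroup.orderOf_mk, hyo]⟩
  · refine ⟨⟨u, huL⟩, Or.inl (Subgroup.mem_subgroupOf.2 huK₁), ?_⟩
    intro h0
    apply hgC
    rw [hC, mem_cent_iff]
    exact congrArg Subtype.val h0
  · refine ⟨⟨u, huL⟩, Or.inl (Subgroup.mem_subgroupOf.2 huK₁), ?_⟩
    intro h0
    apply hyC
    rw [hC, mem_cent_iff]
    exact congrArg Subtype.val h0

end Cfsg.Agent.Lib.Helper22.PReg
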