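import Mathlib
import Cfsg.Agent.Lib.Helper22.PRegG
import Cfsg.Agent.Lib.Lead.Kazarin3

set_option autoImplicit false

/-!
# Case B: the class size `n` is a power of `p` (Kazarin step)
-/

namespace Cfsg.Agent.Lib.Helper22.PReg

open Subgroup
open scoped commutatorElement Pointwise
open Cfsg.Agent.Lib.Helper22.Ito

section general

variable {H : Type*} [Group H]

/-- if the conjugates of an `s`-element commute pairwise, its normal closure is an `s`-group -/
theorem isPGroup_normalClosure_of_comm {s f : ℕ} [hs : Fact s.Prime] (w : H)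
    (hw : w ^ (s ^ f) = 1)
    (hcomm : ∀ x y : H, (x * w * x⁻¹) * (y * w * y⁻¹) = (y * w * y⁻¹) * (x * w * x⁻¹)) :
    IsPGroup s (Subgroup.normalClosure ({w} : Set H)) := by
  set W : Set H := Group.conjugatesOfSet ({w} : Set H) with hW
  have hWmem : ∀ a ∈ W, ∃ x : H, a = x * w * x⁻¹ := by
    intro a ha
    obtain ⟨b, hb, hba⟩ := Group.mem_conjugatesOfSet_iff.1 ha
    rw [Set.mem_singleton_iff] at hb
    subst hb
    obtain ⟨c, hc⟩ := isConj_iff.1 hba
    exact ⟨c, hc.symm⟩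
  have hWcomm : ∀ a ∈ W, ∀ b ∈ W, a * b = b * a := by
    intro a ha b hb
    obtain ⟨x, rfl⟩ := hWmem a ha
    obtain ⟨y, rfl⟩ := hWmem b hb
    exact hcomm x y
  have hM : IsMulCommutative (Subgroup.closure W) := Subgroup.isMulCommutative_closure hWcomm
  have hMc : ∀ a ∈ Subgroup.closure W, ∀ b ∈ Subgroup.closure W, a * b = b * a := by
    intro a ha b hb
    have := mul_comm' (⟨a, ha⟩ : Subgroup.closure W) ⟨b, hb⟩
    exact congrArg Subtype.val this
  let E : Subgroup H :=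
    { carrier := {x | x ∈ Subgroup.closure W ∧ x ^ (s ^ f) = 1}
      one_mem' := ⟨Subgroup.one_mem _, one_pow _⟩
      mul_mem' := by
        rintro a b ⟨ha, ha'⟩ ⟨hb, hb'⟩
        refine ⟨Subgroup.mul_mem _ ha hb, ?_⟩
        have hab : Commute a b := hMc a ha b hb
        rw [hab.mul_pow, ha', hb', one_mul]
      inv_mem' := by
        rintro a ⟨ha, ha'⟩
        exact ⟨Subgroup.inv_mem _ ha, by rw [inv_pow, ha', inv_one]⟩ }
  have hWE : W ⊆ E := by
    intro a ha
    refine ⟨Subgroup.subset_closure ha, ?_⟩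
    obtain ⟨x, rfl⟩ := hWmem a ha
    rw [conj_pow, hw, mul_one, mul_inv_cancel]
  have hle : Subgroup.closure W ≤ E := (Subgroup.closure_le E).2 hWE
  intro x
  refine ⟨f, ?_⟩
  apply Subtype.ext
  rw [Subgroup.coe_pow, Subgroup.coe_one]
  exact (hle x.2).2

/-- a normal `s`-subgroup centralizes every `t`-subgroup normalized by a Sylow `s`-subgroup -/
theorem commute_of_normal_pgroup [Finite H] {s t : ℕ} [hs : Fact s.Prime] [ht : Fact t.Prime]
    (hst : s ≠ t) (S : Sylow s H) (T X : Subgroup H) (hT : IsPGroup t T) (hX : IsPGroup s X)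
    [hXn : X.Normal] (hST : ∀ g ∈ (S : Subgroup H), ∀ τ ∈ T, g * τ * g⁻¹ ∈ T) :
    ∀ x ∈ X, ∀ τ ∈ T, x * τ = τ * x := by
  intro x hx τ hτ
  have hxS : x ∈ (S : Subgroup H) := hX.le_sylow_of_normal S hx
  have h1 : x * τ * x⁻¹ * τ⁻¹ ∈ T := T.mul_mem (hST x hxS τ hτ) (T.inv_mem hτ)
  have h2 : x * τ * x⁻¹ * τ⁻¹ ∈ X := by
    have : x * τ * x⁻¹ * τ⁻¹ = x * (τ * x⁻¹ * τ⁻¹) := by group
    rw [this]
    exact X.mul_mem hx (hXn.conj_mem _ (X.inv_mem hx) τ)
  have hdisj := IsPGroup.disjoint_of_ne s t hst X T hX hT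
  have h3 : x * τ * x⁻¹ * τ⁻¹ = 1 := by
    have := (Subgroup.disjoint_def.1 hdisj) h2 h1
    exact this
  have h4 : x * τ * x⁻¹ = τ := mul_inv_eq_one.1 h3
  exact mul_inv_eq_iff_eq_mul.1 h4

end general

variable {G : Type*} [Group G] [Finite G]

/-- a `p`-regular element whose image modulo the center lies in `O_p(G / Z(G))` is central -/
theorem mem_center_of_mk_mem_pCore {p : ℕ} [hp : Fact p.Prime] {r : G}
    (hr : (QuotientGroup.mk' (center G)) r ∈ Cfsg.pCore p (G ⧸ center G))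
    (hrp : (orderOf r).Coprime p) : r ∈ center G := by
  have hP : IsPGroup p ↥(Cfsg.pCore p (G ⧸ center G)) :=
    Cfsg.Agent.Lib.Helper12.pCore_isPGroup' p
  obtain ⟨k, hk⟩ := hP ⟨_, hr⟩
  have hk' : ((QuotientGroup.mk' (center G)) r) ^ p ^ k = 1 := by
    have := congrArg Subtype.val hk
    simpa using this
  have h1 : orderOf ((QuotientGroup.mk' (center G)) r) ∣ p ^ k := orderOf_dvd_of_pow_eq_one hk'
  have h2 : orderOf ((QuotientGroup.mk' (center G)) r) ∣ orderOf r := orderOf_map_dvd _ r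
  have h3 : orderOf ((QuotientGroup.mk' (center G)) r) = 1 :=
    Nat.Coprime.eq_one_of_dvd (Nat.Coprime.coprime_dvd_left h2 (Nat.Coprime.pow_right k hrp)) h1
  rw [orderOf_eq_one_iff, QuotientGroup.mk'_apply, QuotientGroup.eq_one_iff] at h3
  exact h3

end Cfsg.Agent.Lib.Helper22.PReg
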