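import Mathlib
import Cfsg.Agent.Lib.Helper22.PRegH

set_option autoImplicit false

/-!
# Case B: no prime `s ≠ p` divides the class size `n`
-/

namespace Cfsg.Agent.Lib.Helper22.PReg

open Subgroup
open scoped commutatorElement Pointwise
open Cfsg.Agent.Lib.Helper22.Ito

variable {G : Type*} [Group G] [Finite G]

theorem CB.not_dvd_prime {p n : ℕ} (hc : CB G p n) {s : ℕ} [hs : Fact s.Prime] (hsp : s ≠ p) :
    ¬ s ∣ n := by
  intro hsn
  have hpF : Fact p.Prime := ⟨hc.hp⟩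
  obtain ⟨g0, hg0p, hg0⟩ := hc.ex
  obtain ⟨S⟩ : Nonempty (Sylow s G) := inferInstance
  obtain ⟨u, huS, huc, hucomm⟩ := exists_almost_central hc.hp hc.cs s hsp hg0p hg0
    (hc.factorization_lt hg0p hg0 hs.out hsn) S
  obtain ⟨⟨f, huo⟩, hup⟩ := coprime_of_mem_sylow hc.hp hsp S huS
  set C := centralizer ({u} : Set G) with hC
  obtain ⟨t, htprime, y₀, e₀, htp, hts, hy₀c, hy₀o, hy₀C⟩ :=
    hc.exists_second_prime hs.out hsp huc huo
  have htF : Fact t.Prime := ⟨htprime⟩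
  have htn : ¬ t ∣ n := hc.not_dvd_of_ne hsp hsn htp hts
  obtain ⟨T, hTle, hTcard, hTmem⟩ := hc.exists_primary hup huc t htp
  rw [hc.factorization_eq hup huc htn] at hTcard
  have hSL := le_normalizer_cent S hucomm
  obtain ⟨g, hgS, hgC⟩ : ∃ g ∈ (S : Subgroup G), g ∉ C := by
    by_contra hno
    push Not at hno
    exact hc.sylow_not_le hup huc hsn S hno
  obtain ⟨⟨eg, hgo⟩, hgp⟩ := coprime_of_mem_sylow hc.hp hsp S hgS
  have hgc : g ∉ center G := fun h0 => hgC (center_le_cent u h0)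
  have hy₀p : (orderOf y₀).Coprime p := by
    rw [hy₀o]; exact coprime_of_prime_pow hc.hp htprime htp
  -- K1 : the index of S ⊔ C is a power of p
  obtain ⟨a, ha⟩ : ∃ a : ℕ, ((S : Subgroup G) ⊔ C).index = p ^ a := by
    have hd0 : ((S : Subgroup G) ⊔ C).index ≠ 0 := Subgroup.index_ne_zero_of_finite
    have hdn : ((S : Subgroup G) ⊔ C).index ∣ n := by
      have := Subgroup.index_dvd_of_le (le_sup_right : C ≤ (S : Subgroup G) ⊔ C)
      rwa [index_cent_of_not_mem hc.cs hup huc] at this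
    have hds : ¬ s ∣ ((S : Subgroup G) ⊔ C).index := by
      intro h0
      exact S.not_dvd_index (dvd_trans h0
        (Subgroup.index_dvd_of_le (le_sup_left : (S : Subgroup G) ≤ (S : Subgroup G) ⊔ C)))
    refine ⟨_, Nat.eq_prime_pow_of_unique_prime_dvd hd0 ?_⟩
    intro r hr hrd
    by_contra hrp
    by_cases hrs : r = s
    · subst hrs; exact hds hrd
    · have : Fact r.Prime := ⟨hr⟩
      exact hc.not_dvd_of_ne hsp hsn hrp hrs (dvd_trans hrd hdn)
  -- the quotient by the center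
  set π₀ := QuotientGroup.mk' (center G) with hπ₀
  have hAle : ((S : Subgroup G) ⊔ C).map π₀ ≤ centralizer ({π₀ u} : Set (G ⧸ center G)) := by
    rw [Subgroup.map_le_iff_le_comap]
    apply sup_le
    · intro x hx
      rw [Subgroup.mem_comap, mem_cent_iff]
      have h1 : π₀ ⁅x, u⁆ = 1 := by
        rw [hπ₀, QuotientGroup.mk'_apply, QuotientGroup.eq_one_iff]
        exact hucomm x hx
      rw [map_commutatorElement, commutatorElement_eq_one_iff_mul_comm] at h1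
      exact h1
    · intro x hx
      rw [Subgroup.mem_comap, mem_cent_iff, ← map_mul, ← map_mul]
      rw [mem_cent_iff] at hx
      rw [hx]
  obtain ⟨a', ha'⟩ : ∃ a' : ℕ, (centralizer ({π₀ u} : Set (G ⧸ center G))).index = p ^ a' := by
    have h1 : (centralizer ({π₀ u} : Set (G ⧸ center G))).index ∣ p ^ a := by
      rw [← ha]
      exact dvd_trans (Subgroup.index_dvd_of_le hAle)
        (Subgroup.index_map_dvd _ (QuotientGroup.mk'_surjective _))
    obtain ⟨a', -, h2⟩ := (Nat.dvd_prime_pow hc.hp).1 h1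
    exact ⟨a', h2⟩
  -- K2 : conjugates of u commute modulo R₁
  haveI hPn : (Cfsg.pCore p (G ⧸ center G)).Normal :=
    Cfsg.Agent.Lib.Helper1.pCore_normal p (G ⧸ center G)
  set R₁ : Subgroup G := (Cfsg.pCore p (G ⧸ center G)).comap π₀ with hR₁
  have hR₁n : R₁.Normal := by rw [hR₁]; infer_instance
  have hK2 : ∀ x y : G,
      (x * u * x⁻¹) * (y * u * y⁻¹) * (x * u * x⁻¹)⁻¹ * (y * u * y⁻¹)⁻¹ ∈ R₁ := by
    intro x y
    have := Cfsg.Agent.CharLib.commutator_conj_mem_pCore p (π₀ u) a' ha' (π₀ x) (π₀ y)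
    rw [hR₁, Subgroup.mem_comap]
    simpa only [map_mul, map_inv] using this
  -- K3 : p-regular elements of R₁ are central
  have hK3 : ∀ r ∈ R₁, (orderOf r).Coprime p → r ∈ center G := by
    intro r hr hrp
    exact mem_center_of_mk_mem_pCore (Subgroup.mem_comap.1 hr) hrp
  -- K4 : the quotient by R₁
  set π := QuotientGroup.mk' R₁ with hπ
  have hπsurj : Function.Surjective π := QuotientGroup.mk'_surjective R₁
  have hπker : ∀ z : G, π z = 1 ↔ z ∈ R₁ := by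
    intro z
    rw [hπ, QuotientGroup.mk'_apply, QuotientGroup.eq_one_iff]
  have hw : (π u) ^ (s ^ f) = 1 := by
    rw [← map_pow, ← huo, pow_orderOf_eq_one, map_one]
  have hcomm : ∀ x y : G ⧸ R₁, (x * π u * x⁻¹) * (y * π u * y⁻¹) =
      (y * π u * y⁻¹) * (x * π u * x⁻¹) := by
    intro x y
    obtain ⟨x, rfl⟩ := hπsurj x
    obtain ⟨y, rfl⟩ := hπsurj y
    have h1 := (hπker _).2 (hK2 x y)
    simp only [map_mul, map_inv] at h1
    have h2 := mul_inv_eq_one.1 h1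
    exact mul_inv_eq_iff_eq_mul.1 h2
  have hXp : IsPGroup s (Subgroup.normalClosure ({π u} : Set (G ⧸ R₁))) :=
    isPGroup_normalClosure_of_comm (π u) hw hcomm
  -- K5
  have hTp : IsPGroup t T := IsPGroup.of_card hTcard
  have hSnormT : ∀ x ∈ (S : Subgroup G), ∀ τ ∈ T, x * τ * x⁻¹ ∈ T := by
    intro x hx τ hτ
    obtain ⟨hτC, e, hτe⟩ := (hTmem τ).1 hτ
    rw [hTmem]
    refine ⟨?_, e, by rw [orderOf_conj', hτe]⟩
    exact (Subgroup.mem_normalizer_iff.1 (hSL hx) τ).1 hτC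
  have hK5q : ∀ x ∈ Subgroup.normalClosure ({π u} : Set (G ⧸ R₁)), ∀ τ ∈ T.map π,
      x * τ = τ * x := by
    apply commute_of_normal_pgroup (Ne.symm hts) (S.mapSurjective hπsurj) (T.map π)
      (Subgroup.normalClosure ({π u} : Set (G ⧸ R₁))) (hTp.map π) hXp
    rintro _ ⟨x, hx, rfl⟩ _ ⟨τ, hτ, rfl⟩
    rw [← map_inv, ← map_mul, ← map_mul]
    exact Subgroup.mem_map_of_mem π (hSnormT x hx τ hτ)
  have hK5 : ∀ x : G, ∀ τ ∈ T, (x * u * x⁻¹) * τ * (x * u * x⁻¹)⁻¹ * τ⁻¹ ∈ R₁ := by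
    intro x τ hτ
    rw [← hπker]
    have h1 : π (x * u * x⁻¹) ∈ Subgroup.normalClosure ({π u} : Set (G ⧸ R₁)) := by
      rw [map_mul, map_mul, map_inv]
      exact Subgroup.normalClosure_normal.conj_mem _
        (Subgroup.subset_normalClosure (Set.mem_singleton _)) _
    have h2 := hK5q _ h1 _ (Subgroup.mem_map_of_mem π hτ)
    have e : π ((x * u * x⁻¹) * τ * (x * u * x⁻¹)⁻¹ * τ⁻¹) =
        π (x * u * x⁻¹) * π τ * (π (x * u * x⁻¹))⁻¹ * (π τ)⁻¹ := by
      simp only [map_mul, map_inv]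
    rw [e, h2, mul_inv_cancel_right, mul_inv_cancel]
  -- K6
  obtain ⟨Tg, hTgle, hTgcard, hTgmem⟩ := hc.exists_primary hgp hgc t htp
  rw [hc.factorization_eq hgp hgc htn] at hTgcard
  obtain ⟨x, hx⟩ := MulAction.exists_smul_eq G (Sylow.ofCard Tg hTgcard) (Sylow.ofCard T hTcard)
  have hconj : ∀ τ' ∈ Tg, x * τ' * x⁻¹ ∈ T := by
    intro τ' hτ'
    have h1 : MulAut.conj x • τ' ∈ MulAut.conj x • Tg :=
      Subgroup.smul_mem_pointwise_smul τ' (MulAut.conj x) Tg hτ'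
    have h2 : MulAut.conj x • Tg = T := by
      have := congrArg (fun P : Sylow t G => (P : Subgroup G)) hx
      simpa [Sylow.coe_subgroup_smul, Sylow.coe_ofCard] using this
    rw [h2] at h1
    simpa [MulAut.smul_def, MulAut.conj_apply] using h1
  have hug : ⁅u, g⁆ ∈ center G := by
    rw [← commutatorElement_inv]
    exact Subgroup.inv_mem _ (hucomm g hgS)
  have hTgC : Tg ≤ C := by
    intro τ' hτ'
    obtain ⟨hτ'C, e', hτ'e⟩ := (hTgmem τ').1 hτ'
    have hτ : x * τ' * x⁻¹ ∈ T := hconj τ' hτ'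
    have h1 := hK5 x _ hτ
    have h2 : x⁻¹ * ((x * u * x⁻¹) * (x * τ' * x⁻¹) * (x * u * x⁻¹)⁻¹ * (x * τ' * x⁻¹)⁻¹) * x⁻¹⁻¹
        ∈ R₁ := hR₁n.conj_mem _ h1 x⁻¹
    have h3 : x⁻¹ * ((x * u * x⁻¹) * (x * τ' * x⁻¹) * (x * u * x⁻¹)⁻¹ * (x * τ' * x⁻¹)⁻¹) * x⁻¹⁻¹
        = u * τ' * u⁻¹ * τ'⁻¹ := by group
    rw [h3] at h2
    -- u τ' u⁻¹ ∈ Tg
    have h4 : u * τ' * u⁻¹ ∈ Tg := by
      rw [hTgmem]
      exact ⟨conj_mem_cent_of_commutator_central hug hτ'C, e', by rw [orderOf_conj', hτ'e]⟩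
    have h5 : u * τ' * u⁻¹ * τ'⁻¹ ∈ Tg := Tg.mul_mem h4 (Tg.inv_mem hτ')
    obtain ⟨k, hk⟩ := ((hTgmem _).1 h5).2
    have h6 : u * τ' * u⁻¹ * τ'⁻¹ ∈ center G :=
      hK3 _ h2 (by rw [hk]; exact coprime_of_prime_pow hc.hp htprime htp)
    set c' := u * τ' * u⁻¹ * τ'⁻¹ with hc'
    have h7 : u * τ' * u⁻¹ = c' * τ' := by rw [hc', inv_mul_cancel_right]
    have h8 := conj_pow_of_comm h7 (Subgroup.mem_center_iff.1 h6 u) (s ^ f)
    rw [← huo, pow_orderOf_eq_one, one_mul, inv_one, mul_one] at h8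
    have h9 : c' ^ orderOf u = 1 := (mul_eq_right (b := τ')).1 h8.symm
    have h10 : orderOf c' ∣ orderOf u := orderOf_dvd_of_pow_eq_one h9
    rw [hk, huo] at h10
    have h11 : t ^ k = 1 := Nat.Coprime.eq_one_of_dvd
      (Nat.Coprime.pow _ _ ((Nat.coprime_primes htprime hs.out).2 hts)) h10
    rw [h11, orderOf_eq_one_iff] at hk
    rw [hC, mem_cent_iff]
    rw [hk, one_mul] at h7
    exact (mul_inv_eq_iff_eq_mul.1 h7).symm
  have hTgT : Tg ≤ T := by
    intro τ' hτ'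
    rw [hTmem]
    exact ⟨hTgC hτ', ((hTgmem τ').1 hτ').2⟩
  have hTeq : Tg = T := Subgroup.eq_of_le_of_card_ge hTgT (by rw [hTcard, hTgcard])
  have hy₀T : y₀ ∈ T := (hTmem y₀).2 ⟨hy₀C, e₀, hy₀o⟩
  have hy₀g : y₀ ∈ centralizer ({g} : Set G) := hTgle (hTeq ▸ hy₀T)
  have hCy₀ : centralizer ({y₀} : Set G) = C := hc.cent_eq_of_mem hup huc hy₀p hy₀c hy₀C
  apply hgC
  rw [← hCy₀, mem_cent_iff]
  rw [mem_cent_iff] at hy₀g
  exact hy₀g.symm

end Cfsg.Agent.Lib.Helper22.PReg
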