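import Mathlib
import Cfsg.Agent.Lib.Helper22.PRegB
import Cfsg.Agent.Lib.Helper22.PRegI

set_option autoImplicit false

/-!
# Two `p`-regular class sizes: the dichotomy
-/

namespace Cfsg.Agent.Lib.Helper22.PReg

open Subgroup
open Cfsg.Agent.Lib.Helper22.Ito

variable {G : Type*} [Group G] [Finite G]

/-- Either the nontrivial `p`-regular class size is a power of `p`, or all `{p,q}'`-elements are
central for some prime `q ≠ p`. -/
theorem dichotomy {p m : ℕ} (hp : p.Prime) (hm : 1 < m) (h : PRegCS G p m)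
    (hex : ∃ x : G, (orderOf x).Coprime p ∧ x ∉ center G) :
    (∃ k : ℕ, m = p ^ k) ∨
    (∃ q : ℕ, q.Prime ∧ q ≠ p ∧
      ∀ y : G, (orderOf y).Coprime p → (orderOf y).Coprime q → y ∈ center G) := by
  by_cases hA : ∀ (q : ℕ), q.Prime → q ≠ p → ∀ x : G, x ∉ center G →
      (∃ e : ℕ, orderOf x = q ^ e) →
      ∀ y ∈ centralizer ({x} : Set G), (orderOf y).Coprime p → (orderOf y).Coprime q →
        y ∈ center G
  · right
    exact caseA h hex hA
  · left
    push Not at hA
    obtain ⟨q, hq, hqp, x, hx, ⟨e, hxo⟩, y, hy, hyp, hyq, hyc⟩ := hA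
    have hc : CB G p m := CB.of_data hp hm h ⟨q, hq, hqp, x, hx, e, hxo, y, hy, hyp, hyq, hyc⟩
    refine ⟨_, Nat.eq_prime_pow_of_unique_prime_dvd (by omega) ?_⟩
    intro s hs hsm
    by_contra hsp
    have : Fact s.Prime := ⟨hs⟩
    exact hc.not_dvd_prime hsp hsm

end Cfsg.Agent.Lib.Helper22.PReg
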