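import Mathlib
import Cfsg.Prelude.Def_Solvable
import Cfsg.Agent.Lib.Helper19.Derangement
import Cfsg.Agent.Lib.Helper18.Frobenius

/-!
# Counting facts for Frobenius complements (helper22)
-/

set_option autoImplicit false

namespace Cfsg.Agent.Lib.Helper22

open scoped Pointwise

/-- The conjugates of a proper subgroup of a finite group do not cover the group (Jordan). -/
theorem exists_ne_one_forall_conj_not_mem {G : Type*} [Group G] [Finite G] (H : Subgroup G)
    (hH : H ≠ ⊤) : ∃ x : G, x ≠ 1 ∧ ∀ g : G, g⁻¹ * x * g ∉ H := by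
  classical
  have := Fintype.ofFinite G
  by_contra hcon
  push Not at hcon
  have hfix : ∀ x : G, 1 ≤ Nat.card (MulAction.fixedBy (G ⧸ H) x) := by
    intro x
    by_cases hx : x = 1
    · subst hx
      have : Nonempty (MulAction.fixedBy (G ⧸ H) (1 : G)) := ⟨⟨((1 : G) : G ⧸ H), by simp⟩⟩
      exact Nat.card_pos
    · obtain ⟨g, hg⟩ := hcon x hx
      have hmem : ((g : G) : G ⧸ H) ∈ MulAction.fixedBy (G ⧸ H) x := by
        rw [MulAction.mem_fixedBy, MulAction.Quotient.smul_mk, QuotientGroup.eq]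
        have : (x • g)⁻¹ * g = (g⁻¹ * x * g)⁻¹ := by simp [smul_eq_mul, mul_assoc]
        rw [this]; exact H.inv_mem hg
      have : Nonempty (MulAction.fixedBy (G ⧸ H) x) := ⟨⟨_, hmem⟩⟩
      exact Nat.card_pos
  have hB := Cfsg.Agent.Lib.Helper19.burnside_natCard (G := G) (Ω := G ⧸ H)
  rw [Cfsg.Agent.Lib.Helper19.card_orbits_eq_one, one_mul] at hB
  have h1 : Nat.card (MulAction.fixedBy (G ⧸ H) (1 : G)) = H.index := by
    have : MulAction.fixedBy (G ⧸ H) (1 : G) = Set.univ := by
      ext q; simp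
    rw [this, Nat.card_coe_set_eq, Set.ncard_univ]; rfl
  have h2 : 2 ≤ H.index := by
    have h0 : H.index ≠ 0 := Subgroup.index_ne_zero_of_finite
    have h1' : H.index ≠ 1 := fun h => hH (Subgroup.index_eq_one.1 h)
    omega
  have hsum : Nat.card G + 1 ≤ ∑ g : G, Nat.card (MulAction.fixedBy (G ⧸ H) g) := by
    rw [← Finset.add_sum_erase Finset.univ _ (Finset.mem_univ (1 : G)), h1]
    have h3 : (Finset.univ.erase (1 : G)).card • 1 ≤
        ∑ g ∈ Finset.univ.erase (1 : G), Nat.card (MulAction.fixedBy (G ⧸ H) g) :=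
      Finset.card_nsmul_le_sum _ _ _ (fun g _ => hfix g)
    rw [Finset.card_erase_of_mem (Finset.mem_univ _), Finset.card_univ, smul_eq_mul, mul_one,
      ← Nat.card_eq_fintype_card] at h3
    have hpos : 0 < Nat.card G := Nat.card_pos
    omega
  omega

/-- In a finite group with a Frobenius complement `H`, a prime dividing `|H|` does not divide
the index of `H`. -/
theorem not_dvd_index_of_dvd_card_of_isFrobeniusComplement {G : Type*} [Group G] [Finite G]
    (H : Subgroup G) (hF : Cfsg.IsFrobeniusComplement H) (p : ℕ) [Fact p.Prime]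
    (hp : p ∣ Nat.card H) : ¬ p ∣ H.index := by
  obtain ⟨h, hh⟩ := exists_prime_orderOf_dvd_card' (G := H) p hp
  have hh' : orderOf (h : G) = p := by rw [Subgroup.orderOf_coe, hh]
  have hP : IsPGroup p (Subgroup.zpowers (h : G)) :=
    IsPGroup.of_card (n := 1) (by rw [Nat.card_zpowers, hh', pow_one])
  have hmod := hP.card_modEq_card_fixedPoints (G ⧸ H)
  have hPH : Subgroup.zpowers (h : G) ≤ H := Subgroup.zpowers_le.2 h.2
  have hfp : MulAction.fixedPoints (Subgroup.zpowers (h : G)) (G ⧸ H) = {((1 : G) : G ⧸ H)} := by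
    ext q
    induction q using QuotientGroup.induction_on with
    | H t =>
      rw [MulAction.mem_fixedPoints, Set.mem_singleton_iff]
      constructor
      · intro hfix
        by_contra hne
        have htH : t ∉ H := by
          intro ht
          apply hne
          rw [QuotientGroup.eq]
          simpa using H.inv_mem ht
        have htinv : t⁻¹ ∉ H := fun h' => htH (by simpa using H.inv_mem h')
        have hbot := hF.2.2 t⁻¹ htinv
        have h1 := hfix ⟨(h : G), Subgroup.mem_zpowers _⟩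
        have h2 : (((h : G) * t : G) : G ⧸ H) = ((t : G) : G ⧸ H) := h1
        rw [QuotientGroup.eq] at h2
        have hy : t⁻¹ * (h : G)⁻¹ * t ∈ H := by
          have : ((h : G) * t)⁻¹ * t = t⁻¹ * (h : G)⁻¹ * t := by group
          rwa [this] at h2
        have hy2 : t⁻¹ * (h : G)⁻¹ * t ∈ H ⊓ (MulAut.conj t⁻¹ • H) := by
          rw [Subgroup.mem_inf, Cfsg.Agent.Lib.Helper18.mem_conj_smul_iff]
          refine ⟨hy, ?_⟩
          have : (t⁻¹)⁻¹ * (t⁻¹ * (h : G)⁻¹ * t) * t⁻¹ = (h : G)⁻¹ := by group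
          rw [this]; exact H.inv_mem h.2
        rw [hbot, Subgroup.mem_bot] at hy2
        have hh1 : (h : G) = 1 := by
          have : (h : G)⁻¹ = 1 := by
            have e : (h : G)⁻¹ = t * (t⁻¹ * (h : G)⁻¹ * t) * t⁻¹ := by group
            rw [e, hy2]; group
          simpa using this
        rw [hh1, orderOf_one] at hh'
        exact (Fact.out : p.Prime).one_lt.ne hh'
      · intro hq z
        rw [hq]
        have hz : (z : G) ∈ H := hPH z.2
        have : (z • (((1 : G) : G ⧸ H))) = ((((z : G) * 1 : G)) : G ⧸ H) := rfl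
        rw [this, QuotientGroup.eq]
        simpa using H.inv_mem hz
  rw [hfp, Nat.card_coe_set_eq, Set.ncard_singleton] at hmod
  intro hdvd
  have h0 : Nat.card (G ⧸ H) ≡ 0 [MOD p] := (Nat.modEq_zero_iff_dvd).2 hdvd
  have h01 : (0 : ℕ) ≡ 1 [MOD p] := h0.symm.trans hmod
  have : p ∣ 1 := (Nat.modEq_zero_iff_dvd).1 h01.symm
  exact (Fact.out : p.Prime).one_lt.ne' (Nat.dvd_one.1 this)

/-- If every element outside `K` is conjugate into `H`, then every prime dividing the index of `K`
divides `|H|`. -/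
theorem dvd_card_of_dvd_index_of_cover {G : Type*} [Group G] [Finite G] (H K : Subgroup G)
    (hcov : ∀ x : G, x ∉ K → ∃ g : G, g⁻¹ * x * g ∈ H) (p : ℕ) [Fact p.Prime]
    (hp : p ∣ K.index) : p ∣ Nat.card H := by
  obtain ⟨S⟩ : Nonempty (Sylow p G) := inferInstance
  have hnle : ¬ (S : Subgroup G) ≤ K := fun hle =>
    S.not_dvd_index (hp.trans (Subgroup.index_dvd_of_le hle))
  obtain ⟨s, hsS, hsK⟩ := SetLike.not_le_iff_exists.1 hnle
  obtain ⟨g, hg⟩ := hcov s hsK
  have hs1 : s ≠ 1 := fun h => hsK (h ▸ K.one_mem)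
  obtain ⟨k, hk⟩ := IsPGroup.iff_orderOf.1 S.isPGroup' ⟨s, hsS⟩
  have hk' : orderOf s = p ^ k := by rw [← hk, ← Subgroup.orderOf_coe]
  have hk0 : k ≠ 0 := by
    rintro rfl
    rw [pow_zero, orderOf_eq_one_iff] at hk'
    exact hs1 hk'
  have hord : orderOf (g⁻¹ * s * g) = orderOf s := by
    have := orderOf_injective (MulAut.conj g⁻¹).toMonoidHom (MulAut.conj g⁻¹).injective s
    simpa [MulAut.conj_apply] using this
  have h1 : orderOf (g⁻¹ * s * g) ∣ Nat.card H := by
    have := orderOf_dvd_natCard (⟨g⁻¹ * s * g, hg⟩ : H)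
    rwa [← Subgroup.orderOf_coe] at this
  rw [hord, hk'] at h1
  exact (dvd_pow_self p hk0).trans h1

end Cfsg.Agent.Lib.Helper22
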