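import Mathlib
import Cfsg.Prelude.Def_Solvable

/-!
Helper lemma (helper22): a semidirect product `N ⋊[φ] K` in which every nonidentity element of `K` acts on `N`
without nontrivial fixed points is a Frobenius group with complement (the image of) `K`.
-/

set_option autoImplicit false
open scoped Pointwise

namespace Cfsg.Agent.Lib.Helper22

theorem mem_range_inr_iff {N K : Type*} [Group N] [Group K] (φ : K →* MulAut N) (x : N ⋊[φ] K) :
    x ∈ (SemidirectProduct.inr : K →* N ⋊[φ] K).range ↔ x.left = 1 := by
  constructor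
  · rintro ⟨u, rfl⟩; rfl
  · intro h
    refine ⟨x.right, ?_⟩
    ext
    · simp [h]
    · simp

/-- A fixed-point-free action gives a Frobenius group: `K` is a Frobenius complement in `N ⋊ K`. -/
theorem isFrobeniusComplement_range_inr {N K : Type*} [Group N] [Group K] (φ : K →* MulAut N)
    [Nontrivial N] [Nontrivial K]
    (hfpf : ∀ k : K, k ≠ 1 → ∀ n : N, φ k n = n → n = 1) :
    Cfsg.IsFrobeniusComplement (SemidirectProduct.inr : K →* N ⋊[φ] K).range := by
  refine ⟨?_, ?_, ?_⟩
  · intro hbot
    obtain ⟨k, hk⟩ := exists_ne (1 : K)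
    have h1 : (SemidirectProduct.inr k : N ⋊[φ] K) ∈
        (SemidirectProduct.inr : K →* N ⋊[φ] K).range := ⟨k, rfl⟩
    rw [hbot, Subgroup.mem_bot] at h1
    exact hk (SemidirectProduct.inr_injective (by rw [h1, map_one]))
  · intro htop
    obtain ⟨n, hn⟩ := exists_ne (1 : N)
    have h1 : (SemidirectProduct.inl n : N ⋊[φ] K) ∈
        (SemidirectProduct.inr : K →* N ⋊[φ] K).range := by
      rw [htop]; trivial
    rw [mem_range_inr_iff, SemidirectProduct.left_inl] at h1
    exact hn h1
  · intro g hg
    rw [Subgroup.eq_bot_iff_forall]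
    intro x hx
    obtain ⟨hx1, hx2⟩ := Subgroup.mem_inf.1 hx
    obtain ⟨u, rfl⟩ := hx1
    have hx3 := (Subgroup.mem_pointwise_smul_iff_inv_smul_mem).1 hx2
    rw [MulAut.smul_def, MulAut.conj_inv_apply, mem_range_inr_iff] at hx3
    have hgl : g.left ≠ 1 := fun h => hg ((mem_range_inr_iff φ g).mpr h)
    have hc : (g⁻¹ * SemidirectProduct.inr u * g).left =
        φ g.right⁻¹ (g.left⁻¹ * φ u g.left) := by
      simp only [SemidirectProduct.mul_left, SemidirectProduct.inv_left, SemidirectProduct.left_inr,
        SemidirectProduct.mul_right, SemidirectProduct.inv_right, SemidirectProduct.right_inr,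
        map_one, mul_one, map_mul, MulAut.mul_apply, map_inv]
    rw [hc] at hx3
    have h2 : g.left⁻¹ * φ u g.left = 1 := by
      have := congrArg (φ g.right) hx3
      rw [map_one, map_inv φ g.right, MulAut.apply_inv_self] at this
      exact this
    have h3 : φ u g.left = g.left := by
      rw [inv_mul_eq_one] at h2
      exact h2.symm
    by_contra hne
    have hu : u ≠ 1 := fun h => hne (by rw [h, map_one])
    exact hgl (hfpf u hu _ h3)

/-- The existence statement used for "is a Frobenius complement of some finite Frobenius group". -/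
theorem exists_frobenius_of_fpf {N K : Type} [Group N] [Group K] [Finite N] [Finite K]
    (φ : K →* MulAut N) [Nontrivial N] [Nontrivial K]
    (hfpf : ∀ k : K, k ≠ 1 → ∀ n : N, φ k n = n → n = 1) :
    ∃ (L : Type) (_ : Group L) (_ : Finite L) (H : Subgroup L),
      Cfsg.IsFrobeniusComplement H ∧ Nonempty (H ≃* K) :=
  ⟨N ⋊[φ] K, inferInstance, Finite.of_equiv _ SemidirectProduct.equivProd.symm,
    (SemidirectProduct.inr : K →* N ⋊[φ] K).range, isFrobeniusComplement_range_inr φ hfpf,
    ⟨(MonoidHom.ofInjective SemidirectProduct.inr_injective).symm⟩⟩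

end Cfsg.Agent.Lib.Helper22
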