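import Mathlib
import Cfsg.Agent.Lib.Helper22.FrobSemi

/-!
Helper lemmas (helper22): universe-generic construction of Frobenius groups from fixed-point-free
actions, and the ring version (a finite group mapping into a finite ring, acting fixed-point-freely
by left multiplication, is a Frobenius complement).
-/

set_option autoImplicit false
open scoped Pointwise
universe u v

namespace Cfsg.Agent.Lib.Helper22

/-- Frobenius complements transfer along group isomorphisms (comap version). -/
theorem isFrobeniusComplement_comap_equiv {L L₀ : Type*} [Group L] [Group L₀] (e : L ≃* L₀)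
    (H₀ : Subgroup L₀) (h : Cfsg.IsFrobeniusComplement H₀) :
    Cfsg.IsFrobeniusComplement (H₀.comap e.toMonoidHom) := by
  obtain ⟨h1, h2, h3⟩ := h
  have hinj : Function.Injective (Subgroup.comap e.toMonoidHom) :=
    Subgroup.comap_injective e.surjective
  refine ⟨?_, ?_, ?_⟩
  · intro hb
    apply h1
    apply hinj
    rw [hb]
    ext x
    simp only [Subgroup.mem_comap, Subgroup.mem_bot]
    exact (map_eq_one_iff e.toMonoidHom e.injective).symm
  · intro ht
    apply h2
    apply hinj
    rw [ht, Subgroup.comap_top]
  · intro g hg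
    rw [Subgroup.eq_bot_iff_forall]
    intro x hx
    obtain ⟨hx1, hx2⟩ := Subgroup.mem_inf.1 hx
    have hg' : e g ∉ H₀ := hg
    have hx3 := (Subgroup.mem_pointwise_smul_iff_inv_smul_mem).1 hx2
    rw [MulAut.smul_def, MulAut.conj_inv_apply, Subgroup.mem_comap] at hx3
    have hx4 : e x ∈ H₀ ⊓ MulAut.conj (e g) • H₀ := by
      refine Subgroup.mem_inf.2 ⟨hx1, ?_⟩
      rw [Subgroup.mem_pointwise_smul_iff_inv_smul_mem, MulAut.smul_def, MulAut.conj_inv_apply]
      have : e.toMonoidHom (g⁻¹ * x * g) = (e g)⁻¹ * e x * e g := by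
        simp
      rw [← this]
      exact hx3
    rw [h3 (e g) hg', Subgroup.mem_bot] at hx4
    exact (map_eq_one_iff e e.injective).1 hx4

/-- Universe-generic version of `exists_frobenius_of_fpf`. -/
theorem exists_frobenius_of_fpf' {N : Type u} {K : Type v} [Group N] [Group K] [Finite N] [Finite K]
    (φ : K →* MulAut N) [Nontrivial N] [Nontrivial K]
    (hfpf : ∀ k : K, k ≠ 1 → ∀ n : N, φ k n = n → n = 1) :
    ∃ (L : Type) (_ : Group L) (_ : Finite L) (C : Subgroup L),
      Cfsg.IsFrobeniusComplement C ∧ Nonempty (K ≃* C) := by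
  haveI : Finite (N ⋊[φ] K) := Finite.of_equiv _ SemidirectProduct.equivProd.symm
  let e : Shrink.{0} (N ⋊[φ] K) ≃* (N ⋊[φ] K) := Shrink.mulEquiv
  have hF := isFrobeniusComplement_range_inr φ hfpf
  refine ⟨Shrink.{0} (N ⋊[φ] K), inferInstance, Finite.of_equiv _ e.symm.toEquiv,
    (SemidirectProduct.inr : K →* N ⋊[φ] K).range.comap e.toMonoidHom,
    isFrobeniusComplement_comap_equiv e _ hF, ⟨?_⟩⟩
  exact (MonoidHom.ofInjective SemidirectProduct.inr_injective).trans
    (e.symm.subgroupMap _ |>.trans (MulEquiv.subgroupCongr (by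
      ext x
      simp only [Subgroup.mem_map, Subgroup.mem_comap]
      constructor
      · rintro ⟨y, hy, rfl⟩
        simpa using hy
      · intro hx
        exact ⟨e x, hx, by simp⟩)))

/-- left multiplication action of a group mapping multiplicatively into a ring -/
def ringMulAut {R : Type u} [Ring R] {K : Type v} [Group K] (ψ : K →* R) :
    K →* MulAut (Multiplicative R) where
  toFun k :=
    { toFun := fun x => Multiplicative.ofAdd (ψ k * x.toAdd)
      invFun := fun x => Multiplicative.ofAdd (ψ k⁻¹ * x.toAdd)
      left_inv := by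
        intro x
        show Multiplicative.ofAdd (ψ k⁻¹ * (ψ k * x.toAdd)) = x
        rw [← mul_assoc, ← map_mul, inv_mul_cancel, map_one, one_mul]; rfl
      right_inv := by
        intro x
        show Multiplicative.ofAdd (ψ k * (ψ k⁻¹ * x.toAdd)) = x
        rw [← mul_assoc, ← map_mul, mul_inv_cancel, map_one, one_mul]; rfl
      map_mul' := by
        intro x y
        show Multiplicative.ofAdd (ψ k * (x.toAdd + y.toAdd)) = _
        rw [mul_add]; rfl }
  map_one' := by
    apply MulEquiv.ext
    intro x
    show Multiplicative.ofAdd (ψ 1 * x.toAdd) = x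
    rw [map_one, one_mul]; rfl
  map_mul' := by
    intro k k'
    apply MulEquiv.ext
    intro x
    show Multiplicative.ofAdd (ψ (k * k') * x.toAdd) =
      Multiplicative.ofAdd (ψ k * (ψ k' * x.toAdd))
    rw [ψ.map_mul, mul_assoc]

theorem ringMulAut_apply {R : Type u} [Ring R] {K : Type v} [Group K] (ψ : K →* R) (k : K)
    (x : Multiplicative R) : ringMulAut ψ k x = Multiplicative.ofAdd (ψ k * x.toAdd) := rfl

/-- A finite group mapping into a finite ring so that nonidentity elements have no nonzero
fixed vectors under left multiplication is a Frobenius complement. -/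
theorem exists_frobenius_of_ring {R : Type u} [Ring R] [Finite R] [Nontrivial R] {K : Type v}
    [Group K] [Finite K] [Nontrivial K] (ψ : K →* R)
    (hfpf : ∀ k : K, k ≠ 1 → ∀ x : R, ψ k * x = x → x = 0) :
    ∃ (L : Type) (_ : Group L) (_ : Finite L) (C : Subgroup L),
      Cfsg.IsFrobeniusComplement C ∧ Nonempty (K ≃* C) := by
  haveI : Nontrivial (Multiplicative R) := inferInstanceAs (Nontrivial R)
  haveI : Finite (Multiplicative R) := inferInstanceAs (Finite R)
  refine exists_frobenius_of_fpf' (ringMulAut ψ) ?_
  intro k hk n hn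
  rw [ringMulAut_apply] at hn
  have h1 : ψ k * n.toAdd = n.toAdd := congrArg Multiplicative.toAdd hn
  have h2 := hfpf k hk _ h1
  exact congrArg Multiplicative.ofAdd h2

end Cfsg.Agent.Lib.Helper22
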