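import Mathlib

set_option autoImplicit false

/-!
# Transport of `PSL n` along a ring isomorphism
-/

namespace Cfsg.Agent.Lib.Helper22.PSLCongr

open Matrix

variable {n : Type*} [DecidableEq n] [Fintype n] {R S : Type*} [CommRing R] [CommRing S]

/-- The image of the center under a group isomorphism is the center. -/
theorem map_center_mulEquiv {A B : Type*} [Group A] [Group B] (e : A ≃* B) :
    (Subgroup.center A).map e.toMonoidHom = Subgroup.center B := by
  ext b
  constructor
  · rintro ⟨a, ha, rfl⟩
    rw [Subgroup.mem_center_iff]
    intro g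
    obtain ⟨g', rfl⟩ := e.surjective g
    have := (Subgroup.mem_center_iff.mp ha) g'
    change e g' * e a = e a * e g'
    rw [← map_mul, ← map_mul, this]
  · intro hb
    refine ⟨e.symm b, ?_, by simp⟩
    rw [SetLike.mem_coe, Subgroup.mem_center_iff]
    intro g
    have := (Subgroup.mem_center_iff.mp hb) (e g)
    apply e.injective
    rw [map_mul, map_mul, e.apply_symm_apply]
    exact this

/-- `SL n R ≃* SL n S` from a ring isomorphism. -/
def slCongr (e : R ≃+* S) : SpecialLinearGroup n R ≃* SpecialLinearGroup n S :=
  MonoidHom.toMulEquiv (SpecialLinearGroup.map (n := n) e.toRingHom)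
    (SpecialLinearGroup.map (n := n) e.symm.toRingHom)
    (by
      ext g i j
      change e.symm (e (g.1 i j)) = g.1 i j
      simp)
    (by
      ext g i j
      change e (e.symm (g.1 i j)) = g.1 i j
      simp)

/-- `PSL n R ≃* PSL n S` from a ring isomorphism. -/
noncomputable def pslCongr (e : R ≃+* S) :
    ProjectiveSpecialLinearGroup n R ≃* ProjectiveSpecialLinearGroup n S :=
  QuotientGroup.congr (Subgroup.center (SpecialLinearGroup n R))
    (Subgroup.center (SpecialLinearGroup n S)) (slCongr e) (map_center_mulEquiv (slCongr e))

/-- `PSL n` over two finite fields of the same cardinality are isomorphic. -/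
theorem nonempty_pslCongr_of_card_eq {K K' : Type*} [Field K] [Fintype K] [Field K'] [Fintype K']
    (h : Fintype.card K = Fintype.card K') :
    Nonempty (ProjectiveSpecialLinearGroup n K ≃* ProjectiveSpecialLinearGroup n K') :=
  ⟨pslCongr (FiniteField.ringEquivOfCardEq h)⟩

end Cfsg.Agent.Lib.Helper22.PSLCongr
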