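import Mathlib
import Cfsg.Agent.Lib.Helper7.SimpleTools

set_option autoImplicit false
set_option linter.style.haveILetI false
set_option linter.unusedSectionVars false

/-!
# Counting elements of order divisible by `r` when the Sylow `r`-subgroups have order `r`
-/

namespace Cfsg.Agent.Lib.Helper22.SylowPrimeCount

open Subgroup Cfsg.Agent.Lib.Helper7

/-- A central Sylow subgroup has a complement (Burnside). -/
theorem exists_complement_of_central {H : Type*} [Group H] [Finite H] {p : ℕ} [Fact p.Prime]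
    (P : Sylow p H) (hP : ∀ a ∈ (P : Subgroup H), ∀ h : H, h * a = a * h) :
    ∃ K : Subgroup H, Nat.card K * Nat.card (P : Subgroup H) = Nat.card H := by
  have hNC : normalizer ((P : Subgroup H) : Set H) ≤ centralizer ((P : Subgroup H) : Set H) := by
    intro h _
    rw [mem_centralizer_iff]
    intro a ha
    exact (hP a ha h).symm
  exact ⟨_, (MonoidHom.ker_transferSylow_isComplement' P hNC).card_mul_card⟩

/-- The centralizer of an abelian Sylow subgroup `P` contains a subgroup `K` with
`|K| * |P| = |C(P)|`. -/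
theorem exists_complement_centralizer {G : Type*} [Group G] [Finite G] {r : ℕ} [Fact r.Prime]
    (P : Sylow r G) (hPcomm : ∀ a ∈ (P : Subgroup G), ∀ b ∈ (P : Subgroup G), a * b = b * a) :
    ∃ K : Subgroup G, K ≤ centralizer ((P : Subgroup G) : Set G) ∧
      Nat.card K * Nat.card (P : Subgroup G) = Nat.card (centralizer ((P : Subgroup G) : Set G)) := by
  set C := centralizer ((P : Subgroup G) : Set G) with hC
  have hPC : (P : Subgroup G) ≤ C := by
    intro a ha
    rw [hC, mem_centralizer_iff]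
    intro b hb
    exact hPcomm b hb a ha
  obtain ⟨K', hK'⟩ := exists_complement_of_central (P.subtype hPC) (by
    intro a ha h
    apply Subtype.ext
    have ha' : (a : G) ∈ (P : Subgroup G) := by
      rw [Sylow.coe_subtype, mem_subgroupOf] at ha
      exact ha
    have := (mem_centralizer_iff.mp h.2) (a : G) ha'
    exact this.symm)
  refine ⟨K'.map C.subtype, ?_, ?_⟩
  · intro x hx
    obtain ⟨k, -, rfl⟩ := hx
    exact k.2
  · rw [Subgroup.card_map_of_injective C.subtype_injective, ← hK', Sylow.coe_subtype,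
      Nat.card_congr (Subgroup.subgroupOfEquivOfLe hPC).toEquiv]

/-- Lower bound for the number of elements of order divisible by `r`, when the Sylow
`r`-subgroups have order `r`. -/
theorem le_card_dvd_orderOf {G : Type*} [Group G] [Finite G] {r : ℕ} [Fact r.Prime]
    (hr : ∀ P : Sylow r G, Nat.card (P : Subgroup G) = r) (b : ℕ)
    (hb : ∀ P : Sylow r G, b ≤ Nat.card (Sylow r G) *
      ((r - 1) * (Nat.card (centralizer ((P : Subgroup G) : Set G)) / r))) :
    b ≤ Nat.card {g : G // r ∣ orderOf g} := by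
  classical
  have hrp : r.Prime := Fact.out
  have hcomm : ∀ P : Sylow r G, ∀ a ∈ (P : Subgroup G), ∀ b ∈ (P : Subgroup G), a * b = b * a :=
    fun P => comm_of_card_prime (P : Subgroup G) (hr P)
  choose K hKC hKcard using fun P : Sylow r G => exists_complement_centralizer P (hcomm P)
  have hKdiv : ∀ P : Sylow r G,
      Nat.card (K P) = Nat.card (centralizer ((P : Subgroup G) : Set G)) / r := by
    intro P
    have := hKcard P
    rw [hr P] at this
    rw [← this, Nat.mul_div_cancel _ hrp.pos]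
  -- the r'-part of the group order
  obtain ⟨P₀⟩ : Nonempty (Sylow r G) := Sylow.nonempty
  set M := (P₀ : Subgroup G).index with hM
  have hGM : Nat.card G = r * M := by
    have := (P₀ : Subgroup G).card_mul_index
    rw [hr P₀] at this
    exact this.symm
  have hrM : ¬ r ∣ M := P₀.not_dvd_index
  have hcop : Nat.Coprime r M := (Nat.Prime.coprime_iff_not_dvd hrp).mpr hrM
  have hKM : ∀ P : Sylow r G, Nat.card (K P) ∣ M := by
    intro P
    have h1 : Nat.card (K P) * r ∣ r * M := by
      rw [← hGM, ← hr P, hKcard P]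
      exact Subgroup.card_subgroup_dvd_card _
    rw [mul_comm] at h1
    exact Nat.dvd_of_mul_dvd_mul_left hrp.pos h1
  have hkM : ∀ P : Sylow r G, ∀ k ∈ K P, k ^ M = 1 := by
    intro P k hk
    have h1 : orderOf k ∣ Nat.card (K P) := Subgroup.orderOf_dvd_natCard _ hk
    exact orderOf_dvd_iff_pow_eq_one.mp (h1.trans (hKM P))
  have hyord : ∀ P : Sylow r G, ∀ y ∈ (P : Subgroup G), y ≠ 1 → orderOf y = r := by
    intro P y hy hy1
    have h1 : orderOf y ∣ r := by
      rw [← hr P]; exact Subgroup.orderOf_dvd_natCard _ hy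
    rcases (Nat.dvd_prime hrp).mp h1 with h2 | h2
    · rw [orderOf_eq_one_iff] at h2; exact absurd h2 hy1
    · exact h2
  have hyM : ∀ P : Sylow r G, ∀ y ∈ (P : Subgroup G), y ≠ 1 → y ^ M ≠ 1 := by
    intro P y hy hy1 h1
    have := orderOf_dvd_of_pow_eq_one h1
    rw [hyord P y hy hy1] at this
    exact hrM this
  have hPz : ∀ P : Sylow r G, ∀ y ∈ (P : Subgroup G), y ≠ 1 → zpowers (y ^ M) = (P : Subgroup G) := by
    intro P y hy hy1
    apply Subgroup.eq_of_le_of_card_ge
    · rw [zpowers_le]; exact pow_mem hy M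
    · rw [Nat.card_zpowers, hr P, hyord P (y ^ M) (pow_mem hy M) (hyM P y hy hy1)]
  have hyk : ∀ P : Sylow r G, ∀ y ∈ (P : Subgroup G), ∀ k ∈ K P, Commute y k := by
    intro P y hy k hk
    exact (mem_centralizer_iff.mp (hKC P hk)) y hy
  have hinf : ∀ P : Sylow r G, ∀ a ∈ (P : Subgroup G), a ∈ K P → a = 1 := by
    intro P a ha haK
    have h1 : orderOf a ∣ r := by
      rw [← hr P]; exact Subgroup.orderOf_dvd_natCard _ ha
    have h2 : orderOf a ∣ M := orderOf_dvd_of_pow_eq_one (hkM P a haK)
    have h3 := Nat.dvd_gcd h1 h2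
    rw [hcop.gcd_eq_one, Nat.dvd_one, orderOf_eq_one_iff] at h3
    exact h3
  have hpowM : ∀ P : Sylow r G, ∀ y ∈ (P : Subgroup G), ∀ k ∈ K P, (y * k) ^ M = y ^ M := by
    intro P y hy k hk
    rw [(hyk P y hy k hk).mul_pow, hkM P k hk, mul_one]
  let f : (Σ P : Sylow r G, {y : (P : Subgroup G) // y ≠ 1} × K P) → {g : G // r ∣ orderOf g} :=
    fun s => ⟨(s.2.1.1 : G) * (s.2.2 : G), by
      obtain ⟨P, ⟨y, hy1⟩, k⟩ := s
      have hy1' : (y : G) ≠ 1 := fun h => hy1 (Subtype.ext h)
      change r ∣ orderOf ((y : G) * (k : G))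
      have h1 : ((y : G) * (k : G)) ^ (orderOf ((y : G) * (k : G)) * M) = 1 := by
        rw [pow_mul, pow_orderOf_eq_one, one_pow]
      rw [mul_comm, pow_mul, hpowM P y y.2 k k.2, ← pow_mul] at h1
      have h2 := orderOf_dvd_of_pow_eq_one h1
      rw [hyord P y y.2 hy1'] at h2
      exact (Nat.Coprime.dvd_of_dvd_mul_left hcop h2)⟩
  have hf : Function.Injective f := by
    rintro ⟨P, ⟨y, hy1⟩, k⟩ ⟨Q, ⟨y', hy1'⟩, k'⟩ hfeq
    have heq : (y : G) * (k : G) = (y' : G) * (k' : G) := congrArg Subtype.val hfeq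
    have hy1G : (y : G) ≠ 1 := fun h => hy1 (Subtype.ext h)
    have hy1G' : (y' : G) ≠ 1 := fun h => hy1' (Subtype.ext h)
    have hPQ : P = Q := by
      apply Sylow.ext
      rw [← hPz P y y.2 hy1G, ← hPz Q y' y'.2 hy1G', ← hpowM P y y.2 k k.2,
        ← hpowM Q y' y'.2 k' k'.2, heq]
    subst hPQ
    have h1 : (y' : G)⁻¹ * (y : G) = (k' : G) * (k : G)⁻¹ := by
      calc (y' : G)⁻¹ * (y : G) = (y' : G)⁻¹ * ((y : G) * (k : G)) * (k : G)⁻¹ := by group
        _ = (y' : G)⁻¹ * ((y' : G) * (k' : G)) * (k : G)⁻¹ := by rw [heq]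
        _ = (k' : G) * (k : G)⁻¹ := by group
    have h2 : (y' : G)⁻¹ * (y : G) = 1 := by
      apply hinf P _ (mul_mem (inv_mem y'.2) y.2)
      rw [h1]
      exact mul_mem k'.2 (inv_mem k.2)
    have hyy : (y : G) = (y' : G) := by
      rw [inv_mul_eq_one] at h2; exact h2.symm
    have hkk : (k : G) = (k' : G) := by
      rw [hyy] at heq; exact mul_left_cancel heq
    have e1 : y = y' := Subtype.ext hyy
    have e2 : k = k' := Subtype.ext hkk
    subst e1; subst e2
    rfl
  have hcard := Nat.card_le_card_of_injective f hf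
  refine le_trans ?_ hcard
  haveI : Fintype (Sylow r G) := Fintype.ofFinite _
  rw [Nat.card_sigma]
  have hfib : ∀ P : Sylow r G, Nat.card ({y : (P : Subgroup G) // y ≠ 1} × K P) =
      (r - 1) * (Nat.card (centralizer ((P : Subgroup G) : Set G)) / r) := by
    intro P
    rw [Nat.card_prod, ← hKdiv P]
    congr 1
    have : Nat.card {y : (P : Subgroup G) // y ≠ 1} = Nat.card (P : Subgroup G) - 1 := by
      have h1 : Nat.card (P : Subgroup G) =
          Nat.card {x : (P : Subgroup G) // x = 1} + Nat.card {x : (P : Subgroup G) // ¬ x = 1} := by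
        rw [← Nat.card_sum]
        exact Nat.card_congr (Equiv.sumCompl (fun x : (P : Subgroup G) => x = 1)).symm
      have h2 : Nat.card {x : (P : Subgroup G) // x = 1} = 1 := by
        rw [Nat.card_eq_one_iff_unique]
        exact ⟨⟨fun x y => Subtype.ext (x.2.trans y.2.symm)⟩, ⟨⟨1, rfl⟩⟩⟩
      rw [h2] at h1
      change Nat.card {x : (P : Subgroup G) // ¬ x = 1} = _
      omega
    rw [this, hr P]
  simp only [hfib]
  have hn : 0 < Nat.card (Sylow r G) := Nat.card_pos
  have h1 : Nat.card (Sylow r G) * b ≤ Nat.card (Sylow r G) *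
      ∑ P : Sylow r G, (r - 1) * (Nat.card (centralizer ((P : Subgroup G) : Set G)) / r) := by
    rw [Finset.mul_sum]
    calc Nat.card (Sylow r G) * b = ∑ _P : Sylow r G, b := by
          rw [Finset.sum_const, Finset.card_univ, smul_eq_mul, Nat.card_eq_fintype_card]
      _ ≤ _ := Finset.sum_le_sum (fun P _ => hb P)
  exact Nat.le_of_mul_le_mul_left h1 hn

end Cfsg.Agent.Lib.Helper22.SylowPrimeCount
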