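import Mathlib
import Cfsg.Agent.S0051
import Cfsg.Agent.S0081
import Cfsg.Agent.Lib.Helper12.PComplement
import Cfsg.Agent.Lib.Helper12.Residual
import Cfsg.Agent.Lib.Helper1.PGroup

/-!
# Tate's theorem, general form (helper22)

For a Sylow `p`-subgroup `P ≤ V ≤ G`: if `P ∩ G' ≤ V'` then `P ∩ O^p(G) ≤ O^p(V)`.
The proof goes through Gaschütz' theorem (`Cfsg.Agent.S0051.result`) applied to a pulled back
central extension, as in `Cfsg.Agent.S0081`.
-/

set_option autoImplicit false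
open Cfsg

namespace Cfsg.Agent.Lib.Helper22
open scoped commutatorElement
open Cfsg.Agent.S0081

/-- The Gaschütz step of Tate's theorem: a central `p`-extension `V/R₁ → G/M` whose kernel lies in the
Frattini subgroup produces a proper subgroup `M' < M`, normalised by `M`, with `M/M'` of `p`-power exponent. -/
theorem tate_core {G : Type*} [Group G] [Finite G] {p : ℕ} [Fact p.Prime] (P : Sylow p G)
    (V : Subgroup G) (hPV : (P : Subgroup G) ≤ V)
    (M : Subgroup G) [M.Normal] (R₁ : Subgroup V) [R₁.Normal]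
    (hR₁lt : R₁ < M.subgroupOf V)
    (hpq : IsPGroup p (V ⧸ R₁))
    (hcen : ⁅M.subgroupOf V, (⊤ : Subgroup V)⁆ ≤ R₁)
    (hfrat : (M.subgroupOf V).map (QuotientGroup.mk' R₁) ≤ frattini (V ⧸ R₁)) :
    ∃ M' : Subgroup G, M' ≤ M ∧ M' ≠ M ∧ (∀ h ∈ M, ∀ g ∈ M', h * g * h⁻¹ ∈ M') ∧
      ∃ n : ℕ, ∀ g ∈ M, g ^ (p ^ n) ∈ M' := by
  classical
  have hp : p.Prime := Fact.out
  set R : Subgroup V := M.subgroupOf V with hR
  have hR₁ : R₁ ≤ M.subgroupOf V := hR₁lt.le
  -- central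
  have hcent : ∀ y ∈ R.map (QuotientGroup.mk' R₁), ∀ y' : V ⧸ R₁, y * y' = y' * y := by
    rintro _ ⟨r, hr, rfl⟩ y'
    obtain ⟨x, rfl⟩ := QuotientGroup.mk'_surjective R₁ y'
    rw [QuotientGroup.mk'_apply, QuotientGroup.mk'_apply, ← QuotientGroup.mk_mul,
      ← QuotientGroup.mk_mul, QuotientGroup.eq]
    have : (r * x)⁻¹ * (x * r) = ⁅x⁻¹, r⁻¹⁆ := by rw [commutatorElement_def]; group
    rw [this]
    apply hcen
    rw [Subgroup.commutator_comm]
    exact Subgroup.commutator_mem_commutator (Subgroup.mem_top _) (R.inv_mem hr)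
  -- the extension
  set E : Subgroup (G × (V ⧸ R₁)) := ext V M R₁ hR₁ with hE
  set K : Subgroup E := ((MonoidHom.fst G (V ⧸ R₁)).comp E.subtype).ker with hK
  have hKmem : ∀ z : E, z ∈ K ↔ z.1.1 = 1 := fun z => by rw [hK, MonoidHom.mem_ker]; rfl
  have hKsnd : ∀ z : E, z ∈ K → z.1.2 ∈ R.map (QuotientGroup.mk' R₁) := by
    intro z hz
    apply snd_mem_of_fst_mem V M R₁ hR₁ z.1 z.2
    rw [(hKmem z).mp hz]; exact M.one_mem
  have hKcomm : IsMulCommutative K := ⟨⟨fun a b => by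
    apply Subtype.ext; apply Subtype.ext
    apply Prod.ext
    · simp [(hKmem a.1).mp a.2, (hKmem b.1).mp b.2]
    · exact hcent _ (hKsnd a.1 a.2) _⟩⟩
  set U : Subgroup E := (P : Subgroup G).comap ((MonoidHom.fst G (V ⧸ R₁)).comp E.subtype) with hU
  have hUmem : ∀ z : E, z ∈ U ↔ z.1.1 ∈ (P : Subgroup G) := fun z => Iff.rfl
  have hKU : K ≤ U := fun z hz => by rw [hUmem, (hKmem z).mp hz]; exact Subgroup.one_mem _
  -- the diagonal
  let δ : (P : Subgroup G) →* E :=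
    MonoidHom.codRestrict (((P : Subgroup G).subtype).prod
      ((QuotientGroup.mk' R₁).comp (Subgroup.inclusion hPV))) E (fun x => by
      change ((x : G), ((Subgroup.inclusion hPV x : V) : V ⧸ R₁)) ∈ ext V M R₁ hR₁
      rw [mk_mem_ext]; simp)
  have hδ1 : ∀ x : (P : Subgroup G), (δ x).1.1 = (x : G) := fun x => rfl
  set A : Subgroup E := δ.range with hA
  have hAU : A ≤ U := by
    rintro _ ⟨x, rfl⟩
    rw [hUmem, hδ1]; exact x.2
  have hAK : A ⊓ K = ⊥ := by
    rw [eq_bot_iff]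
    rintro _ ⟨⟨x, rfl⟩, hx2⟩
    have h1 := (hKmem _).mp hx2
    rw [hδ1] at h1
    have : x = 1 := Subtype.ext h1
    rw [this, map_one]; exact Subgroup.mem_bot.mpr rfl
  have hKA : K ⊔ A = U := by
    apply le_antisymm (sup_le hKU hAU)
    intro z hz
    have hzP : z.1.1 ∈ (P : Subgroup G) := (hUmem z).mp hz
    have hk : z * (δ ⟨z.1.1, hzP⟩)⁻¹ ∈ K := by
      rw [hKmem]
      change z.1.1 * ((δ ⟨z.1.1, hzP⟩).1.1)⁻¹ = 1
      rw [hδ1]; simp
    have : z = (z * (δ ⟨z.1.1, hzP⟩)⁻¹) * δ ⟨z.1.1, hzP⟩ := by group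
    rw [this]
    exact Subgroup.mul_mem_sup hk ⟨_, rfl⟩
  have hcop : (Nat.card K).Coprime U.index := by
    have hKp : IsPGroup p K := by
      have hinj : Function.Injective
          ((MonoidHom.snd G (V ⧸ R₁)).comp (E.subtype.comp K.subtype)) := by
        intro a b hab
        apply Subtype.ext; apply Subtype.ext
        apply Prod.ext
        · rw [(hKmem a.1).mp a.2, (hKmem b.1).mp b.2]
        · exact hab
      exact IsPGroup.of_injective hpq _ hinj
    obtain ⟨k, hk⟩ := IsPGroup.iff_card.mp hKp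
    rw [hk]
    apply Nat.Coprime.pow_left
    rw [Nat.Prime.coprime_iff_not_dvd hp]
    intro hdvd
    apply P.not_dvd_index
    refine hdvd.trans ?_
    rw [hU, Subgroup.index_comap]
    apply Subgroup.relIndex_dvd_index_of_le
    intro x hx
    exact ⟨δ ⟨x, hx⟩, rfl⟩
  obtain ⟨C, hC⟩ := Cfsg.Agent.S0051.result K U hKU hcop A hAU hAK hKA
  have hdec : ∀ z : E, ∃ k ∈ K, ∃ c ∈ C, k * c = z := by
    intro z
    have : z ∈ K ⊔ C := by rw [hC.sup_eq_top]; exact Subgroup.mem_top z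
    exact Subgroup.mem_sup_of_normal_left.mp this
  have hdisj : ∀ z : E, z ∈ K → z ∈ C → z = 1 := by
    intro z h1 h2
    have : z ∈ K ⊓ C := ⟨h1, h2⟩
    rw [hC.disjoint.eq_bot] at this
    exact Subgroup.mem_bot.mp this
  set M' : Subgroup G := (C.map E.subtype).comap (MonoidHom.inl G (V ⧸ R₁)) with hM'
  have hM'mem : ∀ g, g ∈ M' ↔ ∃ z ∈ C, (z : G × (V ⧸ R₁)) = (g, 1) := by
    intro g; rw [hM', Subgroup.mem_comap, Subgroup.mem_map]; rfl
  have hM'le : M' ≤ M := by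
    intro g hg
    obtain ⟨z, hz, hzg⟩ := (hM'mem g).mp hg
    have := z.2
    rw [hzg] at this
    exact (one_mem_ext _ M R₁ hR₁ g).mp this
  -- lifting elements of `M` to `C`
  have hlift : ∀ g ∈ M, ∃ c ∈ C, (c : G × (V ⧸ R₁)).1 = g := by
    intro g hg
    have hgE : (g, (1 : V ⧸ R₁)) ∈ E := (one_mem_ext _ M R₁ hR₁ g).mpr hg
    obtain ⟨k, hk, c, hc, hkc⟩ := hdec ⟨_, hgE⟩
    refine ⟨c, hc, ?_⟩
    have h1 : k.1.1 * c.1.1 = g := congrArg (fun z : E => (z : G × (V ⧸ R₁)).1) hkc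
    rw [(hKmem k).mp hk, one_mul] at h1
    exact h1
  -- lifting elements of `V` to `E`
  have hVE : ∀ v : V, ((v : G), (v : V ⧸ R₁)) ∈ E := by
    intro v
    change ((v : G), (v : V ⧸ R₁)) ∈ ext V M R₁ hR₁
    rw [mk_mem_ext]; simp
  obtain ⟨n, hn⟩ := IsPGroup.iff_card.mp hpq
  refine ⟨M', hM'le, ?_, ?_, n, ?_⟩
  · -- M' ≠ M by the Frattini argument
    intro heq
    set B : Subgroup (V ⧸ R₁) :=
      (C.map E.subtype).map (MonoidHom.snd G (V ⧸ R₁)) with hB
    have hBtop : B = ⊤ := by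
      apply frattini_nongenerating
      rw [eq_top_iff]
      intro y _
      obtain ⟨x, rfl⟩ := QuotientGroup.mk'_surjective R₁ y
      obtain ⟨k, hk, c, hc, hkc⟩ := hdec ⟨_, hVE x⟩
      have h2 : k.1.2 * c.1.2 = (x : V ⧸ R₁) :=
        congrArg (fun z : E => (z : G × (V ⧸ R₁)).2) hkc
      rw [QuotientGroup.mk'_apply, ← h2, sup_comm]
      refine Subgroup.mul_mem_sup (hfrat (hKsnd k hk)) ?_
      exact ⟨c.1, ⟨c, hc, rfl⟩, rfl⟩
    obtain ⟨r, hrR, hrR₁⟩ := SetLike.exists_of_lt hR₁lt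
    have hrB : ((r : V ⧸ R₁)) ∈ B := by rw [hBtop]; exact Subgroup.mem_top _
    obtain ⟨_, ⟨c, hc, rfl⟩, hc2⟩ := hrB
    change c.1.2 = (r : V ⧸ R₁) at hc2
    have hcE : (c.1.1, (r : V ⧸ R₁)) ∈ ext V M R₁ hR₁ := by
      have := c.2
      rw [← hc2]; exact this
    rw [mk_mem_ext] at hcE
    have hrM : (r : G) ∈ M := by
      rw [Subgroup.mem_subgroupOf] at hrR; exact hrR
    have hc1M : c.1.1 ∈ M := by
      have : c.1.1 = (r : G) * ((r : G)⁻¹ * c.1.1) := by group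
      rw [this]; exact M.mul_mem hrM hcE
    rw [← heq] at hc1M
    obtain ⟨z, hz, hzg⟩ := (hM'mem _).mp hc1M
    have hzc : z⁻¹ * c ∈ K := by
      rw [hKmem]
      change (z.1.1)⁻¹ * c.1.1 = 1
      rw [hzg]; simp
    have h1 := hdisj _ hzc (C.mul_mem (C.inv_mem hz) hc)
    have h2 : (z.1.2)⁻¹ * c.1.2 = 1 :=
      congrArg (fun z : E => (z : G × (V ⧸ R₁)).2) h1
    rw [hzg, hc2] at h2
    simp only [inv_one, one_mul] at h2
    apply hrR₁
    exact (QuotientGroup.eq_one_iff r).mp h2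
  · -- normalised by M
    intro h hh g hg
    obtain ⟨c, hc, hc1⟩ := hlift h hh
    obtain ⟨z, hz, hzg⟩ := (hM'mem g).mp hg
    rw [hM'mem]
    refine ⟨c * z * c⁻¹, C.mul_mem (C.mul_mem hc hz) (C.inv_mem hc), ?_⟩
    apply Prod.ext
    · change c.1.1 * z.1.1 * (c.1.1)⁻¹ = h * g * h⁻¹
      rw [hc1, hzg]
    · change c.1.2 * z.1.2 * (c.1.2)⁻¹ = 1
      rw [hzg]; simp
  · intro g hg
    obtain ⟨c, hc, hc1⟩ := hlift g hg
    rw [hM'mem]
    refine ⟨c ^ (p ^ n), C.pow_mem hc _, ?_⟩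
    apply Prod.ext
    · change (c ^ (p ^ n)).1.1 = g ^ (p ^ n)
      rw [← hc1]; rfl
    · change (c ^ (p ^ n)).1.2 = 1
      have : (c ^ (p ^ n)).1.2 = (c.1.2) ^ (p ^ n) := rfl
      rw [this, ← hn]
      exact pow_card_eq_one'

/-- `P ∩ O^p(G) ≤ G'` for a Sylow `p`-subgroup `P`. -/
theorem sylow_inf_pResidual_le_commutator {G : Type*} [Group G] [Finite G] {p : ℕ} [Fact p.Prime]
    (P : Sylow p G) : (P : Subgroup G) ⊓ Cfsg.pResidual p G ≤ commutator G := by
  classical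
  have hp : p.Prime := Fact.out
  have hcard : Nat.card G ≠ 0 := Nat.card_pos.ne'
  set m : ℕ := ordCompl[p] (Nat.card G) with hm
  let π : G →* Abelianization G := Abelianization.of
  let f : G →* Abelianization G := (powMonoidHom m).comp π
  have hMker : Cfsg.pResidual p G ≤ f.ker := by
    rw [Cfsg.pResidual, Subgroup.closure_le]
    intro s hs
    have hs' : (orderOf s).Coprime p := hs
    rw [SetLike.mem_coe, MonoidHom.mem_ker]
    change (π s) ^ m = 1
    rw [← map_pow]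
    have hdvd : orderOf s ∣ m := by
      have h1 : orderOf s ∣ ordProj[p] (Nat.card G) * m := by
        rw [hm, Nat.ordProj_mul_ordCompl_eq_self]; exact orderOf_dvd_natCard s
      exact Nat.Coprime.dvd_of_dvd_mul_left (Nat.Coprime.pow_right _ hs') h1
    rw [orderOf_dvd_iff_pow_eq_one.mp hdvd, map_one]
  intro x hx
  have h1 : (π x) ^ m = 1 := MonoidHom.mem_ker.mp (hMker hx.2)
  obtain ⟨k, hk⟩ := (P.isPGroup' : IsPGroup p (P : Subgroup G)) ⟨x, hx.1⟩
  have h2 : (π x) ^ (p ^ k) = 1 := by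
    have : x ^ (p ^ k) = 1 := congrArg Subtype.val hk
    rw [← map_pow, this, map_one]
  have hcop : Nat.Coprime (p ^ k) m := Nat.Coprime.pow_left k (Nat.coprime_ordCompl hp hcard)
  have h3 : orderOf (π x) ∣ 1 := by
    rw [← Nat.Coprime.gcd_eq_one hcop]
    exact Nat.dvd_gcd (orderOf_dvd_of_pow_eq_one h2) (orderOf_dvd_of_pow_eq_one h1)
  have h4 : π x = 1 := orderOf_eq_one_iff.mp (Nat.dvd_one.mp h3)
  have : x ∈ (Abelianization.of (G := G)).ker := MonoidHom.mem_ker.mpr h4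
  rwa [Abelianization.ker_of] at this

/-- **Tate's theorem**, general form: for a Sylow `p`-subgroup `P ≤ V ≤ G` with `P ∩ G' ≤ V'`
we have `P ∩ O^p(G) ≤ O^p(V)`. -/
theorem tate_general {G : Type*} [Group G] [Finite G] {p : ℕ} [Fact p.Prime] (P : Sylow p G)
    (V : Subgroup G) (hPV : (P : Subgroup G) ≤ V)
    (hfoc : (P : Subgroup G) ⊓ commutator G ≤ (commutator V).map V.subtype) :
    (P : Subgroup G) ⊓ Cfsg.pResidual p G ≤ (Cfsg.pResidual p V).map V.subtype := by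
  classical
  have hp : p.Prime := Fact.out
  set M : Subgroup G := Cfsg.pResidual p G with hM
  haveI hMn : M.Normal := Cfsg.Agent.Lib.Helper12.pResidual_normal' p G
  set L : Subgroup V := Cfsg.pResidual p V with hL
  haveI hLn : L.Normal := Cfsg.Agent.Lib.Helper12.pResidual_normal' p V
  set R : Subgroup V := M.subgroupOf V with hR
  have hLR : L ≤ R := by
    rw [hL, Cfsg.pResidual, Subgroup.closure_le]
    intro v hv
    rw [SetLike.mem_coe, hR, Subgroup.mem_subgroupOf]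
    apply Subgroup.subset_closure
    change (orderOf (v : G)).Coprime p
    rw [Subgroup.orderOf_coe]; exact hv
  by_contra hcon
  have hRL : ¬ R ≤ L := by
    intro hle
    apply hcon
    intro x hx
    have hxV : x ∈ V := hPV hx.1
    have : (⟨x, hxV⟩ : V) ∈ R := by rw [hR, Subgroup.mem_subgroupOf]; exact hx.2
    exact ⟨⟨x, hxV⟩, hle this, rfl⟩
  set R₁ : Subgroup V := ⁅R, (⊤ : Subgroup V)⁆ ⊔ L with hR₁
  haveI : (⁅R, (⊤ : Subgroup V)⁆).Normal := Subgroup.commutator_normal R ⊤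
  haveI hR₁n : R₁.Normal := Subgroup.sup_normal _ _
  have hR₁le : R₁ ≤ R := sup_le (Subgroup.commutator_le_left R ⊤) hLR
  have hLR₁ : L ≤ R₁ := le_sup_right
  have hVLp : IsPGroup p (V ⧸ L) := by
    obtain ⟨a, ha⟩ := Cfsg.Agent.Lib.Helper12.index_eq_pow_of_coprime_mem (p := p) L
      (fun g hg => Subgroup.subset_closure hg)
    exact IsPGroup.of_card (n := a) (by rw [← Subgroup.index_eq_card, ha])
  have hpq : IsPGroup p (V ⧸ R₁) := by
    obtain ⟨a, ha⟩ := Cfsg.Agent.Lib.Helper12.index_eq_pow_of_coprime_mem (p := p) R₁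
      (fun g hg => hLR₁ (Subgroup.subset_closure hg))
    exact IsPGroup.of_card (n := a) (by rw [← Subgroup.index_eq_card, ha])
  have hR₁ne : R₁ ≠ R := by
    intro heq
    apply hRL
    haveI : Group.IsNilpotent (V ⧸ L) := hVLp.isNilpotent
    set Rb : Subgroup (V ⧸ L) := R.map (QuotientGroup.mk' L) with hRb
    haveI : Rb.Normal := Subgroup.Normal.map inferInstance _ (QuotientGroup.mk'_surjective L)
    by_contra hne
    have hRbne : Rb ≠ ⊥ := by
      intro h0
      apply hne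
      intro r hr
      have : (QuotientGroup.mk' L r) ∈ Rb := ⟨r, hr, rfl⟩
      rw [h0, Subgroup.mem_bot] at this
      exact (QuotientGroup.eq_one_iff r).mp this
    have hlt := commutator_top_lt Rb hRbne
    have h1 : R₁.map (QuotientGroup.mk' L) = ⁅Rb, (⊤ : Subgroup (V ⧸ L))⁆ := by
      rw [hR₁, Subgroup.map_sup, Subgroup.map_commutator,
        Subgroup.map_top_of_surjective _ (QuotientGroup.mk'_surjective L),
        QuotientGroup.map_mk'_self, sup_bot_eq]
    have h2 : ⁅Rb, (⊤ : Subgroup (V ⧸ L))⁆ = Rb := by rw [← h1, heq]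
    exact hlt.ne h2
  have hR₁lt : R₁ < R := lt_of_le_of_ne hR₁le hR₁ne
  have hcen : ⁅R, (⊤ : Subgroup V)⁆ ≤ R₁ := le_sup_left
  have hsup : (P : Subgroup G).subgroupOf V ⊔ L = ⊤ := by
    apply Cfsg.Agent.Lib.Helper12.sup_pResidual_eq_top
    intro hdvd
    apply P.not_dvd_index
    exact hdvd.trans (Subgroup.relIndex_dvd_index_of_le hPV)
  have hfrat : R.map (QuotientGroup.mk' R₁) ≤ frattini (V ⧸ R₁) := by
    rintro _ ⟨r, hr, rfl⟩
    have hr' : r ∈ (P : Subgroup G).subgroupOf V ⊔ L := by rw [hsup]; exact Subgroup.mem_top r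
    obtain ⟨x, hx, l, hl, hxl⟩ := Subgroup.mem_sup_of_normal_right.mp hr'
    have hxR : x ∈ R := by
      have : x = r * l⁻¹ := by rw [← hxl]; group
      rw [this]; exact R.mul_mem hr (R.inv_mem (hLR hl))
    have hxG : (x : G) ∈ (P : Subgroup G) ⊓ M := by
      refine ⟨Subgroup.mem_subgroupOf.mp hx, ?_⟩
      rw [hR, Subgroup.mem_subgroupOf] at hxR; exact hxR
    have hxc : (x : G) ∈ commutator G := sylow_inf_pResidual_le_commutator P hxG
    obtain ⟨x', hx', hxx'⟩ := hfoc ⟨hxG.1, hxc⟩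
    have hxx : x' = x := Subtype.ext hxx'
    rw [hxx] at hx'
    have hmk : (QuotientGroup.mk' R₁ r) = QuotientGroup.mk' R₁ x := by
      rw [← hxl, map_mul]
      have : QuotientGroup.mk' R₁ l = 1 := (QuotientGroup.eq_one_iff l).mpr (hLR₁ hl)
      rw [this, mul_one]
    rw [hmk]
    apply Cfsg.Agent.Lib.Helper1.IsPGroup.commutator_le_frattini hpq
    have : (commutator V).map (QuotientGroup.mk' R₁) ≤ commutator (V ⧸ R₁) := by
      rw [commutator_def, commutator_def, Subgroup.map_commutator]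
      exact Subgroup.commutator_mono le_top le_top
    exact this ⟨x, hx', rfl⟩
  obtain ⟨M', hM'le, hM'ne, -, n, hpow⟩ := tate_core P V hPV M R₁ hR₁lt hpq hcen hfrat
  apply hM'ne
  apply le_antisymm hM'le
  rw [hM, Cfsg.pResidual, Subgroup.closure_le]
  intro g hg
  have hg' : (orderOf g).Coprime p := hg
  have hgM : g ∈ M := Subgroup.subset_closure hg
  have h1 := hpow g hgM
  obtain ⟨m, hm⟩ := exists_pow_eq_self_of_coprime (Nat.Coprime.pow_left n hg'.symm)
  rw [SetLike.mem_coe, ← hm]; exact M'.pow_mem h1 m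

end Cfsg.Agent.Lib.Helper22
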