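import Mathlib
import Cfsg.Agent.Lib.Helper1.PRDefs

/-! helper22: S3612 market "PR", leaf PR2T (two-transitivity, pointwise). -/

set_option autoImplicit false

namespace Cfsg.Agent.Lib.Helper22.PR2T

open MulAction Cfsg.Agent.Lib.Helper1.PR

/-- **PR2T**.  Two-transitivity, pointwise (`MulAction.is_two_pretransitive_iff`). -/
theorem PR2T {G Ω : Type*} [Group G] [MulAction G Ω]
    (h2 : MulAction.IsMultiplyPretransitive G Ω 2) : TwoTrans G Ω := by
  intro a b a' b' hab hab'
  exact (MulAction.is_two_pretransitive_iff.mp h2) hab hab'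

end Cfsg.Agent.Lib.Helper22.PR2T
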