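import Mathlib
import Cfsg.Agent.Lib.Helper1.PRDefs

/-! helper22: S3612 market "PR", leaf PRBLK (bridge to Mathlib's `IsPreprimitive` on
`SubMulAction.ofStabilizer`). -/

set_option autoImplicit false

namespace Cfsg.Agent.Lib.Helper22.PRBLK

open MulAction Cfsg.Agent.Lib.Helper1.PR
open scoped Pointwise

set_option linter.dupNamespace false in
/-- **PRBLK**.  Bridge to Mathlib: if `G_α` is transitive on the other points and has no
non-trivial block there (in the sense of `NontrivABlock`), it is primitive on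
`SubMulAction.ofStabilizer G α`.  (For a block `B'` of the subtype take `B := Subtype.val '' B'`.) -/
theorem PRBLK {G Ω : Type*} [Group G] [MulAction G Ω] (α : Ω)
    (htr : ∀ b b' : Ω, b ≠ α → b' ≠ α → ∃ g : G, g • α = α ∧ g • b = b')
    (hno : ∀ B : Set Ω, ¬ NontrivABlock G α B) :
    MulAction.IsPreprimitive ↥(stabilizer G α) ↥(SubMulAction.ofStabilizer G α) := by
  have hmem : ∀ y : ↥(SubMulAction.ofStabilizer G α), (y : Ω) ≠ α := fun y => by
    have := y.2
    rw [SubMulAction.mem_ofStabilizer_iff] at this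
    exact this
  have : MulAction.IsPretransitive ↥(stabilizer G α) ↥(SubMulAction.ofStabilizer G α) := by
    refine ⟨fun y y' => ?_⟩
    obtain ⟨g, hg, hgy⟩ := htr y y' (hmem y) (hmem y')
    refine ⟨⟨g, mem_stabilizer_iff.mpr hg⟩, ?_⟩
    apply Subtype.ext
    simpa using hgy
  refine ⟨fun {B'} hB' => ?_⟩
  by_contra hnt
  unfold IsTrivialBlock at hnt
  rw [not_or, Set.not_subsingleton_iff] at hnt
  obtain ⟨hns, hnu⟩ := hnt
  apply hno (Subtype.val '' B')
  refine ⟨⟨?_, ?_⟩, ?_, ?_⟩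
  · rintro ⟨y, -, hy⟩
    exact hmem y hy
  · intro g hg
    rcases hB'.smul_eq_or_disjoint (⟨g, mem_stabilizer_iff.mpr hg⟩ : ↥(stabilizer G α)) with h | h
    · left
      rintro _ ⟨y, hy, rfl⟩
      refine ⟨(⟨g, mem_stabilizer_iff.mpr hg⟩ : ↥(stabilizer G α)) • y, ?_, rfl⟩
      rw [← h]
      exact Set.smul_mem_smul_set hy
    · right
      rintro _ ⟨y, hy, rfl⟩ ⟨y', hy', hyy'⟩
      have : (⟨g, mem_stabilizer_iff.mpr hg⟩ : ↥(stabilizer G α)) • y = y' :=
        Subtype.ext hyy'.symm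
      exact Set.disjoint_left.mp h (Set.smul_mem_smul_set hy) (this ▸ hy')
  · obtain ⟨y, hy, y', hy', hne⟩ := hns
    exact ⟨y, ⟨y, hy, rfl⟩, y', ⟨y', hy', rfl⟩, fun h => hne (Subtype.ext h)⟩
  · have : ∃ z, z ∉ B' := by
      by_contra hall
      exact hnu (Set.eq_univ_of_forall fun z => by
        by_contra hz
        exact hall ⟨z, hz⟩)
    obtain ⟨z, hz⟩ := this
    refine ⟨z, hmem z, ?_⟩
    rintro ⟨y, hy, hyz⟩
    exact hz (Subtype.ext hyz ▸ hy)

end Cfsg.Agent.Lib.Helper22.PRBLK
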