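import Mathlib
import Cfsg.Agent.Lib.Helper1.PRDefs

/-! helper22: S3612 market "PR", leaf PRRECOORD (affine change of coordinates). -/

set_option autoImplicit false

namespace Cfsg.Agent.Lib.Helper22.PRRECOORD

open MulAction Cfsg.Agent.Lib.Helper1.PR

/-- the affine permutation `j ↦ c * j + j₀` of `ZMod p` (`c ≠ 0`) -/
def affEquiv {p : ℕ} [Fact p.Prime] (c j₀ : ZMod p) (hc : c ≠ 0) : ZMod p ≃ ZMod p where
  toFun j := c * j + j₀
  invFun j := c⁻¹ * (j - j₀)
  left_inv j := by
    simp only [add_sub_cancel_right]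
    rw [← mul_assoc, inv_mul_cancel₀ hc, one_mul]
  right_inv j := by
    simp only
    rw [← mul_assoc, mul_inv_cancel₀ hc, one_mul, sub_add_cancel]

set_option linter.dupNamespace false in
/-- **PRRECOORD**.  Affine change of coordinates: any two distinct points can be `e 0` and `e 1`.
(`e' j := e (c * j + j₀)`, `j₀ = e.symm α`, `c = e.symm β - j₀`.) -/
theorem PRRECOORD {G Ω : Type*} [Group G] [MulAction G Ω] {p : ℕ} [Fact p.Prime]
    (e : ZMod p ≃ Ω) (hC : Coord G e) (α β : Ω) (hαβ : α ≠ β) :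
    ∃ e' : ZMod p ≃ Ω, Coord G e' ∧ e' 0 = α ∧ e' 1 = β := by
  have hc : e.symm β - e.symm α ≠ 0 := by
    intro h
    exact hαβ (e.symm.injective (sub_eq_zero.mp h)).symm
  refine ⟨(affEquiv (e.symm β - e.symm α) (e.symm α) hc).trans e, ?_, ?_, ?_⟩
  · intro u b hu hsq
    obtain ⟨n, hn⟩ := hC u ((e.symm β - e.symm α) * b + e.symm α - u * e.symm α) hu hsq
    refine ⟨n, fun j => ?_⟩
    simp only [Equiv.trans_apply, affEquiv, Equiv.coe_fn_mk]
    rw [hn]
    congr 1
    ring
  · simp [affEquiv]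
  · simp [affEquiv]

end Cfsg.Agent.Lib.Helper22.PRRECOORD
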