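import Mathlib
import Cfsg.Agent.Lib.Helper1.PRDefs
import Cfsg.Agent.Lib.Helper6.PDDefs
import Cfsg.Agent.Lib.Helper6.PDCORE
import Cfsg.Agent.Lib.Helper8.PDINV
import Cfsg.Agent.Lib.Helper8.PD2T
import Cfsg.Agent.Lib.Helper23.PDCOORD
import Cfsg.Agent.Lib.Helper27.PDAFF
import Cfsg.Agent.Lib.Helper27.PDCOVER

/-! helper22: S3612 market "PR", leaf PRWIRE (wiring of the S3611 "PD" leaves: 2-transitive, at most
four orbits for two-point stabilizers, coordinates with affine Sylow normalizer). -/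

set_option autoImplicit false

namespace Cfsg.Agent.Lib.Helper22.PRWIRE

open MulAction Cfsg.Agent.Lib.Helper1.PR

set_option linter.dupNamespace false in
/-- **PRWIRE**.  The PD leaves give 2-transitivity, at most four orbits for two-point stabilizers,
and coordinates in which the Sylow normalizer is affine.  (PD2T; PDCOORD + PDAFF; PDINV + PDCOVER +
PDCORE with `g₁ = 1`, `H = G_α ⊓ G_β`, `N = N_G(P)` - the same wiring as in helper6's S3611 spine.) -/
theorem PRWIRE {G Ω : Type*} [Group G] [Finite G] [MulAction G Ω] [FaithfulSMul G Ω] [Fintype Ω]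
    [DecidableEq Ω] {p : ℕ} [Fact p.Prime] (hp2 : p ≠ 2) (hΩ : Fintype.card Ω = p)
    (htrans : MulAction.IsPretransitive G Ω) (hins : ¬ Group.IsSolvable G) (P : Sylow p G)
    (hN : 2 * Nat.card ↥(Subgroup.normalizer ((P : Subgroup G) : Set G)) = p * (p - 1)) :
    MulAction.IsMultiplyPretransitive G Ω 2 ∧
    (∀ α β : Ω, α ≠ β →
      Nat.card (MulAction.orbitRel.Quotient ↥(stabilizer G α ⊓ stabilizer G β) Ω) ≤ 4) ∧
    ∃ (x : G) (e : ZMod p ≃ Ω), x ∈ Subgroup.normalizer ((P : Subgroup G) : Set G) ∧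
      (∀ j : ZMod p, x • e j = e (j + 1)) ∧
      ∀ n ∈ Subgroup.normalizer ((P : Subgroup G) : Set G),
        ∃ u b : ZMod p, ∀ j : ZMod p, n • e j = e (u * j + b) := by
  have hinv := Cfsg.Agent.Lib.Helper8.PDINV.PDINV hΩ htrans hins
  have h2 := Cfsg.Agent.Lib.Helper8.PD2T.PD2T hΩ htrans hins
  obtain ⟨x, e, hxP, hPgen, hx⟩ := Cfsg.Agent.Lib.Helper23.PDCOORD.PDCOORD hΩ htrans P
  have hNaff : ∀ n ∈ Subgroup.normalizer ((P : Subgroup G) : Set G),
      ∃ u b : ZMod p, ∀ j : ZMod p, n • e j = e (u * j + b) :=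
    fun n hn => Cfsg.Agent.Lib.Helper27.PDAFF.PDAFF x e hx P hxP hPgen n hn
  refine ⟨h2, ?_, x, e, ?_, hx, hNaff⟩
  · intro α β hαβ
    obtain ⟨g₂, hcov⟩ := Cfsg.Agent.Lib.Helper27.PDCOVER.PDCOVER hΩ h2 e _ hNaff hN α β hαβ
    refine Cfsg.Agent.Lib.Helper6.PDCORE.PDCORE hp2 e hinv _ hNaff _ 1 g₂ ?_
    intro g
    obtain ⟨h, hh, n, hn, hg⟩ := hcov g
    exact ⟨h, hh, n, hn, by simpa using hg⟩
  · exact Subgroup.le_normalizer hxP

end Cfsg.Agent.Lib.Helper22.PRWIRE
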