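import Mathlib
import Cfsg.Prelude.Def_Solvable
import Cfsg.Prelude.Def_SolvableStructure
import Cfsg.Agent.Lib.Helper1.SqfDefs
import Cfsg.Agent.Lib.Helper1.Fitting
import Cfsg.Agent.Lib.Helper1.CoprimeAbelian
import Cfsg.Agent.Lib.Helper4.SupersolvableComm
import Cfsg.Agent.Lib.Helper17.WStable
import Cfsg.Agent.S0044

set_option autoImplicit false

namespace Cfsg.Agent.Lib.Helper22.SqfLeaf

open Subgroup Cfsg.Agent.Lib.Helper1.Sqf
open scoped commutatorElement

/-- In a finite nilpotent group the derived subgroup lies in the Frattini subgroup. -/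
theorem commutator_le_frattini_of_isNilpotent {K : Type*} [Group K] [Finite K]
    [hK : Group.IsNilpotent K] : commutator K ≤ frattini K := by
  unfold frattini Order.radical
  refine le_iInf₂ fun M hM => ?_
  have hMn : M.Normal := (Group.normalizerCondition_of_isNilpotent (G := K)).normal_of_coatom M hM
  obtain ⟨x, hx⟩ : ∃ x : K, x ∉ M := by
    by_contra hcon
    push Not at hcon
    exact hM.1 (eq_top_iff.mpr fun x _ => hcon x)
  have htop : M ⊔ zpowers x = ⊤ := by
    apply hM.2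
    refine lt_of_le_of_ne le_sup_left ?_
    intro he
    apply hx
    rw [he]
    exact le_sup_right (a := M) (mem_zpowers x)
  have hcyc : IsCyclic (K ⧸ M) := by
    refine ⟨⟨QuotientGroup.mk' M x, fun y => ?_⟩⟩
    obtain ⟨g, rfl⟩ := QuotientGroup.mk'_surjective M y
    have hg : g ∈ M ⊔ zpowers x := by rw [htop]; exact mem_top g
    obtain ⟨m, hm, z, hz, rfl⟩ := (Subgroup.mem_sup_of_normal_left (hs := hMn)).mp hg
    obtain ⟨k, rfl⟩ := Subgroup.mem_zpowers_iff.mp hz
    refine Subgroup.mem_zpowers_iff.mpr ⟨k, ?_⟩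
    have hm1 : QuotientGroup.mk' M m = 1 := (QuotientGroup.eq_one_iff m).mpr hm
    rw [map_mul, map_zpow, hm1, one_mul]
  have : IsMulCommutative (K ⧸ M) := IsCyclic.isMulCommutative
  exact Subgroup.Normal.quotient_commutative_iff_commutator_le.mp this

/-- The statement of leaf D1 (`card_le_of_small_orbits`), as a proposition about a fixed group `Y`. -/
def SmallOrbits (Y : Type*) [Group Y] [Finite Y] : Prop :=
  ∀ (p : ℕ) [Fact p.Prime]
    (V P : Subgroup Y) [V.Normal], (∀ a ∈ V, ∀ b ∈ V, a * b = b * a) →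
    (Nat.card V).Coprime p → IsPGroup p P → (∀ a ∈ P, ∀ b ∈ P, a * b = b * a) →
    (∀ u ∈ P, (∀ v ∈ V, u * v = v * u) → u = 1) →
    (∀ v ∈ V, (centralizer ({v} : Set Y)).relIndex P ≤ p) → Nat.card P ≤ p

/-- Leaf D2 modulo leaf D1 (for the quotient `Γ ⧸ Φ(F(Γ))`). -/
theorem not_sq_dvd_card_of {Γ : Type*} [Group Γ] [Finite Γ] (p : ℕ) [Fact p.Prime]
    (hD1 : ∀ N : Subgroup Γ, ∀ _ : N.Normal, SmallOrbits (Γ ⧸ N))
    (h : SF Γ) (hss : Cfsg.IsSupersolvable Γ)
    (hO : ∀ N : Subgroup Γ, N.Normal → IsPGroup p N → N = ⊥) : ¬ p ^ 2 ∣ Nat.card Γ := by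
  classical
  have hp : p.Prime := Fact.out
  set K : Subgroup Γ := Cfsg.fittingSubgroup Γ with hK
  have hKn : K.Normal := Cfsg.Agent.Lib.Helper1.fittingSubgroup_normal Γ
  have hKnil : Group.IsNilpotent K := Cfsg.Agent.Lib.Helper1.fittingSubgroup_isNilpotent Γ
  -- `p ∤ |K|`
  have hpK : ¬ p ∣ Nat.card K := by
    intro hd
    obtain ⟨PK⟩ : Nonempty (Sylow p K) := inferInstance
    have hPKn : (PK : Subgroup K).Normal := inferInstance
    have : (PK : Subgroup K).Characteristic := PK.characteristic_of_normal hPKn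
    have hn : ((PK : Subgroup K).map K.subtype).Normal :=
      ConjAct.normal_of_characteristic_of_normal
    have hb := hO _ hn (PK.isPGroup'.map _)
    have hbot : (PK : Subgroup K) = ⊥ := by
      rwa [Subgroup.map_eq_bot_iff_of_injective _ K.subtype_injective] at hb
    exact PK.ne_bot_of_dvd_card hd hbot
  have hcomK : commutator Γ ≤ K :=
    Cfsg.Agent.Lib.Helper1.le_fittingSubgroup inferInstance
      (Cfsg.Agent.Lib.Helper4.isNilpotent_commutator_of_isSupersolvable hss)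
  have hsolv : Group.IsSolvable Γ := by
    have : Group.IsNilpotent (commutator Γ) :=
      Cfsg.Agent.Lib.Helper4.isNilpotent_commutator_of_isSupersolvable hss
    exact Group.isSolvable_of_ker_le_range (commutator Γ).subtype (Abelianization.of)
      (by rw [Abelianization.ker_of, Subgroup.range_subtype])
  have hCK : centralizer (K : Set Γ) ≤ K := Cfsg.Agent.S0044.result
  obtain ⟨P₁⟩ : Nonempty (Sylow p Γ) := inferInstance
  obtain ⟨n, hn⟩ := IsPGroup.iff_card.mp P₁.isPGroup'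
  have hcopPK : (Nat.card (P₁ : Subgroup Γ)).Coprime (Nat.card K) := by
    rw [hn]
    exact Nat.Coprime.pow_left n ((Nat.Prime.coprime_iff_not_dvd hp).mpr hpK)
  have hP1K : (P₁ : Subgroup Γ) ⊓ K = ⊥ := (Subgroup.disjoint_of_coprime_natCard hcopPK).eq_bot
  have hP1ab : ∀ a ∈ (P₁ : Subgroup Γ), ∀ b ∈ (P₁ : Subgroup Γ), a * b = b * a := by
    intro a ha b hb
    rw [← commutatorElement_eq_one_iff_mul_comm]
    have h1 : ⁅a, b⁆ ∈ K := hcomK (by
      rw [_root_.commutator_def]; exact Subgroup.commutator_mem_commutator (mem_top a) (mem_top b))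
    have h2 : ⁅a, b⁆ ∈ (P₁ : Subgroup Γ) := by
      rw [commutatorElement_def]
      exact mul_mem (mul_mem (mul_mem ha hb) (inv_mem ha)) (inv_mem hb)
    have : ⁅a, b⁆ ∈ (P₁ : Subgroup Γ) ⊓ K := ⟨h2, h1⟩
    rwa [hP1K, mem_bot] at this
  -- the Frattini subgroup of `K`
  set Φ : Subgroup Γ := (frattini K).map K.subtype with hΦ
  have hΦn : Φ.Normal := ConjAct.normal_of_characteristic_of_normal
  have hΦK : Φ ≤ K := map_subtype_le _
  set π : Γ →* Γ ⧸ Φ := QuotientGroup.mk' Φ with hπ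
  have hπs : Function.Surjective π := QuotientGroup.mk'_surjective Φ
  have hπ1 : ∀ g : Γ, π g = 1 ↔ g ∈ Φ := fun g => QuotientGroup.eq_one_iff g
  set V : Subgroup (Γ ⧸ Φ) := K.map π with hV
  have hVn : V.Normal := hKn.map π hπs
  set P : Subgroup (Γ ⧸ Φ) := (P₁ : Subgroup Γ).map π with hP
  have hcommΦ : ∀ a ∈ K, ∀ b ∈ K, ⁅a, b⁆ ∈ Φ := by
    intro a ha b hb
    have h1 : ⁅(⟨a, ha⟩ : K), ⟨b, hb⟩⁆ ∈ frattini K := commutator_le_frattini_of_isNilpotent (by
      rw [_root_.commutator_def]; exact Subgroup.commutator_mem_commutator (mem_top _) (mem_top _))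
    exact ⟨_, h1, rfl⟩
  have hVab : ∀ a ∈ V, ∀ b ∈ V, a * b = b * a := by
    rintro _ ⟨a, ha, rfl⟩ _ ⟨b, hb, rfl⟩
    rw [← commutatorElement_eq_one_iff_mul_comm, ← map_commutatorElement, hπ1]
    exact hcommΦ a ha b hb
  have hVp : (Nat.card V).Coprime p := by
    have h1 : Nat.card V ∣ Nat.card K := Subgroup.card_map_dvd K π
    exact (Nat.Coprime.coprime_dvd_left h1
      ((Nat.Prime.coprime_iff_not_dvd hp).mpr hpK).symm)
  have hPp : IsPGroup p P := P₁.isPGroup'.map π
  have hPab : ∀ a ∈ P, ∀ b ∈ P, a * b = b * a := by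
    rintro _ ⟨a, ha, rfl⟩ _ ⟨b, hb, rfl⟩
    rw [← map_mul, ← map_mul, hP1ab a ha b hb]
  have hfaith : ∀ u ∈ P, (∀ v ∈ V, u * v = v * u) → u = 1 := by
    rintro _ ⟨u, hu, rfl⟩ hcent
    have hcomm : ⁅K, zpowers u⁆ ≤ (frattini ↥K).map K.subtype := by
      rw [Subgroup.commutator_le]
      intro k hk z hz
      obtain ⟨j, rfl⟩ := Subgroup.mem_zpowers_iff.mp hz
      change ⁅k, u ^ j⁆ ∈ Φ
      rw [← hπ1, map_commutatorElement, commutatorElement_eq_one_iff_mul_comm, map_zpow]
      have := hcent (π k) ⟨k, hk, rfl⟩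
      exact ((Commute.zpow_left this j).eq).symm
    have hnorm : zpowers u ≤ normalizer (K : Set Γ) := by
      rw [Subgroup.normalizer_eq_top]; exact le_top
    obtain ⟨m, hm⟩ := (IsPGroup.iff_orderOf.mp P₁.isPGroup') ⟨u, hu⟩
    rw [Subgroup.orderOf_mk] at hm
    have hcop : (Nat.card (zpowers u)).Coprime (Nat.card K) := by
      rw [Nat.card_zpowers, hm]
      exact Nat.Coprime.pow_left m ((Nat.Prime.coprime_iff_not_dvd hp).mpr hpK)
    have h1 := Cfsg.Agent.Lib.Helper17.le_centralizer_of_commutator_le_frattini K (zpowers u) hnorm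
      hcop (Or.inl inferInstance) hcomm
    have h2 : u ∈ centralizer (K : Set Γ) :=
      Subgroup.le_centralizer_iff.1 h1 (mem_zpowers u)
    have h3 : u ∈ (P₁ : Subgroup Γ) ⊓ K := ⟨hu, hCK h2⟩
    rw [hP1K, mem_bot] at h3
    rw [h3, map_one]
  have hcomV : ∀ y₁ y₂ : Γ ⧸ Φ, ⁅y₁, y₂⁆ ∈ V := by
    intro y₁ y₂
    obtain ⟨g₁, rfl⟩ := hπs y₁
    obtain ⟨g₂, rfl⟩ := hπs y₂
    rw [← map_commutatorElement]
    refine ⟨_, hcomK ?_, rfl⟩
    rw [_root_.commutator_def]; exact Subgroup.commutator_mem_commutator (mem_top _) (mem_top _)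
  have horb : ∀ v ∈ V, (centralizer ({v} : Set (Γ ⧸ Φ))).relIndex P ≤ p := by
    intro v hv
    set C := centralizer ({v} : Set (Γ ⧸ Φ)) with hC
    have hVC : V ≤ C := by
      intro w hw
      rw [hC, mem_centralizer_singleton_iff]
      exact hVab w hw v hv
    have hCn : C.Normal := by
      constructor
      intro c hc g
      have : g * c * g⁻¹ = ⁅g, c⁆ * c := by rw [commutatorElement_def]; group
      rw [this]
      exact C.mul_mem (hVC (hcomV g c)) hc
    have h1 : C.relIndex P ∣ C.index := Subgroup.relIndex_dvd_index_of_normal C P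
    have h2 : Squarefree C.index := (h.quotient Φ) v
    have h3 : C.relIndex P ∣ Nat.card P := Subgroup.relIndex_dvd_card C P
    obtain ⟨m, hm⟩ := IsPGroup.iff_card.mp hPp
    rw [hm] at h3
    obtain ⟨j, hj, hjeq⟩ := (Nat.dvd_prime_pow hp).mp h3
    have h4 : Squarefree (p ^ j) := by
      rw [← hjeq]; exact Squarefree.squarefree_of_dvd h1 h2
    rw [hjeq]
    rcases Nat.lt_or_ge j 2 with hj2 | hj2
    · interval_cases j
      · simpa using hp.one_le
      · simp
    · exfalso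
      have : p * p ∣ p ^ j := by
        rw [← pow_two]; exact pow_dvd_pow p hj2
      exact hp.one_lt.ne' (Nat.isUnit_iff.mp (h4 p this))
  have hfin := hD1 Φ hΦn p V P hVab hVp hPp hPab hfaith horb
  -- `|P| = |P₁|`
  have hcard : Nat.card P = Nat.card (P₁ : Subgroup Γ) := by
    have hinj : Function.Injective (π.comp (P₁ : Subgroup Γ).subtype) := by
      rw [← MonoidHom.ker_eq_bot_iff, eq_bot_iff]
      intro x hx
      rw [MonoidHom.mem_ker, MonoidHom.comp_apply, hπ1] at hx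
      have : (x : Γ) ∈ (P₁ : Subgroup Γ) ⊓ K := ⟨x.2, hΦK hx⟩
      rw [hP1K, mem_bot] at this
      exact Subtype.ext this
    have hrange : (π.comp (P₁ : Subgroup Γ).subtype).range = P := by
      rw [MonoidHom.range_comp, Subgroup.range_subtype]
    rw [← hrange]
    exact (Nat.card_congr (MonoidHom.ofInjective hinj).toEquiv).symm
  rw [hcard] at hfin
  intro hdvd
  have h1 : Nat.card Γ = Nat.card (P₁ : Subgroup Γ) * (P₁ : Subgroup Γ).index :=
    (Subgroup.card_mul_index _).symm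
  have h2 : ¬ p ∣ (P₁ : Subgroup Γ).index := P₁.not_dvd_index
  have h3 : p ^ 2 ∣ Nat.card (P₁ : Subgroup Γ) := by
    rw [h1] at hdvd
    exact Nat.Coprime.dvd_of_dvd_mul_right
      (Nat.Coprime.pow_left 2 ((Nat.Prime.coprime_iff_not_dvd hp).mpr h2)) hdvd
  have h4 : p ^ 2 ≤ Nat.card (P₁ : Subgroup Γ) := Nat.le_of_dvd Nat.card_pos h3
  have h5 : p < p ^ 2 := by
    have := hp.one_lt
    nlinarith
  omega

end Cfsg.Agent.Lib.Helper22.SqfLeaf
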