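import Mathlib
import Cfsg.Agent.Lib.Helper8.TW.Defs
import Cfsg.Agent.Lib.Helper20.AschA89WR
import Cfsg.Agent.Lib.Helper20.AschA89F2J

/-!
S5641 (T) market, block TE (splitting off position `i`): basic entry lemmas for `ins`, `ext`, `slot` and the
short leaves TE1, TE2, TE3, TE5, TE6, TE7, TE14, TE15, TE17, TE18.
-/

set_option autoImplicit false
set_option linter.unusedSectionVars false
set_option linter.unusedVariables false

namespace Cfsg.Agent.Lib.Helper22.TWLeaf
open Matrix Cfsg.Geo Cfsg.Agent.Lib.Helper18.AschA89 Cfsg.Agent.Lib.Helper20.AschLeaf Cfsg.Agent.Lib.Helper8.TW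

variable {F : Type*} [Field F] {t m : ℕ}

/-! ### basics on `ins` -/

lemma ins_surj (i : Fin (t + 1)) (x : Idx (t + 1) m) : ∃ a u, x = ins i a u :=
  ⟨x i, fun j => x (i.succAbove j), (ins_rem i x).symm⟩

lemma ins_comp (i : Fin (t + 1)) (a : Fin m) (u : Idx t m) :
    (fun j => ins i a u (i.succAbove j)) = u := funext (ins_succAbove i a u)

lemma ins_inj (i : Fin (t + 1)) (a b : Fin m) (u u' : Idx t m) :
    ins i a u = ins i b u' ↔ a = b ∧ u = u' := by
  constructor
  · intro h
    refine ⟨?_, ?_⟩
    · have := congrFun h i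
      rwa [ins_same, ins_same] at this
    · funext j
      have := congrFun h (i.succAbove j)
      rwa [ins_succAbove, ins_succAbove] at this
  · rintro ⟨rfl, rfl⟩; rfl

lemma update_ins (i : Fin (t + 1)) (a c : Fin m) (u : Idx t m) :
    Function.update (ins i a u) i c = ins i c u := by
  funext k
  rcases Fin.eq_self_or_eq_succAbove i k with rfl | ⟨j, rfl⟩
  · rw [Function.update_self, ins_same]
  · rw [Function.update_of_ne (Fin.succAbove_ne i j), ins_succAbove, ins_succAbove]

lemma update_ins_succAbove (i : Fin (t + 1)) (j : Fin t) (a c : Fin m) (u : Idx t m) :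
    Function.update (ins i a u) (i.succAbove j) c = ins i a (Function.update u j c) := by
  funext k
  rcases Fin.eq_self_or_eq_succAbove i k with rfl | ⟨l, rfl⟩
  · rw [Function.update_of_ne (Fin.succAbove_ne k j).symm, ins_same, ins_same]
  · rw [ins_succAbove]
    by_cases hl : l = j
    · subst hl
      rw [Function.update_self, Function.update_self]
    · rw [Function.update_of_ne hl, Function.update_of_ne, ins_succAbove]
      intro h
      exact hl (Fin.succAbove_right_injective h)

lemma update_eq_ins (i : Fin (t + 1)) (x : Idx (t + 1) m) (c : Fin m) :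
    Function.update x i c = ins i c (fun j => x (i.succAbove j)) := by
  conv_lhs => rw [← ins_rem i x]
  rw [update_ins]

/-! ### entries of `ext` and `slot` in `ins`-coordinates -/

lemma ext_apply (i : Fin (t + 1)) (γ : Matrix (Idx t m) (Idx t m) F) (x x' : Idx (t + 1) m) :
    Cfsg.Agent.Lib.Helper8.TW.ext i γ x x' =
      if x i = x' i then γ (fun j => x (i.succAbove j)) (fun j => x' (i.succAbove j)) else 0 := rfl

lemma ext_ins (i : Fin (t + 1)) (γ : Matrix (Idx t m) (Idx t m) F) (a b : Fin m) (u u' : Idx t m) :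
    Cfsg.Agent.Lib.Helper8.TW.ext i γ (ins i a u) (ins i b u') = if a = b then γ u u' else 0 := by
  rw [ext_apply]
  simp only [ins_same, ins_comp]

lemma slot_ins (i : Fin (t + 1)) (A : Matrix (Fin m) (Fin m) F) (a b : Fin m) (u u' : Idx t m) :
    slot m (t + 1) i A (ins i a u) (ins i b u') = if u = u' then A a b else 0 := by
  rw [slot_apply, ins_same, ins_same]
  have : (∀ j, j ≠ i → ins i a u j = ins i b u' j) ↔ u = u' := by
    constructor
    · intro h
      funext j
      have := h (i.succAbove j) (Fin.succAbove_ne i j)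
      rwa [ins_succAbove, ins_succAbove] at this
    · rintro rfl j hj
      obtain ⟨k, rfl⟩ := Fin.exists_succAbove_eq hj
      rw [ins_succAbove, ins_succAbove]
  simp only [this]

lemma slot_ins_succAbove (i : Fin (t + 1)) (j : Fin t) (A : Matrix (Fin m) (Fin m) F) (a b : Fin m)
    (u u' : Idx t m) :
    slot m (t + 1) (i.succAbove j) A (ins i a u) (ins i b u') = if a = b then slot m t j A u u' else 0 := by
  rw [slot_apply, slot_apply, ins_succAbove, ins_succAbove]
  by_cases hab : a = b
  · subst hab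
    rw [if_pos rfl]
    have : (∀ k, k ≠ i.succAbove j → ins i a u k = ins i a u' k) ↔ (∀ l, l ≠ j → u l = u' l) := by
      constructor
      · intro h l hl
        have := h (i.succAbove l) (fun h' => hl (Fin.succAbove_right_injective h'))
        rwa [ins_succAbove, ins_succAbove] at this
      · intro h k hk
        rcases Fin.eq_self_or_eq_succAbove i k with rfl | ⟨l, rfl⟩
        · rw [ins_same, ins_same]
        · rw [ins_succAbove, ins_succAbove]
          exact h l (fun h' => hk (by rw [h']))
    simp only [this]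
  · rw [if_neg hab, if_neg]
    intro h
    apply hab
    have := h i (Fin.succAbove_ne i j).symm
    rwa [ins_same, ins_same] at this

/-- entries of `ext i γ * slot i A` -/
lemma ext_mul_slot_ins (i : Fin (t + 1)) (γ : Matrix (Idx t m) (Idx t m) F) (A : Matrix (Fin m) (Fin m) F)
    (a b : Fin m) (u u' : Idx t m) :
    (ext i γ * slot m (t + 1) i A) (ins i a u) (ins i b u') = γ u u' * A a b := by
  rw [Matrix.mul_apply, sum_ins i]
  simp only [ext_ins, slot_ins]
  rw [Finset.sum_eq_single a]
  · rw [Finset.sum_eq_single u']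
    · rw [if_pos rfl, if_pos rfl]
    · intro w _ hw
      rw [if_neg hw, mul_zero]
    · intro h; exact absurd (Finset.mem_univ _) h
  · intro c _ hc
    apply Finset.sum_eq_zero
    intro w _
    rw [if_neg (Ne.symm hc), zero_mul]
  · intro h; exact absurd (Finset.mem_univ _) h

/-- entries of `slot i A * ext i γ` -/
lemma slot_mul_ext_ins (i : Fin (t + 1)) (γ : Matrix (Idx t m) (Idx t m) F) (A : Matrix (Fin m) (Fin m) F)
    (a b : Fin m) (u u' : Idx t m) :
    (slot m (t + 1) i A * ext i γ) (ins i a u) (ins i b u') = γ u u' * A a b := by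
  rw [Matrix.mul_apply, sum_ins i]
  simp only [ext_ins, slot_ins]
  rw [Finset.sum_eq_single b]
  · rw [Finset.sum_eq_single u]
    · rw [if_pos rfl, if_pos rfl, mul_comm]
    · intro w _ hw
      rw [if_neg (Ne.symm hw), zero_mul]
    · intro h; exact absurd (Finset.mem_univ _) h
  · intro c _ hc
    apply Finset.sum_eq_zero
    intro w _
    rw [if_neg hc, mul_zero]
  · intro h; exact absurd (Finset.mem_univ _) h

/-- matrices on `Idx (t+1) m` are equal iff they agree in `ins`-coordinates -/
lemma mat_ext_ins (i : Fin (t + 1)) {M M' : Matrix (Idx (t + 1) m) (Idx (t + 1) m) F}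
    (h : ∀ a b u u', M (ins i a u) (ins i b u') = M' (ins i a u) (ins i b u')) : M = M' := by
  ext x x'
  obtain ⟨a, u, rfl⟩ := ins_surj i x
  obtain ⟨b, u', rfl⟩ := ins_surj i x'
  exact h a b u u'

/-- vectors on `Idx (t+1) m` are equal iff they agree in `ins`-coordinates -/
lemma vec_ext_ins (i : Fin (t + 1)) {v w : Idx (t + 1) m → F}
    (h : ∀ a u, v (ins i a u) = w (ins i a u)) : v = w := by
  funext x
  obtain ⟨a, u, rfl⟩ := ins_surj i x
  exact h a u

/-! ### the leaves -/

/-- TE1 (S) -/
theorem ext_slot (i : Fin (t + 1)) (j : Fin t) (A : Matrix (Fin m) (Fin m) F) :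
    ext i (slot m t j A) = slot m (t + 1) (i.succAbove j) A := by
  apply mat_ext_ins i
  intro a b u u'
  rw [ext_ins, slot_ins_succAbove]

/-- TE2 (S) -/
theorem ext_comm_slot (i : Fin (t + 1)) (γ : Matrix (Idx t m) (Idx t m) F) (A : Matrix (Fin m) (Fin m) F) :
    ext i γ * slot m (t + 1) i A = slot m (t + 1) i A * ext i γ := by
  apply mat_ext_ins i
  intro a b u u'
  rw [ext_mul_slot_ins, slot_mul_ext_ins]

/-- TE3 (S) entries of "`γ ⊗ A`" -/
theorem ext_mul_slot_apply (i : Fin (t + 1)) (γ : Matrix (Idx t m) (Idx t m) F) (A : Matrix (Fin m) (Fin m) F)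
    (a b : Fin m) (u u' : Idx t m) :
    (ext i γ * slot m (t + 1) i A) (ins i a u) (ins i b u') = γ u u' * A a b :=
  ext_mul_slot_ins i γ A a b u u'

/-- TE5 (S) block decomposition -/
theorem eq_sum_blkAt (i : Fin (t + 1)) (M : Matrix (Idx (t + 1) m) (Idx (t + 1) m) F) :
    M = ∑ a, ∑ b, ext i (blkAt i M a b) * slot m (t + 1) i (Matrix.single a b (1 : F)) := by
  apply mat_ext_ins i
  intro a' b' u u'
  rw [Matrix.sum_apply]
  simp only [Matrix.sum_apply, ext_mul_slot_ins]
  rw [Finset.sum_eq_single a']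
  · rw [Finset.sum_eq_single b']
    · rw [Matrix.single_apply_same, mul_one]
      rfl
    · intro b _ hb
      rw [Matrix.single_apply_of_ne, mul_zero]
      intro h
      exact hb h.2
    · intro h; exact absurd (Finset.mem_univ _) h
  · intro a _ ha
    apply Finset.sum_eq_zero
    intro b _
    rw [Matrix.single_apply_of_ne, mul_zero]
    intro h
    exact ha h.1
  · intro h; exact absurd (Finset.mem_univ _) h

/-- TE6 (S) [`sum_ins`] -/
theorem blkAt_mul (i : Fin (t + 1)) (M M' : Matrix (Idx (t + 1) m) (Idx (t + 1) m) F) (a b : Fin m) :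
    blkAt i (M * M') a b = ∑ c, blkAt i M a c * blkAt i M' c b := by
  ext u u'
  rw [Matrix.sum_apply]
  simp only [blkAt, Matrix.mul_apply]
  rw [sum_ins i]

/-- TE7 (S) -/
theorem blkAt_ext_mul_slot (i : Fin (t + 1)) (γ : Matrix (Idx t m) (Idx t m) F) (A : Matrix (Fin m) (Fin m) F)
    (a b : Fin m) :
    blkAt i (ext i γ * slot m (t + 1) i A) a b = A a b • γ := by
  ext u u'
  rw [Matrix.smul_apply, smul_eq_mul, mul_comm]
  exact ext_mul_slot_ins i γ A a b u u'

/-- TE14a (S) -/
theorem ext_mulVec_tens (i : Fin (t + 1)) (γ : Matrix (Idx t m) (Idx t m) F) (b : Idx t m → F) (a : Fin m → F) :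
    ext i γ *ᵥ tens i b a = tens i (γ *ᵥ b) a := by
  apply vec_ext_ins i
  intro c u
  rw [Matrix.mulVec, dotProduct, sum_ins i]
  simp only [ext_ins, tens, ins_same, ins_comp]
  rw [Finset.sum_eq_single c]
  · rw [Matrix.mulVec, dotProduct, Finset.sum_mul]
    apply Finset.sum_congr rfl
    intro w _
    rw [if_pos rfl]
    ring
  · intro c' _ hc
    apply Finset.sum_eq_zero
    intro w _
    rw [if_neg (Ne.symm hc), zero_mul]
  · intro h; exact absurd (Finset.mem_univ _) h

/-- TE14b (S) -/
theorem slot_mulVec_tens (i : Fin (t + 1)) (A : Matrix (Fin m) (Fin m) F) (b : Idx t m → F) (a : Fin m → F) :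
    slot m (t + 1) i A *ᵥ tens i b a = tens i b (A *ᵥ a) := by
  apply vec_ext_ins i
  intro c u
  rw [Matrix.mulVec, dotProduct, sum_ins i]
  simp only [slot_ins, tens, ins_same, ins_comp]
  rw [Matrix.mulVec, dotProduct, Finset.mul_sum]
  apply Finset.sum_congr rfl
  intro c' _
  rw [Finset.sum_eq_single u]
  · rw [if_pos rfl]
    ring
  · intro w _ hw
    rw [if_neg (Ne.symm hw), zero_mul]
  · intro h; exact absurd (Finset.mem_univ _) h

/-- TE15a (S) -/
theorem ctr_tens (i : Fin (t + 1)) (ξ : Fin m → F) (b : Idx t m → F) (a : Fin m → F) :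
    ctr i ξ (tens i b a) = (ξ ⬝ᵥ a) • b := by
  funext u
  simp only [ctr, tens, ins_same, ins_comp, Pi.smul_apply, smul_eq_mul, dotProduct]
  rw [Finset.sum_mul]
  apply Finset.sum_congr rfl
  intro c _
  ring

/-- TE15b (S) -/
theorem mem_Cf_iff_ctr (i : Fin (t + 1)) (η : Fin m → F) (v : Idx (t + 1) m → F) :
    v ∈ Cf i η ↔ ctr i η v = 0 := by
  unfold Cf
  rw [mem_fib]
  constructor
  · intro h
    funext u
    rcases Nat.eq_zero_or_pos m with hm | hm
    · subst hm
      simp [ctr]
    · have := h (ins i ⟨0, hm⟩ u)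
      rw [mem_kerF] at this
      simp only [ctr, Pi.zero_apply]
      rw [← this, dotProduct]
      apply Finset.sum_congr rfl
      intro c _
      simp only [slice, update_ins]
  · intro h x
    rw [mem_kerF]
    have := congrFun h (fun j => x (i.succAbove j))
    simp only [ctr, Pi.zero_apply] at this
    rw [← this, dotProduct]
    apply Finset.sum_congr rfl
    intro c _
    simp only [slice, update_eq_ins]

/-- TE15c (S) -/
theorem ctr_ext_mulVec (i : Fin (t + 1)) (ξ : Fin m → F) (γ : Matrix (Idx t m) (Idx t m) F) (v : Idx (t + 1) m → F) :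
    ctr i ξ (ext i γ *ᵥ v) = γ *ᵥ ctr i ξ v := by
  funext u
  simp only [ctr, Matrix.mulVec, dotProduct]
  have h1 : ∀ a : Fin m, (∑ x, ext i γ (ins i a u) x * v x) = ∑ w, γ u w * v (ins i a w) := by
    intro a
    rw [sum_ins i]
    simp only [ext_ins]
    rw [Finset.sum_eq_single a]
    · apply Finset.sum_congr rfl
      intro w _
      rw [if_pos rfl]
    · intro c _ hc
      apply Finset.sum_eq_zero
      intro w _
      rw [if_neg (Ne.symm hc), zero_mul]
    · intro h; exact absurd (Finset.mem_univ _) h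
  simp only [h1, Finset.mul_sum]
  rw [Finset.sum_comm]
  apply Finset.sum_congr rfl
  intro w _
  apply Finset.sum_congr rfl
  intro a _
  ring

/-- TE15d (S) -/
theorem ctr_slot_mulVec (i : Fin (t + 1)) (ξ : Fin m → F) (A : Matrix (Fin m) (Fin m) F) (v : Idx (t + 1) m → F) :
    ctr i ξ (slot m (t + 1) i A *ᵥ v) = ctr i (ξ ᵥ* A) v := by
  funext u
  simp only [ctr, Matrix.mulVec, Matrix.vecMul, dotProduct]
  have h1 : ∀ a : Fin m, (∑ x, slot m (t + 1) i A (ins i a u) x * v x) = ∑ c, A a c * v (ins i c u) := by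
    intro a
    rw [sum_ins i]
    simp only [slot_ins]
    apply Finset.sum_congr rfl
    intro c _
    rw [Finset.sum_eq_single u]
    · rw [if_pos rfl]
    · intro w _ hw
      rw [if_neg (Ne.symm hw), zero_mul]
    · intro h; exact absurd (Finset.mem_univ _) h
  simp only [h1, Finset.mul_sum, Finset.sum_mul]
  rw [Finset.sum_comm]
  apply Finset.sum_congr rfl
  intro c _
  apply Finset.sum_congr rfl
  intro a _
  ring

/-- TE15e (S) `ctr` is linear in `v` and in `ξ` -/
theorem ctr_add (i : Fin (t + 1)) (ξ : Fin m → F) (v w : Idx (t + 1) m → F) :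
    ctr i ξ (v + w) = ctr i ξ v + ctr i ξ w := by
  funext u
  simp only [ctr, Pi.add_apply, mul_add, Finset.sum_add_distrib]

theorem ctr_smul (i : Fin (t + 1)) (ξ : Fin m → F) (c : F) (v : Idx (t + 1) m → F) :
    ctr i ξ (c • v) = c • ctr i ξ v := by
  funext u
  simp only [ctr, Pi.smul_apply, smul_eq_mul, Finset.mul_sum]
  apply Finset.sum_congr rfl
  intro a _
  ring

/-- TE17 (S) contraction at position `i` of a fibre at another position -/
theorem ctr_mem_fib (i : Fin (t + 1)) (j : Fin t) (S : Submodule F (Fin m → F)) (ξ : Fin m → F)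
    (v : Idx (t + 1) m → F) (hv : v ∈ fib (i.succAbove j) S) : ctr i ξ v ∈ fib j S := by
  rw [mem_fib] at hv ⊢
  intro u
  have : slice j u (ctr i ξ v) = ∑ c, ξ c • slice (i.succAbove j) (ins i c u) v := by
    funext a
    simp only [slice, ctr, Finset.sum_apply, Pi.smul_apply, smul_eq_mul, update_ins_succAbove]
  rw [this]
  exact S.sum_mem fun c _ => S.smul_mem _ (hv _)

/-- TE18 (S) -/
theorem tens_mem_fib_succAbove (i : Fin (t + 1)) (j : Fin t) (S : Submodule F (Fin m → F)) (b : Idx t m → F)
    (a : Fin m → F) (hb : b ∈ fib j S) : tens i b a ∈ fib (i.succAbove j) S := by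
  rw [mem_fib] at hb ⊢
  intro x
  obtain ⟨c, u, rfl⟩ := ins_surj i x
  have : slice (i.succAbove j) (ins i c u) (tens i b a) = a c • slice j u b := by
    funext d
    simp only [slice, tens, update_ins_succAbove, ins_same, ins_comp, Pi.smul_apply, smul_eq_mul]
    ring
  rw [this]
  exact S.smul_mem _ (hb u)

end Cfsg.Agent.Lib.Helper22.TWLeaf
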