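import Mathlib
import Cfsg.Agent.Lib.Helper8.TW.Defs
import Cfsg.Agent.Lib.Helper20.AschA89WR
import Cfsg.Agent.Lib.Helper20.AschA89F2J
import Cfsg.Agent.Lib.Helper22.TWExtBasic

/-!
S5641 (T) market, block TE (splitting off position `i`): the leaves TE4, TE8, TE9, TE10, TE11, TE12, TE13, TE16.
-/

set_option autoImplicit false
set_option linter.unusedSectionVars false
set_option linter.unusedVariables false

namespace Cfsg.Agent.Lib.Helper22.TWLeaf
open Matrix Cfsg.Geo Cfsg.Agent.Lib.Helper18.AschA89 Cfsg.Agent.Lib.Helper20.AschLeaf Cfsg.Agent.Lib.Helper8.TW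
open scoped Kronecker

variable {F : Type*} [Field F] {t m : ℕ}

/-- entries of `M * slot i A` -/
lemma mul_slot_ins (i : Fin (t + 1)) (M : Matrix (Idx (t + 1) m) (Idx (t + 1) m) F) (A : Matrix (Fin m) (Fin m) F)
    (a b : Fin m) (u u' : Idx t m) :
    (M * slot m (t + 1) i A) (ins i a u) (ins i b u') = ∑ c, M (ins i a u) (ins i c u') * A c b := by
  rw [Matrix.mul_apply, sum_ins i]
  simp only [slot_ins]
  apply Finset.sum_congr rfl
  intro c _
  rw [Finset.sum_eq_single u']
  · rw [if_pos rfl]
  · intro w _ hw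
    rw [if_neg hw, mul_zero]
  · intro h; exact absurd (Finset.mem_univ _) h

/-- entries of `slot i A * M` -/
lemma slot_mul_ins (i : Fin (t + 1)) (M : Matrix (Idx (t + 1) m) (Idx (t + 1) m) F) (A : Matrix (Fin m) (Fin m) F)
    (a b : Fin m) (u u' : Idx t m) :
    (slot m (t + 1) i A * M) (ins i a u) (ins i b u') = ∑ c, A a c * M (ins i c u) (ins i b u') := by
  rw [Matrix.mul_apply, sum_ins i]
  simp only [slot_ins]
  apply Finset.sum_congr rfl
  intro c _
  rw [Finset.sum_eq_single u]
  · rw [if_pos rfl]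
  · intro w _ hw
    rw [if_neg (Ne.symm hw), zero_mul]
  · intro h; exact absurd (Finset.mem_univ _) h

/-- TE4 (M) the commutant of the slot-`i` algebra is the range of `ext i` -/
theorem exists_ext_of_commute (i : Fin (t + 1)) (M : Matrix (Idx (t + 1) m) (Idx (t + 1) m) F)
    (hM : ∀ A : Matrix (Fin m) (Fin m) F, M * slot m (t + 1) i A = slot m (t + 1) i A * M) :
    ∃ γ : Matrix (Idx t m) (Idx t m) F, M = Cfsg.Agent.Lib.Helper8.TW.ext i γ := by
  rcases Nat.eq_zero_or_pos m with hm | hm
  · subst hm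
    refine ⟨0, ?_⟩
    ext x x'
    exact (x i).elim0
  set a₀ : Fin m := ⟨0, hm⟩ with ha₀
  refine ⟨blkAt i M a₀ a₀, ?_⟩
  have key : ∀ (a b c d : Fin m) (u u' : Idx t m),
      (if d = b then M (ins i a u) (ins i c u') else 0) =
        (if c = a then M (ins i d u) (ins i b u') else 0) := by
    intro a b c d u u'
    have h := congrFun (congrFun (hM (Matrix.single c d (1 : F))) (ins i a u)) (ins i b u')
    rw [mul_slot_ins, slot_mul_ins] at h
    rw [Finset.sum_eq_single c, Finset.sum_eq_single d] at h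
    · by_cases hdb : d = b
      · subst hdb
        rw [Matrix.single_apply_same, mul_one] at h
        rw [if_pos rfl, h]
        by_cases hca : c = a
        · subst hca
          rw [Matrix.single_apply_same, one_mul, if_pos rfl]
        · rw [Matrix.single_apply_of_ne, zero_mul, if_neg hca]
          intro h'
          exact hca h'.1
      · rw [Matrix.single_apply_of_ne (h := fun h' => hdb h'.2), mul_zero] at h
        rw [if_neg hdb, h]
        by_cases hca : c = a
        · subst hca
          rw [Matrix.single_apply_same, one_mul, if_pos rfl]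
        · rw [Matrix.single_apply_of_ne, zero_mul, if_neg hca]
          intro h'
          exact hca h'.1
    · intro c' _ hc'
      rw [Matrix.single_apply_of_ne, zero_mul]
      intro h'
      exact hc' h'.2.symm
    · intro h'; exact absurd (Finset.mem_univ _) h'
    · intro c' _ hc'
      rw [Matrix.single_apply_of_ne, mul_zero]
      intro h'
      exact hc' h'.1.symm
    · intro h'; exact absurd (Finset.mem_univ _) h'
  apply mat_ext_ins i
  intro a b u u'
  rw [ext_ins]
  by_cases hab : a = b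
  · subst hab
    rw [if_pos rfl]
    have := key a a₀ a a₀ u u'
    rw [if_pos rfl, if_pos rfl] at this
    exact this
  · rw [if_neg hab]
    have := key a b b b u u'
    rw [if_pos rfl, if_neg (Ne.symm hab)] at this
    exact this

/-- TE8 (S), for `0 < m`.  (The statement without a hypothesis fails for `t = 0`, `m = 0`: then `Idx 0 0` is a singleton
but `Idx 1 0` is empty.) -/
theorem ext_injective_of_pos (hm : 0 < m) (i : Fin (t + 1)) (γ γ' : Matrix (Idx t m) (Idx t m) F)
    (h : Cfsg.Agent.Lib.Helper8.TW.ext i γ = Cfsg.Agent.Lib.Helper8.TW.ext i γ') : γ = γ' := by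
  ext u u'
  have := congrFun (congrFun h (ins i ⟨0, hm⟩ u)) (ins i ⟨0, hm⟩ u')
  rwa [ext_ins, ext_ins, if_pos rfl, if_pos rfl] at this

/-- TE8 (S), for `0 < t` -/
theorem ext_injective_of_pos_t (ht : 0 < t) (i : Fin (t + 1)) (γ γ' : Matrix (Idx t m) (Idx t m) F)
    (h : Cfsg.Agent.Lib.Helper8.TW.ext i γ = Cfsg.Agent.Lib.Helper8.TW.ext i γ') : γ = γ' := by
  rcases Nat.eq_zero_or_pos m with hm | hm
  · subst hm
    ext u u'
    exact (u ⟨0, ht⟩).elim0
  · exact ext_injective_of_pos hm i γ γ' h

/-- TE9 (M) -/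
theorem det_ext (i : Fin (t + 1)) (γ : Matrix (Idx t m) (Idx t m) F) :
    (Cfsg.Agent.Lib.Helper8.TW.ext i γ).det = γ.det ^ m := by
  set e : Fin m × Idx t m ≃ Idx (t + 1) m := Fin.insertNthEquiv (fun _ => Fin m) i with he
  have h1 : (Cfsg.Agent.Lib.Helper8.TW.ext i γ).submatrix e e = (1 : Matrix (Fin m) (Fin m) F) ⊗ₖ γ := by
    ext ⟨a, u⟩ ⟨b, u'⟩
    rw [Matrix.submatrix_apply, Matrix.kroneckerMap_apply, Matrix.one_apply]
    have : ∀ (c : Fin m) (w : Idx t m), e (c, w) = ins i c w := fun c w => rfl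
    rw [this, this, ext_ins]
    split_ifs <;> simp
  rw [← Matrix.det_submatrix_equiv_self e, h1, Matrix.det_kronecker, Matrix.det_one, one_pow, one_mul,
    Fintype.card_fin]

/-- TE10 (M) -/
theorem ext_fperm (i : Fin (t + 1)) (σ : Equiv.Perm (Fin t)) :
    ∃ σ' : Equiv.Perm (Fin (t + 1)), σ' i = i ∧ (∀ j, σ' (i.succAbove j) = i.succAbove (σ j)) ∧
      Cfsg.Agent.Lib.Helper8.TW.ext i (fperm (F := F) m t σ) = fperm m (t + 1) σ' := by
  classical
  set σ' : Equiv.Perm (Fin (t + 1)) := σ.extendDomain (finSuccAboveEquiv i) with hσ'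
  have h1 : σ' i = i := by
    rw [hσ']
    exact Equiv.Perm.extendDomain_apply_not_subtype σ (finSuccAboveEquiv i) (fun h => h rfl)
  have h2 : ∀ j, σ' (i.succAbove j) = i.succAbove (σ j) := by
    intro j
    exact Equiv.Perm.extendDomain_apply_image σ (finSuccAboveEquiv i) j
  refine ⟨σ', h1, h2, ?_⟩
  apply mat_ext_ins i
  intro a b u u'
  rw [ext_ins, fperm_apply, fperm_apply]
  have hcomp : (ins i a u) ∘ σ' = ins i a (u ∘ σ) := by
    funext k
    rcases Fin.eq_self_or_eq_succAbove i k with rfl | ⟨j, rfl⟩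
    · rw [Function.comp_apply, h1, ins_same, ins_same]
    · rw [Function.comp_apply, h2, ins_succAbove, ins_succAbove]
      rfl
  rw [hcomp]
  by_cases hab : a = b
  · subst hab
    rw [if_pos rfl]
    by_cases hu : u' = u ∘ σ
    · rw [if_pos hu, if_pos (by rw [hu])]
    · rw [if_neg hu, if_neg]
      intro h
      exact hu ((ins_inj i _ _ _ _).mp h).2
  · rw [if_neg hab, if_neg]
    intro h
    exact hab ((ins_inj i _ _ _ _).mp h).1.symm

/-- TE11 (S) -/
theorem ext_ptens (i : Fin (t + 1)) (gs : Fin t → Matrix (Fin m) (Fin m) F) :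
    Cfsg.Agent.Lib.Helper8.TW.ext i (ptens m t gs) =
      ptens m (t + 1) (Fin.insertNth (α := fun _ => Matrix (Fin m) (Fin m) F) i (1 : Matrix (Fin m) (Fin m) F) gs) := by
  ext x x'
  rw [ext_apply, ptens_apply, ptens_apply, Fin.prod_univ_succAbove _ i]
  simp only [Fin.insertNth_apply_same, Fin.insertNth_apply_succAbove, Matrix.one_apply]
  split_ifs <;> simp

/-- TE12 (M) -/
theorem extGL_mem_G (i : Fin (t + 1)) (γ : GL (Idx t m) F) (hγ : γ ∈ Gstd t m F) :
    extGL i γ ∈ Gstd (t + 1) m F := by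
  have hmul : ∀ a b : GL (Idx t m) F, extGL i (a * b) = extGL i a * extGL i b := by
    intro a b
    apply Units.ext
    rw [Units.val_mul, extGL_val, extGL_val, extGL_val, Units.val_mul, ext_mul]
  have hone : extGL i (1 : GL (Idx t m) F) = 1 := by
    apply Units.ext
    rw [extGL_val, Units.val_one, Units.val_one, ext_one]
  have hinv : ∀ a : GL (Idx t m) F, extGL i a⁻¹ = (extGL i a)⁻¹ := by
    intro a
    rw [eq_inv_iff_mul_eq_one, ← hmul, inv_mul_cancel, hone]
  change γ ∈ Subgroup.closure _ at hγ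
  induction hγ using Subgroup.closure_induction with
  | mem g hg =>
    apply Subgroup.subset_closure
    rcases hg with ⟨gs, hgs⟩ | ⟨σ, hσ⟩
    · left
      refine ⟨Fin.insertNth (α := fun _ => GL (Fin m) F) i (1 : GL (Fin m) F) gs, ?_⟩
      intro x y
      rw [extGL_val, ext_apply, hgs, Fin.prod_univ_succAbove _ i]
      simp only [Fin.insertNth_apply_same, Fin.insertNth_apply_succAbove, Units.val_one, Matrix.one_apply]
      split_ifs <;> simp
    · right
      have hg' : (g : Matrix (Idx t m) (Idx t m) F) = fperm m t σ := by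
        ext x y
        rw [hσ, fperm_apply]
      obtain ⟨σ', _, _, h3⟩ := ext_fperm (F := F) (m := m) i σ
      refine ⟨σ', ?_⟩
      intro x y
      rw [extGL_val, hg', h3, fperm_apply]
  | one =>
    rw [hone]
    exact Subgroup.one_mem _
  | mul a b _ _ iha ihb =>
    rw [hmul]
    exact Subgroup.mul_mem _ iha ihb
  | inv a _ iha =>
    rw [hinv]
    exact Subgroup.inv_mem _ iha

/-- TE13 (S) elements of a fibre are `b ⊗ y` -/
theorem mem_Wf_iff_tens (i : Fin (t + 1)) (y : Fin m → F) (hy : y ≠ 0) (v : Idx (t + 1) m → F) :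
    v ∈ Wf i y ↔ ∃ b : Idx t m → F, v = tens i b y := by
  unfold Wf
  rw [mem_fib]
  constructor
  · intro h
    obtain ⟨a₁, ha₁⟩ : ∃ a₁, y a₁ ≠ 0 := by
      by_contra hcon
      simp only [not_exists, not_not] at hcon
      exact hy (funext hcon)
    refine ⟨fun u => v (ins i a₁ u) / y a₁, ?_⟩
    apply vec_ext_ins i
    intro a u
    have := h (ins i a₁ u)
    rw [Submodule.mem_span_singleton] at this
    obtain ⟨c, hc⟩ := this
    have e1 := congrFun hc a₁
    have e2 := congrFun hc a
    simp only [slice, update_ins, Pi.smul_apply, smul_eq_mul] at e1 e2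
    simp only [tens, ins_same, ins_comp]
    rw [← e1, ← e2]
    field_simp
  · rintro ⟨b, rfl⟩ x
    rw [Submodule.mem_span_singleton]
    refine ⟨b (fun j => x (i.succAbove j)), ?_⟩
    funext a
    simp only [slice, update_eq_ins, tens, ins_same, ins_comp, Pi.smul_apply, smul_eq_mul]

/-- double annihilator in `F^m`, in `dotProduct` form -/
lemma mem_of_forall_dotProduct (S : Submodule F (Fin m → F)) (a : Fin m → F)
    (h : ∀ ξ : Fin m → F, (∀ s ∈ S, ξ ⬝ᵥ s = 0) → ξ ⬝ᵥ a = 0) : a ∈ S := by
  by_contra ha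
  obtain ⟨f, hfa, hf⟩ := Submodule.exists_le_ker_of_notMem ha
  set ξ : Fin m → F := fun b => f (fun j => if b = j then 1 else 0) with hξdef
  have hξ : ∀ v : Fin m → F, ξ ⬝ᵥ v = f v := by
    intro v
    conv_rhs => rw [LinearMap.pi_apply_eq_sum_univ f v]
    simp only [dotProduct, hξdef, smul_eq_mul]
    apply Finset.sum_congr rfl
    intro b _
    rw [mul_comm]
  apply hfa
  rw [← hξ]
  apply h
  intro s hs
  rw [hξ]
  exact hf hs

/-- TE16 (M) -/
theorem mem_fib_iff_ctr (i : Fin (t + 1)) (S : Submodule F (Fin m → F)) (v : Idx (t + 1) m → F) :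
    v ∈ fib i S ↔ ∀ ξ : Fin m → F, (∀ a ∈ S, ξ ⬝ᵥ a = 0) → ctr i ξ v = 0 := by
  rw [mem_fib]
  constructor
  · intro h ξ hξ
    funext u
    rcases Nat.eq_zero_or_pos m with hm | hm
    · subst hm
      simp [ctr]
    · have h1 := hξ _ (h (ins i ⟨0, hm⟩ u))
      simp only [ctr, Pi.zero_apply]
      rw [← h1, dotProduct]
      apply Finset.sum_congr rfl
      intro c _
      simp only [slice, update_ins]
  · intro h x
    apply mem_of_forall_dotProduct
    intro ξ hξ
    have := congrFun (h ξ hξ) (fun j => x (i.succAbove j))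
    simp only [ctr, Pi.zero_apply] at this
    rw [← this, dotProduct]
    apply Finset.sum_congr rfl
    intro c _
    simp only [slice, update_eq_ins]

end Cfsg.Agent.Lib.Helper22.TWLeaf
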