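import Mathlib
import Cfsg.Agent.Lib.Helper8.TW.Defs
import Cfsg.Agent.Lib.Helper20.AschA89WR
import Cfsg.Agent.Lib.Helper20.AschA89F2J
import Cfsg.Agent.Lib.Helper6.TWQa
import Cfsg.Agent.Lib.Helper6.TWT1
import Cfsg.Agent.Lib.Helper6.TWQDefs
import Cfsg.Agent.Lib.Helper23.TWG1
import Cfsg.Agent.Lib.Helper23.TWG6
import Cfsg.Agent.Lib.Helper16.TWImg
import Cfsg.Agent.Lib.Helper26.TWFibA
import Cfsg.Agent.Lib.Helper26.TWFibB
import Cfsg.Agent.Lib.Helper22.TWExtBasic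
import Cfsg.Agent.Lib.Helper22.TWExtMore

/-!
S5641 block (Q'), leaf (Q2) `stab_form`: the stabiliser of a fibre in `G` (helper6's sub-market).
-/

set_option autoImplicit false
set_option linter.unusedSectionVars false
set_option linter.unusedVariables false

namespace Cfsg.Agent.Lib.Helper22.TWQLeaf
open Matrix Cfsg.Geo Cfsg.Agent.Lib.Helper18.AschA89 Cfsg.Agent.Lib.Helper20.AschLeaf Cfsg.Agent.Lib.Helper8.TW
open Cfsg.Agent.Lib.Helper6.TWQ (dM dGL fcube)
open Cfsg.Agent.Lib.Helper22.TWLeaf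

variable {F : Type*} [Field F] {t m : ℕ}

/-- the pure tensor of units, as a unit -/
def ptensGL (gs : Fin t → GL (Fin m) F) : GL (Idx t m) F :=
  ⟨ptens m t (fun j => ((gs j : GL (Fin m) F) : Matrix (Fin m) (Fin m) F)),
    ptens m t (fun j => (((gs j)⁻¹ : GL (Fin m) F) : Matrix (Fin m) (Fin m) F)),
    by
      rw [ptens_mul]
      simp only [← Units.val_mul, mul_inv_cancel, Units.val_one]
      exact ptens_one m t,
    by
      rw [ptens_mul]
      simp only [← Units.val_mul, inv_mul_cancel, Units.val_one]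
      exact ptens_one m t⟩

lemma ptensGL_val (gs : Fin t → GL (Fin m) F) :
    ((ptensGL gs : GL (Idx t m) F) : Matrix (Idx t m) (Idx t m) F) =
      ptens m t (fun j => ((gs j : GL (Fin m) F) : Matrix (Fin m) (Fin m) F)) := rfl

lemma ptensGL_mem_G (gs : Fin t → GL (Fin m) F) : ptensGL gs ∈ Gstd t m F :=
  Cfsg.Agent.Lib.Helper23.TWLeaf.ptens_mem_G gs _ rfl

/-- a permutation of `Fin (t+1)` fixing `i` comes from a permutation of the other positions -/
lemma exists_perm_of_fix (i : Fin (t + 1)) (σ : Equiv.Perm (Fin (t + 1))) (hσ : σ i = i) :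
    ∃ σ' : Equiv.Perm (Fin t), ∀ j, σ (i.succAbove j) = i.succAbove (σ' j) := by
  have hp : ∀ x, σ x ≠ i ↔ x ≠ i := by
    intro x
    constructor
    · intro h hx
      exact h (by rw [hx, hσ])
    · intro h hx
      apply h
      apply σ.injective
      rw [hx, hσ]
  refine ⟨(finSuccAboveEquiv i).symm.permCongr (σ.subtypePerm hp), ?_⟩
  intro j
  have h1 : finSuccAboveEquiv i ((finSuccAboveEquiv i).symm.permCongr (σ.subtypePerm hp) j) =
      σ.subtypePerm hp (finSuccAboveEquiv i j) := by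
    rw [Equiv.permCongr_apply, Equiv.symm_symm, Equiv.apply_symm_apply]
  have h2 := congrArg Subtype.val h1
  rw [finSuccAboveEquiv_apply, Equiv.Perm.subtypePerm_apply, finSuccAboveEquiv_apply] at h2
  exact h2.symm

/-- `fperm` of a permutation fixing `i` is `ext i` of an `fperm` -/
lemma fperm_eq_ext (i : Fin (t + 1)) (σ : Equiv.Perm (Fin (t + 1))) (hσ : σ i = i) :
    ∃ σ' : Equiv.Perm (Fin t), fperm (F := F) m (t + 1) σ = Cfsg.Agent.Lib.Helper8.TW.ext i (fperm m t σ') := by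
  obtain ⟨σ', hσ'⟩ := exists_perm_of_fix i σ hσ
  obtain ⟨σ'', h1, h2, h3⟩ := ext_fperm (F := F) (m := m) i σ'
  refine ⟨σ', ?_⟩
  rw [h3]
  congr 1
  ext k
  rcases Fin.eq_self_or_eq_succAbove i k with rfl | ⟨j, rfl⟩
  · rw [hσ, h1]
  · rw [hσ', h2]

/-- splitting a pure tensor at position `i` -/
lemma ptens_eq_ext_mul_slot (i : Fin (t + 1)) (gs : Fin (t + 1) → Matrix (Fin m) (Fin m) F) :
    ptens m (t + 1) gs =
      Cfsg.Agent.Lib.Helper8.TW.ext i (ptens m t (fun j => gs (i.succAbove j))) * slot m (t + 1) i (gs i) := by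
  rw [ext_ptens, Cfsg.Agent.Lib.Helper23.TWLeaf.g6_ptens_mul_slot]
  congr 1
  funext k
  rcases Fin.eq_self_or_eq_succAbove i k with rfl | ⟨j, rfl⟩
  · rw [Function.update_self, Fin.insertNth_apply_same, one_mul]
  · rw [Function.update_of_ne (Fin.succAbove_ne i j), Fin.insertNth_apply_succAbove]

lemma mulVec_mem_img {ι : Type} [Fintype ι] [DecidableEq ι] (g : GL ι F) (S : Submodule F (ι → F)) (v : ι → F)
    (hv : v ∈ S) : (g : Matrix ι ι F) *ᵥ v ∈ img g S :=
  ⟨v, hv, Matrix.toLin'_apply _ _⟩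

/-- image of a fibre under an element in normal form -/
lemma img_nf_fib_le (h : GL (Idx t m) F) (σ : Equiv.Perm (Fin t)) (gs : Fin t → Matrix (Fin m) (Fin m) F)
    (hh : (h : Matrix (Idx t m) (Idx t m) F) = fperm m t σ * ptens m t gs) (i : Fin t)
    (S : Submodule F (Fin m → F)) :
    img h (fib i S) ≤ fib (σ i) (S.map (Matrix.toLin' (gs i))) := by
  rintro v ⟨w, hw, rfl⟩
  rw [Matrix.toLin'_apply, hh, ← Matrix.mulVec_mulVec]
  exact Cfsg.Agent.Lib.Helper23.TWLeaf.g6_fperm_fib σ i _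
    (Cfsg.Agent.Lib.Helper23.TWLeaf.g6_ptens_fib gs i S hw)

lemma span_ne_top_of_two_le (hm : 2 ≤ m) (y : Fin m → F) (hy : y ≠ 0) : (F ∙ y) ≠ ⊤ := by
  intro h
  have h1 := finrank_span_singleton (K := F) hy
  rw [h, finrank_top, Module.finrank_fintype_fun_eq_card, Fintype.card_fin] at h1
  omega

/-- (Q2) (M-L) -/
theorem stab_form (hm : 2 ≤ m) (h : GL (Idx (t + 1) m) F) (hh : h ∈ Gstd (t + 1) m F) (i : Fin (t + 1))
    (y y' : Fin m → F) (hy : y ≠ 0) (hy' : y' ≠ 0) (hW : img h (Wf i y) = Wf i y') :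
    ∃ (γ : GL (Idx t m) F) (α : GL (Fin m) F), γ ∈ Gstd t m F ∧
      (h : Matrix (Idx (t + 1) m) (Idx (t + 1) m) F) =
        Cfsg.Agent.Lib.Helper8.TW.ext i (γ : Matrix (Idx t m) (Idx t m) F) *
          slot m (t + 1) i (α : Matrix (Fin m) (Fin m) F) ∧
      ∃ c : F, (α : Matrix (Fin m) (Fin m) F) *ᵥ y = c • y' := by
  obtain ⟨σ, gs, hnf⟩ := Cfsg.Agent.Lib.Helper6.TWLeaf.G_normal_form h hh
  -- the image of the fibre
  have hαy0 : ((gs i : GL (Fin m) F) : Matrix (Fin m) (Fin m) F) *ᵥ y ≠ 0 := by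
    intro h0
    apply hy
    have := Cfsg.Agent.Lib.Helper23.TWLeaf.g7_inv_mulVec (gs i) y
    rw [h0, Matrix.mulVec_zero] at this
    exact this.symm
  have hle : img h (Wf i y) ≤ Wf (σ i) (((gs i : GL (Fin m) F) : Matrix (Fin m) (Fin m) F) *ᵥ y) := by
    have := img_nf_fib_le h σ _ hnf i (F ∙ y)
    rw [Cfsg.Agent.Lib.Helper23.TWLeaf.g7_map_span] at this
    exact this
  have heq : img h (Wf i y) = Wf (σ i) (((gs i : GL (Fin m) F) : Matrix (Fin m) (Fin m) F) *ᵥ y) := by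
    apply Submodule.eq_of_le_of_finrank_le hle
    rw [Cfsg.Agent.Lib.Helper16.TWLeaf.finrank_img]
    unfold Wf
    rw [Cfsg.Agent.Lib.Helper26.TWLeaf.finrank_fib, Cfsg.Agent.Lib.Helper26.TWLeaf.finrank_fib,
      finrank_span_singleton hy, finrank_span_singleton hαy0]
  rw [hW] at heq
  have hbot : (F ∙ y') ≠ ⊥ := by
    rw [Ne, Submodule.span_singleton_eq_bot]
    exact hy'
  obtain ⟨hi, hspan⟩ := (Cfsg.Agent.Lib.Helper26.TWLeaf.fib_eq_fib_iff i (σ i) _ _ hbot
    (span_ne_top_of_two_le hm y' hy')).mp heq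
  obtain ⟨c, hc⟩ : ∃ c : F, c • y' = ((gs i : GL (Fin m) F) : Matrix (Fin m) (Fin m) F) *ᵥ y := by
    have : ((gs i : GL (Fin m) F) : Matrix (Fin m) (Fin m) F) *ᵥ y ∈ (F ∙ y') := by
      rw [hspan]
      exact Submodule.mem_span_singleton_self _
    exact Submodule.mem_span_singleton.mp this
  -- split the normal form at position `i`
  obtain ⟨σ', hσ'⟩ := fperm_eq_ext (F := F) (m := m) i σ hi.symm
  refine ⟨wrFpermGL m t σ' * ptensGL (fun j => gs (i.succAbove j)), gs i, ?_, ?_, c, hc.symm⟩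
  · exact Subgroup.mul_mem _ (Cfsg.Agent.Lib.Helper23.TWLeaf.fpermGL_mem_G σ') (ptensGL_mem_G _)
  · rw [hnf, hσ', ptens_eq_ext_mul_slot i, ← mul_assoc, ext_mul]
    rfl

end Cfsg.Agent.Lib.Helper22.TWQLeaf
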