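import Mathlib
import Cfsg.Prelude.Def_GeometricClasses
import Cfsg.Agent.Lib.Helper14.Unitary3
import Cfsg.Agent.Lib.Helper15.HermSub

/-! The similarity group of a nondegenerate unitary form: a standard model. -/

set_option autoImplicit false
open scoped MatrixGroups

namespace Cfsg.Agent.Lib.Helper22.UnitR

open Matrix Module Cfsg.Agent.Lib.Helper14 Cfsg.Agent.Lib.Helper15

variable {F : Type*} [Field F] [Fintype F]

/-- unitary (for the standard hermitian form) up to a nonzero scalar -/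
def UniUpTo (F : Type*) [Field F] (q₀ n : ℕ) (A : Matrix (Fin n) (Fin n) F) : Prop :=
  ∃ u : F, u ≠ 0 ∧ IsUni F q₀ n (u⁻¹ • A)

/-- the norm is onto the fixed field -/
theorem exists_norm_eq {q₀ : ℕ} (hF : Fintype.card F = q₀ ^ 2) (c : F) (hc0 : c ≠ 0)
    (hc : c ^ q₀ = c) : ∃ u : F, u ≠ 0 ∧ u ^ q₀ * u = c := by
  obtain ⟨u, hu⟩ := Cfsg.Agent.S2643.frob_N hF c hc hc0
  refine ⟨u, ?_, hu⟩
  rintro rfl
  rw [mul_zero] at hu
  exact hc0 hu.symm

/-- an orthonormal basis for a nondegenerate unitary form -/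
theorem exists_std_basis {q₀ : ℕ} (hF : Fintype.card F = q₀ ^ 2) (n : ℕ)
    (f : (Fin n → F) → (Fin n → F) → F) (hf : Cfsg.Geo.IsUnitaryFormPow q₀ f) :
    ∃ S : GL (Fin n) F, ∀ a b : Fin n → F,
      f ((S : Matrix (Fin n) (Fin n) F) *ᵥ a) ((S : Matrix (Fin n) (Fin n) F) *ᵥ b) =
        Cfsg.hermForm n F q₀ a b := by
  classical
  have hh : HermSub.IsHerm q₀ f := ⟨hf.add_left, hf.smul_left, hf.herm⟩
  have hnd : HermSub.NdOn f (⊤ : Submodule F (Fin n → F)) := by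
    intro u _ hu
    obtain ⟨-, x, hx⟩ := hf.nondegenerate u hu
    exact ⟨x, Submodule.mem_top, hx⟩
  obtain ⟨E₀, hE₀⟩ := HermSub.exists_orthonormal_equiv hh hF ⊤ hnd
  have hm : finrank F (⊤ : Submodule F (Fin n → F)) = n := by
    rw [finrank_top, Module.finrank_fin_fun]
  obtain ⟨m, hmn, E, hE⟩ : ∃ m, m = n ∧ ∃ E : (Fin m → F) ≃ₗ[F] (⊤ : Submodule F (Fin n → F)),
      ∀ a b : Fin m → F, f (E a : Fin n → F) (E b : Fin n → F) = Cfsg.hermForm m F q₀ a b :=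
    ⟨_, hm, E₀, hE₀⟩
  subst hmn
  set L : (Fin m → F) ≃ₗ[F] (Fin m → F) := E.trans Submodule.topEquiv with hL
  have hLa : ∀ a, L a = (E a : Fin m → F) := fun a => rfl
  set Sm : Matrix (Fin m) (Fin m) F := LinearMap.toMatrix' (L : (Fin m → F) →ₗ[F] (Fin m → F))
    with hSm
  set Si : Matrix (Fin m) (Fin m) F :=
    LinearMap.toMatrix' (L.symm : (Fin m → F) →ₗ[F] (Fin m → F)) with hSi
  have h1 : Sm * Si = 1 := by
    rw [hSm, hSi, ← LinearMap.toMatrix'_comp]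
    have : (L : (Fin m → F) →ₗ[F] (Fin m → F)) ∘ₗ (L.symm : (Fin m → F) →ₗ[F] (Fin m → F)) =
        LinearMap.id := by
      ext x
      simp
    rw [this, LinearMap.toMatrix'_id]
  have h2 : Si * Sm = 1 := by
    rw [hSm, hSi, ← LinearMap.toMatrix'_comp]
    have : (L.symm : (Fin m → F) →ₗ[F] (Fin m → F)) ∘ₗ (L : (Fin m → F) →ₗ[F] (Fin m → F)) =
        LinearMap.id := by
      ext x
      simp
    rw [this, LinearMap.toMatrix'_id]
  refine ⟨⟨Sm, Si, h1, h2⟩, fun a b => ?_⟩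
  show f (Sm *ᵥ a) (Sm *ᵥ b) = _
  rw [hSm, LinearMap.toMatrix'_mulVec, LinearMap.toMatrix'_mulVec]
  exact hE a b

end Cfsg.Agent.Lib.Helper22.UnitR
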