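import Mathlib
import Cfsg.Agent.Lib.Helper8.TW.Defs
import Cfsg.Agent.Lib.Helper20.AschA89WR
import Cfsg.Agent.Lib.Helper20.AschA89F2J
import Cfsg.Agent.Lib.Helper6.TWQa
import Cfsg.Agent.Lib.Helper6.TWT1
import Cfsg.Agent.Lib.Helper6.TWQDefs
import Cfsg.Agent.Lib.Helper23.TWG1
import Cfsg.Agent.Lib.Helper26.TWFibA
import Cfsg.Agent.Lib.Helper1.TWI4
import Cfsg.Agent.Lib.Helper22.TWExtBasic
import Cfsg.Agent.Lib.Helper22.TWExtMore
import Cfsg.Agent.Lib.Helper22.TWQStab
import Cfsg.Agent.Lib.Helper22.TWQK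

/-!
S5641 block (Q'), leaf (QB1) `slot_of_pure_rank` (helper6's sub-market).
-/

set_option autoImplicit false
set_option linter.unusedSectionVars false
set_option linter.unusedVariables false

namespace Cfsg.Agent.Lib.Helper22.TWQLeaf
open Matrix Cfsg.Geo Cfsg.Agent.Lib.Helper18.AschA89 Cfsg.Agent.Lib.Helper20.AschLeaf Cfsg.Agent.Lib.Helper8.TW
open Cfsg.Agent.Lib.Helper6.TWQ (dM dGL fcube)
open Cfsg.Agent.Lib.Helper22.TWLeaf

variable {F : Type*} [Field F] {t m : ℕ}

lemma ctr_sub (i : Fin (t + 1)) (ξ : Fin m → F) (v w : Idx (t + 1) m → F) :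
    ctr i ξ (v - w) = ctr i ξ v - ctr i ξ w := by
  funext u
  simp only [ctr, Pi.sub_apply, mul_sub, Finset.sum_sub_distrib]

/-- a functional separating two independent vectors -/
lemma exists_dot_zero_one {x x' : Fin m → F} (h : LinearIndependent F ![x, x']) :
    ∃ ψ : Fin m → F, ψ ⬝ᵥ x = 0 ∧ ψ ⬝ᵥ x' = 1 := by
  have hnot : x' ∉ (F ∙ x) := by
    intro hmem
    obtain ⟨a, ha⟩ := Submodule.mem_span_singleton.mp hmem
    rw [LinearIndependent.pair_iff] at h
    have := h a (-1) (by rw [ha]; simp)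
    have h1 : (-1 : F) = 0 := this.2
    simp at h1
  obtain ⟨f, hf1, hf2⟩ := Submodule.exists_le_ker_of_notMem hnot
  obtain ⟨ξ, hξ⟩ := Cfsg.Agent.Lib.Helper1.TWLeaf.exists_dot_of_linear f
  refine ⟨(f x')⁻¹ • ξ, ?_, ?_⟩
  · rw [smul_dotProduct, ← hξ]
    have : f x = 0 := LinearMap.mem_ker.mp (hf2 (Submodule.mem_span_singleton_self x))
    rw [this, smul_zero]
  · rw [smul_dotProduct, ← hξ, smul_eq_mul, inv_mul_cancel₀ hf1]

/-- a non-zero functional killing two vectors (`m ≥ 3`) -/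
lemma exists_dot_zero_zero (hm : 3 ≤ m) (x x' : Fin m → F) :
    ∃ φ : Fin m → F, φ ≠ 0 ∧ φ ⬝ᵥ x = 0 ∧ φ ⬝ᵥ x' = 0 := by
  classical
  have hfr : Module.finrank F (Submodule.span F ({x, x'} : Set (Fin m → F))) < m := by
    have h1 : Module.finrank F (Submodule.span F (({x, x'} : Finset (Fin m → F)) : Set (Fin m → F))) ≤
        ({x, x'} : Finset (Fin m → F)).card := finrank_span_finset_le_card _
    have h2 : ({x, x'} : Finset (Fin m → F)).card ≤ 2 := Finset.card_le_two
    have h3 : ((({x, x'} : Finset (Fin m → F)) : Set (Fin m → F))) = ({x, x'} : Set (Fin m → F)) := by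
      simp
    rw [h3] at h1
    omega
  obtain ⟨φ, hφ0, hφ⟩ := Cfsg.Agent.Lib.Helper1.TWLeaf.exists_kerF_ge _ hfr
  refine ⟨φ, hφ0, ?_, ?_⟩
  · exact (mem_kerF φ x).mp (hφ (Submodule.subset_span (by simp)))
  · exact (mem_kerF φ x').mp (hφ (Submodule.subset_span (by simp)))

/-- `b ↦ tens i b a` as a linear map -/
def tensL (i : Fin (t + 1)) (a : Fin m → F) : (Idx t m → F) →ₗ[F] (Idx (t + 1) m → F) where
  toFun b := tens i b a
  map_add' b b' := by
    funext x
    simp only [tens, Pi.add_apply]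
    ring
  map_smul' c b := by
    funext x
    simp only [tens, Pi.smul_apply, smul_eq_mul, RingHom.id_apply]
    ring

lemma tensL_apply (i : Fin (t + 1)) (a : Fin m → F) (b : Idx t m → F) : tensL i a b = tens i b a := rfl

/-- (QB1) (L) a pure tensor `h` with `rank (h - 1) ≤ m^(t-1)` lives in one slot -/
theorem slot_of_pure_rank (hm : 3 ≤ m) (α : Fin t → GL (Fin m) F)
    (h1 : ptens m t (fun i => ((α i : GL (Fin m) F) : Matrix (Fin m) (Fin m) F)) ≠ 1)
    (hrk : (ptens m t (fun i => ((α i : GL (Fin m) F) : Matrix (Fin m) (Fin m) F)) - 1).rank ≤ m ^ (t - 1)) :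
    ∃ (j : Fin t) (A : Matrix (Fin m) (Fin m) F),
      ptens m t (fun i => ((α i : GL (Fin m) F) : Matrix (Fin m) (Fin m) F)) = slot m t j A := by
  by_cases hsc : ∀ i, ∃ c : F, ((α i : GL (Fin m) F) : Matrix (Fin m) (Fin m) F) = c • 1
  · -- all factors scalar
    choose c hc using hsc
    have ht : 0 < t := by
      by_contra ht0
      have : t = 0 := by omega
      subst this
      apply h1
      ext x y
      rw [ptens_apply, Matrix.one_apply, Finset.univ_eq_empty, Finset.prod_empty,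
        if_pos (Subsingleton.elim _ _)]
    refine ⟨⟨0, ht⟩, (∏ i, c i) • 1, ?_⟩
    have : (fun i => ((α i : GL (Fin m) F) : Matrix (Fin m) (Fin m) F)) =
        fun i => c i • (1 : Matrix (Fin m) (Fin m) F) := funext hc
    rw [this, ptens_smul, ptens_one, slot_smul, slot_one]
  · -- a non-scalar factor at position `j`
    rw [not_forall] at hsc
    obtain ⟨j, hj⟩ := hsc
    obtain ⟨t', rfl⟩ : ∃ t', t = t' + 1 := ⟨t - 1, by have := j.isLt; omega⟩
    obtain ⟨x, hli⟩ := Cfsg.Agent.Lib.Helper6.TWQ.exists_li_of_not_scalar hj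
    set αj : Matrix (Fin m) (Fin m) F := ((α j : GL (Fin m) F) : Matrix (Fin m) (Fin m) F) with hαj
    set x' : Fin m → F := αj *ᵥ x with hx'
    set β : Matrix (Idx t' m) (Idx t' m) F :=
      ptens m t' (fun k => ((α (j.succAbove k) : GL (Fin m) F) : Matrix (Fin m) (Fin m) F)) with hβ
    have hsplit : ptens m (t' + 1) (fun i => ((α i : GL (Fin m) F) : Matrix (Fin m) (Fin m) F)) =
        Cfsg.Agent.Lib.Helper8.TW.ext j β * slot m (t' + 1) j αj :=
      ptens_eq_ext_mul_slot j _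
    set H : Matrix (Idx (t' + 1) m) (Idx (t' + 1) m) F :=
      ptens m (t' + 1) (fun i => ((α i : GL (Fin m) F) : Matrix (Fin m) (Fin m) F)) with hH
    have hHt : ∀ (b : Idx t' m → F) (a : Fin m → F), H *ᵥ tens j b a = tens j (β *ᵥ b) (αj *ᵥ a) := by
      intro b a
      rw [hsplit, ← Matrix.mulVec_mulVec, slot_mulVec_tens, ext_mulVec_tens]
    have hH1 : ∀ (b : Idx t' m → F) (a : Fin m → F),
        (H - 1) *ᵥ tens j b a = tens j (β *ᵥ b) (αj *ᵥ a) - tens j b a := by
      intro b a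
      rw [Matrix.sub_mulVec, Matrix.one_mulVec, hHt]
    -- `β` is invertible
    have hβinj : ∀ b : Idx t' m → F, β *ᵥ b = 0 → b = 0 := by
      intro b hb
      have h2 : ((ptensGL (fun k => α (j.succAbove k)))⁻¹ : GL (Idx t' m) F).val *ᵥ (β *ᵥ b) = b := by
        rw [hβ, ← ptensGL_val, Matrix.mulVec_mulVec, ← Units.val_mul, inv_mul_cancel, Units.val_one,
          Matrix.one_mulVec]
      rw [hb, Matrix.mulVec_zero] at h2
      exact h2.symm
    obtain ⟨ψ, hψ0, hψ1⟩ := exists_dot_zero_one hli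
    obtain ⟨φ, hφ0, hφx, hφx'⟩ := exists_dot_zero_zero hm x x'
    obtain ⟨x₂, hx₂⟩ := Cfsg.Agent.Lib.Helper26.TWLeaf.exists_dot_one26 φ hφ0
    -- the map `L`
    set L : (Idx t' m → F) →ₗ[F] (Idx (t' + 1) m → F) := (H - 1).mulVecLin ∘ₗ tensL j x with hL
    have hLb : ∀ b, L b = tens j (β *ᵥ b) x' - tens j b x := by
      intro b
      rw [hL, LinearMap.comp_apply, Matrix.mulVecLin_apply, tensL_apply, hH1]
    have hLinj : Function.Injective L := by
      rw [← LinearMap.ker_eq_bot, LinearMap.ker_eq_bot']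
      intro b hb
      rw [hLb] at hb
      have e := congrArg (ctr j ψ) hb
      rw [ctr_sub, ctr_tens, ctr_tens, hψ0, hψ1, one_smul, zero_smul, sub_zero] at e
      have e0 : ctr j ψ (0 : Idx (t' + 1) m → F) = 0 := by
        funext u
        simp [ctr]
      rw [e0] at e
      exact hβinj b e
    have hLφ : ∀ b, ctr j φ (L b) = 0 := by
      intro b
      rw [hLb, ctr_sub, ctr_tens, ctr_tens, hφx, hφx', zero_smul, zero_smul, sub_zero]
    have hrange : LinearMap.range L = LinearMap.range (H - 1).mulVecLin := by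
      apply Submodule.eq_of_le_of_finrank_le
      · rw [hL]
        exact LinearMap.range_comp_le_range _ _
      · rw [LinearMap.finrank_range_of_inj hLinj, Module.finrank_fintype_fun_eq_card, Fintype.card_fun,
          Fintype.card_fin, Fintype.card_fin]
        have : (H - 1).rank = Module.finrank F (LinearMap.range (H - 1).mulVecLin) := rfl
        rw [← this]
        simpa using hrk
    have hkill : ∀ v : Idx (t' + 1) m → F, ctr j φ ((H - 1) *ᵥ v) = 0 := by
      intro v
      have hmem : (H - 1) *ᵥ v ∈ LinearMap.range (H - 1).mulVecLin := ⟨v, rfl⟩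
      rw [← hrange] at hmem
      obtain ⟨b, hb⟩ := hmem
      rw [← hb]
      exact hLφ b
    -- `β` is scalar
    set d : F := φ ⬝ᵥ (αj *ᵥ x₂) with hd
    have hdβ : ∀ b : Idx t' m → F, d • (β *ᵥ b) = b := by
      intro b
      have e := hkill (tens j b x₂)
      rw [hH1, ctr_sub, ctr_tens, ctr_tens, hx₂, one_smul, sub_eq_zero] at e
      exact e
    have hu₀ : Nonempty (Idx t' m) := ⟨fun _ => ⟨0, by omega⟩⟩
    obtain ⟨u₀⟩ := hu₀
    have hd0 : d ≠ 0 := by
      intro h0
      have := congrFun (hdβ (fun _ => 1)) u₀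
      rw [h0, zero_smul] at this
      simp at this
    have hβ' : β = d⁻¹ • 1 := by
      apply eq_smul_one_of_mulVec
      intro b
      conv_rhs => rw [← hdβ b]
      rw [smul_smul, inv_mul_cancel₀ hd0, one_smul]
    refine ⟨j, d⁻¹ • αj, ?_⟩
    rw [hsplit, hβ', ext_smul_one, Matrix.smul_mul, Matrix.one_mul, slot_smul]

end Cfsg.Agent.Lib.Helper22.TWQLeaf
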