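import Mathlib
import Cfsg.Agent.Lib.Helper8.TW.Defs
import Cfsg.Agent.Lib.Helper20.AschA89WR
import Cfsg.Agent.Lib.Helper20.AschA89F2J
import Cfsg.Agent.Lib.Helper6.TWQa
import Cfsg.Agent.Lib.Helper6.TWT1
import Cfsg.Agent.Lib.Helper6.TWQDefs
import Cfsg.Agent.Lib.Helper23.TWG1
import Cfsg.Agent.Lib.Helper26.TWFibA
import Cfsg.Agent.Lib.Helper22.TWExtBasic
import Cfsg.Agent.Lib.Helper22.TWExtMore
import Cfsg.Agent.Lib.Helper22.TWQStab

/-!
S5641 block (Q'), leaf (Q3) `K_lemma` (helper6's sub-market).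
-/

set_option autoImplicit false
set_option linter.unusedSectionVars false
set_option linter.unusedVariables false

namespace Cfsg.Agent.Lib.Helper22.TWQLeaf
open Matrix Cfsg.Geo Cfsg.Agent.Lib.Helper18.AschA89 Cfsg.Agent.Lib.Helper20.AschLeaf Cfsg.Agent.Lib.Helper8.TW
open Cfsg.Agent.Lib.Helper6.TWQ (dM dGL fcube)
open Cfsg.Agent.Lib.Helper22.TWLeaf

variable {F : Type*} [Field F] {t m : ℕ}

lemma tens_sub_right (i : Fin (t + 1)) (b : Idx t m → F) (a a' : Fin m → F) :
    tens i b (a - a') = tens i b a - tens i b a' := by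
  funext x
  simp only [tens, Pi.sub_apply]
  ring

lemma tens_smul_right (i : Fin (t + 1)) (b : Idx t m → F) (c : F) (a : Fin m → F) :
    tens i b (c • a) = c • tens i b a := by
  funext x
  simp only [tens, Pi.smul_apply, smul_eq_mul]
  ring

lemma ext_smul_one (i : Fin (t + 1)) (c : F) :
    Cfsg.Agent.Lib.Helper8.TW.ext i (c • (1 : Matrix (Idx t m) (Idx t m) F)) =
      c • (1 : Matrix (Idx (t + 1) m) (Idx (t + 1) m) F) := by
  apply mat_ext_ins i
  intro a b u u'
  rw [ext_ins, Matrix.smul_apply, Matrix.smul_apply, Matrix.one_apply, Matrix.one_apply]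
  by_cases hab : a = b
  · subst hab
    rw [if_pos rfl]
    by_cases hu : u = u'
    · subst hu
      rw [if_pos rfl, if_pos rfl]
    · rw [if_neg hu, if_neg]
      intro h
      exact hu ((ins_inj i _ _ _ _).mp h).2
  · rw [if_neg hab, if_neg, smul_zero]
    intro h
    exact hab ((ins_inj i _ _ _ _).mp h).1

/-- a matrix acting as a scalar is that scalar -/
lemma eq_smul_one_of_mulVec {ι : Type*} [Fintype ι] [DecidableEq ι] (M : Matrix ι ι F) (d : F)
    (h : ∀ b : ι → F, M *ᵥ b = d • b) : M = d • 1 := by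
  ext u u'
  have := congrFun (h (Pi.single u' 1)) u
  rw [Matrix.mulVec_single_one] at this
  rw [Matrix.smul_apply, Matrix.one_apply, smul_eq_mul]
  rw [Pi.smul_apply, Pi.single_apply, smul_eq_mul] at this
  exact this

/-- (Q3) K-lemma (M) -/
theorem K_lemma (hm : 2 ≤ m) (h : GL (Idx (t + 1) m) F) (hh : h ∈ Gstd (t + 1) m F) (i : Fin (t + 1))
    (y : Fin m → F) (hy : y ≠ 0) (h1 : ∀ v ∈ Wf i y, mv h v = v) (h2 : ∀ v, mv h v - v ∈ Wf i y) :
    ∃ η : Fin m → F, η ⬝ᵥ y = 0 ∧
      (h : Matrix (Idx (t + 1) m) (Idx (t + 1) m) F) = 1 + rootN i y η := by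
  have himg : img h (Wf i y) = Wf i y := by
    ext v
    constructor
    · rintro ⟨w, hw, rfl⟩
      rw [Matrix.toLin'_apply]
      have := h1 w hw
      unfold mv at this
      rw [this]
      exact hw
    · intro hv
      refine ⟨v, hv, ?_⟩
      rw [Matrix.toLin'_apply]
      exact h1 v hv
  obtain ⟨γ, α, _, hval, c, hc⟩ := stab_form hm h hh i y y hy hy himg
  obtain ⟨ψ, hψ⟩ := Cfsg.Agent.Lib.Helper26.TWLeaf.exists_dot_one26 y hy
  rw [dotProduct_comm] at hψ
  -- `c • γ b = b`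
  have hγ : ∀ b : Idx t m → F, c • ((γ : Matrix (Idx t m) (Idx t m) F) *ᵥ b) = b := by
    intro b
    have hmem : tens i b y ∈ Wf i y := (mem_Wf_iff_tens i y hy _).mpr ⟨b, rfl⟩
    have e1 := h1 _ hmem
    unfold mv at e1
    rw [hval, ← Matrix.mulVec_mulVec, slot_mulVec_tens, ext_mulVec_tens, hc] at e1
    have e2 := congrArg (ctr i ψ) e1
    rw [ctr_tens, ctr_tens, dotProduct_smul, hψ, smul_eq_mul, mul_one, one_smul] at e2
    exact e2
  have hu₀ : Nonempty (Idx t m) := ⟨fun _ => ⟨0, by omega⟩⟩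
  obtain ⟨u₀⟩ := hu₀
  have hc0 : c ≠ 0 := by
    rintro rfl
    have := congrFun (hγ (fun _ => 1)) u₀
    simp at this
  have hγ' : (γ : Matrix (Idx t m) (Idx t m) F) = c⁻¹ • 1 := by
    apply eq_smul_one_of_mulVec
    intro b
    conv_rhs => rw [← hγ b]
    rw [smul_smul, inv_mul_cancel₀ hc0, one_smul]
  -- `h = slot i A`
  set A : Matrix (Fin m) (Fin m) F := c⁻¹ • (α : Matrix (Fin m) (Fin m) F) with hA
  have hval' : (h : Matrix (Idx (t + 1) m) (Idx (t + 1) m) F) = slot m (t + 1) i A := by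
    rw [hval, hγ', ext_smul_one, Matrix.smul_mul, Matrix.one_mul, hA, slot_smul]
  have hAy : A *ᵥ y = y := by
    rw [hA, Matrix.smul_mulVec, hc, smul_smul, inv_mul_cancel₀ hc0, one_smul]
  -- the range of `A - 1`
  have hrange : ∀ a : Fin m → F, ∃ d : F, (A - 1) *ᵥ a = d • y := by
    intro a
    have e1 := h2 (tens i (fun _ => 1) a)
    unfold mv at e1
    rw [hval', slot_mulVec_tens, ← tens_sub_right, mem_Wf_iff_tens i y hy] at e1
    obtain ⟨b', hb'⟩ := e1
    refine ⟨b' u₀, ?_⟩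
    funext k
    have e2 := congrFun hb' (ins i k u₀)
    simp only [tens, ins_same, ins_comp, one_mul] at e2
    rw [Matrix.sub_mulVec, Matrix.one_mulVec, e2, Pi.smul_apply, smul_eq_mul]
  choose d hd using hrange
  set η : Fin m → F := fun j => d (Pi.single j 1) with hη
  have hAη : A - 1 = Matrix.vecMulVec y η := by
    ext k j
    have := congrFun (hd (Pi.single j 1)) k
    rw [Matrix.mulVec_single_one] at this
    rw [Matrix.vecMulVec_apply, mul_comm]
    exact this
  refine ⟨η, ?_, ?_⟩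
  · have e1 : (A - 1) *ᵥ y = 0 := by
      rw [Matrix.sub_mulVec, Matrix.one_mulVec, hAy, sub_self]
    rw [hAη, Cfsg.Agent.Lib.Helper6.TWLeaf.vecMulVec_mulVec'] at e1
    rcases smul_eq_zero.mp e1 with h0 | h0
    · exact h0
    · exact absurd h0 hy
  · have : A = 1 + Matrix.vecMulVec y η := by
      rw [← hAη]; abel
    rw [hval', this, slot_add, slot_one]
    rfl

end Cfsg.Agent.Lib.Helper22.TWQLeaf
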