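import Mathlib

/-! Frobenius twists of characteristic polynomials and the fixed field of `a ↦ a ^ q₀`. -/

set_option autoImplicit false

namespace Cfsg.Agent.Lib.Helper22.SubfR

open Polynomial Matrix

variable {n : Type*} [DecidableEq n] [Fintype n]

/-- `χ_{M^(p^k)} = σ^k (χ_M)` in characteristic `p`. -/
theorem charpoly_pow_char_pow {K : Type*} [Field K] (p : ℕ) [Fact p.Prime] [CharP K p]
    (M : Matrix n n K) (k : ℕ) :
    (M ^ (p ^ k)).charpoly = M.charpoly.map (iterateFrobenius K p k) := by
  cases (isEmpty_or_nonempty n).symm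
  · have hpos : 0 < p ^ k := pow_pos (Fact.out : p.Prime).pos k
    apply Polynomial.expand_injective hpos
    rw [← Polynomial.map_expand, map_iterateFrobenius_expand]
    unfold charpoly
    rw [AlgHom.map_det, ← coe_detMonoidHom, ← (detMonoidHom : Matrix n n K[X] →* K[X]).map_pow]
    apply congr_arg det
    refine matPolyEquiv.injective ?_
    rw [map_pow, matPolyEquiv_charmatrix, sub_pow_char_pow_of_commute, ← C_pow]
    · exact (id (matPolyEquiv_eq_X_pow_sub_C (p ^ k) M) :)
    · exact (C M).commute_X
  · simp [Matrix.charpoly, Matrix.det_isEmpty]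

variable {F : Type*} [Field F] [Fintype F]

/-- the elements of a finite subfield with `q₀` elements are the fixed points of `a ↦ a ^ q₀` -/
theorem mem_subfield_iff_pow (F₀ : Subfield F) (q₀ : ℕ) (hF₀ : Nat.card F₀ = q₀) (a : F) :
    a ∈ F₀ ↔ a ^ q₀ = a := by
  classical
  have : Fintype F₀ := Fintype.ofFinite F₀
  have hcard₀ : Fintype.card F₀ = q₀ := by rw [← Nat.card_eq_fintype_card, hF₀]
  have hq₀1 : 1 < q₀ := by
    rw [← hcard₀]
    exact Fintype.one_lt_card
  have hfix : ∀ b : F₀, ((b : F)) ^ q₀ = (b : F) := by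
    intro b
    have := FiniteField.pow_card b
    rw [hcard₀] at this
    have h2 := congrArg (Subtype.val) this
    simpa using h2
  constructor
  · intro ha
    exact hfix ⟨a, ha⟩
  · intro ha
    -- root counting
    set P : F[X] := X ^ q₀ - X with hP
    have hP0 : P ≠ 0 := FiniteField.X_pow_card_sub_X_ne_zero F hq₀1
    have hdeg : P.natDegree = q₀ := FiniteField.X_pow_card_sub_X_natDegree_eq F hq₀1
    by_contra hna
    -- the image of F₀ together with a gives q₀ + 1 roots
    let S : Finset F := Finset.image (Subtype.val : F₀ → F) (Finset.univ (α := F₀))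
    have hScard : S.card = q₀ := by
      rw [Finset.card_image_of_injective _ Subtype.val_injective, Finset.card_univ, hcard₀]
    have haS : a ∉ S := by
      intro h
      rw [Finset.mem_image] at h
      obtain ⟨b, _, hb⟩ := h
      exact hna (hb ▸ b.2)
    have hsub : insert a S ⊆ P.roots.toFinset := by
      intro x hx
      rw [Multiset.mem_toFinset, mem_roots hP0, IsRoot, hP, eval_sub, eval_pow, eval_X, sub_eq_zero]
      rw [Finset.mem_insert] at hx
      rcases hx with rfl | hx
      · exact ha
      · rw [Finset.mem_image] at hx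
        obtain ⟨b, _, rfl⟩ := hx
        exact hfix b
    have h1 := Finset.card_le_card hsub
    rw [Finset.card_insert_of_notMem haS, hScard] at h1
    have h2 : P.roots.toFinset.card ≤ q₀ := by
      calc P.roots.toFinset.card ≤ Multiset.card P.roots := Multiset.toFinset_card_le _
        _ ≤ P.natDegree := card_roots' P
        _ = q₀ := hdeg
    omega

/-- a polynomial fixed by the `q₀`-power map on coefficients descends to the subfield -/
theorem exists_map_eq_of_coeff_pow (F₀ : Subfield F) (q₀ : ℕ) (hF₀ : Nat.card F₀ = q₀)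
    (f : F[X]) (hf : ∀ i, (f.coeff i) ^ q₀ = f.coeff i) :
    ∃ f₀ : F₀[X], f₀.map (F₀.subtype : F₀ →+* F) = f := by
  have h : f ∈ Polynomial.lifts (F₀.subtype : F₀ →+* F) := by
    rw [Polynomial.lifts_iff_coeff_lifts]
    intro i
    have hm : f.coeff i ∈ F₀ := (mem_subfield_iff_pow F₀ q₀ hF₀ _).2 (hf i)
    exact ⟨⟨f.coeff i, hm⟩, rfl⟩
  rw [Polynomial.mem_lifts] at h
  exact h

/-- the characteristic polynomial of `M` descends to the subfield of order `q₀ = p ^ e` as soon as
`M ^ q₀` has the same characteristic polynomial as `M` -/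
theorem exists_charpoly_descent (p : ℕ) [Fact p.Prime] [CharP F p] (F₀ : Subfield F) (q₀ e : ℕ)
    (hF₀ : Nat.card F₀ = q₀) (hq₀ : q₀ = p ^ e) (M : Matrix n n F)
    (h : (M ^ q₀).charpoly = M.charpoly) :
    ∃ f₀ : F₀[X], f₀.map (F₀.subtype : F₀ →+* F) = M.charpoly := by
  apply exists_map_eq_of_coeff_pow F₀ q₀ hF₀
  intro i
  have h1 := charpoly_pow_char_pow p M e
  rw [← hq₀, h] at h1
  have h2 := congrArg (fun g => g.coeff i) h1
  simp only [Polynomial.coeff_map, iterateFrobenius_def] at h2
  rw [hq₀]
  exact h2.symm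

end Cfsg.Agent.Lib.Helper22.SubfR
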