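import Mathlib
import Cfsg.Agent.Lib.Helper12.UnK

set_option autoImplicit false

/-!
# Hermitian spaces: orthogonal decompositions into invariant nondegenerate pieces
-/

namespace Cfsg.Agent.Lib.Helper22.NdUn

open Module Polynomial Cfsg.Agent.Lib.Helper12.Elus Cfsg.Agent.Lib.Helper12.Un

section gdl

variable {K V : Type*} [Field K] [AddCommGroup V] [Module K V] [FiniteDimensional K V]
  {σ : K →+* K} (B : V →ₗ[K] V →ₛₗ[σ] K)

/-- **Generic decomposition**: if every nonzero good subspace contains a nonzero good subspace of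
an allowed dimension, every good subspace is an orthogonal sum of such pieces, any sub-collection
of which may be selected. -/
theorem gdl (hσ : ∀ a, σ (σ a) = a) (hsym : ∀ u v, B v u = σ (B u v))
    (Good : Submodule K V → Prop) (S : ℕ → Prop)
    (hnd : ∀ U, Good U → NdOn B U)
    (hcompl : ∀ U C, Good U → Good C → C ≤ U → Good (U ⊓ orth B C))
    (hsup : ∀ C W, Good C → Good W → W ≤ orth B C → Good (C ⊔ W))
    (hpeel : ∀ U, Good U → U ≠ ⊥ → ∃ C, Good C ∧ C ≤ U ∧ C ≠ ⊥ ∧ S (finrank K C)) :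
    ∀ (n : ℕ) (U : Submodule K V), finrank K U = n → Good U →
      ∃ μ : Multiset ℕ, (∀ a ∈ μ, 0 < a ∧ S a) ∧ μ.sum = n ∧
        ∀ ν : Multiset ℕ, ν ≤ μ →
          ∃ W : Submodule K V, Good W ∧ W ≤ U ∧ finrank K W = ν.sum := by
  classical
  intro n
  induction n using Nat.strong_induction_on with
  | _ n ih =>
    intro U hUdim hU
    by_cases hU0 : U = ⊥
    · refine ⟨0, fun a ha => absurd ha (Multiset.notMem_zero a), ?_, ?_⟩
      · rw [Multiset.sum_zero, ← hUdim, hU0, finrank_bot]
      · intro ν hν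
        rw [Multiset.le_zero] at hν
        refine ⟨U, hU, le_rfl, ?_⟩
        rw [hν, Multiset.sum_zero, hU0, finrank_bot]
    · obtain ⟨C, hC, hCU, hC0, hCS⟩ := hpeel U hU hU0
      have hCnd := hnd C hC
      have hCpos : 0 < finrank K C := by
        rw [Nat.pos_iff_ne_zero]
        intro h0
        exact hC0 (Submodule.finrank_eq_zero.1 h0)
      have hU'dim := finrank_inf_orth B hσ hsym U C hCU hCnd
      have hU' := hcompl U C hU hC hCU
      obtain ⟨μ', hμ'1, hμ'sum, hμ'sel⟩ := ih (finrank K ↥(U ⊓ orth B C)) (by omega)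
        (U ⊓ orth B C) rfl hU'
      refine ⟨finrank K C ::ₘ μ', ?_, ?_, ?_⟩
      · intro a ha
        rcases Multiset.mem_cons.1 ha with rfl | ha'
        · exact ⟨hCpos, hCS⟩
        · exact hμ'1 a ha'
      · rw [Multiset.sum_cons, hμ'sum, hU'dim, hUdim]
      · intro ν hν
        by_cases haν : finrank K C ∈ ν
        · have h1 : ν.erase (finrank K C) ≤ μ' := Multiset.erase_le_iff_le_cons.2 hν
          obtain ⟨W', hW', hW'U, hW'dim⟩ := hμ'sel _ h1
          refine ⟨C ⊔ W', hsup C W' hC hW' (hW'U.trans inf_le_right),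
            sup_le hCU (hW'U.trans inf_le_left), ?_⟩
          have hdisj : C ⊓ W' = ⊥ := by
            rw [eq_bot_iff]
            have h2 := (ndOn_iff_disjoint B hsym C).1 hCnd
            rw [← h2.eq_bot]
            exact inf_le_inf le_rfl (hW'U.trans inf_le_right)
          have := Submodule.finrank_sup_add_finrank_inf_eq C W'
          rw [hdisj, finrank_bot, add_zero, hW'dim] at this
          rw [this, Multiset.sum_erase haν]
        · have h1 : ν ≤ μ' := (Multiset.le_cons_of_notMem haν).1 hν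
          obtain ⟨W', hW', hW'U, hW'dim⟩ := hμ'sel _ h1
          exact ⟨W', hW', hW'U.trans inf_le_left, hW'dim⟩

/-- the case of a single allowed dimension -/
theorem gdl_const (hσ : ∀ a, σ (σ a) = a) (hsym : ∀ u v, B v u = σ (B u v))
    (Good : Submodule K V → Prop) (c : ℕ)
    (hnd : ∀ U, Good U → NdOn B U)
    (hcompl : ∀ U C, Good U → Good C → C ≤ U → Good (U ⊓ orth B C))
    (hsup : ∀ C W, Good C → Good W → W ≤ orth B C → Good (C ⊔ W))
    (hpeel : ∀ U, Good U → U ≠ ⊥ → ∃ C, Good C ∧ C ≤ U ∧ C ≠ ⊥ ∧ finrank K C = c)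
    (U : Submodule K V) (hU : Good U) :
    ∃ t : ℕ, finrank K U = c * t ∧
      ∀ j : ℕ, j ≤ t → ∃ W : Submodule K V, Good W ∧ W ≤ U ∧ finrank K W = c * j := by
  obtain ⟨μ, hμ1, hμsum, hμsel⟩ := gdl B hσ hsym Good (fun a => a = c) hnd hcompl hsup hpeel
    (finrank K U) U rfl hU
  have hμ : μ = Multiset.replicate (Multiset.card μ) c :=
    Multiset.eq_replicate_card.2 (fun a ha => (hμ1 a ha).2)
  refine ⟨Multiset.card μ, ?_, ?_⟩
  · rw [← hμsum]
    conv_lhs => rw [hμ]
    rw [Multiset.sum_replicate, smul_eq_mul, mul_comm]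
  · intro j hj
    obtain ⟨W, hW, hWU, hWdim⟩ := hμsel (Multiset.replicate j c) (by
      rw [hμ]
      exact (Multiset.replicate_le_replicate c).2 hj)
    refine ⟨W, hW, hWU, ?_⟩
    rw [hWdim, Multiset.sum_replicate, smul_eq_mul, mul_comm]

end gdl

section aniso

variable {K V : Type*} [Field K] [AddCommGroup V] [Module K V]
  {σ : K →+* K} (B : V →ₗ[K] V →ₛₗ[σ] K)

/-- polarisation: a sesquilinear expression `B u (S w)` vanishing on the diagonal of a subspace
and "hermitian up to sign" vanishes identically when `σ` is not the identity -/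
theorem polar_zero (hσn : ∃ c : K, σ c ≠ c) (S : V →ₗ[K] V) (M : Submodule K V)
    (h : ∀ v ∈ M, B v (S v) = 0) : ∀ u ∈ M, ∀ w ∈ M, B u (S w) = 0 := by
  obtain ⟨c, hc⟩ := hσn
  intro u hu w hw
  have h1 := h (u + w) (Submodule.add_mem _ hu hw)
  have h2 := h (c • u + w) (Submodule.add_mem _ (Submodule.smul_mem _ _ hu) hw)
  simp only [map_add, LinearMap.add_apply, map_smul, LinearMap.smul_apply, map_smulₛₗ,
    smul_eq_mul, h u hu, h w hw, mul_zero, zero_add, add_zero] at h1 h2
  have h3 : (c - σ c) * B u (S w) = 0 := by linear_combination h2 - σ c * h1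
  rcases mul_eq_zero.1 h3 with h4 | h4
  · exact absurd (sub_eq_zero.1 h4).symm hc
  · exact h4

/-- a nondegenerate nonzero subspace of a hermitian space contains an anisotropic vector -/
theorem exists_aniso (hσn : ∃ c : K, σ c ≠ c)
    (U : Submodule K V) (hU : NdOn B U) (hU0 : U ≠ ⊥) : ∃ v ∈ U, B v v ≠ 0 := by
  by_contra hcon
  push Not at hcon
  have h1 := polar_zero B hσn LinearMap.id U (fun v hv => by
    rw [LinearMap.id_apply]
    exact hcon v hv)
  obtain ⟨u, hu, hu0⟩ := (Submodule.ne_bot_iff U).1 hU0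
  obtain ⟨w, hw, hne⟩ := hU u hu hu0
  exact hne (h1 u hu w hw)

end aniso

section ndsub

variable {K V : Type*} [Field K] [AddCommGroup V] [Module K V] [FiniteDimensional K V]
  {σ : K →+* K} (B : V →ₗ[K] V →ₛₗ[σ] K)

/-- nondegenerate subspaces of every dimension -/
theorem exists_nd_sub (hσ : ∀ a, σ (σ a) = a) (hsym : ∀ u v, B v u = σ (B u v))
    (hσn : ∃ c : K, σ c ≠ c) (U : Submodule K V) (hU : NdOn B U) (j : ℕ)
    (hj : j ≤ finrank K U) :
    ∃ W : Submodule K V, W ≤ U ∧ NdOn B W ∧ finrank K W = j := by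
  obtain ⟨t, ht, hsel⟩ := gdl_const B hσ hsym (fun W => NdOn B W) 1 (fun _ h => h)
    (fun U C hU hC hCU => ndOn_inf_orth B hσ hsym U C hU hCU hC)
    (fun C W hC hW hWC => ndOn_sup B hsym C W hC hW (fun a ha c hc => hWC hc a ha))
    (fun U hU hU0 => by
      obtain ⟨v, hvU, hvv⟩ := exists_aniso B hσn U hU hU0
      have hv0 : v ≠ 0 := by
        intro h0
        rw [h0, map_zero] at hvv
        exact hvv rfl
      refine ⟨Submodule.span K {v}, ndOn_span_singleton B v hvv, ?_, ?_,
        finrank_span_singleton hv0⟩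
      · rw [Submodule.span_le]
        intro x hx
        rw [Set.mem_singleton_iff.1 hx]
        exact hvU
      · intro h0
        have : v ∈ Submodule.span K {v} := Submodule.mem_span_singleton_self v
        rw [h0] at this
        exact hv0 ((Submodule.mem_bot K).1 this)) U hU
  rw [one_mul] at ht
  obtain ⟨W, hW, hWU, hWdim⟩ := hsel j (by omega)
  exact ⟨W, hWU, hW, by rw [hWdim, one_mul]⟩

end ndsub

end Cfsg.Agent.Lib.Helper22.NdUn
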