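import Mathlib
import Cfsg.Agent.Lib.Helper22.NdUnA

set_option autoImplicit false

/-!
# Unipotent isometries of hermitian spaces: orthogonal decomposition into cyclic blocks
-/

namespace Cfsg.Agent.Lib.Helper22.NdUn

open Module Polynomial Cfsg.Agent.Lib.Helper12 Cfsg.Agent.Lib.Helper12.Elus Cfsg.Agent.Lib.Helper12.Un

section unip

variable {K V : Type*} [Field K] [AddCommGroup V] [Module K V] [FiniteDimensional K V]
  {σ : K →+* K} (B : V →ₗ[K] V →ₛₗ[σ] K) (y : V →ₗ[K] V)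

omit [FiniteDimensional K V] in
/-- peeling a nondegenerate cyclic block off an invariant nondegenerate subspace of a unipotent
isometry -/
theorem peel_unip (hsym : ∀ u v, B v u = σ (B u v))
    (hσn : ∃ c : K, σ c ≠ c) (hiso : ∀ u v, B (y u) (y v) = B u v) (N : ℕ) (hN : 0 < N)
    (hy : y ^ N = 1) (k : ℕ) (hnil : (y - 1) ^ k = 0)
    (M : Submodule K V) (hM : ∀ u ∈ M, y u ∈ M) (hMnd : NdOn B M) (hM0 : M ≠ ⊥) :
    ∃ C : Submodule K V, (∀ u ∈ C, y u ∈ C) ∧ NdOn B C ∧ C ≤ M ∧ C ≠ ⊥ ∧ finrank K C ≤ k := by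
  classical
  set T : Module.End K V := y - 1 with hT
  have hyT : ∀ u, y u = T u + u := by
    intro u
    rw [hT, LinearMap.sub_apply, Module.End.one_apply, sub_add_cancel]
  have hTy : ∀ u, T u = y u - u := by
    intro u
    rw [hT, LinearMap.sub_apply, Module.End.one_apply]
  have hMT : ∀ u ∈ M, T u ∈ M := fun u hu => by
    rw [hTy]
    exact Submodule.sub_mem _ (hM u hu) hu
  have hex : ∃ a, ∀ u ∈ M, (T ^ a) u = 0 := ⟨k, fun u _ => by rw [hnil]; rfl⟩
  have haspec := Nat.find_spec hex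
  have hak : Nat.find hex ≤ k := Nat.find_min' hex (fun u _ => by rw [hnil]; rfl)
  have hapos : 0 < Nat.find hex := by
    rw [Nat.pos_iff_ne_zero]
    intro h0
    obtain ⟨u, hu, hu0⟩ := (Submodule.ne_bot_iff M).1 hM0
    have := haspec u hu
    rw [h0, pow_zero, Module.End.one_apply] at this
    exact hu0 this
  have hmin := Nat.find_min hex (show Nat.find hex - 1 < Nat.find hex by omega)
  set a := Nat.find hex with ha
  push Not at hmin
  obtain ⟨w₀, hw₀M, hw₀⟩ := hmin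
  set S : Module.End K V := T ^ (a - 1) with hS
  have hSM : ∀ u ∈ M, S u ∈ M := fun u hu =>
    Module.End.pow_apply_mem_of_forall_mem (a - 1) hMT u hu
  -- polarisation
  obtain ⟨v, hvM, hv⟩ : ∃ v ∈ M, B v (S v) ≠ 0 := by
    by_contra hcon
    push Not at hcon
    have h1 := polar_zero B hσn S M hcon
    obtain ⟨u, hu, hne⟩ := hMnd (S w₀) (hSM w₀ hw₀M) hw₀
    exact hne (herm_swap B hsym _ _ (h1 u hu w₀ hw₀M))
  have hv0 : v ≠ 0 := by
    intro h0
    rw [h0, map_zero, LinearMap.zero_apply] at hv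
    exact hv rfl
  have hTav : (T ^ a) v = 0 := haspec v hvM
  obtain ⟨hCT, -⟩ := Sp.cyc_of_aeval T v (X ^ a) (monic_X_pow a) a (natDegree_X_pow a)
    (by rw [map_pow, aeval_X]; exact hTav)
  have hCinv : ∀ u ∈ cyc T v a, y u ∈ cyc T v a := fun u hu => by
    rw [hyT]
    exact Submodule.add_mem _ (hCT u hu) hu
  have hvC : v ∈ cyc T v a := self_mem_cyc T v a hapos
  have hC0 : cyc T v a ≠ ⊥ := by
    intro h0
    rw [h0] at hvC
    exact hv0 ((Submodule.mem_bot K).1 hvC)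
  have hOy := orth_invariant B y hiso N hN hy (cyc T v a) hCinv
  have hOT : ∀ u ∈ orth B (cyc T v a), T u ∈ orth B (cyc T v a) := fun u hu => by
    rw [hTy]
    exact Submodule.sub_mem _ (hOy u hu) hu
  refine ⟨cyc T v a, hCinv, ?_, Sp.cyc_le T v a M hMT hvM, hC0,
    (finrank_cyc_le T v a).trans hak⟩
  rw [ndOn_iff_disjoint B hsym, Submodule.disjoint_def]
  intro u huC huO
  by_contra hu0
  rw [cyc, Submodule.mem_span_range_iff_exists_fun] at huC
  obtain ⟨c, hc⟩ := huC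
  have hexi : ∃ i : ℕ, ∃ h : i < a, c ⟨i, h⟩ ≠ 0 := by
    by_contra hcon
    push Not at hcon
    apply hu0
    rw [← hc]
    apply Finset.sum_eq_zero
    intro i _
    rw [hcon i.1 i.2, zero_smul]
  obtain ⟨hi₀, hci₀⟩ := Nat.find_spec hexi
  have hlt : ∀ j : Fin a, (j : ℕ) < Nat.find hexi → c j = 0 := by
    intro j hj
    by_contra hne
    exact Nat.find_min hexi hj ⟨j.2, hne⟩
  set i₀ := Nat.find hexi with hi₀def
  have h1 : (T ^ (a - 1 - i₀)) u = c ⟨i₀, hi₀⟩ • S v := by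
    rw [← hc, map_sum, Finset.sum_eq_single ⟨i₀, hi₀⟩]
    · rw [map_smul]
      congr 1
      show (T ^ (a - 1 - i₀)) ((T ^ i₀) v) = S v
      rw [← Module.End.mul_apply, ← pow_add, hS]
      congr 2
      omega
    · intro j _ hj
      rw [map_smul]
      rcases Nat.lt_or_ge (j : ℕ) i₀ with hlt' | hge
      · rw [hlt j hlt', zero_smul]
      · have hne : (j : ℕ) ≠ i₀ := fun h => hj (Fin.ext h)
        have h2 : (T ^ (a - 1 - i₀)) ((T ^ (j : ℕ)) v) = 0 := by
          rw [← Module.End.mul_apply, ← pow_add]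
          have h3 : a - 1 - i₀ + (j : ℕ) = (a - 1 - i₀ + (j : ℕ) - a) + a := by omega
          rw [h3, pow_add, Module.End.mul_apply, hTav, map_zero]
        show c j • (T ^ (a - 1 - i₀)) ((T ^ (j : ℕ)) v) = 0
        rw [h2, smul_zero]
    · intro h
      exact absurd (Finset.mem_univ _) h
  have h2 : (T ^ (a - 1 - i₀)) u ∈ orth B (cyc T v a) :=
    Module.End.pow_apply_mem_of_forall_mem _ hOT u huO
  have h3 := h2 v hvC
  rw [h1, map_smulₛₗ, smul_eq_mul] at h3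
  rcases mul_eq_zero.1 h3 with h4 | h4
  · exact hci₀ ((map_eq_zero_iff σ σ.injective).1 h4)
  · exact hv h4

/-- a unipotent isometry of a hermitian space is an orthogonal sum of invariant nondegenerate
subspaces of dimension at most the nilpotency index, any sub-collection of which may be
selected -/
theorem udec_unip (hσ : ∀ a, σ (σ a) = a) (hsym : ∀ u v, B v u = σ (B u v))
    (hσn : ∃ c : K, σ c ≠ c) (hiso : ∀ u v, B (y u) (y v) = B u v) (N : ℕ) (hN : 0 < N)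
    (hy : y ^ N = 1) (k : ℕ) (hnil : (y - 1) ^ k = 0)
    (U : Submodule K V) (hU : ∀ u ∈ U, y u ∈ U) (hUnd : NdOn B U) :
    ∃ μ : Multiset ℕ, (∀ a ∈ μ, 0 < a ∧ a ≤ k) ∧ μ.sum = finrank K U ∧
      ∀ ν : Multiset ℕ, ν ≤ μ → ∃ W : Submodule K V, (∀ u ∈ W, y u ∈ W) ∧ NdOn B W ∧ W ≤ U ∧
        finrank K W = ν.sum := by
  obtain ⟨μ, h1, h2, h3⟩ := gdl B hσ hsym (fun W => (∀ u ∈ W, y u ∈ W) ∧ NdOn B W)
    (fun a => a ≤ k) (fun _ h => h.2)
    (fun U C hU hC hCU => ⟨Sp.inf_invariant y _ _ hU.1 (orth_invariant B y hiso N hN hy C hC.1),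
      ndOn_inf_orth B hσ hsym U C hU.2 hCU hC.2⟩)
    (fun C W hC hW hWC => ⟨sup_invariant y C W hC.1 hW.1,
      ndOn_sup B hsym C W hC.2 hW.2 (fun a ha c hc => hWC hc a ha)⟩)
    (fun U hU hU0 => by
      obtain ⟨C, hC1, hC2, hC3, hC4, hC5⟩ := peel_unip B y hsym hσn hiso N hN hy k hnil U hU.1
        hU.2 hU0
      exact ⟨C, ⟨hC1, hC2⟩, hC3, hC4, hC5⟩) (finrank K U) U rfl ⟨hU, hUnd⟩
  refine ⟨μ, h1, h2, fun ν hν => ?_⟩
  obtain ⟨W, hW, hWU, hWdim⟩ := h3 ν hν
  exact ⟨W, hW.1, hW.2, hWU, hWdim⟩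

end unip

end Cfsg.Agent.Lib.Helper22.NdUn
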