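import Mathlib
import Cfsg.Agent.Lib.Helper22.NdUnB
import Cfsg.Agent.Lib.Helper15.UnitaryType
import Cfsg.Agent.Lib.Helper15.UniDecomp
import Cfsg.Agent.Lib.Helper12.ElusM

set_option autoImplicit false

/-!
# `PSU_n(q)` on nondegenerate subspaces: the matrix-level statement and the unipotent case
-/

namespace Cfsg.Agent.Lib.Helper22.NdUn

open Module Polynomial Cfsg.Agent.Lib.Helper12 Cfsg.Agent.Lib.Helper12.Elus
  Cfsg.Agent.Lib.Helper12.Un Cfsg.Agent.Lib.Helper14 Cfsg.Agent.Lib.Helper5.HermBridge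
  Cfsg.Agent.Lib.Helper15 Cfsg.Agent.Lib.Helper15.NilpotentConj

universe u

section subtype

variable {K V : Type u} [Field K] [AddCommGroup V] [Module K V] [FiniteDimensional K V]
  {σ : K →+* K} (B : V →ₗ[K] V →ₛₗ[σ] K) (y : V →ₗ[K] V)

/-- the Jordan type of a unipotent isometry on an invariant nondegenerate subspace is a
sub-multiset of its Jordan type -/
theorem sub_type_of_nd (hσ : ∀ a, σ (σ a) = a) (hsym : ∀ u v, B v u = σ (B u v))
    (hiso : ∀ u v, B (y u) (y v) = B u v) (N : ℕ) (hN : 0 < N) (hy : y ^ N = 1)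
    (hnil : IsNilpotent (y - 1)) (μ : Multiset ℕ) (hμ : ∀ b ∈ μ, 1 ≤ b)
    (hk : ∀ s, kap (y - 1) s = kapm μ s) (W : Submodule K V) (hWinv : ∀ u ∈ W, y u ∈ W)
    (hWnd : NdOn B W) : ∃ ν : Multiset ℕ, ν ≤ μ ∧ ν.sum = finrank K W := by
  have hOinv := orth_invariant B y hiso N hN hy W hWinv
  have hinvt : ∀ W' : Submodule K V, (∀ u ∈ W', y u ∈ W') →
      W' ∈ Module.End.invtSubmodule (y - 1) := by
    intro W' hW'
    rw [Module.End.mem_invtSubmodule]
    intro u hu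
    show (y - 1) u ∈ W'
    rw [LinearMap.sub_apply, Module.End.one_apply]
    exact Submodule.sub_mem _ (hW' u hu) hu
  have hc : IsCompl W (orth B W) :=
    ⟨(ndOn_iff_disjoint B hsym W).1 hWnd,
      codisjoint_iff.2 (sup_orth_eq_top B hσ hsym W hWnd)⟩
  obtain ⟨ν, hνle, hνsum, -, -⟩ := UniDecomp.type_le_of_isCompl (y - 1) hnil μ hμ hk W
    (orth B W) (hinvt W hWinv) (hinvt _ hOinv) hc
  exact ⟨ν, hνle, hνsum⟩

end subtype

section ctx

variable {F : Type u} [Field F] [Fintype F] {q : ℕ}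

/-- the matrix `A` fixes a nondegenerate `m`-subspace -/
def FixesN (hF : Fintype.card F = q ^ 2) (n m : ℕ) (A : Matrix (Fin n) (Fin n) F) : Prop :=
  ∃ W : Submodule F (Fin n → F), finrank F W = m ∧ NdOn (hermB hF n) W ∧
    ∀ u ∈ W, Matrix.toLin' A u ∈ W

theorem fixesN_iff (hF : Fintype.card F = q ^ 2) (n m : ℕ) (A : Matrix (Fin n) (Fin n) F) :
    FixesN hF n m A ↔ ∃ W : Submodule F (Fin n → F), finrank F W = m ∧
      (∀ u ∈ W, u ≠ 0 → ∃ v ∈ W, Cfsg.hermForm n F q u v ≠ 0) ∧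
      W.map (Matrix.toLin' A) ≤ W := by
  constructor
  · rintro ⟨W, h1, h2, h3⟩
    refine ⟨W, h1, h2, ?_⟩
    rintro _ ⟨u, hu, rfl⟩
    exact h3 u hu
  · rintro ⟨W, h1, h2, h3⟩
    exact ⟨W, h1, h2, fun u hu => h3 ⟨u, hu, rfl⟩⟩

/-- the statement's left-hand side at matrix level -/
theorem lhsN_iff (hF : Fintype.card F = q ^ 2) (n m r : ℕ) :
    (∀ x : Matrix.SpecialLinearGroup (Fin n) F, x ∈ Cfsg.SU n F q →
      (∃ z : F, ((x ^ r : Matrix.SpecialLinearGroup (Fin n) F) : Matrix (Fin n) (Fin n) F) =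
        z • (1 : Matrix (Fin n) (Fin n) F)) →
      (∀ z : F, (x : Matrix (Fin n) (Fin n) F) ≠ z • (1 : Matrix (Fin n) (Fin n) F)) →
      ∃ W : Submodule F (Fin n → F), Module.finrank F ↥W = m ∧
        (∀ u ∈ W, u ≠ 0 → ∃ v ∈ W, Cfsg.hermForm n F q u v ≠ 0) ∧
        W.map (Matrix.toLin' (x : Matrix (Fin n) (Fin n) F)) ≤ W) ↔
    (∀ A : Matrix (Fin n) (Fin n) F, IsUni F q n A → A.det = 1 →
      (∃ z : F, A ^ r = z • (1 : Matrix (Fin n) (Fin n) F)) →
      (∀ z : F, A ≠ z • (1 : Matrix (Fin n) (Fin n) F)) → FixesN hF n m A) := by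
  constructor
  · intro H A hA hdet hz hns
    rw [fixesN_iff]
    obtain ⟨x, hx⟩ : ∃ x : Matrix.SpecialLinearGroup (Fin n) F,
        (x : Matrix (Fin n) (Fin n) F) = A := ⟨⟨A, hdet⟩, rfl⟩
    subst hx
    exact H x hA (by
      obtain ⟨z, hz⟩ := hz
      refine ⟨z, ?_⟩
      rw [Matrix.SpecialLinearGroup.coe_pow]
      exact hz) hns
  · intro H x hx hz hns
    have := H x.1 hx x.2 (by
      obtain ⟨z, hz⟩ := hz
      refine ⟨z, ?_⟩
      rw [Matrix.SpecialLinearGroup.coe_pow] at hz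
      exact hz) hns
    rw [fixesN_iff] at this
    exact this

theorem ndOn_top (hF : Fintype.card F = q ^ 2) (n : ℕ) :
    NdOn (hermB hF n) (⊤ : Submodule F (Fin n → F)) := by
  intro u _ hu0
  by_contra hcon
  push Not at hcon
  exact hu0 (hermB_nd hF n u (fun z => hcon z Submodule.mem_top))

theorem frob_ne (hF : Fintype.card F = q ^ 2) : ∃ c : F, frobHom hF c ≠ c := by
  obtain ⟨x, hx⟩ := Cfsg.Agent.S2643.exists_not_fixed hF
  exact ⟨x, hx⟩

/-- a scalar multiple of `A` fixes the same subspaces -/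
theorem fixesN_of_smul (hF : Fintype.card F = q ^ 2) (n m : ℕ) (A : Matrix (Fin n) (Fin n) F)
    (w : F) (hw : w ≠ 0)
    (h : ∃ W : Submodule F (Fin n → F), finrank F W = m ∧ NdOn (hermB hF n) W ∧
      ∀ u ∈ W, (w⁻¹ • Matrix.toLin' A) u ∈ W) : FixesN hF n m A := by
  obtain ⟨W, hWdim, hWnd, hWinv⟩ := h
  refine ⟨W, hWdim, hWnd, fun u hu => ?_⟩
  have h3 : Matrix.toLin' A u = w • (w⁻¹ • Matrix.toLin' A) u := by
    rw [LinearMap.smul_apply, smul_smul, mul_inv_cancel₀ hw, one_smul]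
  rw [h3]
  exact Submodule.smul_mem _ _ (hWinv u hu)

end ctx

section unipotent

variable {F : Type u} [Field F] [Fintype F]

theorem coprime_char (p e : ℕ) [Fact p.Prime] (he : e ≠ 0) : Nat.Coprime p (p ^ e + 1) := by
  have hp : p.Prime := Fact.out
  rw [Nat.Prime.coprime_iff_not_dvd hp]
  intro hd
  have h1 : p ∣ p ^ e := dvd_pow_self p he
  have h2 : p ∣ 1 := (Nat.dvd_add_right h1).1 hd
  exact hp.one_lt.ne' (Nat.dvd_one.1 h2)

theorem exp_ne_zero (p e : ℕ) (hF : Fintype.card F = (p ^ e) ^ 2) : e ≠ 0 := by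
  classical
  have hq2 := herm_two_le hF
  intro h0
  rw [h0, pow_zero] at hq2
  omega

/-- `r = p`: sufficiency of the partition condition -/
theorem bwd_unip (p e : ℕ) [Fact p.Prime] [CharP F p] (hF : Fintype.card F = (p ^ e) ^ 2)
    (n m : ℕ) (hn : 1 ≤ n)
    (hpart : ∀ μ : Multiset ℕ, (∀ a ∈ μ, 0 < a ∧ a ≤ p) → μ.sum = n →
      ∃ ν : Multiset ℕ, ν ≤ μ ∧ ν.sum = m)
    (A : Matrix (Fin n) (Fin n) F) (hA : IsUni F (p ^ e) n A)
    (hz : ∃ z : F, A ^ p = z • (1 : Matrix (Fin n) (Fin n) F)) : FixesN hF n m A := by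
  classical
  have hp : p.Prime := Fact.out
  have hq2 := herm_two_le hF
  obtain ⟨z, hz⟩ := hz
  have hzn : z * z ^ (p ^ e) = 1 := scal_norm n (by omega) A hA p z hz
  have hz0 : z ≠ 0 := by
    intro h0
    rw [h0, zero_mul] at hzn
    exact zero_ne_one hzn
  obtain ⟨w, hw1, hw2⟩ := exists_root_of_coprime p (coprime_char p e (exp_ne_zero p e hF))
    (by omega) z hzn
  have hw0 : w ≠ 0 := by
    intro h0
    rw [h0, zero_mul] at hw1
    exact zero_ne_one hw1
  have hTr : (Matrix.toLin' A) ^ p = z • 1 := by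
    rw [← Matrix.toLin'_pow, hz, map_smul, Matrix.toLin'_one]
    rfl
  apply fixesN_of_smul hF n m A w hw0
  set y := w⁻¹ • Matrix.toLin' A with hy
  have hiso : ∀ u v, hermB hF n (y u) (y v) = hermB hF n u v :=
    scaled_iso hF n A hA w⁻¹ (inv_norm w hw1)
  have hyp : y ^ p = 1 := by
    rw [hy, _root_.smul_pow, hTr, smul_smul, inv_pow, hw2, inv_mul_cancel₀ hz0, one_smul]
  have hnil : (y - 1) ^ p = 0 := by
    rw [sub_one_pow_char_end p y, hyp, sub_self]
  obtain ⟨μ, hμ1, hμsum, hμsel⟩ := udec_unip (hermB hF n) y (frob_invol hF) (hermB_sym hF n)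
    (frob_ne hF) hiso p hp.pos hyp p hnil ⊤ (fun _ _ => Submodule.mem_top) (ndOn_top hF n)
  rw [finrank_top, Module.finrank_fin_fun] at hμsum
  obtain ⟨ν, hνle, hνsum⟩ := hpart μ hμ1 hμsum
  obtain ⟨W, hWinv, hWnd, -, hWdim⟩ := hμsel ν hνle
  exact ⟨W, by rw [hWdim, hνsum], hWnd, hWinv⟩

/-- `r = p`: necessity of the partition condition -/
theorem fwd_unip (p e : ℕ) [Fact p.Prime] [CharP F p] (hF : Fintype.card F = (p ^ e) ^ 2)
    (n m : ℕ) (hmn : m ≤ n)
    (H : ∀ A : Matrix (Fin n) (Fin n) F, IsUni F (p ^ e) n A → A.det = 1 → A ^ p = 1 →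
      (∀ z : F, A ≠ z • (1 : Matrix (Fin n) (Fin n) F)) → FixesN hF n m A)
    (μ : Multiset ℕ) (hμ : ∀ a ∈ μ, 0 < a ∧ a ≤ p) (hsum : μ.sum = n) :
    ∃ ν : Multiset ℕ, ν ≤ μ ∧ ν.sum = m := by
  classical
  have hp : p.Prime := Fact.out
  by_cases hall : ∀ a ∈ μ, a ≤ 1
  · have hμ1 : μ = Multiset.replicate (Multiset.card μ) 1 := by
      rw [Multiset.eq_replicate]
      refine ⟨rfl, fun b hb => ?_⟩
      have h1 := hall b hb
      have h2 := (hμ b hb).1
      omega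
    have hcard : Multiset.card μ = n := by
      rw [← hsum]
      conv_rhs => rw [hμ1]
      rw [Multiset.sum_replicate, smul_eq_mul, mul_one]
    refine ⟨Multiset.replicate m 1, ?_, ?_⟩
    · rw [hμ1, hcard, Multiset.replicate_le_replicate]
      exact hmn
    · rw [Multiset.sum_replicate, smul_eq_mul, mul_one]
  · push Not at hall
    obtain ⟨a₀, ha₀μ, ha₀⟩ := hall
    have hμpos : ∀ b ∈ μ, 1 ≤ b := fun b hb => (hμ b hb).1
    have hn2 : 2 ≤ n := by
      rw [← hsum]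
      exact le_trans (by omega) (Multiset.single_le_sum (fun _ _ => Nat.zero_le _) a₀ ha₀μ)
    let _ : StarRing F := Cfsg.Agent.S2643.frobStar hF
    obtain ⟨g, hgu, hgn, hgk⟩ := UnitaryType.exists_unitary_of_type (Cfsg.Agent.S2643.frob_T hF)
      (Cfsg.Agent.S2643.frob_N hF) (Cfsg.Agent.S2643.frob_S hF) μ hμpos n hsum
    have hgU : IsUni F (p ^ e) n g := (Cfsg.Agent.S2643.isUni_iff hF g).2 hgu
    have hNp : (g - 1) ^ p = 0 := by
      rw [pow_eq_zero_iff_mkap, hgk, ← hsum, kapm_eq_sum_iff]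
      exact fun a ha => (hμ a ha).2
    have hgp : g ^ p = 1 := by
      have := sub_one_pow_char_pow p g 1
      rw [pow_one, hNp] at this
      exact (sub_eq_zero.1 this.symm)
    have hdet : g.det = 1 := by
      apply eq_one_of_pow_char_eq_one p
      rw [← Matrix.det_pow, hgp, Matrix.det_one]
    have hns : ∀ z : F, g ≠ z • (1 : Matrix (Fin n) (Fin n) F) := by
      intro z hz
      have h1 : z ^ p = 1 := by
        have h2 := hgp
        rw [hz, _root_.smul_pow, one_pow] at h2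
        have h3 := congrFun (congrFun h2 ⟨0, by omega⟩) ⟨0, by omega⟩
        rw [Matrix.smul_apply, Matrix.one_apply_eq, smul_eq_mul, mul_one] at h3
        exact h3
      have h2 := eq_one_of_pow_char_eq_one p z h1
      rw [h2, one_smul] at hz
      have h3 : (g - 1) ^ 1 = 0 := by rw [pow_one, hz, sub_self]
      rw [pow_eq_zero_iff_mkap, hgk, ← hsum, kapm_eq_sum_iff] at h3
      exact absurd (h3 a₀ ha₀μ) (not_le.2 ha₀)
    obtain ⟨W, hWdim, hWnd, hWinv⟩ := H g hgU hdet hgp hns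
    set T := Matrix.toLin' g with hT
    have hTp : T ^ p = 1 := by
      rw [hT, ← Matrix.toLin'_pow, hgp, Matrix.toLin'_one]
      rfl
    have hTM : Matrix.toLin' (g - 1) = T - 1 := by
      rw [map_sub, Matrix.toLin'_one]
      rfl
    have hk : ∀ s, kap (T - 1) s = kapm μ s := by
      intro s
      rw [← hTM]
      exact hgk s
    have hnil' : IsNilpotent (T - 1) := by
      rw [← hTM]
      exact isNilpotent_toLin' _ hgn
    obtain ⟨ν, hνle, hνsum⟩ := sub_type_of_nd (hermB hF n) T (frob_invol hF) (hermB_sym hF n)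
      (uni_iso hF n g hgU) p hp.pos hTp hnil' μ hμpos hk W hWinv hWnd
    exact ⟨ν, hνle, by rw [hνsum, hWdim]⟩

end unipotent

end Cfsg.Agent.Lib.Helper22.NdUn
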