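import Mathlib
import Cfsg.Agent.Lib.Helper22.NdUnC

set_option autoImplicit false

/-!
# Semisimple isometries of odd prime order of hermitian spaces: invariant nondegenerate subspaces
-/

namespace Cfsg.Agent.Lib.Helper22.NdUn

open Module Polynomial Cfsg.Agent.Lib.Helper12 Cfsg.Agent.Lib.Helper12.Elus
  Cfsg.Agent.Lib.Helper12.Un Cfsg.Agent.Lib.Helper15

section ss

variable {K V : Type*} [Field K] [Fintype K] [AddCommGroup V] [Module K V]
  [FiniteDimensional K V] {σ : K →+* K}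
  (B : V →ₗ[K] V →ₛₗ[σ] K) (y : V →ₗ[K] V) (r : ℕ) [Fact r.Prime]

omit [FiniteDimensional K V] in
/-- kernels of coprime polynomials are orthogonal in the self-dual case -/
theorem ker_orth (p : ℕ) [Fact p.Prime] [CharP K p] (hσ : ∀ a, σ (σ a) = a) (e : ℕ)
    (hσe : ∀ c, σ c = c ^ (p ^ e)) (hK : Fintype.card K = (p ^ e) ^ 2)
    (hiso : ∀ u v, B (y u) (y v) = B u v) (hy : y ^ r = 1) (j : ℕ)
    (hm : r ∣ (p ^ e) ^ (2 * j + 1) + 1) (h g : K[X]) (hcop : IsCoprime h g) :
    ∀ u ∈ LinearMap.ker (aeval y h), ∀ v ∈ LinearMap.ker (aeval y g), B u v = 0 := by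
  obtain ⟨a, b, hab⟩ := id hcop
  intro u hu v hv
  rw [LinearMap.mem_ker] at hu hv
  have hv1 : aeval y (a * h) v = v := by
    have h1 : v = aeval y (a * h + b * g) v := by rw [hab, map_one, Module.End.one_apply]
    rw [map_add, LinearMap.add_apply] at h1
    have h2 : aeval y (b * g) v = 0 := by
      rw [map_mul, Module.End.mul_apply, hv, map_zero]
    rw [h2, add_zero] at h1
    exact h1.symm
  have hpow : ∀ n : ℕ, ((aeval y (a * h)) ^ n) v = v := by
    intro n
    induction n with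
    | zero => rw [pow_zero, Module.End.one_apply]
    | succ n ih => rw [pow_succ, Module.End.mul_apply, hv1, ih]
  have h3 := adjoint_pow B y r hσ e hσe hK hiso hy j hm (a * h) u v
  rw [hpow] at h3
  rw [← h3, map_mul, Module.End.mul_apply, hu, map_zero, map_zero, LinearMap.zero_apply]

/-- the dimension of the minimal invariant nondegenerate subspaces of the moved space -/
noncomputable def cdim (K : Type*) [Fintype K] (q r : ℕ) : ℕ :=
  if orderOf (q : ZMod r) % 4 = 2 then orderOf (Fintype.card K : ZMod r)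
    else 2 * orderOf (Fintype.card K : ZMod r)

theorem cdim_pos (p : ℕ) [Fact p.Prime] [CharP K p] (q : ℕ) (hrp : r ≠ p) :
    0 < cdim K q r := by
  have := orderOf_card_pos (F := K) r hrp
  unfold cdim
  split_ifs <;> omega

/-- peeling a minimal invariant nondegenerate subspace off the moved space -/
theorem peel_ss (p : ℕ) [Fact p.Prime] [CharP K p] (hσ : ∀ a, σ (σ a) = a)
    (hsym : ∀ u v, B v u = σ (B u v)) (hσn : ∃ c : K, σ c ≠ c) (e : ℕ)
    (hσe : ∀ c, σ c = c ^ (p ^ e)) (hK : Fintype.card K = (p ^ e) ^ 2)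
    (hiso : ∀ u v, B (y u) (y v) = B u v) (hrp : r ≠ p) (hr2 : r ≠ 2) (hy : y ^ r = 1)
    (R : Submodule K V) (hR : ∀ u ∈ R, y u ∈ R) (hRM : R ≤ movR y) (hRnd : NdOn B R)
    (hR0 : R ≠ ⊥) :
    ∃ C : Submodule K V, (∀ u ∈ C, y u ∈ C) ∧ NdOn B C ∧ C ≤ R ∧ C ≠ ⊥ ∧
      finrank K C = cdim K (p ^ e) r := by
  classical
  have hr : r.Prime := Fact.out
  have hr0 : (r : K) ≠ 0 := by
    rw [Ne, CharP.cast_eq_zero_iff K p]
    intro hd
    exact hrp ((Nat.prime_dvd_prime_iff_eq Fact.out Fact.out).1 hd).symm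
  set i₀ := orderOf (Fintype.card K : ZMod r) with hi₀
  have hipos : 0 < i₀ := orderOf_card_pos r hrp
  by_cases hmod : orderOf ((p ^ e : ℕ) : ZMod r) % 4 = 2
  · -- the self-dual case
    have hcd : cdim K (p ^ e) r = i₀ := by
      unfold cdim
      rw [if_pos hmod]
    rw [hcd]
    obtain ⟨j, hj, -⟩ := exists_dvd_of_mod_four (p ^ e) r hmod
    have hq0 : ((Fintype.card K : ℕ) : ZMod r) ≠ 0 := by
      rw [Ne, ZMod.natCast_eq_zero_iff]
      exact card_not_dvd (F := K) r hr hrp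
    have hidvd : i₀ ∣ r - 1 := orderOf_dvd_of_pow_eq_one (ZMod.pow_card_sub_one_eq_one hq0)
    set t := (r - 1) / i₀ with ht
    have hti : t * i₀ = r - 1 := Nat.div_mul_cancel hidvd
    obtain ⟨h, hmon, hirr, hnone, hdeg, hprod⟩ :=
      PrimeOrderClasses.exists_factor_family (F := K) (p := p) rfl r i₀ t hr hrp hi₀ hti
    have hsq : Squarefree (∏ o, h o) := by
      rw [hprod]
      have := (separable_X_pow_sub_C (1 : K) hr0 one_ne_zero).squarefree
      rwa [map_one] at this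
    have hcop := PrimeOrderClasses.family_coprime h hmon hirr hsq
    have hkill : ∀ u ∈ R, aeval y (∏ j ∈ (Finset.univ : Finset (Fin t)), h (some j)) u = 0 := by
      intro u hu
      obtain ⟨w, rfl⟩ := hRM hu
      have h1 : (y - 1) w = aeval y (h none) w := by
        rw [hnone, map_sub, aeval_X, map_one]
      rw [h1, ← Module.End.mul_apply, ← map_mul]
      have h2 : (∏ j : Fin t, h (some j)) * h none = X ^ r - 1 := by
        rw [← hprod, Fintype.prod_option, mul_comm]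
      rw [h2, map_sub, map_pow, aeval_X, map_one, hy, sub_self, LinearMap.zero_apply]
    -- a nonzero primary component
    obtain ⟨j₀, hj₀⟩ : ∃ j₀ : Fin t, R ⊓ LinearMap.ker (aeval y (h (some j₀))) ≠ ⊥ := by
      by_contra hcon
      push Not at hcon
      have hmain := Sp.finrank_le_of_family y (fun j : Fin t => h (some j)) 0 R (by
        intro j' N' _ hN'R hN'h
        have : N' ≤ R ⊓ LinearMap.ker (aeval y (h (some j'))) :=
          le_inf hN'R (fun u hu => LinearMap.mem_ker.2 (hN'h u hu))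
        rw [hcon j', le_bot_iff] at this
        rw [this, finrank_bot]) Finset.univ (by
        intro j₁ _ j₂ _ hne
        exact hcop (some j₁) (some j₂) (fun h' => hne (Option.some_injective _ h'))) R hR le_rfl
        hkill
      rw [zero_mul, Nat.le_zero] at hmain
      exact hR0 (Submodule.finrank_eq_zero.1 hmain)
    set M' := R ⊓ LinearMap.ker (aeval y (h (some j₀))) with hM'
    have hM'inv : ∀ u ∈ M', y u ∈ M' :=
      Sp.inf_invariant y _ _ hR (Sp.ker_aeval_invariant y _)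
    set g := ∏ j ∈ (Finset.univ : Finset (Fin t)).erase j₀, h (some j) with hg
    have hcg : IsCoprime (h (some j₀)) g := by
      apply IsCoprime.prod_right
      intro j' hj'
      exact hcop (some j₀) (some j')
        (fun h' => (Finset.ne_of_mem_erase hj') (Option.some_injective _ h').symm)
    have hkill' : ∀ u ∈ R, aeval y (h (some j₀) * g) u = 0 := by
      intro u hu
      rw [hg, Finset.mul_prod_erase Finset.univ (fun j => h (some j)) (Finset.mem_univ j₀)]
      exact hkill u hu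
    have hM'nd : NdOn B M' := by
      apply ndOn_of_orth_sum B M' (R ⊓ LinearMap.ker (aeval y g)) R
      · apply le_antisymm
        · exact sup_le inf_le_left inf_le_left
        · exact Sp.split_coprime y R hR _ _ hcg hkill'
      · intro a ha c hc
        exact ker_orth B y r p hσ e hσe hK hiso hy j hj _ _ hcg a ha.2 c hc.2
      · exact hRnd
    obtain ⟨v, hvM', hvv⟩ := exists_aniso B hσn M' hM'nd hj₀
    have hv0 : v ≠ 0 := by
      intro h0
      rw [h0, map_zero] at hvv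
      exact hvv rfl
    obtain ⟨hUinv, -⟩ := Sp.cyc_of_aeval y v (h (some j₀)) (hmon _) i₀ (hdeg j₀)
      (LinearMap.mem_ker.1 hvM'.2)
    have hUR : cyc y v i₀ ≤ R := Sp.cyc_le y v i₀ R hR hvM'.1
    have hvU : v ∈ cyc y v i₀ := self_mem_cyc y v i₀ hipos
    have hU0 : cyc y v i₀ ≠ ⊥ := by
      intro h0
      rw [h0] at hvU
      exact hv0 ((Submodule.mem_bot K).1 hvU)
    have hUdim : finrank K (cyc y v i₀) = i₀ :=
      Sp.finrank_eq_of_le y r hy hr0 _ hUinv (hUR.trans hRM) hU0 (finrank_cyc_le y v i₀)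
    refine ⟨cyc y v i₀, hUinv, ?_, hUR, hU0, hUdim⟩
    have hOinv := orth_invariant B y hiso r hr.pos hy _ hUinv
    rcases Sp.irred_sub y r hy hr0 (cyc y v i₀) (hUR.trans hRM) hUdim
      (cyc y v i₀ ⊓ orth B (cyc y v i₀)) (Sp.inf_invariant y _ _ hUinv hOinv) inf_le_left with
      h0 | h1
    · rw [ndOn_iff_disjoint B hsym, disjoint_iff]
      exact h0
    · exfalso
      have : v ∈ cyc y v i₀ ⊓ orth B (cyc y v i₀) := by rw [h1]; exact hvU
      exact hvv (this.2 v hvU)
  · -- the non-self-dual case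
    have hcd : cdim K (p ^ e) r = 2 * i₀ := by
      unfold cdim
      rw [if_neg hmod]
    rw [hcd]
    have hex : ∃ W' : Submodule K V, W' ≤ R ∧ (∀ u ∈ W', y u ∈ W') ∧ W' ≤ orth B W' ∧
        W' ≠ ⊥ := by
      by_contra hcon
      push Not at hcon
      exact hR0 (aniso_bot B y r p hσ hsym e hσe hK hiso hrp hr2 hy hmod R hR hRM
        (fun W' h1 h2 h3 => hcon W' h1 h2 h3))
    obtain ⟨W', hW'R, hW'inv, hW'iso, hW'0⟩ := hex
    obtain ⟨I, hIW', hIinv, hIdim⟩ := Sp.exists_irred_sub y r hrp hy hr0 W' hW'inv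
      (hW'R.trans hRM) hW'0
    have hIiso : I ≤ orth B I := fun w hw n hn => hW'iso (hIW' hw) n (hIW' hn)
    obtain ⟨N, hNR, -, hNinv, hNnd, hNdim, -⟩ := peel_iso B hσ hsym y hiso r hr.pos hy hr0 R hR
      hRnd I (hIW'.trans hW'R) hIinv hIiso
    have hCdim := finrank_inf_orth B hσ hsym R N hNR hNnd
    refine ⟨R ⊓ orth B N, Sp.inf_invariant y _ _ hR (orth_invariant B y hiso r hr.pos hy N hNinv),
      ndOn_inf_orth B hσ hsym R N hRnd hNR hNnd, inf_le_left, ?_, ?_⟩
    · intro h0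
      rw [h0, finrank_bot] at hCdim
      omega
    · rw [← hi₀] at hIdim
      omega

/-- the moved space is an orthogonal sum of minimal invariant nondegenerate subspaces -/
theorem chain_ss (p : ℕ) [Fact p.Prime] [CharP K p] (hσ : ∀ a, σ (σ a) = a)
    (hsym : ∀ u v, B v u = σ (B u v)) (hσn : ∃ c : K, σ c ≠ c) (e : ℕ)
    (hσe : ∀ c, σ c = c ^ (p ^ e)) (hK : Fintype.card K = (p ^ e) ^ 2)
    (hiso : ∀ u v, B (y u) (y v) = B u v) (hrp : r ≠ p) (hr2 : r ≠ 2) (hy : y ^ r = 1)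
    (R : Submodule K V) (hR : ∀ u ∈ R, y u ∈ R) (hRM : R ≤ movR y) (hRnd : NdOn B R) :
    ∃ t : ℕ, finrank K R = cdim K (p ^ e) r * t ∧
      ∀ j : ℕ, j ≤ t → ∃ W : Submodule K V, (∀ u ∈ W, y u ∈ W) ∧ NdOn B W ∧ W ≤ R ∧
        finrank K W = cdim K (p ^ e) r * j := by
  have hr : r.Prime := Fact.out
  obtain ⟨t, ht, hsel⟩ := gdl_const B hσ hsym
    (fun W => (∀ u ∈ W, y u ∈ W) ∧ NdOn B W ∧ W ≤ movR y) (cdim K (p ^ e) r) (fun _ h => h.2.1)
    (fun U C hU hC hCU =>
      ⟨Sp.inf_invariant y _ _ hU.1 (orth_invariant B y hiso r hr.pos hy C hC.1),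
        ndOn_inf_orth B hσ hsym U C hU.2.1 hCU hC.2.1, inf_le_left.trans hU.2.2⟩)
    (fun C W hC hW hWC => ⟨sup_invariant y C W hC.1 hW.1,
      ndOn_sup B hsym C W hC.2.1 hW.2.1 (fun a ha c hc => hWC hc a ha), sup_le hC.2.2 hW.2.2⟩)
    (fun U hU hU0 => by
      obtain ⟨C, hC1, hC2, hC3, hC4, hC5⟩ := peel_ss B y r p hσ hsym hσn e hσe hK hiso hrp hr2 hy
        U hU.1 hU.2.2 hU.2.1 hU0
      exact ⟨C, ⟨hC1, hC2, hC3.trans hU.2.2⟩, hC3, hC4, hC5⟩) R ⟨hR, hRnd, hRM⟩
  refine ⟨t, ht, fun j hj => ?_⟩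
  obtain ⟨W, hW, hWR, hWdim⟩ := hsel j hj
  exact ⟨W, hW.1, hW.2.1, hWR, hWdim⟩

end ss

end Cfsg.Agent.Lib.Helper22.NdUn
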