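import Mathlib
import Cfsg.Agent.Lib.Helper22.NdUnD

set_option autoImplicit false

/-!
# Semisimple isometries of odd prime order: fixing nondegenerate subspaces of given dimension
-/

namespace Cfsg.Agent.Lib.Helper22.NdUn

open Module Polynomial Cfsg.Agent.Lib.Helper12 Cfsg.Agent.Lib.Helper12.Elus
  Cfsg.Agent.Lib.Helper12.Un Cfsg.Agent.Lib.Helper15

section glue

variable {K V : Type*} [Field K] [AddCommGroup V] [Module K V] [FiniteDimensional K V]
  {σ : K →+* K} (B : V →ₗ[K] V →ₛₗ[σ] K) (y : V →ₗ[K] V) (r : ℕ) [Fact r.Prime]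

/-- gluing a nondegenerate subspace of the fixed space to an invariant nondegenerate subspace of
the moved space -/
theorem glue_fix_mov (hsym : ∀ u v, B v u = σ (B u v))
    (hiso : ∀ u v, B (y u) (y v) = B u v) (hy : y ^ r = 1) (hr0 : (r : K) ≠ 0)
    (W₁ W₂ : Submodule K V) (hW₁ : W₁ ≤ movR y) (hW₁inv : ∀ u ∈ W₁, y u ∈ W₁)
    (hW₁nd : NdOn B W₁) (hW₂ : W₂ ≤ fixE y) (hW₂nd : NdOn B W₂) :
    ∃ W : Submodule K V, finrank K W = finrank K W₁ + finrank K W₂ ∧ NdOn B W ∧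
      ∀ u ∈ W, y u ∈ W := by
  have horth : ∀ a ∈ W₁, ∀ c ∈ W₂, B a c = 0 := fun a ha c hc =>
    herm_swap B hsym _ _ (fix_orth_mov B y hiso c a (hW₂ hc) (hW₁ ha))
  refine ⟨W₁ ⊔ W₂, ?_, ndOn_sup B hsym W₁ W₂ hW₁nd hW₂nd horth,
    sup_invariant y W₁ W₂ hW₁inv (fixE_invariant y W₂ hW₂)⟩
  have hdisj : W₁ ⊓ W₂ = ⊥ := by
    rw [eq_bot_iff, ← fix_inf_mov y r hy hr0]
    intro v hv
    exact ⟨hW₂ hv.2, hW₁ hv.1⟩
  have := Submodule.finrank_sup_add_finrank_inf_eq W₁ W₂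
  rw [hdisj, finrank_bot, add_zero] at this
  exact this

/-- the fixed and moved spaces of an isometry of prime order of a nondegenerate space -/
theorem fix_mov_nd (hsym : ∀ u v, B v u = σ (B u v))
    (hnd : ∀ x, (∀ z, B x z = 0) → x = 0)
    (hiso : ∀ u v, B (y u) (y v) = B u v) (hy : y ^ r = 1) (hr0 : (r : K) ≠ 0) :
    NdOn B (fixE y) ∧ NdOn B (movR y) := by
  have htop : NdOn B (⊤ : Submodule K V) := by
    intro u _ hu0
    by_contra hcon
    push Not at hcon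
    exact hu0 (hnd u (fun z => hcon z Submodule.mem_top))
  have htinv : ∀ v ∈ (⊤ : Submodule K V), y v ∈ (⊤ : Submodule K V) := fun _ _ => Submodule.mem_top
  constructor
  · have := ndOn_inf_fix B y hiso r hy hr0 ⊤ htinv htop
    rwa [top_inf_eq] at this
  · have := ndOn_inf_mov B y hsym hiso r hy hr0 ⊤ htinv htop
    rwa [top_inf_eq] at this

end glue

section ssmain

variable {K V : Type*} [Field K] [Fintype K] [AddCommGroup V] [Module K V]
  [FiniteDimensional K V] {σ : K →+* K}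
  (B : V →ₗ[K] V →ₛₗ[σ] K) (y : V →ₗ[K] V) (r : ℕ) [Fact r.Prime]

/-- odd `r ≠ p`, `y ^ r = 1`: sufficiency -/
theorem bwd_ss (p : ℕ) [Fact p.Prime] [CharP K p] (hσ : ∀ a, σ (σ a) = a)
    (hsym : ∀ u v, B v u = σ (B u v)) (hσn : ∃ c : K, σ c ≠ c) (e : ℕ)
    (hσe : ∀ c, σ c = c ^ (p ^ e)) (hK : Fintype.card K = (p ^ e) ^ 2)
    (hnd : ∀ x, (∀ z, B x z = 0) → x = 0)
    (hiso : ∀ u v, B (y u) (y v) = B u v) (hrp : r ≠ p) (hr2 : r ≠ 2) (hy : y ^ r = 1)
    (n m : ℕ) (hdim : finrank K V = n) (hmn : m ≤ n)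
    (h1 : m % cdim K (p ^ e) r ≤ n % cdim K (p ^ e) r) :
    ∃ W : Submodule K V, finrank K W = m ∧ NdOn B W ∧ ∀ u ∈ W, y u ∈ W := by
  have hr0 : (r : K) ≠ 0 := by
    rw [Ne, CharP.cast_eq_zero_iff K p]
    intro hd
    exact hrp ((Nat.prime_dvd_prime_iff_eq Fact.out Fact.out).1 hd).symm
  set c := cdim K (p ^ e) r with hc
  have hcpos : 0 < c := cdim_pos r p (p ^ e) hrp
  obtain ⟨hEnd, hRnd⟩ := fix_mov_nd B y r hsym hnd hiso hy hr0
  have hen : finrank K (fixE y) + finrank K (movR y) = n := by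
    rw [finrank_fix_add_mov, hdim]
  obtain ⟨t, ht, hchain⟩ := chain_ss B y r p hσ hsym hσn e hσe hK hiso hrp hr2 hy (movR y)
    (movR_invariant y) le_rfl hRnd
  rw [← hc] at ht
  simp only [← hc] at hchain
  have key : ∀ k : ℕ, k ≤ t → c * k ≤ m → m - c * k ≤ finrank K (fixE y) →
      ∃ W : Submodule K V, finrank K W = m ∧ NdOn B W ∧ ∀ u ∈ W, y u ∈ W := by
    intro k hkt hkm hle
    obtain ⟨W₁, hW₁inv, hW₁nd, hW₁M, hW₁dim⟩ := hchain k hkt
    obtain ⟨W₂, hW₂F, hW₂nd, hW₂dim⟩ := exists_nd_sub B hσ hsym hσn (fixE y) hEnd (m - c * k) hle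
    obtain ⟨W, hWdim, hWnd, hWinv⟩ :=
      glue_fix_mov B y r hsym hiso hy hr0 W₁ W₂ hW₁M hW₁inv hW₁nd hW₂F hW₂nd
    refine ⟨W, ?_, hWnd, hWinv⟩
    rw [hWdim, hW₁dim, hW₂dim]
    omega
  have hmdiv : c * (m / c) + m % c = m := Nat.div_add_mod m c
  have hndiv : c * (n / c) + n % c = n := Nat.div_add_mod n c
  rcases le_total (m / c) t with hle | hle
  · apply key (m / c) hle (by omega)
    have htn : t ≤ n / c := by
      rw [Nat.le_div_iff_mul_le hcpos, mul_comm]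
      omega
    have h2 : n % c = finrank K (fixE y) % c := by
      rw [← hen, ht]
      exact Nat.add_mul_mod_self_left _ _ _
    have h3 := Nat.mod_le (finrank K (fixE y)) c
    omega
  · apply key t le_rfl
    · have := Nat.mul_le_mul_left c hle
      omega
    · omega

/-- odd `r ≠ p`, `y ^ r = 1`: an invariant nondegenerate subspace has dimension congruent modulo
`c` to the dimension of its fixed part -/
theorem mod_of_inv_nd (p : ℕ) [Fact p.Prime] [CharP K p] (hσ : ∀ a, σ (σ a) = a)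
    (hsym : ∀ u v, B v u = σ (B u v)) (hσn : ∃ c : K, σ c ≠ c) (e : ℕ)
    (hσe : ∀ c, σ c = c ^ (p ^ e)) (hK : Fintype.card K = (p ^ e) ^ 2)
    (hiso : ∀ u v, B (y u) (y v) = B u v) (hrp : r ≠ p) (hr2 : r ≠ 2) (hy : y ^ r = 1)
    (W : Submodule K V) (hWinv : ∀ u ∈ W, y u ∈ W) (hWnd : NdOn B W) (k : ℕ)
    (hfix : finrank K (fixE y) ≤ k) (hk : k < cdim K (p ^ e) r) :
    finrank K W % cdim K (p ^ e) r ≤ k := by
  have hr0 : (r : K) ≠ 0 := by
    rw [Ne, CharP.cast_eq_zero_iff K p]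
    intro hd
    exact hrp ((Nat.prime_dvd_prime_iff_eq Fact.out Fact.out).1 hd).symm
  set c := cdim K (p ^ e) r with hc
  have hsplit := Sp.inv_split y r hy hr0 W hWinv
  have hdisj : (W ⊓ fixE y) ⊓ (W ⊓ movR y) = ⊥ := by
    rw [eq_bot_iff, ← fix_inf_mov y r hy hr0]
    exact inf_le_inf inf_le_right inf_le_right
  have hsum := Submodule.finrank_sup_add_finrank_inf_eq (W ⊓ fixE y) (W ⊓ movR y)
  rw [hsplit, hdisj, finrank_bot, add_zero] at hsum
  have hMnd : NdOn B (W ⊓ movR y) := ndOn_inf_mov B y hsym hiso r hy hr0 W hWinv hWnd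
  have hMinv : ∀ u ∈ W ⊓ movR y, y u ∈ W ⊓ movR y :=
    Sp.inf_invariant y _ _ hWinv (movR_invariant y)
  obtain ⟨t, ht, -⟩ := chain_ss B y r p hσ hsym hσn e hσe hK hiso hrp hr2 hy (W ⊓ movR y) hMinv
    inf_le_right hMnd
  rw [← hc] at ht
  have hFle : finrank K ↥(W ⊓ fixE y) ≤ k :=
    (Submodule.finrank_mono inf_le_right).trans hfix
  rw [hsum, ht, Nat.add_mul_mod_self_left, Nat.mod_eq_of_lt (by omega)]
  exact hFle

end ssmain

end Cfsg.Agent.Lib.Helper22.NdUn
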