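import Mathlib
import Cfsg.Agent.Lib.Helper22.NdUnE

set_option autoImplicit false

/-!
# Isometries of hermitian spaces with irreducible minimal polynomial; involutions and
elements squaring to a scalar
-/

namespace Cfsg.Agent.Lib.Helper22.NdUn

open Module Polynomial Cfsg.Agent.Lib.Helper12 Cfsg.Agent.Lib.Helper12.Elus
  Cfsg.Agent.Lib.Helper12.Un Cfsg.Agent.Lib.Helper15

section irr

variable {K V : Type*} [Field K] [AddCommGroup V] [Module K V] [FiniteDimensional K V]
  {σ : K →+* K} (B : V →ₗ[K] V →ₛₗ[σ] K) (x : V →ₗ[K] V)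

/-- an isometry killed by an irreducible polynomial of degree `d`: the space is an orthogonal sum
of invariant nondegenerate `d`-spaces -/
theorem chain_irr (hσ : ∀ a, σ (σ a) = a) (hsym : ∀ u v, B v u = σ (B u v))
    (hσn : ∃ c : K, σ c ≠ c) (hnd : ∀ a, (∀ z, B a z = 0) → a = 0)
    (hiso : ∀ u v, B (x u) (x v) = B u v) (N : ℕ) (hN : 0 < N) (hxN : x ^ N = 1)
    (P : K[X]) (hm : P.Monic) (hirr : Irreducible P) (hP : aeval x P = 0) :
    ∃ t : ℕ, finrank K V = P.natDegree * t ∧
      ∀ j : ℕ, j ≤ t → ∃ W : Submodule K V, (∀ u ∈ W, x u ∈ W) ∧ NdOn B W ∧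
        finrank K W = P.natDegree * j := by
  have hdpos : 0 < P.natDegree := by
    rcases Nat.eq_zero_or_pos P.natDegree with h0 | h0
    · exfalso
      have := Polynomial.eq_one_of_monic_natDegree_zero hm h0
      rw [this] at hirr
      exact not_irreducible_one hirr
    · exact h0
  have htop : NdOn B (⊤ : Submodule K V) := by
    intro u _ hu0
    by_contra hcon
    push Not at hcon
    exact hu0 (hnd u (fun z => hcon z Submodule.mem_top))
  obtain ⟨t, ht, hsel⟩ := gdl_const B hσ hsym (fun W => (∀ u ∈ W, x u ∈ W) ∧ NdOn B W)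
    P.natDegree (fun _ h => h.2)
    (fun U C hU hC hCU => ⟨Sp.inf_invariant x _ _ hU.1 (orth_invariant B x hiso N hN hxN C hC.1),
      ndOn_inf_orth B hσ hsym U C hU.2 hCU hC.2⟩)
    (fun C W hC hW hWC => ⟨sup_invariant x C W hC.1 hW.1,
      ndOn_sup B hsym C W hC.2 hW.2 (fun a ha c hc => hWC hc a ha)⟩)
    (fun U hU hU0 => by
      obtain ⟨v, hvU, hvv⟩ := exists_aniso B hσn U hU.2 hU0
      have hv0 : v ≠ 0 := by
        intro h0
        rw [h0, map_zero] at hvv
        exact hvv rfl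
      obtain ⟨hCinv, -⟩ := Sp.cyc_of_aeval x v P hm P.natDegree rfl
        (by rw [hP, LinearMap.zero_apply])
      have hCU : cyc x v P.natDegree ≤ U := Sp.cyc_le x v _ U hU.1 hvU
      have hvC : v ∈ cyc x v P.natDegree := self_mem_cyc x v _ hdpos
      have hC0 : cyc x v P.natDegree ≠ ⊥ := by
        intro h0
        rw [h0] at hvC
        exact hv0 ((Submodule.mem_bot K).1 hvC)
      have hCdim : finrank K (cyc x v P.natDegree) = P.natDegree := by
        have h1 := dvd_finrank_of_irred x P hm hirr hP _ hCinv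
        have h2 := finrank_cyc_le x v P.natDegree
        have h3 : 0 < finrank K (cyc x v P.natDegree) := by
          rw [Nat.pos_iff_ne_zero]
          intro h0
          exact hC0 (Submodule.finrank_eq_zero.1 h0)
        exact le_antisymm h2 (Nat.le_of_dvd h3 h1)
      refine ⟨cyc x v P.natDegree, ⟨hCinv, ?_⟩, hCU, hC0, hCdim⟩
      have hOinv := orth_invariant B x hiso N hN hxN _ hCinv
      have hRinv := Sp.inf_invariant x _ _ hCinv hOinv
      have h1 := dvd_finrank_of_irred x P hm hirr hP _ hRinv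
      have h2 : finrank K ↥(cyc x v P.natDegree ⊓ orth B (cyc x v P.natDegree)) ≤ P.natDegree :=
        (Submodule.finrank_mono inf_le_left).trans hCdim.le
      rw [ndOn_iff_disjoint B hsym, disjoint_iff]
      by_contra hne
      have h3 : 0 < finrank K ↥(cyc x v P.natDegree ⊓ orth B (cyc x v P.natDegree)) := by
        rw [Nat.pos_iff_ne_zero]
        intro h0
        exact hne (Submodule.finrank_eq_zero.1 h0)
      have h4 : finrank K ↥(cyc x v P.natDegree ⊓ orth B (cyc x v P.natDegree)) =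
          finrank K (cyc x v P.natDegree) := by
        rw [hCdim]
        exact le_antisymm h2 (Nat.le_of_dvd h3 h1)
      have h5 := Submodule.eq_of_le_of_finrank_eq
        (inf_le_left : cyc x v P.natDegree ⊓ orth B (cyc x v P.natDegree) ≤ _) h4
      have : v ∈ cyc x v P.natDegree ⊓ orth B (cyc x v P.natDegree) := by rw [h5]; exact hvC
      exact hvv (this.2 v hvC)) ⊤ ⟨fun _ _ => Submodule.mem_top, htop⟩
  rw [finrank_top] at ht
  refine ⟨t, ht, fun j hj => ?_⟩
  obtain ⟨W, hW, -, hWdim⟩ := hsel j hj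
  exact ⟨W, hW.1, hW.2, hWdim⟩

end irr

section two

variable {K V : Type*} [Field K] [AddCommGroup V] [Module K V] [FiniteDimensional K V]
  {σ : K →+* K} (B : V →ₗ[K] V →ₛₗ[σ] K) (y : V →ₗ[K] V)

/-- involutions fix nondegenerate subspaces of every dimension -/
theorem invol_nd (hσ : ∀ a, σ (σ a) = a) (hsym : ∀ u v, B v u = σ (B u v))
    (hσn : ∃ c : K, σ c ≠ c) (hnd : ∀ a, (∀ z, B a z = 0) → a = 0)
    (hiso : ∀ u v, B (y u) (y v) = B u v) (h2 : ((2 : ℕ) : K) ≠ 0) (hy : y ^ 2 = 1) (n m : ℕ)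
    (hdim : finrank K V = n) (hmn : m ≤ n) :
    ∃ W : Submodule K V, finrank K W = m ∧ NdOn B W ∧ ∀ u ∈ W, y u ∈ W := by
  have : Fact (Nat.Prime 2) := ⟨Nat.prime_two⟩
  obtain ⟨hEnd, hRnd⟩ := fix_mov_nd B y 2 hsym hnd hiso hy h2
  have hen : finrank K (fixE y) + finrank K (movR y) = n := by
    rw [finrank_fix_add_mov, hdim]
  have hneg : ∀ v ∈ movR y, y v = -v := by
    rintro _ ⟨w, rfl⟩
    have h1 : y (y w) = w := by
      have := congrArg (fun g : V →ₗ[K] V => g w) hy
      simpa [pow_two] using this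
    rw [LinearMap.sub_apply, Module.End.one_apply, map_sub, h1]
    abel
  obtain ⟨W₂, hW₂F, hW₂nd, hW₂dim⟩ := exists_nd_sub B hσ hsym hσn (fixE y) hEnd
    (min m (finrank K (fixE y))) (min_le_right _ _)
  obtain ⟨W₁, hW₁M, hW₁nd, hW₁dim⟩ := exists_nd_sub B hσ hsym hσn (movR y) hRnd
    (m - min m (finrank K (fixE y))) (by
      rcases le_total m (finrank K (fixE y)) with h | h
      · rw [min_eq_left h]
        omega
      · rw [min_eq_right h]
        omega)
  have hW₁inv : ∀ u ∈ W₁, y u ∈ W₁ := by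
    intro u hu
    rw [hneg u (hW₁M hu)]
    exact Submodule.neg_mem _ hu
  obtain ⟨W, hWdim, hWnd, hWinv⟩ :=
    glue_fix_mov B y 2 hsym hiso hy h2 W₁ W₂ hW₁M hW₁inv hW₁nd hW₂F hW₂nd
  refine ⟨W, ?_, hWnd, hWinv⟩
  rw [hWdim, hW₁dim, hW₂dim]
  have := min_le_left m (finrank K (fixE y))
  omega

omit [FiniteDimensional K V] in
/-- eigenspaces for eigenvalues of norm `-1` are totally isotropic -/
theorem eigen_iso (hiso : ∀ u v, B (y u) (y v) = B u v) (h2 : (2 : K) ≠ 0) (c : K)
    (hc : c * σ c = -1) :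
    LinearMap.ker (y - c • 1) ≤ orth B (LinearMap.ker (y - c • 1)) := by
  intro u hu v hv
  rw [LinearMap.mem_ker, LinearMap.sub_apply, LinearMap.smul_apply, Module.End.one_apply,
    sub_eq_zero] at hu hv
  have h1 := hiso v u
  rw [hu, hv] at h1
  simp only [map_smul, LinearMap.smul_apply, map_smulₛₗ, smul_eq_mul] at h1
  have h3 : (2 : K) * B v u = 0 := by linear_combination -h1 + (B v u) * hc
  rcases mul_eq_zero.1 h3 with h4 | h4
  · exact absurd h4 h2
  · exact h4

omit [FiniteDimensional K V] in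
/-- splitting along the two eigenspaces of an element squaring to `c²` -/
theorem eigen_split (h2 : (2 : K) ≠ 0) (c : K) (hc0 : c ≠ 0)
    (hy : ∀ v, y (y v) = (c * c) • v) (W : Submodule K V) (hW : ∀ u ∈ W, y u ∈ W) :
    W ≤ (W ⊓ LinearMap.ker (y - c • 1)) ⊔ (W ⊓ LinearMap.ker (y - (-c) • 1)) := by
  intro v hvW
  have hv : v = (2 : K)⁻¹ • (v + c⁻¹ • y v) + (2 : K)⁻¹ • (v - c⁻¹ • y v) := by
    rw [← smul_add]
    have : v + c⁻¹ • y v + (v - c⁻¹ • y v) = (2 : K) • v := by
      rw [two_smul]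
      abel
    rw [this, smul_smul, inv_mul_cancel₀ h2, one_smul]
  have e1 : c⁻¹ * (c * c) = c := by rw [← mul_assoc, inv_mul_cancel₀ hc0, one_mul]
  rw [hv]
  apply Submodule.add_mem_sup
  · refine ⟨Submodule.smul_mem _ _ (Submodule.add_mem _ hvW
      (Submodule.smul_mem _ _ (hW v hvW))), ?_⟩
    apply Submodule.smul_mem
    rw [LinearMap.mem_ker, LinearMap.sub_apply, LinearMap.smul_apply, Module.End.one_apply,
      map_add, map_smul, hy, smul_add, smul_smul, smul_smul, e1, mul_inv_cancel₀ hc0, one_smul]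
    abel
  · refine ⟨Submodule.smul_mem _ _ (Submodule.sub_mem _ hvW
      (Submodule.smul_mem _ _ (hW v hvW))), ?_⟩
    apply Submodule.smul_mem
    rw [LinearMap.mem_ker, LinearMap.sub_apply, LinearMap.smul_apply, Module.End.one_apply,
      map_sub, map_smul, hy, smul_sub, smul_smul, smul_smul, e1, neg_mul, mul_inv_cancel₀ hc0,
      neg_smul, neg_smul, one_smul]
    abel

/-- invariant nondegenerate subspaces of an element squaring to `l²`, `l σ(l) = -1`, have even
dimension -/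
theorem eigen_even (hσ : ∀ a, σ (σ a) = a) (hsym : ∀ u v, B v u = σ (B u v))
    (hiso : ∀ u v, B (y u) (y v) = B u v) (h2 : (2 : K) ≠ 0) (l : K) (hl : l * σ l = -1)
    (hy : ∀ v, y (y v) = (l * l) • v) (W : Submodule K V) (hW : ∀ u ∈ W, y u ∈ W)
    (hWnd : NdOn B W) : Even (finrank K W) := by
  have hl0 : l ≠ 0 := by
    intro h0
    rw [h0, zero_mul] at hl
    exact (neg_ne_zero.2 one_ne_zero) hl.symm
  have hl' : (-l) * σ (-l) = -1 := by rw [map_neg, neg_mul_neg, hl]
  have hP := eigen_iso B y hiso h2 l hl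
  have hM := eigen_iso B y hiso h2 (-l) hl'
  have hsplit := eigen_split y h2 l hl0 hy W hW
  have h3 := iso_finrank_le B hσ hsym W (W ⊓ LinearMap.ker (y - l • 1)) hWnd inf_le_left
    (fun w hw n hn => hP hw.2 n hn.2)
  have h4 := iso_finrank_le B hσ hsym W (W ⊓ LinearMap.ker (y - (-l) • 1)) hWnd inf_le_left
    (fun w hw n hn => hM hw.2 n hn.2)
  have h5 := Submodule.finrank_add_le_finrank_add_finrank
    (W ⊓ LinearMap.ker (y - l • 1)) (W ⊓ LinearMap.ker (y - (-l) • 1))
  have h6 := Submodule.finrank_mono hsplit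
  exact ⟨finrank K ↥(W ⊓ LinearMap.ker (y - l • 1)), by omega⟩

/-- an element squaring to `l²`, `l σ(l) = -1`: the space is an orthogonal sum of invariant
nondegenerate planes -/
theorem eigen_chain (hσ : ∀ a, σ (σ a) = a) (hsym : ∀ u v, B v u = σ (B u v))
    (hnd : ∀ a, (∀ z, B a z = 0) → a = 0)
    (hiso : ∀ u v, B (y u) (y v) = B u v) (N : ℕ) (hN : 0 < N) (hyN : y ^ N = 1)
    (h2 : (2 : K) ≠ 0) (l : K) (hl : l * σ l = -1)
    (hy : ∀ v, y (y v) = (l * l) • v) :
    ∃ t : ℕ, finrank K V = 2 * t ∧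
      ∀ j : ℕ, j ≤ t → ∃ W : Submodule K V, (∀ u ∈ W, y u ∈ W) ∧ NdOn B W ∧
        finrank K W = 2 * j := by
  have hl0 : l ≠ 0 := by
    intro h0
    rw [h0, zero_mul] at hl
    exact (neg_ne_zero.2 one_ne_zero) hl.symm
  have hl' : (-l) * σ (-l) = -1 := by rw [map_neg, neg_mul_neg, hl]
  have htop : NdOn B (⊤ : Submodule K V) := by
    intro u _ hu0
    by_contra hcon
    push Not at hcon
    exact hu0 (hnd u (fun z => hcon z Submodule.mem_top))
  -- the peeling step from a nonzero eigenvector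
  have hstep : ∀ (c : K), c * σ c = -1 → c ≠ 0 → (∀ v, y (y v) = (c * c) • v) →
      ∀ U : Submodule K V, (∀ u ∈ U, y u ∈ U) → NdOn B U →
      ∀ a ∈ U, a ≠ 0 → y a = c • a →
      ∃ C : Submodule K V, ((∀ u ∈ C, y u ∈ C) ∧ NdOn B C) ∧ C ≤ U ∧ C ≠ ⊥ ∧
        finrank K C = 2 := by
    intro c hc hc0 hyc U hUinv hUnd a haU ha0 hya
    have hamem : a ∈ LinearMap.ker (y - c • 1) := by
      rw [LinearMap.mem_ker, LinearMap.sub_apply, LinearMap.smul_apply, Module.End.one_apply,
        hya, sub_self]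
    have hPiso := eigen_iso B y hiso h2 c hc
    obtain ⟨w, hwU, hne⟩ := hUnd a haU ha0
    have hw' := eigen_split y h2 c hc0 hyc U hUinv hwU
    obtain ⟨w₁, hw₁, w₂, hw₂, rfl⟩ := Submodule.mem_sup.1 hw'
    have h0 : B a w₁ = 0 := hPiso hw₁.2 a hamem
    rw [map_add, h0, zero_add] at hne
    have hyw₂ : y w₂ = (-c) • w₂ := by
      have : w₂ ∈ LinearMap.ker (y - (-c) • 1) := hw₂.2
      rw [LinearMap.mem_ker, LinearMap.sub_apply, LinearMap.smul_apply, Module.End.one_apply,
        sub_eq_zero] at this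
      exact this
    obtain ⟨hCnd, hCdim⟩ := ndOn_span_pair B hsym a w₂ (hPiso hamem a hamem) hne
    refine ⟨Submodule.span K {a, w₂}, ⟨?_, hCnd⟩, ?_, ?_, hCdim⟩
    · intro u hu
      obtain ⟨α, β, rfl⟩ := Submodule.mem_span_pair.1 hu
      rw [map_add, map_smul, map_smul, hya, hyw₂]
      apply Submodule.add_mem
      · exact Submodule.smul_mem _ _ (Submodule.smul_mem _ _ (Submodule.subset_span (by simp)))
      · exact Submodule.smul_mem _ _ (Submodule.smul_mem _ _ (Submodule.subset_span (by simp)))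
    · rw [Submodule.span_le]
      intro z hz
      rcases hz with rfl | rfl
      · exact haU
      · exact hw₂.1
    · intro hbot
      rw [hbot, finrank_bot] at hCdim
      omega
  obtain ⟨t, ht, hsel⟩ := gdl_const B hσ hsym (fun W => (∀ u ∈ W, y u ∈ W) ∧ NdOn B W)
    2 (fun _ h => h.2)
    (fun U C hU hC hCU => ⟨Sp.inf_invariant y _ _ hU.1 (orth_invariant B y hiso N hN hyN C hC.1),
      ndOn_inf_orth B hσ hsym U C hU.2 hCU hC.2⟩)
    (fun C W hC hW hWC => ⟨sup_invariant y C W hC.1 hW.1,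
      ndOn_sup B hsym C W hC.2 hW.2 (fun a ha c hc => hWC hc a ha)⟩)
    (fun U hU hU0 => by
      obtain ⟨u₀, hu₀U, hu₀⟩ := (Submodule.ne_bot_iff U).1 hU0
      have hs := eigen_split y h2 l hl0 hy U hU.1 hu₀U
      obtain ⟨a₁, ha₁, a₂, ha₂, hsum⟩ := Submodule.mem_sup.1 hs
      by_cases h1 : a₁ = 0
      · have ha₂0 : a₂ ≠ 0 := by
          intro h
          apply hu₀
          rw [← hsum, h1, h, add_zero]
        have hya₂ : y a₂ = (-l) • a₂ := by
          have : a₂ ∈ LinearMap.ker (y - (-l) • 1) := ha₂.2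
          rw [LinearMap.mem_ker, LinearMap.sub_apply, LinearMap.smul_apply, Module.End.one_apply,
            sub_eq_zero] at this
          exact this
        exact hstep (-l) hl' (neg_ne_zero.2 hl0) (fun v => by rw [neg_mul_neg]; exact hy v) U hU.1
          hU.2 a₂ ha₂.1 ha₂0 hya₂
      · have hya₁ : y a₁ = l • a₁ := by
          have : a₁ ∈ LinearMap.ker (y - l • 1) := ha₁.2
          rw [LinearMap.mem_ker, LinearMap.sub_apply, LinearMap.smul_apply, Module.End.one_apply,
            sub_eq_zero] at this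
          exact this
        exact hstep l hl hl0 hy U hU.1 hU.2 a₁ ha₁.1 h1 hya₁) ⊤
    ⟨fun _ _ => Submodule.mem_top, htop⟩
  rw [finrank_top] at ht
  refine ⟨t, ht, fun j hj => ?_⟩
  obtain ⟨W, hW, -, hWdim⟩ := hsel j hj
  exact ⟨W, hW.1, hW.2, hWdim⟩

end two

end Cfsg.Agent.Lib.Helper22.NdUn
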