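import Mathlib
import Cfsg.Agent.Lib.Helper22.NdUnF

set_option autoImplicit false

/-!
# Polar pairs (complementary totally isotropic subspaces) of hermitian spaces

`IsPolar B E U W`: `U`, `W` are totally isotropic, `U ⊓ W = ⊥`, `U ⊔ W = E`.  An isometry fixing both
members of a polar pair of a nondegenerate space has even-dimensional eigenspaces for eigenvalues of
norm one; an isometry interchanging them has small eigenspaces.  Existence of polar pairs.
-/

namespace Cfsg.Agent.Lib.Helper22.PolUn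

open Module Cfsg.Agent.Lib.Helper12 Cfsg.Agent.Lib.Helper12.Elus
  Cfsg.Agent.Lib.Helper12.Un Cfsg.Agent.Lib.Helper22.NdUn

section basic

variable {K V : Type*} [Field K] [AddCommGroup V] [Module K V]
  {σ : K →+* K} (B : V →ₗ[K] V →ₛₗ[σ] K)

/-- a polar pair of the subspace `E` -/
structure IsPolar (E U W : Submodule K V) : Prop where
  isoU : U ≤ orth B U
  isoW : W ≤ orth B W
  disj : Disjoint U W
  sup_eq : U ⊔ W = E

theorem IsPolar.leU {E U W : Submodule K V} (h : IsPolar B E U W) : U ≤ E := by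
  rw [← h.sup_eq]; exact le_sup_left

theorem IsPolar.leW {E U W : Submodule K V} (h : IsPolar B E U W) : W ≤ E := by
  rw [← h.sup_eq]; exact le_sup_right

theorem IsPolar.symm {E U W : Submodule K V} (h : IsPolar B E U W) : IsPolar B E W U :=
  ⟨h.isoW, h.isoU, h.disj.symm, by rw [sup_comm]; exact h.sup_eq⟩

theorem isPolar_bot : IsPolar B ⊥ ⊥ ⊥ :=
  ⟨bot_le, bot_le, disjoint_bot_left, sup_bot_eq _⟩

/-- orthogonal sum of polar pairs -/
theorem polar_sum (hsym : ∀ u v, B v u = σ (B u v)) {E₁ E₂ U₁ W₁ U₂ W₂ : Submodule K V}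
    (h₁ : IsPolar B E₁ U₁ W₁) (h₂ : IsPolar B E₂ U₂ W₂)
    (horth : ∀ a ∈ E₁, ∀ c ∈ E₂, B a c = 0) (hdisj : Disjoint E₁ E₂) :
    IsPolar B (E₁ ⊔ E₂) (U₁ ⊔ U₂) (W₁ ⊔ W₂) := by
  refine ⟨?_, ?_, ?_, ?_⟩
  · exact iso_sup B hsym U₁ U₂ h₁.isoU h₂.isoU
      (fun a ha b hb => horth a (h₁.leU B ha) b (h₂.leU B hb))
  · exact iso_sup B hsym W₁ W₂ h₁.isoW h₂.isoW
      (fun a ha b hb => horth a (h₁.leW B ha) b (h₂.leW B hb))
  · rw [Submodule.disjoint_def]
    intro x hxU hxW
    obtain ⟨u₁, hu₁, u₂, hu₂, rfl⟩ := Submodule.mem_sup.1 hxU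
    obtain ⟨w₁, hw₁, w₂, hw₂, hw⟩ := Submodule.mem_sup.1 hxW
    have h3 : u₁ - w₁ = w₂ - u₂ := by
      have : u₁ + u₂ = w₁ + w₂ := hw.symm
      rw [sub_eq_sub_iff_add_eq_add, this, add_comm]
    have h4 : u₁ - w₁ ∈ E₁ := Submodule.sub_mem _ (h₁.leU B hu₁) (h₁.leW B hw₁)
    have h5 : u₁ - w₁ ∈ E₂ := by
      rw [h3]; exact Submodule.sub_mem _ (h₂.leW B hw₂) (h₂.leU B hu₂)
    have h6 : u₁ - w₁ = 0 := (Submodule.disjoint_def.1 hdisj) _ h4 h5
    have h7 : w₂ - u₂ = 0 := by rw [← h3]; exact h6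
    have h8 : u₁ = w₁ := sub_eq_zero.1 h6
    have h9 : w₂ = u₂ := sub_eq_zero.1 h7
    have h10 : u₁ = 0 := (Submodule.disjoint_def.1 h₁.disj) _ hu₁ (by rw [h8]; exact hw₁)
    have h11 : u₂ = 0 := (Submodule.disjoint_def.1 h₂.disj) _ hu₂ (by rw [← h9]; exact hw₂)
    rw [h10, h11, add_zero]
  · rw [sup_sup_sup_comm, h₁.sup_eq, h₂.sup_eq]

/-- the polar pair of a hyperbolic plane -/
theorem polar_pair (e e' : V) (hee : B e e = 0) (he'e' : B e' e' = 0) (h1 : B e e' ≠ 0) :
    IsPolar B (Submodule.span K {e, e'}) (Submodule.span K {e}) (Submodule.span K {e'}) := by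
  refine ⟨?_, ?_, ?_, ?_⟩
  · intro x hx n hn
    obtain ⟨a, rfl⟩ := Submodule.mem_span_singleton.1 hx
    obtain ⟨b, rfl⟩ := Submodule.mem_span_singleton.1 hn
    simp [hee]
  · intro x hx n hn
    obtain ⟨a, rfl⟩ := Submodule.mem_span_singleton.1 hx
    obtain ⟨b, rfl⟩ := Submodule.mem_span_singleton.1 hn
    simp [he'e']
  · rw [Submodule.disjoint_def]
    intro x hx hx'
    obtain ⟨a, rfl⟩ := Submodule.mem_span_singleton.1 hx
    obtain ⟨b, hb⟩ := Submodule.mem_span_singleton.1 hx'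
    have h2 : B (a • e) e' = B (b • e') e' := by rw [hb]
    rw [map_smul, LinearMap.smul_apply, map_smul, LinearMap.smul_apply, he'e', smul_zero,
      smul_eq_mul] at h2
    rcases mul_eq_zero.1 h2 with h3 | h3
    · rw [h3, zero_smul]
    · exact absurd h3 h1
  · rw [← Submodule.span_union]
    congr 1

end basic

section fd

variable {K V : Type*} [Field K] [AddCommGroup V] [Module K V] [FiniteDimensional K V]
  {σ : K →+* K} (B : V →ₗ[K] V →ₛₗ[σ] K)

/-- the members of a polar pair of a nondegenerate space have half its dimension -/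
theorem polar_finrank (hσ : ∀ a, σ (σ a) = a) (hsym : ∀ u v, B v u = σ (B u v))
    (E U W : Submodule K V) (hE : NdOn B E) (hP : IsPolar B E U W) :
    finrank K U = finrank K W ∧ finrank K E = 2 * finrank K U := by
  have h1 := iso_finrank_le B hσ hsym E U hE (hP.leU B) hP.isoU
  have h2 := iso_finrank_le B hσ hsym E W hE (hP.leW B) hP.isoW
  have h3 := Submodule.finrank_sup_add_finrank_inf_eq U W
  rw [hP.sup_eq, hP.disj.eq_bot, finrank_bot, add_zero] at h3
  constructor <;> omega

/-- existence of polar pairs in nondegenerate spaces of even dimension -/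
theorem exists_polar (hσ : ∀ a, σ (σ a) = a) (hsym : ∀ u v, B v u = σ (B u v))
    (hhyp : ∀ E : Submodule K V, NdOn B E → 2 ≤ finrank K E →
      ∃ e ∈ E, ∃ e' ∈ E, B e e = 0 ∧ B e' e' = 0 ∧ B e e' ≠ 0) :
    ∀ (a : ℕ) (E : Submodule K V), NdOn B E → finrank K E = 2 * a →
      ∃ U W : Submodule K V, IsPolar B E U W := by
  intro a
  induction a with
  | zero =>
    intro E _ hdim
    have hE : E = ⊥ := by
      rw [← Submodule.finrank_eq_zero (R := K)]
      omega
    rw [hE]
    exact ⟨⊥, ⊥, isPolar_bot B⟩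
  | succ a ih =>
    intro E hE hdim
    obtain ⟨e, heE, e', he'E, hee, he'e', h1⟩ := hhyp E hE (by omega)
    obtain ⟨hHnd, hHdim⟩ := ndOn_span_pair B hsym e e' hee h1
    have hHE : Submodule.span K {e, e'} ≤ E := by
      rw [Submodule.span_le]
      intro z hz
      rcases hz with rfl | rfl
      · exact heE
      · exact he'E
    have hE'nd := ndOn_inf_orth B hσ hsym E _ hE hHE hHnd
    have hE'dim := finrank_inf_orth B hσ hsym E _ hHE hHnd
    obtain ⟨hsup, hdisj⟩ := sup_inf_orth B hσ hsym E _ hHE hHnd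
    obtain ⟨U', W', hP'⟩ := ih (E ⊓ orth B (Submodule.span K {e, e'})) hE'nd (by omega)
    have hP := polar_sum B hsym (polar_pair B e e' hee he'e' h1) hP'
      (fun a ha c hc => hc.2 a ha) hdisj
    rw [hsup] at hP
    exact ⟨_, _, hP⟩

/-- an isometry of a nondegenerate space is injective -/
theorem iso_injective (hnd : ∀ a, (∀ z, B a z = 0) → a = 0) (y : V →ₗ[K] V)
    (hiso : ∀ u v, B (y u) (y v) = B u v) : Function.Injective y := by
  rw [← LinearMap.ker_eq_bot, LinearMap.ker_eq_bot']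
  intro v hv
  apply hnd
  intro z
  rw [← hiso, hv, map_zero, LinearMap.zero_apply]

/-- an injective endomorphism maps an invariant subspace onto itself -/
theorem map_eq_of_inj (y : V →ₗ[K] V) (hinj : Function.Injective y) (U : Submodule K V)
    (hU : ∀ u ∈ U, y u ∈ U) : U.map y = U := by
  apply Submodule.eq_of_le_of_finrank_eq
  · rintro _ ⟨u, hu, rfl⟩
    exact hU u hu
  · exact (Submodule.equivMapOfInjective y hinj U).finrank_eq.symm

/-- an isometry fixing both members of a polar pair of a nondegenerate space: the fixed space has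
twice the dimension of its intersection with one member -/
theorem finrank_fix_polar (hσ : ∀ a, σ (σ a) = a) (hsym : ∀ u v, B v u = σ (B u v))
    (hnd : ∀ a, (∀ z, B a z = 0) → a = 0) (U W : Submodule K V) (hP : IsPolar B ⊤ U W)
    (y : V →ₗ[K] V) (hiso : ∀ u v, B (y u) (y v) = B u v)
    (hyU : ∀ u ∈ U, y u ∈ U) (hyW : ∀ w ∈ W, y w ∈ W) :
    finrank K (fixE y) = 2 * finrank K ↥(U ⊓ fixE y) := by
  have htop : NdOn B (⊤ : Submodule K V) := by
    intro u _ hu0
    by_contra hcon
    push Not at hcon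
    exact hu0 (hnd u (fun z => hcon z Submodule.mem_top))
  obtain ⟨hUW, hVU⟩ := polar_finrank B hσ hsym ⊤ U W htop hP
  rw [finrank_top] at hVU
  have hinj := iso_injective B hnd y hiso
  have hmapU := map_eq_of_inj y hinj U hyU
  -- splitting of the fixed space
  have hsplit : fixE y = (U ⊓ fixE y) ⊔ (W ⊓ fixE y) := by
    apply le_antisymm
    · intro v hv
      have hvt : v ∈ U ⊔ W := by rw [hP.sup_eq]; exact Submodule.mem_top
      obtain ⟨u, hu, w, hw, rfl⟩ := Submodule.mem_sup.1 hvt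
      rw [mem_fixE, map_add] at hv
      have h1 : y u - u = w - y w := by
        rw [sub_eq_sub_iff_add_eq_add, hv, add_comm]
      have h2 : y u - u ∈ U := Submodule.sub_mem _ (hyU u hu) hu
      have h3 : y u - u ∈ W := by rw [h1]; exact Submodule.sub_mem _ hw (hyW w hw)
      have h4 : y u - u = 0 := (Submodule.disjoint_def.1 hP.disj) _ h2 h3
      have h5 : w - y w = 0 := by rw [← h1]; exact h4
      apply Submodule.add_mem_sup
      · exact ⟨hu, (mem_fixE y u).2 (sub_eq_zero.1 h4)⟩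
      · exact ⟨hw, (mem_fixE y w).2 (sub_eq_zero.1 h5).symm⟩
    · exact sup_le inf_le_right inf_le_right
  have hsum : finrank K (fixE y) = finrank K ↥(U ⊓ fixE y) + finrank K ↥(W ⊓ fixE y) := by
    have h1 := Submodule.finrank_sup_add_finrank_inf_eq (U ⊓ fixE y) (W ⊓ fixE y)
    have h2 : (U ⊓ fixE y) ⊓ (W ⊓ fixE y) = ⊥ := by
      rw [eq_bot_iff]
      intro v hv
      exact (Submodule.disjoint_def.1 hP.disj) v hv.1.1 hv.2.1
    rw [h2, finrank_bot, add_zero, ← hsplit] at h1
    exact h1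
  -- the image of `y - 1` on `U`
  set M := U.map (y - 1) with hM
  have hMU : M ≤ U := map_sub_one_le y U hyU
  have h4a := finrank_eq_fix_add_map y U
  rw [← hM] at h4a
  have h4b : W ⊓ fixE y = W ⊓ orth B M := by
    ext w
    constructor
    · rintro ⟨hw, hfw⟩
      refine ⟨hw, ?_⟩
      rintro _ ⟨u, hu, rfl⟩
      have hyw : y w = w := (mem_fixE y w).1 hfw
      rw [LinearMap.sub_apply, Module.End.one_apply, map_sub, LinearMap.sub_apply]
      nth_rewrite 1 [← hyw]
      rw [hiso, sub_self]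
    · rintro ⟨hw, how⟩
      refine ⟨hw, ?_⟩
      show w ∈ fixE y
      rw [mem_fixE, ← sub_eq_zero]
      apply hnd
      intro z
      rw [hsym, map_eq_zero]
      have hzt : z ∈ U ⊔ W := by rw [hP.sup_eq]; exact Submodule.mem_top
      obtain ⟨u, hu, w'', hw'', rfl⟩ := Submodule.mem_sup.1 hzt
      have hw' : y w - w ∈ W := Submodule.sub_mem _ (hyW w hw) hw
      rw [map_add, LinearMap.add_apply, hP.isoW hw' w'' hw'', add_zero]
      have hu' : u ∈ U.map y := by rw [hmapU]; exact hu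
      obtain ⟨u₀, hu₀, rfl⟩ := hu'
      have hm : (y - 1) u₀ ∈ M := ⟨u₀, hu₀, rfl⟩
      have h5 := how _ hm
      rw [LinearMap.sub_apply, Module.End.one_apply, map_sub, LinearMap.sub_apply] at h5
      rw [map_sub, hiso, ← sub_eq_zero.1 h5, sub_self]
  have h4c := finrank_inf_orth' B hσ hsym ⊤ M htop le_top
  rw [top_inf_eq, finrank_top] at h4c
  have hUo : U ≤ orth B M := fun u hu m hm => hP.isoU hu m (hMU hm)
  have h4d : orth B M = U ⊔ (W ⊓ orth B M) := by
    apply le_antisymm
    · intro v hv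
      have hvt : v ∈ U ⊔ W := by rw [hP.sup_eq]; exact Submodule.mem_top
      obtain ⟨u, hu, w, hw, rfl⟩ := Submodule.mem_sup.1 hvt
      apply Submodule.add_mem_sup hu
      refine ⟨hw, ?_⟩
      have : w = (u + w) - u := by abel
      rw [this]
      exact Submodule.sub_mem _ hv (hUo hu)
    · exact sup_le hUo inf_le_right
  have h4e : finrank K (orth B M) = finrank K U + finrank K ↥(W ⊓ orth B M) := by
    have h1 := Submodule.finrank_sup_add_finrank_inf_eq U (W ⊓ orth B M)
    have h2 : U ⊓ (W ⊓ orth B M) = ⊥ := by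
      rw [eq_bot_iff]
      intro v hv
      exact (Submodule.disjoint_def.1 hP.disj) v hv.1 hv.2.1
    rw [h2, finrank_bot, add_zero, ← h4d] at h1
    exact h1
  rw [hsum, h4b]
  omega

end fd

end Cfsg.Agent.Lib.Helper22.PolUn
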