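import Mathlib
import Cfsg.Agent.Lib.Helper22.PolUnA

set_option autoImplicit false

/-!
# Isometries and polar pairs: eigenspace parities, interchanging isometries, elements squaring to
a scalar
-/

namespace Cfsg.Agent.Lib.Helper22.PolUn

open Module Cfsg.Agent.Lib.Helper12 Cfsg.Agent.Lib.Helper12.Elus
  Cfsg.Agent.Lib.Helper12.Un Cfsg.Agent.Lib.Helper22.NdUn

section fd

variable {K V : Type*} [Field K] [AddCommGroup V] [Module K V] [FiniteDimensional K V]
  {σ : K →+* K} (B : V →ₗ[K] V →ₛₗ[σ] K)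

/-- an isometry fixing both members of a polar pair of a nondegenerate space has even-dimensional
eigenspaces for eigenvalues of norm one -/
theorem even_ker (hσ : ∀ a, σ (σ a) = a) (hsym : ∀ u v, B v u = σ (B u v))
    (hnd : ∀ a, (∀ z, B a z = 0) → a = 0) (U W : Submodule K V) (hP : IsPolar B ⊤ U W)
    (y : V →ₗ[K] V) (hiso : ∀ u v, B (y u) (y v) = B u v)
    (hyU : ∀ u ∈ U, y u ∈ U) (hyW : ∀ w ∈ W, y w ∈ W) (c : K) (hc : c * σ c = 1) :
    Even (finrank K (LinearMap.ker (y - c • (1 : V →ₗ[K] V)))) := by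
  have hc0 : c ≠ 0 := by
    intro h0
    rw [h0, zero_mul] at hc
    exact zero_ne_one hc
  have hiso' : ∀ u v, B ((c⁻¹ • y) u) ((c⁻¹ • y) v) = B u v := by
    intro u v
    simp only [LinearMap.smul_apply, map_smulₛₗ, map_smul, smul_eq_mul, hiso, RingHom.id_apply]
    rw [map_inv₀, ← mul_assoc, ← mul_inv, mul_comm (σ c) c, hc, inv_one, one_mul]
  have h1 := finrank_fix_polar B hσ hsym hnd U W hP (c⁻¹ • y) hiso'
    (fun u hu => Submodule.smul_mem _ _ (hyU u hu)) (fun w hw => Submodule.smul_mem _ _ (hyW w hw))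
  have h2 : fixE (c⁻¹ • y) = LinearMap.ker (y - c • (1 : V →ₗ[K] V)) := by
    ext v
    rw [mem_fixE, LinearMap.mem_ker, LinearMap.smul_apply, LinearMap.sub_apply,
      LinearMap.smul_apply, Module.End.one_apply, sub_eq_zero]
    constructor
    · intro h
      have := congrArg (fun w => c • w) h
      simp only [smul_smul, mul_inv_cancel₀ hc0, one_smul] at this
      exact this
    · intro h
      rw [h, smul_smul, inv_mul_cancel₀ hc0, one_smul]
  rw [← h2, h1]
  exact even_two_mul _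

omit [FiniteDimensional K V] in
/-- an injective map sending `U` into a subspace disjoint from `U` has no eigenvectors in `U` -/
theorem swap_disjoint (U W : Submodule K V) (hdisj : Disjoint U W) (y : V →ₗ[K] V)
    (hinj : Function.Injective y) (hyU : ∀ u ∈ U, y u ∈ W) (c : K) :
    Disjoint U (LinearMap.ker (y - c • (1 : V →ₗ[K] V))) := by
  rw [Submodule.disjoint_def]
  intro u hu hk
  rw [LinearMap.mem_ker, LinearMap.sub_apply, LinearMap.smul_apply, Module.End.one_apply,
    sub_eq_zero] at hk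
  have h1 : y u ∈ U := by rw [hk]; exact Submodule.smul_mem _ _ hu
  have h2 : y u = 0 := (Submodule.disjoint_def.1 hdisj) _ h1 (hyU u hu)
  apply hinj
  rw [h2, map_zero]

/-- an injective map interchanging the members of a polar pair has small eigenspaces -/
theorem swap_bound (U W : Submodule K V) (hdisj : Disjoint U W) (y : V →ₗ[K] V)
    (hinj : Function.Injective y) (hyU : ∀ u ∈ U, y u ∈ W) (c : K) :
    finrank K U + finrank K (LinearMap.ker (y - c • (1 : V →ₗ[K] V))) ≤ finrank K V :=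
  Submodule.finrank_add_finrank_le_of_disjoint (swap_disjoint U W hdisj y hinj hyU c)

/-- an isometric involution with even-dimensional eigenspaces fixes both members of a polar pair -/
theorem polar_of_invol (hσ : ∀ a, σ (σ a) = a) (hsym : ∀ u v, B v u = σ (B u v))
    (hnd : ∀ a, (∀ z, B a z = 0) → a = 0)
    (hhyp : ∀ E : Submodule K V, NdOn B E → 2 ≤ finrank K E →
      ∃ e ∈ E, ∃ e' ∈ E, B e e = 0 ∧ B e' e' = 0 ∧ B e e' ≠ 0)
    (y : V →ₗ[K] V) (hiso : ∀ u v, B (y u) (y v) = B u v) (h2 : ((2 : ℕ) : K) ≠ 0)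
    (hy : y ^ 2 = 1) (hfix : Even (finrank K (fixE y))) (hmov : Even (finrank K (movR y))) :
    ∃ U W : Submodule K V, IsPolar B ⊤ U W ∧ (∀ u ∈ U, y u ∈ U) ∧ (∀ w ∈ W, y w ∈ W) := by
  have : Fact (Nat.Prime 2) := ⟨Nat.prime_two⟩
  obtain ⟨hEnd, hRnd⟩ := fix_mov_nd B y 2 hsym hnd hiso hy h2
  have hneg : ∀ v ∈ movR y, y v = -v := by
    rintro _ ⟨w, rfl⟩
    have h1 : y (y w) = w := by
      have := congrArg (fun g : V →ₗ[K] V => g w) hy
      simpa [pow_two] using this
    rw [LinearMap.sub_apply, Module.End.one_apply, map_sub, h1]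
    abel
  obtain ⟨a, ha⟩ := hfix
  obtain ⟨b, hb⟩ := hmov
  obtain ⟨U₁, W₁, hP₁⟩ := exists_polar B hσ hsym hhyp a (fixE y) hEnd (by omega)
  obtain ⟨U₂, W₂, hP₂⟩ := exists_polar B hσ hsym hhyp b (movR y) hRnd (by omega)
  have hdisj : Disjoint (fixE y) (movR y) := by
    rw [disjoint_iff]
    exact fix_inf_mov y 2 hy h2
  have hsup : fixE y ⊔ movR y = ⊤ := by
    have := Sp.inv_split y 2 hy h2 ⊤ (fun _ _ => Submodule.mem_top)
    rwa [top_inf_eq, top_inf_eq] at this
  have hP := polar_sum B hsym hP₁ hP₂ (fun a ha c hc => fix_orth_mov B y hiso a c ha hc) hdisj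
  rw [hsup] at hP
  have hinvF : ∀ S : Submodule K V, S ≤ fixE y → ∀ v ∈ S, y v ∈ S := fun S hS =>
    fixE_invariant y S hS
  have hinvM : ∀ S : Submodule K V, S ≤ movR y → ∀ v ∈ S, y v ∈ S := by
    intro S hS v hv
    rw [hneg v (hS hv)]
    exact Submodule.neg_mem _ hv
  exact ⟨_, _, hP,
    sup_invariant y U₁ U₂ (hinvF U₁ (hP₁.leU B)) (hinvM U₂ (hP₂.leU B)),
    sup_invariant y W₁ W₂ (hinvF W₁ (hP₁.leW B)) (hinvM W₂ (hP₂.leW B))⟩

omit [FiniteDimensional K V] in
/-- an isometry squaring to `l²` with `l σ(l) = -1`: the eigenspaces form a polar pair -/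
theorem polar_of_eigen (y : V →ₗ[K] V) (hiso : ∀ u v, B (y u) (y v) = B u v) (h2 : (2 : K) ≠ 0)
    (l : K) (hl : l * σ l = -1) (hy : ∀ v, y (y v) = (l * l) • v) :
    IsPolar B ⊤ (LinearMap.ker (y - l • (1 : V →ₗ[K] V)))
      (LinearMap.ker (y - (-l) • (1 : V →ₗ[K] V))) := by
  have hl0 : l ≠ 0 := by
    intro h0
    rw [h0, zero_mul] at hl
    exact (neg_ne_zero.2 one_ne_zero) hl.symm
  have hl' : (-l) * σ (-l) = -1 := by rw [map_neg, neg_mul_neg, hl]
  refine ⟨eigen_iso B y hiso h2 l hl, eigen_iso B y hiso h2 (-l) hl', ?_, ?_⟩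
  · rw [Submodule.disjoint_def]
    intro v hv hv'
    rw [LinearMap.mem_ker, LinearMap.sub_apply, LinearMap.smul_apply, Module.End.one_apply,
      sub_eq_zero] at hv hv'
    have h3 : (2 * l) • v = 0 := by
      rw [two_mul, add_smul]
      nth_rewrite 1 [← hv]
      rw [hv', neg_smul, neg_add_cancel]
    rcases smul_eq_zero.1 h3 with h4 | h4
    · exact absurd h4 (mul_ne_zero h2 hl0)
    · exact h4
  · have := eigen_split y h2 l hl0 hy ⊤ (fun _ _ => Submodule.mem_top)
    rw [top_inf_eq, top_inf_eq] at this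
    exact top_le_iff.1 this

omit [FiniteDimensional K V] in
/-- eigenspaces are invariant -/
theorem ker_invariant (y : V →ₗ[K] V) (c : K) :
    ∀ v ∈ LinearMap.ker (y - c • (1 : V →ₗ[K] V)), y v ∈ LinearMap.ker (y - c • (1 : V →ₗ[K] V)) := by
  intro v hv
  have hv' := hv
  rw [LinearMap.mem_ker, LinearMap.sub_apply, LinearMap.smul_apply, Module.End.one_apply,
    sub_eq_zero] at hv'
  rw [hv']
  exact Submodule.smul_mem _ _ hv

end fd

end Cfsg.Agent.Lib.Helper22.PolUn
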