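import Mathlib
import Cfsg.Agent.Lib.Helper22.PolUnB
import Cfsg.Agent.Lib.Helper5.UTIStab

set_option autoImplicit false

/-!
# Hyperbolic frames adapted to a polar pair of the standard unitary space; Witt transitivity
-/

namespace Cfsg.Agent.Lib.Helper22.PolUn

open Module Cfsg.Agent.Lib.Helper12 Cfsg.Agent.Lib.Helper12.Un Cfsg.Agent.Lib.Helper14
  Cfsg.Agent.Lib.Helper5.HermBridge Cfsg.Agent.Lib.Helper5.UTIStab

open scoped Matrix

variable {F : Type*} [Field F] [Fintype F] {q : ℕ}

/-- a hyperbolic frame adapted to the pair `(U, W)` -/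
structure IsFrame (hF : Fintype.card F = q ^ 2) {n d : ℕ} (U W : Submodule F (Fin n → F))
    (u w : Fin d → (Fin n → F)) : Prop where
  memU : ∀ i, u i ∈ U
  memW : ∀ j, w j ∈ W
  pair : ∀ i j, hermB hF n (u i) (w j) = if i = j then 1 else 0

theorem ndOn_top' (hF : Fintype.card F = q ^ 2) (n : ℕ) :
    NdOn (hermB hF n) (⊤ : Submodule F (Fin n → F)) := by
  intro u _ hu0
  by_contra hcon
  push Not at hcon
  exact hu0 (hermB_nd hF n u (fun z => hcon z Submodule.mem_top))

theorem IsFrame.pair' (hF : Fintype.card F = q ^ 2) {n d : ℕ} {U W : Submodule F (Fin n → F)}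
    {u w : Fin d → (Fin n → F)} (h : IsFrame hF U W u w) (i j : Fin d) :
    hermB hF n (w j) (u i) = if i = j then 1 else 0 := by
  rw [hermB_sym, h.pair]
  split_ifs
  · rw [map_one]
  · rw [map_zero]

/-- the combined tuple of a frame is linearly independent -/
theorem frame_li (hF : Fintype.card F = q ^ 2) {n d : ℕ} {U W : Submodule F (Fin n → F)}
    (hU : U ≤ orth (hermB hF n) U) (hW : W ≤ orth (hermB hF n) W)
    {u w : Fin d → (Fin n → F)} (h : IsFrame hF U W u w) :
    LinearIndependent F (Fin.append u w) := by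
  classical
  rw [Fintype.linearIndependent_iff]
  intro g hg
  rw [Fin.sum_univ_add] at hg
  simp only [Fin.append_left, Fin.append_right] at hg
  have hcast : ∀ k, g (Fin.castAdd d k) = 0 := by
    intro k
    have h1 := congrArg (fun v => hermB hF n v (w k)) hg
    simp only [map_add, map_sum, map_smul, LinearMap.add_apply, LinearMap.sum_apply,
      LinearMap.smul_apply, map_zero, LinearMap.zero_apply, smul_eq_mul, h.pair] at h1
    rw [Finset.sum_eq_single k (fun i _ hik => by rw [if_neg hik, mul_zero])
      (fun hk => absurd (Finset.mem_univ k) hk), if_pos rfl, mul_one,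
      Finset.sum_eq_zero (fun j _ => by rw [hW (h.memW k) (w j) (h.memW j), mul_zero]),
      add_zero] at h1
    exact h1
  have hnat : ∀ k, g (Fin.natAdd d k) = 0 := by
    intro k
    have h1 := congrArg (fun v => hermB hF n v (u k)) hg
    simp only [map_add, map_sum, map_smul, LinearMap.add_apply, LinearMap.sum_apply,
      LinearMap.smul_apply, map_zero, LinearMap.zero_apply, smul_eq_mul, h.pair' hF] at h1
    rw [Finset.sum_eq_zero (fun j _ => by rw [hU (h.memU k) (u j) (h.memU j), mul_zero]),
      zero_add, Finset.sum_eq_single k (fun i _ hik => by rw [if_neg (Ne.symm hik), mul_zero])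
      (fun hk => absurd (Finset.mem_univ k) hk), if_pos rfl, mul_one] at h1
    exact h1
  intro a
  induction a using Fin.addCases with
  | left k => exact hcast k
  | right k => exact hnat k

/-- frames have the same Gram matrix -/
theorem frame_gram (hF : Fintype.card F = q ^ 2) {n d : ℕ} {U W U' W' : Submodule F (Fin n → F)}
    (hU : U ≤ orth (hermB hF n) U) (hW : W ≤ orth (hermB hF n) W)
    (hU' : U' ≤ orth (hermB hF n) U') (hW' : W' ≤ orth (hermB hF n) W')
    {u w u' w' : Fin d → (Fin n → F)} (h : IsFrame hF U W u w) (h' : IsFrame hF U' W' u' w')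
    (a b : Fin (d + d)) :
    Cfsg.hermForm n F q (Fin.append u w a) (Fin.append u w b) =
      Cfsg.hermForm n F q (Fin.append u' w' a) (Fin.append u' w' b) := by
  rw [← hermB_apply hF, ← hermB_apply hF]
  induction a using Fin.addCases with
  | left i =>
    induction b using Fin.addCases with
    | left j =>
      simp only [Fin.append_left]
      rw [hU (h.memU j) (u i) (h.memU i), hU' (h'.memU j) (u' i) (h'.memU i)]
    | right j =>
      simp only [Fin.append_left, Fin.append_right]
      rw [h.pair, h'.pair]
  | right i =>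
    induction b using Fin.addCases with
    | left j =>
      simp only [Fin.append_left, Fin.append_right]
      rw [h.pair' hF, h'.pair' hF]
    | right j =>
      simp only [Fin.append_right]
      rw [hW (h.memW j) (w i) (h.memW i), hW' (h'.memW j) (w' i) (h'.memW i)]

/-- a linearly independent family of the right size spans -/
theorem span_eq_of_li {n d : ℕ} (U : Submodule F (Fin n → F)) (hUd : finrank F U = d)
    (u : Fin d → (Fin n → F)) (hu : ∀ i, u i ∈ U) (hli : LinearIndependent F u) :
    Submodule.span F (Set.range u) = U := by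
  apply Submodule.eq_of_le_of_finrank_eq
  · rw [Submodule.span_le]
    rintro _ ⟨i, rfl⟩
    exact hu i
  · rw [finrank_span_eq_card hli, Fintype.card_fin, hUd]

/-- the dual frame of a basis of `U` -/
theorem exists_dual (hF : Fintype.card F = q ^ 2) {n d : ℕ} (U W : Submodule F (Fin n → F))
    (hP : IsPolar (hermB hF n) ⊤ U W) (hUd : finrank F U = d)
    (u : Fin d → (Fin n → F)) (hu : ∀ i, u i ∈ U) (hli : LinearIndependent F u) :
    ∃ w : Fin d → (Fin n → F), IsFrame hF U W u w := by
  classical
  obtain ⟨hUW, -⟩ := polar_finrank (hermB hF n) (frob_invol hF) (hermB_sym hF n) ⊤ U W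
    (ndOn_top' hF n) hP
  have hspan := span_eq_of_li U hUd u hu hli
  let T : W →ₗ[F] (Fin d → F) :=
    LinearMap.pi (fun i => ((hermB hF n).flip (u i)).comp W.subtype)
  have hT : ∀ (x : W) (i : Fin d), T x i = hermB hF n (x : Fin n → F) (u i) := fun x i => rfl
  have hinj : Function.Injective T := by
    rw [← LinearMap.ker_eq_bot, LinearMap.ker_eq_bot']
    intro x hx
    apply Subtype.ext
    apply hermB_nd hF n
    have hxU : ∀ a ∈ Submodule.span F (Set.range u), hermB hF n (x : Fin n → F) a = 0 := by
      intro a ha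
      induction ha using Submodule.span_induction with
      | mem v hv =>
        obtain ⟨i, rfl⟩ := hv
        have := congrFun hx i
        rw [hT] at this
        exact this
      | zero => rw [map_zero]
      | add v v' _ _ hv hv' => rw [map_add, hv, hv', add_zero]
      | smul c v _ hv => rw [map_smulₛₗ, hv, smul_zero]
    intro z
    have hzt : z ∈ U ⊔ W := by rw [hP.sup_eq]; exact Submodule.mem_top
    obtain ⟨a, ha, b, hb, rfl⟩ := Submodule.mem_sup.1 hzt
    have h1 : hermB hF n (x : Fin n → F) a = 0 := hxU a (by rw [hspan]; exact ha)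
    have h2 : hermB hF n (x : Fin n → F) b = 0 := by
      rw [hermB_sym, hP.isoW x.2 b hb, map_zero]
    rw [map_add, h1, h2, add_zero]
  have hsurj : Function.Surjective T := by
    rw [← LinearMap.injective_iff_surjective_of_finrank_eq_finrank]
    · exact hinj
    · rw [Module.finrank_fin_fun, ← hUW, hUd]
  choose w hw using fun j : Fin d => hsurj (Pi.single j 1)
  refine ⟨fun j => (w j : Fin n → F), hu, fun j => (w j).2, fun i j => ?_⟩
  rw [hermB_sym, ← hT, hw j, Pi.single_apply]
  split_ifs
  · rw [map_one]
  · rw [map_zero]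

/-- every polar pair has a frame -/
theorem exists_frame (hF : Fintype.card F = q ^ 2) {n d : ℕ} (U W : Submodule F (Fin n → F))
    (hP : IsPolar (hermB hF n) ⊤ U W) (hUd : finrank F U = d) :
    ∃ u w : Fin d → (Fin n → F), IsFrame hF U W u w ∧ LinearIndependent F u := by
  let b : Module.Basis (Fin d) F U := Module.finBasisOfFinrankEq F U hUd
  have hli : LinearIndependent F (fun i => (b i : Fin n → F)) :=
    b.linearIndependent.map' U.subtype (Submodule.ker_subtype U)
  obtain ⟨w, hw⟩ := exists_dual hF U W hP hUd _ (fun i => (b i).2) hli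
  exact ⟨_, w, hw, hli⟩

/-- the members of a frame span the members of the pair -/
theorem frame_span (hF : Fintype.card F = q ^ 2) {n d : ℕ} (U W : Submodule F (Fin n → F))
    (hP : IsPolar (hermB hF n) ⊤ U W) (hUd : finrank F U = d)
    {u w : Fin d → (Fin n → F)} (h : IsFrame hF U W u w) :
    Submodule.span F (Set.range u) = U ∧ Submodule.span F (Set.range w) = W := by
  obtain ⟨hUW, -⟩ := polar_finrank (hermB hF n) (frob_invol hF) (hermB_sym hF n) ⊤ U W
    (ndOn_top' hF n) hP
  have hli := frame_li hF hP.isoU hP.isoW h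
  have hli1 : LinearIndependent F u := by
    have := hli.comp (Fin.castAdd d) (Fin.castAdd_injective d d)
    convert this using 1
    funext i
    rw [Function.comp_apply, Fin.append_left]
  have hli2 : LinearIndependent F w := by
    have := hli.comp (Fin.natAdd d) (Fin.natAdd_injective d d)
    convert this using 1
    funext i
    rw [Function.comp_apply, Fin.append_right]
  exact ⟨span_eq_of_li U hUd u h.memU hli1, span_eq_of_li W (by rw [← hUW, hUd]) w h.memW hli2⟩

omit [Fintype F] in
/-- image of a span under a matrix -/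
theorem map_span_range {n d : ℕ} (M : Matrix (Fin n) (Fin n) F) (u u' : Fin d → (Fin n → F))
    (h : ∀ i, M *ᵥ u i = u' i) :
    (Submodule.span F (Set.range u)).map (Matrix.toLin' M) = Submodule.span F (Set.range u') := by
  rw [Submodule.map_span]
  congr 1
  ext v
  constructor
  · rintro ⟨_, ⟨i, rfl⟩, rfl⟩
    exact ⟨i, by rw [Matrix.toLin'_apply, h]⟩
  · rintro ⟨i, rfl⟩
    exact ⟨u i, ⟨i, rfl⟩, by rw [Matrix.toLin'_apply, h]⟩

/-- Witt: the unitary group is transitive on frames -/
theorem exists_GU_frame (hF : Fintype.card F = q ^ 2) {d : ℕ}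
    {U W U' W' : Submodule F (Fin (d + d) → F)}
    (hP : IsPolar (hermB hF (d + d)) ⊤ U W) (hP' : IsPolar (hermB hF (d + d)) ⊤ U' W')
    {u w u' w' : Fin d → (Fin (d + d) → F)} (h : IsFrame hF U W u w)
    (h' : IsFrame hF U' W' u' w') :
    ∃ A : ↥(Cfsg.GU (d + d) F q), (∀ i, gm A *ᵥ u i = u' i) ∧ (∀ j, gm A *ᵥ w j = w' j) := by
  obtain ⟨A, hA⟩ := witt_GU hF (d + d) (Fin.append u w) (Fin.append u' w')
    (frame_li hF hP.isoU hP.isoW h) (frame_li hF hP'.isoU hP'.isoW h')
    (frame_gram hF hP.isoU hP.isoW hP'.isoU hP'.isoW h h')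
  refine ⟨A, fun i => ?_, fun j => ?_⟩
  · have := hA (Fin.castAdd d i)
    rw [Fin.append_left, Fin.append_left] at this
    exact this
  · have := hA (Fin.natAdd d j)
    rw [Fin.append_right, Fin.append_right] at this
    exact this

/-- the unitary group is transitive on polar pairs -/
theorem exists_GU_polar (hF : Fintype.card F = q ^ 2) {d : ℕ}
    {U W U' W' : Submodule F (Fin (d + d) → F)}
    (hP : IsPolar (hermB hF (d + d)) ⊤ U W) (hP' : IsPolar (hermB hF (d + d)) ⊤ U' W') :
    ∃ A : ↥(Cfsg.GU (d + d) F q), U.map (Matrix.toLin' (gm A)) = U' ∧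
      W.map (Matrix.toLin' (gm A)) = W' := by
  have hUd : finrank F U = d := by
    have := (polar_finrank (hermB hF (d + d)) (frob_invol hF) (hermB_sym hF (d + d)) ⊤ U W
      (ndOn_top' hF _) hP).2
    rw [finrank_top, Module.finrank_fin_fun] at this
    omega
  have hUd' : finrank F U' = d := by
    have := (polar_finrank (hermB hF (d + d)) (frob_invol hF) (hermB_sym hF (d + d)) ⊤ U' W'
      (ndOn_top' hF _) hP').2
    rw [finrank_top, Module.finrank_fin_fun] at this
    omega
  obtain ⟨u, w, hf, -⟩ := exists_frame hF U W hP hUd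
  obtain ⟨u', w', hf', -⟩ := exists_frame hF U' W' hP' hUd'
  obtain ⟨A, hAu, hAw⟩ := exists_GU_frame hF hP hP' hf hf'
  obtain ⟨hsU, hsW⟩ := frame_span hF U W hP hUd hf
  obtain ⟨hsU', hsW'⟩ := frame_span hF U' W' hP' hUd' hf'
  refine ⟨A, ?_, ?_⟩
  · rw [← hsU, ← hsU']
    exact map_span_range _ u u' hAu
  · rw [← hsW, ← hsW']
    exact map_span_range _ w w' hAw

end Cfsg.Agent.Lib.Helper22.PolUn
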