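import Mathlib
import Cfsg.Agent.Lib.Helper22.PolUnC
import Cfsg.Agent.Lib.Helper22.NdUnC

set_option autoImplicit false

/-!
# The special unitary group is transitive on polar pairs
-/

namespace Cfsg.Agent.Lib.Helper22.PolUn

open Module Cfsg.Agent.Lib.Helper12 Cfsg.Agent.Lib.Helper12.Un Cfsg.Agent.Lib.Helper14
  Cfsg.Agent.Lib.Helper5.HermBridge Cfsg.Agent.Lib.Helper5.UTIStab Cfsg.Agent.Lib.Helper22.NdUn

open scoped Matrix

section det

variable {K : Type*} [Field K]

/-- the determinant of a matrix acting diagonally on a basis -/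
theorem det_of_diag_on_basis {n : ℕ} (M : Matrix (Fin n) (Fin n) K) (x : Fin n → (Fin n → K))
    (hli : LinearIndependent K x) (s : Fin n → K) (h : ∀ a, M *ᵥ x a = s a • x a) :
    M.det = ∏ a, s a := by
  classical
  rcases Nat.eq_zero_or_pos n with hn0 | hnpos
  · subst hn0
    rw [Matrix.det_isEmpty, Finset.univ_eq_empty, Finset.prod_empty]
  haveI : Nonempty (Fin n) := ⟨⟨0, hnpos⟩⟩
  have hcard : Fintype.card (Fin n) = finrank K (Fin n → K) := by
    rw [Module.finrank_fin_fun, Fintype.card_fin]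
  let b : Module.Basis (Fin n) K (Fin n → K) := basisOfLinearIndependentOfCardEqFinrank hli hcard
  have hb : ∀ a, b a = x a := fun a => by
    simp only [b, coe_basisOfLinearIndependentOfCardEqFinrank]
  rw [← LinearMap.det_toLin', ← LinearMap.det_toMatrix b]
  have hdiag : LinearMap.toMatrix b b (Matrix.toLin' M) = Matrix.diagonal s := by
    ext i j
    rw [LinearMap.toMatrix_apply, hb, Matrix.toLin'_apply, h, ← hb, map_smul,
      Module.Basis.repr_self, Finsupp.smul_apply, Finsupp.single_apply, Matrix.diagonal_apply,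
      smul_eq_mul]
    by_cases hij : i = j
    · rw [if_pos hij.symm, if_pos hij, mul_one, hij]
    · rw [if_neg (Ne.symm hij), if_neg hij, mul_zero]
  rw [hdiag, Matrix.det_diagonal]

end det

variable {F : Type*} [Field F] [Fintype F] {q : ℕ}

/-- Hilbert 90 for the quadratic extension -/
theorem hilbert90 (hF : Fintype.card F = q ^ 2) (l : F) (hl : l * l ^ q = 1) :
    ∃ μ : F, μ ≠ 0 ∧ μ = l * μ ^ q := by
  by_cases h1 : l = -1
  · obtain ⟨θ, hθ⟩ := frob_ne hF
    rw [frobHom_apply] at hθ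
    refine ⟨θ - θ ^ q, sub_ne_zero.2 (Ne.symm hθ), ?_⟩
    have h2 : (θ - θ ^ q) ^ q = θ ^ q - θ := by
      have := map_sub (frobHom hF) θ (θ ^ q)
      rw [frobHom_apply, frobHom_apply, frobHom_apply] at this
      rw [this]
      have h3 := frob_invol hF θ
      rw [frobHom_apply, frobHom_apply] at h3
      rw [h3]
    rw [h2, h1]
    ring
  · refine ⟨1 + l, ?_, ?_⟩
    · intro h
      apply h1
      rw [eq_neg_iff_add_eq_zero, add_comm]
      exact h
    · have h2 : (1 + l) ^ q = 1 + l ^ q := by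
        have := map_add (frobHom hF) 1 l
        rw [frobHom_apply, frobHom_apply, frobHom_apply, one_pow] at this
        exact this
      rw [h2, mul_add, hl, mul_one, add_comm]

/-- rescaling a frame -/
theorem frame_smul (hF : Fintype.card F = q ^ 2) {n d : ℕ} {U W : Submodule F (Fin n → F)}
    {u w : Fin d → (Fin n → F)} (h : IsFrame hF U W u w) (s t : Fin d → F)
    (hst : ∀ i, s i * t i ^ q = 1) :
    IsFrame hF U W (fun i => s i • u i) (fun j => t j • w j) := by
  refine ⟨fun i => Submodule.smul_mem _ _ (h.memU i), fun j => Submodule.smul_mem _ _ (h.memW j),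
    fun i j => ?_⟩
  simp only [map_smul, LinearMap.smul_apply, map_smulₛₗ, smul_eq_mul, h.pair, frobHom_apply]
  by_cases hij : i = j
  · rw [if_pos hij, mul_one, hij, mul_comm, hst]
  · rw [if_neg hij, mul_zero, mul_zero]


/-- unitary matrices have determinant of norm one -/
theorem det_norm (hF : Fintype.card F = q ^ 2) {n : ℕ} (A : ↥(Cfsg.GU n F q)) :
    (gm A).det * (gm A).det ^ q = 1 := by
  classical
  exact det_mul_det_pow_of_orthoN hF (gm A) (orthoN_cols_of_mem_GU hF A.1 A.2)

/-- elements of `GU` fixing both members of a polar pair, of every determinant of norm one -/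
theorem exists_GU_stab_det (hF : Fintype.card F = q ^ 2) {d : ℕ} (hd : 0 < d)
    {U W : Submodule F (Fin (d + d) → F)} (hP : IsPolar (hermB hF (d + d)) ⊤ U W)
    (l : F) (hl : l * l ^ q = 1) :
    ∃ C : ↥(Cfsg.GU (d + d) F q), U.map (Matrix.toLin' (gm C)) = U ∧
      W.map (Matrix.toLin' (gm C)) = W ∧ (gm C).det = l := by
  classical
  have hUd : finrank F U = d := by
    have := (polar_finrank (hermB hF (d + d)) (frob_invol hF) (hermB_sym hF (d + d)) ⊤ U W
      (ndOn_top' hF _) hP).2
    rw [finrank_top, Module.finrank_fin_fun] at this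
    omega
  obtain ⟨u, w, hf, -⟩ := exists_frame hF U W hP hUd
  obtain ⟨μ, hμ0, hμ⟩ := hilbert90 hF l hl
  have hμq0 : μ ^ q ≠ 0 := pow_ne_zero _ hμ0
  have hμqq : (μ ^ q) ^ q = μ := by
    have := frob_invol hF μ
    rw [frobHom_apply, frobHom_apply] at this
    exact this
  let i₀ : Fin d := ⟨0, hd⟩
  let s : Fin d → F := fun i => if i = i₀ then μ else 1
  let t : Fin d → F := fun i => if i = i₀ then (μ ^ q)⁻¹ else 1
  have hst : ∀ i, s i * t i ^ q = 1 := by
    intro i
    by_cases hi : i = i₀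
    · simp only [s, t, if_pos hi]
      rw [inv_pow, hμqq, mul_inv_cancel₀ hμ0]
    · simp only [s, t, if_neg hi]
      rw [one_pow, mul_one]
  have hf' := frame_smul hF hf s t hst
  obtain ⟨C, hCu, hCw⟩ := exists_GU_frame hF hP hP hf hf'
  obtain ⟨hsU, hsW⟩ := frame_span hF U W hP hUd hf
  obtain ⟨hsU', hsW'⟩ := frame_span hF U W hP hUd hf'
  refine ⟨C, ?_, ?_, ?_⟩
  · nth_rewrite 1 [← hsU]
    rw [map_span_range _ u _ hCu, hsU']
  · nth_rewrite 1 [← hsW]
    rw [map_span_range _ w _ hCw, hsW']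
  · have hdiag : ∀ a, gm C *ᵥ (Fin.append u w a) = (Fin.append s t a) • (Fin.append u w a) := by
      intro a
      induction a using Fin.addCases with
      | left i => rw [Fin.append_left, Fin.append_left, hCu]
      | right j => rw [Fin.append_right, Fin.append_right, hCw]
    rw [det_of_diag_on_basis (gm C) (Fin.append u w) (frame_li hF hP.isoU hP.isoW hf)
      (Fin.append s t) hdiag, Fin.prod_univ_add]
    simp only [Fin.append_left, Fin.append_right, s, t]
    rw [Finset.prod_ite_eq' Finset.univ i₀ (fun _ => μ), Finset.prod_ite_eq' Finset.univ i₀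
      (fun _ => (μ ^ q)⁻¹), if_pos (Finset.mem_univ _), if_pos (Finset.mem_univ _)]
    rw [eq_comm, ← div_eq_mul_inv, eq_div_iff hμq0]
    exact hμ.symm

/-- the special unitary group is transitive on polar pairs -/
theorem exists_SU_polar (hF : Fintype.card F = q ^ 2) {d : ℕ} (hd : 0 < d)
    {U W U' W' : Submodule F (Fin (d + d) → F)}
    (hP : IsPolar (hermB hF (d + d)) ⊤ U W) (hP' : IsPolar (hermB hF (d + d)) ⊤ U' W') :
    ∃ g : GL (Fin (d + d)) F, g ∈ Cfsg.GU (d + d) F q ⊓ Cfsg.Geo.specialLinear (Fin (d + d)) F ∧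
      U.map (Matrix.toLin' (g : Matrix (Fin (d + d)) (Fin (d + d)) F)) = U' ∧
      W.map (Matrix.toLin' (g : Matrix (Fin (d + d)) (Fin (d + d)) F)) = W' := by
  obtain ⟨A, hAU, hAW⟩ := exists_GU_polar hF hP hP'
  have hn := det_norm hF A
  have hdet0 : (gm A).det ≠ 0 := by
    intro h0
    rw [h0, zero_mul] at hn
    exact zero_ne_one hn
  obtain ⟨C, hCU, hCW, hCdet⟩ := exists_GU_stab_det hF hd hP' (gm A).det⁻¹
    (by rw [inv_pow, ← mul_inv, hn, inv_one])
  refine ⟨((C * A : ↥(Cfsg.GU (d + d) F q)) : GL (Fin (d + d)) F), ⟨(C * A).2, ?_⟩, ?_, ?_⟩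
  · change Matrix.GeneralLinearGroup.det ((C * A : ↥(Cfsg.GU (d + d) F q)) : GL (Fin (d + d)) F) = 1
    apply Units.ext
    change (gm (C * A)).det = 1
    rw [gm_mul, Matrix.det_mul, hCdet, inv_mul_cancel₀ hdet0]
  · change U.map (Matrix.toLin' (gm (C * A))) = U'
    rw [gm_mul, Matrix.toLin'_mul, Submodule.map_comp, hAU, hCU]
  · change W.map (Matrix.toLin' (gm (C * A))) = W'
    rw [gm_mul, Matrix.toLin'_mul, Submodule.map_comp, hAW, hCW]

end Cfsg.Agent.Lib.Helper22.PolUn
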