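import Mathlib
import Cfsg.Prelude.Def_GeometricClasses
import Cfsg.Agent.Lib.Helper5.SpMax

/-!
Shared definitions for S5886 (`ΓL_{n/r}(q^r)` is maximal in `GL_n(q)`, and its intersection with
`SL_n(q)` is maximal in `SL_n(q)`; `r` prime): a field `E` acting on `V = F^n` through an algebra map
`ρ`; `E`-lines; `E`-linear functionals `EFun`; the `E`-transvections `etv`, the torus elements `tor`,
the centraliser `cent ρ` of `E` in `GL_n(F)`, the `F`-transvection matrices `ftv`, the unipotent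
elements `uX` of the stabiliser of an `E`-line.
-/

set_option autoImplicit false
set_option linter.unusedSectionVars false
set_option linter.unusedVariables false
set_option linter.unusedSimpArgs false

namespace Cfsg.Agent.Lib.Helper22.C3L
open Cfsg Matrix Cfsg.Agent.Lib.Helper5.SpMax

variable {F : Type*} [Field F] {n : ℕ} {E : Type*} [Field E] [Algebra F E]

local notation "𝕍" => (Fin n → F)
local notation "𝕄" => Matrix (Fin n) (Fin n) F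

/-! ### the action of `E` -/

/-- the action of `e : E` on vectors -/
def act (ρ : E →ₐ[F] 𝕄) (e : E) (x : 𝕍) : 𝕍 := ρ e *ᵥ x

section act
variable (ρ : E →ₐ[F] Matrix (Fin n) (Fin n) F)

lemma act_def (e : E) (x : 𝕍) : act ρ e x = ρ e *ᵥ x := rfl

@[simp] lemma act_one (x : 𝕍) : act ρ 1 x = x := by
  rw [act_def, map_one, Matrix.one_mulVec]

@[simp] lemma act_zero (x : 𝕍) : act ρ 0 x = 0 := by
  rw [act_def, map_zero, Matrix.zero_mulVec]

@[simp] lemma act_vzero (e : E) : act ρ e (0 : 𝕍) = 0 := by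
  rw [act_def, Matrix.mulVec_zero]

lemma act_mul (e e' : E) (x : 𝕍) : act ρ (e * e') x = act ρ e (act ρ e' x) := by
  rw [act_def, act_def, act_def, map_mul, Matrix.mulVec_mulVec]

lemma act_add (e e' : E) (x : 𝕍) : act ρ (e + e') x = act ρ e x + act ρ e' x := by
  rw [act_def, act_def, act_def, map_add, Matrix.add_mulVec]

lemma act_sub (e e' : E) (x : 𝕍) : act ρ (e - e') x = act ρ e x - act ρ e' x := by
  rw [act_def, act_def, act_def, map_sub, Matrix.sub_mulVec]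

lemma act_neg (e : E) (x : 𝕍) : act ρ (-e) x = - act ρ e x := by
  rw [act_def, act_def, map_neg, Matrix.neg_mulVec]

lemma act_vadd (e : E) (x y : 𝕍) : act ρ e (x + y) = act ρ e x + act ρ e y := by
  rw [act_def, act_def, act_def, Matrix.mulVec_add]

lemma act_vsub (e : E) (x y : 𝕍) : act ρ e (x - y) = act ρ e x - act ρ e y := by
  rw [act_def, act_def, act_def, Matrix.mulVec_sub]

lemma act_vneg (e : E) (x : 𝕍) : act ρ e (-x) = - act ρ e x := by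
  rw [act_def, act_def, Matrix.mulVec_neg]

lemma act_vsmul (e : E) (c : F) (x : 𝕍) : act ρ e (c • x) = c • act ρ e x := by
  rw [act_def, act_def, Matrix.mulVec_smul]

lemma act_algebraMap (c : F) (x : 𝕍) : act ρ (algebraMap F E c) x = c • x := by
  rw [act_def, AlgHom.commutes, Algebra.algebraMap_eq_smul_one, Matrix.smul_mulVec,
    Matrix.one_mulVec]

lemma act_smul (c : F) (e : E) (x : 𝕍) : act ρ (c • e) x = c • act ρ e x := by
  rw [act_def, act_def, map_smul, Matrix.smul_mulVec]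

lemma act_comm (e e' : E) (x : 𝕍) : act ρ e (act ρ e' x) = act ρ e' (act ρ e x) := by
  rw [← act_mul, ← act_mul, mul_comm]

lemma act_inv_act {e : E} (he : e ≠ 0) (x : 𝕍) : act ρ e⁻¹ (act ρ e x) = x := by
  rw [← act_mul, inv_mul_cancel₀ he, act_one]

lemma act_act_inv {e : E} (he : e ≠ 0) (x : 𝕍) : act ρ e (act ρ e⁻¹ x) = x := by
  rw [← act_mul, mul_inv_cancel₀ he, act_one]

lemma act_eq_zero {e : E} {x : 𝕍} (h : act ρ e x = 0) : e = 0 ∨ x = 0 := by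
  by_cases he : e = 0
  · exact Or.inl he
  · right
    rw [← act_inv_act ρ he x, h, act_vzero]

/-! ### `E`-lines -/

/-- the linear map `e ↦ e v` -/
def orb (v : 𝕍) : E →ₗ[F] 𝕍 where
  toFun e := act ρ e v
  map_add' e e' := act_add ρ e e' v
  map_smul' c e := by
    simp only [RingHom.id_apply]
    exact act_smul ρ c e v

/-- the `E`-line of `v` as an `F`-subspace -/
def line (v : 𝕍) : Submodule F 𝕍 := LinearMap.range (orb ρ v)

variable {ρ}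

lemma mem_line {v x : 𝕍} : x ∈ line ρ v ↔ ∃ e, act ρ e v = x := by
  unfold line
  rw [LinearMap.mem_range]
  rfl

lemma act_mem_line (e : E) (v : 𝕍) : act ρ e v ∈ line ρ v := mem_line.mpr ⟨e, rfl⟩

lemma self_mem_line (v : 𝕍) : v ∈ line ρ v := mem_line.mpr ⟨1, act_one ρ v⟩

lemma act_mem_line_of_mem {v x : 𝕍} (hx : x ∈ line ρ v) (e : E) : act ρ e x ∈ line ρ v := by
  obtain ⟨e', rfl⟩ := mem_line.mp hx
  rw [← act_mul]
  exact act_mem_line _ _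

lemma line_eq_of_mem {v x : 𝕍} (hx : x ∈ line ρ v) (hx0 : x ≠ 0) : line ρ x = line ρ v := by
  obtain ⟨e, rfl⟩ := mem_line.mp hx
  have he : e ≠ 0 := by
    rintro rfl
    exact hx0 (act_zero ρ v)
  apply le_antisymm
  · intro y hy
    obtain ⟨e', rfl⟩ := mem_line.mp hy
    rw [← act_mul]
    exact act_mem_line _ _
  · intro y hy
    obtain ⟨e', rfl⟩ := mem_line.mp hy
    apply mem_line.mpr
    refine ⟨e' * e⁻¹, ?_⟩
    rw [act_mul, act_inv_act ρ he]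

lemma orb_injective {v : 𝕍} (hv : v ≠ 0) : Function.Injective (orb ρ v) := by
  rw [← LinearMap.ker_eq_bot, LinearMap.ker_eq_bot']
  intro e he
  rcases act_eq_zero ρ he with h | h
  · exact h
  · exact absurd h hv

lemma finrank_line {v : 𝕍} (hv : v ≠ 0) :
    Module.finrank F (line ρ v) = Module.finrank F E := by
  unfold line
  exact LinearMap.finrank_range_of_inj (orb_injective hv)

/-- `E`-stable `F`-subspaces -/
def EStable (ρ : E →ₐ[F] 𝕄) (Y : Submodule F 𝕍) : Prop := ∀ e : E, ∀ y ∈ Y, act ρ e y ∈ Y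

lemma line_estable (v : 𝕍) : EStable ρ (line ρ v) := fun e _ hy => act_mem_line_of_mem hy e

lemma sup_estable {Y Z : Submodule F 𝕍} (hY : EStable ρ Y) (hZ : EStable ρ Z) :
    EStable ρ (Y ⊔ Z) := by
  intro e x hx
  obtain ⟨y, hy, z, hz, rfl⟩ := Submodule.mem_sup.mp hx
  rw [act_vadd]
  exact Submodule.add_mem_sup (hY e y hy) (hZ e z hz)

end act

/-! ### `E`-linear functionals -/

/-- an `E`-linear functional on `V`: an `F`-linear map `V → E` commuting with the action of `E` -/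
structure EFun (ρ : E →ₐ[F] 𝕄) where
  toLin : 𝕍 →ₗ[F] E
  map_act' : ∀ (e : E) (x : 𝕍), toLin (act ρ e x) = e * toLin x

namespace EFun
variable {ρ : E →ₐ[F] Matrix (Fin n) (Fin n) F}

instance : CoeFun (EFun ρ) (fun _ => 𝕍 → E) := ⟨fun Λ => Λ.toLin⟩

lemma coe_def (Λ : EFun ρ) (x : 𝕍) : Λ x = Λ.toLin x := rfl

@[ext] lemma ext {Λ Μ : EFun ρ} (h : ∀ x, Λ x = Μ x) : Λ = Μ := by
  cases Λ; cases Μ
  congr
  exact LinearMap.ext h

lemma map_act (Λ : EFun ρ) (e : E) (x : 𝕍) : Λ (act ρ e x) = e * Λ x := Λ.map_act' e x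
lemma map_add (Λ : EFun ρ) (x y : 𝕍) : Λ (x + y) = Λ x + Λ y := Λ.toLin.map_add x y
lemma map_sub (Λ : EFun ρ) (x y : 𝕍) : Λ (x - y) = Λ x - Λ y := Λ.toLin.map_sub x y
lemma map_neg (Λ : EFun ρ) (x : 𝕍) : Λ (-x) = - Λ x := Λ.toLin.map_neg x
@[simp] lemma map_zero (Λ : EFun ρ) : Λ (0 : 𝕍) = 0 := Λ.toLin.map_zero
lemma map_fsmul (Λ : EFun ρ) (c : F) (x : 𝕍) : Λ (c • x) = c • Λ x := Λ.toLin.map_smul c x

instance : Zero (EFun ρ) := ⟨⟨0, fun e x => by simp⟩⟩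
instance : Add (EFun ρ) := ⟨fun Λ Μ => ⟨Λ.toLin + Μ.toLin, fun e x => by
  rw [LinearMap.add_apply, LinearMap.add_apply, Λ.map_act', Μ.map_act', mul_add]⟩⟩
instance : Neg (EFun ρ) := ⟨fun Λ => ⟨-Λ.toLin, fun e x => by
  rw [LinearMap.neg_apply, LinearMap.neg_apply, Λ.map_act', mul_neg]⟩⟩
instance : Sub (EFun ρ) := ⟨fun Λ Μ => ⟨Λ.toLin - Μ.toLin, fun e x => by
  rw [LinearMap.sub_apply, LinearMap.sub_apply, Λ.map_act', Μ.map_act', mul_sub]⟩⟩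
/-- scalar multiplication by `E`: `(a • Λ) x = a * Λ x` -/
instance : SMul E (EFun ρ) := ⟨fun a Λ => ⟨(LinearMap.mulLeft F a).comp Λ.toLin, fun e x => by
  rw [LinearMap.comp_apply, LinearMap.comp_apply, Λ.map_act', LinearMap.mulLeft_apply,
    LinearMap.mulLeft_apply, mul_left_comm]⟩⟩

@[simp] lemma zero_apply (x : 𝕍) : (0 : EFun ρ) x = 0 := rfl
@[simp] lemma add_apply (Λ Μ : EFun ρ) (x : 𝕍) : (Λ + Μ) x = Λ x + Μ x := rfl
@[simp] lemma neg_apply (Λ : EFun ρ) (x : 𝕍) : (-Λ) x = - Λ x := rfl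
@[simp] lemma sub_apply (Λ Μ : EFun ρ) (x : 𝕍) : (Λ - Μ) x = Λ x - Μ x := rfl
@[simp] lemma smul_apply (a : E) (Λ : EFun ρ) (x : 𝕍) : (a • Λ) x = a * Λ x := rfl

/-- precomposition of an `E`-linear functional with a matrix commuting with `E` -/
def comp (Λ : EFun ρ) (A : 𝕄) (hA : ∀ e, A * ρ e = ρ e * A) : EFun ρ where
  toLin := Λ.toLin.comp (Matrix.toLin' A)
  map_act' e x := by
    rw [LinearMap.comp_apply, LinearMap.comp_apply, Matrix.toLin'_apply, Matrix.toLin'_apply,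
      act_def, Matrix.mulVec_mulVec, hA e, ← Matrix.mulVec_mulVec, ← act_def, Λ.map_act']

@[simp] lemma comp_apply (Λ : EFun ρ) (A : 𝕄) (hA : ∀ e, A * ρ e = ρ e * A) (x : 𝕍) :
    Λ.comp A hA x = Λ (A *ᵥ x) := by
  show Λ.toLin.comp (Matrix.toLin' A) x = _
  rw [LinearMap.comp_apply, Matrix.toLin'_apply]

end EFun

/-! ### unipotent elements of `GL` -/

/-- the element `1 + N` of `GL` for `N * N = 0` -/
def unip (N : 𝕄) (h : N * N = 0) : GL (Fin n) F :=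
  ⟨1 + N, 1 - N, by rw [mul_sub, mul_one, add_mul, one_mul, h]; abel,
    by rw [sub_mul, one_mul, mul_add, mul_one, h]; abel⟩

lemma unip_val (N : 𝕄) (h : N * N = 0) : ((unip N h : GL (Fin n) F) : 𝕄) = 1 + N := rfl

lemma unip_inv_val (N : 𝕄) (h : N * N = 0) :
    (((unip N h)⁻¹ : GL (Fin n) F) : 𝕄) = 1 - N := rfl

lemma unip_mulVec (N : 𝕄) (h : N * N = 0) (x : 𝕍) :
    ((unip N h : GL (Fin n) F) : 𝕄) *ᵥ x = x + N *ᵥ x := by
  change (1 + N) *ᵥ x = _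
  rw [Matrix.add_mulVec, Matrix.one_mulVec]

lemma unip_inv_mulVec (N : 𝕄) (h : N * N = 0) (x : 𝕍) :
    (((unip N h)⁻¹ : GL (Fin n) F) : 𝕄) *ᵥ x = x - N *ᵥ x := by
  change (1 - N) *ᵥ x = _
  rw [Matrix.sub_mulVec, Matrix.one_mulVec]

/-! ### `E`-transvections -/

section etv
variable (ρ : E →ₐ[F] Matrix (Fin n) (Fin n) F)

/-- the linear map `x ↦ (Λ x) v` -/
def etvLin (Λ : EFun ρ) (v : 𝕍) : 𝕍 →ₗ[F] 𝕍 where
  toFun x := act ρ (Λ x) v
  map_add' x y := by rw [Λ.map_add, act_add]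
  map_smul' c x := by
    simp only [RingHom.id_apply]
    rw [Λ.map_fsmul, act_smul]

/-- the matrix of `x ↦ (Λ x) v` -/
def etvMat (Λ : EFun ρ) (v : 𝕍) : 𝕄 := LinearMap.toMatrix' (etvLin ρ Λ v)

lemma etvMat_mulVec (Λ : EFun ρ) (v x : 𝕍) : etvMat ρ Λ v *ᵥ x = act ρ (Λ x) v := by
  unfold etvMat
  rw [← Matrix.toLin'_apply, Matrix.toLin'_toMatrix']
  rfl

lemma etvMat_sq {Λ : EFun ρ} {v : 𝕍} (h : Λ v = 0) : etvMat ρ Λ v * etvMat ρ Λ v = 0 := by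
  apply mat_eq_of_mulVec
  intro x
  rw [← Matrix.mulVec_mulVec, etvMat_mulVec, etvMat_mulVec, Λ.map_act, h, mul_zero, act_zero,
    Matrix.zero_mulVec]

/-- the `E`-transvection `x ↦ x + (Λ x) v`, for `Λ v = 0` -/
def etv (Λ : EFun ρ) (v : 𝕍) (h : Λ v = 0) : GL (Fin n) F := unip (etvMat ρ Λ v) (etvMat_sq ρ h)

lemma etv_mulVec {Λ : EFun ρ} {v : 𝕍} (h : Λ v = 0) (x : 𝕍) :
    ((etv ρ Λ v h : GL (Fin n) F) : 𝕄) *ᵥ x = x + act ρ (Λ x) v := by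
  unfold etv
  rw [unip_mulVec, etvMat_mulVec]

lemma etv_inv_mulVec {Λ : EFun ρ} {v : 𝕍} (h : Λ v = 0) (x : 𝕍) :
    (((etv ρ Λ v h)⁻¹ : GL (Fin n) F) : 𝕄) *ᵥ x = x - act ρ (Λ x) v := by
  unfold etv
  rw [unip_inv_mulVec, etvMat_mulVec]

lemma etvMat_comm (Λ : EFun ρ) (v : 𝕍) (e : E) : etvMat ρ Λ v * ρ e = ρ e * etvMat ρ Λ v := by
  apply mat_eq_of_mulVec
  intro x
  rw [← Matrix.mulVec_mulVec, ← Matrix.mulVec_mulVec, etvMat_mulVec, etvMat_mulVec, ← act_def,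
    ← act_def, Λ.map_act, act_mul]

lemma etv_comm {Λ : EFun ρ} {v : 𝕍} (h : Λ v = 0) (e : E) :
    ((etv ρ Λ v h : GL (Fin n) F) : 𝕄) * ρ e = ρ e * ((etv ρ Λ v h : GL (Fin n) F) : 𝕄) := by
  unfold etv
  rw [unip_val, add_mul, mul_add, one_mul, mul_one, etvMat_comm]

/-! ### torus elements -/

/-- the linear map `x ↦ ((k - 1) * Λ x) v` -/
def torLin (Λ : EFun ρ) (v : 𝕍) (k : E) : 𝕍 →ₗ[F] 𝕍 where
  toFun x := act ρ ((k - 1) * Λ x) v
  map_add' x y := by rw [Λ.map_add, mul_add, act_add]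
  map_smul' c x := by
    simp only [RingHom.id_apply]
    rw [Λ.map_fsmul, mul_smul_comm, act_smul]

/-- the matrix of `x ↦ x + ((k - 1) * Λ x) v`: for `Λ v = 1` this is `k` on `E v` and `1` on
`ker Λ` -/
def torMat (Λ : EFun ρ) (v : 𝕍) (k : E) : 𝕄 := 1 + LinearMap.toMatrix' (torLin ρ Λ v k)

lemma torMat_mulVec (Λ : EFun ρ) (v : 𝕍) (k : E) (x : 𝕍) :
    torMat ρ Λ v k *ᵥ x = x + act ρ ((k - 1) * Λ x) v := by
  unfold torMat
  rw [Matrix.add_mulVec, Matrix.one_mulVec, ← Matrix.toLin'_apply, Matrix.toLin'_toMatrix']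
  rfl

lemma torMat_mul {Λ : EFun ρ} {v : 𝕍} (h : Λ v = 1) (k k' : E) :
    torMat ρ Λ v k * torMat ρ Λ v k' = torMat ρ Λ v (k * k') := by
  apply mat_eq_of_mulVec
  intro x
  rw [← Matrix.mulVec_mulVec, torMat_mulVec, torMat_mulVec, torMat_mulVec, Λ.map_add, Λ.map_act, h,
    mul_one, add_assoc, ← act_add]
  congr 2
  ring

lemma torMat_one (Λ : EFun ρ) (v : 𝕍) : torMat ρ Λ v 1 = 1 := by
  apply mat_eq_of_mulVec
  intro x
  rw [torMat_mulVec, sub_self, zero_mul, act_zero, add_zero, Matrix.one_mulVec]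

/-- the torus element `x ↦ x + ((k - 1) * Λ x) v`, for `Λ v = 1` and `k ≠ 0` -/
def tor (Λ : EFun ρ) (v : 𝕍) (k : E) (h : Λ v = 1) (hk : k ≠ 0) : GL (Fin n) F :=
  ⟨torMat ρ Λ v k, torMat ρ Λ v k⁻¹,
    by rw [torMat_mul ρ h, mul_inv_cancel₀ hk, torMat_one],
    by rw [torMat_mul ρ h, inv_mul_cancel₀ hk, torMat_one]⟩

lemma tor_mulVec {Λ : EFun ρ} {v : 𝕍} {k : E} (h : Λ v = 1) (hk : k ≠ 0) (x : 𝕍) :
    ((tor ρ Λ v k h hk : GL (Fin n) F) : 𝕄) *ᵥ x = x + act ρ ((k - 1) * Λ x) v :=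
  torMat_mulVec ρ Λ v k x

lemma tor_inv_mulVec {Λ : EFun ρ} {v : 𝕍} {k : E} (h : Λ v = 1) (hk : k ≠ 0) (x : 𝕍) :
    (((tor ρ Λ v k h hk)⁻¹ : GL (Fin n) F) : 𝕄) *ᵥ x = x + act ρ ((k⁻¹ - 1) * Λ x) v :=
  torMat_mulVec ρ Λ v k⁻¹ x

lemma torMat_comm (Λ : EFun ρ) (v : 𝕍) (k e : E) : torMat ρ Λ v k * ρ e = ρ e * torMat ρ Λ v k := by
  apply mat_eq_of_mulVec
  intro x
  rw [← Matrix.mulVec_mulVec, ← Matrix.mulVec_mulVec, torMat_mulVec, torMat_mulVec, ← act_def,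
    ← act_def, Λ.map_act, act_vadd, ← act_mul]
  congr 2
  ring

lemma tor_comm {Λ : EFun ρ} {v : 𝕍} {k : E} (h : Λ v = 1) (hk : k ≠ 0) (e : E) :
    ((tor ρ Λ v k h hk : GL (Fin n) F) : 𝕄) * ρ e
      = ρ e * ((tor ρ Λ v k h hk : GL (Fin n) F) : 𝕄) :=
  torMat_comm ρ Λ v k e

lemma tor_pow {Λ : EFun ρ} {v : 𝕍} {k : E} (h : Λ v = 1) (hk : k ≠ 0) (j : ℕ) :
    (tor ρ Λ v k h hk) ^ j = tor ρ Λ v (k ^ j) h (pow_ne_zero j hk) := by
  induction j with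
  | zero =>
    apply Units.ext
    show ((tor ρ Λ v k h hk) ^ 0 : GL (Fin n) F).1 = torMat ρ Λ v (k ^ 0)
    rw [pow_zero, pow_zero, torMat_one]; rfl
  | succ j ih =>
    apply Units.ext
    rw [pow_succ, Units.val_mul, ih]
    show torMat ρ Λ v (k ^ j) * torMat ρ Λ v k = torMat ρ Λ v (k ^ (j + 1))
    rw [torMat_mul ρ h, pow_succ]

/-! ### the centraliser of `E` -/

/-- the centraliser of `E` in `GL_n(F)` (the group `GL_{n/r}(E)`) -/
def cent : Subgroup (GL (Fin n) F) where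
  carrier := {g | ∀ e : E, (g : 𝕄) * ρ e = ρ e * (g : 𝕄)}
  mul_mem' := by
    intro a b ha hb e
    rw [Units.val_mul, Matrix.mul_assoc, hb e, ← Matrix.mul_assoc, ha e, Matrix.mul_assoc]
  one_mem' := by
    intro e
    rw [Units.val_one, one_mul, mul_one]
  inv_mem' := by
    intro a ha e
    have h1 : ((a⁻¹ : GL (Fin n) F) : 𝕄) * (a : 𝕄) = 1 := by
      rw [← Units.val_mul, inv_mul_cancel, Units.val_one]
    have h2 : (a : 𝕄) * ((a⁻¹ : GL (Fin n) F) : 𝕄) = 1 := by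
      rw [← Units.val_mul, mul_inv_cancel, Units.val_one]
    calc ((a⁻¹ : GL (Fin n) F) : 𝕄) * ρ e
        = ((a⁻¹ : GL (Fin n) F) : 𝕄) * (ρ e * ((a : 𝕄) * ((a⁻¹ : GL (Fin n) F) : 𝕄))) := by
          rw [h2, mul_one]
      _ = ((a⁻¹ : GL (Fin n) F) : 𝕄) * ((a : 𝕄) * ρ e) * ((a⁻¹ : GL (Fin n) F) : 𝕄) := by
          rw [ha e]; simp only [Matrix.mul_assoc]
      _ = ρ e * ((a⁻¹ : GL (Fin n) F) : 𝕄) := by
          rw [← Matrix.mul_assoc, h1, one_mul]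

lemma mem_cent {g : GL (Fin n) F} : g ∈ cent ρ ↔ ∀ e : E, (g : 𝕄) * ρ e = ρ e * (g : 𝕄) := Iff.rfl

lemma etv_mem_cent {Λ : EFun ρ} {v : 𝕍} (h : Λ v = 0) : etv ρ Λ v h ∈ cent ρ := etv_comm ρ h

lemma tor_mem_cent {Λ : EFun ρ} {v : 𝕍} {k : E} (h : Λ v = 1) (hk : k ≠ 0) :
    tor ρ Λ v k h hk ∈ cent ρ := tor_comm ρ h hk

lemma cent_mulVec_act {g : GL (Fin n) F} (hg : g ∈ cent ρ) (e : E) (x : 𝕍) :
    (g : 𝕄) *ᵥ act ρ e x = act ρ e ((g : 𝕄) *ᵥ x) := by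
  rw [act_def, act_def, Matrix.mulVec_mulVec, Matrix.mulVec_mulVec, hg e]

/-! ### unipotent elements of the stabiliser of an `E`-line -/

/-- the linear map `x ↦ (X (Λ x)) v`, for an `F`-linear `X : E → E` -/
def uXLin (Λ : EFun ρ) (v : 𝕍) (X : E →ₗ[F] E) : 𝕍 →ₗ[F] 𝕍 where
  toFun x := act ρ (X (Λ x)) v
  map_add' x y := by rw [Λ.map_add, X.map_add, act_add]
  map_smul' c x := by
    simp only [RingHom.id_apply]
    rw [Λ.map_fsmul, X.map_smul, act_smul]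

/-- the matrix of `x ↦ (X (Λ x)) v` -/
def uXMat (Λ : EFun ρ) (v : 𝕍) (X : E →ₗ[F] E) : 𝕄 := LinearMap.toMatrix' (uXLin ρ Λ v X)

lemma uXMat_mulVec (Λ : EFun ρ) (v : 𝕍) (X : E →ₗ[F] E) (x : 𝕍) :
    uXMat ρ Λ v X *ᵥ x = act ρ (X (Λ x)) v := by
  unfold uXMat
  rw [← Matrix.toLin'_apply, Matrix.toLin'_toMatrix']
  rfl

lemma uXMat_mul {Λ : EFun ρ} {v : 𝕍} (h : Λ v = 0) (X Y : E →ₗ[F] E) :
    uXMat ρ Λ v X * uXMat ρ Λ v Y = 0 := by
  apply mat_eq_of_mulVec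
  intro x
  rw [← Matrix.mulVec_mulVec, uXMat_mulVec, uXMat_mulVec, Λ.map_act, h, mul_zero, X.map_zero,
    act_zero, Matrix.zero_mulVec]

lemma uXMat_add (Λ : EFun ρ) (v : 𝕍) (X Y : E →ₗ[F] E) :
    uXMat ρ Λ v (X + Y) = uXMat ρ Λ v X + uXMat ρ Λ v Y := by
  apply mat_eq_of_mulVec
  intro x
  rw [Matrix.add_mulVec, uXMat_mulVec, uXMat_mulVec, uXMat_mulVec, LinearMap.add_apply, act_add]

lemma uXMat_mulLeft (Λ : EFun ρ) (v : 𝕍) (a : E) :
    uXMat ρ Λ v (LinearMap.mulLeft F a) = etvMat ρ (a • Λ) v := by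
  apply mat_eq_of_mulVec
  intro x
  rw [uXMat_mulVec, etvMat_mulVec, LinearMap.mulLeft_apply, EFun.smul_apply]

end etv

/-! ### `F`-transvections -/

/-- the matrix of `x ↦ x + (φ x) p` -/
def ftv (p : 𝕍) (φ : 𝕍 →ₗ[F] F) : 𝕄 := 1 + LinearMap.toMatrix' (φ.smulRight p)

lemma ftv_mulVec (p : 𝕍) (φ : 𝕍 →ₗ[F] F) (x : 𝕍) : ftv p φ *ᵥ x = x + φ x • p := by
  unfold ftv
  rw [Matrix.add_mulVec, Matrix.one_mulVec, ← Matrix.toLin'_apply, Matrix.toLin'_toMatrix',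
    LinearMap.smulRight_apply]

/-- `M` contains (an element with) the matrix `A` -/
def InM (M : Subgroup (GL (Fin n) F)) (A : 𝕄) : Prop := ∃ y ∈ M, (y : 𝕄) = A

/-- `M` contains a non-trivial `F`-transvection -/
def HasFTransv (M : Subgroup (GL (Fin n) F)) : Prop :=
  ∃ (p : 𝕍) (φ : 𝕍 →ₗ[F] F), p ≠ 0 ∧ φ ≠ 0 ∧ φ p = 0 ∧ InM M (ftv p φ)

/-- the functional `τ ∘ Λ` -/
def tl {ρ : E →ₐ[F] 𝕄} (τ : E →ₗ[F] F) (Λ : EFun ρ) : 𝕍 →ₗ[F] F := τ.comp Λ.toLin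

@[simp] lemma tl_apply {ρ : E →ₐ[F] 𝕄} (τ : E →ₗ[F] F) (Λ : EFun ρ) (x : 𝕍) :
    tl τ Λ x = τ (Λ x) := rfl

/-- the map `x ↦ ℓ (b x) a - ℓ (a x) b` on `E` -/
def wedge (ℓ : E →ₗ[F] F) (a b : E) : E →ₗ[F] E :=
  (ℓ.comp (LinearMap.mulLeft F b)).smulRight a - (ℓ.comp (LinearMap.mulLeft F a)).smulRight b

lemma wedge_apply (ℓ : E →ₗ[F] F) (a b x : E) :
    wedge ℓ a b x = ℓ (b * x) • a - ℓ (a * x) • b := by
  unfold wedge
  rw [LinearMap.sub_apply, LinearMap.smulRight_apply, LinearMap.smulRight_apply,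
    LinearMap.comp_apply, LinearMap.comp_apply, LinearMap.mulLeft_apply, LinearMap.mulLeft_apply]

/-- a rank-one `X : E → E` gives an `F`-transvection -/
lemma one_add_uXMat_smulRight (ρ : E →ₐ[F] 𝕄) (Λ : EFun ρ) (v : 𝕍) (ψ : E →ₗ[F] F) (s : E) :
    1 + uXMat ρ Λ v (ψ.smulRight s) = ftv (act ρ s v) (ψ.comp Λ.toLin) := by
  apply mat_eq_of_mulVec
  intro x
  rw [Matrix.add_mulVec, Matrix.one_mulVec, uXMat_mulVec, ftv_mulVec, LinearMap.smulRight_apply,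
    act_smul, LinearMap.comp_apply]

/-! ### images of subspaces -/

/-- the image of a subspace under an element of `GL` -/
def img (g : GL (Fin n) F) (W : Submodule F 𝕍) : Submodule F 𝕍 :=
  W.map (Matrix.toLin' (g : 𝕄))

lemma mem_img {g : GL (Fin n) F} {W : Submodule F 𝕍} {x : 𝕍} :
    x ∈ img g W ↔ ∃ w ∈ W, (g : 𝕄) *ᵥ w = x := by
  unfold img
  rw [Submodule.mem_map]
  simp only [Matrix.toLin'_apply]

lemma mulVec_mem_img {g : GL (Fin n) F} {W : Submodule F 𝕍} {w : 𝕍} (hw : w ∈ W) :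
    (g : 𝕄) *ᵥ w ∈ img g W := mem_img.mpr ⟨w, hw, rfl⟩

lemma mem_img_iff {g : GL (Fin n) F} {W : Submodule F 𝕍} {x : 𝕍} :
    x ∈ img g W ↔ ((g⁻¹ : GL (Fin n) F) : 𝕄) *ᵥ x ∈ W := by
  rw [mem_img]
  constructor
  · rintro ⟨w, hw, rfl⟩
    rwa [inv_mul_mulVec]
  · intro h
    exact ⟨_, h, mul_inv_mulVec g x⟩

lemma finrank_img (g : GL (Fin n) F) (W : Submodule F 𝕍) :
    Module.finrank F (img g W) = Module.finrank F W := by
  unfold img
  have hinj : Function.Injective (Matrix.toLin' (g : 𝕄)) := by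
    intro x y hxy
    rw [Matrix.toLin'_apply, Matrix.toLin'_apply] at hxy
    exact mulVec_inj g hxy
  exact (Submodule.equivMapOfInjective _ hinj W).finrank_eq.symm

end Cfsg.Agent.Lib.Helper22.C3L
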