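import Mathlib
import Cfsg.Prelude.Def_GeometricClasses
import Cfsg.Agent.Lib.Helper5.SpMax
import Cfsg.Agent.Lib.Helper22.C3LDefs

/-!
Toolkit for S5886: determinants of unipotent elements, membership of `E`-transvections and torus powers
in `cent ρ ⊓ SL`, manipulation of `InM`, the additive group `XX` of the `X` with `1 + uX X ∈ M`.
-/

set_option autoImplicit false
set_option linter.unusedSectionVars false
set_option linter.unusedVariables false
set_option linter.unusedSimpArgs false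

namespace Cfsg.Agent.Lib.Helper22.C3L
open Cfsg Matrix Polynomial Cfsg.Agent.Lib.Helper5.SpMax

variable {F : Type*} [Field F] {n : ℕ} {E : Type*} [Field E] [Algebra F E]

local notation "𝕍" => (Fin n → F)
local notation "𝕄" => Matrix (Fin n) (Fin n) F

/-- T2: `det (1 + N) = 1` for `N * N = 0` -/
theorem det_one_add_of_sq_zero (N : 𝕄) (h : N * N = 0) : (1 + N).det = 1 := by
  have hnil : IsNilpotent (-N) := ⟨2, by rw [pow_two, neg_mul_neg, h]⟩
  have h1 := Matrix.isNilpotent_charpoly_sub_pow_of_isNilpotent hnil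
  have h2 : (-N).charpoly - X ^ (Fintype.card (Fin n)) = 0 := h1.eq_zero
  have h3 : (-N).charpoly = X ^ (Fintype.card (Fin n)) := sub_eq_zero.mp h2
  have h4 := Matrix.eval_charpoly (-N) (1 : F)
  rw [h3, eval_pow, eval_X, one_pow] at h4
  rw [h4]
  congr 1
  simp [sub_neg_eq_add]

theorem mem_SL_iff (g : GL (Fin n) F) :
    g ∈ Cfsg.Geo.specialLinear (Fin n) F ↔ (g : 𝕄).det = 1 := by
  unfold Cfsg.Geo.specialLinear
  rw [MonoidHom.mem_ker]
  constructor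
  · intro h
    have := congrArg Units.val h
    rwa [Matrix.GeneralLinearGroup.val_det_apply, Units.val_one] at this
  · intro h
    apply Units.ext
    rw [Matrix.GeneralLinearGroup.val_det_apply, Units.val_one]
    exact h

lemma unip_mem_SL (N : 𝕄) (h : N * N = 0) : unip N h ∈ Cfsg.Geo.specialLinear (Fin n) F := by
  rw [mem_SL_iff, unip_val]
  exact det_one_add_of_sq_zero N h

section
variable (ρ : E →ₐ[F] Matrix (Fin n) (Fin n) F)

lemma etv_mem {Λ : EFun ρ} {v : 𝕍} (h : Λ v = 0) :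
    etv ρ Λ v h ∈ cent ρ ⊓ Cfsg.Geo.specialLinear (Fin n) F :=
  ⟨etv_mem_cent ρ h, unip_mem_SL _ _⟩

lemma etv_val {Λ : EFun ρ} {v : 𝕍} (h : Λ v = 0) :
    ((etv ρ Λ v h : GL (Fin n) F) : 𝕄) = 1 + etvMat ρ Λ v := rfl

/-- the torus element for a `(q-1)`-th power has determinant one -/
lemma tor_pow_card_mem [Fintype F] {Λ : EFun ρ} {v : 𝕍} {c : E} (h : Λ v = 1) (hc : c ≠ 0) :
    tor ρ Λ v (c ^ (Fintype.card F - 1)) h (pow_ne_zero _ hc)
      ∈ cent ρ ⊓ Cfsg.Geo.specialLinear (Fin n) F := by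
  refine ⟨tor_mem_cent ρ h _, ?_⟩
  rw [← tor_pow ρ h hc]
  show tor ρ Λ v c h hc ^ (Fintype.card F - 1) ∈ (Matrix.GeneralLinearGroup.det : GL (Fin n) F →* Fˣ).ker
  rw [MonoidHom.mem_ker, map_pow]
  classical
  have : Fintype.card Fˣ = Fintype.card F - 1 := Fintype.card_units F
  rw [← this]
  exact pow_card_eq_one

lemma uXMat_zero (Λ : EFun ρ) (v : 𝕍) : uXMat ρ Λ v 0 = 0 := by
  apply mat_eq_of_mulVec
  intro x
  rw [uXMat_mulVec, LinearMap.zero_apply, act_zero, Matrix.zero_mulVec]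

lemma uXMat_neg (Λ : EFun ρ) (v : 𝕍) (X : E →ₗ[F] E) : uXMat ρ Λ v (-X) = - uXMat ρ Λ v X := by
  apply mat_eq_of_mulVec
  intro x
  rw [Matrix.neg_mulVec, uXMat_mulVec, uXMat_mulVec, LinearMap.neg_apply, act_neg]

end

/-! ### `InM` -/

lemma InM_one (M : Subgroup (GL (Fin n) F)) : InM M (1 : 𝕄) := ⟨1, M.one_mem, rfl⟩

lemma InM_of_mem {M : Subgroup (GL (Fin n) F)} {g : GL (Fin n) F} (hg : g ∈ M) :
    InM M (g : 𝕄) := ⟨g, hg, rfl⟩

lemma InM_mul {M : Subgroup (GL (Fin n) F)} {A B : 𝕄} (hA : InM M A) (hB : InM M B) :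
    InM M (A * B) := by
  obtain ⟨y, hy, rfl⟩ := hA
  obtain ⟨z, hz, rfl⟩ := hB
  exact ⟨y * z, M.mul_mem hy hz, Units.val_mul y z⟩

/-- if `A ∈ M` and `A * B = 1` then `B ∈ M` -/
lemma InM_inv {M : Subgroup (GL (Fin n) F)} {A B : 𝕄} (hA : InM M A) (hAB : A * B = 1) :
    InM M B := by
  obtain ⟨y, hy, rfl⟩ := hA
  exact ⟨y⁻¹, M.inv_mem hy, Units.inv_eq_of_mul_eq_one_right hAB⟩

/-- conjugation -/
lemma InM_conj {M : Subgroup (GL (Fin n) F)} {A : 𝕄} (hA : InM M A) {g : GL (Fin n) F}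
    (hg : g ∈ M) : InM M ((g : 𝕄) * A * ((g⁻¹ : GL (Fin n) F) : 𝕄)) := by
  obtain ⟨y, hy, rfl⟩ := hA
  exact ⟨g * y * g⁻¹, M.mul_mem (M.mul_mem hg hy) (M.inv_mem hg), by
    rw [Units.val_mul, Units.val_mul]⟩

/-! ### `F`-transvections -/

lemma ftv_zero_left (φ : 𝕍 →ₗ[F] F) : ftv (0 : 𝕍) φ = 1 := by
  apply mat_eq_of_mulVec
  intro x
  rw [ftv_mulVec, smul_zero, add_zero, Matrix.one_mulVec]

lemma ftv_zero_right (p : 𝕍) : ftv p (0 : 𝕍 →ₗ[F] F) = 1 := by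
  apply mat_eq_of_mulVec
  intro x
  rw [ftv_mulVec, LinearMap.zero_apply, zero_smul, add_zero, Matrix.one_mulVec]

lemma ftv_mul_ftv (p : 𝕍) (φ ψ : 𝕍 →ₗ[F] F) (h : φ p = 0) :
    ftv p φ * ftv p ψ = ftv p (φ + ψ) := by
  apply mat_eq_of_mulVec
  intro x
  rw [← Matrix.mulVec_mulVec, ftv_mulVec, ftv_mulVec, ftv_mulVec, map_add, map_smul, h,
    LinearMap.add_apply, add_smul]
  simp only [smul_eq_mul, mul_zero, zero_smul, add_zero]
  rw [add_assoc, add_comm (ψ x • p)]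
  rw [add_smul]

lemma ftv_mul_neg (p : 𝕍) (φ : 𝕍 →ₗ[F] F) (h : φ p = 0) : ftv p φ * ftv p (-φ) = 1 := by
  rw [ftv_mul_ftv p φ (-φ) h, add_neg_cancel, ftv_zero_right]

/-- conjugating an `F`-transvection -/
lemma conj_ftv (g : GL (Fin n) F) (p : 𝕍) (φ : 𝕍 →ₗ[F] F) :
    (g : 𝕄) * ftv p φ * ((g⁻¹ : GL (Fin n) F) : 𝕄)
      = ftv ((g : 𝕄) *ᵥ p) (φ.comp (Matrix.toLin' ((g⁻¹ : GL (Fin n) F) : 𝕄))) := by
  apply mat_eq_of_mulVec
  intro x
  rw [← Matrix.mulVec_mulVec, ← Matrix.mulVec_mulVec, ftv_mulVec, ftv_mulVec, Matrix.mulVec_add,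
    mul_inv_mulVec, Matrix.mulVec_smul, LinearMap.comp_apply, Matrix.toLin'_apply]

/-! ### the additive group `XX` -/

/-- the additive group of the `X ∈ End_F(E)` with `1 + uX X ∈ M` (for `Λ v = 0`) -/
def XX (ρ : E →ₐ[F] Matrix (Fin n) (Fin n) F) (M : Subgroup (GL (Fin n) F)) (Λ : EFun ρ) (v : 𝕍)
    (h : Λ v = 0) : AddSubgroup (E →ₗ[F] E) where
  carrier := {X | InM M (1 + uXMat ρ Λ v X)}
  zero_mem' := by
    show InM M (1 + uXMat ρ Λ v 0)
    rw [uXMat_zero, add_zero]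
    exact InM_one M
  add_mem' := by
    intro X Y hX hY
    show InM M (1 + uXMat ρ Λ v (X + Y))
    have := InM_mul hX hY
    rwa [add_mul, mul_add, mul_add, one_mul, mul_one, one_mul, uXMat_mul ρ h, add_zero, add_assoc,
      ← uXMat_add, add_comm Y X] at this
  neg_mem' := by
    intro X hX
    show InM M (1 + uXMat ρ Λ v (-X))
    apply InM_inv hX
    rw [uXMat_neg, add_mul, mul_add, mul_add, one_mul, mul_one, one_mul, Matrix.mul_neg,
      uXMat_mul ρ h, neg_zero, add_zero]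
    abel

lemma mem_XX {ρ : E →ₐ[F] Matrix (Fin n) (Fin n) F} {M : Subgroup (GL (Fin n) F)} {Λ : EFun ρ}
    {v : 𝕍} {h : Λ v = 0} {X : E →ₗ[F] E} : X ∈ XX ρ M Λ v h ↔ InM M (1 + uXMat ρ Λ v X) :=
  Iff.rfl

end Cfsg.Agent.Lib.Helper22.C3L
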