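import Mathlib
import Cfsg.Agent.Lib.Helper11.Om2Tools

/-! helper22: S2146 market "OM2", leaves T1 / T2 in `_of` form (the leaf GA `exists_sing_cond` enters as the
hypothesis `GA S`); the exact leaves are in `Om2T1`, `Om2T2`. -/

set_option autoImplicit false

open Cfsg.Agent.Lib.Helper11.Om2 MulAction
open scoped Pointwise

namespace Cfsg.Agent.Lib.Helper22.Om2TOf

variable {F V G : Type*} [Field F] [AddCommGroup V] [Module F V] [Group G] [DistribMulAction G V]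
  (S : Setting F V G)

/-- the statement of leaf GA (affine quadric) -/
def GA : Prop :=
  ∀ {m : ℕ}, Nat.card V = 2 ^ (2 * m) → ∀ {r : ℕ}, r < m → ∀ (v : Fin r → V) (y0 : V),
    ∃ y, S.Q y = 0 ∧ ∀ i, S.B y (v i) = S.B y0 (v i)

/-- two non-zero vectors have a common non-perpendicular vector -/
theorem exists_B_one_one {x y : V} (hx0 : x ≠ 0) (hy0 : y ≠ 0) :
    ∃ y0, S.B y0 x = 1 ∧ S.B y0 y = 1 := by
  obtain ⟨a, ha⟩ := S.exists_B_eq_one hx0
  obtain ⟨b, hb⟩ := S.exists_B_eq_one hy0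
  rcases S.h01 (S.B a y) with h1 | h1
  · rcases S.h01 (S.B b x) with h2 | h2
    · refine ⟨a + b, ?_, ?_⟩
      · rw [S.Badd_left, ha, h2, add_zero]
      · rw [S.Badd_left, h1, hb, zero_add]
    · exact ⟨b, h2, hb⟩
  · exact ⟨a, ha, h1⟩

/-- T1, over GA -/
theorem exists_smul_eq_of_sing_of (hGA : GA S) {m : ℕ} (hV : Nat.card V = 2 ^ (2 * m)) (hm : 4 ≤ m)
    {x y : V} (hx0 : x ≠ 0) (hy0 : y ≠ 0) (hx : S.Q x = 0) (hy : S.Q y = 0) :
    ∃ g : G, g • x = y := by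
  obtain ⟨y0, h1, h2⟩ := exists_B_one_one S hx0 hy0
  obtain ⟨u, hu, huv⟩ := hGA hV (show 2 < m by omega) ![x, y] y0
  have hux : S.B u x = 1 := by
    have := huv 0
    simpa [h1] using this
  have huy : S.B u y = 1 := by
    have := huv 1
    simpa [h2] using this
  exact ⟨S.sg u (x + y), S.sg_trans hu (by rw [hx, hy]) hux huy⟩

/-- a vector of `x^⊥` outside `{0, x}` is not perpendicular to all of `x^⊥` -/
theorem exists_perp_B_one {x w : V} (hw0 : w ≠ 0) (hwx : w ≠ x) :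
    ∃ a, S.B x a = 0 ∧ S.B a w = 1 := by
  by_contra hcon
  push Not at hcon
  have h : ∀ z, S.B x z = 0 → S.B z w = 0 := by
    intro z hz
    exact S.eq_zero_of_ne_one (hcon z hz)
  rcases S.eq_zero_or_eq_of_perp h with h0 | h0
  · exact hw0 h0
  · exact hwx h0

/-- T2, over GA -/
theorem exists_stab_smul_eq_of (hGA : GA S) {m : ℕ} (hV : Nat.card V = 2 ^ (2 * m)) (hm : 4 ≤ m)
    {x w w' : V} (_hx0 : x ≠ 0) (_hx : S.Q x = 0) (hw : S.B x w = 0) (hw' : S.B x w' = 0)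
    (hw0 : w ≠ 0) (hwx : w ≠ x) (hw0' : w' ≠ 0) (hwx' : w' ≠ x) (hQ : S.Q w = S.Q w') :
    ∃ p : G, p • x = x ∧ p • w = w' := by
  -- a vector `y0 ⊥ x` with `B y0 w = 1 = B y0 w'`
  obtain ⟨y0, hy0x, hy0w, hy0w'⟩ : ∃ y0, S.B x y0 = 0 ∧ S.B y0 w = 1 ∧ S.B y0 w' = 1 := by
    obtain ⟨a, hax, haw⟩ := exists_perp_B_one S hw0 hwx
    obtain ⟨b, hbx, hbw'⟩ := exists_perp_B_one S hw0' hwx'
    rcases S.h01 (S.B a w') with h1 | h1
    · rcases S.h01 (S.B b w) with h2 | h2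
      · refine ⟨a + b, ?_, ?_, ?_⟩
        · rw [S.Badd_right, hax, hbx, add_zero]
        · rw [S.Badd_left, haw, h2, add_zero]
        · rw [S.Badd_left, h1, hbw', zero_add]
      · exact ⟨b, hbx, h2, hbw'⟩
    · exact ⟨a, hax, haw, h1⟩
  obtain ⟨u, hu, huv⟩ := hGA hV (show 3 < m by omega) ![x, w, w'] y0
  have hux : S.B u x = 0 := by
    have := huv 0
    have e : S.B y0 x = 0 := by rw [S.B_symm]; exact hy0x
    simpa [e] using this
  have huw : S.B u w = 1 := by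
    have := huv 1
    simpa [hy0w] using this
  have huw' : S.B u w' = 1 := by
    have := huv 2
    simpa [hy0w'] using this
  have hs : S.B u (w + w') = 0 := by rw [S.Badd_right, huw, huw', S.one_add_one]
  refine ⟨S.sg u (w + w'), ?_, S.sg_trans hu hQ huw huw'⟩
  apply S.sg_smul_of_perp_perp hu hs hux
  rw [S.Badd_left, S.B_symm w x, S.B_symm w' x, hw, hw', add_zero]

end Cfsg.Agent.Lib.Helper22.Om2TOf
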