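import Mathlib
import Cfsg.Agent.Lib.Helper11.Om2Tools
import Cfsg.Agent.Lib.Helper15.Om2GA
import Cfsg.Agent.Lib.Helper22.Om2TOf

/-! helper22: S2146 market "OM2", leaves T1 `exists_smul_eq_of_sing` and T2 `exists_stab_smul_eq` (exact statements;
proofs in `Om2TOf`, over helper15's GA `exists_sing_cond`). -/

set_option autoImplicit false

open Cfsg.Agent.Lib.Helper11.Om2 MulAction
open scoped Pointwise

namespace Cfsg.Agent.Lib.Helper22.Om2Leaf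

variable {F V G : Type*} [Field F] [AddCommGroup V] [Module F V] [Group G] [DistribMulAction G V]
  (S : Setting F V G)

/-- T1 -/
theorem exists_smul_eq_of_sing [Finite V] {m : ℕ} (hV : Nat.card V = 2 ^ (2 * m)) (hm : 4 ≤ m)
    {x y : V} (hx0 : x ≠ 0) (hy0 : y ≠ 0) (hx : S.Q x = 0) (hy : S.Q y = 0) :
    ∃ g : G, g • x = y :=
  Cfsg.Agent.Lib.Helper22.Om2TOf.exists_smul_eq_of_sing_of S
    (fun {_} hV {_} hr v y0 => Cfsg.Agent.Lib.Helper15.Om2Leaf.exists_sing_cond S hV hr v y0)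
    hV hm hx0 hy0 hx hy

/-- T2 -/
theorem exists_stab_smul_eq [Finite V] {m : ℕ} (hV : Nat.card V = 2 ^ (2 * m)) (hm : 4 ≤ m)
    {x w w' : V} (hx0 : x ≠ 0) (hx : S.Q x = 0) (hw : S.B x w = 0) (hw' : S.B x w' = 0)
    (hw0 : w ≠ 0) (hwx : w ≠ x) (hw0' : w' ≠ 0) (hwx' : w' ≠ x) (hQ : S.Q w = S.Q w') :
    ∃ p : G, p • x = x ∧ p • w = w' :=
  Cfsg.Agent.Lib.Helper22.Om2TOf.exists_stab_smul_eq_of S
    (fun {_} hV {_} hr v y0 => Cfsg.Agent.Lib.Helper15.Om2Leaf.exists_sing_cond S hV hr v y0)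
    hV hm hx0 hx hw hw' hw0 hwx hw0' hwx' hQ

end Cfsg.Agent.Lib.Helper22.Om2Leaf
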