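import Mathlib
import Cfsg.Agent.Lib.Helper11.Om2Tools

/-! helper22: S2146 market "OM2", leaves OL0a / OL0b in `_of` form (the leaf QR `relIndex_Qs` enters as the
hypothesis `QR S`); the exact leaves are in `Om2OL0`. -/

set_option autoImplicit false

open Cfsg.Agent.Lib.Helper11.Om2 MulAction Cfsg.Agent.Lib.Helper1.Sp2Leaf
open scoped Pointwise

namespace Cfsg.Agent.Lib.Helper22.Om2OL0Of

variable {F V G : Type*} [Field F] [AddCommGroup V] [Module F V] [Group G] [DistribMulAction G V]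
  (S : Setting F V G)

/-- the statement of leaf QR -/
def QR : Prop :=
  ∀ (H : Subgroup G) {x : V} (_ : x ≠ 0) (hx : S.Q x = 0),
    2 * (H.relIndex (S.Qs hx) * Nat.card (S.Dt H hx)) = Nat.card V

/-- `D̃_x = {0, x}` has two elements -/
theorem card_Dt_eq_two (H : Subgroup G) {x : V} (hx0 : x ≠ 0) (hx : S.Q x = 0)
    (hD : ∀ w, S.B x w = 0 → S.sg x w ∈ H → w = 0 ∨ w = x) : Nat.card (S.Dt H hx) = 2 := by
  rw [Nat.card_eq_two_iff]
  refine ⟨0, ⟨x, S.self_mem_Dt H hx⟩, ?_, ?_⟩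
  · intro h
    apply hx0
    have := congrArg Subtype.val h
    exact this.symm
  · ext ⟨w, hw⟩
    simp only [Set.mem_univ, Set.mem_insert_iff, Set.mem_singleton_iff, iff_true]
    rcases hD w hw.1 hw.2 with h | h
    · left; exact Subtype.ext h
    · right; exact Subtype.ext h

/-- `|Q_x : H ∩ Q_x| = 2^(2m-2)` when `D̃_x = {0, x}` -/
theorem relIndex_Qs_eq (hQR : QR S) {m : ℕ} (hV : Nat.card V = 2 ^ (2 * m))
    (hm : 1 ≤ m) (H : Subgroup G) {x : V} (hx0 : x ≠ 0) (hx : S.Q x = 0)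
    (hD : ∀ w, S.B x w = 0 → S.sg x w ∈ H → w = 0 ∨ w = x) :
    H.relIndex (S.Qs hx) = 2 ^ (2 * m - 2) := by
  have h1 := hQR H hx0 hx
  rw [card_Dt_eq_two S H hx0 hx hD, hV] at h1
  have h2 : 2 ^ (2 * m) = 4 * 2 ^ (2 * m - 2) := by
    have : 2 * m = (2 * m - 2) + 2 := by omega
    conv_lhs => rw [this, pow_add]
    ring
  rw [h2] at h1
  omega

/-- `|Q_x : H ∩ Q_x| ≤ |G_x : H ∩ G_x|` -/
theorem relIndex_Qs_le [Finite G] (H : Subgroup G) {x : V} (hx : S.Q x = 0) :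
    H.relIndex (S.Qs hx) ≤ H.relIndex (stabilizer G x) := by
  have key := relIndex_mul_relIndex_le (stabilizer G x) (stabilizer G x)
    (H ⊓ stabilizer G x) (S.Qs hx) inf_le_right (S.Qs_le_stabilizer hx) le_rfl
    (inf_le_right.trans (S.stabilizer_le_normalizer_Qs hx))
  rwa [Subgroup.relIndex_self, one_mul, Subgroup.inf_relIndex_right,
    Setting.inf_relIndex_of_le _ _ _ (S.Qs_le_stabilizer hx)] at key

/-- OL0b, over QR -/
theorem relIndex_ge_of_isA_of [Finite G] (hQR : QR S) {m : ℕ}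
    (hV : Nat.card V = 2 ^ (2 * m))
    (hm : 1 ≤ m) (H : Subgroup G) {x : V} (hA : S.IsA H x) :
    2 ^ (2 * m - 2) ≤ H.relIndex (stabilizer G x) := by
  obtain ⟨hx0, hx, hD, -⟩ := hA
  rw [← relIndex_Qs_eq S hQR hV hm H hx0 hx hD]
  exact relIndex_Qs_le S H hx

/-- OL0a, over QR -/
theorem isA_or_of_Dt_trivial_of [Finite G] (hQR : QR S) {m : ℕ}
    (hV : Nat.card V = 2 ^ (2 * m))
    (hm : 1 ≤ m) (H : Subgroup G) {x : V} (hx0 : x ≠ 0) (hx : S.Q x = 0)
    (hD : ∀ w, S.B x w = 0 → S.sg x w ∈ H → w = 0 ∨ w = x) :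
    S.IsA H x ∨ 2 ^ (2 * m - 1) ≤ H.relIndex (stabilizer G x) := by
  have hnorm : H ⊓ stabilizer G x ≤ Subgroup.normalizer (S.Qs hx : Set G) :=
    inf_le_right.trans (S.stabilizer_le_normalizer_Qs hx)
  by_cases hSt : stabilizer G x ≤ (H ⊓ stabilizer G x) ⊔ S.Qs hx
  · left
    refine ⟨hx0, hx, hD, fun g hg => ?_⟩
    have hg' : g ∈ ((H ⊓ stabilizer G x) ⊔ S.Qs hx : Subgroup G) := hSt hg
    rw [← SetLike.mem_coe, Subgroup.coe_mul_of_left_le_normalizer_right _ _ hnorm] at hg'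
    obtain ⟨h, hh, q, hq, rfl⟩ := hg'
    obtain ⟨w, hw, rfl⟩ := hq
    refine ⟨w, hw, ?_⟩
    rw [mul_assoc, S.sg_mul_self hx hw, mul_one]
    exact hh.1
  · right
    have hStK : (H ⊓ stabilizer G x) ⊔ S.Qs hx ≤ stabilizer G x :=
      sup_le inf_le_right (S.Qs_le_stabilizer hx)
    have key := relIndex_mul_relIndex_le (stabilizer G x) ((H ⊓ stabilizer G x) ⊔ S.Qs hx)
      (H ⊓ stabilizer G x) (S.Qs hx) le_sup_left le_sup_right hStK hnorm
    rw [Subgroup.inf_relIndex_right, Setting.inf_relIndex_of_le _ _ _ (S.Qs_le_stabilizer hx),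
      relIndex_Qs_eq S hQR hV hm H hx0 hx hD] at key
    have h2 : 2 ≤ ((H ⊓ stabilizer G x) ⊔ S.Qs hx).relIndex (stabilizer G x) := by
      have h0 : ((H ⊓ stabilizer G x) ⊔ S.Qs hx).relIndex (stabilizer G x) ≠ 0 := by
        rw [Subgroup.relIndex]; exact Subgroup.index_ne_zero_of_finite
      have h1 : ((H ⊓ stabilizer G x) ⊔ S.Qs hx).relIndex (stabilizer G x) ≠ 1 := by
        intro h
        exact hSt (Subgroup.relIndex_eq_one.mp h)
      omega
    have h3 : 2 ^ (2 * m - 1) = 2 * 2 ^ (2 * m - 2) := by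
      have : 2 * m - 1 = (2 * m - 2) + 1 := by omega
      rw [this, pow_succ]
      ring
    rw [h3]
    calc 2 * 2 ^ (2 * m - 2)
        ≤ ((H ⊓ stabilizer G x) ⊔ S.Qs hx).relIndex (stabilizer G x) * 2 ^ (2 * m - 2) :=
          Nat.mul_le_mul_right _ h2
      _ ≤ H.relIndex (stabilizer G x) := key

end Cfsg.Agent.Lib.Helper22.Om2OL0Of
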