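import Mathlib
import Cfsg.Agent.Lib.Helper11.Om2Tools
import Cfsg.Agent.Lib.Helper22.Om2OL0Of

/-! helper22: S2146 market "OM2", leaf OL1 in `_of` form: the leaves QR (`relIndex_Qs`), COV (`covering`, at `ι = Unit`) and
GC (`card_type_zero/one`, as a lower bound) enter as hypotheses; the exact leaf is in `Om2OL1`. -/

set_option autoImplicit false

open Cfsg.Agent.Lib.Helper11.Om2 MulAction Cfsg.Agent.Lib.Helper1.Sp2Leaf
open scoped Pointwise

namespace Cfsg.Agent.Lib.Helper22.Om2OL1Of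

open Cfsg.Agent.Lib.Helper22.Om2OL0Of

variable {F V G : Type*} [Field F] [AddCommGroup V] [Module F V] [Group G] [DistribMulAction G V]
  (S : Setting F V G)

/-- the statement of leaf COV for a single translate (`ι = Unit`, `g = 1`) -/
def COV1 : Prop :=
  ∀ {x : V} (_ : x ≠ 0) (_ : S.Q x = 0) (U : Submodule F V) (_ : x ∈ U)
    (_ : ∀ u ∈ U, S.B x u = 0) {u0 : V} (_ : u0 ∈ U) (_ : u0 ≠ 0) (_ : u0 ≠ x),
    Nat.card {w : V // S.B x w = 0 ∧ w ≠ 0 ∧ w ≠ x ∧ S.Q w = S.Q u0} ≤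
      Nat.card {w : V // w ∈ U ∧ w ≠ 0 ∧ w ≠ x ∧ S.Q w = S.Q u0} *
        (stabilizer G (U : Set V)).relIndex (stabilizer G x)

/-- the lower bound from leaves GC0 / GC1 -/
def GCge (m : ℕ) : Prop :=
  ∀ {x : V} (_ : x ≠ 0) (_ : S.Q x = 0) (a : F),
    2 ^ (2 * m - 2) - 2 ^ (m - 1) ≤ Nat.card {w : V // S.B x w = 0 ∧ w ≠ 0 ∧ w ≠ x ∧ S.Q w = a}

/-- the arithmetic: `a = 2^(m-1)`, `c = |D̃|`, `R = |Q_x : H ∩ Q_x|`, `t`, `o` -/
theorem arith (a c R t o n : ℕ) (ha : 4 ≤ a) (hc4 : 4 ≤ c) (hca : c ≤ a) (hR : 2 * (R * c) = 4 * a ^ 2)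
    (hn : a ^ 2 - a ≤ n) (ht : n ≤ (c - 2) * t) (ho : t * R ≤ o) : a * (2 * a - 1) ≤ o := by
  have hR2 : R * c = 2 * a ^ 2 := by omega
  have hRa : 2 * a ≤ R := by
    have h1 : R * c ≤ R * a := Nat.mul_le_mul_left R hca
    have h2 : 2 * a * a ≤ R * a := by nlinarith
    exact Nat.le_of_mul_le_mul_right h2 (by omega)
  obtain ⟨c', rfl⟩ : ∃ c', c = c' + 2 := ⟨c - 2, by omega⟩
  have e1 : c' + 2 - 2 = c' := by omega
  rw [e1] at ht
  have hc' : 0 < c' := by omega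
  have hn' : a * (a - 1) ≤ n := by
    have : a * (a - 1) = a ^ 2 - a := by
      rw [Nat.mul_sub, mul_one, sq]
    omega
  -- `o * c' ≥ t * R * c' = R * (c' * t) ≥ R * n ≥ 2a · a (a - 1)`
  have h1 : 2 * a * (a * (a - 1)) ≤ o * c' := by
    calc 2 * a * (a * (a - 1)) ≤ R * n := Nat.mul_le_mul hRa hn'
      _ ≤ R * (c' * t) := Nat.mul_le_mul_left R ht
      _ = t * R * c' := by ring
      _ ≤ o * c' := Nat.mul_le_mul_right c' ho
  -- `M * c' ≤ a (2a - 1)(a - 2) ≤ 2a · a (a - 1)`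
  have h2 : a * (2 * a - 1) * c' ≤ 2 * a * (a * (a - 1)) := by
    have hc'a : c' ≤ a - 2 := by omega
    obtain ⟨b, rfl⟩ : ∃ b, a = b + 2 := ⟨a - 2, by omega⟩
    have e2 : b + 2 - 2 = b := by omega
    have e3 : b + 2 - 1 = b + 1 := by omega
    have e4 : 2 * (b + 2) - 1 = 2 * b + 3 := by omega
    rw [e2] at hc'a
    rw [e3, e4]
    calc (b + 2) * (2 * b + 3) * c' ≤ (b + 2) * (2 * b + 3) * b := Nat.mul_le_mul_left _ hc'a
      _ ≤ 2 * (b + 2) * ((b + 2) * (b + 1)) := by nlinarith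
  have h3 : a * (2 * a - 1) * c' ≤ o * c' := h2.trans h1
  exact Nat.le_of_mul_le_mul_right h3 hc'

/-- OL1, over QR, COV (one translate) and GC -/
theorem relIndex_ge_of_small_of [Finite V] [Finite G] {m : ℕ} (hQR : QR S) (hCOV : COV1 S)
    (hGC : GCge S m) (hV : Nat.card V = 2 ^ (2 * m)) (hm : 4 ≤ m)
    (H : Subgroup G) {x : V} (hx0 : x ≠ 0) (hx : S.Q x = 0)
    (h1 : 4 ≤ Nat.card (S.Dt H hx)) (h2 : Nat.card (S.Dt H hx) ≤ 2 ^ (m - 1)) :
    2 ^ (m - 1) * (2 ^ m - 1) ≤ H.relIndex (stabilizer G x) := by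
  classical
  set U : Submodule F V := S.Dt H hx with hUdef
  have hxU : x ∈ U := S.self_mem_Dt H hx
  have hUp : ∀ u ∈ U, S.B x u = 0 := S.Dt_le_perp hx
  have hinv : ∀ p ∈ H, p • x = x → ∀ u ∈ U, p • u ∈ U :=
    fun p hp hpx u hu => S.smul_mem_Dt hx hp hpx hu
  -- an element of `U` other than `0`, `x`
  obtain ⟨u0, hu0U, hu00, hu0x⟩ : ∃ u0 ∈ U, u0 ≠ 0 ∧ u0 ≠ x := by
    by_contra hcon
    push Not at hcon
    have hle : Nat.card U ≤ 2 := by
      have : Finite U := inferInstance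
      have hsub : ∀ u : U, u = 0 ∨ u = ⟨x, hxU⟩ := by
        intro u
        by_cases h0 : (u : V) = 0
        · left; exact Subtype.ext h0
        · right; exact Subtype.ext (hcon u.1 u.2 h0)
      have hfin : (Set.univ : Set U) ⊆ {0, ⟨x, hxU⟩} := by
        intro u _
        rcases hsub u with h | h
        · simp [h]
        · simp [h]
      calc Nat.card U = Nat.card (Set.univ : Set U) := (Nat.card_univ).symm
        _ ≤ Nat.card ({0, ⟨x, hxU⟩} : Set U) := Nat.card_mono (Set.toFinite _) hfin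
        _ ≤ 2 := by
          rw [Nat.card_coe_set_eq]
          have := Set.ncard_insert_le (0 : U) ({⟨x, hxU⟩} : Set U)
          rw [Set.ncard_singleton] at this
          exact this
    omega
  -- the three inputs
  have hSB := S.stab_bound H hx U hxU hUp hinv
  have hqr := hQR H hx0 hx
  have hcov := hCOV hx0 hx U hxU hUp hu0U hu00 hu0x
  have hgc := hGC hx0 hx (S.Q u0)
  -- the translate count is at most `|U| - 2`
  have hle : Nat.card {w : V // w ∈ U ∧ w ≠ 0 ∧ w ≠ x ∧ S.Q w = S.Q u0} + 2 ≤ Nat.card U := by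
    have : Finite U := inferInstance
    let T : Set U := {u | (u : V) ≠ 0 ∧ (u : V) ≠ x}
    have h3 : Nat.card {w : V // w ∈ U ∧ w ≠ 0 ∧ w ≠ x ∧ S.Q w = S.Q u0} ≤ Nat.card T := by
      apply Nat.card_le_card_of_injective
        (fun w : {w : V // w ∈ U ∧ w ≠ 0 ∧ w ≠ x ∧ S.Q w = S.Q u0} =>
          (⟨⟨w.1, w.2.1⟩, w.2.2.1, w.2.2.2.1⟩ : T))
      intro w w' h
      have := congrArg (fun t : T => ((t : U) : V)) h
      exact Subtype.ext this
    have h4 : Nat.card T + 2 ≤ Nat.card U := by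
      have hT : T = (Set.univ : Set U) \ {0, ⟨x, hxU⟩} := by
        ext u
        simp only [T, Set.mem_ofPred_eq, Set.mem_sdiff, Set.mem_univ, Set.mem_insert_iff,
          Set.mem_singleton_iff, true_and, not_or]
        constructor
        · rintro ⟨h0, hx'⟩
          exact ⟨fun h => h0 (by rw [h]; rfl), fun h => hx' (by rw [h])⟩
        · rintro ⟨h0, hx'⟩
          exact ⟨fun h => h0 (Subtype.ext h), fun h => hx' (Subtype.ext h)⟩
      have hpair : ({0, ⟨x, hxU⟩} : Set U).ncard = 2 := by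
        apply Set.ncard_pair
        intro h
        exact hx0 (congrArg Subtype.val h).symm
      rw [Nat.card_coe_set_eq, hT, Set.ncard_sdiff (Set.subset_univ _) (Set.toFinite _), hpair,
        Set.ncard_univ]
      have : 2 ≤ Nat.card U := by omega
      omega
    omega
  -- arithmetic
  set a : ℕ := 2 ^ (m - 1) with hadef
  have ha4 : 4 ≤ a := by
    have : 2 ^ 2 ≤ 2 ^ (m - 1) := Nat.pow_le_pow_right (by norm_num) (by omega)
    simpa using this
  have e1 : 2 ^ (2 * m) = 4 * a ^ 2 := by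
    rw [hadef, ← pow_mul]
    have : 2 * m = (m - 1) * 2 + 2 := by omega
    rw [this, pow_add]
    ring
  have e2 : 2 ^ (2 * m - 2) = a ^ 2 := by
    rw [hadef, ← pow_mul]
    congr 1
    omega
  have e3 : 2 ^ m = 2 * a := by
    rw [hadef]
    have : m = (m - 1) + 1 := by omega
    conv_lhs => rw [this, pow_succ]
    ring
  rw [e3]
  rw [hV, e1] at hqr
  rw [e2] at hgc
  refine arith a (Nat.card U) (H.relIndex (S.Qs hx))
    ((stabilizer G (U : Set V)).relIndex (stabilizer G x)) _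
    (Nat.card {w : V // S.B x w = 0 ∧ w ≠ 0 ∧ w ≠ x ∧ S.Q w = S.Q u0}) ha4 h1 h2 hqr hgc ?_ hSB
  calc Nat.card {w : V // S.B x w = 0 ∧ w ≠ 0 ∧ w ≠ x ∧ S.Q w = S.Q u0}
      ≤ Nat.card {w : V // w ∈ U ∧ w ≠ 0 ∧ w ≠ x ∧ S.Q w = S.Q u0} *
        (stabilizer G (U : Set V)).relIndex (stabilizer G x) := hcov
    _ ≤ (Nat.card U - 2) * (stabilizer G (U : Set V)).relIndex (stabilizer G x) :=
        Nat.mul_le_mul_right _ (by omega)

end Cfsg.Agent.Lib.Helper22.Om2OL1Of
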