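import Mathlib
import Cfsg.Agent.Lib.Helper11.Om2Tools
import Cfsg.Agent.Lib.Helper12.Om2QR
import Cfsg.Agent.Lib.Helper22.Om2OL0Of

/-! helper22: S2146 market "OM2", leaves OL0a `isA_or_of_Dt_trivial` and OL0b `relIndex_ge_of_isA` (exact statements;
proofs in `Om2OL0Of`, over helper12's QR `relIndex_Qs`). -/

set_option autoImplicit false

open Cfsg.Agent.Lib.Helper11.Om2 MulAction
open scoped Pointwise

namespace Cfsg.Agent.Lib.Helper22.Om2Leaf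

variable {F V G : Type*} [Field F] [AddCommGroup V] [Module F V] [Group G] [DistribMulAction G V]
  (S : Setting F V G)

/-- OL0a -/
theorem isA_or_of_Dt_trivial [Finite V] [Finite G] {m : ℕ} (hV : Nat.card V = 2 ^ (2 * m))
    (hm : 1 ≤ m) (H : Subgroup G) {x : V} (hx0 : x ≠ 0) (hx : S.Q x = 0)
    (hD : ∀ w, S.B x w = 0 → S.sg x w ∈ H → w = 0 ∨ w = x) :
    S.IsA H x ∨ 2 ^ (2 * m - 1) ≤ H.relIndex (stabilizer G x) :=
  Cfsg.Agent.Lib.Helper22.Om2OL0Of.isA_or_of_Dt_trivial_of S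
    (fun H _ hx0 hx => Cfsg.Agent.Lib.Helper12.Om2Leaf.relIndex_Qs S H hx0 hx) hV hm H hx0 hx hD

/-- OL0b -/
theorem relIndex_ge_of_isA [Finite V] [Finite G] {m : ℕ} (hV : Nat.card V = 2 ^ (2 * m))
    (hm : 1 ≤ m) (H : Subgroup G) {x : V} (hA : S.IsA H x) :
    2 ^ (2 * m - 2) ≤ H.relIndex (stabilizer G x) :=
  Cfsg.Agent.Lib.Helper22.Om2OL0Of.relIndex_ge_of_isA_of S
    (fun H _ hx0 hx => Cfsg.Agent.Lib.Helper12.Om2Leaf.relIndex_Qs S H hx0 hx) hV hm H hA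

end Cfsg.Agent.Lib.Helper22.Om2Leaf
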