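import Mathlib
import Cfsg.Agent.Lib.Helper11.Om2Tools
import Cfsg.Agent.Lib.Helper22.Om2T1

/-! helper22: S2146 market "OM2", leaf COV `covering` (port of `Helper22.Sp2C.covering_bound`):
G3 with index set `{w of the type of u0} × ι`, `k (w, i) := p_w * g i` with `p_w` from T2 (`p_w • x = x`, `p_w • u0 = w`);
the fibres inject into `{w' ∈ U of that type}`. -/

set_option autoImplicit false

open Cfsg.Agent.Lib.Helper11.Om2 MulAction
open scoped Pointwise

namespace Cfsg.Agent.Lib.Helper22.Om2Leaf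

variable {F V G : Type*} [Field F] [AddCommGroup V] [Module F V] [Group G] [DistribMulAction G V]
  (S : Setting F V G)

set_option linter.unusedVariables false in
/-- COV -/
theorem covering [Finite V] [Finite G] {m : ℕ} (hV : Nat.card V = 2 ^ (2 * m)) (hm : 4 ≤ m) {x : V}
    (hx0 : x ≠ 0) (hx : S.Q x = 0) (U : Submodule F V) (hxU : x ∈ U) (hU : ∀ u ∈ U, S.B x u = 0)
    {ι : Type*} [Finite ι] (g : ι → G) (hg : ∀ i, g i • x = x) {u0 : V}
    (hu0 : ∀ i, u0 ∈ g i • (U : Set V)) (hu00 : u0 ≠ 0) (hu0x : u0 ≠ x)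
    (hinj : Function.Injective (fun i => g i • (U : Set V))) :
    Nat.card ι * Nat.card {w : V // S.B x w = 0 ∧ w ≠ 0 ∧ w ≠ x ∧ S.Q w = S.Q u0} ≤
      Nat.card {w : V // w ∈ U ∧ w ≠ 0 ∧ w ≠ x ∧ S.Q w = S.Q u0} *
        (stabilizer G (U : Set V)).relIndex (stabilizer G x) := by
  classical
  rcases isEmpty_or_nonempty ι with hι | hι
  · rw [Nat.card_of_isEmpty, zero_mul]
    exact Nat.zero_le _
  obtain ⟨i0⟩ := hι
  -- `u0 ⊥ x`
  have hxu0 : S.B x u0 = 0 := by
    obtain ⟨u, huU, hu⟩ := hu0 i0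
    have hu' : g i0 • u = u0 := hu
    rw [← hu', ← hg i0, S.iso]
    exact hU u huU
  -- the elements `p_w`
  have hp : ∀ w : {w : V // S.B x w = 0 ∧ w ≠ 0 ∧ w ≠ x ∧ S.Q w = S.Q u0},
      ∃ p : G, p • x = x ∧ p • u0 = (w : V) := fun w =>
    exists_stab_smul_eq S hV hm hx0 hx hxu0 w.2.1 hu00 hu0x w.2.2.1 w.2.2.2.1 w.2.2.2.2.symm
  choose p hpx hpu using hp
  let k : {w : V // S.B x w = 0 ∧ w ≠ 0 ∧ w ≠ x ∧ S.Q w = S.Q u0} × ι → G :=
    fun a => p a.1 * g a.2
  have hkx : ∀ a, k a • x = x := by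
    intro a
    show (p a.1 * g a.2) • x = x
    rw [mul_smul, hg, hpx]
  have hkinvx : ∀ a, (k a)⁻¹ • x = x := by
    intro a
    rw [inv_smul_eq_iff, hkx]
  -- `w' ∈ k (w', i') • U`
  have hwk : ∀ a : {w : V // S.B x w = 0 ∧ w ≠ 0 ∧ w ≠ x ∧ S.Q w = S.Q u0} × ι,
      (a.1 : V) ∈ k a • (U : Set V) := by
    intro a
    obtain ⟨u, huU, hu⟩ := hu0 a.2
    have hu' : g a.2 • u = u0 := hu
    refine ⟨u, huU, ?_⟩
    show (p a.1 * g a.2) • u = (a.1 : V)
    rw [mul_smul, hu', hpu]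
  have hc : ∀ a, Nat.card {b // (k a)⁻¹ * k b ∈ stabilizer G (U : Set V)} ≤
      Nat.card {w : V // w ∈ U ∧ w ≠ 0 ∧ w ≠ x ∧ S.Q w = S.Q u0} := by
    intro a
    have hmem : ∀ b : {b // (k a)⁻¹ * k b ∈ stabilizer G (U : Set V)},
        (k a)⁻¹ • ((b.1.1 : V)) ∈ U := by
      intro b
      have h1 : ((k a)⁻¹ * k b.1) • (U : Set V) = (U : Set V) := mem_stabilizer_iff.mp b.2
      obtain ⟨u, huU, hu⟩ := hwk b.1
      have hu' : k b.1 • u = (b.1.1 : V) := hu
      have h2 : ((k a)⁻¹ * k b.1) • u ∈ ((k a)⁻¹ * k b.1) • (U : Set V) :=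
        Set.smul_mem_smul_set huU
      rw [h1, mul_smul, hu'] at h2
      exact h2
    refine Nat.card_le_card_of_injective
      (fun b => ⟨(k a)⁻¹ • ((b.1.1 : V)), hmem b, ?_, ?_, ?_⟩) ?_
    · intro h
      exact b.1.1.2.2.1 ((smul_eq_zero_iff_eq _).mp h)
    · intro h
      apply b.1.1.2.2.2.1
      have := congrArg (fun w => k a • w) h
      simpa [hkx a] using this
    · rw [S.isoQ]
      exact b.1.1.2.2.2.2
    · intro b b' h
      have h1 : (k a)⁻¹ • ((b.1.1 : V)) = (k a)⁻¹ • ((b'.1.1 : V)) := congrArg Subtype.val h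
      have h2 : (b.1.1 : V) = (b'.1.1 : V) := by
        have := congrArg (fun w => k a • w) h1
        simpa using this
      have h3 : b.1.1 = b'.1.1 := Subtype.ext h2
      -- the second components agree
      have hb : ((k a)⁻¹ * k b.1) • (U : Set V) = (U : Set V) := mem_stabilizer_iff.mp b.2
      have hb' : ((k a)⁻¹ * k b'.1) • (U : Set V) = (U : Set V) := mem_stabilizer_iff.mp b'.2
      have h4 : k b.1 • (U : Set V) = k b'.1 • (U : Set V) := by
        have e1 : k b.1 • (U : Set V) = k a • (U : Set V) := by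
          rw [mul_smul, inv_smul_eq_iff] at hb
          exact hb
        have e2 : k b'.1 • (U : Set V) = k a • (U : Set V) := by
          rw [mul_smul, inv_smul_eq_iff] at hb'
          exact hb'
        rw [e1, e2]
      have h5 : g b.1.2 • (U : Set V) = g b'.1.2 • (U : Set V) := by
        have e : (p b.1.1 * g b.1.2) • (U : Set V) = (p b'.1.1 * g b'.1.2) • (U : Set V) := h4
        rw [h3, mul_smul, mul_smul] at e
        exact smul_left_cancel _ e
      have h6 : b.1.2 = b'.1.2 := hinj h5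
      exact Subtype.ext (Prod.ext h3 h6)
  have h1 := Cfsg.Agent.Lib.Helper1.Sp2Leaf.card_le_mul_relIndex (stabilizer G (U : Set V))
    (stabilizer G x) k (fun a => mem_stabilizer_iff.mpr (hkx a)) _ hc
  rw [Nat.card_prod] at h1
  rw [mul_comm (Nat.card ι)]
  exact h1

end Cfsg.Agent.Lib.Helper22.Om2Leaf
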