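import Mathlib
import Cfsg.Agent.Lib.Helper11.Om2Tools
import Cfsg.Agent.Lib.Helper12.Om2QR
import Cfsg.Agent.Lib.Helper15.Om2GC
import Cfsg.Agent.Lib.Helper22.Om2COV
import Cfsg.Agent.Lib.Helper22.Om2OL1Of

/-! helper22: S2146 market "OM2", leaf OL1 `relIndex_ge_of_small` (exact statement; proof in `Om2OL1Of`, over helper12's QR
`relIndex_Qs`, my COV `covering` at `ι = Unit` and helper15's GC `card_type_zero/one`). -/

set_option autoImplicit false

open Cfsg.Agent.Lib.Helper11.Om2 MulAction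
open scoped Pointwise

namespace Cfsg.Agent.Lib.Helper22.Om2Leaf

variable {F V G : Type*} [Field F] [AddCommGroup V] [Module F V] [Group G] [DistribMulAction G V]
  (S : Setting F V G)

/-- OL1 -/
theorem relIndex_ge_of_small [Finite V] [Finite G] {m : ℕ} (hV : Nat.card V = 2 ^ (2 * m))
    (hs : Nat.card {v : V // S.Q v = 0} = 2 ^ (2 * m - 1) + 2 ^ (m - 1)) (hm : 4 ≤ m)
    (H : Subgroup G) {x : V} (hx0 : x ≠ 0) (hx : S.Q x = 0)
    (h1 : 4 ≤ Nat.card (S.Dt H hx)) (h2 : Nat.card (S.Dt H hx) ≤ 2 ^ (m - 1)) :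
    2 ^ (m - 1) * (2 ^ m - 1) ≤ H.relIndex (stabilizer G x) := by
  refine Cfsg.Agent.Lib.Helper22.Om2OL1Of.relIndex_ge_of_small_of S
    (fun H _ hx0 hx => Cfsg.Agent.Lib.Helper12.Om2Leaf.relIndex_Qs S H hx0 hx) ?_ ?_ hV hm H hx0 hx h1 h2
  · -- COV at `ι = Unit`, `g = 1`
    intro x hx0 hx U hxU hU u0 hu0U hu00 hu0x
    have h := covering S hV hm hx0 hx U hxU hU (ι := Unit) (fun _ => (1 : G))
      (fun _ => one_smul G x) (u0 := u0) (fun _ => by rw [one_smul]; exact hu0U) hu00 hu0x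
      (fun a b _ => Subsingleton.elim a b)
    rw [Nat.card_unique, one_mul] at h
    exact h
  · -- GC
    intro x hx0 hx a
    have hm2 : 2 ≤ m := by omega
    rcases S.h01 a with rfl | rfl
    · rw [Cfsg.Agent.Lib.Helper15.Om2Leaf.card_type_zero S hV hs hm2 hx0 hx]
      have : 2 ≤ 2 ^ (m - 1) := by
        calc 2 = 2 ^ 1 := by norm_num
          _ ≤ 2 ^ (m - 1) := Nat.pow_le_pow_right (by norm_num) (by omega)
      omega
    · rw [Cfsg.Agent.Lib.Helper15.Om2Leaf.card_type_one S hV hs hm2 hx0 hx]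

end Cfsg.Agent.Lib.Helper22.Om2Leaf
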