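import Mathlib
import Cfsg.Agent.Lib.Helper11.Om2Tools

/-! helper22: S2146 market "OM2", leaf OLi in `_of` form: the conclusions of OL0a, OL1, OLk (for the given `H`, `x`) enter as
hypotheses; the exact leaf is in `Om2OLi`. -/

set_option autoImplicit false

open Cfsg.Agent.Lib.Helper11.Om2 MulAction
open scoped Pointwise

namespace Cfsg.Agent.Lib.Helper22.Om2OLiOf

variable {F V G : Type*} [Field F] [AddCommGroup V] [Module F V] [Group G] [DistribMulAction G V]
  (S : Setting F V G)

/-- OLi, over the conclusions of OL0a, OL1, OLk -/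
theorem isA_or_relIndex_ge_of [Finite V] {m : ℕ} (hm : 4 ≤ m)
    (H : Subgroup G) {x : V} (hx0 : x ≠ 0) (hx : S.Q x = 0)
    (h0 : (∀ w, S.B x w = 0 → S.sg x w ∈ H → w = 0 ∨ w = x) →
      S.IsA H x ∨ 2 ^ (2 * m - 1) ≤ H.relIndex (stabilizer G x))
    (h1 : 4 ≤ Nat.card (S.Dt H hx) → Nat.card (S.Dt H hx) ≤ 2 ^ (m - 1) →
      2 ^ (m - 1) * (2 ^ m - 1) ≤ H.relIndex (stabilizer G x))
    (hk : Nat.card (S.Dt H hx) = 2 ^ m →
      2 ^ (m - 1) * (2 ^ m - 1) ≤ H.relIndex (stabilizer G x))
    (hc : Nat.card (S.Dt H hx) ≤ 2 ^ m) :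
    S.IsA H x ∨ 2 ^ (m - 1) * (2 ^ m - 1) ≤ H.relIndex (stabilizer G x) := by
  classical
  have hpow := S.card_submodule_eq_two_pow (S.Dt H hx)
  set j := Module.finrank F (S.Dt H hx) with hj
  rcases Nat.lt_or_ge j 2 with hj2 | hj2
  · -- `|D̃| ≤ 2`
    have hc2 : Nat.card (S.Dt H hx) ≤ 2 := by
      rw [hpow]
      calc 2 ^ j ≤ 2 ^ 1 := Nat.pow_le_pow_right (by norm_num) (by omega)
        _ = 2 := by norm_num
    have hD : ∀ w, S.B x w = 0 → S.sg x w ∈ H → w = 0 ∨ w = x := by
      intro w hw hwH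
      by_contra hcon
      push Not at hcon
      have hwD : w ∈ S.Dt H hx := ⟨hw, hwH⟩
      have h3 : 3 ≤ Nat.card (S.Dt H hx) := by
        have hinj : Function.Injective (fun i : Fin 3 =>
            (![⟨0, (S.Dt H hx).zero_mem⟩, ⟨x, S.self_mem_Dt H hx⟩, ⟨w, hwD⟩] i : S.Dt H hx)) := by
          intro i i' h
          have h' := congrArg Subtype.val h
          fin_cases i <;> fin_cases i' <;> simp_all
        have := Nat.card_le_card_of_injective _ hinj
        simpa using this
      omega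
    rcases h0 hD with h | h
    · left; exact h
    · right
      refine le_trans ?_ h
      have e : 2 ^ (2 * m - 1) = 2 ^ (m - 1) * 2 ^ m := by
        rw [← pow_add]
        congr 1
        omega
      rw [e]
      exact Nat.mul_le_mul_left _ (Nat.sub_le _ _)
  · right
    rcases Nat.lt_or_ge j m with hjm | hjm
    · apply h1
      · rw [hpow]
        calc 4 = 2 ^ 2 := by norm_num
          _ ≤ 2 ^ j := Nat.pow_le_pow_right (by norm_num) hj2
      · rw [hpow]
        exact Nat.pow_le_pow_right (by norm_num) (by omega)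
    · apply hk
      rw [hpow] at hc ⊢
      have : j ≤ m := (Nat.pow_le_pow_iff_right (by norm_num)).mp hc
      congr 1
      omega

end Cfsg.Agent.Lib.Helper22.Om2OLiOf
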