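import Mathlib
import Cfsg.Agent.Lib.Helper11.Om2Tools
import Cfsg.Agent.Lib.Helper12.Om2OLkOf
import Cfsg.Agent.Lib.Helper22.Om2OL0
import Cfsg.Agent.Lib.Helper22.Om2OL1
import Cfsg.Agent.Lib.Helper22.Om2OLiOf

/-! helper22: S2146 market "OM2", leaf OLi with only the statement of leaf C3 (`exists_moves_three`) as a hypothesis:
OL0a, OL1 (mine, landed) and helper12's `relIndex_ge_of_mid_of` are wired in.  The exact leaf is in `Om2OLi`. -/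

set_option autoImplicit false

open Cfsg.Agent.Lib.Helper11.Om2 MulAction
open scoped Pointwise

namespace Cfsg.Agent.Lib.Helper22.Om2OLiOf2

variable {F V G : Type*} [Field F] [AddCommGroup V] [Module F V] [Group G] [DistribMulAction G V]
  (S : Setting F V G)

/-- the statement of leaf C3 -/
def C3 : Prop :=
  Nat.card V = 2 ^ (2 * 4) → ∀ {x : V} (_ : x ≠ 0) (_ : S.Q x = 0) (U : Submodule F V) (_ : x ∈ U)
    (_ : ∀ u ∈ U, S.Q u = 0) (_ : Nat.card U = 16),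
    ∃ u0 ∈ U, u0 ≠ 0 ∧ u0 ≠ x ∧ ∃ g : Fin 3 → G, (∀ i, g i • x = x) ∧
      (∀ i, u0 ∈ g i • (U : Set V)) ∧ Function.Injective (fun i => g i • (U : Set V))

/-- OLk over C3 -/
theorem relIndex_ge_of_mid_of_C3 [Finite V] [Finite G] (hC3 : C3 S) {m : ℕ}
    (hV : Nat.card V = 2 ^ (2 * m))
    (hs : Nat.card {v : V // S.Q v = 0} = 2 ^ (2 * m - 1) + 2 ^ (m - 1)) (hm : 4 ≤ m)
    (H : Subgroup G) {x : V} (hx0 : x ≠ 0) (hx : S.Q x = 0)
    (h : Nat.card (S.Dt H hx) = 2 ^ m) :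
    2 ^ (m - 1) * (2 ^ m - 1) ≤ H.relIndex (stabilizer G x) := by
  refine Cfsg.Agent.Lib.Helper12.Om2Leaf.relIndex_ge_of_mid_of S hV hs hm H hx0 hx h ?_
  intro hm4 hts
  subst hm4
  exact hC3 hV hx0 hx (S.Dt H hx) (S.self_mem_Dt H hx) hts (by rw [h]; norm_num)

/-- OLi over C3 -/
theorem isA_or_relIndex_ge_of_C3 [Finite V] [Finite G] (hC3 : C3 S) {m : ℕ}
    (hV : Nat.card V = 2 ^ (2 * m))
    (hs : Nat.card {v : V // S.Q v = 0} = 2 ^ (2 * m - 1) + 2 ^ (m - 1)) (hm : 4 ≤ m)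
    (H : Subgroup G) {x : V} (hx0 : x ≠ 0) (hx : S.Q x = 0)
    (hc : Nat.card (S.Dt H hx) ≤ 2 ^ m) :
    S.IsA H x ∨ 2 ^ (m - 1) * (2 ^ m - 1) ≤ H.relIndex (stabilizer G x) :=
  Cfsg.Agent.Lib.Helper22.Om2OLiOf.isA_or_relIndex_ge_of S hm H hx0 hx
    (fun hD => Cfsg.Agent.Lib.Helper22.Om2Leaf.isA_or_of_Dt_trivial S hV (by omega) H hx0 hx hD)
    (fun h1 h2 => Cfsg.Agent.Lib.Helper22.Om2Leaf.relIndex_ge_of_small S hV hs hm H hx0 hx h1 h2)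
    (fun h => relIndex_ge_of_mid_of_C3 S hC3 hV hs hm H hx0 hx h) hc

end Cfsg.Agent.Lib.Helper22.Om2OLiOf2
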