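import Mathlib
import Cfsg.Agent.Lib.Helper11.Om2Tools
import Cfsg.Agent.Lib.Helper5.Om2C3
import Cfsg.Agent.Lib.Helper22.Om2OLiOf2

/-! helper22: S2146 market "OM2", leaf OLi `isA_or_relIndex_ge` (exact statement; proof in `Om2OLiOf2` / `Om2OLiOf`, over
my OL0a + OL1, helper12's OLk (`_of` form) and helper5's C3 `exists_moves_three`). -/

set_option autoImplicit false

open Cfsg.Agent.Lib.Helper11.Om2 MulAction
open scoped Pointwise

namespace Cfsg.Agent.Lib.Helper22.Om2Leaf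

variable {F V G : Type*} [Field F] [AddCommGroup V] [Module F V] [Group G] [DistribMulAction G V]
  (S : Setting F V G)

/-- OLi (combination of OL0a, OL1, OLk) -/
theorem isA_or_relIndex_ge [Finite V] [Finite G] {m : ℕ} (hV : Nat.card V = 2 ^ (2 * m))
    (hs : Nat.card {v : V // S.Q v = 0} = 2 ^ (2 * m - 1) + 2 ^ (m - 1)) (hm : 4 ≤ m)
    (H : Subgroup G) {x : V} (hx0 : x ≠ 0) (hx : S.Q x = 0)
    (hc : Nat.card (S.Dt H hx) ≤ 2 ^ m) :
    S.IsA H x ∨ 2 ^ (m - 1) * (2 ^ m - 1) ≤ H.relIndex (stabilizer G x) :=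
  Cfsg.Agent.Lib.Helper22.Om2OLiOf2.isA_or_relIndex_ge_of_C3 S
    (fun hV4 {_} hx0 hx U hxU hts hc =>
      Cfsg.Agent.Lib.Helper5.Om2Leaf.exists_moves_three S hV4 hx0 hx U hxU hts hc)
    hV hs hm H hx0 hx hc

end Cfsg.Agent.Lib.Helper22.Om2Leaf
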