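import Mathlib
import Cfsg.Agent.Lib.Helper11.Om3Tools

/-! helper22: S2144 market "OM3", leaves OL0a / OL0b in `_of` form (the leaf QR `relIndex_Qs` enters as the
hypothesis `QR S`); the exact leaves are in `Om3OL0`. -/

set_option autoImplicit false

open Cfsg.Agent.Lib.Helper11.Om3 MulAction Cfsg.Agent.Lib.Helper1.Sp2Leaf
open scoped Pointwise

namespace Cfsg.Agent.Lib.Helper22.Om3OL0Of

variable {F V G : Type*} [Field F] [AddCommGroup V] [Module F V] [Group G] [DistribMulAction G V]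
  (S : Setting F V G)

/-- the statement of leaf QR -/
def QR : Prop :=
  ∀ (H : Subgroup G) {x : V} (_ : x ≠ 0) (hx : S.Q x = 0),
    3 * (H.relIndex (S.Qs hx) * Nat.card (S.Dt H hx)) = Nat.card V

/-- `D̃_x = <x>` has three elements -/
theorem card_Dt_eq_three (H : Subgroup G) {x : V} (hx0 : x ≠ 0) (hx : S.Q x = 0)
    (hD : ∀ w, S.B x w = 0 → S.sg x w ∈ H → ∃ a : F, w = a • x) : Nat.card (S.Dt H hx) = 3 := by
  rw [← S.natCard_F]
  symm
  apply Nat.card_congr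
  refine Equiv.ofBijective (fun a : F => (⟨a • x, (S.Dt H hx).smul_mem a (S.self_mem_Dt H hx)⟩ :
    S.Dt H hx)) ⟨?_, ?_⟩
  · intro a b hab
    have h1 : a • x = b • x := congrArg Subtype.val hab
    have h2 : (a - b) • x = 0 := by rw [sub_smul, h1, sub_self]
    rcases smul_eq_zero.mp h2 with h | h
    · exact sub_eq_zero.mp h
    · exact absurd h hx0
  · rintro ⟨w, hw⟩
    obtain ⟨a, ha⟩ := hD w hw.1 hw.2
    exact ⟨a, Subtype.ext ha.symm⟩

/-- `|Q_x : H ∩ Q_x| = 3^(2m-1)` when `D̃_x = <x>` -/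
theorem relIndex_Qs_eq (hQR : QR S) {m : ℕ} (hV : Nat.card V = 3 ^ (2 * m + 1))
    (hm : 1 ≤ m) (H : Subgroup G) {x : V} (hx0 : x ≠ 0) (hx : S.Q x = 0)
    (hD : ∀ w, S.B x w = 0 → S.sg x w ∈ H → ∃ a : F, w = a • x) :
    H.relIndex (S.Qs hx) = 3 ^ (2 * m - 1) := by
  have h1 := hQR H hx0 hx
  rw [card_Dt_eq_three S H hx0 hx hD, hV] at h1
  have h2 : 3 ^ (2 * m + 1) = 9 * 3 ^ (2 * m - 1) := by
    have : 2 * m + 1 = (2 * m - 1) + 2 := by omega
    conv_lhs => rw [this, pow_add]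
    ring
  rw [h2] at h1
  omega

/-- `|Q_x : H ∩ Q_x| ≤ |G_x : H ∩ G_x|` -/
theorem relIndex_Qs_le [Finite G] (H : Subgroup G) {x : V} (hx : S.Q x = 0) :
    H.relIndex (S.Qs hx) ≤ H.relIndex (stabilizer G x) := by
  have key := relIndex_mul_relIndex_le (stabilizer G x) (stabilizer G x)
    (H ⊓ stabilizer G x) (S.Qs hx) inf_le_right (S.Qs_le_stabilizer hx) le_rfl
    (inf_le_right.trans (S.stabilizer_le_normalizer_Qs hx))
  rwa [Subgroup.relIndex_self, one_mul, Subgroup.inf_relIndex_right,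
    Setting.inf_relIndex_of_le _ _ _ (S.Qs_le_stabilizer hx)] at key

/-- OL0b, over QR -/
theorem relIndex_ge_of_isA_of [Finite G] (hQR : QR S) {m : ℕ}
    (hV : Nat.card V = 3 ^ (2 * m + 1))
    (hm : 1 ≤ m) (H : Subgroup G) {x : V} (hA : S.IsA H x) :
    3 ^ (2 * m - 1) ≤ H.relIndex (stabilizer G x) := by
  obtain ⟨hx0, hx, hD, -⟩ := hA
  rw [← relIndex_Qs_eq S hQR hV hm H hx0 hx hD]
  exact relIndex_Qs_le S H hx

/-- OL0a, over QR -/
theorem isA_or_of_Dt_trivial_of [Finite G] (hQR : QR S) {m : ℕ}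
    (hV : Nat.card V = 3 ^ (2 * m + 1))
    (hm : 1 ≤ m) (H : Subgroup G) {x : V} (hx0 : x ≠ 0) (hx : S.Q x = 0)
    (hD : ∀ w, S.B x w = 0 → S.sg x w ∈ H → ∃ a : F, w = a • x) :
    S.IsA H x ∨ 2 * 3 ^ (2 * m - 1) ≤ H.relIndex (stabilizer G x) := by
  have hnorm : H ⊓ stabilizer G x ≤ Subgroup.normalizer (S.Qs hx : Set G) :=
    inf_le_right.trans (S.stabilizer_le_normalizer_Qs hx)
  by_cases hSt : stabilizer G x ≤ (H ⊓ stabilizer G x) ⊔ S.Qs hx
  · left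
    refine ⟨hx0, hx, hD, fun g hg => ?_⟩
    have hg' : g ∈ ((H ⊓ stabilizer G x) ⊔ S.Qs hx : Subgroup G) := hSt hg
    rw [← SetLike.mem_coe, Subgroup.coe_mul_of_left_le_normalizer_right _ _ hnorm] at hg'
    obtain ⟨h, hh, q, hq, rfl⟩ := hg'
    obtain ⟨w, hw, rfl⟩ := hq
    refine ⟨-w, by rw [S.Bneg_right, hw, neg_zero], ?_⟩
    rw [mul_assoc, ← S.sg_inv hx hw, mul_inv_cancel, mul_one]
    exact hh.1
  · right
    have hStK : (H ⊓ stabilizer G x) ⊔ S.Qs hx ≤ stabilizer G x :=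
      sup_le inf_le_right (S.Qs_le_stabilizer hx)
    have key := relIndex_mul_relIndex_le (stabilizer G x) ((H ⊓ stabilizer G x) ⊔ S.Qs hx)
      (H ⊓ stabilizer G x) (S.Qs hx) le_sup_left le_sup_right hStK hnorm
    rw [Subgroup.inf_relIndex_right, Setting.inf_relIndex_of_le _ _ _ (S.Qs_le_stabilizer hx),
      relIndex_Qs_eq S hQR hV hm H hx0 hx hD] at key
    have h2 : 2 ≤ ((H ⊓ stabilizer G x) ⊔ S.Qs hx).relIndex (stabilizer G x) := by
      have h0 : ((H ⊓ stabilizer G x) ⊔ S.Qs hx).relIndex (stabilizer G x) ≠ 0 := by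
        rw [Subgroup.relIndex]; exact Subgroup.index_ne_zero_of_finite
      have h1 : ((H ⊓ stabilizer G x) ⊔ S.Qs hx).relIndex (stabilizer G x) ≠ 1 := by
        intro h
        exact hSt (Subgroup.relIndex_eq_one.mp h)
      omega
    calc 2 * 3 ^ (2 * m - 1)
        ≤ ((H ⊓ stabilizer G x) ⊔ S.Qs hx).relIndex (stabilizer G x) * 3 ^ (2 * m - 1) :=
          Nat.mul_le_mul_right _ h2
      _ ≤ H.relIndex (stabilizer G x) := key

end Cfsg.Agent.Lib.Helper22.Om3OL0Of
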