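import Mathlib
import Cfsg.Agent.Lib.Helper11.Om3Tools
import Cfsg.Agent.Lib.Helper15.Om3T2
import Cfsg.Agent.Lib.Helper22.Om3COVOf

/-! helper22: S2144 market "OM3", leaf COV `covering` (exact statement; proof in `Om3COVOf`, over helper15's T2
`exists_stab_smul_eq`). -/

set_option autoImplicit false

open Cfsg.Agent.Lib.Helper11.Om3 MulAction
open scoped Pointwise

namespace Cfsg.Agent.Lib.Helper22.Om3Leaf

variable {F V G : Type*} [Field F] [AddCommGroup V] [Module F V] [Group G] [DistribMulAction G V]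
  (S : Setting F V G)

set_option linter.unusedVariables false in
/-- COV -/
theorem covering [Finite V] [Finite G] {m : ℕ} (hV : Nat.card V = 3 ^ (2 * m + 1))
    (hs : Nat.card {v : V // S.Q v = 0} = 3 ^ (2 * m)) (hm : 3 ≤ m) {x : V}
    (hx0 : x ≠ 0) (hx : S.Q x = 0) (U : Submodule F V) (hxU : x ∈ U) (hU : ∀ u ∈ U, S.B x u = 0)
    {ι : Type*} [Finite ι] (g : ι → G) (hg : ∀ i, g i • x = x) {u0 : V}
    (hu0 : ∀ i, u0 ∈ g i • (U : Set V)) (hu0x : ¬ ∃ a : F, u0 = a • x)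
    (hinj : Function.Injective (fun i => g i • (U : Set V))) :
    Nat.card ι * Nat.card {w : V // S.B x w = 0 ∧ (¬ ∃ a : F, w = a • x) ∧ S.Q w = S.Q u0} ≤
      Nat.card {w : V // w ∈ U ∧ (¬ ∃ a : F, w = a • x) ∧ S.Q w = S.Q u0} *
        (stabilizer G (U : Set V)).relIndex (stabilizer G x) :=
  Cfsg.Agent.Lib.Helper22.Om3COVOf.covering_of S
    (fun hx0 hx hw hw' hwx hwx' hQ =>
      Cfsg.Agent.Lib.Helper15.Om3Leaf.exists_stab_smul_eq S hV hs hm hx0 hx hw hw' hwx hwx' hQ)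
    hx0 hx U hU g hg hu0 hu0x hinj

end Cfsg.Agent.Lib.Helper22.Om3Leaf
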