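import Mathlib
import Cfsg.Agent.Lib.Helper11.Om3Tools
import Cfsg.Agent.Lib.Helper22.Om3OL0Of

/-! helper22: S2144 market "OM3", leaf OL1 in `_of` form: the leaves QR (`relIndex_Qs`), COV (`covering`, at `ι = Unit`) and
GC (`card_class_ge`) enter as hypotheses; the exact leaf is in `Om3OL1`. -/

set_option autoImplicit false

open Cfsg.Agent.Lib.Helper11.Om3 MulAction Cfsg.Agent.Lib.Helper1.Sp2Leaf
open scoped Pointwise

namespace Cfsg.Agent.Lib.Helper22.Om3OL1Of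

open Cfsg.Agent.Lib.Helper22.Om3OL0Of

variable {F V G : Type*} [Field F] [AddCommGroup V] [Module F V] [Group G] [DistribMulAction G V]
  (S : Setting F V G)

/-- the statement of leaf COV for a single translate (`ι = Unit`, `g = 1`) -/
def COV1 : Prop :=
  ∀ {x : V} (_ : x ≠ 0) (_ : S.Q x = 0) (U : Submodule F V) (_ : x ∈ U)
    (_ : ∀ u ∈ U, S.B x u = 0) {u0 : V} (_ : u0 ∈ U) (_ : ¬ ∃ a : F, u0 = a • x),
    Nat.card {w : V // S.B x w = 0 ∧ (¬ ∃ a : F, w = a • x) ∧ S.Q w = S.Q u0} ≤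
      Nat.card {w : V // w ∈ U ∧ (¬ ∃ a : F, w = a • x) ∧ S.Q w = S.Q u0} *
        (stabilizer G (U : Set V)).relIndex (stabilizer G x)

/-- the lower bound of leaf GCc -/
def GCge (m : ℕ) : Prop :=
  ∀ {x : V} (_ : x ≠ 0) (_ : S.Q x = 0) (c : F),
    3 ^ (2 * m - 1) - 3 ^ m ≤
      Nat.card {w : V // S.B x w = 0 ∧ (¬ ∃ a : F, w = a • x) ∧ S.Q w = c}

include S in
/-- a subspace `U ∋ x` with more than three elements has an element outside `<x>` -/
theorem exists_not_smul [Finite V] (x : V) (U : Submodule F V)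
    (hc : 3 < Nat.card U) : ∃ u0 ∈ U, ¬ ∃ a : F, u0 = a • x := by
  by_contra hcon
  push Not at hcon
  have : Finite F := S.finite_F
  have hle : Nat.card U ≤ Nat.card F := by
    have hch : ∀ u : U, ∃ a : F, (u : V) = a • x := fun u => hcon u.1 u.2
    choose f hf using hch
    apply Nat.card_le_card_of_injective f
    intro u u' h
    apply Subtype.ext
    rw [hf u, hf u', h]
  rw [S.natCard_F] at hle
  omega

/-- the number of elements of `U ∖ <x>` in one class is at most `|U| - 3` -/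
theorem card_class_add_three_le [Finite V] {x : V} (hx0 : x ≠ 0) (U : Submodule F V) (hxU : x ∈ U)
    (c : F) :
    Nat.card {w : V // w ∈ U ∧ (¬ ∃ a : F, w = a • x) ∧ S.Q w = c} + 3 ≤ Nat.card U := by
  have : Finite F := S.finite_F
  rw [← S.natCard_F, ← Nat.card_sum]
  apply Nat.card_le_card_of_injective
    (fun s : {w : V // w ∈ U ∧ (¬ ∃ a : F, w = a • x) ∧ S.Q w = c} ⊕ F =>
      (Sum.elim (fun w => (⟨w.1, w.2.1⟩ : U)) (fun a => (⟨a • x, U.smul_mem a hxU⟩ : U)) s))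
  rintro (w | a) (w' | a') h
  · have h1 : (w : V) = (w' : V) := congrArg (fun u : U => (u : V)) h
    rw [Subtype.ext h1]
  · exfalso
    have h1 : (w : V) = a' • x := congrArg (fun u : U => (u : V)) h
    exact w.2.2.1 ⟨a', h1⟩
  · exfalso
    have h1 : a • x = (w' : V) := congrArg (fun u : U => (u : V)) h
    exact w'.2.2.1 ⟨a, h1.symm⟩
  · have h1 : a • x = a' • x := congrArg (fun u : U => (u : V)) h
    have h2 : (a - a') • x = 0 := by rw [sub_smul, h1, sub_self]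
    rcases smul_eq_zero.mp h2 with h3 | h3
    · rw [sub_eq_zero.mp h3]
    · exact absurd h3 hx0

/-- the arithmetic: `b = 3^(m-1)`, `c = |D̃|`, `R = |Q_x : H ∩ Q_x|`, `t`, `o`, `n` the class size -/
theorem arith (b c R t o n : ℕ) (hb : 9 ≤ b) (hc9 : 9 ≤ c) (hcb : c ≤ b)
    (hR : 3 * (R * c) = 27 * b ^ 2)
    (hn : 3 * b ^ 2 - 3 * b ≤ n) (ht : n ≤ (c - 3) * t) (ho : t * R ≤ o) :
    3 * b * (3 * b - 1) ≤ 2 * o := by
  have hR2 : R * c = 9 * b ^ 2 := by omega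
  have hRa : 9 * b ≤ R := by
    have h1 : R * c ≤ R * b := Nat.mul_le_mul_left R hcb
    have h2 : 9 * b * b ≤ R * b := by nlinarith
    exact Nat.le_of_mul_le_mul_right h2 (by omega)
  obtain ⟨c', rfl⟩ : ∃ c', c = c' + 3 := ⟨c - 3, by omega⟩
  have e1 : c' + 3 - 3 = c' := by omega
  rw [e1] at ht
  have hc' : 0 < c' := by omega
  have hn' : 3 * (b * (b - 1)) ≤ n := by
    have : 3 * (b * (b - 1)) = 3 * b ^ 2 - 3 * b := by
      rw [Nat.mul_sub, mul_one, sq, Nat.mul_sub]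
    omega
  -- `o * c' ≥ t * R * c' = R * (c' * t) ≥ R * n ≥ 9b · 3b(b - 1)`
  have h1 : 9 * b * (3 * (b * (b - 1))) ≤ o * c' := by
    calc 9 * b * (3 * (b * (b - 1))) ≤ R * n := Nat.mul_le_mul hRa hn'
      _ ≤ R * (c' * t) := Nat.mul_le_mul_left R ht
      _ = t * R * c' := by ring
      _ ≤ o * c' := Nat.mul_le_mul_right c' ho
  have h2 : 3 * b * (3 * b - 1) * c' ≤ 2 * (9 * b * (3 * (b * (b - 1)))) := by
    have hc'b : c' ≤ b - 3 := by omega
    obtain ⟨d, rfl⟩ : ∃ d, b = d + 3 := ⟨b - 3, by omega⟩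
    have e2 : d + 3 - 3 = d := by omega
    have e3 : d + 3 - 1 = d + 2 := by omega
    have e4 : 3 * (d + 3) - 1 = 3 * d + 8 := by omega
    rw [e2] at hc'b
    rw [e3, e4]
    calc 3 * (d + 3) * (3 * d + 8) * c' ≤ 3 * (d + 3) * (3 * d + 8) * d :=
          Nat.mul_le_mul_left _ hc'b
      _ ≤ 2 * (9 * (d + 3) * (3 * ((d + 3) * (d + 2)))) := by nlinarith
  have h3 : 3 * b * (3 * b - 1) * c' ≤ (2 * o) * c' := by
    calc 3 * b * (3 * b - 1) * c' ≤ 2 * (9 * b * (3 * (b * (b - 1)))) := h2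
      _ ≤ 2 * (o * c') := Nat.mul_le_mul_left 2 h1
      _ = (2 * o) * c' := by ring
  exact Nat.le_of_mul_le_mul_right h3 hc'

/-- OL1, over QR, COV (one translate) and GC -/
theorem relIndex_ge_of_small_of [Finite V] [Finite G] {m : ℕ} (hQR : QR S) (hCOV : COV1 S)
    (hGC : GCge S m) (hV : Nat.card V = 3 ^ (2 * m + 1)) (hm : 3 ≤ m)
    (H : Subgroup G) {x : V} (hx0 : x ≠ 0) (hx : S.Q x = 0)
    (hc1 : 9 ≤ Nat.card (S.Dt H hx)) (hc2 : Nat.card (S.Dt H hx) ≤ 3 ^ (m - 1)) :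
    3 ^ m * (3 ^ m - 1) ≤ 2 * H.relIndex (stabilizer G x) := by
  classical
  set U : Submodule F V := S.Dt H hx with hUdef
  have hxU : x ∈ U := S.self_mem_Dt H hx
  have hUp : ∀ u ∈ U, S.B x u = 0 := S.Dt_le_perp hx
  have hinv : ∀ p ∈ H, p • x = x → ∀ u ∈ U, p • u ∈ U :=
    fun p hp hpx u hu => S.smul_mem_Dt hx hp hpx hu
  -- an element of `U` outside `<x>`
  obtain ⟨u0, hu0U, hu0x⟩ := exists_not_smul S x U (by omega)
  -- the three inputs
  have hSB := S.stab_bound H hx U hxU hUp hinv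
  have hqr := hQR H hx0 hx
  have hcov := hCOV hx0 hx U hxU hUp hu0U hu0x
  have hgc := hGC hx0 hx (S.Q u0)
  have hle := card_class_add_three_le S hx0 U hxU (S.Q u0)
  -- arithmetic
  set b : ℕ := 3 ^ (m - 1) with hbdef
  have hb9 : 9 ≤ b := by
    have : 3 ^ 2 ≤ 3 ^ (m - 1) := Nat.pow_le_pow_right (by norm_num) (by omega)
    simpa using this
  have e1 : 3 ^ (2 * m + 1) = 27 * b ^ 2 := by
    rw [hbdef, ← pow_mul]
    have : 2 * m + 1 = (m - 1) * 2 + 3 := by omega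
    rw [this, pow_add]
    ring
  have e2 : 3 ^ (2 * m - 1) = 3 * b ^ 2 := by
    rw [hbdef, ← pow_mul]
    have : 2 * m - 1 = (m - 1) * 2 + 1 := by omega
    rw [this, pow_add]
    ring
  have e3 : 3 ^ m = 3 * b := by
    rw [hbdef]
    have : m = (m - 1) + 1 := by omega
    conv_lhs => rw [this, pow_succ]
    ring
  rw [e3]
  rw [hV, e1] at hqr
  rw [e2, e3] at hgc
  refine arith b (Nat.card U) (H.relIndex (S.Qs hx))
    ((stabilizer G (U : Set V)).relIndex (stabilizer G x)) _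
    (Nat.card {w : V // S.B x w = 0 ∧ (¬ ∃ a : F, w = a • x) ∧ S.Q w = S.Q u0}) hb9 hc1 hc2 hqr
    hgc ?_ hSB
  calc Nat.card {w : V // S.B x w = 0 ∧ (¬ ∃ a : F, w = a • x) ∧ S.Q w = S.Q u0}
      ≤ Nat.card {w : V // w ∈ U ∧ (¬ ∃ a : F, w = a • x) ∧ S.Q w = S.Q u0} *
        (stabilizer G (U : Set V)).relIndex (stabilizer G x) := hcov
    _ ≤ (Nat.card U - 3) * (stabilizer G (U : Set V)).relIndex (stabilizer G x) :=
        Nat.mul_le_mul_right _ (by omega)

end Cfsg.Agent.Lib.Helper22.Om3OL1Of
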