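import Mathlib
import Cfsg.Agent.Lib.Helper11.Om3Tools
import Cfsg.Agent.Lib.Helper15.Om3QR
import Cfsg.Agent.Lib.Helper27.Om3GC
import Cfsg.Agent.Lib.Helper22.Om3COV
import Cfsg.Agent.Lib.Helper22.Om3OL1Of

/-! helper22: S2144 market "OM3", leaf OL1 `relIndex_ge_of_small` (exact statement; proof in `Om3OL1Of`, over helper15's QR
`relIndex_Qs`, my COV `covering` at `ι = Unit` and helper27's GC `card_class_ge`). -/

set_option autoImplicit false

open Cfsg.Agent.Lib.Helper11.Om3 MulAction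
open scoped Pointwise

namespace Cfsg.Agent.Lib.Helper22.Om3Leaf

variable {F V G : Type*} [Field F] [AddCommGroup V] [Module F V] [Group G] [DistribMulAction G V]
  (S : Setting F V G)

/-- OL1 -/
theorem relIndex_ge_of_small [Finite V] [Finite G] {m : ℕ} (hV : Nat.card V = 3 ^ (2 * m + 1))
    (hs : Nat.card {v : V // S.Q v = 0} = 3 ^ (2 * m))
    (h1 : Nat.card {v : V // S.Q v = 1} = 3 ^ (2 * m) + 3 ^ m) (hm : 3 ≤ m)
    (H : Subgroup G) {x : V} (hx0 : x ≠ 0) (hx : S.Q x = 0)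
    (hc1 : 9 ≤ Nat.card (S.Dt H hx)) (hc2 : Nat.card (S.Dt H hx) ≤ 3 ^ (m - 1)) :
    3 ^ m * (3 ^ m - 1) ≤ 2 * H.relIndex (stabilizer G x) := by
  refine Cfsg.Agent.Lib.Helper22.Om3OL1Of.relIndex_ge_of_small_of S
    (fun H _ hx0 hx => Cfsg.Agent.Lib.Helper15.Om3Leaf.relIndex_Qs S H hx0 hx) ?_ ?_ hV hm H hx0 hx
    hc1 hc2
  · -- COV at `ι = Unit`, `g = 1`
    intro x hx0 hx U hxU hU u0 hu0U hu0x
    have h := covering S hV hs hm hx0 hx U hxU hU (ι := Unit) (fun _ => (1 : G))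
      (fun _ => one_smul G x) (u0 := u0) (fun _ => by rw [one_smul]; exact hu0U) hu0x
      (fun a b _ => Subsingleton.elim a b)
    rw [Nat.card_unique, one_mul] at h
    exact h
  · -- GC
    intro x hx0 hx c
    exact Cfsg.Agent.Lib.Helper27.Om3Leaf.card_class_ge S hV hs h1 (by omega) hx0 hx c

end Cfsg.Agent.Lib.Helper22.Om3Leaf
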