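import Mathlib
import Cfsg.Agent.Lib.Helper11.Om3Tools

/-! helper22: S2144 market "OM3", leaf OLi in `_of` form: the conclusions of OL0a, OL1, OLk (for the given `H`, `x`) enter as
hypotheses; the exact leaf is in `Om3OLi`. -/

set_option autoImplicit false

open Cfsg.Agent.Lib.Helper11.Om3 MulAction
open scoped Pointwise

namespace Cfsg.Agent.Lib.Helper22.Om3OLiOf

variable {F V G : Type*} [Field F] [AddCommGroup V] [Module F V] [Group G] [DistribMulAction G V]
  (S : Setting F V G)

/-- OLi, over the conclusions of OL0a, OL1, OLk -/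
theorem isA_or_relIndex_ge_of [Finite V] {m : ℕ} (hm : 3 ≤ m)
    (H : Subgroup G) {x : V} (hx0 : x ≠ 0) (hx : S.Q x = 0)
    (h0 : (∀ w, S.B x w = 0 → S.sg x w ∈ H → ∃ a : F, w = a • x) →
      S.IsA H x ∨ 2 * 3 ^ (2 * m - 1) ≤ H.relIndex (stabilizer G x))
    (h1 : 9 ≤ Nat.card (S.Dt H hx) → Nat.card (S.Dt H hx) ≤ 3 ^ (m - 1) →
      3 ^ m * (3 ^ m - 1) ≤ 2 * H.relIndex (stabilizer G x))
    (hk : Nat.card (S.Dt H hx) = 3 ^ m →
      3 ^ m * (3 ^ m - 1) ≤ 2 * H.relIndex (stabilizer G x))
    (hc : Nat.card (S.Dt H hx) ≤ 3 ^ m) :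
    S.IsA H x ∨ 3 ^ m * (3 ^ m - 1) ≤ 2 * H.relIndex (stabilizer G x) := by
  classical
  have hpow := S.card_submodule_eq_three_pow (S.Dt H hx)
  set j := Module.finrank F (S.Dt H hx) with hj
  rcases Nat.lt_or_ge j 2 with hj2 | hj2
  · -- `|D̃| ≤ 3`
    have hc2 : Nat.card (S.Dt H hx) ≤ 3 := by
      rw [hpow]
      calc 3 ^ j ≤ 3 ^ 1 := Nat.pow_le_pow_right (by norm_num) (by omega)
        _ = 3 := by norm_num
    have hD : ∀ w, S.B x w = 0 → S.sg x w ∈ H → ∃ a : F, w = a • x := by
      intro w hw hwH
      by_contra hcon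
      have hwD : w ∈ S.Dt H hx := ⟨hw, hwH⟩
      have : Finite F := S.finite_F
      have h4 : 4 ≤ Nat.card (S.Dt H hx) := by
        have hinj : Function.Injective (fun s : Option F =>
            (Option.elim s (⟨w, hwD⟩ : S.Dt H hx)
              (fun a => (⟨a • x, (S.Dt H hx).smul_mem a (S.self_mem_Dt H hx)⟩ : S.Dt H hx)))) := by
          rintro (_ | a) (_ | a') h
          · rfl
          · exfalso
            have h' : w = a' • x := congrArg (fun u : S.Dt H hx => (u : V)) h
            exact hcon ⟨a', h'⟩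
          · exfalso
            have h' : a • x = w := congrArg (fun u : S.Dt H hx => (u : V)) h
            exact hcon ⟨a, h'.symm⟩
          · have h' : a • x = a' • x := congrArg (fun u : S.Dt H hx => (u : V)) h
            have h2 : (a - a') • x = 0 := by rw [sub_smul, h', sub_self]
            rcases smul_eq_zero.mp h2 with h3 | h3
            · rw [sub_eq_zero.mp h3]
            · exact absurd h3 hx0
        have hle := Nat.card_le_card_of_injective _ hinj
        have hF := S.natCard_F
        have : Fintype F := Fintype.ofFinite F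
        rw [Nat.card_eq_fintype_card (α := Option F), Fintype.card_option,
          ← Nat.card_eq_fintype_card, hF] at hle
        exact hle
      omega
    rcases h0 hD with h | h
    · left; exact h
    · right
      have e : 3 ^ (2 * m - 1) * 3 = 3 ^ m * 3 ^ m := by
        rw [← pow_succ, ← pow_add]
        congr 1
        omega
      have h5 : 3 ^ m * (3 ^ m - 1) ≤ 3 ^ m * 3 ^ m := Nat.mul_le_mul_left _ (Nat.sub_le _ _)
      omega
  · right
    rcases Nat.lt_or_ge j m with hjm | hjm
    · apply h1
      · rw [hpow]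
        calc 9 = 3 ^ 2 := by norm_num
          _ ≤ 3 ^ j := Nat.pow_le_pow_right (by norm_num) hj2
      · rw [hpow]
        exact Nat.pow_le_pow_right (by norm_num) (by omega)
    · apply hk
      rw [hpow] at hc ⊢
      have : j ≤ m := (Nat.pow_le_pow_iff_right (by norm_num)).mp hc
      congr 1
      omega

end Cfsg.Agent.Lib.Helper22.Om3OLiOf
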