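import Mathlib
import Cfsg.Agent.Lib.Helper11.Om3Tools
import Cfsg.Agent.Lib.Helper14.Om3OLkOf
import Cfsg.Agent.Lib.Helper22.Om3OL0
import Cfsg.Agent.Lib.Helper22.Om3OL1
import Cfsg.Agent.Lib.Helper22.Om3COV
import Cfsg.Agent.Lib.Helper22.Om3OLiOf

/-! helper22: S2144 market "OM3", leaf OLi `isA_or_relIndex_ge` (exact statement; proof in `Om3OLiOf`, over my OL0a + OL1 and
helper14's OLk in `_of` form fed with my COV `covering`). -/

set_option autoImplicit false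

open Cfsg.Agent.Lib.Helper11.Om3 MulAction
open scoped Pointwise

namespace Cfsg.Agent.Lib.Helper22.Om3Leaf

variable {F V G : Type*} [Field F] [AddCommGroup V] [Module F V] [Group G] [DistribMulAction G V]
  (S : Setting F V G)

/-- OLi (combination of OL0a, OL1, OLk) -/
theorem isA_or_relIndex_ge [Finite V] [Finite G] {m : ℕ} (hV : Nat.card V = 3 ^ (2 * m + 1))
    (hs : Nat.card {v : V // S.Q v = 0} = 3 ^ (2 * m))
    (h1 : Nat.card {v : V // S.Q v = 1} = 3 ^ (2 * m) + 3 ^ m) (hm : 3 ≤ m)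
    (H : Subgroup G) {x : V} (hx0 : x ≠ 0) (hx : S.Q x = 0)
    (hc : Nat.card (S.Dt H hx) ≤ 3 ^ m) :
    S.IsA H x ∨ 3 ^ m * (3 ^ m - 1) ≤ 2 * H.relIndex (stabilizer G x) :=
  Cfsg.Agent.Lib.Helper22.Om3OLiOf.isA_or_relIndex_ge_of S hm H hx0 hx
    (fun hD => isA_or_of_Dt_trivial S hV (by omega) H hx0 hx hD)
    (fun h1' h2' => relIndex_ge_of_small S hV hs h1 hm H hx0 hx h1' h2')
    (fun h => Cfsg.Agent.Lib.Helper14.Om3OLkOf.relIndex_ge_of_mid_of S hV hs h1 hm H hx0 hx h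
      (fun _ _ g hg _ hu0 hu0x hinj =>
        covering S hV hs hm hx0 hx (S.Dt H hx) (S.self_mem_Dt H hx) (S.Dt_le_perp hx)
          g hg hu0 hu0x hinj)) hc

end Cfsg.Agent.Lib.Helper22.Om3Leaf
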