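/-
S5813 (omega7, planner helper20), subfield block: leaves L0c `exists_perp_pair` and L0d `rat_induction` (helper22).
-/
import Mathlib
import Cfsg.Prelude.Def_ClassicalGeometry
import Cfsg.Prelude.Def_GeometricClasses
import Cfsg.Agent.Lib.Helper13.DkGen
import Cfsg.Agent.Lib.Helper20.Om7S.Wrap
import Cfsg.Agent.Lib.Helper20.Om7S.KDefs

set_option linter.dupNamespace false
set_option linter.ambiguousOpen false

namespace Cfsg.Agent.Lib.Helper20.Om7S

set_option autoImplicit false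
set_option linter.unusedSectionVars false
set_option linter.unusedVariables false

open Cfsg Matrix QuadraticMap Module Cfsg.Agent.Lib.Helper25.Siegel Cfsg.Agent.Lib.Helper19.OSub
open _root_.Cfsg _root_.Cfsg.Agent.Lib.Helper25.Siegel
open Cfsg.Agent.Lib.Helper26.OSubLeaf
open S7

namespace Cfsg.Agent.Lib.Helper22.Om7SLeaf

variable {ι : Type} [Fintype ι] [DecidableEq ι] {F : Type*} [Field F] [Fintype F]
  {F₀ : Subfield F} {Q : QuadraticForm F (ι → F)} {M : Subgroup (GL ι F)}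

/-- L0c: a rational hyperbolic pair orthogonal to two given rational vectors -/
theorem exists_perp_pair (h : QCtx F₀ Q) {a b : ι → F} (ha : RatV F₀ a) (hb : RatV F₀ b) :
    ∃ c c' : ι → F, HypPair F₀ Q c c' ∧ polar Q a c = 0 ∧ polar Q a c' = 0 ∧ polar Q b c = 0 ∧
      polar Q b c' = 0 := by
  classical
  obtain ⟨u₁, rfl⟩ := exists_up ha
  obtain ⟨u₂, rfl⟩ := exists_up hb
  obtain ⟨U, hU⟩ : ∃ U : Submodule F₀ (ι → F₀),
      U = Submodule.span F₀ (({u₁, u₂} : Finset (ι → F₀)) : Set (ι → F₀)) := ⟨_, rfl⟩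
  have hUfr : finrank F₀ U ≤ 2 := by
    rw [hU]
    exact le_trans (finrank_span_finset_le_card _) Finset.card_le_two
  obtain ⟨W, hWnd, hWperp, hWfr⟩ :=
    Cfsg.Agent.Lib.Helper18.OSubLeaf.exists_nd_perp (Q0 h) (Q0_nondeg h) U
  have hn : finrank F₀ (ι → F₀) = Fintype.card ι := Module.finrank_fintype_fun_eq_card F₀
  have hcard := h.card
  obtain ⟨e, f, heW, hfW, he, hf, hee, hff, hef⟩ :=
    _root_.Cfsg.Agent.Lib.Helper18.OSubLeaf.exists_frame_in (Q0 h) 1 W hWnd (by omega)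
  have hu₁ : u₁ ∈ U := by rw [hU]; exact Submodule.subset_span (by simp)
  have hu₂ : u₂ ∈ U := by rw [hU]; exact Submodule.subset_span (by simp)
  refine ⟨up F₀ (e 0), up F₀ (f 0),
    ⟨ratV_up _, ratV_up _, (Q0_eq_zero h _).mp (he 0), (Q0_eq_zero h _).mp (hf 0),
      (polar_Q0_eq_one h _ _).mp (by rw [hef 0 0, if_pos rfl])⟩,
    (polar_Q0_eq_zero h _ _).mp (hWperp u₁ hu₁ _ (heW 0)),
    (polar_Q0_eq_zero h _ _).mp (hWperp u₁ hu₁ _ (hfW 0)),
    (polar_Q0_eq_zero h _ _).mp (hWperp u₂ hu₂ _ (heW 0)),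
    (polar_Q0_eq_zero h _ _).mp (hWperp u₂ hu₂ _ (hfW 0))⟩

/-- L0d: induction on rational vectors: every rational vector is an `F₀`-combination of rational singular vectors -/
theorem rat_induction (h : QCtx F₀ Q) {P : (ι → F) → Prop} (hadd : ∀ x y, P x → P y → P (x + y))
    (hsmul : ∀ c ∈ F₀, ∀ x, P x → P (c • x)) (hsing : ∀ s, RatV F₀ s → Q s = 0 → P s) :
    ∀ x, RatV F₀ x → P x := by
  obtain ⟨fr⟩ := S7.exists_frame h
  -- the pairs `(e 0, f 0)` and `(e 1, f 1)` of the frame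
  have hperp : ∀ x, RatV F₀ x → polar Q (fr.e 0) x = 0 → P x := by
    intro x hx h0x
    obtain ⟨s, c₂, c₃, hQs, -, hxeq, hrat⟩ :=
      Cfsg.Agent.Lib.Helper20.OSubLeaf.exists_sing_decomp (F₀ := F₀) (fr.Qe 1) (fr.Qf 1)
        (by rw [fr.ef 1 1, if_pos rfl]) (fr.ee 0 1)
        (by rw [fr.ef 0 1, if_neg (by decide)]) h0x
    obtain ⟨hs, hc₂, hc₃⟩ := hrat h (fr.rat_e 1) (fr.rat_f 1) hx
    rw [hxeq]
    exact hadd _ _ (hadd _ _ (hsing s hs hQs) (hsmul c₂ hc₂ _ (hsing _ (fr.rat_f 1) (fr.Qf 1))))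
      (hsmul c₃ hc₃ _ (hsing _ (fr.rat_e 1) (fr.Qe 1)))
  intro x hx
  have hB : polar Q (fr.e 0) x ∈ F₀ := ratV_polar h (fr.rat_e 0) hx
  have hdec : x = (x - polar Q (fr.e 0) x • fr.f 0) + polar Q (fr.e 0) x • fr.f 0 := by abel
  rw [hdec]
  refine hadd _ _ (hperp _ ?_ ?_) (hsmul _ hB _ (hsing _ (fr.rat_f 0) (fr.Qf 0)))
  · exact ratV_sub hx (ratV_smul hB (fr.rat_f 0))
  · rw [polar_sub_right, polar_smul_right, fr.ef 0 0, if_pos rfl, smul_eq_mul, mul_one, sub_self]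

end Cfsg.Agent.Lib.Helper22.Om7SLeaf

end Cfsg.Agent.Lib.Helper20.Om7S
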