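import Mathlib
import Cfsg.Agent.Lib.Helper11.Sp2Calc

set_option autoImplicit false

namespace Cfsg.Agent.Lib.Helper22.Sp2Leaf

open Cfsg.Agent.Lib.Helper11.Sp2 MulAction

variable {F V G : Type*} [Field F] [AddCommGroup V] [Module F V] [Group G] [DistribMulAction G V]
  (S : Setting F V G)

include S in
/-- two functionals taking the value one somewhere take it simultaneously somewhere -/
theorem exists_common {P : V → Prop} (hP : ∀ a b, P a → P b → P (a + b)) {x y a b : V}
    (ha : P a) (hb : P b) (hax : S.B a x = 1) (hby : S.B b y = 1) :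
    ∃ z, P z ∧ S.B z x = 1 ∧ S.B z y = 1 := by
  rcases S.h01 (S.B a y) with h1 | h1
  · rcases S.h01 (S.B b x) with h2 | h2
    · refine ⟨a + b, hP a b ha hb, ?_, ?_⟩
      · rw [S.Badd_left, hax, h2, add_zero]
      · rw [S.Badd_left, h1, hby, zero_add]
    · exact ⟨b, hb, h2, hby⟩
  · exact ⟨a, ha, hax, h1⟩

include S in
/-- a transvection moving `x` to `z` when `B x z = 1` -/
theorem tv_add_smul {x z : V} (h : S.B x z = 1) : S.tv (x + z) • x = z := by
  rw [S.tv_smul, S.Badd_right, S.alt, h, zero_add, one_smul, ← add_assoc, S.vadd_self, zero_add]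

include S in
/-- T1: `G` is transitive on the nonzero vectors. -/
theorem exists_smul_eq_of_ne_zero {x y : V} (hx : x ≠ 0) (hy : y ≠ 0) : ∃ g : G, g • x = y := by
  obtain ⟨a, ha⟩ := S.exists_B_eq_one hx
  obtain ⟨b, hb⟩ := S.exists_B_eq_one hy
  obtain ⟨z, -, hzx, hzy⟩ := exists_common S (P := fun _ => True) (fun _ _ _ _ => trivial)
    trivial trivial ha hb
  refine ⟨S.tv (z + y) * S.tv (x + z), ?_⟩
  rw [mul_smul, tv_add_smul S (by rw [S.B_symm]; exact hzx), tv_add_smul S hzy]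

/-- T2: the stabilizer of `v` is transitive on `v^⊥ ∖ {0, v}`. -/
theorem exists_stab_smul_eq {v z z' : V} (hz : S.B v z = 0) (hz' : S.B v z' = 0) (hz0 : z ≠ 0)
    (hzv : z ≠ v) (hz0' : z' ≠ 0) (hzv' : z' ≠ v) :
    ∃ p : G, p • v = v ∧ p • z = z' := by
  have key : ∀ u : V, u ≠ 0 → u ≠ v → ∃ a, S.B v a = 0 ∧ S.B a u = 1 := by
    intro u hu0 huv
    by_contra hcon
    push Not at hcon
    have : ∀ a, S.B v a = 0 → S.B a u = 0 := fun a ha =>
      S.eq_zero_of_ne_one (hcon a ha)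
    rcases S.eq_zero_or_eq_of_perp this with h | h
    · exact hu0 h
    · exact huv h
  obtain ⟨a, hav, haz⟩ := key z hz0 hzv
  obtain ⟨b, hbv, hbz'⟩ := key z' hz0' hzv'
  obtain ⟨y, hyv, hyz, hyz'⟩ := exists_common S (P := fun a => S.B v a = 0)
    (fun a b ha hb => by rw [S.Badd_right, ha, hb, add_zero]) hav hbv haz hbz'
  refine ⟨S.tv (y + z') * S.tv (z + y), ?_, ?_⟩
  · have h1 : S.tv (z + y) • v = v := by
      rw [S.tv_smul, S.Badd_right, hz, hyv, add_zero, zero_smul, add_zero]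
    have h2 : S.tv (y + z') • v = v := by
      rw [S.tv_smul, S.Badd_right, hyv, hz', add_zero, zero_smul, add_zero]
    rw [mul_smul, h1, h2]
  · rw [mul_smul, tv_add_smul S (by rw [S.B_symm]; exact hyz), tv_add_smul S hyz']

end Cfsg.Agent.Lib.Helper22.Sp2Leaf
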