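import Mathlib
import Cfsg.Agent.Lib.Helper11.Sp2Calc
import Cfsg.Agent.Lib.Helper1.Sp2G
import Cfsg.Agent.Lib.Helper22.Sp2T

set_option autoImplicit false

namespace Cfsg.Agent.Lib.Helper22.Sp2Leaf

open Cfsg.Agent.Lib.Helper11.Sp2 MulAction

variable {F V G : Type*} [Field F] [AddCommGroup V] [Module F V] [Group G] [DistribMulAction G V]
  (S : Setting F V G)

/-- removing two distinct points from a finite type -/
theorem card_ne_ne {α : Type*} [Finite α] {a b : α} (hab : a ≠ b) :
    Nat.card {x : α // x ≠ a ∧ x ≠ b} = Nat.card α - 2 := by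
  classical
  have h1 : {x : α | x ≠ a ∧ x ≠ b} = Set.univ \ {a, b} := by
    ext x
    simp only [Set.mem_ofPred_eq, Set.mem_sdiff, Set.mem_univ, true_and, Set.mem_insert_iff,
      Set.mem_singleton_iff, not_or]
  change Nat.card ↥{x : α | x ≠ a ∧ x ≠ b} = _
  rw [Nat.card_coe_set_eq, h1, Set.ncard_sdiff (Set.subset_univ _) (Set.toFinite _), Set.ncard_univ,
    Set.ncard_pair hab]

/-- local form of leaf P4: the hyperplane `v^⊥` has half the points -/
theorem two_mul_card_perp_aux [Finite V] {v : V} (hv : v ≠ 0) :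
    2 * Nat.card {z : V // S.B v z = 0} = Nat.card V := by
  classical
  obtain ⟨z0, hz0⟩ := S.exists_B_eq_one hv
  have hz0' : S.B v z0 = 1 := by rw [S.B_symm]; exact hz0
  have e : {z : V // S.B v z = 0} ≃ {z : V // ¬ S.B v z = 0} :=
    { toFun := fun z => ⟨z.1 + z0, by
        rw [S.Badd_right, z.2, hz0', zero_add]; exact one_ne_zero⟩
      invFun := fun z => ⟨z.1 + z0, by
        have h1 : S.B v z.1 = 1 := S.eq_one_of_ne_zero z.2
        rw [S.Badd_right, h1, hz0', S.one_add_one]⟩
      left_inv := fun z => by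
        apply Subtype.ext
        change z.1 + z0 + z0 = z.1
        rw [add_assoc, S.vadd_self, add_zero]
      right_inv := fun z => by
        apply Subtype.ext
        change z.1 + z0 + z0 = z.1
        rw [add_assoc, S.vadd_self, add_zero] }
  have h2 : Nat.card V = Nat.card {z : V // S.B v z = 0} + Nat.card {z : V // ¬ S.B v z = 0} := by
    rw [← Nat.card_sum]
    exact Nat.card_congr (Equiv.sumCompl (fun z : V => S.B v z = 0)).symm
  rw [h2, ← Nat.card_congr e]
  ring

open Pointwise in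
/-- Leaf C of S2142. -/
theorem covering_bound [Finite V] [Finite G] {v : V} (hv : v ≠ 0) (U : Submodule F V) (hvU : v ∈ U)
    (hU : ∀ u ∈ U, S.B v u = 0) (hne : ∃ u ∈ U, u ≠ 0 ∧ u ≠ v) :
    Nat.card V - 4 ≤
      2 * ((Nat.card U - 2) * (stabilizer G (U : Set V)).relIndex (stabilizer G v)) := by
  classical
  obtain ⟨e0, he0U, he00, he0v⟩ := hne
  set P0 : {z : V // S.B v z = 0} := ⟨0, S.Bzero_right v⟩ with hP0
  set Pv : {z : V // S.B v z = 0} := ⟨v, S.alt v⟩ with hPv
  have hP0v : P0 ≠ Pv := fun h => hv (congrArg Subtype.val h).symm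
  have hp : ∀ i : {x : {z : V // S.B v z = 0} // x ≠ P0 ∧ x ≠ Pv},
      ∃ p : G, p • v = v ∧ p • e0 = (i.1.1 : V) := fun i =>
    exists_stab_smul_eq S (hU e0 he0U) i.1.2 he00 he0v
      (fun h => i.2.1 (Subtype.ext h)) (fun h => i.2.2 (Subtype.ext h))
  choose k hkv hke using hp
  set U0 : U := 0 with hU0
  set Uv : U := ⟨v, hvU⟩ with hUv
  have hU0v : U0 ≠ Uv := fun h => hv (congrArg Subtype.val h).symm
  have hc : ∀ i, Nat.card {j // (k i)⁻¹ * k j ∈ stabilizer G (U : Set V)} ≤ Nat.card U - 2 := by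
    intro i
    rw [← card_ne_ne hU0v]
    have hmem : ∀ j : {j // (k i)⁻¹ * k j ∈ stabilizer G (U : Set V)},
        (k i)⁻¹ • (j.1.1.1 : V) ∈ U := by
      intro j
      have h1 : ((k i)⁻¹ * k j.1) • (U : Set V) = (U : Set V) := mem_stabilizer_iff.mp j.2
      have h2 : ((k i)⁻¹ * k j.1) • e0 ∈ ((k i)⁻¹ * k j.1) • (U : Set V) :=
        Set.smul_mem_smul_set he0U
      rw [h1, mul_smul, hke] at h2
      exact h2
    refine Nat.card_le_card_of_injective
      (fun j => ⟨⟨(k i)⁻¹ • (j.1.1.1 : V), hmem j⟩, ?_, ?_⟩) ?_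
    · intro h
      have h1 : (k i)⁻¹ • (j.1.1.1 : V) = 0 := congrArg Subtype.val h
      have h2 : (j.1.1.1 : V) = 0 := by
        have := congrArg (fun w => k i • w) h1
        simpa using this
      exact j.1.2.1 (Subtype.ext h2)
    · intro h
      have h1 : (k i)⁻¹ • (j.1.1.1 : V) = v := congrArg Subtype.val h
      have h2 : (j.1.1.1 : V) = v := by
        have := congrArg (fun w => k i • w) h1
        simpa [hkv i] using this
      exact j.1.2.2 (Subtype.ext h2)
    · intro j j' h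
      have h1 : (k i)⁻¹ • (j.1.1.1 : V) = (k i)⁻¹ • (j'.1.1.1 : V) :=
        congrArg (fun w : {x : U // x ≠ U0 ∧ x ≠ Uv} => (w.1 : V)) h
      have h2 : (j.1.1.1 : V) = (j'.1.1.1 : V) := by
        have := congrArg (fun w => k i • w) h1
        simpa using this
      exact Subtype.ext (Subtype.ext (Subtype.ext h2))
  have h1 := Cfsg.Agent.Lib.Helper1.Sp2Leaf.card_le_mul_relIndex (stabilizer G (U : Set V))
    (stabilizer G v) k (fun i => mem_stabilizer_iff.mpr (hkv i)) (Nat.card U - 2) hc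
  rw [card_ne_ne hP0v] at h1
  have h2 := two_mul_card_perp_aux S hv
  omega

end Cfsg.Agent.Lib.Helper22.Sp2Leaf
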