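import Mathlib
import Cfsg.Agent.Lib.Helper11.Su2Tools

/-! helper22: S2153 market "SU2", leaf COV `cov` (generic covering count): G3 (`Helper1.Sp2Leaf.card_le_mul_relIndex`) with
index set `T × Fin r`, `k (s, i) := p_s * g i` with `p_s ∈ K`, `p_s • u0 = s`; the fibres inject into `U ∩ T`. -/

set_option autoImplicit false

namespace Cfsg.Agent.Lib.Helper22.Su2Leaf

open MulAction Pointwise Cfsg.Agent.Lib.Helper11.Su2

theorem cov {G V : Type*} [Group G] [MulAction G V] [Finite G] [Finite V] (K : Subgroup G)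
    (U T : Set V) (hTinv : ∀ g ∈ K, ∀ s ∈ T, g • s ∈ T)
    (hTtr : ∀ s ∈ T, ∀ s' ∈ T, ∃ g ∈ K, g • s = s') (u0 : V) (hu0 : u0 ∈ T) (r : ℕ)
    (g : Fin r → G) (hg : ∀ i, g i ∈ K) (hu0g : ∀ i, u0 ∈ g i • U)
    (hinj : Function.Injective (fun i => g i • U)) :
    r * Nat.card T ≤ (stabilizer G U).relIndex K * Nat.card ↥(U ∩ T) := by
  classical
  -- the elements `p_s`
  have hp : ∀ s : T, ∃ p : G, p ∈ K ∧ p • u0 = (s : V) := fun s => hTtr u0 hu0 s.1 s.2
  choose p hpK hpu using hp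
  let k : T × Fin r → G := fun a => p a.1 * g a.2
  have hkK : ∀ a, k a ∈ K := fun a => K.mul_mem (hpK a.1) (hg a.2)
  -- `s ∈ k (s, i) • U`
  have hsk : ∀ a : T × Fin r, (a.1 : V) ∈ k a • U := by
    intro a
    obtain ⟨u, huU, hu⟩ := hu0g a.2
    have hu' : g a.2 • u = u0 := hu
    refine ⟨u, huU, ?_⟩
    show (p a.1 * g a.2) • u = (a.1 : V)
    rw [mul_smul, hu', hpu]
  have hc : ∀ a, Nat.card {b // (k a)⁻¹ * k b ∈ stabilizer G U} ≤ Nat.card ↥(U ∩ T) := by
    intro a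
    have hmem : ∀ b : {b // (k a)⁻¹ * k b ∈ stabilizer G U},
        (k a)⁻¹ • ((b.1.1 : V)) ∈ U ∩ T := by
      intro b
      have h1 : ((k a)⁻¹ * k b.1) • U = U := mem_stabilizer_iff.mp b.2
      obtain ⟨u, huU, hu⟩ := hsk b.1
      have hu' : k b.1 • u = (b.1.1 : V) := hu
      have h2 : ((k a)⁻¹ * k b.1) • u ∈ ((k a)⁻¹ * k b.1) • U := Set.smul_mem_smul_set huU
      rw [h1, mul_smul, hu'] at h2
      exact ⟨h2, hTinv _ (K.inv_mem (hkK a)) _ b.1.1.2⟩
    refine Nat.card_le_card_of_injective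
      (fun b => (⟨(k a)⁻¹ • ((b.1.1 : V)), hmem b⟩ : ↥(U ∩ T))) ?_
    intro b b' h
    have h1 : (k a)⁻¹ • ((b.1.1 : V)) = (k a)⁻¹ • ((b'.1.1 : V)) := congrArg Subtype.val h
    have h2 : (b.1.1 : V) = (b'.1.1 : V) := smul_left_cancel _ h1
    have h3 : b.1.1 = b'.1.1 := Subtype.ext h2
    have hb : ((k a)⁻¹ * k b.1) • U = U := mem_stabilizer_iff.mp b.2
    have hb' : ((k a)⁻¹ * k b'.1) • U = U := mem_stabilizer_iff.mp b'.2
    have h4 : k b.1 • U = k b'.1 • U := by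
      have e1 : k b.1 • U = k a • U := by
        rw [mul_smul, inv_smul_eq_iff] at hb
        exact hb
      have e2 : k b'.1 • U = k a • U := by
        rw [mul_smul, inv_smul_eq_iff] at hb'
        exact hb'
      rw [e1, e2]
    have h5 : g b.1.2 • U = g b'.1.2 • U := by
      have e : (p b.1.1 * g b.1.2) • U = (p b'.1.1 * g b'.1.2) • U := h4
      rw [h3, mul_smul, mul_smul] at e
      exact smul_left_cancel _ e
    have h6 : b.1.2 = b'.1.2 := hinj h5
    exact Subtype.ext (Prod.ext h3 h6)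
  have h1 := Cfsg.Agent.Lib.Helper1.Sp2Leaf.card_le_mul_relIndex (stabilizer G U) K k hkK _ hc
  rw [Nat.card_prod, Nat.card_eq_fintype_card (α := Fin r), Fintype.card_fin] at h1
  calc r * Nat.card T = Nat.card T * r := Nat.mul_comm _ _
    _ ≤ Nat.card ↥(U ∩ T) * (stabilizer G U).relIndex K := h1
    _ = (stabilizer G U).relIndex K * Nat.card ↥(U ∩ T) := Nat.mul_comm _ _

end Cfsg.Agent.Lib.Helper22.Su2Leaf
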