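/-
helper22: leaf S1A (`dvd_relIndex_of_inf_eq_bot`) of helper11's S2153 market "SU2"
(`notes/S2153_leaves.lean`), over helper15's QR leaf `card_Qx`.
-/
import Mathlib
import Cfsg.Agent.Lib.Helper11.Su2Tools
import Cfsg.Agent.Lib.Helper15.Su2QR

set_option autoImplicit false

open MulAction Pointwise Cfsg.Agent.Lib.Helper11.Su2

namespace Cfsg.Agent.Lib.Helper22.Su2Leaf

/-- abstract form: `Q ≤ K` normalised by `K`, `H ∩ Q = 1` ⟹ `|Q|` divides `|K : H ∩ K|`. -/
theorem card_dvd_relIndex_of_inf_eq_bot {G : Type*} [Group G] [Finite G] (H Q K : Subgroup G)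
    (hQK : Q ≤ K) (hKN : K ≤ Subgroup.normalizer (Q : Set G)) (hbot : H ⊓ Q = ⊥) :
    Nat.card Q ∣ H.relIndex K := by
  have hn : (Q.subgroupOf K).Normal :=
    (Subgroup.normal_subgroupOf_iff_le_normalizer hQK).mpr hKN
  -- the composite `H ∩ K → K → K / Q` is injective
  let φ : ↥(H.subgroupOf K) →* (↥K ⧸ Q.subgroupOf K) :=
    (QuotientGroup.mk' (Q.subgroupOf K)).comp (H.subgroupOf K).subtype
  have hφ : Function.Injective φ := by
    rw [injective_iff_map_eq_one]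
    intro a ha
    have h1 : (a : ↥K) ∈ Q.subgroupOf K := by
      have : (QuotientGroup.mk' (Q.subgroupOf K)) (a : ↥K) = 1 := ha
      exact (QuotientGroup.eq_one_iff _).mp this
    have h2 : ((a : ↥K) : G) ∈ H ⊓ Q := ⟨a.2, h1⟩
    rw [hbot, Subgroup.mem_bot] at h2
    apply Subtype.ext
    apply Subtype.ext
    exact h2
  have hd : Nat.card ↥(H.subgroupOf K) ∣ Nat.card (↥K ⧸ Q.subgroupOf K) :=
    Subgroup.card_dvd_of_injective φ hφ
  have hK1 : Nat.card ↥K = Nat.card (↥K ⧸ Q.subgroupOf K) * Nat.card ↥(Q.subgroupOf K) :=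
    Subgroup.card_eq_card_quotient_mul_card_subgroup _
  have hK2 : Nat.card ↥(H.subgroupOf K) * (H.subgroupOf K).index = Nat.card ↥K :=
    Subgroup.card_mul_index _
  have hQ : Nat.card ↥(Q.subgroupOf K) = Nat.card Q :=
    Nat.card_congr (Subgroup.subgroupOfEquivOfLe hQK).toEquiv
  obtain ⟨m, hm⟩ := hd
  have hpos : 0 < Nat.card ↥(H.subgroupOf K) := Nat.card_pos
  have h3 : Nat.card ↥(H.subgroupOf K) * (H.subgroupOf K).index =
      Nat.card ↥(H.subgroupOf K) * (m * Nat.card Q) := by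
    rw [hK2, hK1, hm, hQ]; ring
  have h4 := Nat.eq_of_mul_eq_mul_left hpos h3
  show Nat.card Q ∣ (H.subgroupOf K).index
  rw [h4]
  exact Dvd.intro_left m rfl

variable {F V G : Type*} [Field F] [AddCommGroup V] [Module F V] [Group G] [DistribMulAction G V]
variable (S : Setting F V G)

theorem dvd_relIndex_of_inf_eq_bot [Finite V] [Finite G] {n : ℕ} (hV : Nat.card V = 4 ^ n)
    (hn : 6 ≤ n) (H : Subgroup G) {x : V} (hx0 : x ≠ 0) (hx : S.h x x = 0)
    (hbot : H ⊓ S.Qx hx = ⊥) : 2 ^ (2 * n - 3) ∣ H.relIndex (stabilizer G x) := by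
  have h1 := card_dvd_relIndex_of_inf_eq_bot H (S.Qx hx) (stabilizer G x)
    (S.Qx_le_stabilizer hx) (S.stabilizer_le_normalizer_Qx hx) hbot
  have h2 := Cfsg.Agent.Lib.Helper15.Su2Leaf.card_Qx S hV hx0 hx
  have h3 : Nat.card (S.Qx hx) = 2 ^ (2 * n - 3) := by
    have e1 : (4 : ℕ) ^ (n - 1) = 2 * 2 ^ (2 * n - 3) := by
      have : (4 : ℕ) = 2 ^ 2 := by norm_num
      rw [this, ← pow_mul, ← pow_succ']
      congr 1
      omega
    rw [e1] at h2
    exact Nat.eq_of_mul_eq_mul_left (by norm_num) h2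
  rw [← h3]
  exact h1

end Cfsg.Agent.Lib.Helper22.Su2Leaf
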