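/-
helper22: leaf S1B (`relIndex_ge_of_inf_ne_bot`) of helper11's S2153 market "SU2"
(`notes/S2153_leaves.lean`), in `_of` form: the inputs P1 / QR / GC / T2 / MULT are hypotheses.
-/
import Mathlib
import Cfsg.Agent.Lib.Helper11.Su2Tools
import Cfsg.Agent.Lib.Helper22.Su2COV

set_option autoImplicit false

open MulAction Pointwise Cfsg.Agent.Lib.Helper11.Su2

namespace Cfsg.Agent.Lib.Helper22.Su2Leaf

/-- the arithmetic of S1B: `p = 2^(n-3)`, `d = |D|`, `ρ = |Q_x : H ∩ Q_x|`, `t = |G_x : Stab(D)|`,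
`o = |G_x : H ∩ G_x|`, `s0 = |S_0|`, `c = |D ∩ S_0|`, `r` the multiplicity. -/
theorem s1b_arith (p d ρ t o s0 c r : ℕ) (hp : 8 ≤ p) (ha : ρ * d = 32 * p ^ 2)
    (hd : d ≤ 8 * p) (hc : s0 + 4 = 8 * p ^ 2 + 4 * p) (hd' : t * ρ ≤ o) (he : r * s0 ≤ t * c)
    (hcd : c + 4 ≤ d)
    (hr : (d = 8 ∧ r = 1) ∨ (d = 16 ∧ r = 1) ∨ (32 ≤ d ∧ r = 3)) :
    4 * p * (8 * p - 1) ≤ 3 * o := by
  obtain ⟨c', rfl⟩ : ∃ c', d = c' + 4 := ⟨d - 4, by omega⟩
  have hcc : c ≤ c' := by omega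
  have key : r * s0 * ρ ≤ o * c' := by
    calc r * s0 * ρ ≤ t * c * ρ := Nat.mul_le_mul_right _ he
      _ ≤ t * c' * ρ := Nat.mul_le_mul_right _ (Nat.mul_le_mul_left _ hcc)
      _ = t * ρ * c' := by ring
      _ ≤ o * c' := Nat.mul_le_mul_right _ hd'
  have hgoal : 4 * p * (8 * p - 1) ≤ 32 * p ^ 2 := by
    calc 4 * p * (8 * p - 1) ≤ 4 * p * (8 * p) := Nat.mul_le_mul_left _ (Nat.sub_le _ _)
      _ = 32 * p ^ 2 := by ring
  have hs0 : 8 * p ^ 2 ≤ s0 := by nlinarith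
  have hp2 : 64 ≤ p ^ 2 := by nlinarith
  rcases hr with ⟨h8, rfl⟩ | ⟨h16, rfl⟩ | ⟨h32, rfl⟩
  · have hc' : c' = 4 := by omega
    subst hc'
    have hρ : ρ = 4 * p ^ 2 := by omega
    subst hρ
    have : 8 * p ^ 2 * (4 * p ^ 2) ≤ o * 4 := by
      calc 8 * p ^ 2 * (4 * p ^ 2) ≤ 1 * s0 * (4 * p ^ 2) := by
            rw [one_mul]; exact Nat.mul_le_mul_right _ hs0
        _ ≤ o * 4 := key
    nlinarith
  · have hc' : c' = 12 := by omega
    subst hc'
    have hρ : ρ = 2 * p ^ 2 := by omega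
    subst hρ
    have : 8 * p ^ 2 * (2 * p ^ 2) ≤ o * 12 := by
      calc 8 * p ^ 2 * (2 * p ^ 2) ≤ 1 * s0 * (2 * p ^ 2) := by
            rw [one_mul]; exact Nat.mul_le_mul_right _ hs0
        _ ≤ o * 12 := key
    nlinarith
  · -- multiply by d
    by_contra hcon
    have hcon := not_le.mp hcon
    have h1 : 3 * s0 * (32 * p ^ 2) ≤ o * c' * (c' + 4) := by
      calc 3 * s0 * (32 * p ^ 2) = 3 * s0 * ρ * (c' + 4) := by rw [← ha]; ring
        _ ≤ o * c' * (c' + 4) := Nat.mul_le_mul_right _ key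
    have h2 : c' + 4 ≤ 8 * p := hd
    have hp1 : 1 ≤ 8 * p := by omega
    have hcon' : (3 : ℤ) * o < 4 * p * (8 * p - 1) := by
      have h := hcon
      zify at h
      rw [Nat.cast_sub hp1] at h
      push_cast at h
      exact h
    have h1' : (3 : ℤ) * s0 * (32 * p ^ 2) ≤ o * c' * (c' + 4) := by exact_mod_cast h1
    have h2' : (c' : ℤ) + 4 ≤ 8 * p := by exact_mod_cast h2
    have hc'' : (s0 : ℤ) = 8 * p ^ 2 + 4 * p - 4 := by
      have : (s0 : ℤ) + 4 = 8 * p ^ 2 + 4 * p := by exact_mod_cast hc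
      linarith
    have hpz : (8 : ℤ) ≤ p := by exact_mod_cast hp
    have ho : (0 : ℤ) ≤ o := Int.natCast_nonneg _
    have hc0 : (0 : ℤ) ≤ c' := Int.natCast_nonneg _
    have hA : (o : ℤ) * c' * (c' + 4) ≤ o * (8 * p - 4) * (8 * p) := by
      have e1 : (o : ℤ) * c' ≤ o * (8 * p - 4) := mul_le_mul_of_nonneg_left (by linarith) ho
      have e2 : (0 : ℤ) ≤ o * (8 * p - 4) := mul_nonneg ho (by linarith)
      calc (o : ℤ) * c' * (c' + 4) ≤ o * (8 * p - 4) * (c' + 4) :=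
            mul_le_mul_of_nonneg_right e1 (by linarith)
        _ ≤ o * (8 * p - 4) * (8 * p) := mul_le_mul_of_nonneg_left h2' e2
    have hB : (3 : ℤ) * s0 * p ≤ o * (2 * p - 1) := by
      have e : (32 * (p : ℤ)) * (3 * s0 * p) ≤ (32 * p) * (o * (2 * p - 1)) := by
        calc (32 * (p : ℤ)) * (3 * s0 * p) = 3 * s0 * (32 * p ^ 2) := by ring
          _ ≤ o * c' * (c' + 4) := h1'
          _ ≤ o * (8 * p - 4) * (8 * p) := hA
          _ = (32 * p) * (o * (2 * p - 1)) := by ring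
      exact le_of_mul_le_mul_left e (by linarith)
    have hC : (9 : ℤ) * s0 * p < (4 * (8 * p - 1) * (2 * p - 1)) * p := by
      calc (9 : ℤ) * s0 * p = 3 * (3 * s0 * p) := by ring
        _ ≤ 3 * (o * (2 * p - 1)) := by linarith
        _ = (3 * o) * (2 * p - 1) := by ring
        _ < (4 * p * (8 * p - 1)) * (2 * p - 1) := mul_lt_mul_of_pos_right hcon' (by linarith)
        _ = (4 * (8 * p - 1) * (2 * p - 1)) * p := by ring
    have hD : (9 : ℤ) * s0 < 4 * (8 * p - 1) * (2 * p - 1) := lt_of_mul_lt_mul_right hC (by linarith)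
    rw [hc''] at hD
    nlinarith

variable {F V G : Type*} [Field F] [AddCommGroup V] [Module F V] [Group G] [DistribMulAction G V]
variable (S : Setting F V G)

/-- an element of `H ∩ Q_x` other than `1` gives a vector of `D̃_x(H)` outside `F x` (if `tv x ∉ H`). -/
theorem exists_mem_Dt_not_span (H : Subgroup G) {x : V} (hx : S.h x x = 0) (htv : S.tv x ∉ H)
    (hne : H ⊓ S.Qx hx ≠ ⊥) : ∃ w ∈ S.Dt H hx, ∀ a : F, w ≠ a • x := by
  obtain ⟨g, hg1⟩ := (Subgroup.ne_bot_iff_exists_ne_one).mp hne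
  obtain ⟨hgH, w, c, hw, hc, hgq⟩ := g.2
  have hg1' : (g : G) ≠ 1 := fun h => hg1 (Subtype.ext h)
  refine ⟨w, ⟨hw, c, hc, by rw [← hgq]; exact hgH⟩, ?_⟩
  rintro a rfl
  rcases S.norm_unique (S.norm_smul_self hx a) hc with h | h
  · apply hg1'
    rw [hgq, h]
    exact S.gq_smul_self_right hx a
  · apply htv
    have h1 := S.gq_mul_tv hx hw (S.norm_smul_self hx a)
    rw [S.gq_smul_self_right hx, one_mul] at h1
    rw [h1, ← h, ← hgq]
    exact hgH

theorem relIndex_ge_of_inf_ne_bot_of [Finite V] [Finite G] {n : ℕ} (hV : Nat.card V = 4 ^ n)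
    (hn : 6 ≤ n) (H : Subgroup G) {x : V} (hx0 : x ≠ 0) (hx : S.h x x = 0) (htv : S.tv x ∉ H)
    (hne : H ⊓ S.Qx hx ≠ ⊥)
    (hP1 : Nat.card (S.Dt H hx) * Nat.card (S.perp (S.Dt H hx)) = Nat.card V)
    (hQR : H.relIndex (S.Qx hx) * Nat.card (S.Dt H hx) = 2 * 4 ^ (n - 1))
    (hS0 : Nat.card {u : V // S.h u x = 0 ∧ S.h u u = 0 ∧ ∀ a : F, u ≠ a • x} + 4 =
      2 ^ (2 * n - 3) + 2 ^ (n - 1))
    (hT2 : ∀ a b : V, S.h a x = 0 → S.h b x = 0 → S.h a a = S.h b b → (∀ c : F, a ≠ c • x) →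
      (∀ c : F, b ≠ c • x) → ∃ g : G, g • x = x ∧ g • a = b)
    (hMULT : 32 ≤ Nat.card (S.Dt H hx) → ∃ u0 ∈ S.Dt H hx, (∀ a : F, u0 ≠ a • x) ∧
      ∃ g : Fin 3 → G, (∀ i, g i • x = x) ∧ (∀ i, u0 ∈ g i • ((S.Dt H hx : AddSubgroup V) : Set V)) ∧
        Function.Injective (fun i => g i • ((S.Dt H hx : AddSubgroup V) : Set V))) :
    2 ^ (n - 1) * (2 ^ n - 1) ≤ 3 * H.relIndex (stabilizer G x) := by
  classical
  have hFfin : Finite F := S.finite_F
  -- basic facts on D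
  have hxD : ∀ a : F, a • x ∈ S.Dt H hx := S.smul_self_mem_Dt H hx
  have hDx : ∀ u ∈ S.Dt H hx, S.h u x = 0 := S.Dt_le_perp hx
  have hD0 : ∀ u ∈ S.Dt H hx, S.h u u = 0 := fun u hu => S.h_self_of_mem_Dt hx htv hu
  have hDinv : ∀ p ∈ H, p • x = x → ∀ u ∈ S.Dt H hx, p • u ∈ S.Dt H hx :=
    fun p hp hpx u hu => S.smul_mem_Dt hx hp hpx hu
  -- D ≤ perp D
  have hDperp : S.Dt H hx ≤ S.perp (S.Dt H hx) := by
    intro v hv u hu
    have h1 := S.h_self_add u v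
    rw [hD0 _ ((S.Dt H hx).add_mem hu hv), hD0 u hu, hD0 v hv, zero_add, zero_add] at h1
    exact h1.symm
  have hle : Nat.card (S.Dt H hx) ≤ Nat.card (S.perp (S.Dt H hx)) :=
    AddSubgroup.card_le_of_le hDperp
  -- the set `S_0`
  set T : Set V := {u | S.h u x = 0 ∧ S.h u u = 0 ∧ ∀ a : F, u ≠ a • x} with hT
  have hTcard : Nat.card T + 4 = 2 ^ (2 * n - 3) + 2 ^ (n - 1) := hS0
  have hTinv : ∀ g ∈ stabilizer G x, ∀ s ∈ T, g • s ∈ T := by
    intro g hg s hs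
    have hgx : g • x = x := hg
    refine ⟨?_, ?_, ?_⟩
    · have := S.iso g s x
      rw [hgx] at this
      rw [this]; exact hs.1
    · rw [S.iso]; exact hs.2.1
    · intro a ha
      apply hs.2.2 a
      have h1 : g • s = g • (a • x) := by rw [S.smul_fsmul, hgx]; exact ha
      exact smul_left_cancel g h1
  have hTtr : ∀ s ∈ T, ∀ s' ∈ T, ∃ g ∈ stabilizer G x, g • s = s' := by
    intro s hs s' hs'
    obtain ⟨g, hgx, hgs⟩ := hT2 s s' hs.1 hs'.1 (by rw [hs.2.1, hs'.2.1]) hs.2.2 hs'.2.2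
    exact ⟨g, hgx, hgs⟩
  -- `D ∩ S_0` misses the four vectors of `F x`
  have hcd : Nat.card ↥(((S.Dt H hx : AddSubgroup V) : Set V) ∩ T) + 4 ≤ Nat.card (S.Dt H hx) := by
    have h4 : Nat.card (↥(((S.Dt H hx : AddSubgroup V) : Set V) ∩ T) ⊕ F) =
        Nat.card ↥(((S.Dt H hx : AddSubgroup V) : Set V) ∩ T) + 4 := by
      rw [Nat.card_sum, S.natCard_F]
    rw [← h4]
    refine Nat.card_le_card_of_injective
      (fun b : ↥(((S.Dt H hx : AddSubgroup V) : Set V) ∩ T) ⊕ F =>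
        (Sum.elim (fun u => (⟨u.1, u.2.1⟩ : S.Dt H hx)) (fun a => ⟨a • x, hxD a⟩) b)) ?_
    rintro (u | a) (u' | a') hb
    · have h1 : (u : V) = (u' : V) := congrArg (fun q : S.Dt H hx => (q : V)) hb
      exact congrArg Sum.inl (Subtype.ext h1)
    · have h1 : (u : V) = a' • x := congrArg (fun q : S.Dt H hx => (q : V)) hb
      exact absurd h1 (u.2.2.2.2 a')
    · have h1 : a • x = (u' : V) := congrArg (fun q : S.Dt H hx => (q : V)) hb
      exact absurd h1.symm (u'.2.2.2.2 a)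
    · have h1 : a • x = a' • x := congrArg (fun q : S.Dt H hx => (q : V)) hb
      have h3 := sub_eq_zero.mpr h1
      rw [← sub_smul, smul_eq_zero] at h3
      rcases h3 with h3 | h3
      · exact congrArg Sum.inr (sub_eq_zero.mp h3)
      · exact absurd h3 hx0
  -- a vector of `D` outside `F x`
  obtain ⟨w, hwD, hwx⟩ := exists_mem_Dt_not_span S H hx htv hne
  have hwT : w ∈ T := ⟨hDx w hwD, hD0 w hwD, hwx⟩
  have hpos : 1 ≤ Nat.card ↥(((S.Dt H hx : AddSubgroup V) : Set V) ∩ T) := by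
    have : Nonempty ↥(((S.Dt H hx : AddSubgroup V) : Set V) ∩ T) := ⟨⟨w, hwD, hwT⟩⟩
    exact Nat.card_pos
  -- the stabiliser bound
  have hstab := S.stab_bound H hx (S.Dt H hx) hxD hDx hDinv
  -- the covering count with multiplicity one
  have hcov1 : 1 * Nat.card T ≤
      (stabilizer G ((S.Dt H hx : AddSubgroup V) : Set V)).relIndex (stabilizer G x) *
        Nat.card ↥(((S.Dt H hx : AddSubgroup V) : Set V) ∩ T) := by
    refine cov (stabilizer G x) ((S.Dt H hx : AddSubgroup V) : Set V) T hTinv hTtr w hwT 1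
      (fun _ => 1) (fun _ => Subgroup.one_mem _) (fun _ => ?_) (fun i j _ => Subsingleton.elim i j)
    rw [one_smul]; exact hwD
  -- the covering count with multiplicity three
  have hcov3 : 32 ≤ Nat.card (S.Dt H hx) → 3 * Nat.card T ≤
      (stabilizer G ((S.Dt H hx : AddSubgroup V) : Set V)).relIndex (stabilizer G x) *
        Nat.card ↥(((S.Dt H hx : AddSubgroup V) : Set V) ∩ T) := by
    intro h32
    obtain ⟨u0, hu0D, hu0x, g, hgx, hu0g, hinj⟩ := hMULT h32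
    exact cov (stabilizer G x) ((S.Dt H hx : AddSubgroup V) : Set V) T hTinv hTtr u0
      ⟨hDx u0 hu0D, hD0 u0 hu0D, hu0x⟩ 3 g hgx hu0g hinj
  -- arithmetic
  set p := 2 ^ (n - 3) with hp
  have hp8 : 8 ≤ p := by
    calc 8 = 2 ^ 3 := by norm_num
      _ ≤ 2 ^ (n - 3) := Nat.pow_le_pow_right (by norm_num) (by omega)
  have e1 : 2 ^ (n - 1) = 4 * p := by
    rw [hp, show n - 1 = (n - 3) + 2 by omega, pow_add]; ring
  have e2 : 2 ^ n = 8 * p := by
    rw [hp]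
    conv_lhs => rw [show n = (n - 3) + 3 by omega, pow_add]
    ring
  have e3 : 2 ^ (2 * n - 3) = 8 * p ^ 2 := by
    rw [hp, show 2 * n - 3 = (n - 3) + (n - 3) + 3 by omega, pow_add, pow_add]; ring
  have e4 : 4 ^ (n - 1) = 16 * p ^ 2 := by
    have : (4 : ℕ) = 2 ^ 2 := by norm_num
    rw [hp, this, ← pow_mul, show 2 * (n - 1) = (n - 3) + (n - 3) + 4 by omega, pow_add, pow_add]
    ring
  have e5 : 4 ^ n = 64 * p ^ 2 := by
    have : (4 : ℕ) = 2 ^ 2 := by norm_num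
    rw [hp, this, ← pow_mul, show 2 * n = (n - 3) + (n - 3) + 6 by omega, pow_add, pow_add]
    ring
  -- `|D| ≤ 8 p`
  have hd8 : Nat.card (S.Dt H hx) ≤ 8 * p := by
    have h1 : Nat.card (S.Dt H hx) * Nat.card (S.Dt H hx) ≤ (8 * p) * (8 * p) := by
      calc Nat.card (S.Dt H hx) * Nat.card (S.Dt H hx)
          ≤ Nat.card (S.Dt H hx) * Nat.card (S.perp (S.Dt H hx)) := Nat.mul_le_mul_left _ hle
        _ = 64 * p ^ 2 := by rw [hP1, hV, e5]
        _ = (8 * p) * (8 * p) := by ring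
    exact Nat.mul_self_le_mul_self_iff.mp h1
  -- `|D|` is a power of two, at least 5
  have hd5 : 5 ≤ Nat.card (S.Dt H hx) := by omega
  have hdpow : ∃ j, Nat.card (S.Dt H hx) = 2 ^ j := by
    have hdvd : Nat.card (S.Dt H hx) ∣ 2 ^ (2 * (n - 1) + 1) := by
      have : (2 : ℕ) ^ (2 * (n - 1) + 1) = 2 * 4 ^ (n - 1) := by
        have h4 : (4 : ℕ) = 2 ^ 2 := by norm_num
        rw [h4, ← pow_mul, pow_succ]; ring
      rw [this, ← hQR]
      exact Dvd.intro_left _ rfl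
    obtain ⟨j, _, hj⟩ := (Nat.dvd_prime_pow Nat.prime_two).mp hdvd
    exact ⟨j, hj⟩
  obtain ⟨j, hj⟩ := hdpow
  have hcases : (Nat.card (S.Dt H hx) = 8) ∨ (Nat.card (S.Dt H hx) = 16) ∨
      (32 ≤ Nat.card (S.Dt H hx)) := by
    rw [hj] at hd5 ⊢
    have hj3 : 3 ≤ j := by
      by_contra hcon
      have : j ≤ 2 := by omega
      have := Nat.pow_le_pow_right (show 0 < 2 by norm_num) this
      omega
    rcases Nat.lt_or_ge j 5 with h5 | h5
    · have : j = 3 ∨ j = 4 := by omega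
      rcases this with rfl | rfl
      · left; norm_num
      · right; left; norm_num
    · right; right
      calc 32 = 2 ^ 5 := by norm_num
        _ ≤ 2 ^ j := Nat.pow_le_pow_right (by norm_num) h5
  rw [e1, e2]
  rw [e3, e1] at hTcard
  have hQR' : H.relIndex (S.Qx hx) * Nat.card (S.Dt H hx) = 32 * p ^ 2 := by
    rw [hQR, e4]; ring
  rcases hcases with h8 | h16 | h32
  · exact s1b_arith p _ _ _ _ _ _ 1 hp8 hQR' hd8 hTcard hstab hcov1 hcd (Or.inl ⟨h8, rfl⟩)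
  · exact s1b_arith p _ _ _ _ _ _ 1 hp8 hQR' hd8 hTcard hstab hcov1 hcd (Or.inr (Or.inl ⟨h16, rfl⟩))
  · exact s1b_arith p _ _ _ _ _ _ 3 hp8 hQR' hd8 hTcard hstab (hcov3 h32) hcd
      (Or.inr (Or.inr ⟨h32, rfl⟩))

end Cfsg.Agent.Lib.Helper22.Su2Leaf
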