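/-
helper22: leaf S1B (`relIndex_ge_of_inf_ne_bot`) of helper11's S2153 market "SU2"
(`notes/S2153_leaves.lean`), exact form: `Su2S1BOf` over the landed leaves P1 (helper24), QR and T2
(helper15), GC (helper14), MULT (helper25: I, IIa; helper17: IIb).
-/
import Mathlib
import Cfsg.Agent.Lib.Helper11.Su2Tools
import Cfsg.Agent.Lib.Helper22.Su2S1BOf
import Cfsg.Agent.Lib.Helper24.Su2P1
import Cfsg.Agent.Lib.Helper15.Su2QR
import Cfsg.Agent.Lib.Helper15.Su2T2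
import Cfsg.Agent.Lib.Helper14.Su2GC
import Cfsg.Agent.Lib.Helper25.Su2MULTI
import Cfsg.Agent.Lib.Helper25.Su2MULTIIa
import Cfsg.Agent.Lib.Helper17.Su2MULTIIb

set_option autoImplicit false

open MulAction Pointwise Cfsg.Agent.Lib.Helper11.Su2

namespace Cfsg.Agent.Lib.Helper22.Su2Leaf

variable {F V G : Type*} [Field F] [AddCommGroup V] [Module F V] [Group G] [DistribMulAction G V]
variable (S : Setting F V G)

/-- MULT assembled: multiplicity three for totally singular `F x ⊆ U ⊆ x^⊥` with `|U| ≥ 32`. -/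
theorem mult_all [Finite V] {n : ℕ} (hV : Nat.card V = 4 ^ n) (hn : 6 ≤ n) {x : V} (hx0 : x ≠ 0)
    (hx : S.h x x = 0) (U : AddSubgroup V) (hxU : ∀ a : F, a • x ∈ U)
    (hUx : ∀ u ∈ U, S.h u x = 0) (hU0 : ∀ u ∈ U, S.h u u = 0) (hcard : 32 ≤ Nat.card U) :
    ∃ u0 ∈ U, (∀ a : F, u0 ≠ a • x) ∧ ∃ g : Fin 3 → G, (∀ i, g i • x = x) ∧
      (∀ i, u0 ∈ g i • (U : Set V)) ∧ Function.Injective (fun i => g i • (U : Set V)) := by
  by_cases hom : ∀ u ∈ U, S.om • u ∈ U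
  · exact Cfsg.Agent.Lib.Helper25.Su2Leaf.mult_I S hV hn hx0 hx U hxU hUx hU0 hcard hom
  · have hom' := hom
    simp only [not_forall] at hom'
    obtain ⟨w1, hw1, hw1'⟩ := hom'
    by_cases hperp : ∀ u ∈ U, S.h u w1 = 0
    · exact Cfsg.Agent.Lib.Helper25.Su2Leaf.mult_IIa S hV hn hx0 hx U hxU hUx hU0 hcard hw1 hw1'
        hperp
    · have hperp' := hperp
      simp only [not_forall] at hperp'
      obtain ⟨z0, hz0, hz0'⟩ := hperp'
      exact Cfsg.Agent.Lib.Helper17.Su2Leaf.mult_IIb S hV hn hx0 hx U hxU hUx hU0 hcard hw1 hw1'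
        hz0 hz0'

theorem relIndex_ge_of_inf_ne_bot [Finite V] [Finite G] {n : ℕ} (hV : Nat.card V = 4 ^ n)
    (hI : Nat.card {v : V // S.h v v = 0} = 2 ^ (2 * n - 1) + 2 ^ (n - 1)) (hn : 6 ≤ n)
    (H : Subgroup G) {x : V} (hx0 : x ≠ 0) (hx : S.h x x = 0) (htv : S.tv x ∉ H)
    (hne : H ⊓ S.Qx hx ≠ ⊥) : 2 ^ (n - 1) * (2 ^ n - 1) ≤ 3 * H.relIndex (stabilizer G x) := by
  refine relIndex_ge_of_inf_ne_bot_of S hV hn H hx0 hx htv hne
    (Cfsg.Agent.Lib.Helper24.Su2Leaf.card_mul_card_perp S _)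
    (Cfsg.Agent.Lib.Helper15.Su2Leaf.relIndex_Qx_mul_card_Dt_of_not_mem S hV H hx0 hx htv)
    (Cfsg.Agent.Lib.Helper14.Su2Leaf.card_S0 S hV hI hn hx0 hx)
    (fun a b ha hb hN ha' hb' =>
      Cfsg.Agent.Lib.Helper15.Su2Leaf.exists_stab_smul_eq S hV hn hx0 hx ha hb hN ha' hb')
    (fun h32 => mult_all S hV hn hx0 hx (S.Dt H hx) (S.smul_self_mem_Dt H hx) (S.Dt_le_perp hx)
      (fun u hu => S.h_self_of_mem_Dt hx htv hu) h32)

end Cfsg.Agent.Lib.Helper22.Su2Leaf
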