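import Mathlib
import Cfsg.Agent.Lib.Helper5.UOGDefs

/-!
helper22: S5681 / S5709 part (G), block C leaves of `notes/S5681_G_leaves.lean` (helper5's market):
`InA_symm`, `InA_smul_left`, `InA_of_smul_left`, `InA_self`, `InA_zero`, `InA_sum`, `exists_egenG`, `egen_move`.
-/

set_option autoImplicit false
set_option linter.unusedSectionVars false
set_option linter.unusedVariables false

namespace Cfsg.Agent.Lib.Helper22.UOGLeaf
open Matrix QuadraticMap Module
open Cfsg.Agent.Lib.Helper25.Tens Cfsg.Agent.Lib.Helper2.SOT Cfsg.Agent.Lib.Helper7.OTT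
  Cfsg.Agent.Lib.Helper25.CD Cfsg.Agent.Lib.Helper5.NSMax Cfsg.Agent.Lib.Helper5.PairMax
  Cfsg.Agent.Lib.Helper5.TSMax Cfsg.Agent.Lib.Helper5.NDMax Cfsg.Agent.Lib.Helper5.UOG
open scoped Kronecker

section calculus
variable {ι : Type} [Fintype ι] [DecidableEq ι] {F : Type*} [Field F] [Fintype F]
  {Q : QuadraticForm F (ι → F)} {M' : Subgroup ↥(Cfsg.isometryGroup F ⇑Q)}

/-- (C1) symmetry: `T_{u,v}(c) = T_{v,u}(-c)` for singular orthogonal `u, v` -/
theorem InA_symm {u v : ι → F} (hu : Q u = 0) (hv : Q v = 0) (huv : polar Q u v = 0)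
    (h : InA Q M' u v) : InA Q M' v u := by
  intro c
  obtain ⟨g, hg, hgx⟩ := h (-c)
  refine ⟨g, hg, fun x => ?_⟩
  rw [hgx]
  unfold egen
  simp only [QuadraticMap.map_smul, hu, hv, polar_smul_left, smul_eq_mul, mul_zero, zero_mul,
    zero_smul, sub_zero]
  match_scalars <;> ring

/-- (C2) `egen Q (t • u) (c • y) = egen Q u ((t * c) • y)` -/
theorem InA_smul_left {u y : ι → F} (t : F) (h : InA Q M' u y) : InA Q M' (t • u) y := by
  intro c
  obtain ⟨g, hg, hgx⟩ := h (t * c)
  refine ⟨g, hg, fun x => ?_⟩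
  rw [hgx]
  unfold egen
  simp only [QuadraticMap.map_smul, polar_smul_left, smul_eq_mul]
  match_scalars <;> ring

/-- (C2') converse for `t ≠ 0` -/
theorem InA_of_smul_left {u y : ι → F} {t : F} (ht : t ≠ 0) (h : InA Q M' (t • u) y) :
    InA Q M' u y := by
  have := InA_smul_left t⁻¹ h
  rwa [smul_smul, inv_mul_cancel₀ ht, one_smul] at this

/-- (C3) `egen Q u (c • u) = id` for singular `u`; `egen Q u 0 = id` -/
theorem InA_self {u : ι → F} (hu : Q u = 0) : InA Q M' u u := by
  intro c
  refine ⟨1, M'.one_mem, fun x => ?_⟩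
  rw [map_one, LinearEquiv.coe_one, id_eq]
  unfold egen
  simp only [QuadraticMap.map_smul, hu, polar_smul_left, smul_eq_mul, mul_zero, zero_mul,
    zero_smul, sub_zero]
  match_scalars <;> ring

theorem InA_zero (u : ι → F) : InA Q M' u 0 := by
  intro c
  refine ⟨1, M'.one_mem, fun x => ?_⟩
  rw [map_one, LinearEquiv.coe_one, id_eq]
  unfold egen
  simp

/-- (C4) finite sums -/
theorem InA_sum {α : Type*} (s : Finset α) {u : ι → F} (f : α → ι → F) (hu : Q u = 0)
    (h : ∀ i ∈ s, polar Q u (f i) = 0 ∧ InA Q M' u (f i)) : InA Q M' u (∑ i ∈ s, f i) := by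
  classical
  induction s using Finset.induction_on with
  | empty => simpa using InA_zero u
  | insert a s ha ih =>
    rw [Finset.sum_insert ha]
    have hs : ∀ i ∈ s, polar Q u (f i) = 0 ∧ InA Q M' u (f i) :=
      fun i hi => h i (Finset.mem_insert_of_mem hi)
    have hpol : polar Q u (∑ i ∈ s, f i) = 0 := by
      have : polar Q u (∑ i ∈ s, f i) = ∑ i ∈ s, polar Q u (f i) :=
        map_sum (polarBilin Q u) f s
      rw [this]
      exact Finset.sum_eq_zero fun i hi => (hs i hi).1
    exact InA.add hu (h a (Finset.mem_insert_self a s)).1 hpol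
      (h a (Finset.mem_insert_self a s)).2 (ih hs)

theorem egen_zero_right (Q : QuadraticForm F (ι → F)) (u x : ι → F) : egen Q u 0 x = x := by
  unfold egen
  simp

theorem Q_egen (Q : QuadraticForm F (ι → F)) {u y : ι → F} (hu : Q u = 0)
    (huy : polar Q u y = 0) (x : ι → F) : Q (egen Q u y x) = Q x := by
  have e : egen Q u y x = (x + polar Q u x • y) + (-(polar Q y x + Q y * polar Q u x)) • u := by
    unfold egen
    module
  rw [e, Cfsg.Agent.Lib.Helper25.MaxTS.Q_add, Cfsg.Agent.Lib.Helper25.MaxTS.Q_add,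
    QuadraticMap.map_smul, QuadraticMap.map_smul, hu]
  simp only [polar_add_left, polar_smul_left, polar_smul_right, smul_eq_mul, polar_comm Q y u,
    huy, polar_comm Q x u, polar_comm Q x y]
  ring

/-- the generalised Siegel map as a linear equivalence -/
noncomputable def egenE (Q : QuadraticForm F (ι → F)) {u y : ι → F} (hu : Q u = 0)
    (huy : polar Q u y = 0) : (ι → F) ≃ₗ[F] (ι → F) where
  toFun := egen Q u y
  map_add' x x' := by
    unfold egen
    simp only [polar_add_right]
    module
  map_smul' c x := by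
    unfold egen
    simp only [polar_smul_right, RingHom.id_apply, smul_eq_mul]
    module
  invFun := egen Q u (-y)
  left_inv x := by
    have h' : polar Q u (-y) = 0 := by rw [polar_neg_right, huy, neg_zero]
    rw [egen_add Q hu h' huy, neg_add_cancel, egen_zero_right]
  right_inv x := by
    have h' : polar Q u (-y) = 0 := by rw [polar_neg_right, huy, neg_zero]
    rw [egen_add Q hu huy h', add_neg_cancel, egen_zero_right]

theorem egenE_apply (Q : QuadraticForm F (ι → F)) {u y : ι → F} (hu : Q u = 0)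
    (huy : polar Q u y = 0) (x : ι → F) : egenE Q hu huy x = egen Q u y x := rfl

/-- (E1) the generalised Siegel map `egen Q u y` (`u` singular, `y ⊥ u`) is an element of the isometry group -/
theorem exists_egenG (Q : QuadraticForm F (ι → F)) {u y : ι → F} (hu : Q u = 0)
    (huy : polar Q u y = 0) :
    ∃ g : ↥(Cfsg.isometryGroup F ⇑Q), ∀ x, toOG Q g x = egen Q u y x := by
  have hmem : egenE Q hu huy ∈ OG Q := fun x => Q_egen Q hu huy x
  exact ⟨ofOG Q _ hmem, fun x => by rw [toOG_ofOG, egenE_apply]⟩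

/-- (T2) moving singular vectors -/
theorem egen_move {s w w' : ι → F} (hs : Q s = 0) (hw : Q w = 0) (hw' : Q w' = 0)
    (h1 : polar Q s w = 1) (h2 : polar Q s w' = 1) : egen Q s (w' - w) w = w' := by
  unfold egen
  have hww : polar Q w w = 0 := pself Q hw
  rw [Q_sub', hw, hw', polar_sub_left, h1, hww, polar_comm Q w' w]
  match_scalars <;> ring

end calculus

end Cfsg.Agent.Lib.Helper22.UOGLeaf
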