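import Mathlib

/-!
helper22: the number of Sylow `p`-subgroups does not change when passing to a normal subgroup of
index prime to `p`, or to a quotient by a normal subgroup normalizing every Sylow `p`-subgroup.
-/

set_option autoImplicit false

namespace Cfsg.Agent.Lib.Helper22.SylowCount

open Subgroup MulAction

universe u

variable {G : Type u} [Group G] [Finite G] {p : ℕ} [hp : Fact p.Prime]

/-- A Sylow `p`-subgroup is contained in every normal subgroup of index prime to `p`. -/
theorem sylow_le_of_normal_of_not_dvd_index (Y : Subgroup G) [Y.Normal] (h : ¬ p ∣ Y.index)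
    (P : Sylow p G) : (P : Subgroup G) ≤ Y := by
  intro g hg
  have h1 : orderOf ((QuotientGroup.mk' Y) g) ∣ orderOf g := orderOf_map_dvd _ g
  obtain ⟨k, hk⟩ := (IsPGroup.iff_orderOf.mp P.2) ⟨g, hg⟩
  have hk' : orderOf g = p ^ k := by
    have := Subgroup.orderOf_mk g hg
    rw [← this]; exact hk
  have h2 : orderOf ((QuotientGroup.mk' Y) g) ∣ Y.index := by
    rw [Subgroup.index_eq_card]
    exact orderOf_dvd_natCard _
  have hcop : Nat.Coprime (p ^ k) Y.index :=
    Nat.Coprime.pow_left k ((Nat.Prime.coprime_iff_not_dvd hp.out).mpr h)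
  have h3 : orderOf ((QuotientGroup.mk' Y) g) = 1 := by
    have := Nat.dvd_gcd (hk' ▸ h1) h2
    rw [hcop] at this
    exact Nat.dvd_one.mp this
  rw [orderOf_eq_one_iff] at h3
  exact (QuotientGroup.eq_one_iff g).mp h3

/-- Passing to a normal subgroup of index prime to `p` does not change the number of Sylow
`p`-subgroups. -/
theorem card_sylow_subgroup_eq (Y : Subgroup G) [Y.Normal] (h : ¬ p ∣ Y.index) :
    Nat.card (Sylow p Y) = Nat.card (Sylow p G) := by
  symm
  apply Nat.card_congr
  refine Equiv.ofBijective
    (fun P : Sylow p G => P.subtype (sylow_le_of_normal_of_not_dvd_index Y h P)) ⟨?_, ?_⟩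
  · intro P Q hPQ
    exact Sylow.subtype_injective hPQ
  · intro Q
    obtain ⟨P, hP⟩ := Q.exists_comap_subtype_eq
    refine ⟨P, ?_⟩
    apply Sylow.ext
    rw [← hP]
    rfl

/-- Passing to the quotient by a normal subgroup that normalizes every Sylow `p`-subgroup does not
change the number of Sylow `p`-subgroups. -/
theorem card_sylow_quotient_eq (K : Subgroup G) [K.Normal]
    (hK : ∀ P : Sylow p G, K ≤ Subgroup.normalizer ((P : Subgroup G) : Set G)) :
    Nat.card (Sylow p (G ⧸ K)) = Nat.card (Sylow p G) := by
  symm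
  apply Nat.card_congr
  have hsurj : Function.Surjective (QuotientGroup.mk' K) := QuotientGroup.mk'_surjective K
  refine Equiv.ofBijective (fun P : Sylow p G => P.mapSurjective hsurj) ⟨?_, ?_⟩
  · intro P Q hPQ
    have h1 : (P : Subgroup G).map (QuotientGroup.mk' K) = (Q : Subgroup G).map (QuotientGroup.mk' K) := by
      have := congrArg (fun S : Sylow p (G ⧸ K) => (S : Subgroup (G ⧸ K))) hPQ
      simpa using this
    have h2 : (P : Subgroup G) ⊔ K = (Q : Subgroup G) ⊔ K := by
      have := congrArg (Subgroup.comap (QuotientGroup.mk' K)) h1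
      rwa [Subgroup.comap_map_eq, Subgroup.comap_map_eq, QuotientGroup.ker_mk'] at this
    have h3 : (Q : Subgroup G) ≤ Subgroup.normalizer ((P : Subgroup G) : Set G) := by
      have : (Q : Subgroup G) ≤ (P : Subgroup G) ⊔ K := by rw [h2]; exact le_sup_left
      exact this.trans (sup_le Subgroup.le_normalizer (hK P))
    have h4 : (Q : Subgroup G) ≤ P := by
      rw [← Q.2.sylow_mem_fixedPoints_iff, Subgroup.sylow_mem_fixedPoints_iff]
      exact h3
    exact (Sylow.ext (Q.3 P.2 h4)).symm ▸ rfl
  · exact Sylow.mapSurjective_surjective hsurj p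

end Cfsg.Agent.Lib.Helper22.SylowCount
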