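import Mathlib
import Cfsg.Agent.Lib.Helper12.RealPDefs

/-!
# S4861 leaf Q2: `ℓ`-elements lift through quotients, `O^{ℓ'}(G) M / M = O^{ℓ'}(G / M)`
-/

set_option autoImplicit false

namespace Cfsg.Agent.Lib.Helper22.RealP

open Cfsg Cfsg.Agent.Lib.Helper12.RealP

universe u

variable {G : Type u} [Group G] [Finite G]

/-- An `ℓ`-element of the image of a surjective homomorphism lifts to an element of `Ogen ℓ G`. -/
theorem exists_mem_Ogen_map_eq (ℓ : ℕ) [Fact ℓ.Prime] {H : Type*} [Group H] (f : G →* H)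
    (g : G) {k : ℕ} (hk : orderOf (f g) = ℓ ^ k) :
    ∃ x ∈ Ogen ℓ G, f x = f g := by
  have hℓ : ℓ.Prime := Fact.out
  have hpos : 0 < orderOf g := orderOf_pos g
  obtain ⟨a, m, hm, hgm⟩ := Nat.exists_eq_pow_mul_and_not_dvd hpos.ne' ℓ hℓ.ne_one
  have hm0 : m ≠ 0 := by
    rintro rfl
    rw [mul_zero] at hgm
    exact hpos.ne' hgm
  have hord : orderOf (g ^ m) = ℓ ^ a := by
    rw [orderOf_pow_of_dvd hm0 ⟨ℓ ^ a, by rw [hgm, mul_comm]⟩, hgm,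
      Nat.mul_div_cancel _ (Nat.pos_of_ne_zero hm0)]
  have hmem : g ^ m ∈ Ogen ℓ G := mem_Ogen_of_orderOf ℓ hord
  have hcop : Nat.Coprime m (orderOf (f g)) := by
    rw [hk]
    exact (Nat.Coprime.pow_left k ((Nat.Prime.coprime_iff_not_dvd hℓ).mpr hm)).symm
  obtain ⟨r, hr⟩ := exists_pow_eq_self_of_coprime hcop
  refine ⟨(g ^ m) ^ r, pow_mem hmem r, ?_⟩
  rw [map_pow, map_pow, hr]

/-- **Q2**: `ℓ`-elements lift through quotients. -/
theorem ogen_map_mk (ℓ : ℕ) [Fact ℓ.Prime] (M : Subgroup G) [M.Normal] :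
    (Ogen ℓ G).map (QuotientGroup.mk' M) = Ogen ℓ (G ⧸ M) := by
  have hℓ : ℓ.Prime := Fact.out
  apply le_antisymm
  · unfold Ogen
    rw [MonoidHom.map_closure]
    apply Subgroup.closure_mono
    rintro _ ⟨g, ⟨k, hk⟩, rfl⟩
    have hdvd : orderOf (QuotientGroup.mk' M g) ∣ ℓ ^ k := hk ▸ orderOf_map_dvd _ g
    obtain ⟨j, -, hj⟩ := (Nat.dvd_prime_pow hℓ).mp hdvd
    exact ⟨j, hj⟩
  · change Subgroup.closure {g : G ⧸ M | ∃ k : ℕ, orderOf g = ℓ ^ k} ≤ _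
    rw [Subgroup.closure_le]
    rintro y ⟨k, hk⟩
    obtain ⟨g, rfl⟩ := QuotientGroup.mk'_surjective M y
    obtain ⟨x, hx, hxg⟩ := exists_mem_Ogen_map_eq ℓ (QuotientGroup.mk' M) g hk
    exact ⟨x, hx, hxg⟩

/-- The statement copied verbatim from `notes/S4861_leaves.lean`. -/
example (ℓ : ℕ) [Fact ℓ.Prime] (M : Subgroup G) [M.Normal] :
    (Ogen ℓ G).map (QuotientGroup.mk' M) = Ogen ℓ (G ⧸ M) := ogen_map_mk ℓ M

end Cfsg.Agent.Lib.Helper22.RealP
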