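import Mathlib
import Cfsg.Prelude.Def_Blocks
import Cfsg.Agent.Lib.Helper12.RealPDefs
import Cfsg.Agent.Lib.Helper21.BGChar
import Cfsg.Agent.Lib.Helper22.RealPQ2

/-!
# S4861 leaf Q1: the hypothesis `Hyp p G` passes to quotients
-/

set_option autoImplicit false

namespace Cfsg.Agent.Lib.Helper22.RealP

open Cfsg Cfsg.Agent.Lib.Helper12.RealP

universe u

variable {G : Type u} [Group G] [Finite G]

/-- **Q1**: the hypothesis passes to quotients. -/
theorem hyp_quotient (p : ℕ) [Fact p.Prime] (M : Subgroup G) [M.Normal] (h : Hyp p G) :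
    Hyp p (G ⧸ M) := by
  obtain ⟨hsolv, hreal⟩ := h
  refine ⟨?_, ?_⟩
  · have hsurj : Function.Surjective ((QuotientGroup.mk' M).subgroupMap (Ogen p G)) :=
      MonoidHom.subgroupMap_surjective _ _
    have h1 : Group.IsSolvable ↥((Ogen p G).map (QuotientGroup.mk' M)) :=
      Group.isSolvable_of_surjective hsurj
    rw [ogen_map_mk p M] at h1
    exact h1
  · intro χ hχ
    have hirr : IsIrrCharacter G (fun a => (χ : G ⧸ M → ℂ) (QuotientGroup.mk' M a)) :=
      Cfsg.Agent.Lib.Helper21.BG.isIrrCharacter_comp (QuotientGroup.mk' M)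
        (QuotientGroup.mk'_surjective M) χ
    have h2 := hreal ⟨_, hirr⟩ (fun g => hχ _)
    have h3 : charDegree (fun a => (χ : G ⧸ M → ℂ) (QuotientGroup.mk' M a)) =
        charDegree (χ : G ⧸ M → ℂ) := by
      unfold charDegree
      simp
    rw [← h3]
    exact h2

/-- The statement copied verbatim from `notes/S4861_leaves.lean`. -/
example (p : ℕ) [Fact p.Prime] (M : Subgroup G) [M.Normal] (h : Hyp p G) :
    Hyp p (G ⧸ M) := hyp_quotient p M h

end Cfsg.Agent.Lib.Helper22.RealP
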