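/-
helper22: S4865 leaf (M10) for planner helper12: a subgroup of `N_G(P)` has `p'`-index in `N_G(P)`
iff it contains `P`.
-/
import Mathlib
import Cfsg.Prelude.Def_Blocks
import Cfsg.Agent.Lib.Helper12.RealNDefs

set_option autoImplicit false

namespace Cfsg.Agent.Lib.Helper22.RealM

open Cfsg Cfsg.Agent.Lib.Helper12.RealN

universe u

variable {G : Type u} [Group G] [Finite G]

/-- (M10) `P` is the normal Sylow `p`-subgroup of `N_G(P)`: a subgroup `S ≤ N_G(P)`
has `p'`-index in `N_G(P)` iff it contains `P`. -/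
theorem le_iff_not_dvd_relIndex (p : ℕ) [Fact p.Prime] (P : Sylow p G) (S : Subgroup G)
    (hS : S ≤ NP P) : (P : Subgroup G) ≤ S ↔ ¬ p ∣ S.relIndex (NP P) := by
  constructor
  · intro hPS hdvd
    have h1 : (P : Subgroup G).relIndex S * S.relIndex (NP P) = (P : Subgroup G).relIndex (NP P) :=
      Subgroup.relIndex_mul_relIndex _ _ _ hPS hS
    have h2 : (P : Subgroup G).relIndex (NP P) ∣ (P : Subgroup G).index :=
      Subgroup.relIndex_dvd_index_of_le Subgroup.le_normalizer
    have h3 : ¬ p ∣ (P : Subgroup G).index := P.not_dvd_index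
    exact h3 (dvd_trans (dvd_trans hdvd (Dvd.intro_left _ h1)) h2)
  · intro hnd
    have hP' : IsPGroup p ↥((P : Subgroup G).subgroupOf (NP P)) := P.isPGroup'.comap_subtype
    have hcard : ¬ p ∣ Nat.card (↥(NP P) ⧸ S.subgroupOf (NP P)) := hnd
    obtain ⟨q, hq⟩ := hP'.nonempty_fixed_point_of_prime_not_dvd_card
      (↥(NP P) ⧸ S.subgroupOf (NP P)) hcard
    induction q using QuotientGroup.induction_on with
    | H n =>
      have key : ∀ x : G, x ∈ (P : Subgroup G) → (n : G)⁻¹ * x⁻¹ * (n : G) ∈ S := by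
        intro x hx
        have hxN : x ∈ NP P := Subgroup.le_normalizer hx
        have hx' : (⟨x, hxN⟩ : ↥(NP P)) ∈ (P : Subgroup G).subgroupOf (NP P) := by
          rw [Subgroup.mem_subgroupOf]; exact hx
        have := hq ⟨⟨x, hxN⟩, hx'⟩
        have h2 : (((⟨x, hxN⟩ : ↥(NP P)) * n : ↥(NP P)) : ↥(NP P) ⧸ S.subgroupOf (NP P)) =
            (n : ↥(NP P) ⧸ S.subgroupOf (NP P)) := this
        rw [QuotientGroup.eq, Subgroup.mem_subgroupOf] at h2
        simpa [mul_assoc] using h2
      intro y hy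
      have hn := (Subgroup.mem_normalizer_iff.mp n.2 y).mp hy
      have := key (((n : G) * y * (n : G)⁻¹)⁻¹) ((P : Subgroup G).inv_mem hn)
      simpa [mul_assoc] using this

end Cfsg.Agent.Lib.Helper22.RealM
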