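/-
helper22: S4865 leaf (M7) for planner helper12: Sylow counting `|G : I| ≡ |N_G(P) : N_I(P)| (mod p)`.
-/
import Mathlib
import Cfsg.Prelude.Def_Blocks
import Cfsg.Agent.Lib.Helper12.RealNDefs

set_option autoImplicit false

namespace Cfsg.Agent.Lib.Helper22.RealM

open Cfsg Cfsg.Agent.Lib.Helper12.RealN

universe u

variable {G : Type u} [Group G] [Finite G]

/-- (M7) For `P ≤ I`: `|G : I| ≡ |N_G(P) : N_I(P)| (mod p)`. -/
theorem index_modEq_relIndex (p : ℕ) [Fact p.Prime] (P : Sylow p G) (I : Subgroup G)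
    (hPI : (P : Subgroup G) ≤ I) : I.index ≡ I.relIndex (NP P) [MOD p] := by
  have h1 : (NP P).index ≡ 1 [MOD p] := by
    have := card_sylow_modEq_one p G
    rwa [Sylow.card_eq_index_normalizer P] at this
  have h2 : (NP P).relIndex I ≡ 1 [MOD p] := by
    have := card_sylow_modEq_one p ↥I
    rw [Sylow.card_eq_index_normalizer (P.subtype hPI)] at this
    have e : Subgroup.normalizer ((P.subtype hPI : Sylow p ↥I) : Set ↥I) =
        (NP P).subgroupOf I :=
      (Subgroup.subgroupOf_normalizer_eq hPI).symm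
    rw [e] at this
    exact this
  have h3 : I.index * (NP P).relIndex I = (NP P).index * I.relIndex (NP P) := by
    have a1 : (I ⊓ NP P).relIndex I * I.index = (I ⊓ NP P).index :=
      Subgroup.relIndex_mul_index inf_le_left
    have a2 : (I ⊓ NP P).relIndex (NP P) * (NP P).index = (I ⊓ NP P).index :=
      Subgroup.relIndex_mul_index inf_le_right
    rw [Subgroup.inf_relIndex_left] at a1
    rw [Subgroup.inf_relIndex_right] at a2
    rw [mul_comm, a1, mul_comm, a2]
  calc I.index = I.index * 1 := (mul_one _).symm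
    _ ≡ I.index * (NP P).relIndex I [MOD p] := Nat.ModEq.mul_left _ h2.symm
    _ = (NP P).index * I.relIndex (NP P) := h3
    _ ≡ 1 * I.relIndex (NP P) [MOD p] := Nat.ModEq.mul_right _ h1
    _ = I.relIndex (NP P) := one_mul _

end Cfsg.Agent.Lib.Helper22.RealM
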