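import Mathlib
import Cfsg.Agent.Lib.Helper12.RealPDefs

/-!
# S4864 leaves (N1) `odd_index_Ogen_two` and (N2) `real_mem_of_odd_index`
-/

set_option autoImplicit false

namespace Cfsg.Agent.Lib.Helper22.RealN

open Cfsg Cfsg.Agent.Lib.Helper12.RealP

universe u

variable {G : Type u} [Group G] [Finite G]

/-- (N1) `O^{2'}(G)` has odd index. -/
theorem odd_index_Ogen_two : Odd (Ogen 2 G).index := by
  have : Fact (Nat.Prime 2) := ⟨Nat.prime_two⟩
  let S : Sylow 2 G := default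
  have hle : (S : Subgroup G) ≤ Ogen 2 G := by
    intro x hx
    obtain ⟨k, hk⟩ := (IsPGroup.iff_orderOf.mp S.2) ⟨x, hx⟩
    have hk' : orderOf x = 2 ^ k := by
      rw [← hk]; exact (Subgroup.orderOf_mk x hx).symm
    exact mem_Ogen_of_orderOf 2 hk'
  have hdvd : (Ogen 2 G).index ∣ (S : Subgroup G).index := Subgroup.index_dvd_of_le hle
  have hS : Odd (S : Subgroup G).index := by
    rw [← Nat.not_even_iff_odd, even_iff_two_dvd]
    exact S.not_dvd_index
  exact Odd.of_dvd_nat hS hdvd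

omit [Finite G] in
/-- An element with a `2`-power power in a normal subgroup of odd index lies in it. -/
theorem mem_of_pow_two_pow_mem (K : Subgroup G) [hK : K.Normal] (hodd : Odd K.index) {y : G}
    (a : ℕ) (hy : y ^ 2 ^ a ∈ K) : y ∈ K := by
  rw [← QuotientGroup.eq_one_iff] at hy ⊢
  rw [QuotientGroup.mk_pow] at hy
  have h1 : orderOf (y : G ⧸ K) ∣ 2 ^ a := orderOf_dvd_of_pow_eq_one hy
  have h2 : orderOf (y : G ⧸ K) ∣ K.index := by
    rw [Subgroup.index_eq_card]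
    exact orderOf_dvd_natCard _
  have h3 : orderOf (y : G ⧸ K) ∣ Nat.gcd (2 ^ a) K.index := Nat.dvd_gcd h1 h2
  have h4 : Nat.gcd (2 ^ a) K.index = 1 :=
    Nat.Coprime.pow_left a (Nat.coprime_two_left.mpr hodd)
  rw [h4, Nat.dvd_one] at h3
  exact orderOf_eq_one_iff.mp h3

/-- (N2) A real element of `G` lies in every normal subgroup `K` of odd index and is real in
`K`. -/
theorem real_mem_of_odd_index (K : Subgroup G) [hK : K.Normal] (hodd : Odd K.index) {x : G}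
    (hx : IsConj x x⁻¹) :
    ∃ hxK : x ∈ K, IsConj (⟨x, hxK⟩ : ↥K) (⟨x, hxK⟩ : ↥K)⁻¹ := by
  obtain ⟨g, hg⟩ := isConj_iff.mp hx
  have hpos : 0 < orderOf g := orderOf_pos g
  obtain ⟨a, m, hm, hn⟩ := Nat.exists_eq_two_pow_mul_odd hpos.ne'
  obtain ⟨i, hi⟩ := hm
  -- `g ^ 2` commutes with `x`
  have hg2 : Commute (g ^ 2) x := by
    have h1 : g * x = x⁻¹ * g := by
      calc g * x = (g * x * g⁻¹) * g := by group
        _ = x⁻¹ * g := by rw [hg]
    have h2' : g * x⁻¹ * g⁻¹ = x := by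
      have : g * x⁻¹ * g⁻¹ = (g * x * g⁻¹)⁻¹ := by group
      rw [this, hg, inv_inv]
    have h2 : g * x⁻¹ = x * g := by
      calc g * x⁻¹ = (g * x⁻¹ * g⁻¹) * g := by group
        _ = x * g := by rw [h2']
    show g ^ 2 * x = x * g ^ 2
    rw [pow_two, mul_assoc, h1, ← mul_assoc, h2, mul_assoc]
  set t : G := g ^ m with ht
  have htx : t * x * t⁻¹ = x⁻¹ := by
    have h3 : t = (g ^ 2) ^ i * g := by rw [ht, hi, pow_succ, pow_mul]
    have h4 : Commute ((g ^ 2) ^ i) x⁻¹ := (hg2.pow_left i).inv_right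
    rw [h3]
    calc (g ^ 2) ^ i * g * x * ((g ^ 2) ^ i * g)⁻¹
        = (g ^ 2) ^ i * (g * x * g⁻¹) * ((g ^ 2) ^ i)⁻¹ := by group
      _ = (g ^ 2) ^ i * x⁻¹ * ((g ^ 2) ^ i)⁻¹ := by rw [hg]
      _ = x⁻¹ := by rw [h4.eq]; group
  have htK : t ∈ K := by
    apply mem_of_pow_two_pow_mem K hodd a
    have : t ^ 2 ^ a = 1 := by
      rw [ht, ← pow_mul, mul_comm, ← hn, pow_orderOf_eq_one]
    rw [this]; exact one_mem K
  have hxK : x ∈ K := by
    have h5 : x⁻¹ ^ 2 ^ 1 ∈ K := by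
      have h6 : x⁻¹ ^ 2 ^ 1 = t * (x * t⁻¹ * x⁻¹) := by
        rw [pow_one, pow_two]
        nth_rewrite 1 [← htx]
        group
      rw [h6]
      exact mul_mem htK (hK.conj_mem _ (inv_mem htK) x)
    have := mem_of_pow_two_pow_mem K hodd 1 h5
    simpa using inv_mem this
  refine ⟨hxK, isConj_iff.mpr ⟨⟨t, htK⟩, ?_⟩⟩
  apply Subtype.ext
  simp only [Subgroup.coe_mul, Subgroup.coe_inv]
  exact htx

/-- The statements copied verbatim from `notes/S4864_leaves.lean`. -/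
example : Odd (Ogen 2 G).index := odd_index_Ogen_two

example (K : Subgroup G) [hK : K.Normal] (hodd : Odd K.index) {x : G}
    (hx : IsConj x x⁻¹) :
    ∃ hxK : x ∈ K, IsConj (⟨x, hxK⟩ : ↥K) (⟨x, hxK⟩ : ↥K)⁻¹ :=
  real_mem_of_odd_index K hodd hx

end Cfsg.Agent.Lib.Helper22.RealN
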