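/-
helper22: S3385 market "SIMS", leaf SIMS-T2A `inf_eq_coreIn`.
`D, D' ≤ B` distinct 2-subgroups of index 3, `|D : core_B(D)| = 2`  ⇒  `D ⊓ D' = core_B(D)`.
`K := core_B(D)` is a 2-group normalized by `D'`, so `K ⊔ D'` is a 2-subgroup of `B` containing `D'`; its order
divides `|B| = 3 |D'|`, hence equals `|D'|`: `K ≤ D'`.  Then `K ≤ D ⊓ D' < D` and `|D : K| = 2`.
-/
import Mathlib
import Cfsg.Agent.Lib.Helper18.Sims3Defs

set_option autoImplicit false

namespace Cfsg.Agent.Lib.Helper22.SIMST2A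

open Cfsg Cfsg.Agent.Lib.Helper29.TWPair Cfsg.Agent.Lib.Helper18.Sims3 MulAction

variable {G : Type*} [Group G]

/-- `|H| · |K : H| = |K|` for `H ≤ K` -/
theorem card_mul_relIndex' {H K : Subgroup G} (h : H ≤ K) :
    Nat.card ↥H * H.relIndex K = Nat.card ↥K := by
  have := Subgroup.relIndex_mul_relIndex (⊥ : Subgroup G) H K bot_le h
  rw [Subgroup.relIndex_bot_left, Subgroup.relIndex_bot_left] at this
  exact this

/-- LEAF T2A. -/
theorem inf_eq_coreIn [Finite G] {B D D' : Subgroup G} (hD : D ≤ B) (hD' : D' ≤ B)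
    (h2 : IsPGroup 2 ↥D) (h2' : IsPGroup 2 ↥D') (hi : D.relIndex B = 3) (hi' : D'.relIndex B = 3)
    (hne : D ≠ D') (hc : (coreIn B D).relIndex D = 2) : D ⊓ D' = coreIn B D := by
  have hKD : coreIn B D ≤ D := coreIn_le_right B D
  have hKB : coreIn B D ≤ B := coreIn_le_left B D
  have cB : Nat.card ↥D * 3 = Nat.card ↥B := by rw [← hi]; exact card_mul_relIndex' hD
  have cB' : Nat.card ↥D' * 3 = Nat.card ↥B := by rw [← hi']; exact card_mul_relIndex' hD'
  have cDD' : Nat.card ↥D = Nat.card ↥D' := by omega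
  have cD : Nat.card ↥(coreIn B D) * 2 = Nat.card ↥D := by rw [← hc]; exact card_mul_relIndex' hKD
  have hD'pos : 0 < Nat.card ↥D' := Nat.card_pos
  have hKpos : 0 < Nat.card ↥(coreIn B D) := Nat.card_pos
  -- `K ≤ D'`
  have hKn : D' ≤ Subgroup.normalizer ((coreIn B D : Subgroup G) : Set G) :=
    hD'.trans (le_normalizer_coreIn B D)
  have hKp : IsPGroup 2 ↥(coreIn B D) := h2.to_le hKD
  have hS : IsPGroup 2 ↥(coreIn B D ⊔ D' : Subgroup G) :=
    IsPGroup.to_sup_of_normal_left' hKp h2' hKn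
  have hSB : coreIn B D ⊔ D' ≤ B := sup_le hKB hD'
  have hD'S : D' ≤ coreIn B D ⊔ D' := le_sup_right
  have hSeq : coreIn B D ⊔ D' = D' := by
    symm
    apply Subgroup.eq_of_le_of_card_ge hD'S
    obtain ⟨m, hm⟩ := (IsPGroup.iff_card (p := 2)).mp hS
    have hdvd : Nat.card ↥(coreIn B D ⊔ D' : Subgroup G) ∣ Nat.card ↥B := Subgroup.card_dvd_of_le hSB
    rw [← cB', hm] at hdvd
    have hcop : Nat.Coprime (2 ^ m) 3 := Nat.Coprime.pow_left m (by norm_num)
    have hdvd' : 2 ^ m ∣ Nat.card ↥D' := hcop.dvd_of_dvd_mul_right hdvd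
    rw [hm]
    exact Nat.le_of_dvd hD'pos hdvd'
  have hKD' : coreIn B D ≤ D' := by
    rw [← hSeq]; exact le_sup_left
  -- `K ≤ D ⊓ D' < D`
  have hKI : coreIn B D ≤ D ⊓ D' := le_inf hKD hKD'
  symm
  apply Subgroup.eq_of_le_of_card_ge hKI
  have hIne : D ⊓ D' ≠ D := by
    intro h
    have hle : D ≤ D' := by rw [← h]; exact inf_le_right
    exact hne (Subgroup.eq_of_le_of_card_ge hle (by omega))
  have h1 : Nat.card ↥(coreIn B D) ∣ Nat.card ↥(D ⊓ D' : Subgroup G) := Subgroup.card_dvd_of_le hKI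
  have h2d : Nat.card ↥(D ⊓ D' : Subgroup G) ∣ Nat.card ↥D := Subgroup.card_dvd_of_le inf_le_left
  have hlt : Nat.card ↥(D ⊓ D' : Subgroup G) ≠ Nat.card ↥D := by
    intro h
    exact hIne (Subgroup.eq_of_le_of_card_ge inf_le_left (by omega))
  obtain ⟨j, hj⟩ := h1
  rw [hj, ← cD] at h2d
  have hj2 : j ∣ 2 := Nat.dvd_of_mul_dvd_mul_left hKpos h2d
  have hj' : j = 1 ∨ j = 2 := (Nat.dvd_prime Nat.prime_two).mp hj2
  rcases hj' with rfl | rfl
  · omega
  · exfalso; apply hlt; rw [hj, ← cD]
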