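import Cfsg.Agent.Lib.Helper12.SakDefs

/-!
helper22: S5544 (Sakuma's theorem, planner helper12), leaf A2: the three fusion rules of a Majorana axis on its
`0`- and `1/4`-eigenspaces.
-/

set_option autoImplicit false

namespace Cfsg.Agent.Lib.Helper22.SakA2

open Cfsg Cfsg.Axial Cfsg.Agent.Lib.Helper12.Sak

variable {V : Type*} [AddCommGroup V] [Module ℝ V]
variable {mul : V →ₗ[ℝ] V →ₗ[ℝ] V} {B : LinearMap.BilinForm ℝ V} {μ μ' : V ≃ₗ[ℝ] V} {a : V}

theorem mem_eigen_iff (a x : V) (c : ℝ) : x ∈ eigen mul a c ↔ mul a x = c • x := by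
  unfold eigen
  rw [Module.End.mem_eigenspace_iff]

theorem law_zero_zero : monsterLaw (1 / 4 : ℝ) (1 / 32) 0 0 = {0} := by
  unfold monsterLaw
  norm_num

theorem law_zero_quarter : monsterLaw (1 / 4 : ℝ) (1 / 32) 0 (1 / 4) = {1 / 4} := by
  unfold monsterLaw
  norm_num

theorem law_quarter_quarter : monsterLaw (1 / 4 : ℝ) (1 / 32) (1 / 4) (1 / 4) = {1, 0} := by
  unfold monsterLaw
  norm_num

theorem zero_mem_spectrum : (0 : ℝ) ∈ majoranaSpectrum := by
  unfold majoranaSpectrum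
  simp

theorem quarter_mem_spectrum : (1 / 4 : ℝ) ∈ majoranaSpectrum := by
  unfold majoranaSpectrum
  simp

theorem eigenSum_singleton (a : V) (c : ℝ) : eigenSum mul a {c} = eigen mul a c := by
  unfold eigenSum
  exact iSup_singleton

theorem eigenSum_pair (a : V) (c d : ℝ) :
    eigenSum mul a {c, d} = eigen mul a c ⊔ eigen mul a d := by
  unfold eigenSum
  rw [iSup_insert, iSup_singleton]

theorem pair_fus00 (h : IsMajoranaPair mul B μ a) (u v : V) (hu : mul a u = 0) (hv : mul a v = 0) :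
    mul a (mul u v) = 0 := by
  obtain ⟨-, -, ⟨⟨-, -, -, hfus⟩, -⟩, -⟩ := h
  have hu' : u ∈ eigen mul a 0 := by rw [mem_eigen_iff, hu, zero_smul]
  have hv' : v ∈ eigen mul a 0 := by rw [mem_eigen_iff, hv, zero_smul]
  have h1 := hfus 0 zero_mem_spectrum 0 zero_mem_spectrum u hu' v hv'
  rw [law_zero_zero, eigenSum_singleton, mem_eigen_iff, zero_smul] at h1
  exact h1

theorem pair_fus0q (h : IsMajoranaPair mul B μ a) (u v : V) (hu : mul a u = 0)
    (hv : mul a v = (1 / 4 : ℝ) • v) : mul a (mul u v) = (1 / 4 : ℝ) • mul u v := by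
  obtain ⟨-, -, ⟨⟨-, -, -, hfus⟩, -⟩, -⟩ := h
  have hu' : u ∈ eigen mul a 0 := by rw [mem_eigen_iff, hu, zero_smul]
  have hv' : v ∈ eigen mul a (1 / 4) := by rw [mem_eigen_iff, hv]
  have h1 := hfus 0 zero_mem_spectrum (1 / 4) quarter_mem_spectrum u hu' v hv'
  rw [law_zero_quarter, eigenSum_singleton, mem_eigen_iff] at h1
  exact h1

theorem pair_fusqq (hV : IsMajoranaAmbient mul B) (h : IsMajoranaPair mul B μ a) (hn : B a a = 1)
    (u v : V) (hu : mul a u = (1 / 4 : ℝ) • u) (hv : mul a v = (1 / 4 : ℝ) • v) :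
    mul a (mul u v) = (B a (mul u v)) • a := by
  obtain ⟨-, -, ⟨⟨-, hidem, -, hfus⟩, hprim⟩, -⟩ := h
  obtain ⟨-, -, -, hassoc, -⟩ := hV
  have hu' : u ∈ eigen mul a (1 / 4) := by rw [mem_eigen_iff, hu]
  have hv' : v ∈ eigen mul a (1 / 4) := by rw [mem_eigen_iff, hv]
  have h1 := hfus (1 / 4) quarter_mem_spectrum (1 / 4) quarter_mem_spectrum u hu' v hv'
  rw [law_quarter_quarter, eigenSum_pair, Submodule.mem_sup] at h1
  obtain ⟨y, hy, z, hz, hyz⟩ := h1
  rw [hprim, Submodule.mem_span_singleton] at hy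
  obtain ⟨c, rfl⟩ := hy
  rw [mem_eigen_iff, zero_smul] at hz
  have hBz : B a z = 0 := by
    have h2 := hassoc a a z
    rw [hz, hidem, map_zero] at h2
    exact h2.symm
  have hc : B a (mul u v) = c := by
    rw [← hyz, map_add, map_smul, hn, hBz, smul_eq_mul, mul_one, add_zero]
  rw [hc, ← hyz, map_add, map_smul, hidem, hz, add_zero]

end Cfsg.Agent.Lib.Helper22.SakA2
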