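import Cfsg.Agent.Lib.Helper12.SakDefs

/-!
helper22: S5544 (Sakuma's theorem, planner helper12), leaf A3: Majorana pairs are carried to Majorana pairs by
automorphisms of the product and the form.
-/

set_option autoImplicit false

namespace Cfsg.Agent.Lib.Helper22.SakA3

open Cfsg Cfsg.Axial Cfsg.Agent.Lib.Helper12.Sak

variable {V : Type*} [AddCommGroup V] [Module ℝ V]
variable {mul : V →ₗ[ℝ] V →ₗ[ℝ] V} {B : LinearMap.BilinForm ℝ V} {μ μ' : V ≃ₗ[ℝ] V} {a : V}

theorem mem_eigen_iff (a x : V) (c : ℝ) : x ∈ eigen mul a c ↔ mul a x = c • x := by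
  unfold eigen
  rw [Module.End.mem_eigenspace_iff]

theorem conj_apply (g μ : V ≃ₗ[ℝ] V) (x : V) : (g * μ * g⁻¹) x = g (μ (g.symm x)) := rfl

theorem symm_mul (g : V ≃ₗ[ℝ] V) (hg1 : ∀ u v : V, g (mul u v) = mul (g u) (g v)) (u v : V) :
    g.symm (mul u v) = mul (g.symm u) (g.symm v) := by
  apply g.injective
  rw [hg1, g.apply_symm_apply, g.apply_symm_apply, g.apply_symm_apply]

theorem eigen_map (g : V ≃ₗ[ℝ] V) (hg1 : ∀ u v : V, g (mul u v) = mul (g u) (g v)) (a : V) (c : ℝ) :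
    eigen mul (g a) c = (eigen mul a c).map (g : V →ₗ[ℝ] V) := by
  ext x
  rw [Submodule.mem_map, mem_eigen_iff]
  constructor
  · intro hx
    refine ⟨g.symm x, ?_, by simp⟩
    rw [mem_eigen_iff]
    apply g.injective
    rw [hg1, g.apply_symm_apply, hx, map_smul, g.apply_symm_apply]
  · rintro ⟨y, hy, rfl⟩
    rw [mem_eigen_iff] at hy
    change mul (g a) (g y) = c • g y
    rw [← hg1, hy, map_smul]

theorem eigenSum_map (g : V ≃ₗ[ℝ] V) (hg1 : ∀ u v : V, g (mul u v) = mul (g u) (g v)) (a : V) (S : Set ℝ) :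
    eigenSum mul (g a) S = (eigenSum mul a S).map (g : V →ₗ[ℝ] V) := by
  unfold eigenSum
  rw [Submodule.map_iSup]
  congr 1
  funext c
  rw [Submodule.map_iSup]
  congr 1
  funext _
  exact eigen_map g hg1 a c

theorem pair_conj (h : IsMajoranaPair mul B μ a) (g : V ≃ₗ[ℝ] V)
    (hg1 : ∀ u v : V, g (mul u v) = mul (g u) (g v)) (hg2 : ∀ u v : V, B (g u) (g v) = B u v) :
    IsMajoranaPair mul B (g * μ * g⁻¹) (g a) := by
  obtain ⟨hμ1, hμ2, ⟨⟨ha0, haa, htop, hfus⟩, hone⟩, hfix, hneg⟩ := h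
  have hs1 := symm_mul g hg1
  have hs2 : ∀ u v : V, B (g.symm u) (g.symm v) = B u v := by
    intro u v
    rw [← hg2 (g.symm u) (g.symm v), g.apply_symm_apply, g.apply_symm_apply]
  refine ⟨?_, ?_, ⟨⟨?_, ?_, ?_, ?_⟩, ?_⟩, ?_, ?_⟩
  · intro u v
    rw [conj_apply, conj_apply, conj_apply, hs1, hμ1, hg1]
  · intro u v
    rw [conj_apply, conj_apply, hg2, hμ2, hs2]
  · intro h0
    exact ha0 (g.map_eq_zero_iff.mp h0)
  · rw [← hg1, haa]
  · rw [eigenSum_map g hg1, htop, Submodule.map_top, LinearMap.range_eq_top]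
    exact g.surjective
  · intro c hc d hd u hu v hv
    rw [eigen_map g hg1, Submodule.mem_map] at hu hv
    obtain ⟨u', hu', rfl⟩ := hu
    obtain ⟨v', hv', rfl⟩ := hv
    rw [eigenSum_map g hg1, Submodule.mem_map]
    exact ⟨mul u' v', hfus c hc d hd u' hu' v' hv', hg1 u' v'⟩
  · rw [eigen_map g hg1, hone, Submodule.map_span, Set.image_singleton]
    rfl
  · intro v hv
    rw [eigenSum_map g hg1, Submodule.mem_map] at hv
    obtain ⟨w, hw, rfl⟩ := hv
    change (g * μ * g⁻¹) (g w) = g w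
    rw [conj_apply, g.symm_apply_apply]
    have := hfix w hw
    change μ w = w at this
    rw [this]
  · intro v hv
    rw [eigen_map g hg1, Submodule.mem_map] at hv
    obtain ⟨w, hw, rfl⟩ := hv
    change (g * μ * g⁻¹) (g w) = -(g w)
    rw [conj_apply, g.symm_apply_apply]
    have := hneg w hw
    change μ w = -w at this
    rw [this, map_neg]

end Cfsg.Agent.Lib.Helper22.SakA3
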