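/-
helper22: leaf INVK (`invol_conj`, `inf_centralizer_j`) of helper12's S2148 market "U3"
(`notes/S2148_leaves.lean`), `_of` form: the input CAHOM (`exists_caHom`) is a hypothesis.
-/
import Mathlib
import Cfsg.Agent.Lib.Helper12.U3Defs

set_option autoImplicit false

namespace Cfsg.Agent.Lib.Helper22.U3Leaf

open Cfsg.Agent.Lib.Helper18.PSUMod Cfsg.Agent.Lib.Helper5.HermBridge Cfsg.Agent.Lib.Helper12.U3

/-- two involutions whose product has odd order are conjugate by a power of the product -/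
theorem conj_of_odd_order {G : Type*} [Group G] (i j : G) (hi2 : i * i = 1) (hj2 : j * j = 1)
    (hodd : Odd (orderOf (i * j))) : ∃ y ∈ Subgroup.zpowers (i * j), i = y * j * y⁻¹ := by
  obtain ⟨m, hm⟩ := hodd
  set x := i * j with hx
  have hjinv : j⁻¹ = j := (eq_inv_of_mul_eq_one_left hj2).symm
  have hxinv : j * x * j⁻¹ = x⁻¹ := by
    rw [hjinv]
    apply eq_inv_of_mul_eq_one_left
    calc j * x * j * x = j * (i * (j * j) * i) * j := by rw [hx]; group
      _ = 1 := by rw [hj2, mul_one, hi2, mul_one, hj2]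
  refine ⟨x ^ (m + 1), Subgroup.pow_mem _ (Subgroup.mem_zpowers x) _, ?_⟩
  have hyy : x ^ (m + 1) * x ^ (m + 1) = x := by
    rw [← pow_add, show m + 1 + (m + 1) = (2 * m + 1) + 1 by ring, ← hm, pow_succ,
      pow_orderOf_eq_one, one_mul]
  have hyinv : j * x ^ (m + 1) * j⁻¹ = (x ^ (m + 1))⁻¹ := by
    rw [← conj_pow, hxinv, inv_pow]
  have h1 : j * (x ^ (m + 1))⁻¹ * j⁻¹ = x ^ (m + 1) := by
    rw [← conj_inv, hyinv, inv_inv]
  calc i = x * j := by rw [hx, mul_assoc, hj2, mul_one]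
    _ = x ^ (m + 1) * (x ^ (m + 1)) * j := by rw [hyy]
    _ = x ^ (m + 1) * (j * (x ^ (m + 1))⁻¹ * j⁻¹) * j := by rw [h1]
    _ = x ^ (m + 1) * j * (x ^ (m + 1))⁻¹ := by group

/-- surjectivity on a complement from the order formula -/
theorem exists_mem_map_eq {K A : Type*} [Group K] [Finite K] [Group A] (φ : K →* A)
    (C : Subgroup K) (hinj : ∀ c ∈ C, φ c = 1 → c = 1)
    (hcard : Nat.card K = Nat.card φ.ker * Nat.card C) (k : K) : ∃ c ∈ C, φ c = φ k := by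
  classical
  -- `|range φ| = |C|`
  have h1 : Nat.card K = Nat.card φ.range * Nat.card φ.ker := by
    rw [Subgroup.card_eq_card_quotient_mul_card_subgroup φ.ker,
      Nat.card_congr (QuotientGroup.quotientKerEquivRange φ).toEquiv]
  have hkpos : 0 < Nat.card φ.ker := Nat.card_pos
  have h2 : Nat.card φ.range = Nat.card C := by
    have : Nat.card φ.ker * Nat.card φ.range = Nat.card φ.ker * Nat.card C := by
      rw [← hcard, h1, mul_comm]
    exact Nat.eq_of_mul_eq_mul_left hkpos this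
  -- the restriction `C → range φ` is injective, hence surjective
  let f : C → φ.range := fun c => ⟨φ c, ⟨(c : K), rfl⟩⟩
  have hf : Function.Injective f := by
    intro c c' h
    have h' : φ (c : K) = φ (c' : K) := congrArg Subtype.val h
    have h3 : φ ((c : K) * (c' : K)⁻¹) = 1 := by rw [map_mul, map_inv, h', mul_inv_cancel]
    have h4 := hinj _ (C.mul_mem c.2 (C.inv_mem c'.2)) h3
    apply Subtype.ext
    exact mul_inv_eq_one.mp h4
  have hfin : Finite φ.range := Finite.of_surjective φ.rangeRestrict φ.rangeRestrict_surjective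
  have hbij : Function.Bijective f :=
    (Nat.bijective_iff_injective_and_card f).mpr ⟨hf, h2.symm⟩
  obtain ⟨c, hc⟩ := hbij.2 ⟨φ k, ⟨k, rfl⟩⟩
  exact ⟨(c : K), c.2, congrArg Subtype.val hc⟩

section model

variable {F : Type*} [Field F] [Fintype F] {q : ℕ} (hF : Fintype.card F = q ^ 2)

include hF in
/-- `q` odd ⟹ `2 ≠ 0` in `F` -/
theorem two_ne_zero_of_odd (hq : Odd q) : (2 : F) ≠ 0 := by
  apply Ring.two_ne_zero
  intro h2
  have h := (FiniteField.even_card_iff_char_two).mp h2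
  rw [hF] at h
  have : Odd (q ^ 2) := Odd.pow hq
  rw [Nat.odd_iff] at this
  omega

include hF in
/-- `q` odd ⟹ `ringChar F` odd -/
theorem odd_ringChar_of_odd (hq : Odd q) : Odd (ringChar F) := by
  have := ringChar.charP F
  have hp : (ringChar F).Prime := CharP.char_is_prime F _
  rcases hp.eq_two_or_odd' with h | h
  · exfalso
    have h' := (FiniteField.even_card_iff_char_two).mp h
    rw [hF] at h'
    have : Odd (q ^ 2) := Odd.pow hq
    rw [Nat.odd_iff] at this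
    omega
  · exact h

/-- elements of `QQ` have odd order if `q` is odd -/
theorem odd_orderOf_of_mem_QQ (hq : Odd q) {x : GG hF} (hx : x ∈ QQ hF) : Odd (orderOf x) := by
  have := ringChar.charP F
  have : Fact (ringChar F).Prime := ⟨CharP.char_is_prime F _⟩
  have hP : IsPGroup (ringChar F) (QQ hF) := isPGroup_Qe (barOK_frob hF).invol
  obtain ⟨k, hk⟩ := (IsPGroup.iff_orderOf.mp hP) ⟨x, hx⟩
  have : orderOf (⟨x, hx⟩ : ↥(QQ hF)) = orderOf x := Subgroup.orderOf_mk x hx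
  rw [← this, hk]
  exact Odd.pow (odd_ringChar_of_odd hF hq)

/-- the determinant condition on the torus: `ca l * μ * cb l = 1` where `l w0 = μ w0` -/
theorem av_w0_of_mem_LL {l : GG hF} (hl : l ∈ LL hF) :
    ∃ μ : F, ca l * μ * cb l = 1 ∧ ∀ w : Fin 1 → F,
      Bof ((l : GG hF) : V F 1 ≃ₗ[F] V F 1) w = μ • w := by
  obtain ⟨B, hB⟩ : ∃ B, B = Bof ((l : GG hF) : V F 1 ≃ₗ[F] V F 1) := ⟨_, rfl⟩
  rw [← hB]
  set μ : F := B 1 0 with hμ
  have hBw : ∀ w : Fin 1 → F, B w = μ • w := by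
    intro w
    have hw : w = (w 0) • (1 : Fin 1 → F) := by
      funext i
      rw [Fin.eq_zero i]
      simp
    rw [hw, map_smul]
    funext i
    rw [Fin.eq_zero i]
    simp [hμ, mul_comm]
  refine ⟨μ, ?_, hBw⟩
  -- the underlying linear map is diagonal
  have hlin : (((l : GG hF) : V F 1 ≃ₗ[F] V F 1) : V F 1 →ₗ[F] V F 1) = dlin (ca l) B (cb l) := by
    apply LinearMap.ext
    intro x
    have h1 : (((l : GG hF) : V F 1 ≃ₗ[F] V F 1) : V F 1 →ₗ[F] V F 1) x = av l x := rfl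
    rw [h1, dlin_apply]
    conv_lhs => rw [decomp x]
    rw [av_add, av_add, av_smul, av_smul, av_ve_of_mem_Pe hl.1, av_vf_of_mem_Pf hl.2,
      av_vw_of_mem_Le hl, ← hB]
    simp [ve, vf, vw, mul_comm]
  have hdet1 : LinearEquiv.det ((l : GG hF) : V F 1 ≃ₗ[F] V F 1) = 1 :=
    ((mem_SUm (frobHom hF)).1 l.2).2
  have hdet2 : LinearMap.det (((l : GG hF) : V F 1 ≃ₗ[F] V F 1) : V F 1 →ₗ[F] V F 1) = 1 := by
    rw [← LinearEquiv.coe_det, hdet1, Units.val_one]
  rw [hlin, det_dlin] at hdet2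
  have hdetB : LinearMap.det B = μ := by
    have : B = μ • (LinearMap.id : (Fin 1 → F) →ₗ[F] (Fin 1 → F)) := by
      apply LinearMap.ext
      intro w
      rw [hBw w]; rfl
    rw [this, LinearMap.det_smul, LinearMap.det_id, mul_one]
    simp
  rw [hdetB] at hdet2
  exact hdet2

/-- for `j ∈ LL` with `ca j = -1`: `cb j = -1` and `j` fixes `w0`. -/
theorem j_data {j : GG hF} (hjL : j ∈ LL hF) (hca : ca j = -1) :
    cb j = -1 ∧ ∀ w : Fin 1 → F, Bof ((j : GG hF) : V F 1 ≃ₗ[F] V F 1) w = w := by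
  have hb := (barOK_frob hF).invol
  have h1 := ca_mul_cb hjL.1
  rw [hca] at h1
  have h2 : frobHom hF (cb j) = -1 := by linear_combination -h1
  have h3 : cb j = -1 := by
    have := congrArg (frobHom hF) h2
    rw [hb, map_neg, map_one] at this
    exact this
  obtain ⟨μ, hμ, hB⟩ := av_w0_of_mem_LL hF hjL
  rw [hca, h3] at hμ
  have hμ1 : μ = 1 := by linear_combination hμ
  refine ⟨h3, fun w => ?_⟩
  rw [hB w, hμ1, one_smul]

/-- INVK (a) over CAHOM. -/
theorem invol_conj_of (hq : Odd q) (K : Subgroup (GG hF)) (hK : K ≤ PP hF)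
    (j : GG hF) (hjK : j ∈ K) (hjL : j ∈ LL hF) (hca : ca j = -1)
    (i : GG hF) (hi : i ∈ K) (hi2 : i * i = 1) (hi1 : i ≠ 1)
    (hcaHom : ∃ φ : ↥(PP hF) →* Fˣ, (∀ k : ↥(PP hF), ((φ k : Fˣ) : F) = ca (k : GG hF)) ∧
      Function.Surjective φ ∧ φ.ker = (QQ hF).subgroupOf (PP hF) ∧
      ∀ k : ↥(PP hF), (k : GG hF) ∈ LL hF → φ k = 1 → k = 1) :
    ∃ k ∈ K, i = k * j * k⁻¹ := by
  obtain ⟨φ, hφ, -, hker, hinj⟩ := hcaHom
  have hiP : i ∈ PP hF := hK hi
  have hjP : j ∈ PP hF := hK hjK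
  -- `j * j = 1`
  have hj2 : j * j = 1 := by
    have h1 : φ (⟨j, hjP⟩ * ⟨j, hjP⟩) = 1 := by
      apply Units.ext
      rw [map_mul, Units.val_mul, hφ, Units.val_one]
      show ca j * ca j = 1
      rw [hca]; ring
    have h2 := hinj (⟨j, hjP⟩ * ⟨j, hjP⟩) ((LL hF).mul_mem hjL hjL) h1
    exact congrArg (fun u : ↥(PP hF) => (u : GG hF)) h2
  -- `ca i = -1`
  have hcai : ca i = -1 := by
    have h1 : φ ⟨i, hiP⟩ * φ ⟨i, hiP⟩ = 1 := by
      rw [← map_mul]
      have : (⟨i, hiP⟩ : ↥(PP hF)) * ⟨i, hiP⟩ = 1 := Subtype.ext hi2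
      rw [this, map_one]
    have h2 : ca i * ca i = 1 := by
      have := congrArg (fun u : Fˣ => (u : F)) h1
      simp only [Units.val_mul, Units.val_one] at this
      rw [hφ] at this
      exact this
    rcases mul_self_eq_one_iff.mp h2 with h | h
    · exfalso
      have h3 : φ ⟨i, hiP⟩ = 1 := by
        apply Units.ext
        rw [hφ, Units.val_one]; exact h
      have h4 : (⟨i, hiP⟩ : ↥(PP hF)) ∈ φ.ker := h3
      rw [hker] at h4
      have h5 : i ∈ QQ hF := h4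
      have h6 := odd_orderOf_of_mem_QQ hF hq h5
      have h7 : orderOf i = 2 := orderOf_eq_prime (by rw [pow_two]; exact hi2) hi1
      rw [h7] at h6
      exact (by decide : ¬ Odd 2) h6
    · exact h
  -- `i * j ∈ QQ`
  have hijQ : i * j ∈ QQ hF := by
    have h3 : φ (⟨i, hiP⟩ * ⟨j, hjP⟩) = 1 := by
      apply Units.ext
      rw [map_mul, Units.val_mul, hφ, hφ, Units.val_one]
      show ca i * ca j = 1
      rw [hcai, hca]; ring
    have h4 : (⟨i, hiP⟩ * ⟨j, hjP⟩ : ↥(PP hF)) ∈ φ.ker := h3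
    rw [hker] at h4
    exact h4
  obtain ⟨y, hy, hyi⟩ := conj_of_odd_order i j hi2 hj2 (odd_orderOf_of_mem_QQ hF hq hijQ)
  refine ⟨y, ?_, hyi⟩
  have hle : Subgroup.zpowers (i * j) ≤ K :=
    (Subgroup.zpowers_le).mpr (K.mul_mem hi hjK)
  exact hle hy

/-- INVK (b) over CAHOM. -/
theorem inf_centralizer_j_of (hq : Odd q) (K : Subgroup (GG hF)) (hK : K ≤ PP hF)
    (hE : K ⊓ TT hF = ⊥)
    (hcard : Nat.card K = Nat.card ↥(K ⊓ QQ hF) * Nat.card ↥(K ⊓ LL hF))
    (j : GG hF) (hjK : j ∈ K) (hjL : j ∈ LL hF) (hca : ca j = -1)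
    (hcaHom : ∃ φ : ↥(PP hF) →* Fˣ, (∀ k : ↥(PP hF), ((φ k : Fˣ) : F) = ca (k : GG hF)) ∧
      Function.Surjective φ ∧ φ.ker = (QQ hF).subgroupOf (PP hF) ∧
      ∀ k : ↥(PP hF), (k : GG hF) ∈ LL hF → φ k = 1 → k = 1) :
    K ⊓ Subgroup.centralizer {j} = K ⊓ LL hF := by
  obtain ⟨φ, hφ, -, hker, hinj⟩ := hcaHom
  have hb := (barOK_frob hF).invol
  have h2ne : (2 : F) ≠ 0 := two_ne_zero_of_odd hF hq
  have hLP : LL hF ≤ PP hF := Le_le_Pe hb
  -- `LL` is commutative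
  have hLcomm : ∀ l ∈ LL hF, ∀ l' ∈ LL hF, l * l' = l' * l := by
    intro l hl l' hl'
    have hmem : l * l' * l⁻¹ * l'⁻¹ ∈ LL hF :=
      (LL hF).mul_mem ((LL hF).mul_mem ((LL hF).mul_mem hl hl') ((LL hF).inv_mem hl))
        ((LL hF).inv_mem hl')
    have h1 : φ ⟨l * l' * l⁻¹ * l'⁻¹, hLP hmem⟩ = 1 := by
      have : (⟨l * l' * l⁻¹ * l'⁻¹, hLP hmem⟩ : ↥(PP hF)) =
          ⟨l, hLP hl⟩ * ⟨l', hLP hl'⟩ * ⟨l, hLP hl⟩⁻¹ * ⟨l', hLP hl'⟩⁻¹ := rfl
      rw [this, map_mul, map_mul, map_mul, map_inv, map_inv]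
      rw [mul_comm (φ ⟨l, hLP hl⟩) (φ ⟨l', hLP hl'⟩), mul_inv_cancel_right, mul_inv_cancel]
    have h2 := hinj _ hmem h1
    have h3 : l * l' * l⁻¹ * l'⁻¹ = 1 := congrArg (fun u : ↥(PP hF) => (u : GG hF)) h2
    have : l * l' = (l * l' * l⁻¹ * l'⁻¹) * (l' * l) := by group
    rw [this, h3, one_mul]
  apply le_antisymm
  · -- the hard inclusion
    rintro k ⟨hkK, hkc⟩
    refine ⟨hkK, ?_⟩
    have hkj : j * k = k * j := (Subgroup.mem_centralizer_iff.mp hkc) j (Set.mem_singleton j)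
    obtain ⟨x, l, hl, hkxl⟩ := Pe_decomp hb (hK hkK)
    -- `EG x` commutes with `j`
    have hlj : j * l = l * j := hLcomm j hjL l hl
    have hxj : j * EG hb x * j⁻¹ = EG hb x := by
      have e1 : EG hb x = k * l⁻¹ := by rw [hkxl]; group
      rw [e1]
      calc j * (k * l⁻¹) * j⁻¹ = (j * k) * l⁻¹ * j⁻¹ := by group
        _ = k * j * l⁻¹ * j⁻¹ := by rw [hkj]
        _ = k * l⁻¹ * (l * j) * l⁻¹ * j⁻¹ := by group
        _ = k * l⁻¹ * (j * l) * l⁻¹ * j⁻¹ := by rw [hlj]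
        _ = k * l⁻¹ := by group
    rw [Le_conj hb hjL] at hxj
    have hx' := EG_injective hb hxj
    have hxw : (x : HP (frobHom hF) 1).w = 0 := by
      have h1 := congrArg (fun u : ↥(HS (frobHom hF) hb 1) => (u : HP (frobHom hF) 1).w) hx'
      simp only [actL] at h1
      obtain ⟨hcb, hB⟩ := j_data hF hjL hca
      rw [hcb, hB] at h1
      -- `(-1)⁻¹ • w = w`
      have h2 : -(x : HP (frobHom hF) 1).w = (x : HP (frobHom hF) 1).w := by
        have : ((-1 : F))⁻¹ = -1 := by rw [inv_neg, inv_one]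
        rw [this, neg_smul, one_smul] at h1
        exact h1
      funext i0
      have h3 := congrFun h2 i0
      simp only [Pi.neg_apply, Pi.zero_apply] at h3 ⊢
      have h4 : (2 : F) * (x : HP (frobHom hF) 1).w i0 = 0 := by linear_combination -h3
      rcases mul_eq_zero.mp h4 with h5 | h5
      · exact absurd h5 h2ne
      · exact h5
    have htT : EG hb x ∈ TT hF := (mem_Te hb).2 ⟨x, hxw, rfl⟩
    -- restrict `φ` to `K`
    let ψ : ↥K →* Fˣ := φ.comp (Subgroup.inclusion hK)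
    have hψker : Nat.card ψ.ker = Nat.card ↥(K ⊓ QQ hF) := by
      refine Nat.card_congr ⟨fun u => ⟨(u : ↥K), (u : ↥K).2, ?_⟩, fun v => ⟨⟨(v : GG hF), v.2.1⟩, ?_⟩,
        fun u => rfl, fun v => rfl⟩
      · have h1 : φ (Subgroup.inclusion hK (u : ↥K)) = 1 := u.2
        have h2 : Subgroup.inclusion hK (u : ↥K) ∈ φ.ker := h1
        rw [hker] at h2
        exact h2
      · show φ (Subgroup.inclusion hK ⟨(v : GG hF), v.2.1⟩) = 1
        have h2 : Subgroup.inclusion hK ⟨(v : GG hF), v.2.1⟩ ∈ φ.ker := by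
          rw [hker]
          exact v.2.2
        exact h2
    let C : Subgroup ↥K := (LL hF).subgroupOf K
    have hCcard : Nat.card C = Nat.card ↥(K ⊓ LL hF) := by
      refine Nat.card_congr ⟨fun u => ⟨((u : ↥K) : GG hF), (u : ↥K).2, u.2⟩,
        fun v => ⟨⟨(v : GG hF), v.2.1⟩, v.2.2⟩, fun u => rfl, fun v => rfl⟩
    have hCinj : ∀ c ∈ C, ψ c = 1 → c = 1 := by
      intro c hc h1
      have h2 := hinj (Subgroup.inclusion hK c) hc h1
      apply Subtype.ext
      exact congrArg (fun u : ↥(PP hF) => (u : GG hF)) h2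
    obtain ⟨c, hcC, hcφ⟩ := exists_mem_map_eq ψ C hCinj (by rw [hψker, hCcard, hcard])
      ⟨k, hkK⟩
    -- `l' := c ∈ K ∩ LL` with `φ l' = φ k`
    have hcL : (c : GG hF) ∈ LL hF := hcC
    -- `k * c⁻¹ ∈ QQ`
    have hkcQ : k * (c : GG hF)⁻¹ ∈ QQ hF := by
      have h1 : ψ (⟨k, hkK⟩ * c⁻¹) = 1 := by rw [map_mul, map_inv, hcφ, mul_inv_cancel]
      have h2 : Subgroup.inclusion hK (⟨k, hkK⟩ * c⁻¹) ∈ φ.ker := h1
      rw [hker] at h2
      exact h2
    -- `l * c⁻¹ ∈ QQ ∩ LL`, so it is trivial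
    have hlc : l * (c : GG hF)⁻¹ = 1 := by
      have hmemL : l * (c : GG hF)⁻¹ ∈ LL hF := (LL hF).mul_mem hl ((LL hF).inv_mem hcL)
      have hmemQ : l * (c : GG hF)⁻¹ ∈ QQ hF := by
        have e : l * (c : GG hF)⁻¹ = (EG hb x)⁻¹ * (k * (c : GG hF)⁻¹) := by rw [hkxl]; group
        rw [e]
        exact (QQ hF).mul_mem ((QQ hF).inv_mem (Te_le_Qe hb htT)) hkcQ
      have h1 : (⟨l * (c : GG hF)⁻¹, hLP hmemL⟩ : ↥(PP hF)) ∈ φ.ker := by
        rw [hker]; exact hmemQ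
      have h2 := hinj _ hmemL h1
      exact congrArg (fun u : ↥(PP hF) => (u : GG hF)) h2
    -- `EG x = k * c⁻¹ ∈ K ∩ TT = ⊥`
    have hEGx : EG hb x = k * (c : GG hF)⁻¹ := by
      have e : k * (c : GG hF)⁻¹ = EG hb x * (l * (c : GG hF)⁻¹) := by rw [hkxl]; group
      rw [e, hlc, mul_one]
    have hmemKT : EG hb x ∈ K ⊓ TT hF := by
      refine ⟨?_, htT⟩
      rw [hEGx]
      exact K.mul_mem hkK (K.inv_mem c.2)
    rw [hE, Subgroup.mem_bot] at hmemKT
    rw [hkxl, hmemKT, one_mul]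
    exact hl
  · rintro k ⟨hkK, hkL⟩
    refine ⟨hkK, ?_⟩
    show k ∈ Subgroup.centralizer {j}
    rw [Subgroup.mem_centralizer_iff]
    intro g hg
    rw [Set.mem_singleton_iff] at hg
    rw [hg]
    exact hLcomm j hjL k hkL

end model

end Cfsg.Agent.Lib.Helper22.U3Leaf
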