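/-
helper22: S2148 market "U3": the character `ca` on the Borel subgroup `PP` (multiplicative, kernel `QQ`,
injective on the torus `LL`), proved directly from helper18's model (no surjectivity; the full CAHOM leaf
is held by other seats).  Used by my leaves JMEM / JPROPS / INVK.
-/
import Mathlib
import Cfsg.Agent.Lib.Helper12.U3Defs
import Cfsg.Agent.Lib.Helper22.U3INVKOf

set_option autoImplicit false

namespace Cfsg.Agent.Lib.Helper22.U3Leaf

open Cfsg.Agent.Lib.Helper18.PSUMod Cfsg.Agent.Lib.Helper5.HermBridge Cfsg.Agent.Lib.Helper12.U3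

section model

variable {F : Type*} [Field F] [Fintype F] {q : ℕ} (hF : Fintype.card F = q ^ 2)

/-- `ca` is multiplicative when the right factor lies in `PP` -/
theorem ca_mul_of_mem (g g' : GG hF) (hg' : g' ∈ PP hF) : ca (g * g') = ca g * ca g' := by
  show (av (g * g') ve).1 = (av g ve).1 * ca g'
  rw [av_mul, av_ve_of_mem_Pe hg', av_smul]
  show ca g' * (av g ve).1 = (av g ve).1 * ca g'
  ring

theorem ca_one' : ca (1 : GG hF) = 1 := by
  unfold ca
  rw [av_one]
  rfl

theorem ca_EG' (x : ↥(HS (frobHom hF) (barOK_frob hF).invol 1)) :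
    ca (EG (barOK_frob hF).invol x) = 1 := by
  unfold ca
  rw [av_EG_ve]
  rfl

/-- `ca` is injective on the torus -/
theorem eq_one_of_ca_eq_one {l : GG hF} (hl : l ∈ LL hF) (h : ca l = 1) : l = 1 := by
  have hb := (barOK_frob hF).invol
  have h1 := ca_mul_cb hl.1
  rw [h, one_mul] at h1
  have hcb : cb l = 1 := by
    have := congrArg (frobHom hF) h1
    rw [hb, map_one] at this
    exact this
  obtain ⟨μ, hμ, hB⟩ := av_w0_of_mem_LL hF hl
  rw [h, hcb, one_mul, mul_one] at hμ
  apply av_ext3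
  · rw [av_ve_of_mem_Pe hl.1, h, one_smul, av_one]
  · rw [av_vf_of_mem_Pf hl.2, hcb, one_smul, av_one]
  · intro w
    rw [av_vw_of_mem_Le hl, hB w, hμ, one_smul, av_one]

/-- the kernel of `ca` on `PP` is `QQ` -/
theorem mem_QQ_iff_ca {k : GG hF} (hk : k ∈ PP hF) : k ∈ QQ hF ↔ ca k = 1 := by
  have hb := (barOK_frob hF).invol
  constructor
  · rintro ⟨x, rfl⟩
    exact ca_EG' hF x
  · intro h
    obtain ⟨x, l, hl, rfl⟩ := Pe_decomp hb hk
    rw [ca_mul_of_mem hF _ _ (Le_le_Pe hb hl), ca_EG' hF x, one_mul] at h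
    rw [eq_one_of_ca_eq_one hF hl h, mul_one]
    exact ⟨x, rfl⟩

/-- `ca` as a homomorphism `PP → Fˣ` -/
noncomputable def caLite : ↥(PP hF) →* Fˣ where
  toFun k := Units.mk0 (ca (k : GG hF)) (ca_ne_zero k.2)
  map_one' := by
    apply Units.ext
    rw [Units.val_mk0, Units.val_one]
    exact ca_one' hF
  map_mul' k k' := by
    apply Units.ext
    rw [Units.val_mk0, Units.val_mul, Units.val_mk0, Units.val_mk0]
    exact ca_mul_of_mem hF _ _ k'.2

theorem caLite_val (k : ↥(PP hF)) : ((caLite hF k : Fˣ) : F) = ca (k : GG hF) := rfl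

theorem caLite_ker : (caLite hF).ker = (QQ hF).subgroupOf (PP hF) := by
  ext k
  rw [MonoidHom.mem_ker, Subgroup.mem_subgroupOf, mem_QQ_iff_ca hF k.2]
  constructor
  · intro h
    have := congrArg (fun u : Fˣ => (u : F)) h
    exact this
  · intro h
    apply Units.ext
    rw [caLite_val, Units.val_one]
    exact h

theorem caLite_inj (k : ↥(PP hF)) (hk : (k : GG hF) ∈ LL hF) (h : caLite hF k = 1) : k = 1 := by
  apply Subtype.ext
  apply eq_one_of_ca_eq_one hF hk
  have := congrArg (fun u : Fˣ => (u : F)) h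
  exact this

/-- every nonzero scalar is `ca l` for some `l ∈ LL` -/
theorem exists_LL_ca (a : Fˣ) : ∃ l ∈ LL hF, ca l = (a : F) := by
  have hB := barOK_frob hF
  have hba : frobHom hF (a : F) ≠ 0 := fun h => a.ne_zero ((map_eq_zero (frobHom hF)).1 h)
  let μ : Fin 1 → Fˣ := fun _ => Units.mk0 (frobHom hF (a : F) / (a : F)) (div_ne_zero hba a.ne_zero)
  have hμ : ∀ i, (μ i : F) * frobHom hF (μ i : F) = 1 := by
    intro i
    simp only [μ, Units.val_mk0, map_div₀, hB.invol]
    field_simp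
  have hprod : ∏ i, (μ i : F) = frobHom hF (a : F) / (a : F) := by
    simp [μ]
  refine ⟨dLevi hB.invol a 1 μ hμ (by
    rw [hprod]; simp only [Equiv.Perm.sign_one, Units.val_one, Int.cast_one, one_mul]
    field_simp), dLevi_mem_Le _ _ _ _ _ _, ?_⟩
  exact ca_dLevi _ _ _ _ _ _

theorem caLite_surj : Function.Surjective (caLite hF) := by
  intro a
  obtain ⟨l, hl, hla⟩ := exists_LL_ca hF a
  refine ⟨⟨l, Le_le_Pe (barOK_frob hF).invol hl⟩, ?_⟩
  apply Units.ext
  rw [caLite_val]
  exact hla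

/-- the statement of the CAHOM leaf `exists_caHom`, proved here from the model -/
theorem exists_caHom_lite : ∃ φ : ↥(PP hF) →* Fˣ,
    (∀ k : ↥(PP hF), ((φ k : Fˣ) : F) = ca (k : GG hF)) ∧
    Function.Surjective φ ∧ φ.ker = (QQ hF).subgroupOf (PP hF) ∧
    ∀ k : ↥(PP hF), (k : GG hF) ∈ LL hF → φ k = 1 → k = 1 :=
  ⟨caLite hF, caLite_val hF, caLite_surj hF, caLite_ker hF, caLite_inj hF⟩

end model

end Cfsg.Agent.Lib.Helper22.U3Leaf
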