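/-
helper22: leaf INVK (`invol_conj`, `inf_centralizer_j`) of helper12's S2148 market "U3"
(`notes/S2148_leaves.lean`), exact forms (over my own proof `exists_caHom_lite` of the CAHOM statement).
-/
import Mathlib
import Cfsg.Agent.Lib.Helper12.U3Defs
import Cfsg.Agent.Lib.Helper22.U3INVKOf
import Cfsg.Agent.Lib.Helper22.U3CaLite

set_option autoImplicit false

namespace Cfsg.Agent.Lib.Helper22.U3Leaf

open Cfsg.Agent.Lib.Helper18.PSUMod Cfsg.Agent.Lib.Helper5.HermBridge Cfsg.Agent.Lib.Helper12.U3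

section borel

variable {F : Type*} [Field F] [Fintype F] {q : ℕ} (hF : Fintype.card F = q ^ 2)

/-- B6a -/
theorem invol_conj (hq : Odd q) (K : Subgroup (GG hF)) (hK : K ≤ PP hF) (hE : K ⊓ TT hF = ⊥)
    (hcard : Nat.card K = Nat.card ↥(K ⊓ QQ hF) * Nat.card ↥(K ⊓ LL hF))
    (j : GG hF) (hjK : j ∈ K) (hjL : j ∈ LL hF) (hca : ca j = -1)
    (i : GG hF) (hi : i ∈ K) (hi2 : i * i = 1) (hi1 : i ≠ 1) : ∃ k ∈ K, i = k * j * k⁻¹ :=
  invol_conj_of hF hq K hK j hjK hjL hca i hi hi2 hi1 (exists_caHom_lite hF)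

/-- B6b -/
theorem inf_centralizer_j (hq : Odd q) (K : Subgroup (GG hF)) (hK : K ≤ PP hF)
    (hE : K ⊓ TT hF = ⊥)
    (hcard : Nat.card K = Nat.card ↥(K ⊓ QQ hF) * Nat.card ↥(K ⊓ LL hF))
    (j : GG hF) (hjK : j ∈ K) (hjL : j ∈ LL hF) (hca : ca j = -1) :
    K ⊓ Subgroup.centralizer {j} = K ⊓ LL hF :=
  inf_centralizer_j_of hF hq K hK hE hcard j hjK hjL hca (exists_caHom_lite hF)

end borel

end Cfsg.Agent.Lib.Helper22.U3Leaf
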