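/-
helper22: leaf JMEM (`exists_j_mem`) of helper12's S2148 market "U3" (`notes/S2148_leaves.lean`),
`_of` form: the input CAHOM (`exists_caHom`) is a hypothesis.
-/
import Mathlib
import Cfsg.Agent.Lib.Helper12.U3Defs

set_option autoImplicit false

namespace Cfsg.Agent.Lib.Helper22.U3Leaf

open Cfsg.Agent.Lib.Helper18.PSUMod Cfsg.Agent.Lib.Helper5.HermBridge Cfsg.Agent.Lib.Helper12.U3

section model

variable {F : Type*} [Field F] [Fintype F] {q : ℕ} (hF : Fintype.card F = q ^ 2)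

/-- JMEM over CAHOM. -/
theorem exists_j_mem_of (C : Subgroup (GG hF)) (hC : C ≤ LL hF)
    (heven : Even (Nat.card C))
    (hcaHom : ∃ φ : ↥(PP hF) →* Fˣ, (∀ k : ↥(PP hF), ((φ k : Fˣ) : F) = ca (k : GG hF)) ∧
      Function.Surjective φ ∧ φ.ker = (QQ hF).subgroupOf (PP hF) ∧
      ∀ k : ↥(PP hF), (k : GG hF) ∈ LL hF → φ k = 1 → k = 1) :
    ∃ j ∈ C, ca j = -1 := by
  obtain ⟨φ, hφ, -, -, hinj⟩ := hcaHom
  have : Fact (Nat.Prime 2) := ⟨Nat.prime_two⟩
  obtain ⟨i, hi⟩ := exists_prime_orderOf_dvd_card' 2 (even_iff_two_dvd.mp heven)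
  have hiL : (i : GG hF) ∈ LL hF := hC i.2
  have hiP : (i : GG hF) ∈ PP hF := hiL.1
  have hi2 : i ^ 2 = 1 := by rw [← hi]; exact pow_orderOf_eq_one i
  have hi1 : i ≠ 1 := by
    intro h
    rw [h, orderOf_one] at hi
    norm_num at hi
  set k : ↥(PP hF) := ⟨(i : GG hF), hiP⟩ with hk
  have hk2 : k ^ 2 = 1 := by
    apply Subtype.ext
    show (i : GG hF) ^ 2 = 1
    have := congrArg (fun u : ↥C => (u : GG hF)) hi2
    exact this
  have hφ2 : φ k * φ k = 1 := by
    rw [← map_mul, ← pow_two, hk2, map_one]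
  have hca2 : ca (i : GG hF) * ca (i : GG hF) = 1 := by
    have h1 := congrArg (fun u : Fˣ => (u : F)) hφ2
    simp only [Units.val_mul, Units.val_one] at h1
    rw [hφ k] at h1
    exact h1
  refine ⟨(i : GG hF), i.2, ?_⟩
  rcases mul_self_eq_one_iff.mp hca2 with h | h
  · exfalso
    apply hi1
    have h1 : φ k = 1 := by
      apply Units.ext
      rw [hφ k, Units.val_one]
      exact h
    have h2 := hinj k hiL h1
    apply Subtype.ext
    have := congrArg (fun u : ↥(PP hF) => (u : GG hF)) h2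
    exact this
  · exact h

end model

end Cfsg.Agent.Lib.Helper22.U3Leaf
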