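/-
helper22: leaves JMEM (`exists_j_mem`) and JPROPS (`j_props`) of helper12's S2148 market "U3"
(`notes/S2148_leaves.lean`), exact forms (over my own proof `exists_caHom_lite` of the CAHOM statement).
-/
import Mathlib
import Cfsg.Agent.Lib.Helper12.U3Defs
import Cfsg.Agent.Lib.Helper22.U3JMEMOf
import Cfsg.Agent.Lib.Helper22.U3CaLite

set_option autoImplicit false

namespace Cfsg.Agent.Lib.Helper22.U3Leaf

open Cfsg.Agent.Lib.Helper18.PSUMod Cfsg.Agent.Lib.Helper5.HermBridge Cfsg.Agent.Lib.Helper12.U3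

section borel

variable {F : Type*} [Field F] [Fintype F] {q : ℕ} (hF : Fintype.card F = q ^ 2)

/-- B7 -/
theorem exists_j_mem (hq : Odd q) (C : Subgroup (GG hF)) (hC : C ≤ LL hF)
    (heven : Even (Nat.card C)) : ∃ j ∈ C, ca j = -1 :=
  exists_j_mem_of hF C hC heven (exists_caHom_lite hF)

/-- B7b JPROPS -/
theorem j_props (hq : Odd q) (j : GG hF) (hj : j ∈ LL hF) (hca : ca j = -1) :
    j * j = 1 ∧ j ≠ 1 := by
  constructor
  · apply eq_one_of_ca_eq_one hF ((LL hF).mul_mem hj hj)
    rw [ca_mul_of_mem hF j j (Le_le_Pe (barOK_frob hF).invol hj), hca]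
    ring
  · rintro rfl
    rw [ca_one' hF] at hca
    have h2 : (2 : F) = 0 := by linear_combination hca
    exact two_ne_zero_of_odd hF hq h2

end borel

end Cfsg.Agent.Lib.Helper22.U3Leaf
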