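/-
helper22: leaf PARITY (`parity`) of helper12's S2148 market "U3" (`notes/S2148_leaves.lean`), abstract
`_of` form: the inputs CARDINF / IDXP / INVFIX are hypotheses.
-/
import Mathlib
import Cfsg.Agent.Lib.Helper12.U3Defs

set_option autoImplicit false

namespace Cfsg.Agent.Lib.Helper22.U3Leaf

open Cfsg.Agent.Lib.Helper18.PSUMod Cfsg.Agent.Lib.Helper5.HermBridge Cfsg.Agent.Lib.Helper12.U3

/-- `G = H P`, `|G : P|` even, every involution of `G` fixes a point of `G / P` ⟹ `|H ∩ P|` is even. -/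
theorem parity_abs {G : Type*} [Group G] [Finite G] (P H : Subgroup G)
    (htr : ∀ g : G, ∃ h ∈ H, ∃ b ∈ P, g = h * b)
    (hidx : Even P.index)
    (hCI : Nat.card ↥(H ⊓ P) * H.index = Nat.card P)
    (hfix : ∀ g : G, g * g = 1 → ∃ a : G, a⁻¹ * g * a ∈ P)
    (hodd : Odd (Nat.card ↥(H ⊓ P))) : False := by
  -- `|H| = |H ∩ P| · |G : P|`
  have h1 : Nat.card H = Nat.card ↥(H ⊓ P) * P.index := by
    have e1 : Nat.card H * H.index = Nat.card G := Subgroup.card_mul_index H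
    have e2 : Nat.card P * P.index = Nat.card G := Subgroup.card_mul_index P
    have hH0 : 0 < H.index := Nat.pos_of_ne_zero Subgroup.index_ne_zero_of_finite
    have e3 : Nat.card H * H.index = (Nat.card ↥(H ⊓ P) * P.index) * H.index := by
      rw [e1, ← e2, ← hCI]; ring
    exact Nat.eq_of_mul_eq_mul_right hH0 e3
  have h2 : 2 ∣ Nat.card H := by
    rw [h1]
    exact Dvd.dvd.mul_left (even_iff_two_dvd.mp hidx) _
  have : Fact (Nat.Prime 2) := ⟨Nat.prime_two⟩
  obtain ⟨i, hi⟩ := exists_prime_orderOf_dvd_card' 2 h2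
  have hi2 : (i : G) * (i : G) = 1 := by
    have : i ^ 2 = 1 := by rw [← hi]; exact pow_orderOf_eq_one i
    have h3 : ((i ^ 2 : H) : G) = 1 := by rw [this]; rfl
    rw [← h3, pow_two]; rfl
  have hi1 : (i : G) ≠ 1 := by
    intro h
    have : i = 1 := Subtype.ext h
    rw [this, orderOf_one] at hi
    norm_num at hi
  obtain ⟨a, ha⟩ := hfix i hi2
  obtain ⟨h, hh, b, hb, rfl⟩ := htr a
  -- the conjugate `h⁻¹ i h` lies in `H ∩ P`
  have hmem : h⁻¹ * (i : G) * h ∈ H ⊓ P := by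
    refine ⟨H.mul_mem (H.mul_mem (H.inv_mem hh) i.2) hh, ?_⟩
    have e : h⁻¹ * (i : G) * h = b * ((h * b)⁻¹ * (i : G) * (h * b)) * b⁻¹ := by group
    rw [e]
    exact P.mul_mem (P.mul_mem hb ha) (P.inv_mem hb)
  set k : ↥(H ⊓ P) := ⟨h⁻¹ * (i : G) * h, hmem⟩ with hk
  have hk2 : k ^ 2 = 1 := by
    apply Subtype.ext
    show (h⁻¹ * (i : G) * h) ^ 2 = 1
    rw [pow_two]
    have : h⁻¹ * (i : G) * h * (h⁻¹ * (i : G) * h) = h⁻¹ * ((i : G) * (i : G)) * h := by group
    rw [this, hi2]; group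
  have hk1 : k ≠ 1 := by
    intro hk1
    apply hi1
    have e : h⁻¹ * (i : G) * h = 1 := congrArg Subtype.val hk1
    have : (i : G) = h * (h⁻¹ * (i : G) * h) * h⁻¹ := by group
    rw [this, e]; group
  have hord : orderOf k = 2 := orderOf_eq_prime hk2 hk1
  have hdvd : 2 ∣ Nat.card ↥(H ⊓ P) := by
    rw [← hord]; exact orderOf_dvd_natCard k
  exact (Nat.not_even_iff_odd.mpr hodd) (even_iff_two_dvd.mpr hdvd)

section model

variable {F : Type*} [Field F] [Fintype F] {q : ℕ} (hF : Fintype.card F = q ^ 2)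

/-- PARITY over its inputs CARDINF (`hCI`), IDXP (`hIdx`), INVFIX (`hfix`). -/
theorem parity_of (hq : Odd q) (H : Subgroup (GG hF)) (htr : Trans hF H)
    (hodd : Odd (Nat.card ↥(H ⊓ PP hF)))
    (hCI : Nat.card ↥(H ⊓ PP hF) * H.index = Nat.card (PP hF))
    (hIdx : (PP hF).index = q ^ 3 + 1)
    (hfix : ∀ g : GG hF, g * g = 1 → ∃ a : GG hF, a⁻¹ * g * a ∈ PP hF) : False := by
  refine parity_abs (PP hF) H htr ?_ hCI hfix hodd
  rw [hIdx]
  exact Odd.add_one (Odd.pow hq)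

end model

end Cfsg.Agent.Lib.Helper22.U3Leaf
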