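/-
helper22: leaf PARITY (`parity`) of helper12's S2148 market "U3" (`notes/S2148_leaves.lean`), exact form:
`parity_of` over the landed leaves CARDINF (helper5), IDXP (helper4), INVFIX (helper6).
-/
import Mathlib
import Cfsg.Agent.Lib.Helper12.U3Defs
import Cfsg.Agent.Lib.Helper22.U3PARITYOf
import Cfsg.Agent.Lib.Helper5.U3CARDINF
import Cfsg.Agent.Lib.Helper4.U3IDXP
import Cfsg.Agent.Lib.Helper6.U3INVFIX

set_option autoImplicit false

namespace Cfsg.Agent.Lib.Helper22.U3Leaf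

open Cfsg.Agent.Lib.Helper18.PSUMod Cfsg.Agent.Lib.Helper5.HermBridge Cfsg.Agent.Lib.Helper12.U3

section borel

variable {F : Type*} [Field F] [Fintype F] {q : ℕ} (hF : Fintype.card F = q ^ 2)

/-- B8 PARITY -/
theorem parity (hq : Odd q) (H : Subgroup (GG hF)) (htr : Trans hF H)
    (hodd : Odd (Nat.card ↥(H ⊓ PP hF))) : False :=
  parity_of hF hq H htr hodd
    (Cfsg.Agent.Lib.Helper5.U3Leaf.card_inf_mul_index (PP hF) H htr)
    (Cfsg.Agent.Lib.Helper4.U3Leaf.index_PP hF)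
    (fun g hg => Cfsg.Agent.Lib.Helper6.U3Leaf.invol_fix hF g hg)

end borel

end Cfsg.Agent.Lib.Helper22.U3Leaf
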