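/-
helper22: S4504 layer A leaf BRP-REC (`recognize`): the recognition theorem S0732 applied to the action
of `G` on its `p + 1` Sylow `p`-subgroups.
-/
import Mathlib
import Cfsg.Prelude.Def_Blocks
import Cfsg.Prelude.Def_Perm
import Cfsg.Agent.Lib.Helper13.BRPDefs
import Cfsg.Agent.Lib.Helper21.S4503R
import Cfsg.Agent.Lib.Lead.ItoD
import Cfsg.Agent.S0732

set_option autoImplicit false

namespace Cfsg.Agent.Lib.Helper22.BRPREC

open Cfsg Cfsg.Agent.Lib.Helper8.DOM Cfsg.Agent.Lib.Helper27.DO Cfsg.Agent.CharLib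
open Cfsg.Agent.Lib.Helper13.BRP Cfsg.Agent.Lib.Helper21.S4503R

universe u

/-- the kernel of the action on the Sylow subgroups -/
theorem ker_toPermHom_eq {p : ℕ} [Fact p.Prime] {G : Type u} [Group G] [Finite G]
    (hker : ∀ g : G, (∀ Q : Sylow p G, g • Q = Q) ↔ g ∈ Subgroup.center G) :
    (MulAction.toPermHom G (Sylow p G)).ker = Subgroup.center G := by
  ext g
  rw [MonoidHom.mem_ker, ← hker g]
  constructor
  · intro h Q
    have := congrArg (fun σ : Equiv.Perm (Sylow p G) => σ Q) h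
    simpa using this
  · intro h
    ext1 Q
    simpa using h Q

/-- REC : the recognition theorem S0732 applied to the action of `G` on its `p + 1` Sylow `p`-subgroups. -/
theorem recognize {p d : ℕ} [Fact p.Prime] {G : Type u} [Group G] [Finite G] (P : Sylow p G)
    (hcard : Nat.card (Sylow p G) = p + 1)
    (hker : ∀ g : G, (∀ Q : Sylow p G, g • Q = Q) ↔ g ∈ Subgroup.center G)
    (hN : Nat.card (Nz (P : Subgroup G)) = p * d * Nat.card (Subgroup.center G)) (hd : d < p) :
    d = p - 1 ∨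
    (2 * d = p - 1 ∧ Nonempty ((G ⧸ Subgroup.center G) ≃*
      Matrix.ProjectiveSpecialLinearGroup (Fin 2) (ZMod p))) ∨
    (∃ q : ℕ, q.Prime ∧ p + 1 = 2 ^ q ∧ (d = 1 ∨ d = q) ∧ ∃ e : Sylow p G ≃ GaloisField 2 q,
      ∀ g : G, (e.symm.trans ((MulAction.toPerm g : Equiv.Perm (Sylow p G)).trans e)) ∈
        Cfsg.semiaffineGroup (GaloisField 2 q)) := by
  classical
  have hp : p.Prime := Fact.out
  let _ : Fintype (Sylow p G) := Fintype.ofFinite _
  have hα : Fintype.card (Sylow p G) = p + 1 := by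
    rw [← Nat.card_eq_fintype_card]
    exact hcard
  set f : G →* Equiv.Perm (Sylow p G) := MulAction.toPermHom G (Sylow p G) with hf
  set Γ : Subgroup (Equiv.Perm (Sylow p G)) := f.range with hΓ
  have hkerf : f.ker = Subgroup.center G := ker_toPermHom_eq hker
  -- transitivity
  haveI : MulAction.IsPretransitive Γ (Sylow p G) := by
    refine ⟨fun Q Q' => ?_⟩
    obtain ⟨g, hg⟩ := MulAction.exists_smul_eq G Q Q'
    refine ⟨⟨f g, g, rfl⟩, ?_⟩
    show (f g) Q = Q'
    exact hg
  -- the order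
  have hG : Nat.card Γ = (p + 1) * p * d := by
    have h1 : Nat.card G = Nat.card (Sylow p G) * Nat.card (Nz (P : Subgroup G)) := by
      rw [Sylow.card_eq_index_normalizer P]
      exact (Subgroup.index_mul_card _).symm
    have h2 : Nat.card G = Nat.card f.ker * Nat.card Γ := by
      rw [← Subgroup.card_mul_index f.ker, Subgroup.index_ker]
    rw [hkerf, h1, hcard, hN] at h2
    have hz : 0 < Nat.card (Subgroup.center G) := Nat.card_pos
    have : Nat.card (Subgroup.center G) * ((p + 1) * p * d) =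
        Nat.card (Subgroup.center G) * Nat.card Γ := by
      rw [← h2]
      ring
    exact (Nat.eq_of_mul_eq_mul_left hz this).symm
  rcases Cfsg.Agent.S0732.result hp hα Γ hG hd with ⟨h1, -⟩ | ⟨h1, ⟨e⟩⟩ | ⟨q, hq, hpq, hdq, e, he⟩
  · exact Or.inl h1
  · refine Or.inr (Or.inl ⟨h1, ⟨?_⟩⟩)
    exact ((QuotientGroup.quotientMulEquivOfEq hkerf).symm.trans
      (QuotientGroup.quotientKerEquivRange f)).trans e
  · refine Or.inr (Or.inr ⟨q, hq, hpq, hdq, e, fun g => ?_⟩)
    exact he ⟨f g, g, rfl⟩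

end Cfsg.Agent.Lib.Helper22.BRPREC
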