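/-
helper22: S5840 C3 rank-one, MOD sub-market (helper13), leaf M1 exists_delta: tau = Tr_{E/F}(delta .), delta hermitian.
-/
import Mathlib
import Cfsg.Prelude.Def_Classical
import Cfsg.Prelude.Def_ClassicalGeometry
import Cfsg.Prelude.Def_GeometricClasses
import Cfsg.Agent.Lib.Helper5.SUMax
import Cfsg.Agent.Lib.Helper5.UForm
import Cfsg.Agent.Lib.Helper16.C3uDefs
import Cfsg.Agent.Lib.Helper13.C3qDefs
import Cfsg.Agent.Lib.Helper13.C3qMDefs
import Cfsg.Agent.Lib.Helper12.C3uF

set_option autoImplicit false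
set_option linter.unusedSectionVars false
set_option linter.unusedVariables false

namespace Cfsg.Agent.Lib.Helper22.C3qModLeaf
open Cfsg Matrix Module Cfsg.Agent.Lib.Helper16.C3u Cfsg.Agent.Lib.Helper13.C3q

universe u
variable {F : Type u} [Field F] [Fintype F] {n q : ℕ} {E : Type u} [Field E] [Algebra F E]

/-- the trace of `E/F` as a sum of Frobenius powers -/
theorem trace_eq_sum_fr [FiniteDimensional F E] (x : E) :
    algebraMap F E (Algebra.trace F E x) = ∑ i ∈ Finset.range (finrank F E), (fr F E ^ i) x := by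
  have : Finite E := Module.finite_of_finite F
  rw [FiniteField.algebraMap_trace_eq_sum_pow F E x]
  apply Finset.sum_congr rfl
  intro i _
  rw [fr_pow_apply, Nat.card_eq_fintype_card]

/-- `Tr (st x) = st (Tr x)` -/
theorem trace_st (S : KU n q F E) [FiniteDimensional F E] (x : E) :
    algebraMap F E (Algebra.trace F E (S.st x)) = S.st (algebraMap F E (Algebra.trace F E x)) := by
  rw [trace_eq_sum_fr, trace_eq_sum_fr, map_sum]
  apply Finset.sum_congr rfl
  intro i _
  rw [fr_pow_apply, fr_pow_apply, map_pow]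

/-- **M1** -/
theorem exists_delta (S : KU n q F E) (hF : Fintype.card F = q ^ 2) (hn : 0 < n)
    [FiniteDimensional F E] :
    ∃ δ : E, δ ≠ 0 ∧ S.st δ = δ ∧
      ∀ e : E, algebraMap F E (S.τ e) = ∑ i ∈ Finset.range (finrank F E), (fr F E ^ i) (δ * e) := by
  have hnd := traceForm_nondegenerate F E
  obtain ⟨δ, hδ⟩ : ∃ δ : E, δ = ((Algebra.traceForm F E).toDual hnd).symm S.τ := ⟨_, rfl⟩
  have hτ : ∀ e : E, Algebra.trace F E (δ * e) = S.τ e := by
    intro e
    have h := LinearMap.BilinForm.apply_toDual_symm_apply (B := Algebra.traceForm F E) (hB := hnd)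
      S.τ e
    rw [← hδ, Algebra.traceForm_apply] at h
    exact h
  have hzero : ∀ a : E, (∀ x : E, Algebra.trace F E (a * x) = 0) → a = 0 := by
    intro a ha
    apply hnd.1 a
    intro x
    rw [Algebra.traceForm_apply]
    exact ha x
  refine ⟨δ, ?_, ?_, ?_⟩
  · rintro rfl
    obtain ⟨e, he⟩ := Cfsg.Agent.Lib.Helper12.C3uLeaf.exists_tau_ne_zero S hn
    apply he
    rw [← hτ e, zero_mul, map_zero]
  · have h0 : S.st δ - δ = 0 := by
      apply hzero
      intro x
      obtain ⟨e, rfl⟩ : ∃ e, x = S.st e := ⟨S.st x, (S.st_st x).symm⟩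
      rw [sub_mul, map_sub, sub_eq_zero]
      apply (algebraMap F E).injective
      rw [← map_mul, trace_st, hτ, hτ, S.τ_st, S.st_alg]
    exact sub_eq_zero.mp h0
  · intro e
    rw [← hτ e, trace_eq_sum_fr]

end Cfsg.Agent.Lib.Helper22.C3qModLeaf
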