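/-
helper22: S5840 C3 rank-one, MOD sub-market (helper13), leaf M8 ulemma: a two-term skew-adjoint map
a fr^i + a' fr^(5-i) has a' = iota_i(a).
-/
import Mathlib
import Cfsg.Prelude.Def_Classical
import Cfsg.Prelude.Def_ClassicalGeometry
import Cfsg.Prelude.Def_GeometricClasses
import Cfsg.Agent.Lib.Helper5.SUMax
import Cfsg.Agent.Lib.Helper5.UForm
import Cfsg.Agent.Lib.Helper16.C3uDefs
import Cfsg.Agent.Lib.Helper13.C3qDefs
import Cfsg.Agent.Lib.Helper13.C3qMDefs
import Cfsg.Agent.Lib.Helper12.C3uF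
import Cfsg.Agent.Lib.Helper22.C3qMDelta

set_option autoImplicit false
set_option linter.unusedSectionVars false
set_option linter.unusedVariables false

namespace Cfsg.Agent.Lib.Helper22.C3qModLeaf
open Cfsg Matrix Module Cfsg.Agent.Lib.Helper16.C3u Cfsg.Agent.Lib.Helper13.C3q

universe u
variable {F : Type u} [Field F] [Fintype F] {n q : ℕ} {E : Type u} [Field E] [Algebra F E]

/-- the trace is invariant under the Frobenius powers -/
theorem trace_fr [FiniteDimensional F E] (k : ℕ) (x : E) :
    Algebra.trace F E ((fr F E ^ k) x) = Algebra.trace F E x := by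
  have h := Algebra.trace_eq_of_algEquiv
    (AlgEquiv.ofBijective (fr F E ^ k) (AlgHom.bijective _)) x
  rwa [AlgEquiv.coe_ofBijective] at h

/-- `st` commutes with the Frobenius powers -/
theorem st_fr (S : KU n q F E) (k : ℕ) (x : E) :
    S.st ((fr F E ^ k) x) = (fr F E ^ k) (S.st x) := by
  rw [fr_pow_apply, fr_pow_apply, map_pow]

/-- `fr ^ finrank = 1` -/
theorem fr_pow_finrank [FiniteDimensional F E] : fr F E ^ finrank F E = 1 := by
  have : Finite E := Module.finite_of_finite F
  rw [← FiniteField.orderOf_frobeniusAlgHom F E]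
  exact pow_orderOf_eq_one _

/-- `fr^j ∘ fr^i = id` when `i + j = finrank` -/
theorem fr_fr_cancel [FiniteDimensional F E] {i j : ℕ} (hij : j + i = finrank F E) (x : E) :
    (fr F E ^ j) ((fr F E ^ i) x) = x := by
  have h : (fr F E ^ j) ((fr F E ^ i) x) = (fr F E ^ j * fr F E ^ i) x := rfl
  rw [h, ← pow_add, hij, fr_pow_finrank, AlgHom.one_apply]

/-- two different Frobenius powers are separated by some element -/
theorem exists_fr_ne [FiniteDimensional F E] {i j : ℕ} (hij : i < j)
    (hj : j - i < finrank F E) : ∃ z : E, (fr F E ^ j) z ≠ (fr F E ^ i) z := by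
  have : Finite E := Module.finite_of_finite F
  by_contra hcon
  push Not at hcon
  have h1 : fr F E ^ (j - i) = 1 := by
    apply AlgHom.ext
    intro z
    have hinj : Function.Injective (fr F E ^ i) := (AlgHom.bijective _).1
    apply hinj
    have h2 : (fr F E ^ i) ((fr F E ^ (j - i)) z) = (fr F E ^ i * fr F E ^ (j - i)) z := rfl
    rw [h2, ← pow_add, AlgHom.one_apply, show i + (j - i) = j by omega]
    exact hcon z
  have h3 := orderOf_dvd_of_pow_eq_one h1
  rw [FiniteField.orderOf_frobeniusAlgHom F E] at h3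
  have h4 := Nat.le_of_dvd (by omega) h3
  omega

/-- **M8** -/
theorem ulemma (S : KU n q F E) (hF : Fintype.card F = q ^ 2) (hn : 0 < n) [FiniteDimensional F E]
    (hr5 : finrank F E = 5) {δ : E} (hδ0 : δ ≠ 0) (hδst : S.st δ = δ)
    (hδ : ∀ e : E, algebraMap F E (S.τ e) =
      ∑ i ∈ Finset.range (finrank F E), (fr F E ^ i) (δ * e))
    (i : ℕ) (hi : i = 1 ∨ i = 2) (a a' : E)
    (h : SkewAdj S ((tw a i : E →ₗ[F] E) + tw a' (5 - i))) :
    a' = -(δ⁻¹ * (fr F E ^ (5 - i)) (δ * S.st a)) := by
  obtain ⟨j, hj⟩ : ∃ j, j = 5 - i := ⟨_, rfl⟩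
  rw [← hj] at h ⊢
  have hji : j + i = finrank F E := by rcases hi with rfl | rfl <;> omega
  have hij : i + j = finrank F E := by omega
  have hτ : ∀ e : E, S.τ e = Algebra.trace F E (δ * e) := by
    intro e
    apply (algebraMap F E).injective
    rw [hδ e, trace_eq_sum_fr]
  have hnd := traceForm_nondegenerate F E
  have hzero : ∀ b : E, (∀ x : E, Algebra.trace F E (x * b) = 0) → b = 0 := by
    intro b hb
    apply hnd.1 b
    intro x
    rw [Algebra.traceForm_apply, mul_comm]
    exact hb x
  -- the bracket vanishes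
  have hB : ∀ z : E, ((fr F E ^ j) (δ * a) + δ * S.st a') * (fr F E ^ j) z +
      ((fr F E ^ i) (δ * a') + δ * S.st a) * (fr F E ^ i) z = 0 := by
    intro z
    apply hzero
    intro x
    have h1 := h x (S.st z)
    rw [hτ, hτ, S.st_st, LinearMap.add_apply, LinearMap.add_apply, tw_apply, tw_apply, tw_apply,
      tw_apply, map_add S.st, map_mul S.st, map_mul S.st, st_fr, st_fr, S.st_st] at h1
    have e1 : Algebra.trace F E (δ * ((a * (fr F E ^ i) x + a' * (fr F E ^ j) x) * z)) =
        Algebra.trace F E (x * ((fr F E ^ j) (δ * a) * (fr F E ^ j) z)) +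
          Algebra.trace F E (x * ((fr F E ^ i) (δ * a') * (fr F E ^ i) z)) := by
      have e2 : δ * ((a * (fr F E ^ i) x + a' * (fr F E ^ j) x) * z) =
          (fr F E ^ i) x * (δ * a * z) + (fr F E ^ j) x * (δ * a' * z) := by ring
      rw [e2, map_add]
      congr 1
      · rw [← trace_fr j, map_mul (fr F E ^ j), fr_fr_cancel hji, map_mul (fr F E ^ j),
          map_mul (fr F E ^ j)]
      · rw [← trace_fr i, map_mul (fr F E ^ i), fr_fr_cancel hij, map_mul (fr F E ^ i),
          map_mul (fr F E ^ i)]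
    rw [e1] at h1
    rw [← h1, ← map_add, ← map_add]
    congr 1
    ring
  have h1 := hB 1
  rw [map_one, map_one, mul_one, mul_one] at h1
  have hlt : i < j := by rcases hi with rfl | rfl <;> omega
  obtain ⟨z, hz⟩ := exists_fr_ne (F := F) (E := E) hlt (by rw [hr5]; omega)
  have h2 := hB z
  have h3 : ((fr F E ^ j) (δ * a) + δ * S.st a') * ((fr F E ^ j) z - (fr F E ^ i) z) = 0 := by
    have h4 : (fr F E ^ i) (δ * a') + δ * S.st a = -((fr F E ^ j) (δ * a) + δ * S.st a') := by
      linear_combination h1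
    rw [h4] at h2
    linear_combination h2
  have h5 : (fr F E ^ j) (δ * a) + δ * S.st a' = 0 :=
    (mul_eq_zero.mp h3).resolve_right (sub_ne_zero.mpr hz)
  have h6 : S.st a' = -(δ⁻¹ * (fr F E ^ j) (δ * a)) := by
    field_simp
    linear_combination h5
  have h7 : a' = S.st (S.st a') := (S.st_st a').symm
  rw [h7, h6, map_neg, map_mul, map_inv₀, hδst, st_fr, map_mul, hδst]

end Cfsg.Agent.Lib.Helper22.C3qModLeaf
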