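import Mathlib

/-!
# Counting conjugacy classes via commuting pairs (helper22)
-/

namespace Cfsg.Agent.Lib.Helper22

/-- commuting pairs with second coordinate in a coset `g N` inject into those with second
coordinate in `N`. -/
theorem card_commute_coset_le {X : Type*} [Group X] [Finite X] (N : Subgroup X) (S : Set X)
    (g : X) :
    Nat.card {p : X × X // p.1 ∈ S ∧ g⁻¹ * p.2 ∈ N ∧ Commute p.1 p.2} ≤
      Nat.card {p : X × X // p.1 ∈ S ∧ p.2 ∈ N ∧ Commute p.1 p.2} := by
  classical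
  let β : X → X := fun s => if h : ∃ z, g⁻¹ * z ∈ N ∧ Commute s z then h.choose else 1
  have hβ : ∀ s z, g⁻¹ * z ∈ N → Commute s z → g⁻¹ * β s ∈ N ∧ Commute s (β s) := by
    intro s z h1 h2
    have h : ∃ z, g⁻¹ * z ∈ N ∧ Commute s z := ⟨z, h1, h2⟩
    simp only [β, dif_pos h]
    exact h.choose_spec
  refine Nat.card_le_card_of_injective
    (fun p => ⟨(p.1.1, (β p.1.1)⁻¹ * p.1.2), p.2.1, ?_, ?_⟩) ?_
  · obtain ⟨h1, h2⟩ := hβ p.1.1 p.1.2 p.2.2.1 p.2.2.2
    have : (β p.1.1)⁻¹ * p.1.2 = (g⁻¹ * β p.1.1)⁻¹ * (g⁻¹ * p.1.2) := by group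
    show (β p.1.1)⁻¹ * p.1.2 ∈ N
    rw [this]; exact N.mul_mem (N.inv_mem h1) p.2.2.1
  · obtain ⟨h1, h2⟩ := hβ p.1.1 p.1.2 p.2.2.1 p.2.2.2
    exact (h2.inv_right).mul_right p.2.2.2
  · intro p q hpq
    simp only [Subtype.mk.injEq, Prod.mk.injEq] at hpq
    obtain ⟨h1, h2⟩ := hpq
    apply Subtype.ext; apply Prod.ext h1
    rw [h1] at h2; exact mul_left_cancel h2

theorem card_commute_fiber_le {X : Type*} [Group X] [Finite X] (N : Subgroup X) (g₁ g₂ : X) :
    Nat.card {p : X × X // g₁⁻¹ * p.1 ∈ N ∧ g₂⁻¹ * p.2 ∈ N ∧ Commute p.1 p.2} ≤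
      Nat.card {p : N × N // Commute p.1 p.2} := by
  calc Nat.card {p : X × X // g₁⁻¹ * p.1 ∈ N ∧ g₂⁻¹ * p.2 ∈ N ∧ Commute p.1 p.2}
      ≤ Nat.card {p : X × X // g₁⁻¹ * p.1 ∈ N ∧ p.2 ∈ N ∧ Commute p.1 p.2} :=
        card_commute_coset_le N {a | g₁⁻¹ * a ∈ N} g₂
    _ = Nat.card {p : X × X // p.1 ∈ N ∧ g₁⁻¹ * p.2 ∈ N ∧ Commute p.1 p.2} := by
        refine Nat.card_congr ((Equiv.prodComm X X).subtypeEquiv ?_)
        intro p
        simp only [Equiv.prodComm_apply, Prod.fst_swap, Prod.snd_swap]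
        constructor
        · rintro ⟨h1, h2, h3⟩; exact ⟨h2, h1, h3.symm⟩
        · rintro ⟨h1, h2, h3⟩; exact ⟨h2, h1, h3.symm⟩
    _ ≤ Nat.card {p : X × X // p.1 ∈ N ∧ p.2 ∈ N ∧ Commute p.1 p.2} :=
        card_commute_coset_le N N g₁
    _ = Nat.card {p : N × N // Commute p.1 p.2} := by
        symm
        refine Nat.card_congr ⟨fun p => ⟨((p.1.1 : X), (p.1.2 : X)), p.1.1.2, p.1.2.2, ?_⟩,
          fun p => ⟨(⟨p.1.1, p.2.1⟩, ⟨p.1.2, p.2.2.1⟩), ?_⟩, ?_, ?_⟩
        · have := p.2
          exact this.map N.subtype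
        · have := p.2.2.2
          exact Subtype.ext this
        · intro p; rfl
        · intro p; rfl

/-- The number of commuting pairs of `X` is at most the product of those of `N` and `X ⧸ N`. -/
theorem card_commute_le_mul {X : Type*} [Group X] [Finite X] (N : Subgroup X) [N.Normal] :
    Nat.card {p : X × X // Commute p.1 p.2} ≤
      Nat.card {p : N × N // Commute p.1 p.2} *
        Nat.card {p : (X ⧸ N) × (X ⧸ N) // Commute p.1 p.2} := by
  classical
  have := Fintype.ofFinite X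
  let F : {p : X × X // Commute p.1 p.2} → {p : (X ⧸ N) × (X ⧸ N) // Commute p.1 p.2} :=
    fun p => ⟨((p.1.1 : X ⧸ N), (p.1.2 : X ⧸ N)), by
      have := p.2; exact this.map (QuotientGroup.mk' N)⟩
  have : Fintype {p : (X ⧸ N) × (X ⧸ N) // Commute p.1 p.2} := Fintype.ofFinite _
  rw [← Nat.card_congr (Equiv.sigmaFiberEquiv F), Nat.card_sigma]
  calc ∑ q, Nat.card {p // F p = q}
      ≤ ∑ _q : {p : (X ⧸ N) × (X ⧸ N) // Commute p.1 p.2},
          Nat.card {p : N × N // Commute p.1 p.2} := by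
        refine Finset.sum_le_sum (fun q _ => ?_)
        obtain ⟨⟨a, b⟩, hq⟩ := q
        obtain ⟨g₁, rfl⟩ := QuotientGroup.mk_surjective a
        obtain ⟨g₂, rfl⟩ := QuotientGroup.mk_surjective b
        refine le_trans ?_ (card_commute_fiber_le N g₁ g₂)
        refine Nat.card_le_card_of_injective (fun p => ⟨p.1.1, ?_, ?_, p.1.2⟩) ?_
        · have := congrArg (fun z => z.1.1) p.2
          exact QuotientGroup.eq.1 this.symm
        · have := congrArg (fun z => z.1.2) p.2
          exact QuotientGroup.eq.1 this.symm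
        · intro p q hpq
          simp only [Subtype.mk.injEq] at hpq
          exact Subtype.ext (Subtype.ext hpq)
    _ = _ := by
        simp [mul_comm]

/-- Gallagher: `k(X) ≤ k(N) k(X/N)`. -/
theorem card_conjClasses_le_mul {X : Type*} [Group X] [Finite X] (N : Subgroup X) [N.Normal] :
    Nat.card (ConjClasses X) ≤ Nat.card (ConjClasses N) * Nat.card (ConjClasses (X ⧸ N)) := by
  have h := card_commute_le_mul N
  rw [card_comm_eq_card_conjClasses_mul_card, card_comm_eq_card_conjClasses_mul_card,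
    card_comm_eq_card_conjClasses_mul_card] at h
  have hc : Nat.card X = Nat.card (X ⧸ N) * Nat.card N :=
    Subgroup.card_eq_card_quotient_mul_card_subgroup N
  have hpos : 0 < Nat.card X := Nat.card_pos
  have : Nat.card (ConjClasses X) * Nat.card X ≤
      Nat.card (ConjClasses N) * Nat.card (ConjClasses (X ⧸ N)) * Nat.card X := by
    calc _ ≤ _ := h
      _ = _ := by rw [hc]; ring
  exact Nat.le_of_mul_le_mul_right this hpos

/-- Orbit-stabilizer for `C` acting on the cosets of `Y`: `|C| = |orbit of Y| * |C ∩ Y|`. -/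
theorem card_eq_orbit_ncard_mul_card_inf {X : Type*} [Group X] [Finite X] (C Y : Subgroup X) :
    Nat.card C =
      (MulAction.orbit C (((1 : X) : X ⧸ Y))).ncard * Nat.card (C ⊓ Y : Subgroup X) := by
  have h1 := Subgroup.card_mul_index (MulAction.stabilizer C (((1 : X) : X ⧸ Y)))
  rw [MulAction.index_stabilizer] at h1
  have hmem : ∀ c : C, c ∈ MulAction.stabilizer C (((1 : X) : X ⧸ Y)) ↔ (c : X) ∈ Y := by
    intro c
    rw [MulAction.mem_stabilizer_iff]
    have e : c • (((1 : X) : X ⧸ Y)) = ((((c : X) * 1 : X)) : X ⧸ Y) := rfl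
    rw [e, eq_comm, QuotientGroup.eq]
    simp
  have h2 : Nat.card (MulAction.stabilizer C (((1 : X) : X ⧸ Y))) =
      Nat.card (C ⊓ Y : Subgroup X) := by
    refine Nat.card_congr ⟨fun c => ⟨c.1.1, c.1.2, (hmem c.1).1 c.2⟩,
      fun z => ⟨⟨z.1, z.2.1⟩, (hmem _).2 z.2.2⟩, ?_, ?_⟩
    · intro c; rfl
    · intro z; rfl
  rw [← h1, h2, mul_comm]

theorem card_le_index_mul_card_inf {X : Type*} [Group X] [Finite X] (C Y : Subgroup X) :
    Nat.card C ≤ Y.index * Nat.card (C ⊓ Y : Subgroup X) := by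
  rw [card_eq_orbit_ncard_mul_card_inf C Y]
  exact Nat.mul_le_mul_right _ (Set.ncard_le_card _)

theorem exists_mem_of_card_eq_index_mul_card_inf {X : Type*} [Group X] [Finite X]
    (C Y : Subgroup X) (h : Nat.card C = Y.index * Nat.card (C ⊓ Y : Subgroup X)) (g : X) :
    ∃ c ∈ C, c⁻¹ * g ∈ Y := by
  rw [card_eq_orbit_ncard_mul_card_inf C Y] at h
  have hpos : 0 < Nat.card (C ⊓ Y : Subgroup X) := Nat.card_pos
  have h' : (MulAction.orbit C (((1 : X) : X ⧸ Y))).ncard = Nat.card (X ⧸ Y) :=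
    Nat.eq_of_mul_eq_mul_right hpos h
  have huniv : MulAction.orbit C (((1 : X) : X ⧸ Y)) = Set.univ := by
    by_contra hne
    exact absurd h' (Set.ncard_lt_card hne).ne
  have hg : ((g : X) : X ⧸ Y) ∈ MulAction.orbit C (((1 : X) : X ⧸ Y)) := by
    rw [huniv]; trivial
  obtain ⟨c, hc⟩ := hg
  refine ⟨c, c.2, ?_⟩
  have hc' : (((c : X) * 1 : X) : X ⧸ Y) = ((g : X) : X ⧸ Y) := by
    rw [← hc]
    rfl
  rw [mul_one] at hc'
  exact QuotientGroup.eq.1 hc'

/-- number of commuting pairs as a sum of centralizer orders. -/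
theorem card_commute_eq_sum_card_centralizer {X : Type*} [Group X] [Fintype X] :
    Nat.card {p : X × X // Commute p.1 p.2} =
      ∑ x : X, Nat.card (Subgroup.centralizer ({x} : Set X)) := by
  rw [Nat.card_congr (Equiv.subtypeProdEquivSigmaSubtype (fun a b : X => Commute a b)),
    Nat.card_sigma]
  refine Finset.sum_congr rfl (fun x _ => ?_)
  refine Nat.card_congr (Equiv.subtypeEquivRight (fun z => ?_))
  rw [Subgroup.mem_centralizer_singleton_iff]
  exact ⟨fun h => h.eq.symm, fun h => h.symm⟩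

/-- double counting of commuting pairs in `X × Y`. -/
theorem sum_card_centralizer_inf_eq {X : Type*} [Group X] [Fintype X] (Y : Subgroup X)
    [Fintype Y] :
    ∑ x : X, Nat.card (Subgroup.centralizer ({x} : Set X) ⊓ Y : Subgroup X) =
      ∑ y : Y, Nat.card (Subgroup.centralizer ({(y : X)} : Set X)) := by
  classical
  have e1 : ∀ x : X, Nat.card (Subgroup.centralizer ({x} : Set X) ⊓ Y : Subgroup X) =
      ∑ y : Y, if Commute x (y : X) then 1 else 0 := by
    intro x
    rw [Finset.sum_boole, Nat.cast_id, ← Fintype.card_subtype, ← Nat.card_eq_fintype_card]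
    refine Nat.card_congr ⟨fun z => ⟨⟨z.1, (Subgroup.mem_inf.1 z.2).2⟩, ?_⟩,
      fun y => ⟨y.1.1, Subgroup.mem_inf.2 ⟨?_, y.1.2⟩⟩, ?_, ?_⟩
    · have := (Subgroup.mem_inf.1 z.2).1
      rw [Subgroup.mem_centralizer_singleton_iff] at this
      exact this.symm
    · rw [Subgroup.mem_centralizer_singleton_iff]
      exact y.2.eq.symm
    · intro z; rfl
    · intro y; rfl
  have e2 : ∀ y : Y, Nat.card (Subgroup.centralizer ({(y : X)} : Set X)) =
      ∑ x : X, if Commute x (y : X) then 1 else 0 := by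
    intro y
    rw [Finset.sum_boole, Nat.cast_id, ← Fintype.card_subtype, ← Nat.card_eq_fintype_card]
    refine Nat.card_congr (Equiv.subtypeEquivRight (fun z => ?_))
    rw [Subgroup.mem_centralizer_singleton_iff]
    exact ⟨fun h => h, fun h => h.eq⟩
  simp_rw [e1, e2]
  exact Finset.sum_comm

theorem card_centralizer_inf_eq_subgroup {X : Type*} [Group X] (Y : Subgroup X) (y : Y) :
    Nat.card (Subgroup.centralizer ({(y : X)} : Set X) ⊓ Y : Subgroup X) =
      Nat.card (Subgroup.centralizer ({y} : Set Y)) := by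
  refine Nat.card_congr ⟨fun z => ⟨⟨z.1, (Subgroup.mem_inf.1 z.2).2⟩, ?_⟩,
    fun z => ⟨z.1.1, Subgroup.mem_inf.2 ⟨?_, z.1.2⟩⟩, ?_, ?_⟩
  · have := (Subgroup.mem_inf.1 z.2).1
    rw [Subgroup.mem_centralizer_singleton_iff] at this ⊢
    exact Subtype.ext this
  · have := z.2
    rw [Subgroup.mem_centralizer_singleton_iff] at this ⊢
    exact congrArg Subtype.val this
  · intro z; rfl
  · intro z; rfl

/-- `k(X) ≤ [X:Y] k(Y)`, strict unless `Y` is normal; and `k(Y) ≤ [X:Y] k(X)`. -/
theorem card_conjClasses_subgroup {X : Type*} [Group X] [Finite X] (Y : Subgroup X) :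
    Nat.card (ConjClasses Y) ≤ Y.index * Nat.card (ConjClasses X) ∧
    Nat.card (ConjClasses X) ≤ Y.index * Nat.card (ConjClasses Y) ∧
    (¬ Y.Normal → Nat.card (ConjClasses X) < Y.index * Nat.card (ConjClasses Y)) := by
  classical
  have := Fintype.ofFinite X
  have : Fintype Y := Fintype.ofFinite Y
  have hXY : Nat.card Y * Y.index = Nat.card X := Subgroup.card_mul_index Y
  have hposX : 0 < Nat.card X := Nat.card_pos
  have hposY : 0 < Nat.card Y := Nat.card_pos
  have hm : 0 < Y.index := Nat.pos_of_ne_zero Subgroup.index_ne_zero_of_finite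
  have cpX := card_comm_eq_card_conjClasses_mul_card X
  have cpY := card_comm_eq_card_conjClasses_mul_card Y
  refine ⟨?_, ?_⟩
  · -- cp(Y) ≤ cp(X)
    have hle : Nat.card {p : Y × Y // Commute p.1 p.2} ≤ Nat.card {p : X × X // Commute p.1 p.2} := by
      refine Nat.card_le_card_of_injective
        (fun p ↦ ⟨⟨p.1.1, p.1.2⟩, Subtype.ext_iff.mp p.2⟩) ?_
      exact fun p q h ↦ by simpa only [Subtype.ext_iff, Prod.ext_iff] using h
    rw [cpX, cpY, ← hXY] at hle
    have : Nat.card (ConjClasses Y) * Nat.card Y ≤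
        (Y.index * Nat.card (ConjClasses X)) * Nat.card Y := by
      calc _ ≤ _ := hle
        _ = _ := by ring
    exact Nat.le_of_mul_le_mul_right this hposY
  · -- the main chain
    have hA : Nat.card {p : X × X // Commute p.1 p.2} ≤
        Y.index * ∑ y : Y, Nat.card (Subgroup.centralizer ({(y : X)} : Set X)) := by
      rw [card_commute_eq_sum_card_centralizer, ← sum_card_centralizer_inf_eq, Finset.mul_sum]
      exact Finset.sum_le_sum (fun x _ => card_le_index_mul_card_inf _ Y)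
    have hcpY : Nat.card {p : Y × Y // Commute p.1 p.2} =
        ∑ y : Y, Nat.card (Subgroup.centralizer ({(y : X)} : Set X) ⊓ Y : Subgroup X) := by
      rw [card_commute_eq_sum_card_centralizer]
      exact Finset.sum_congr rfl (fun y _ => (card_centralizer_inf_eq_subgroup Y y).symm)
    have hB : ∑ y : Y, Nat.card (Subgroup.centralizer ({(y : X)} : Set X)) ≤
        Y.index * Nat.card {p : Y × Y // Commute p.1 p.2} := by
      rw [hcpY, Finset.mul_sum]
      exact Finset.sum_le_sum (fun y _ => card_le_index_mul_card_inf _ Y)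
    have hB' : ¬ Y.Normal → ∑ y : Y, Nat.card (Subgroup.centralizer ({(y : X)} : Set X)) <
        Y.index * Nat.card {p : Y × Y // Commute p.1 p.2} := by
      intro hn
      rw [hcpY, Finset.mul_sum]
      have : ∃ y : Y, ∃ g : X, g * y * g⁻¹ ∉ Y := by
        by_contra hcon
        push Not at hcon
        exact hn ⟨fun n hn g => hcon ⟨n, hn⟩ g⟩
      obtain ⟨y, g, hg⟩ := this
      refine Finset.sum_lt_sum (s := (Finset.univ : Finset Y))
        (fun y _ => card_le_index_mul_card_inf _ Y) ⟨y, Finset.mem_univ _, ?_⟩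
      refine lt_of_le_of_ne (card_le_index_mul_card_inf _ Y) (fun heq => hg ?_)
      obtain ⟨c, hc, hcg⟩ := exists_mem_of_card_eq_index_mul_card_inf _ Y heq g⁻¹
      rw [Subgroup.mem_centralizer_singleton_iff] at hc
      -- g⁻¹ = c * y', y' ∈ Y; g y g⁻¹ = y'⁻¹ c⁻¹ y c y' = y'⁻¹ y y'
      have e : g * (y : X) * g⁻¹ = (c⁻¹ * g⁻¹)⁻¹ * (y : X) * (c⁻¹ * g⁻¹) := by
        have hc2 : c * (y : X) * c⁻¹ = (y : X) := by
          rw [hc, mul_assoc, mul_inv_cancel, mul_one]
        calc g * (y : X) * g⁻¹ = g * (c * (y : X) * c⁻¹) * g⁻¹ := by rw [hc2]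
          _ = (c⁻¹ * g⁻¹)⁻¹ * (y : X) * (c⁻¹ * g⁻¹) := by group
      rw [e]
      exact Y.mul_mem (Y.mul_mem (Y.inv_mem hcg) y.2) hcg
    have fin : ∀ S : ℕ, Nat.card {p : X × X // Commute p.1 p.2} ≤ Y.index * S →
        (S ≤ Y.index * Nat.card {p : Y × Y // Commute p.1 p.2} →
          Nat.card (ConjClasses X) ≤ Y.index * Nat.card (ConjClasses Y)) ∧
        (S < Y.index * Nat.card {p : Y × Y // Commute p.1 p.2} →
          Nat.card (ConjClasses X) < Y.index * Nat.card (ConjClasses Y)) := by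
      intro S h1
      rw [cpX, cpY] at *
      constructor
      · intro h2
        have : Nat.card (ConjClasses X) * Nat.card X ≤
            (Y.index * Nat.card (ConjClasses Y)) * Nat.card X := by
          calc _ ≤ Y.index * S := h1
            _ ≤ Y.index * (Y.index * (Nat.card (ConjClasses Y) * Nat.card Y)) :=
              Nat.mul_le_mul_left _ h2
            _ = _ := by rw [← hXY]; ring
        exact Nat.le_of_mul_le_mul_right this hposX
      · intro h2
        have : Nat.card (ConjClasses X) * Nat.card X <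
            (Y.index * Nat.card (ConjClasses Y)) * Nat.card X := by
          calc _ ≤ Y.index * S := h1
            _ < Y.index * (Y.index * (Nat.card (ConjClasses Y) * Nat.card Y)) :=
              Nat.mul_lt_mul_of_pos_left h2 hm
            _ = _ := by rw [← hXY]; ring
        exact Nat.lt_of_mul_lt_mul_right this
    obtain ⟨f1, f2⟩ := fin _ hA
    exact ⟨f1 hB, fun hn => f2 (hB' hn)⟩

end Cfsg.Agent.Lib.Helper22
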