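import Mathlib
import Cfsg.Agent.Lib.Helper2.SOTDefs
import Cfsg.Agent.Lib.Helper27.SOTLADefs
import Cfsg.Agent.Lib.Helper13.OTUCalc
import Cfsg.Agent.Lib.Helper13.OTLADefs
import Cfsg.Agent.Lib.Helper18.SOTLAA1
import Cfsg.Agent.Lib.Helper18.SOTLAA2
import Cfsg.Agent.Lib.Helper1.SOTLAA3
import Cfsg.Agent.Lib.Helper1.SOTLAA6
import Cfsg.Agent.Lib.Helper1.SOTLATools
import Cfsg.Agent.Lib.Helper4.SOTLAA4

/-!
helper22: S5681 + S5709 part (LA'), blocks (R1-4) and (R1-5) of `notes/S5681_LA_leaves.lean` in CORE form: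
the calculus of `Σ = {(κ₁,κ₂,σ) : InM M (Zc G₁ o o' p p' κ₁ κ₂ σ)}` (leaves R1-0d, R1-1a,b,d, R1-2a, R1-3b,c) is taken as
the hypothesis bundle `SigC`.
-/

set_option autoImplicit false
set_option linter.unusedSectionVars false
set_option linter.unusedVariables false

namespace Cfsg.Agent.Lib.Helper22.OTLALeaf
open Matrix
open Cfsg.Agent.Lib.Helper25.Tens Cfsg.Agent.Lib.Helper19.OSub
open Cfsg.Agent.Lib.Helper2.SOT Cfsg.Agent.Lib.Helper27.SOTLA Cfsg.Agent.Lib.Helper13.OTU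
open Cfsg.Agent.Lib.Helper13.OTLA
open scoped Kronecker

variable {F : Type*} [Field F] [Fintype F] {a b : ℕ} {G₁ : Matrix (Fin a) (Fin a) F}
  {G₂ : Matrix (Fin b) (Fin b) F} {o o' p p' : Fin b} {Om M : Subgroup (GL (Idx a b) F)}

/-- the calculus of `Σ` available in `LBase` (statements of the leaves R1-0d, R1-1a, R1-1b, R1-1d, R1-2a) -/
structure SigB (G₁ : Matrix (Fin a) (Fin a) F) (o o' p p' : Fin b)
    (M : Subgroup (GL (Idx a b) F)) : Prop where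
  skew : ∀ κ₁ κ₂ σ : Matrix (Fin a) (Fin a) F, InM M (Zc G₁ o o' p p' κ₁ κ₂ σ) →
    IsSkewAdj G₁ κ₁ ∧ IsSkewAdj G₁ κ₂
  add : ∀ κ₁ κ₂ σ κ₁' κ₂' σ' : Matrix (Fin a) (Fin a) F, InM M (Zc G₁ o o' p p' κ₁ κ₂ σ) →
    InM M (Zc G₁ o o' p p' κ₁' κ₂' σ') →
    InM M (Zc G₁ o o' p p' (κ₁ + κ₁') (κ₂ + κ₂') (σ + σ'))
  neg : ∀ κ₁ κ₂ σ : Matrix (Fin a) (Fin a) F, InM M (Zc G₁ o o' p p' κ₁ κ₂ σ) →
    InM M (Zc G₁ o o' p p' (-κ₁) (-κ₂) (-σ))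
  smul : ∀ (c : F) (κ₁ κ₂ σ : Matrix (Fin a) (Fin a) F), InM M (Zc G₁ o o' p p' κ₁ κ₂ σ) →
    InM M (Zc G₁ o o' p p' (c • κ₁) (c • κ₂) (c • σ))
  xL : ∀ (c : F) (κ₁ κ₂ σ : Matrix (Fin a) (Fin a) F), InM M (Zc G₁ o o' p p' κ₁ κ₂ σ) →
    InM M (Zc G₁ o o' p p' (κ₁ + c • (σ - adjB G₁ σ) + (c * c) • κ₂) κ₂ (σ + c • κ₂))

/-- the calculus of `Σ` available in `LCtx`: `SigB` + the statements of the leaves R1-3b, R1-3c -/
structure SigC (G₁ : Matrix (Fin a) (Fin a) F) (o o' p p' : Fin b)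
    (M : Subgroup (GL (Idx a b) F)) : Prop extends SigB G₁ o o' p p' M where
  s1refl : ∀ d : Fin a → F, fB G₁ d d ≠ 0 → ∀ κ : Matrix (Fin a) (Fin a) F,
    InM M (Zc G₁ o o' p p' κ 0 0) → InM M (Zc G₁ o o' p p' (refl G₁ d * κ * refl G₁ d) 0 0)
  ssrefl : ∀ d : Fin a → F, fB G₁ d d ≠ 0 → ∀ σ : Matrix (Fin a) (Fin a) F,
    InM M (Zc G₁ o o' p p' 0 0 σ) → InM M (Zc G₁ o o' p p' 0 0 (refl G₁ d * σ * refl G₁ d))

/-! ### `wdg` calculus -/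

theorem wdg_add_left (e e' d : Fin a → F) : wdg G₁ (e + e') d = wdg G₁ e d + wdg G₁ e' d := by
  unfold wdg
  rw [Cfsg.Agent.Lib.Helper1.SOTLALeaf.rk1_add_left, Cfsg.Agent.Lib.Helper1.SOTLALeaf.rk1_add_right]
  abel

theorem wdg_smul_left (c : F) (e d : Fin a → F) : wdg G₁ (c • e) d = c • wdg G₁ e d := by
  unfold wdg
  rw [Cfsg.Agent.Lib.Helper1.SOTLALeaf.rk1_smul_left, Cfsg.Agent.Lib.Helper1.SOTLALeaf.rk1_smul_right,
    smul_sub]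

theorem wdg_zero_left (d : Fin a → F) : wdg G₁ 0 d = 0 := by
  unfold wdg
  rw [Cfsg.Agent.Lib.Helper1.SOTLALeaf.rk1_zero_left, Cfsg.Agent.Lib.Helper1.SOTLALeaf.rk1_zero_right,
    sub_zero]

theorem refl_conj_wdg (hs1 : G₁ᵀ = G₁) {d' : Fin a → F} (hd' : fB G₁ d' d' ≠ 0) (e d : Fin a → F) :
    refl G₁ d' * wdg G₁ e d * refl G₁ d' = wdg G₁ (refl G₁ d' *ᵥ e) (refl G₁ d' *ᵥ d) := by
  unfold wdg
  rw [Matrix.mul_sub, Matrix.sub_mul, Cfsg.Agent.Lib.Helper18.SOTLALeaf.refl_conj_rk1 hs1 hd',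
    Cfsg.Agent.Lib.Helper18.SOTLALeaf.refl_conj_rk1 hs1 hd']

/-- the odd finite field: `|F| = 3` or `|F| ≥ 5` -/
theorem card_three_or_five_le (h2 : (2 : F) ≠ 0) : Fintype.card F = 3 ∨ 5 ≤ Fintype.card F := by
  have hchar : ringChar F ≠ 2 := by
    intro h
    apply h2
    have := CharP.cast_eq_zero F (ringChar F)
    rw [h] at this
    exact_mod_cast this
  have hodd := FiniteField.odd_card_of_char_ne_two hchar
  have h1 : 1 < Fintype.card F := Fintype.one_lt_card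
  omega

/-! ### the leaves, core forms -/

/-- (R1-4a) a nonzero matrix does not kill all nonsingular vectors -/
theorem exists_nonsing_mulVec_ne (hs1 : G₁ᵀ = G₁) (hn1 : G₁.det ≠ 0) (h2 : (2 : F) ≠ 0) (ha : 0 < a)
    {κ : Matrix (Fin a) (Fin a) F} (hκ : κ ≠ 0) : ∃ d : Fin a → F, fB G₁ d d ≠ 0 ∧ κ *ᵥ d ≠ 0 := by
  by_contra hcon
  push Not at hcon
  apply hκ
  apply Cfsg.Agent.Lib.Helper1.SOTLALeaf.mat_ext_mulVec
  intro y
  obtain ⟨d, d', hd, hd', rfl⟩ := Cfsg.Agent.Lib.Helper18.SOTLALeaf.eq_add_nonsing hs1 hn1 h2 ha y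
  rw [Matrix.mulVec_add, hcon d hd, hcon d' hd', Matrix.zero_mulVec, add_zero]

/-- `Zc 0 0 0 ∈ Σ` as soon as `Σ` is nonempty -/
theorem SigB.zero (hC : SigB G₁ o o' p p' M) {κ₁ κ₂ σ : Matrix (Fin a) (Fin a) F}
    (hZ : InM M (Zc G₁ o o' p p' κ₁ κ₂ σ)) : InM M (Zc G₁ o o' p p' 0 0 0) := by
  have := hC.smul 0 κ₁ κ₂ σ hZ
  rwa [zero_smul, zero_smul, zero_smul] at this

/-- (R1-4b) core -/
theorem wedge_mem_Sigma1_core (hC : SigC G₁ o o' p p' M) (hs1 : G₁ᵀ = G₁) (h2 : (2 : F) ≠ 0)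
    {d : Fin a → F} (hd : fB G₁ d d ≠ 0)
    {κ : Matrix (Fin a) (Fin a) F} (hZ : InM M (Zc G₁ o o' p p' κ 0 0)) :
    InM M (Zc G₁ o o' p p' (wdg G₁ (κ *ᵥ d) d) 0 0) := by
  have hκ : IsSkewAdj G₁ κ := (hC.skew κ 0 0 hZ).1
  have e := Cfsg.Agent.Lib.Helper1.SOTLALeaf.refl_conj_skew hs1 h2 hd hκ
  have h1 := hC.s1refl d hd κ hZ
  have h3 := hC.add _ _ _ _ _ _ h1 (hC.neg κ 0 0 hZ)
  have h4 := hC.smul (-(fB G₁ d d / 2)) _ _ _ h3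
  have ew : wdg G₁ (κ *ᵥ d) d = -(fB G₁ d d / 2) • (refl G₁ d * κ * refl G₁ d + -κ) := by
    rw [← sub_eq_add_neg, e]
    unfold wdg
    rw [smul_smul]
    have : -(fB G₁ d d / 2) * (2 / fB G₁ d d) = -1 := by
      field_simp
    rw [this, neg_one_smul, neg_sub]
  rw [ew]
  simpa using h4

/-- (R1-4c) core: the spreading step -/
theorem exitL_of_wedge_core (hC : SigC G₁ o o' p p' M) (hs1 : G₁ᵀ = G₁) (hn1 : G₁.det ≠ 0)
    (h2 : (2 : F) ≠ 0) (ha : 3 ≤ a) (hex : ¬ (Fintype.card F = 3 ∧ a = 3))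
    {d e₀ : Fin a → F} (hd : fB G₁ d d ≠ 0)
    (he₀ : e₀ ≠ 0) (hed : fB G₁ e₀ d = 0) (hZ : InM M (Zc G₁ o o' p p' (wdg G₁ e₀ d) 0 0)) :
    ExitL G₁ o o' p p' M := by
  have hzero : InM M (Zc G₁ o o' p p' 0 0 0) := hC.toSigB.zero hZ
  let E : Submodule F (Fin a → F) :=
    { carrier := {e | fB G₁ e d = 0 ∧ InM M (Zc G₁ o o' p p' (wdg G₁ e d) 0 0)}
      zero_mem' := by
        refine ⟨Cfsg.Agent.Lib.Helper1.SOTLALeaf.fB_zero_left G₁ d, ?_⟩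
        rw [wdg_zero_left]
        exact hzero
      add_mem' := by
        rintro e e' ⟨h1, h1'⟩ ⟨h3, h3'⟩
        refine ⟨by rw [fB_add_left, h1, h3, add_zero], ?_⟩
        have := hC.add _ _ _ _ _ _ h1' h3'
        rw [wdg_add_left]
        simpa using this
      smul_mem' := by
        rintro c e ⟨h1, h1'⟩
        refine ⟨by rw [fB_smul_left, h1, mul_zero], ?_⟩
        have := hC.smul c _ _ _ h1'
        rw [wdg_smul_left]
        simpa using this }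
  have hmemE : ∀ e, e ∈ E ↔ (fB G₁ e d = 0 ∧ InM M (Zc G₁ o o' p p' (wdg G₁ e d) 0 0)) :=
    fun e => Iff.rfl
  have hq : 5 ≤ Fintype.card F ∨ 4 ≤ a := by
    rcases card_three_or_five_le h2 with h3 | h5
    · right
      by_contra hcon
      exact hex ⟨h3, by omega⟩
    · exact Or.inl h5
  have hE0 : E ≠ ⊥ := by
    intro hbot
    have : e₀ ∈ E := (hmemE e₀).2 ⟨hed, hZ⟩
    rw [hbot, Submodule.mem_bot] at this
    exact he₀ this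
  have hall := Cfsg.Agent.Lib.Helper4.SOTLALeaf.refl_irred hs1 hn1 h2 ha hd hq E
    (fun e he => ((hmemE e).1 he).1) hE0 (by
      intro d' hd'd hd' e he
      obtain ⟨h1, h1'⟩ := (hmemE e).1 he
      have hfix : refl G₁ d' *ᵥ d = d := by
        rw [Cfsg.Agent.Lib.Helper18.SOTLALeaf.refl_mulVec, fB_comm G₁ hs1 d d', hd'd]
        simp
      refine (hmemE _).2 ⟨?_, ?_⟩
      · rw [Cfsg.Agent.Lib.Helper18.SOTLALeaf.fB_refl_left hs1, hfix, h1]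
      · have := hC.s1refl d' hd' _ h1'
        rwa [refl_conj_wdg hs1 hd', hfix] at this)
  refine ⟨d, hd, fun e hde c => ?_⟩
  have he : e ∈ E := hall e (by rw [fB_comm G₁ hs1, hde])
  have := hC.smul c _ _ _ ((hmemE e).1 he).2
  simpa using this

/-- (R1-4d) core -/
theorem exitL_of_Sigma1_core (hC : SigC G₁ o o' p p' M) (hs1 : G₁ᵀ = G₁) (hn1 : G₁.det ≠ 0)
    (h2 : (2 : F) ≠ 0) (ha : 3 ≤ a) (hex : ¬ (Fintype.card F = 3 ∧ a = 3))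
    {κ : Matrix (Fin a) (Fin a) F}
    (hZ : InM M (Zc G₁ o o' p p' κ 0 0)) (hκ : κ ≠ 0) : ExitL G₁ o o' p p' M := by
  obtain ⟨d, hd, hκd⟩ := exists_nonsing_mulVec_ne hs1 hn1 h2 (by omega) hκ
  have hsk : IsSkewAdj G₁ κ := (hC.skew κ 0 0 hZ).1
  have h0 : fB G₁ (κ *ᵥ d) d = 0 := by
    have e := Cfsg.Agent.Lib.Helper1.SOTLALeaf.skewAdj_fB hsk d d
    rw [fB_comm G₁ hs1 d (κ *ᵥ d)] at e
    have e2 : (2 : F) * fB G₁ (κ *ᵥ d) d = 0 := by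
      rw [two_mul]
      nth_rewrite 1 [e]
      ring
    rcases mul_eq_zero.1 e2 with h | h
    · exact absurd h h2
    · exact h
  exact exitL_of_wedge_core hC hs1 hn1 h2 ha hex hd hκd h0
    (wedge_mem_Sigma1_core hC hs1 h2 hd hZ)

/-- (R1-5a) core -/
theorem sigma_selfadj_core (hC : SigB G₁ o o' p p' M) (hn1 : G₁.det ≠ 0)
    (hS1 : ∀ κ : Matrix (Fin a) (Fin a) F, InM M (Zc G₁ o o' p p' κ 0 0) → κ = 0)
    {σ : Matrix (Fin a) (Fin a) F} (hZ : InM M (Zc G₁ o o' p p' 0 0 σ)) : IsSelfAdj G₁ σ := by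
  have h1 := hC.xL 1 0 0 σ hZ
  have h3 := hC.add _ _ _ _ _ _ h1 (hC.neg 0 0 σ hZ)
  have h4 : InM M (Zc G₁ o o' p p' (σ - adjB G₁ σ) 0 0) := by
    simpa using h3
  have h5 := hS1 _ h4
  have h6 : adjB G₁ σ = σ := (sub_eq_zero.1 h5).symm
  unfold IsSelfAdj
  unfold adjB at h6
  have hu : IsUnit G₁.det := Ne.isUnit hn1
  have := congrArg (fun Z => G₁ * Z) h6
  rw [← Matrix.mul_assoc, ← Matrix.mul_assoc, Matrix.mul_nonsing_inv _ hu, Matrix.one_mul] at this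
  exact this.symm

/-- (R1-5b) core -/
theorem exitS_of_SigmaS_core (hC : SigC G₁ o o' p p' M) (hs1 : G₁ᵀ = G₁) (hn1 : G₁.det ≠ 0)
    (h2 : (2 : F) ≠ 0) (ha : 3 ≤ a) (hex : ¬ (Fintype.card F = 3 ∧ a = 3))
    (hS1 : ∀ κ : Matrix (Fin a) (Fin a) F, InM M (Zc G₁ o o' p p' κ 0 0) → κ = 0)
    {σ : Matrix (Fin a) (Fin a) F} (hZ : InM M (Zc G₁ o o' p p' 0 0 σ)) (hns : ¬ IsScal σ) :
    ExitS G₁ o o' p p' M := by
  have hzero : InM M (Zc G₁ o o' p p' 0 0 0) := hC.toSigB.zero hZ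
  let S : Submodule F (Matrix (Fin a) (Fin a) F) :=
    { carrier := {σ | InM M (Zc G₁ o o' p p' 0 0 σ)}
      zero_mem' := hzero
      add_mem' := by
        intro σ σ' h1 h3
        have := hC.add _ _ _ _ _ _ h1 h3
        simpa using this
      smul_mem' := by
        intro c σ h1
        have := hC.smul c _ _ _ h1
        simpa using this }
  have hmemS : ∀ σ, σ ∈ S ↔ InM M (Zc G₁ o o' p p' 0 0 σ) := fun σ => Iff.rfl
  obtain ⟨z, hz0, hzz, hzS⟩ := Cfsg.Agent.Lib.Helper1.SOTLALeaf.lemmaSA hs1 hn1 h2 ha hex S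
    (fun σ hσ => sigma_selfadj_core hC.toSigB hn1 hS1 ((hmemS σ).1 hσ))
    (fun d hd σ hσ => (hmemS _).2 (hC.ssrefl d hd σ ((hmemS σ).1 hσ)))
    ((hmemS σ).2 hZ) hns
  exact ⟨z, hz0, hzz, fun c => (hmemS _).1 (S.smul_mem c hzS)⟩

end Cfsg.Agent.Lib.Helper22.OTLALeaf
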