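import Mathlib
import Cfsg.Agent.Lib.Helper22.OTLAR14Core
import Cfsg.Agent.Lib.Helper7.OTLAIso
import Cfsg.Agent.Lib.Helper15.OTLAR11
import Cfsg.Agent.Lib.Helper15.OTLAR13
import Cfsg.Agent.Lib.Helper26.OTLAR12

/-!
helper22: S5681 + S5709 part (LA'), leaves (R1-4) `exists_nonsing_mulVec_ne` (in `OTLAR14Core`), `wedge_mem_Sigma1`,
`exitL_of_wedge`, `exitL_of_Sigma1` and (R1-5) `sigma_selfadj`, `exitS_of_SigmaS` of `notes/S5681_LA_leaves.lean`, EXACT statements.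
-/

set_option autoImplicit false
set_option linter.unusedSectionVars false
set_option linter.unusedVariables false

namespace Cfsg.Agent.Lib.Helper22.OTLALeaf
open Matrix
open Cfsg.Agent.Lib.Helper25.Tens Cfsg.Agent.Lib.Helper19.OSub
open Cfsg.Agent.Lib.Helper2.SOT Cfsg.Agent.Lib.Helper27.SOTLA Cfsg.Agent.Lib.Helper13.OTU
open Cfsg.Agent.Lib.Helper13.OTLA
open scoped Kronecker

variable {F : Type*} [Field F] [Fintype F] {a b : ℕ} {G₁ : Matrix (Fin a) (Fin a) F}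
  {G₂ : Matrix (Fin b) (Fin b) F} {o o' p p' : Fin b} {Om M : Subgroup (GL (Idx a b) F)}

/-- (R1-0d) from `InM_iso` (helper15) and `Zc_iso` (helper7) -/
theorem skew_of_InM (h : LBase G₁ G₂ o o' p p' Om M) {κ₁ κ₂ σ : Matrix (Fin a) (Fin a) F}
    (hZ : InM M (Zc G₁ o o' p p' κ₁ κ₂ σ)) : IsSkewAdj G₁ κ₁ ∧ IsSkewAdj G₁ κ₂ :=
  (Cfsg.Agent.Lib.Helper7.OTLALeaf.Zc_iso h.symm1 h.symm2 h.nd1 h.adp κ₁ κ₂ σ).1
    (Cfsg.Agent.Lib.Helper15.OTLALeaf.InM_iso h hZ)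

/-- the `Σ`-calculus of `LBase` from the landed leaves -/
theorem sigB_of_LBase (h : LBase G₁ G₂ o o' p p' Om M) : SigB G₁ o o' p p' M where
  skew := fun κ₁ κ₂ σ hZ => skew_of_InM h hZ
  add := fun κ₁ κ₂ σ κ₁' κ₂' σ' hZ hZ' => Cfsg.Agent.Lib.Helper15.OTLALeaf.InM_Zc_add h hZ hZ'
  neg := fun κ₁ κ₂ σ hZ => Cfsg.Agent.Lib.Helper15.OTLALeaf.InM_Zc_neg h hZ
  smul := fun c κ₁ κ₂ σ hZ => Cfsg.Agent.Lib.Helper15.OTLALeaf.InM_Zc_smul h c hZ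
  xL := fun c κ₁ κ₂ σ hZ =>
    Cfsg.Agent.Lib.Helper26.OTLALeaf.InM_Zc_xL_core h c (skew_of_InM h hZ).2 hZ

/-- the `Σ`-calculus of `LCtx` from the landed leaves -/
theorem sigC_of_LCtx (h : LCtx G₁ G₂ o o' p p' Om M) : SigC G₁ o o' p p' M where
  toSigB := sigB_of_LBase h.toLBase
  s1refl := fun d hd κ hZ => Cfsg.Agent.Lib.Helper15.OTLALeaf.Sigma1_refl h hd hZ
  ssrefl := fun d hd σ hZ => Cfsg.Agent.Lib.Helper15.OTLALeaf.SigmaS_refl h hd hZ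

/-- (R1-4b) -/
theorem wedge_mem_Sigma1 (h : LCtx G₁ G₂ o o' p p' Om M) {d : Fin a → F} (hd : fB G₁ d d ≠ 0)
    {κ : Matrix (Fin a) (Fin a) F} (hZ : InM M (Zc G₁ o o' p p' κ 0 0)) :
    InM M (Zc G₁ o o' p p' (wdg G₁ (κ *ᵥ d) d) 0 0) :=
  wedge_mem_Sigma1_core (sigC_of_LCtx h) h.symm1 h.two hd hZ

/-- (R1-4c) -/
theorem exitL_of_wedge (h : LCtx G₁ G₂ o o' p p' Om M) {d e₀ : Fin a → F} (hd : fB G₁ d d ≠ 0)
    (he₀ : e₀ ≠ 0) (hed : fB G₁ e₀ d = 0) (hZ : InM M (Zc G₁ o o' p p' (wdg G₁ e₀ d) 0 0)) :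
    ExitL G₁ o o' p p' M :=
  exitL_of_wedge_core (sigC_of_LCtx h) h.symm1 h.nd1 h.two h.ha h.hex hd he₀ hed hZ

/-- (R1-4d) -/
theorem exitL_of_Sigma1 (h : LCtx G₁ G₂ o o' p p' Om M) {κ : Matrix (Fin a) (Fin a) F}
    (hZ : InM M (Zc G₁ o o' p p' κ 0 0)) (hκ : κ ≠ 0) : ExitL G₁ o o' p p' M :=
  exitL_of_Sigma1_core (sigC_of_LCtx h) h.symm1 h.nd1 h.two h.ha h.hex hZ hκ

/-- (R1-5a) -/
theorem sigma_selfadj (h : LBase G₁ G₂ o o' p p' Om M)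
    (hS1 : ∀ κ : Matrix (Fin a) (Fin a) F, InM M (Zc G₁ o o' p p' κ 0 0) → κ = 0)
    {σ : Matrix (Fin a) (Fin a) F} (hZ : InM M (Zc G₁ o o' p p' 0 0 σ)) : IsSelfAdj G₁ σ :=
  sigma_selfadj_core (sigB_of_LBase h) h.nd1 hS1 hZ

/-- (R1-5b) -/
theorem exitS_of_SigmaS (h : LCtx G₁ G₂ o o' p p' Om M)
    (hS1 : ∀ κ : Matrix (Fin a) (Fin a) F, InM M (Zc G₁ o o' p p' κ 0 0) → κ = 0)
    {σ : Matrix (Fin a) (Fin a) F} (hZ : InM M (Zc G₁ o o' p p' 0 0 σ)) (hns : ¬ IsScal σ) :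
    ExitS G₁ o o' p p' M :=
  exitS_of_SigmaS_core (sigC_of_LCtx h) h.symm1 h.nd1 h.two h.ha h.hex hS1 hZ hns

end Cfsg.Agent.Lib.Helper22.OTLALeaf
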