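import Mathlib
import Cfsg.Agent.Lib.Helper2.SOTDefs
import Cfsg.Agent.Lib.Helper27.SOTLADefs
import Cfsg.Agent.Lib.Helper13.OTUCalc
import Cfsg.Agent.Lib.Helper13.OTLADefs
import Cfsg.Agent.Lib.Helper29.OTLAC0
import Cfsg.Agent.Lib.Helper29.OTLAC4
import Cfsg.Agent.Lib.Helper29.OTLAP3
import Cfsg.Agent.Lib.Helper15.OTLAR11
import Cfsg.Agent.Lib.Helper23.OTLAYel
import Cfsg.Agent.Lib.Helper13.OTLAR1

/-!
helper22: S5681 + S5709 part (LA'), leaf (R1+) `R1plus` of `notes/S5681_LA_leaves.lean`, CORE form: the conclusion of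
(P2c) `theta_scalar` at `g` is a hypothesis; everything else is imported.
-/

set_option autoImplicit false
set_option linter.unusedSectionVars false
set_option linter.unusedVariables false

namespace Cfsg.Agent.Lib.Helper22.OTLALeaf
open Matrix
open Cfsg.Agent.Lib.Helper25.Tens Cfsg.Agent.Lib.Helper19.OSub
open Cfsg.Agent.Lib.Helper2.SOT Cfsg.Agent.Lib.Helper27.SOTLA Cfsg.Agent.Lib.Helper13.OTU
open Cfsg.Agent.Lib.Helper13.OTLA
open Cfsg.Agent.Lib.Helper29.OTLALeaf Cfsg.Agent.Lib.Helper15.OTLALeaf Cfsg.Agent.Lib.Helper23.OTLALeaf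
  Cfsg.Agent.Lib.Helper13.OTLALeaf
open scoped Kronecker

variable {F : Type*} [Field F] [Fintype F] {a b : ℕ} {G₁ : Matrix (Fin a) (Fin a) F}
  {G₂ : Matrix (Fin b) (Fin b) F} {o o' p p' : Fin b} {Om M : Subgroup (GL (Idx a b) F)}

/-- (R1+) elements of `M` of `U`-form are in `KG`; core form -/
theorem R1plus_core (h : LBase G₁ G₂ o o' p p' Om M) (hR1 : R1P G₁ o o' p p' M)
    {g : GL (Idx a b) F} (hg : g ∈ M) (hU : UL o o' p p' g.1)
    (hts : ∀ m : Fin b, cls o o' p p' m = 1 → IsScal (blk g.1 m p) ∧ IsScal (blk g.1 m p')) :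
    g ∈ KG a b F := by
  classical
  have ha : 0 < a := by have := h.ha; omega
  have hb : 0 < b := by have := h.hb; omega
  have hA := h.adp
  have hd : Disjoint (TL o o') (TL p p') := TL_disjoint hA
  have hclso : cls o o' p p' o = 0 := (cls_eq_zero_iff o).2 (Or.inl rfl)
  have hclso' : cls o o' p p' o' = 0 := (cls_eq_zero_iff o').2 (Or.inr rfl)
  have hclsp : cls o o' p p' p = 2 := (cls_eq_two_iff hA p).2 (Or.inl rfl)
  have hclsp' : cls o o' p p' p' = 2 := (cls_eq_two_iff hA p').2 (Or.inr rfl)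
  -- the scalars of the `θ`-part
  have hsc : ∀ m : Fin b, ∃ c c' : F, cls o o' p p' m = 1 →
      (blk g.1 m p = c • (1 : Matrix (Fin a) (Fin a) F) ∧
        blk g.1 m p' = c' • (1 : Matrix (Fin a) (Fin a) F)) := by
    intro m
    by_cases hm : cls o o' p p' m = 1
    · obtain ⟨⟨c, hc⟩, ⟨c', hc'⟩⟩ := hts m hm
      exact ⟨c, c', fun _ => ⟨hc, hc'⟩⟩
    · exact ⟨0, 0, fun h' => absurd h' hm⟩
  choose ψ₀ ψ₀' hψ₀ using hsc
  obtain ⟨ψ, hψ⟩ : ∃ ψ : Fin b → F, ψ = fun m => if cls o o' p p' m = 1 then ψ₀ m else 0 := ⟨_, rfl⟩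
  obtain ⟨ψ', hψ'⟩ : ∃ ψ' : Fin b → F, ψ' = fun m => if cls o o' p p' m = 1 then ψ₀' m else 0 :=
    ⟨_, rfl⟩
  have hψB : IsB0 o o' p p' ψ := by
    rw [hψ]
    refine ⟨?_, ?_, ?_, ?_⟩ <;> simp [hclso, hclso', hclsp, hclsp']
  have hψ'B : IsB0 o o' p p' ψ' := by
    rw [hψ']
    refine ⟨?_, ?_, ?_, ?_⟩ <;> simp [hclso, hclso', hclsp, hclsp']
  have hgp : ∀ m, cls o o' p p' m = 1 → blk g.1 m p = ψ m • (1 : Matrix (Fin a) (Fin a) F) := by
    intro m hm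
    rw [hψ, (hψ₀ m hm).1]
    simp [hm]
  have hgp' : ∀ m, cls o o' p p' m = 1 → blk g.1 m p' = ψ' m • (1 : Matrix (Fin a) (Fin a) F) := by
    intro m hm
    rw [hψ', (hψ₀ m hm).2]
    simp [hm]
  obtain ⟨y, hyM, hyK, hyU, hy1, hy2, -, -⟩ := exists_yel h ψ hψB
  obtain ⟨y', hy'M, hy'K, hy'U, hy'1, hy'2, -, -⟩ := exists_yel' h ψ' hψ'B
  have hyiU : UL o o' p p' y⁻¹.1 := (UFS_inv hd y hyU).1
  have hy'iU : UL o o' p p' y'⁻¹.1 := (UFS_inv hd y' hy'U).1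
  have hgyU : UL o o' p p' (g.1 * y⁻¹.1) := (UFS_mul hd hU hyiU).1
  have huU : UL o o' p p' (g * y⁻¹ * y'⁻¹).1 := by
    rw [Units.val_mul, Units.val_mul]
    exact (UFS_mul hd hgyU hy'iU).1
  have huM : g * y⁻¹ * y'⁻¹ ∈ M := M.mul_mem (M.mul_mem hg (M.inv_mem hyM)) (M.inv_mem hy'M)
  -- the `θ`-part of `u` vanishes
  have hθ : ∀ m : Fin b, cls o o' p p' m = 1 →
      blk (g * y⁻¹ * y'⁻¹).1 m p = 0 ∧ blk (g * y⁻¹ * y'⁻¹).1 m p' = 0 := by
    intro m hm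
    have hnc : ∀ c : Fin b, ¬ Corner (TL o o') (TL p p') m c := by
      intro c hc
      have := ((corner_iff_cls hA m c).1 hc).1
      omega
    have hmp : m ≠ p := by
      rintro rfl
      omega
    have hmp' : m ≠ p' := by
      rintro rfl
      omega
    rw [Units.val_mul, Units.val_mul]
    constructor
    · rw [blk_mul_UFS_off hd hgyU hy'iU m p (hnc p), blk_mul_UFS_off hd hU hyiU m p (hnc p),
        blk_inv_UFS_off hd y hyU m p (hnc p), blk_inv_UFS_off hd y' hy'U m p (hnc p),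
        hgp m hm, hy1 m hm, hy'1 m hm, if_neg hmp, if_neg hmp]
      abel
    · rw [blk_mul_UFS_off hd hgyU hy'iU m p' (hnc p'), blk_mul_UFS_off hd hU hyiU m p' (hnc p'),
        blk_inv_UFS_off hd y hyU m p' (hnc p'), blk_inv_UFS_off hd y' hy'U m p' (hnc p'),
        hgp' m hm, hy2 m hm, hy'2 m hm, if_neg hmp', if_neg hmp']
      abel
  have huiso : IsIso G₁ G₂ (g * y⁻¹ * y'⁻¹).1 := InM_iso h ⟨_, huM, rfl⟩
  have hC := suppC_of_theta_zero h.symm1 h.symm2 h.nd1 hA huiso huU hθ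
  obtain ⟨c, hc⟩ := R1_corner h hR1 huM hC
  have huK : g * y⁻¹ * y'⁻¹ ∈ KG a b F := Zc_scalar_mem_KG ha hb h.nd1 _ c hc
  have e : g = (g * y⁻¹ * y'⁻¹) * y' * y := by group
  rw [e]
  exact (KG a b F).mul_mem ((KG a b F).mul_mem huK hy'K) hyK

end Cfsg.Agent.Lib.Helper22.OTLALeaf
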