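import Mathlib
import Cfsg.Agent.Lib.Helper2.SOTDefs
import Cfsg.Agent.Lib.Helper27.SOTLADefs
import Cfsg.Agent.Lib.Helper13.OTUCalc
import Cfsg.Agent.Lib.Helper13.OTLADefs
import Cfsg.Agent.Lib.Helper7.OTLAZm
import Cfsg.Agent.Lib.Helper15.OTLAR11
import Cfsg.Agent.Lib.Helper26.OTLAFC

/-!
helper22: S5681 + S5709 part (LA'), leaf (FC-B) `fc_caseB` of `notes/S5681_LA_leaves.lean`, CORE form: the leaves
(R1-0e) `InM_Zc_scalar`, (FC-0d) `orth_of_IsIso_one_kron`, (FC-B1) `tsl_of_sq_zero`, (FC-B2) `stabR_of_range` are hypotheses.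
-/

set_option autoImplicit false
set_option linter.unusedSectionVars false
set_option linter.unusedVariables false

namespace Cfsg.Agent.Lib.Helper22.OTLALeaf
open Matrix
open Cfsg.Agent.Lib.Helper25.Tens Cfsg.Agent.Lib.Helper19.OSub
open Cfsg.Agent.Lib.Helper2.SOT Cfsg.Agent.Lib.Helper27.SOTLA Cfsg.Agent.Lib.Helper13.OTU
open Cfsg.Agent.Lib.Helper13.OTLA
open Cfsg.Agent.Lib.Helper7.OTLALeaf Cfsg.Agent.Lib.Helper15.OTLALeaf Cfsg.Agent.Lib.Helper26.OTLALeaf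
open scoped Kronecker

variable {F : Type*} [Field F] [Fintype F] {a b : ℕ} {G₁ : Matrix (Fin a) (Fin a) F}
  {G₂ : Matrix (Fin b) (Fin b) F} {o o' p p' : Fin b} {Om M : Subgroup (GL (Idx a b) F)}

/-- `1 ⊗ β - 1 = 1 ⊗ (β - 1)` -/
theorem one_kron_sub_one (β : Matrix (Fin b) (Fin b) F) :
    ((1 : Matrix (Fin a) (Fin a) F) ⊗ₖ β : Matrix (Idx a b) (Idx a b) F) - 1 =
      (1 : Matrix (Fin a) (Fin a) F) ⊗ₖ (β - 1) := by
  ext ⟨i, k⟩ ⟨j, l⟩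
  simp only [Matrix.sub_apply, Matrix.kroneckerMap_apply, Matrix.one_apply, Prod.mk.injEq]
  by_cases h1 : i = j <;> by_cases h2 : k = l <;> simp [h1, h2]

/-- `1 ⊗ X = 0 → X = 0` -/
theorem eq_zero_of_one_kron (ha : 0 < a) {X : Matrix (Fin b) (Fin b) F}
    (h : ((1 : Matrix (Fin a) (Fin a) F) ⊗ₖ X : Matrix (Idx a b) (Idx a b) F) = 0) : X = 0 := by
  ext k l
  have := congrFun (congrFun h (⟨0, ha⟩, k)) (⟨0, ha⟩, l)
  simpa [Matrix.kroneckerMap_apply] using this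

/-- (FC-B) case `k' = 1 ⊗ β₂`: `m ∈ KG`; core form. -/
theorem fc_caseB_core (h : LBase G₁ G₂ o o' p p' Om M)
    (hscal : InM M (Zc G₁ o o' p p' 0 0 ((1 : F) • (1 : Matrix (Fin a) (Fin a) F))))
    (horthB : ∀ β : Matrix (Fin b) (Fin b) F,
      IsIso G₁ G₂ ((1 : Matrix (Fin a) (Fin a) F) ⊗ₖ β) → IsOrthB G₂ β)
    (htsl : ∀ ν : Matrix (Fin b) (Fin b) F, IsSkewAdj G₂ ν → ν * ν = 0 → ν.rank = 2 →
      ∃ w₁ w₂ : Fin b → F, fB G₂ (ν *ᵥ w₁) (ν *ᵥ w₁) = 0 ∧ fB G₂ (ν *ᵥ w₂) (ν *ᵥ w₂) = 0 ∧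
        fB G₂ (ν *ᵥ w₁) (ν *ᵥ w₂) = 0 ∧
        (∀ c₁ c₂ : F, c₁ • (ν *ᵥ w₁) + c₂ • (ν *ᵥ w₂) = 0 → c₁ = 0 ∧ c₂ = 0))
    (hstab : ∀ (m t : GL (Idx a b) F),
      t.1 = Zc G₁ o o' p p' 0 0 ((1 : F) • (1 : Matrix (Fin a) (Fin a) F)) →
      ∀ β₂ : Matrix (Fin b) (Fin b) F,
      (m⁻¹ * t * m).1 = (1 : Matrix (Fin a) (Fin a) F) ⊗ₖ β₂ → ∀ β : GL (Fin b) F,
      (∃ w : Fin b → F, β.1 *ᵥ Pi.single o 1 = (β₂ - 1) *ᵥ w) →
      (∃ w : Fin b → F, β.1 *ᵥ Pi.single o' 1 = (β₂ - 1) *ᵥ w) →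
      StabR o o' (m * (kel (1 : GL (Fin a) F) β : GL (Idx a b) F)).1)
    (hL1 : ∀ g ∈ M, StabR o o' g.1 → g ∈ KG a b F) {m t : GL (Idx a b) F} (hm : m ∈ M)
    (ht : t.1 = Zc G₁ o o' p p' 0 0 ((1 : F) • (1 : Matrix (Fin a) (Fin a) F)))
    (β₂ : Matrix (Fin b) (Fin b) F)
    (hk : (m⁻¹ * t * m).1 = (1 : Matrix (Fin a) (Fin a) F) ⊗ₖ β₂) : m ∈ KG a b F := by
  have ha : 0 < a := by have := h.ha; omega
  have hb : 0 < b := by have := h.hb; omega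
  -- `t ∈ M`
  have htM : t ∈ M := by
    obtain ⟨t', ht'M, ht'⟩ := hscal
    have : t = t' := Units.ext (by rw [ht, ht'])
    rw [this]
    exact ht'M
  have hkM : m⁻¹ * t * m ∈ M := M.mul_mem (M.mul_mem (M.inv_mem hm) htM) hm
  obtain ⟨ν, hν⟩ : ∃ ν : Matrix (Fin b) (Fin b) F, ν = β₂ - 1 := ⟨_, rfl⟩
  have hβ₂ : β₂ = 1 + ν := by rw [hν]; abel
  have hsub : (m⁻¹ * t * m).1 - 1 = (1 : Matrix (Fin a) (Fin a) F) ⊗ₖ ν := by
    rw [hk, one_kron_sub_one, hν]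
  -- `ν² = 0`
  have hνsq : ν * ν = 0 := by
    have h1 := conj_sub_one_sq (G₁ := G₁) (m := m) h.adp ht
    rw [hsub, ← Matrix.mul_kronecker_mul, Matrix.one_mul] at h1
    exact eq_zero_of_one_kron ha h1
  -- `rank ν = 2`
  have hrank : ν.rank = 2 := by
    have e1 : ((m⁻¹ * t * m).1 - 1) = m⁻¹.1 * (t.1 - 1) * m.1 := by
      rw [Units.val_mul, Units.val_mul, Matrix.mul_sub, Matrix.sub_mul, Matrix.mul_one,
        ← Units.val_mul m⁻¹ m, inv_mul_cancel, Units.val_one]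
    have e2 : t.1 - 1 = (1 : Matrix (Fin a) (Fin a) F) ⊗ₖ (nL o o' p p' : Matrix (Fin b) (Fin b) F) := by
      rw [ht, Zc_scalar_eq h.nd1, one_kron_sub_one, one_smul, add_sub_cancel_left]
    have hdm : IsUnit m.1.det := (Matrix.isUnit_iff_isUnit_det _).1 m.isUnit
    have hdm' : IsUnit m⁻¹.1.det := (Matrix.isUnit_iff_isUnit_det _).1 m⁻¹.isUnit
    have e3 : ((m⁻¹ * t * m).1 - 1).rank = (t.1 - 1).rank := by
      rw [e1, Matrix.rank_mul_eq_left_of_isUnit_det _ _ hdm,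
        Matrix.rank_mul_eq_right_of_isUnit_det _ _ hdm']
    rw [hsub, e2, rank_one_kron, rank_one_kron, rank_nL h.adp] at e3
    exact Nat.eq_of_mul_eq_mul_left ha e3
  -- `β₂` is orthogonal, `ν` is skew
  have hiso : IsIso G₁ G₂ ((1 : Matrix (Fin a) (Fin a) F) ⊗ₖ β₂) := by
    rw [← hk]
    exact InM_iso h ⟨_, hkM, rfl⟩
  have horth : IsOrthB G₂ (1 + ν) := by
    rw [← hβ₂]
    exact horthB _ hiso
  have hsk : IsSkewAdj G₂ ν := (skew_of_orth_sq_zero h.symm2 hνsq horth).2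
  -- the image of `ν` is a totally singular line
  obtain ⟨w₁, w₂, hyy, hzz, hyz, hli⟩ := htsl ν hsk hνsq hrank
  obtain ⟨β, hβOm, c₁, c₂, c₃, c₄, hβo, hβo'⟩ := h.om_trans _ _ hyy hzz hyz hli
  have hβM : (kel (1 : GL (Fin a) F) β : GL (Idx a b) F) ∈ M := kel_mem_M h 1 β hβOm
  have hst : StabR o o' (m * (kel (1 : GL (Fin a) F) β : GL (Idx a b) F)).1 := by
    refine hstab m t ht β₂ hk β ⟨c₁ • w₁ + c₂ • w₂, ?_⟩ ⟨c₃ • w₁ + c₄ • w₂, ?_⟩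
    · rw [hβo, ← hν, Matrix.mulVec_add, Matrix.mulVec_smul, Matrix.mulVec_smul]
    · rw [hβo', ← hν, Matrix.mulVec_add, Matrix.mulVec_smul, Matrix.mulVec_smul]
  have hmk := hL1 _ (M.mul_mem hm hβM) hst
  have e : m = (m * (kel (1 : GL (Fin a) F) β : GL (Idx a b) F)) *
      (kel (1 : GL (Fin a) F) β : GL (Idx a b) F)⁻¹ := by group
  rw [e]
  exact (KG a b F).mul_mem hmk ((KG a b F).inv_mem (kel_mem_KG 1 β))

end Cfsg.Agent.Lib.Helper22.OTLALeaf
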