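import Mathlib
import Cfsg.Agent.Lib.Helper22.OTLAFCBCore
import Cfsg.Agent.Lib.Helper22.OTLAR1pCore
import Cfsg.Agent.Lib.Helper7.OTLAFC0
import Cfsg.Agent.Lib.Helper15.OTLAR10
import Cfsg.Agent.Lib.Helper23.OTLATheta
import Cfsg.Agent.Lib.Helper29.OTLAR1p

/-!
helper22: S5681 + S5709 part (LA'), leaves (FC-B) `fc_caseB` and (R1+) `R1plus` of `notes/S5681_LA_leaves.lean`,
EXACT statements (from the cores `OTLAFCBCore`, `OTLAR1pCore` and the landed input leaves).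
-/

set_option autoImplicit false
set_option linter.unusedSectionVars false
set_option linter.unusedVariables false

namespace Cfsg.Agent.Lib.Helper22.OTLALeaf
open Matrix
open Cfsg.Agent.Lib.Helper25.Tens Cfsg.Agent.Lib.Helper19.OSub
open Cfsg.Agent.Lib.Helper2.SOT Cfsg.Agent.Lib.Helper27.SOTLA Cfsg.Agent.Lib.Helper13.OTU
open Cfsg.Agent.Lib.Helper13.OTLA
open scoped Kronecker

variable {F : Type*} [Field F] [Fintype F] {a b : ℕ} {G₁ : Matrix (Fin a) (Fin a) F}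
  {G₂ : Matrix (Fin b) (Fin b) F} {o o' p p' : Fin b} {Om M : Subgroup (GL (Idx a b) F)}

/-- (FC-B) case `k' = 1 ⊗ β₂`: `m ∈ KG`. -/
theorem fc_caseB (h : LBase G₁ G₂ o o' p p' Om M)
    (hL1 : ∀ g ∈ M, StabR o o' g.1 → g ∈ KG a b F) {m t : GL (Idx a b) F} (hm : m ∈ M)
    (ht : t.1 = Zc G₁ o o' p p' 0 0 ((1 : F) • (1 : Matrix (Fin a) (Fin a) F)))
    (β₂ : Matrix (Fin b) (Fin b) F)
    (hk : (m⁻¹ * t * m).1 = (1 : Matrix (Fin a) (Fin a) F) ⊗ₖ β₂) : m ∈ KG a b F :=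
  fc_caseB_core h (Cfsg.Agent.Lib.Helper15.OTLALeaf.InM_Zc_scalar h (1 : F))
    (fun β hβ => Cfsg.Agent.Lib.Helper7.OTLALeaf.orth_of_IsIso_one_kron h.nd1
      (by have := h.ha; omega) hβ)
    (fun ν hsk hν hr => Cfsg.Agent.Lib.Helper7.OTLALeaf.tsl_of_sq_zero h.symm2 hsk hν hr)
    (fun m t ht β₂ hk β ho ho' =>
      Cfsg.Agent.Lib.Helper7.OTLALeaf.stabR_of_range h.nd1 ht β₂ hk β ho ho')
    hL1 hm ht β₂ hk

/-- (P2c) all `θ`-blocks of `g ∈ M` of `U`-form are scalar [(P2a) helper23, (P2b) helper29] -/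
theorem theta_scalar' (h : LBase G₁ G₂ o o' p p' Om M) (hR1 : R1P G₁ o o' p p' M)
    {g : GL (Idx a b) F} (hg : g ∈ M) (hU : UL o o' p p' g.1) (m : Fin b)
    (hm : cls o o' p p' m = 1) : IsScal (blk g.1 m p) ∧ IsScal (blk g.1 m p') :=
  Cfsg.Agent.Lib.Helper29.OTLALeaf.theta_scalar_core h.symm2 h.nd2 h.adp
    (fun m₀ hm₀ => Cfsg.Agent.Lib.Helper23.OTLALeaf.theta_gram_scalar h hR1 hg hU m₀ hm₀) m hm

/-- (R1+) elements of `M` of `U`-form are in `KG` -/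
theorem R1plus (h : LBase G₁ G₂ o o' p p' Om M) (hR1 : R1P G₁ o o' p p' M)
    {g : GL (Idx a b) F} (hg : g ∈ M) (hU : UL o o' p p' g.1) : g ∈ KG a b F :=
  R1plus_core h hR1 hg hU (fun m hm => theta_scalar' h hR1 hg hU m hm)

end Cfsg.Agent.Lib.Helper22.OTLALeaf
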