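/-
helper22: BRC-FDVD (helper24's BRC market, S0999 + S4701): `f = |N_G(P) : C_G(P)|` divides `p - 1`
(`N / C` embeds in `Aut P`, `P` cyclic of order `p`).
-/
import Mathlib
import Cfsg.Prelude.Def_BlockRank
import Cfsg.Prelude.Def_Perm
import Cfsg.Agent.Lib.Helper24.BRCDefs

set_option autoImplicit false

namespace Cfsg.Agent.Lib.Helper22.BRCFDVD

open Cfsg Cfsg.Agent.Lib.Helper8.DOM Cfsg.Agent.Lib.Helper27.DO Cfsg.Agent.CharLib
open Cfsg.Agent.Lib.Helper6.BRH Cfsg.Agent.Lib.Helper24.BRC
open scoped ComplexConjugate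

universe u

variable {G : Type u} [Group G] [Finite G] {p : ℕ} [Fact p.Prime]

/-- **BRC-FDVD**.  `N / C` embeds in `Aut P`, which has `p - 1` elements (`P` cyclic of order `p`). -/
theorem fI_dvd (P : Subgroup G) (hP : Nat.card P = p) : fI P ∣ p - 1 := by
  have hp : p.Prime := Fact.out
  have : IsCyclic P := isCyclic_of_prime_card hP
  have key := Subgroup.card_dvd_of_injective _
    (QuotientGroup.kerLift_injective P.normalizerMonoidHom)
  rw [Subgroup.normalizerMonoidHom_ker, ← Subgroup.index, ← Subgroup.relIndex] at key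
  rw [IsCyclic.card_mulAut, hP, Nat.totient_prime hp] at key
  exact key

end Cfsg.Agent.Lib.Helper22.BRCFDVD
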