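import Mathlib
import Cfsg.Prelude.Def_Transfer
import Cfsg.Agent.Lib.Helper13.R3Defs

set_option autoImplicit false
set_option linter.unusedVariables false

namespace Cfsg.Agent.Lib.Helper22.R3KLB

open Pointwise Cfsg.Agent.Lib.Helper13.R3

variable {T : Type*} [CommGroup T] [Finite T]

/-- An automorphism of a group of order 5 whose cube is trivial is trivial. -/
theorem mulAut_eq_one_of_card_five {B : Type*} [Group B] [Finite B] (h5 : Nat.card B = 5)
    (f : MulAut B) (hf : f ^ 3 = 1) : f = 1 := by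
  have hp : Fact (Nat.Prime 5) := ⟨by norm_num⟩
  have hcyc : IsCyclic B := isCyclic_of_prime_card h5
  have hcard : Nat.card (MulAut B) = 4 := by
    rw [IsCyclic.card_mulAut, h5]; rfl
  have h4 : f ^ 4 = 1 := by
    have := pow_card_eq_one' (G := MulAut B) (x := f)
    rwa [hcard] at this
  calc f = f ^ 4 * (f ^ 3)⁻¹ := by group
    _ = 1 := by rw [h4, hf]; simp

theorem no_normal_five_of
    {D : Subgroup (MulAut T)} {S : Set (MulAut T)}
    (hS : Subgroup.closure S = D) (hroot : ∀ y ∈ S, IsRoot T y) (hne : S.Nonempty)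
    (hirr : ∀ U : Subgroup T, (∀ d ∈ D, ∀ u ∈ U, d u ∈ U) → U = ⊥ ∨ U = ⊤)
    (B : Subgroup (MulAut T)) (hBD : B ≤ D) (hnorm : ∀ d ∈ D, ∀ b ∈ B, d * b * d⁻¹ ∈ B) :
    Nat.card B ≠ 5 := by
  intro h5
  obtain ⟨y, hyS⟩ := hne
  have hyD : y ∈ D := hS ▸ Subgroup.subset_closure hyS
  obtain ⟨hy3, hP4⟩ := hroot y hyS
  have hy31 : y ^ 3 = 1 := MulEquiv.ext fun m => hy3 m
  -- y normalizes B
  have hyN : y ∈ Subgroup.normalizer (B : Set (MulAut T)) :=
    Subgroup.mem_normalizer_fintype (fun b hb => hnorm y hyD b hb)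
  -- the induced automorphism of B is trivial
  have hf1 : B.normalizerMonoidHom ⟨y, hyN⟩ = 1 := by
    apply mulAut_eq_one_of_card_five h5
    rw [← map_pow]
    have : (⟨y, hyN⟩ : Subgroup.normalizer (B : Set (MulAut T))) ^ 3 = 1 := by
      apply Subtype.ext
      simpa using hy31
    rw [this, map_one]
  have hcomm : ∀ b ∈ B, y * b = b * y := by
    intro b hb
    have h1 : (B.normalizerMonoidHom ⟨y, hyN⟩ ⟨b, hb⟩ : MulAut T) = y * b * y⁻¹ := by
      rw [Subgroup.normalizerMonoidHom_apply_apply_coe]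
    rw [hf1] at h1
    have h2 : b = y * b * y⁻¹ := by simpa using h1
    calc y * b = y * b * y⁻¹ * y := by group
      _ = b * y := by rw [← h2]
  -- B preserves P = [T, y]
  have hBP : ∀ b ∈ B, ∀ v ∈ cSub T y, b v ∈ cSub T y := by
    intro b hb v hv
    obtain ⟨m, rfl⟩ := mem_cSub.mp hv
    refine mem_cSub.mpr ⟨b m, ?_⟩
    have h1 : y (b m) = b (y m) := by
      have := congrArg (fun f : MulAut T => f m) (hcomm b hb)
      simpa [MulAut.mul_apply] using this
    change y (b m) / b m = b (y m / m)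
    rw [h1, map_div]
  -- B fixes P pointwise
  have hfix : ∀ b ∈ B, ∀ v ∈ cSub T y, b v = v := by
    intro b hb v hv
    have hsub : MulAction.orbit B v ⊆ (cSub T y : Set T) := by
      rintro _ ⟨c, rfl⟩
      exact hBP c.1 c.2 v hv
    have hle : (MulAction.orbit B v).ncard ≤ 4 := by
      have := Set.ncard_le_ncard hsub (Set.toFinite _)
      have h4 : ((cSub T y : Subgroup T) : Set T).ncard = 4 := by
        rw [← hP4]; exact (_root_.Nat.card_coe_set_eq _).symm
      omega
    have hdvd : (MulAction.orbit B v).ncard ∣ 5 := by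
      rw [← MulAction.index_stabilizer, ← h5]
      exact Subgroup.index_dvd_card _
    have h1 : (MulAction.orbit B v).ncard = 1 := by
      rcases (Nat.dvd_prime (by norm_num : Nat.Prime 5)).mp hdvd with h | h
      · exact h
      · omega
    have hst : MulAction.stabilizer B v = ⊤ := by
      rw [← Subgroup.index_eq_one, MulAction.index_stabilizer, h1]
    have : (⟨b, hb⟩ : B) ∈ MulAction.stabilizer B v := by rw [hst]; trivial
    exact MulAction.mem_stabilizer_iff.mp this
  -- the fixed points of B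
  let F : Subgroup T :=
    { carrier := {t | ∀ b ∈ B, b t = t}
      one_mem' := fun b _ => map_one b
      mul_mem' := fun {s t} hs ht b hb => by rw [map_mul, hs b hb, ht b hb]
      inv_mem' := fun {s} hs b hb => by rw [map_inv, hs b hb] }
  have hFinv : ∀ d ∈ D, ∀ u ∈ F, d u ∈ F := by
    intro d hd u hu b hb
    have hb' : d⁻¹ * b * d ∈ B := by
      have := hnorm d⁻¹ (D.inv_mem hd) b hb
      simpa using this
    have h1 : (d⁻¹ * b * d) u = u := hu _ hb'
    have h2 : b (d u) = d ((d⁻¹ * b * d) u) := by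
      simp [MulAut.mul_apply]
    rw [h2, h1]
  have hPF : cSub T y ≤ F := fun v hv b hb => hfix b hb v hv
  rcases hirr F hFinv with hF | hF
  · have : cSub T y = ⊥ := le_bot_iff.mp (hF ▸ hPF)
    rw [this] at hP4
    simp at hP4
  · have hB : B = ⊥ := by
      rw [Subgroup.eq_bot_iff_forall]
      intro b hb
      apply MulEquiv.ext
      intro t
      have : t ∈ F := by rw [hF]; trivial
      exact this b hb
    rw [hB] at h5
    simp at h5

end Cfsg.Agent.Lib.Helper22.R3KLB
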