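import Mathlib
import Cfsg.Prelude.Def_Transfer
import Cfsg.Agent.Lib.Helper13.R3Defs
import Cfsg.Agent.Lib.Helper13.R3KLDefs
import Cfsg.Agent.Lib.Helper22.R3KLB

/-!
# S4404-KLB `no_normal_five`, exact form (over `KLCtx` of `Helper13.R3KLDefs`)
-/

set_option autoImplicit false

namespace Cfsg.Agent.Lib.Helper22.R3KLBX

open Pointwise Cfsg.Agent.Lib.Helper13.R3 Cfsg.Agent.Lib.Helper13.R3Leaves

variable {T : Type*} [CommGroup T] [Finite T]

/-- KLB `no_normal_five`, exact form. -/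
theorem no_normal_five {D : Subgroup (MulAut T)} {S : Set (MulAut T)} (hc : KLCtx D S)
    (B : Subgroup (MulAut T)) (hBD : B ≤ D) (hnorm : ∀ d ∈ D, ∀ b ∈ B, d * b * d⁻¹ ∈ B) :
    Nat.card B ≠ 5 :=
  Cfsg.Agent.Lib.Helper22.R3KLB.no_normal_five_of hc.hS hc.hroot hc.hne hc.hirr B hBD hnorm

end Cfsg.Agent.Lib.Helper22.R3KLBX
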