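import Mathlib
import Cfsg.Prelude.Def_Transfer
import Cfsg.Agent.Lib.Helper13.R3Defs
import Cfsg.Agent.Lib.Helper13.R3KLDefs

set_option autoImplicit false
set_option linter.unusedVariables false
set_option linter.unusedSectionVars false

namespace Cfsg.Agent.Lib.Helper22.R3KLC

open Pointwise Cfsg.Agent.Lib.Helper13.R3 Cfsg.Agent.Lib.Helper13.R3Leaves

section klein

variable {T : Type*} [CommGroup T]

/-- `{1, t, s, t*s}` in an elementary abelian 2-group. -/
def klein (hT2 : ∀ t : T, t ^ 2 = 1) (t s : T) : Subgroup T where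
  carrier := {x | x = 1 ∨ x = t ∨ x = s ∨ x = t * s}
  one_mem' := Or.inl rfl
  mul_mem' := by
    have hsq : ∀ x : T, x * x = 1 := fun x => by rw [← sq]; exact hT2 x
    rintro x y (rfl | rfl | rfl | rfl) (rfl | rfl | rfl | rfl) <;>
      simp [mul_comm, mul_left_comm, hsq]
  inv_mem' := by
    intro x hx
    have : x⁻¹ = x := inv_eq_of_mul_eq_one_right (by rw [← sq]; exact hT2 x)
    rwa [this]

theorem mem_klein (hT2 : ∀ t : T, t ^ 2 = 1) {t s x : T} :
    x ∈ klein hT2 t s ↔ x = 1 ∨ x = t ∨ x = s ∨ x = t * s := Iff.rfl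

theorem card_klein (hT2 : ∀ t : T, t ^ 2 = 1) {t s : T} (ht : t ≠ 1) (hs : s ≠ 1)
    (hts : t ≠ s) : Nat.card (klein hT2 t s) = 4 := by
  have hsq : ∀ x : T, x * x = 1 := fun x => by rw [← sq]; exact hT2 x
  have hset : ((klein hT2 t s : Subgroup T) : Set T) = {1, t, s, t * s} := by
    ext x
    simp only [SetLike.mem_coe, mem_klein, Set.mem_insert_iff, Set.mem_singleton_iff]
  have h1 : (1 : T) ∉ ({t, s, t * s} : Set T) := by
    simp only [Set.mem_insert_iff, Set.mem_singleton_iff, not_or]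
    refine ⟨fun h => ht h.symm, fun h => hs h.symm, fun h => hts ?_⟩
    calc t = t * (s * s) := by rw [hsq, mul_one]
      _ = (t * s) * s := by rw [mul_assoc]
      _ = s := by rw [← h, one_mul]
  have h2 : t ∉ ({s, t * s} : Set T) := by
    simp only [Set.mem_insert_iff, Set.mem_singleton_iff, not_or]
    refine ⟨hts, fun h => hs ?_⟩
    exact (mul_eq_left.mp h.symm)
  have h3 : s ≠ t * s := fun h => ht (mul_eq_right.mp h.symm)
  have : Nat.card (klein hT2 t s) = ((klein hT2 t s : Subgroup T) : Set T).ncard :=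
    _root_.Nat.card_coe_set_eq _
  rw [this, hset, Set.ncard_insert_of_notMem h1, Set.ncard_insert_of_notMem h2, Set.ncard_pair h3]

end klein

section mod3

variable {T : Type*} [Finite T]

/-- An invariant set without fixed points of a map of order 3 has cardinality divisible by 3. -/
theorem three_dvd_ncard (σ : T → T) (h3 : ∀ t, σ (σ (σ t)) = t) (S : Set T)
    (hS : ∀ s ∈ S, σ s ∈ S) (hfix : ∀ s ∈ S, σ s ≠ s) : 3 ∣ S.ncard := by
  classical
  have : Fintype ↥S := Fintype.ofFinite _
  have hp : Fact (Nat.Prime 3) := ⟨by norm_num⟩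
  let f : Function.End ↥S := fun s => ⟨σ s.1, hS s.1 s.2⟩
  have hf : f ^ 3 ^ 1 = 1 := by
    funext s
    apply Subtype.ext
    simp only [pow_one]
    change σ (σ (σ s.1)) = s.1
    exact h3 _
  have key := Equiv.Perm.card_fixedPoints_modEq (p := 3) (n := 1) (f := f) hf
  have hempty : IsEmpty ↥(Function.fixedPoints f) := by
    constructor
    rintro ⟨s, hs⟩
    have : f s = s := hs
    exact hfix s.1 s.2 (congrArg Subtype.val this)
  have h0 : Fintype.card ↥(Function.fixedPoints f) = 0 := Fintype.card_eq_zero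
  rw [h0] at key
  have key' : 3 ∣ Fintype.card ↥S := (Nat.modEq_zero_iff_dvd).mp key
  have : S.ncard = Fintype.card ↥S := by
    rw [← Nat.card_eq_fintype_card]; exact (_root_.Nat.card_coe_set_eq S).symm
  rwa [this]

end mod3


section core

variable {G : Type*} [Group G] [Finite G] {T : Type*} [CommGroup T] [Finite T]
  [MulDistribMulAction G T]

/-- The abstract hypotheses of KLC: `G` of odd order acts faithfully and irreducibly on the
elementary abelian group `T` of order 16, and `a` is a central fixed-point-free element with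
`a ^ 3 = 1`. -/
structure Hyp (G : Type*) (T : Type*) [Group G] [CommGroup T] [MulDistribMulAction G T]
    (a : G) : Prop where
  hT2 : ∀ t : T, t ^ 2 = 1
  hT : Nat.card T = 16
  hodd : Odd (Nat.card G)
  ha3 : a ^ 3 = 1
  hcent : ∀ g : G, g * a = a * g
  hfpf : ∀ t : T, a • t = t → t = 1
  hfaith : ∀ g : G, (∀ t : T, g • t = t) → g = 1
  hirr : ∀ U : Subgroup T, (∀ g : G, ∀ u ∈ U, g • u ∈ U) → U = ⊥ ∨ U = ⊤

variable {a : G}

theorem Hyp.cube (h : Hyp G T a) (t : T) : a • a • a • t = t := by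
  have : (a ^ 3) • t = t := by rw [h.ha3, one_smul]
  rwa [pow_succ, pow_succ, pow_one, mul_smul, mul_smul] at this

theorem Hyp.sq_eq (h : Hyp G T a) (x : T) : x * x = 1 := by rw [← sq]; exact h.hT2 x

theorem Hyp.inv_eq (h : Hyp G T a) (x : T) : x⁻¹ = x :=
  inv_eq_of_mul_eq_one_right (h.sq_eq x)

theorem Hyp.comm_smul (h : Hyp G T a) (g : G) (t : T) : g • a • t = a • g • t := by
  rw [← mul_smul, h.hcent, mul_smul]

theorem Hyp.sum_eq (h : Hyp G T a) (t : T) : t * a • t * a • a • t = 1 := by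
  apply h.hfpf
  rw [smul_mul', smul_mul', h.cube]
  ac_rfl

theorem Hyp.sq_smul (h : Hyp G T a) (t : T) : a • a • t = t * a • t := by
  have := eq_inv_of_mul_eq_one_right (h.sum_eq t)
  rw [this, h.inv_eq]

theorem Hyp.smul_ne (h : Hyp G T a) {t : T} (ht : t ≠ 1) : a • t ≠ t := fun e => ht (h.hfpf t e)

theorem Hyp.smul_ne_one (h : Hyp G T a) {t : T} (ht : t ≠ 1) : a • t ≠ 1 := fun e => by
  apply ht
  have : a • t = a • (1 : T) := by rw [e, smul_one]
  exact smul_left_cancel a this

/-- the line through `t` -/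
def Hyp.ell (h : Hyp G T a) (t : T) : Subgroup T := klein h.hT2 t (a • t)

theorem Hyp.mem_ell (h : Hyp G T a) {t x : T} :
    x ∈ h.ell t ↔ x = 1 ∨ x = t ∨ x = a • t ∨ x = t * a • t := Iff.rfl

theorem Hyp.card_ell (h : Hyp G T a) {t : T} (ht : t ≠ 1) : Nat.card (h.ell t) = 4 :=
  card_klein h.hT2 ht (h.smul_ne_one ht) (fun e => h.smul_ne ht e.symm)

theorem Hyp.self_mem_ell (h : Hyp G T a) (t : T) : t ∈ h.ell t := Or.inr (Or.inl rfl)

theorem Hyp.fix_ell (h : Hyp G T a) {t : T} {g : G} (hg : g • t = t) :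
    ∀ x ∈ h.ell t, g • x = x := by
  have h2 : g • a • t = a • t := by rw [h.comm_smul, hg]
  rintro x (rfl | rfl | rfl | rfl)
  · exact smul_one g
  · exact hg
  · exact h2
  · rw [smul_mul', hg, h2]

/-- freeness -/
theorem Hyp.eq_one_of_fix (h : Hyp G T a) {t s : T} (ht : t ≠ 1) (hs : s ∉ h.ell t) (g : G)
    (hgt : g • t = t) (hgs : g • s = s) : g = 1 := by
  let F : Subgroup T :=
    { carrier := {x | g • x = x}
      one_mem' := smul_one g
      mul_mem' := fun {x y} hx hy => by
        change g • (x * y) = x * y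
        rw [smul_mul', hx, hy]
      inv_mem' := fun {x} hx => by
        change g • x⁻¹ = x⁻¹
        rw [smul_inv', hx] }
  have hle : h.ell t ≤ F := fun x hx => h.fix_ell hgt x hx
  have hsF : s ∈ F := hgs
  have hlt : h.ell t < F := lt_of_le_of_ne hle (fun e => hs (e ▸ hsF))
  have hcardlt : Nat.card (h.ell t) < Nat.card F := by
    have := Set.ncard_lt_ncard (SetLike.coe_ssubset_coe.mpr hlt) (Set.toFinite _)
    rwa [← _root_.Nat.card_coe_set_eq, ← _root_.Nat.card_coe_set_eq] at this
  rw [h.card_ell ht] at hcardlt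
  have hdvd : Nat.card F ∣ 16 := h.hT ▸ Subgroup.card_subgroup_dvd_card F
  have h3 : 3 ∣ ((F : Set T) \ {1}).ncard := by
    apply three_dvd_ncard (fun x => a • x) (fun x => h.cube x)
    · rintro x ⟨hx, hx1⟩
      refine ⟨?_, ?_⟩
      · change g • a • x = a • x
        rw [h.comm_smul, hx]
      · exact h.smul_ne_one hx1
    · rintro x ⟨hx, hx1⟩
      exact h.smul_ne hx1
  rw [Set.ncard_sdiff_singleton_of_mem (F.one_mem), ← _root_.Nat.card_coe_set_eq] at h3
  change 3 ∣ Nat.card F - 1 at h3
  have h16 : Nat.card F = 16 := by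
    have hle16 : Nat.card F ≤ 16 := Nat.le_of_dvd (by norm_num) hdvd
    generalize Nat.card F = n at *
    interval_cases n <;> omega
  have htop : F = ⊤ := by
    rw [← Subgroup.card_eq_iff_eq_top, h16, h.hT]
  apply h.hfaith
  intro x
  have : x ∈ F := by rw [htop]; trivial
  exact this

/-- the stabilizer of a nontrivial point has order dividing 3 -/
theorem Hyp.card_stab_dvd_three (h : Hyp G T a) {t : T} (ht : t ≠ 1) :
    Nat.card (MulAction.stabilizer G t) ∣ 3 := by
  let K := MulAction.stabilizer G t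
  have hKfix : ∀ k : K, ∀ x ∈ h.ell t, k • x = x := fun k x hx =>
    h.fix_ell (MulAction.mem_stabilizer_iff.mp k.2) x hx
  let Y : SubMulAction K T :=
    { carrier := {s | s ∉ h.ell t}
      smul_mem' := by
        intro k x hx hkx
        apply hx
        have h1 : k • (k • x) = k • x := hKfix k _ hkx
        have h2 : k • x = x := smul_left_cancel k h1
        rw [← h2]; exact hkx }
  have hfree : ∀ y : Y, MulAction.stabilizer K y = ⊥ := by
    intro y
    rw [SubMulAction.stabilizer_of_subMul, eq_bot_iff]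
    intro k hk
    rw [Subgroup.mem_bot]
    have hk1 : (k : G) = 1 :=
      h.eq_one_of_fix ht y.2 (k : G) (MulAction.mem_stabilizer_iff.mp k.2)
        (MulAction.mem_stabilizer_iff.mp hk)
    exact Subtype.ext hk1
  have e := MulAction.selfEquivOrbitsQuotientProd hfree
  have hcard : Nat.card Y = Nat.card (Quotient (MulAction.orbitRel K Y)) * Nat.card K := by
    rw [Nat.card_congr e, Nat.card_prod]
  have hY : Nat.card Y = 12 := by
    have h1 : Nat.card Y = ((h.ell t : Set T)ᶜ).ncard := _root_.Nat.card_coe_set_eq _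
    have h2 := Set.ncard_add_ncard_compl ((h.ell t : Subgroup T) : Set T)
    have h3 : ((h.ell t : Subgroup T) : Set T).ncard = 4 := by
      rw [← h.card_ell ht]; exact (_root_.Nat.card_coe_set_eq _).symm
    rw [h.hT, h3] at h2
    omega
  have hdvd12 : Nat.card K ∣ 4 * 3 := by
    rw [hY] at hcard
    have := Dvd.intro_left _ hcard.symm
    simpa using this
  have hoddK : Odd (Nat.card K) :=
    Odd.of_dvd_nat h.hodd (Subgroup.card_subgroup_dvd_card K)
  have hcop : Nat.Coprime (Nat.card K) 4 := by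
    have : Nat.Coprime (Nat.card K) 2 := Nat.coprime_two_right.mpr hoddK
    exact Nat.Coprime.pow_right 2 this
  exact hcop.dvd_of_dvd_mul_left hdvd12

theorem Hyp.orbit_mul (h : Hyp G T a) (t : T) :
    (MulAction.orbit G t).ncard * Nat.card (MulAction.stabilizer G t) = Nat.card G := by
  rw [← MulAction.index_stabilizer, mul_comm, Subgroup.card_mul_index]

theorem Hyp.one_notMem_orbit (h : Hyp G T a) {t : T} (ht : t ≠ 1) :
    (1 : T) ∉ MulAction.orbit G t := by
  rintro ⟨g, hg⟩
  apply ht
  have : g • t = g • (1 : T) := by rw [smul_one]; exact hg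
  exact smul_left_cancel g this

theorem Hyp.three_dvd_orbit (h : Hyp G T a) {t : T} (ht : t ≠ 1) :
    3 ∣ (MulAction.orbit G t).ncard := by
  apply three_dvd_ncard (fun x => a • x) (fun x => h.cube x)
  · rintro _ ⟨g, rfl⟩
    exact ⟨a * g, mul_smul a g t⟩
  · intro x hx e
    have hx1 : x = 1 := h.hfpf x e
    exact h.one_notMem_orbit ht (hx1 ▸ hx)

theorem Hyp.ncard_compl_one (h : Hyp G T a) : (({1} : Set T)ᶜ).ncard = 15 := by
  have h2 := Set.ncard_add_ncard_compl ({1} : Set T)
  rw [h.hT, Set.ncard_singleton] at h2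
  omega

theorem Hyp.orbit_le (h : Hyp G T a) {t : T} (ht : t ≠ 1) :
    (MulAction.orbit G t).ncard ≤ 15 := by
  rw [← h.ncard_compl_one]
  apply Set.ncard_le_ncard _ (Set.toFinite _)
  intro x hx hx1
  exact h.one_notMem_orbit ht (hx1 ▸ hx)

theorem Hyp.orbit_odd (h : Hyp G T a) (t : T) : Odd (MulAction.orbit G t).ncard :=
  Odd.of_dvd_nat h.hodd ⟨_, (h.orbit_mul t).symm⟩

theorem Hyp.orbit_ne_three (h : Hyp G T a) {t : T} (ht : t ≠ 1) :
    (MulAction.orbit G t).ncard ≠ 3 := by
  intro h3
  have hat : a • t ≠ t := h.smul_ne ht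
  have hat1 : a • t ≠ 1 := h.smul_ne_one ht
  have haat : a • a • t ≠ a • t := h.smul_ne hat1
  have haat' : a • a • t ≠ t := by
    intro e
    apply hat
    have := congrArg (fun x => a • x) e
    simp only [h.cube] at this
    exact this.symm
  have hsub : ({t, a • t, a • a • t} : Set T) ⊆ MulAction.orbit G t := by
    rintro x (rfl | rfl | rfl)
    · exact MulAction.mem_orbit_self _
    · exact MulAction.mem_orbit _ _
    · exact ⟨a * a, mul_smul a a t⟩
  have hc3 : ({t, a • t, a • a • t} : Set T).ncard = 3 :=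
    Set.ncard_eq_three.mpr ⟨t, a • t, a • a • t, hat.symm, haat'.symm, haat.symm, rfl⟩
  have heq : ({t, a • t, a • a • t} : Set T) = MulAction.orbit G t :=
    Set.eq_of_subset_of_ncard_le hsub (by rw [h3, hc3]) (Set.toFinite _)
  have hinv : ∀ g : G, ∀ u ∈ h.ell t, g • u ∈ h.ell t := by
    have key : ∀ x ∈ MulAction.orbit G t, x ∈ h.ell t := by
      intro x hx
      rw [← heq] at hx
      rcases hx with rfl | rfl | rfl
      · exact Or.inr (Or.inl rfl)
      · exact Or.inr (Or.inr (Or.inl rfl))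
      · exact Or.inr (Or.inr (Or.inr (h.sq_smul t)))
    have key2 : ∀ x ∈ MulAction.orbit G t, ∀ g : G, g • x ∈ h.ell t := by
      rintro _ ⟨g', rfl⟩ g
      exact key _ ⟨g * g', mul_smul g g' t⟩
    rintro g u (rfl | rfl | rfl | rfl)
    · rw [smul_one]; exact (h.ell t).one_mem
    · exact key2 _ (MulAction.mem_orbit_self _) g
    · exact key2 _ (MulAction.mem_orbit _ _) g
    · rw [← h.sq_smul]
      exact key2 _ ⟨a * a, mul_smul a a t⟩ g
  rcases h.hirr _ hinv with hb | htop
  · apply ht
    have : t ∈ h.ell t := h.self_mem_ell t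
    rw [hb, Subgroup.mem_bot] at this
    exact this
  · have := h.card_ell ht
    rw [htop, Subgroup.card_top, h.hT] at this
    omega

theorem Hyp.orbit_eq_fifteen (h : Hyp G T a) {t : T} (ht : t ≠ 1) :
    (MulAction.orbit G t).ncard = 15 := by
  have hvals : ∀ s : T, s ≠ 1 → (MulAction.orbit G s).ncard = 9 ∨
      (MulAction.orbit G s).ncard = 15 := by
    intro s hs
    have h1 := h.three_dvd_orbit hs
    have h2 := h.orbit_le hs
    have h3 := h.orbit_odd s
    have h4 := h.orbit_ne_three hs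
    obtain ⟨k, hk⟩ := h3
    omega
  rcases hvals t ht with h9 | h15
  · exfalso
    -- a point outside the orbit and different from 1
    have hlt : (insert (1 : T) (MulAction.orbit G t)).ncard < Nat.card T := by
      have := Set.ncard_insert_le (1 : T) (MulAction.orbit G t)
      rw [h.hT]; omega
    have hex : ∃ s : T, s ∉ insert (1 : T) (MulAction.orbit G t) := by
      by_contra hcon
      push Not at hcon
      have : insert (1 : T) (MulAction.orbit G t) = Set.univ := Set.eq_univ_of_forall hcon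
      rw [this, Set.ncard_univ] at hlt
      exact lt_irrefl _ hlt
    obtain ⟨s, hs⟩ := hex
    have hs1 : s ≠ 1 := fun e => hs (e ▸ Set.mem_insert _ _)
    have hsO : s ∉ MulAction.orbit G t := fun e => hs (Set.mem_insert_of_mem _ e)
    have hdisj : MulAction.orbit G s ⊆ (insert (1 : T) (MulAction.orbit G t))ᶜ := by
      rintro x hx (rfl | hxt)
      · exact h.one_notMem_orbit hs1 hx
      · apply hsO
        obtain ⟨g, rfl⟩ := hx
        obtain ⟨g', hg'⟩ := hxt
        refine ⟨g⁻¹ * g', ?_⟩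
        change (g⁻¹ * g') • t = s
        rw [mul_smul]
        change g' • t = g • s at hg'
        rw [hg', inv_smul_smul]
    have hcompl : ((insert (1 : T) (MulAction.orbit G t))ᶜ).ncard = 6 := by
      have h2 := Set.ncard_add_ncard_compl (insert (1 : T) (MulAction.orbit G t))
      rw [Set.ncard_insert_of_notMem (h.one_notMem_orbit ht), h9, h.hT] at h2
      omega
    have hle := Set.ncard_le_ncard hdisj (Set.toFinite _)
    rw [hcompl] at hle
    rcases hvals s hs1 with h' | h' <;> omega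
  · exact h15

/-- the abstract KLC: a normal subgroup of order 5 -/
theorem Hyp.exists_normal_five (h : Hyp G T a) :
    ∃ P : Subgroup G, P.Normal ∧ Nat.card P = 5 := by
  have hp : Fact (Nat.Prime 5) := ⟨by norm_num⟩
  -- a point t ≠ 1
  have hex : ∃ t : T, t ≠ 1 := by
    by_contra hcon
    push Not at hcon
    have : Subsingleton T := ⟨fun x y => by rw [hcon x, hcon y]⟩
    have := Nat.card_of_subsingleton (1 : T)
    rw [h.hT] at this
    omega
  obtain ⟨t, ht⟩ := hex
  have hG : Nat.card G = 15 ∨ Nat.card G = 45 := by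
    have h1 := h.orbit_mul t
    rw [h.orbit_eq_fifteen ht] at h1
    have h2 := h.card_stab_dvd_three ht
    rcases (Nat.dvd_prime (by norm_num : Nat.Prime 3)).mp h2 with e | e
    · left; rw [e] at h1; omega
    · right; rw [e] at h1; omega
  have hfac : (Nat.card G).factorization 5 = 1 := by
    rcases hG with e | e <;> rw [e] <;> decide +kernel
  have hdvd5 : 5 ^ 1 ∣ Nat.card G := by
    rcases hG with e | e <;> rw [e] <;> norm_num
  obtain ⟨K, hK⟩ := Sylow.exists_subgroup_card_pow_prime 5 hdvd5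
  let P : Sylow 5 G := Sylow.ofCard K (by rw [hK, hfac])
  have hP5 : Nat.card (P : Subgroup G) = 5 := by
    change Nat.card K = 5
    rw [hK, pow_one]
  have hn1 : Nat.card (Sylow 5 G) = 1 := by
    have h1 : Nat.card (Sylow 5 G) ≡ 1 [MOD 5] := card_sylow_modEq_one 5 G
    have h2 : Nat.card (Sylow 5 G) ∣ (P : Subgroup G).index := Sylow.card_dvd_index P
    have h3 : Nat.card (P : Subgroup G) * (P : Subgroup G).index = Nat.card G :=
      Subgroup.card_mul_index _
    rw [hP5] at h3
    have hidx : (P : Subgroup G).index = 3 ∨ (P : Subgroup G).index = 9 := by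
      rcases hG with e | e <;> rw [e] at h3 <;> [left; right] <;> omega
    have hle : Nat.card (Sylow 5 G) ≤ 9 := by
      rcases hidx with e | e <;> rw [e] at h2 <;> exact (Nat.le_of_dvd (by norm_num) h2).trans (by norm_num)
    unfold Nat.ModEq at h1
    generalize Nat.card (Sylow 5 G) = n at *
    rcases hidx with e | e <;> rw [e] at h2 <;> interval_cases n <;> omega
  have hsub : Subsingleton (Sylow 5 G) := (Nat.card_eq_one_iff_unique.mp hn1).1
  exact ⟨P, Sylow.normal_of_subsingleton P, hP5⟩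

end core

section final

variable {T : Type*} [CommGroup T] [Finite T]

/-- KLC in `_of` form (the fields of `KLCtx` that are used, as explicit hypotheses). -/
theorem exists_normal_five_of_central_of (hT2 : ∀ t : T, t ^ 2 = 1) (hT : Nat.card T = 16)
    {D : Subgroup (MulAut T)} (hodd : Odd (Nat.card D))
    (hirr : ∀ U : Subgroup T, (∀ d ∈ D, ∀ u ∈ U, d u ∈ U) → U = ⊥ ∨ U = ⊤)
    (α : MulAut T) (hαD : α ∈ D) (hα3 : orderOf α = 3) (hcent : ∀ d ∈ D, d * α = α * d)
    (hfpf : ∀ t : T, α t = t → t = 1) :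
    ∃ B : Subgroup (MulAut T), B ≤ D ∧ (∀ d ∈ D, ∀ b ∈ B, d * b * d⁻¹ ∈ B) ∧ Nat.card B = 5 := by
  have hα31 : α ^ 3 = 1 := by rw [← hα3]; exact pow_orderOf_eq_one α
  have hyp : Hyp ↥D T (⟨α, hαD⟩ : ↥D) :=
    { hT2 := hT2
      hT := hT
      hodd := hodd
      ha3 := Subtype.ext hα31
      hcent := fun g => Subtype.ext (hcent g.1 g.2)
      hfpf := fun t ht => hfpf t ht
      hfaith := fun g hg => Subtype.ext (MulEquiv.ext fun t => hg t)
      hirr := fun U hU => hirr U (fun d hd u hu => hU ⟨d, hd⟩ u hu) }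
  obtain ⟨P, hPn, hP5⟩ := hyp.exists_normal_five
  refine ⟨P.map D.subtype, Subgroup.map_subtype_le P, ?_, ?_⟩
  · rintro d hd _ ⟨p, hp, rfl⟩
    exact ⟨⟨d, hd⟩ * p * ⟨d, hd⟩⁻¹, hPn.conj_mem p hp ⟨d, hd⟩, rfl⟩
  · rw [Subgroup.card_map_of_injective D.subtype_injective, hP5]

/-- KLC `exists_normal_five_of_central`, exact form. -/
theorem exists_normal_five_of_central {D : Subgroup (MulAut T)} {S : Set (MulAut T)}
    (hc : KLCtx D S)
    (α : MulAut T) (hαD : α ∈ D) (hα3 : orderOf α = 3) (hcent : ∀ d ∈ D, d * α = α * d)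
    (hfpf : ∀ t : T, α t = t → t = 1) :
    ∃ B : Subgroup (MulAut T), B ≤ D ∧ (∀ d ∈ D, ∀ b ∈ B, d * b * d⁻¹ ∈ B) ∧ Nat.card B = 5 :=
  exists_normal_five_of_central_of hc.hT2 hc.hT hc.hodd hc.hirr α hαD hα3 hcent hfpf

end final

end Cfsg.Agent.Lib.Helper22.R3KLC
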