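import Mathlib
import Cfsg.Agent.Lib.Helper27.SpUDefs

/-!
S2316 (planner helper27), leaf L6 (helper22): complements of a line.
`finrank_compl_line`: a complement `W` of `⟨r⟩` in `W'` has `finrank W + 1 = finrank W'`;
`card_compl_line`: there are `q^(finrank W' - 1)` of them (they correspond to the functionals `φ` on `W'` with `φ r = 1`).
-/

set_option autoImplicit false

namespace Cfsg.Agent.Lib.Helper27.SpU

open Cfsg Matrix Module

variable {F : Type*} [Field F]

theorem finrank_compl_line {V : Type*} [AddCommGroup V] [Module F V] [FiniteDimensional F V]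
    (W' W : Submodule F V) (r : V) (hrW : r ∉ W) (hsup : W ⊔ Submodule.span F {r} = W') :
    Module.finrank F W + 1 = Module.finrank F W' := by
  have hr0 : r ≠ 0 := by
    rintro rfl
    exact hrW W.zero_mem
  have hinf : W ⊓ Submodule.span F {r} = ⊥ := by
    rw [eq_bot_iff]
    rintro x ⟨hxW, hxr⟩
    obtain ⟨c, rfl⟩ := Submodule.mem_span_singleton.mp hxr
    rw [Submodule.mem_bot]
    by_cases hc : c = 0
    · rw [hc, zero_smul]
    · exfalso
      apply hrW
      have := W.smul_mem c⁻¹ hxW
      rwa [smul_smul, inv_mul_cancel₀ hc, one_smul] at this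
  have h := Submodule.finrank_sup_add_finrank_inf_eq W (Submodule.span F {r})
  rw [hsup, hinf, finrank_bot, finrank_span_singleton hr0] at h
  omega

namespace L6aux

/-- the functionals taking the value `1` at a non-zero vector -/
lemma card_dual_eq_one [Fintype F] {E : Type*} [AddCommGroup E] [Module F E] [Finite E] (r' : E)
    (hr' : r' ≠ 0) :
    Nat.card {φ : Module.Dual F E // φ r' = 1} = Fintype.card F ^ (Module.finrank F E - 1) := by
  classical
  have hfin : Module.Finite F E := Module.Finite.of_finite
  -- a functional with value one
  obtain ⟨φ₀, hφ₀⟩ : ∃ φ₀ : Module.Dual F E, φ₀ r' = 1 := by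
    by_contra hcon
    push Not at hcon
    apply hr'
    rw [← Module.forall_dual_apply_eq_zero_iff F r']
    intro φ
    by_contra hne
    apply hcon ((φ r')⁻¹ • φ)
    rw [LinearMap.smul_apply, smul_eq_mul, inv_mul_cancel₀ hne]
  set ev : Module.Dual F E →ₗ[F] F := Module.Dual.eval F E r' with hev
  have hevap : ∀ φ : Module.Dual F E, ev φ = φ r' := fun φ => Module.Dual.eval_apply F E r' φ
  -- the fibre is a translate of the kernel
  have e : {φ : Module.Dual F E // φ r' = 1} ≃ LinearMap.ker ev :=
    { toFun := fun φ => ⟨φ.1 - φ₀, by
        rw [LinearMap.mem_ker, map_sub, hevap, hevap, φ.2, hφ₀, sub_self]⟩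
      invFun := fun ψ => ⟨ψ.1 + φ₀, by
        have h := ψ.2
        rw [LinearMap.mem_ker, hevap] at h
        rw [LinearMap.add_apply, h, hφ₀, zero_add]⟩
      left_inv := fun φ => by
        apply Subtype.ext
        simp
      right_inv := fun ψ => by
        apply Subtype.ext
        simp }
  rw [Nat.card_congr e]
  have hrange : LinearMap.range ev = ⊤ := by
    rw [LinearMap.range_eq_top]
    intro c
    refine ⟨c • φ₀, ?_⟩
    rw [map_smul, hevap, hφ₀, smul_eq_mul, mul_one]
  have hrk := LinearMap.finrank_range_add_finrank_ker ev
  rw [hrange, finrank_top, Module.finrank_self, Subspace.dual_finrank_eq] at hrk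
  rw [Module.natCard_eq_pow_finrank (K := F) (V := LinearMap.ker ev), Nat.card_eq_fintype_card]
  congr 1
  omega

end L6aux

/-- `ker φ` for the `q^(n-1)` functionals `φ` on `W'` with `φ r = 1`. -/
theorem card_compl_line [Fintype F] {V : Type*} [AddCommGroup V] [Module F V] [Finite V]
    (W' : Submodule F V) (r : V) (hr : r ∈ W') (hr0 : r ≠ 0) :
    Nat.card {W : Submodule F V // r ∉ W ∧ W ⊔ Submodule.span F {r} = W'} =
      Fintype.card F ^ (Module.finrank F W' - 1) := by
  classical
  set r' : W' := ⟨r, hr⟩ with hr'def
  have hr'0 : r' ≠ 0 := by
    intro h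
    rw [hr'def, Submodule.mk_eq_zero] at h
    exact hr0 h
  set p : Submodule F W' := Submodule.span F {r'} with hp
  -- (1) complements in `V` inside `W'` ↔ complements of `p` in `W'`
  have e1 : {W : Submodule F V // r ∉ W ∧ W ⊔ Submodule.span F {r} = W'} ≃
      {q : Submodule F W' // IsCompl p q} :=
    { toFun := fun W => ⟨W.1.comap W'.subtype, by
        obtain ⟨W, hrW, hsup⟩ := W
        constructor
        · rw [disjoint_iff, eq_bot_iff]
          rintro x ⟨hxp, hxq⟩
          obtain ⟨c, rfl⟩ := Submodule.mem_span_singleton.mp hxp
          rw [Submodule.mem_bot]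
          by_cases hc : c = 0
          · rw [hc, zero_smul]
          · exfalso
            apply hrW
            have hxW : c • r ∈ W := hxq
            have := W.smul_mem c⁻¹ hxW
            rwa [smul_smul, inv_mul_cancel₀ hc, one_smul] at this
        · rw [codisjoint_iff, eq_top_iff]
          rintro x -
          have hx : (x : V) ∈ W ⊔ Submodule.span F {r} := by rw [hsup]; exact x.2
          obtain ⟨w, hw, y, hy, hxy⟩ := Submodule.mem_sup.mp hx
          obtain ⟨c, rfl⟩ := Submodule.mem_span_singleton.mp hy
          have hwW' : w ∈ W' := by
            have : w = (x : V) - c • r := by rw [← hxy]; abel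
            rw [this]
            exact W'.sub_mem x.2 (W'.smul_mem c hr)
          have hx' : x = c • r' + ⟨w, hwW'⟩ := by
            apply Subtype.ext
            simp only [Submodule.coe_add, Submodule.coe_smul]
            rw [← hxy, add_comm]
          rw [hx']
          exact Submodule.add_mem_sup (Submodule.smul_mem _ c (Submodule.mem_span_singleton_self r'))
            (show (⟨w, hwW'⟩ : W') ∈ W.comap W'.subtype from hw)⟩
      invFun := fun q => ⟨q.1.map W'.subtype, by
        obtain ⟨q, hq⟩ := q
        constructor
        · rintro ⟨y, hyq, hyr⟩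
          have hy : y = r' := Subtype.ext hyr
          have hmem : r' ∈ p ⊓ q := ⟨Submodule.mem_span_singleton_self r', hy ▸ hyq⟩
          rw [hq.inf_eq_bot, Submodule.mem_bot] at hmem
          exact hr'0 hmem
        · apply le_antisymm
          · apply sup_le
            · rintro _ ⟨y, -, rfl⟩
              exact y.2
            · rw [Submodule.span_singleton_le_iff_mem]
              exact hr
          · intro x hx
            have hx' : (⟨x, hx⟩ : W') ∈ p ⊔ q := by rw [hq.sup_eq_top]; trivial
            obtain ⟨y, hy, z, hz, hyz⟩ := Submodule.mem_sup.mp hx'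
            obtain ⟨c, rfl⟩ := Submodule.mem_span_singleton.mp hy
            have hxv : x = c • r + (z : V) := by
              have := congrArg Subtype.val hyz
              simpa using this.symm
            rw [hxv, add_comm]
            exact Submodule.add_mem_sup (Submodule.mem_map_of_mem hz)
              (Submodule.smul_mem _ c (Submodule.mem_span_singleton_self r))⟩
      left_inv := fun W => by
        obtain ⟨W, hrW, hsup⟩ := W
        apply Subtype.ext
        change (W.comap W'.subtype).map W'.subtype = W
        rw [Submodule.map_comap_subtype, inf_eq_right]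
        rw [← hsup]
        exact le_sup_left
      right_inv := fun q => by
        apply Subtype.ext
        change (q.1.map W'.subtype).comap W'.subtype = q.1
        exact Submodule.comap_map_eq_of_injective W'.injective_subtype q.1 }
  -- (2) complements ↔ projections
  have e2 := Submodule.isComplEquivProj p
  -- (3) projections onto the line ↔ functionals with value one
  set L : F ≃ₗ[F] p := LinearEquiv.toSpanNonzeroSingleton F W' r' hr'0 with hL
  have hL1 : (L 1 : W') = r' := by
    rw [hL, LinearEquiv.toSpanNonzeroSingleton_one]
  have e3 : {f : W' →ₗ[F] p // ∀ x : p, f x = x} ≃ {φ : Module.Dual F W' // φ r' = 1} :=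
    { toFun := fun f => ⟨L.symm.toLinearMap.comp f.1, by
        have h := f.2 ⟨r', Submodule.mem_span_singleton_self r'⟩
        rw [LinearMap.comp_apply]
        change L.symm (f.1 r') = 1
        rw [LinearEquiv.symm_apply_eq]
        apply Subtype.ext
        rw [hL1]
        have := congrArg Subtype.val h
        simpa using this⟩
      invFun := fun φ => ⟨L.toLinearMap.comp φ.1, by
        intro x
        obtain ⟨c, hc⟩ := Submodule.mem_span_singleton.mp x.2
        rw [LinearMap.comp_apply, ← hc, map_smul, φ.2]
        change L (c • (1 : F)) = x
        rw [map_smul]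
        apply Subtype.ext
        rw [Submodule.coe_smul, hL1, hc]⟩
      left_inv := fun f => by
        apply Subtype.ext
        apply LinearMap.ext
        intro x
        simp
      right_inv := fun φ => by
        apply Subtype.ext
        apply LinearMap.ext
        intro x
        simp }
  rw [Nat.card_congr (e1.trans (e2.trans e3))]
  exact L6aux.card_dual_eq_one r' hr'0

end Cfsg.Agent.Lib.Helper27.SpU
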