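import Mathlib
import Cfsg.Prelude.Def_Transfer
import Cfsg.Agent.Lib.Helper2.Dihedral

set_option autoImplicit false
set_option linter.style.haveILetI false
set_option linter.unusedSectionVars false
set_option linter.unusedSimpArgs false

/-!
# Groups with an involution whose centralizer is a Klein four-group
-/

namespace Cfsg.Agent.Lib.Helper22.KleinCent

open Subgroup Cfsg.Agent.Lib.Helper2

variable {G : Type*} [Group G]

theorem mem_centralizer_conj_iff (g y c : G) :
    c ∈ centralizer ({g * y * g⁻¹} : Set G) ↔ g⁻¹ * c * g ∈ centralizer ({y} : Set G) := by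
  rw [mem_centralizer_singleton_iff, mem_centralizer_singleton_iff]
  constructor
  · intro h
    calc g⁻¹ * c * g * y = g⁻¹ * (c * (g * y * g⁻¹)) * g := by group
      _ = g⁻¹ * ((g * y * g⁻¹) * c) * g := by rw [h]
      _ = y * (g⁻¹ * c * g) := by group
  · intro h
    calc c * (g * y * g⁻¹) = g * ((g⁻¹ * c * g) * y) * g⁻¹ := by group
      _ = g * (y * (g⁻¹ * c * g)) * g⁻¹ := by rw [h]
      _ = g * y * g⁻¹ * c := by group

theorem card_centralizer_conj [Finite G] (g y : G) :
    Nat.card (centralizer ({g * y * g⁻¹} : Set G)) = Nat.card (centralizer ({y} : Set G)) := by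
  apply Nat.card_congr
  refine ⟨fun c => ⟨g⁻¹ * c.1 * g, (mem_centralizer_conj_iff g y c.1).mp c.2⟩,
    fun c => ⟨g * c.1 * g⁻¹, ?_⟩, ?_, ?_⟩
  · rw [mem_centralizer_conj_iff]
    have : g⁻¹ * (g * c.1 * g⁻¹) * g = c.1 := by group
    rw [this]; exact c.2
  · intro c; apply Subtype.ext; simp only; group
  · intro c; apply Subtype.ext; simp only; group

/-- The four elements of a centralizer of order `4`. -/
theorem mem_four [Finite G] (x z : G) (hx : orderOf x = 2)
    (hC4 : Nat.card (centralizer ({x} : Set G)) = 4)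
    (hzV : z ∈ centralizer ({x} : Set G)) (hz1 : z ≠ 1) (hzx : z ≠ x) :
    ∀ v ∈ centralizer ({x} : Set G), v = 1 ∨ v = x ∨ v = z ∨ v = x * z := by
  classical
  have hx1 : x ≠ 1 := invol_ne_one hx
  have hxinv : x⁻¹ = x := invol_inv hx
  have hxV : x ∈ centralizer ({x} : Set G) := by rw [mem_centralizer_singleton_iff]
  have h03 : x * z ≠ 1 := by
    intro h
    apply hzx
    have : z = x⁻¹ := eq_inv_of_mul_eq_one_right h
    rw [this, hxinv]
  have h13 : x * z ≠ x := by
    intro h
    exact hz1 (mul_eq_left.mp h)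
  have h23 : x * z ≠ z := by
    intro h
    exact hx1 (mul_eq_right.mp h)
  haveI : Fintype (centralizer ({x} : Set G)) := Fintype.ofFinite _
  let f : Fin 4 → centralizer ({x} : Set G) :=
    ![1, ⟨x, hxV⟩, ⟨z, hzV⟩, ⟨x * z, mul_mem hxV hzV⟩]
  have hval : ∀ i : Fin 4, (f i : G) = ![1, x, z, x * z] i := by
    intro i; fin_cases i <;> rfl
  have hf : Function.Injective f := by
    intro i j hij
    have hij' : (f i : G) = (f j : G) := congrArg Subtype.val hij
    rw [hval, hval] at hij'
    fin_cases i <;> fin_cases j <;> first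
      | rfl
      | (exfalso
         simp only [Matrix.cons_val_zero, Matrix.cons_val_one, Matrix.cons_val] at hij'
         first
           | exact hx1 hij'
           | exact hx1 hij'.symm
           | exact hz1 hij'
           | exact hz1 hij'.symm
           | exact hzx hij'
           | exact hzx hij'.symm
           | exact h03 hij'
           | exact h03 hij'.symm
           | exact h13 hij'
           | exact h13 hij'.symm
           | exact h23 hij'
           | exact h23 hij'.symm)
  have hbij : Function.Bijective f := by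
    rw [Fintype.bijective_iff_injective_and_card]
    refine ⟨hf, ?_⟩
    rw [Fintype.card_fin, ← Nat.card_eq_fintype_card, hC4]
  intro v hv
  obtain ⟨i, hi⟩ := hbij.2 ⟨v, hv⟩
  have hv' : v = ![1, x, z, x * z] i := by
    rw [← hval, hi]
  fin_cases i
  · left; exact hv'
  · right; left; exact hv'
  · right; right; left; exact hv'
  · right; right; right; exact hv'


/-- Key lemma: if `C(x)` is a four-group properly contained in a Sylow `2`-subgroup `T`, there is a
central involution `z` of `T` in `C(x)` which commutes with all its conjugates. -/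
theorem exists_central_commuting [Finite G] (x : G) (hx : orderOf x = 2)
    (hC4 : Nat.card (centralizer ({x} : Set G)) = 4)
    (hCe : ∀ c ∈ centralizer ({x} : Set G), c ^ 2 = 1)
    (T : Sylow 2 G) (hVT : centralizer ({x} : Set G) < (T : Subgroup G)) :
    ∃ z : G, orderOf z = 2 ∧ z ∈ centralizer ({x} : Set G) ∧ z ≠ x ∧
      ∀ g : G, Commute (g * z * g⁻¹) z := by
  classical
  haveI : Fact (Nat.Prime 2) := ⟨Nat.prime_two⟩
  set V := centralizer ({x} : Set G) with hV
  have hx1 : x ≠ 1 := invol_ne_one hx
  have hxx : x * x = 1 := invol_mul_self hx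
  have hxV : x ∈ V := by rw [hV, mem_centralizer_singleton_iff]
  have hxT : x ∈ (T : Subgroup G) := hVT.le hxV
  -- b1: central involution
  haveI : Nontrivial (T : Subgroup G) := ⟨⟨⟨x, hxT⟩, 1, fun h => hx1 (congrArg Subtype.val h)⟩⟩
  haveI := IsPGroup.center_nontrivial T.2
  obtain ⟨⟨z', hz'c⟩, hz'1⟩ := exists_ne (1 : center (T : Subgroup G))
  have hz'1' : z' ≠ 1 := fun h => hz'1 (Subtype.ext h)
  obtain ⟨z, hzT⟩ := z'
  have hz1 : z ≠ 1 := fun h => hz'1' (Subtype.ext h)
  have hzc : ∀ s ∈ (T : Subgroup G), s * z = z * s := by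
    intro s hs
    have := (mem_center_iff.mp hz'c) ⟨s, hs⟩
    exact congrArg Subtype.val this
  have hzV : z ∈ V := by
    rw [hV, mem_centralizer_singleton_iff]
    exact (hzc x hxT).symm
  have hzx : z ≠ x := by
    intro h
    apply not_le_of_gt hVT
    intro s hs
    rw [hV, mem_centralizer_singleton_iff, ← h]
    exact hzc s hs
  have hz2 : z ^ 2 = 1 := hCe z hzV
  have hzo : orderOf z = 2 := orderOf_eq_prime hz2 hz1
  have hzz : z * z = 1 := invol_mul_self hzo
  have hfour := mem_four x z hx hC4 hzV hz1 hzx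
  -- b2: an element of `T` outside `V` normalizing `V`
  haveI : Group.IsNilpotent (T : Subgroup G) := T.2.isNilpotent
  have hVtop : V.subgroupOf (T : Subgroup G) < ⊤ := by
    rw [lt_top_iff_ne_top, Ne, subgroupOf_eq_top]
    exact not_le_of_gt hVT
  have hNC := Group.normalizerCondition_of_isNilpotent (G := (T : Subgroup G)) _ hVtop
  obtain ⟨⟨t, htT⟩, htN, htV'⟩ := SetLike.exists_of_lt hNC
  have htV : t ∉ V := fun h => htV' (mem_subgroupOf.mpr h)
  have htnorm : ∀ v ∈ V, t * v * t⁻¹ ∈ V := by
    intro v hv
    have hvT : v ∈ (T : Subgroup G) := hVT.le hv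
    have := (mem_normalizer_iff.mp htN ⟨v, hvT⟩).mp (mem_subgroupOf.mpr hv)
    exact mem_subgroupOf.mp this
  have htnorm' : ∀ v, t * v * t⁻¹ ∈ V → v ∈ V := by
    intro v hv
    by_contra hvn
    -- conjugation by `t` is injective on the finite set `V`
    have hinj : Function.Injective (fun v : V => (⟨t * v.1 * t⁻¹, htnorm v.1 v.2⟩ : V)) := by
      intro a b hab
      have : t * a.1 * t⁻¹ = t * b.1 * t⁻¹ := congrArg Subtype.val hab
      apply Subtype.ext
      have h2 := mul_left_cancel (mul_right_cancel this)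
      exact h2
    have hsurj := (Finite.injective_iff_surjective.mp hinj)
    obtain ⟨a, ha⟩ := hsurj ⟨t * v * t⁻¹, hv⟩
    have : t * a.1 * t⁻¹ = t * v * t⁻¹ := congrArg Subtype.val ha
    have h2 := mul_left_cancel (mul_right_cancel this)
    exact hvn (h2 ▸ a.2)
  -- b3: `t x t⁻¹ = x z`
  have hy : t * x * t⁻¹ = x * z := by
    have hyV := htnorm x hxV
    rcases hfour _ hyV with h | h | h | h
    · exfalso
      apply hx1
      have : x = t⁻¹ * (t * x * t⁻¹) * t := by group
      rw [this, h]; group
    · exfalso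
      apply htV
      rw [hV, mem_centralizer_singleton_iff]
      calc t * x = t * x * t⁻¹ * t := by group
        _ = x * t := by rw [h]
    · exfalso
      apply hzx
      have h1 : t * z * t⁻¹ = z := by rw [hzc t htT]; group
      have h2 : t * x * t⁻¹ = t * z * t⁻¹ := by rw [h, h1]
      exact (mul_left_cancel (mul_right_cancel h2)).symm
    · exact h
  -- b4: `x` and `z` are not conjugate
  have hncj : ∀ g : G, g * x * g⁻¹ ≠ z := by
    intro g hg
    have h1 := card_centralizer_conj g x
    rw [hg, hC4] at h1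
    have hTle : (T : Subgroup G) ≤ centralizer ({z} : Set G) := by
      intro s hs
      rw [mem_centralizer_singleton_iff]
      exact hzc s hs
    have h2 := Subgroup.card_le_of_le hTle
    have h3 : Nat.card V < Nat.card (T : Subgroup G) := by
      have hle := Subgroup.card_le_of_le hVT.le
      rcases Nat.lt_or_ge (Nat.card V) (Nat.card (T : Subgroup G)) with h | h
      · exact h
      · exfalso
        have := Subgroup.eq_of_le_of_card_ge hVT.le h
        exact hVT.ne this
    rw [hC4] at h3
    omega
  refine ⟨z, hzo, hzV, hzx, ?_⟩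
  -- b5
  intro g
  set w := g * z * g⁻¹ with hw
  have hwo : orderOf w = 2 := orderOf_conj_two g hzo
  have hww : w * w = 1 := invol_mul_self hwo
  have hw1 : w ≠ 1 := invol_ne_one hwo
  have hpos : 0 < orderOf (x * w) := orderOf_pos _
  rcases Nat.even_or_odd (orderOf (x * w)) with heven | hodd
  swap
  · exfalso
    obtain ⟨d, -, hd⟩ := dih_conj_of_odd hxx hww hodd
    apply hncj (g⁻¹ * d)
    calc g⁻¹ * d * x * (g⁻¹ * d)⁻¹ = g⁻¹ * (d * x * d⁻¹) * g := by group
      _ = g⁻¹ * w * g := by rw [hd]
      _ = z := by rw [hw]; group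
  obtain ⟨hco, hcx, hcw⟩ := dih_central_invol hxx hww hpos heven
  set c := (x * w) ^ (orderOf (x * w) / 2) with hc
  have hc1 : c ≠ 1 := invol_ne_one hco
  have hcV : c ∈ V := by
    rw [hV, mem_centralizer_singleton_iff]
    exact hcx.eq
  rcases hfour c hcV with h | h | h | h
  · exact absurd h hc1
  · -- c = x
    exfalso
    rw [h] at hcw
    have hsq : (x * w) ^ 2 = 1 := by
      rw [pow_two]
      calc x * w * (x * w) = x * (w * x) * w := by group
        _ = x * (x * w) * w := by rw [hcw.eq]
        _ = (x * x) * (w * w) := by group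
        _ = 1 := by rw [hxx, hww, one_mul]
    have hdvd := orderOf_dvd_of_pow_eq_one hsq
    have hle : orderOf (x * w) ≤ 2 := Nat.le_of_dvd (by norm_num) hdvd
    obtain ⟨k, hk⟩ := heven
    have ho2 : orderOf (x * w) = 2 := by omega
    rw [ho2] at hc
    norm_num at hc
    rw [h] at hc
    exact hw1 (mul_eq_left.mp hc.symm)
  · rw [h] at hcw
    exact hcw.symm
  · -- c = x z = t x t⁻¹
    rw [h, ← hy] at hcw
    have hwC : w ∈ centralizer ({t * x * t⁻¹} : Set G) := by
      rw [mem_centralizer_singleton_iff]
      exact hcw.eq.symm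
    rw [mem_centralizer_conj_iff] at hwC
    have hwV : w ∈ V := by
      apply htnorm'
      have := htnorm _ hwC
      have e : t * (t⁻¹ * w * t) * t⁻¹ = w := by group
      rw [e] at this
      have h5 := htnorm _ this
      exact h5
    rcases hfour w hwV with h' | h' | h' | h'
    · exact absurd h' hw1
    · exfalso
      apply hncj g⁻¹
      rw [← h', hw]; group
    · rw [h']
    · exfalso
      rw [← hy] at h'
      apply hncj (g⁻¹ * t)
      calc g⁻¹ * t * x * (g⁻¹ * t)⁻¹ = g⁻¹ * (t * x * t⁻¹) * g := by group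
        _ = g⁻¹ * w * g := by rw [h']
        _ = z := by rw [hw]; group


/-- Case `C(x) < T`: there is a normal elementary abelian subgroup of order `2` or `4`. -/
theorem exists_normal_of_lt [Finite G] (x : G) (hx : orderOf x = 2)
    (hC4 : Nat.card (centralizer ({x} : Set G)) = 4)
    (hCe : ∀ c ∈ centralizer ({x} : Set G), c ^ 2 = 1)
    (T : Sylow 2 G) (hVT : centralizer ({x} : Set G) < (T : Subgroup G)) :
    ∃ E : Subgroup G, E.Normal ∧ Cfsg.IsElementaryAbelian 2 E ∧
      (Nat.card E = 2 ∨ Nat.card E = 4) := by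
  classical
  haveI : Fact (Nat.Prime 2) := ⟨Nat.prime_two⟩
  obtain ⟨z, hzo, hzV, hzx, hcomm⟩ := exists_central_commuting x hx hC4 hCe T hVT
  have hxx : x * x = 1 := invol_mul_self hx
  have hxinv : x⁻¹ = x := invol_inv hx
  have hz1 : z ≠ 1 := invol_ne_one hzo
  set V := centralizer ({x} : Set G) with hV
  have hxV : x ∈ V := by rw [hV, mem_centralizer_singleton_iff]
  set S := Group.conjugatesOfSet ({z} : Set G) with hS
  have hSmem : ∀ a ∈ S, ∃ g : G, a = g * z * g⁻¹ := by
    intro a ha
    rw [hS, Group.mem_conjugatesOfSet_iff] at ha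
    obtain ⟨b, hb, hba⟩ := ha
    rw [Set.mem_singleton_iff] at hb
    subst hb
    obtain ⟨g, hg⟩ := isConj_iff.mp hba
    exact ⟨g, hg.symm⟩
  have hScomm : ∀ a ∈ S, ∀ b ∈ S, a * b = b * a := by
    intro a ha b hb
    obtain ⟨g, rfl⟩ := hSmem a ha
    obtain ⟨k, rfl⟩ := hSmem b hb
    have h1 := (hcomm (k⁻¹ * g)).eq
    calc g * z * g⁻¹ * (k * z * k⁻¹)
        = k * ((k⁻¹ * g) * z * (k⁻¹ * g)⁻¹ * z) * k⁻¹ := by group
      _ = k * (z * ((k⁻¹ * g) * z * (k⁻¹ * g)⁻¹)) * k⁻¹ := by rw [h1]
      _ = k * z * k⁻¹ * (g * z * g⁻¹) := by group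
  set N := normalClosure ({z} : Set G) with hN
  have hNcl : N = closure S := rfl
  haveI hNn : N.Normal := normalClosure_normal
  have h1 : N ≤ centralizer S := by
    rw [hNcl, closure_le]
    intro a ha
    rw [SetLike.mem_coe, mem_centralizer_iff]
    intro b hb
    exact hScomm b hb a ha
  have hNcomm : ∀ a ∈ N, ∀ b ∈ N, a * b = b * a := by
    have h2 : N ≤ centralizer (N : Set G) := by
      rw [hNcl, closure_le]
      intro a ha
      rw [SetLike.mem_coe, mem_centralizer_iff]
      intro b hb
      have := (mem_centralizer_iff.mp (h1 hb)) a ha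
      exact this.symm
    intro a ha b hb
    exact ((mem_centralizer_iff.mp (h2 ha)) b hb).symm
  have hNsq : ∀ a ∈ N, a ^ 2 = 1 := by
    intro a ha
    rw [hNcl] at ha
    induction ha using closure_induction with
    | mem a ha =>
      obtain ⟨g, rfl⟩ := hSmem a ha
      have := orderOf_conj_two g hzo
      rw [← this]; exact pow_orderOf_eq_one _
    | one => exact one_pow 2
    | mul a b ha hb iha ihb =>
      have hab : Commute a b := hNcomm a (hNcl ▸ ha) b (hNcl ▸ hb)
      rw [hab.mul_pow, iha, ihb, one_mul]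
    | inv a _ iha => rw [inv_pow, iha, inv_one]
  have hzN : z ∈ N := subset_normalClosure (Set.mem_singleton z)
  refine ⟨N, hNn, ⟨⟨⟨fun a b => Subtype.ext (hNcomm a a.2 b b.2)⟩⟩, hNsq⟩, ?_⟩
  -- the order of `N`
  have hNp : IsPGroup 2 N := by
    intro a
    refine ⟨1, ?_⟩
    apply Subtype.ext
    simpa using hNsq a a.2
  obtain ⟨j, hj⟩ := (IsPGroup.iff_card (p := 2)).mp hNp
  have hN2 : 2 ≤ Nat.card N := by
    have : orderOf z ∣ Nat.card N := Subgroup.orderOf_dvd_natCard _ hzN
    rw [hzo] at this
    exact Nat.le_of_dvd Nat.card_pos this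
  have hN4 : Nat.card N ≤ 4 := by
    by_cases hxN : x ∈ N
    · have hle : N ≤ V := by
        intro n hn
        rw [hV, mem_centralizer_singleton_iff]
        exact hNcomm n hn x hxN
      have := Subgroup.card_le_of_le hle
      rwa [hC4] at this
    · set D := N ⊓ V with hD
      have hD2 : Nat.card D ≤ 2 := by
        have hdvd : Nat.card D ∣ 4 := by
          rw [← hC4]; exact Subgroup.card_dvd_of_le inf_le_right
        have hne : Nat.card D ≠ 4 := by
          intro h4
          have : D = V := Subgroup.eq_of_le_of_card_ge inf_le_right (by rw [h4, hC4])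
          apply hxN
          have hxD : x ∈ D := this ▸ hxV
          exact hxD.1
        have hle : Nat.card D ≤ 4 := Nat.le_of_dvd (by norm_num) hdvd
        have hpos : 0 < Nat.card D := Nat.card_pos
        interval_cases h : Nat.card D
        · omega
        · omega
        · exfalso; norm_num at hdvd
        · exact absurd rfl hne
      -- the homomorphism `n ↦ n * (x n x⁻¹)`
      let φ : N →* N := MonoidHom.mk'
        (fun n => ⟨n.1 * (x * n.1 * x⁻¹), mul_mem n.2 (hNn.conj_mem n.1 n.2 x)⟩) (by
          intro a b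
          apply Subtype.ext
          have hc : Commute (b : G) (x * (a : G) * x⁻¹) :=
            hNcomm _ b.2 _ (hNn.conj_mem a.1 a.2 x)
          change (a : G) * (b : G) * (x * ((a : G) * (b : G)) * x⁻¹) =
            (a : G) * (x * (a : G) * x⁻¹) * ((b : G) * (x * (b : G) * x⁻¹))
          calc (a : G) * (b : G) * (x * ((a : G) * (b : G)) * x⁻¹)
              = (a : G) * ((b : G) * (x * (a : G) * x⁻¹)) * (x * (b : G) * x⁻¹) := by group
            _ = (a : G) * ((x * (a : G) * x⁻¹) * (b : G)) * (x * (b : G) * x⁻¹) := by rw [hc.eq]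
            _ = _ := by group)
      have hφ : ∀ n : N, ((φ n : N) : G) = (n : G) * (x * (n : G) * x⁻¹) := fun n => rfl
      have hkerV : ∀ k : φ.ker, ((k.1 : N) : G) ∈ V := by
        intro k
        have hk : φ k.1 = 1 := k.2
        have hk' : (k.1 : G) * (x * (k.1 : G) * x⁻¹) = 1 := by
          have := congrArg (fun n : N => (n : G)) hk
          simpa [hφ] using this
        have hk2 : (k.1 : G) * (k.1 : G) = 1 := by
          have := hNsq _ k.1.2
          rwa [pow_two] at this
        rw [hV, mem_centralizer_singleton_iff]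
        have e1 : x * (k.1 : G) * x⁻¹ = (k.1 : G) := mul_left_cancel (hk'.trans hk2.symm)
        calc (k.1 : G) * x = (x * (k.1 : G) * x⁻¹) * x := by rw [e1]
          _ = x * (k.1 : G) := by group
      have hrangeV : ∀ r : φ.range, ((r.1 : N) : G) ∈ V := by
        intro r
        obtain ⟨n, hn⟩ := r.2
        have hr : (r.1 : G) = (n : G) * (x * (n : G) * x⁻¹) := by
          rw [← hn]; rfl
        have hc : Commute (n : G) (x * (n : G) * x⁻¹) :=
          hNcomm _ n.2 _ (hNn.conj_mem n.1 n.2 x)
        rw [hV, mem_centralizer_singleton_iff, hr]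
        calc (n : G) * (x * (n : G) * x⁻¹) * x
            = (x * (n : G) * x⁻¹) * (n : G) * x := by rw [hc.eq]
          _ = x * ((n : G) * (x⁻¹ * (n : G) * x)) := by group
          _ = x * ((n : G) * (x * (n : G) * x⁻¹)) := by rw [hxinv]
      have hker : Nat.card φ.ker ≤ Nat.card D := by
        apply Nat.card_le_card_of_injective
          (fun k : φ.ker => (⟨k.1.1, ⟨k.1.2, hkerV k⟩⟩ : D))
        intro a b hab
        apply Subtype.ext
        apply Subtype.ext
        exact congrArg (fun d : D => (d : G)) hab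
      have hrange : Nat.card φ.range ≤ Nat.card D := by
        apply Nat.card_le_card_of_injective
          (fun r : φ.range => (⟨r.1.1, ⟨r.1.2, hrangeV r⟩⟩ : D))
        intro a b hab
        apply Subtype.ext
        apply Subtype.ext
        exact congrArg (fun d : D => (d : G)) hab
      have hmul := φ.ker.card_mul_index
      rw [Subgroup.index_ker] at hmul
      have : Nat.card N ≤ 2 * 2 := by
        rw [← hmul]
        exact Nat.mul_le_mul (hker.trans hD2) (hrange.trans hD2)
      omega
  rw [hj] at hN2 hN4 ⊢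
  have hj2 : j ≤ 2 := by
    by_contra hlt
    have : 2 ^ 3 ≤ 2 ^ j := Nat.pow_le_pow_right (by norm_num) (by omega)
    omega
  interval_cases j
  · norm_num at hN2
  · left; rfl
  · right; rfl

end Cfsg.Agent.Lib.Helper22.KleinCent
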