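import Mathlib
import Cfsg.Agent.Lib.Helper22.KleinCent
import Cfsg.Agent.Lib.Helper13.DkMax
import Cfsg.Agent.Lib.Helper19.Order60
import Cfsg.Agent.S1230
import Cfsg.Agent.Lib.Helper7.SimpleTools

set_option autoImplicit false
set_option linter.style.haveILetI false
set_option linter.unusedSectionVars false
set_option linter.unusedSimpArgs false

namespace Cfsg.Agent.Lib.Helper22.KleinCent

open Subgroup Cfsg.Agent.Lib.Helper2

variable {G : Type*} [Group G]

/-- Case `C(x) = T` is a Sylow `2`-subgroup: all involutions are conjugate to `x`. -/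
theorem conj_of_eq [Finite G] (x : G) (hx : orderOf x = 2)
    (hC4 : Nat.card (centralizer ({x} : Set G)) = 4)
    (hCe : ∀ c ∈ centralizer ({x} : Set G), c ^ 2 = 1)
    (T : Sylow 2 G) (hVT : (T : Subgroup G) = centralizer ({x} : Set G))
    (hnc : ¬ Cfsg.HasNormalPComplement 2 G) :
    ∃ z : G, z ∈ centralizer ({x} : Set G) ∧ z ≠ 1 ∧ z ≠ x ∧
      (∃ g : G, g * x * g⁻¹ = z) ∧ (∃ g : G, g * x * g⁻¹ = x * z) := by
  classical
  haveI : Fact (Nat.Prime 2) := ⟨Nat.prime_two⟩
  set V := centralizer ({x} : Set G) with hV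
  have hx1 : x ≠ 1 := invol_ne_one hx
  have hxV : x ∈ V := by rw [hV, mem_centralizer_singleton_iff]
  have hTc : Nat.card (T : Subgroup G) = 4 := by rw [hVT, hC4]
  -- V is commutative
  have hVcomm : ∀ a ∈ V, ∀ b ∈ V, a * b = b * a := by
    intro a ha b hb
    have ha2 : a * a = 1 := by rw [← pow_two]; exact hCe a ha
    have hb2 : b * b = 1 := by rw [← pow_two]; exact hCe b hb
    have hab2 : (a * b) * (a * b) = 1 := by rw [← pow_two]; exact hCe _ (mul_mem ha hb)
    calc a * b = a * ((a * b) * (a * b)) * b := by rw [hab2, mul_one]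
      _ = (a * a) * (b * a) * (b * b) := by group
      _ = b * a := by rw [ha2, hb2, one_mul, mul_one]
  -- Burnside
  have hNC : ¬ normalizer ((T : Subgroup G) : Set G) ≤ centralizer ((T : Subgroup G) : Set G) := by
    intro hle
    apply hnc
    exact ⟨T, _, MonoidHom.normal_ker _, MonoidHom.ker_transferSylow_isComplement' T hle⟩
  set N := normalizer ((T : Subgroup G) : Set G) with hN
  have hTN : (T : Subgroup G) ≤ N := le_normalizer
  have hTcent : (T : Subgroup G) ≤ centralizer ((T : Subgroup G) : Set G) := by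
    intro a ha
    rw [mem_centralizer_iff]
    intro b hb
    rw [hVT] at ha hb
    exact hVcomm b hb a ha
  have h4N : 4 ∣ Nat.card N := by
    rw [← hTc]; exact Subgroup.card_dvd_of_le hTN
  have hN4 : Nat.card N ≠ 4 := by
    intro h4
    have : (T : Subgroup G) = N := Subgroup.eq_of_le_of_card_ge hTN (by rw [h4, hTc])
    apply hNC
    rw [← this]
    exact hTcent
  have h8N : ¬ 8 ∣ Nat.card N := by
    intro h8
    have h8G : 8 ∣ Nat.card G := h8.trans (Subgroup.card_subgroup_dvd_card N)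
    have hidx := T.not_dvd_index
    have hmul := (T : Subgroup G).card_mul_index
    rw [hTc] at hmul
    apply hidx
    rw [← hmul] at h8G
    have : (4 : ℕ) * 2 ∣ 4 * (T : Subgroup G).index := h8G
    exact Nat.dvd_of_mul_dvd_mul_left (by norm_num) this
  obtain ⟨k, hk⟩ := h4N
  have hk1 : k ≠ 1 := by
    intro h1; rw [h1] at hk; exact hN4 hk
  have hkodd : ¬ 2 ∣ k := by
    intro h2
    apply h8N
    rw [hk]
    exact Nat.mul_dvd_mul (dvd_refl 4) h2
  -- an element of odd prime order in N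
  set p := k.minFac with hp
  have hpp : p.Prime := Nat.minFac_prime hk1
  have hpk : p ∣ k := Nat.minFac_dvd k
  have hp2 : p ≠ 2 := by
    intro h2; rw [h2] at hpk; exact hkodd hpk
  haveI : Fact p.Prime := ⟨hpp⟩
  obtain ⟨n', hn'⟩ := exists_prime_orderOf_dvd_card' (G := N) p (by
    rw [hk]; exact Dvd.dvd.mul_left hpk 4)
  obtain ⟨n, hnN⟩ := n'
  have hno : orderOf n = p := by
    have := Subgroup.orderOf_coe (⟨n, hnN⟩ : N)
    rw [hn'] at this
    exact this
  -- conjugation by n preserves V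
  have hnV : ∀ v ∈ V, n * v * n⁻¹ ∈ V := by
    intro v hv
    rw [← hVT] at hv ⊢
    exact (mem_normalizer_iff.mp hnN v).mp hv
  -- powers of n in V are trivial
  have hpowV : ∀ j : ℕ, n ^ j ∈ V → ¬ p ∣ j → False := by
    intro j hj hpj
    have h2 : (n ^ j) ^ 2 = 1 := hCe _ hj
    rw [← pow_mul] at h2
    have h3 := orderOf_dvd_of_pow_eq_one h2
    rw [hno] at h3
    rcases (Nat.Prime.dvd_mul hpp).mp h3 with h4 | h4
    · exact hpj h4
    · exact hp2 ((Nat.prime_dvd_prime_iff_eq hpp Nat.prime_two).mp h4)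
  have hp1 : ¬ p ∣ 1 := fun h => hpp.one_lt.ne' (Nat.dvd_one.mp h)
  have hp2' : ¬ p ∣ 2 := fun h => hp2 ((Nat.prime_dvd_prime_iff_eq hpp Nat.prime_two).mp h)
  set z := n * x * n⁻¹ with hz
  have hzV : z ∈ V := hnV x hxV
  have hz1 : z ≠ 1 := by
    intro h
    apply hx1
    have : x = n⁻¹ * z * n := by rw [hz]; group
    rw [this, h]; group
  have hzx : z ≠ x := by
    intro h
    apply hpowV 1 _ hp1
    rw [pow_one, hV, mem_centralizer_singleton_iff]
    calc n * x = n * x * n⁻¹ * n := by group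
      _ = x * n := by rw [← hz, h]
  have hfour := mem_four x z hx hC4 hzV hz1 hzx
  refine ⟨z, hzV, hz1, hzx, ⟨n, rfl⟩, ?_⟩
  have hz'V := hnV z hzV
  rcases hfour _ hz'V with h | h | h | h
  · exfalso
    apply hz1
    have : z = n⁻¹ * (n * z * n⁻¹) * n := by group
    rw [this, h]; group
  · exfalso
    -- n² centralizes x
    apply hpowV 2 _ hp2'
    rw [hV, mem_centralizer_singleton_iff, pow_two]
    have : n * n * x * (n * n)⁻¹ = x := by
      calc n * n * x * (n * n)⁻¹ = n * (n * x * n⁻¹) * n⁻¹ := by group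
        _ = x := by rw [← hz, h]
    calc n * n * x = n * n * x * (n * n)⁻¹ * (n * n) := by group
      _ = x * (n * n) := by rw [this]
  · exfalso
    apply hzx
    have h2 : n * z * n⁻¹ = n * x * n⁻¹ := by rw [h, hz]
    exact mul_left_cancel (mul_right_cancel h2)
  · exact ⟨n * n, by
      calc n * n * x * (n * n)⁻¹ = n * (n * x * n⁻¹) * n⁻¹ := by group
        _ = x * z := by rw [← hz, h]⟩


/-- Case `C(x) = T` is a Sylow `2`-subgroup: `G ≅ A₅`. -/
theorem iso_A5_of_eq {G : Type*} [Group G] [Finite G] (x : G) (hx : orderOf x = 2)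
    (hC4 : Nat.card (centralizer ({x} : Set G)) = 4)
    (hCe : ∀ c ∈ centralizer ({x} : Set G), c ^ 2 = 1)
    (T : Sylow 2 G) (hVT : (T : Subgroup G) = centralizer ({x} : Set G))
    (hnc : ¬ Cfsg.HasNormalPComplement 2 G) (hnn : ¬ (T : Subgroup G).Normal) :
    Nonempty (G ≃* alternatingGroup (Fin 5)) := by
  classical
  haveI : Fact (Nat.Prime 2) := ⟨Nat.prime_two⟩
  haveI : Fact (Nat.Prime 5) := ⟨by norm_num⟩
  obtain ⟨z, hzV, hz1, hzx, ⟨g₁, hg₁⟩, ⟨g₂, hg₂⟩⟩ := conj_of_eq x hx hC4 hCe T hVT hnc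
  have hfour := mem_four x z hx hC4 hzV hz1 hzx
  have hxV : x ∈ centralizer ({x} : Set G) := by rw [mem_centralizer_singleton_iff]
  have hTc : Nat.card (T : Subgroup G) = 4 := by rw [hVT, hC4]
  have hinvV : ∀ s ∈ centralizer ({x} : Set G), s ≠ 1 → ∃ g : G, g * x * g⁻¹ = s := by
    intro s hs hs1
    rcases hfour s hs with h | h | h | h
    · exact absurd h hs1
    · exact ⟨1, by rw [h]; group⟩
    · exact ⟨g₁, by rw [h]; exact hg₁⟩
    · exact ⟨g₂, by rw [h]; exact hg₂⟩
  have hall : ∀ t : G, orderOf t = 2 → ∃ g : G, g * x * g⁻¹ = t := by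
    intro t ht
    have htp : IsPGroup 2 (zpowers t) :=
      IsPGroup.of_card (n := 1) (by rw [Nat.card_zpowers, ht, pow_one])
    obtain ⟨Q, hQ⟩ := htp.exists_le_sylow
    obtain ⟨g, hg⟩ := MulAction.exists_smul_eq G T Q
    have htQ : t ∈ (Q : Subgroup G) := hQ (mem_zpowers t)
    rw [← hg, Sylow.coe_subgroup_smul, Subgroup.mem_smul_pointwise_iff_exists] at htQ
    obtain ⟨s, hsT, hst⟩ := htQ
    rw [MulAut.smul_def, MulAut.conj_apply] at hst
    have hs1 : s ≠ 1 := by
      rintro rfl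
      have : t = 1 := by rw [← hst]; group
      rw [this, orderOf_one] at ht
      omega
    rw [hVT] at hsT
    obtain ⟨k, hk⟩ := hinvV s hsT hs1
    refine ⟨g * k, ?_⟩
    rw [← hst, ← hk]; group
  have hsq : ∀ t : G, orderOf t = 2 → ∀ c ∈ centralizer ({t} : Set G), c ^ 2 = 1 := by
    intro t ht c hc
    obtain ⟨g, rfl⟩ := hall t ht
    rw [mem_centralizer_conj_iff] at hc
    have := hCe _ hc
    have e : (g⁻¹ * c * g) ^ 2 = g⁻¹ * c ^ 2 * g := by
      rw [pow_two, pow_two]; group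
    rw [e] at this
    have : c ^ 2 = g * (g⁻¹ * c ^ 2 * g) * g⁻¹ := by group
    rw [this]
    rw [‹g⁻¹ * c ^ 2 * g = 1›]; group
  have hC : ∀ t : G, orderOf t = 2 → IsMulCommutative (centralizer ({t} : Set G)) ∧
      ∀ c ∈ centralizer ({t} : Set G), c ^ 2 = 1 := by
    intro t ht
    refine ⟨⟨⟨fun a b => ?_⟩⟩, hsq t ht⟩
    have ha : a ^ 2 = 1 := Subtype.ext (hsq t ht a a.2)
    have hb : b ^ 2 = 1 := Subtype.ext (hsq t ht b b.2)
    have hab : (a * b) ^ 2 = 1 := Subtype.ext (hsq t ht (a * b) (a * b).2)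
    have ha' : a⁻¹ = a := by rw [inv_eq_iff_mul_eq_one, ← pow_two, ha]
    have hb' : b⁻¹ = b := by rw [inv_eq_iff_mul_eq_one, ← pow_two, hb]
    have hab' : (a * b)⁻¹ = a * b := by rw [inv_eq_iff_mul_eq_one, ← pow_two, hab]
    calc a * b = (a * b)⁻¹ := hab'.symm
      _ = b⁻¹ * a⁻¹ := mul_inv_rev a b
      _ = b * a := by rw [ha', hb']
  have hncyc : ¬ IsCyclic (T : Subgroup G) := by
    intro hcyc
    obtain ⟨g, hg⟩ := IsCyclic.exists_ofOrder_eq_natCard (α := (T : Subgroup G))
    rw [hTc] at hg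
    have hg' : orderOf (g : G) = 4 := by rw [Subgroup.orderOf_coe]; exact hg
    have hgV : (g : G) ∈ centralizer ({x} : Set G) := hVT ▸ g.2
    have := hCe _ hgV
    have hdvd := orderOf_dvd_of_pow_eq_one this
    rw [hg'] at hdvd
    norm_num at hdvd
  obtain ⟨F', _, _, hF', ⟨e⟩⟩ := Cfsg.Agent.S1230.result T hncyc hnn hC
  have hF4 : Fintype.card F' = 4 := by rw [hF']; exact hTc
  have hcard : Nat.card G = 60 := by
    rw [Nat.card_congr e.toEquiv]
    have := Cfsg.Agent.Lib.Helper13.Dk.card_PSL2_mul_gcd (K := F')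
    rw [hF4] at this
    norm_num at this
    rw [Nat.card_eq_fintype_card]
    exact this
  apply Cfsg.Agent.Lib.Helper19.mulEquiv_A5_of_card_sixty hcard
  rintro ⟨Q, hQn⟩
  have hQc : Nat.card (Q : Subgroup G) = 5 :=
    (Cfsg.Agent.Lib.Helper7.sylow_card_index_of_exact (p := 5) (m := 12) (by rw [hcard])
      (by norm_num) Q).1
  have hQcomm : ∀ a ∈ (Q : Subgroup G), ∀ b ∈ (Q : Subgroup G), a * b = b * a := by
    intro a ha b hb
    have hcyc : IsCyclic (Q : Subgroup G) := isCyclic_of_prime_card hQc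
    have hmc : IsMulCommutative (Q : Subgroup G) := IsCyclic.isMulCommutative
    exact congrArg Subtype.val (hmc.is_comm.comm ⟨a, ha⟩ ⟨b, hb⟩)
  -- every involution inverts Q
  have hinv : ∀ t : G, orderOf t = 2 → ∀ q ∈ (Q : Subgroup G), t * q * t⁻¹ = q⁻¹ := by
    intro t ht q hq
    have htt : t * t = 1 := invol_mul_self ht
    have htinv : t⁻¹ = t := invol_inv ht
    have hq' : t * q * t⁻¹ ∈ (Q : Subgroup G) := hQn.conj_mem q hq t
    set u := q * (t * q * t⁻¹) with hu
    have huQ : u ∈ (Q : Subgroup G) := mul_mem hq hq'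
    have hut : u ∈ centralizer ({t} : Set G) := by
      rw [mem_centralizer_singleton_iff, hu]
      calc q * (t * q * t⁻¹) * t = q * t * q * (t⁻¹ * t) := by group
        _ = t * (t⁻¹ * q * t) * q := by group
        _ = t * ((t * q * t⁻¹) * q) := by rw [htinv]; group
        _ = t * (q * (t * q * t⁻¹)) := by rw [hQcomm _ hq' _ hq]
    have hu2 : u ^ 2 = 1 := hsq t ht u hut
    have hu5 : u ^ 5 = 1 := by
      have := Subgroup.orderOf_dvd_natCard _ huQ
      rw [hQc] at this
      exact orderOf_dvd_iff_pow_eq_one.mp this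
    have hu1 : u = 1 := by
      have h1 : orderOf u ∣ 2 := orderOf_dvd_of_pow_eq_one hu2
      have h2 : orderOf u ∣ 5 := orderOf_dvd_of_pow_eq_one hu5
      have h3 := Nat.dvd_gcd h1 h2
      norm_num at h3
      exact h3
    rw [hu] at hu1
    exact (eq_inv_of_mul_eq_one_right hu1)
  -- x, z, x z are involutions
  have hzo : orderOf z = 2 := by
    have := hCe z hzV
    exact orderOf_eq_prime this hz1
  have hxz1 : x * z ≠ 1 := by
    intro h
    apply hzx
    have : z = x⁻¹ := eq_inv_of_mul_eq_one_right h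
    rw [this, invol_inv hx]
  have hxzo : orderOf (x * z) = 2 := by
    have := hCe (x * z) (mul_mem hxV hzV)
    exact orderOf_eq_prime this hxz1
  -- contradiction
  obtain ⟨q', hq'⟩ := exists_prime_orderOf_dvd_card' (G := (Q : Subgroup G)) 5 (by rw [hQc])
  obtain ⟨q, hqQ⟩ := q'
  have hqo : orderOf q = 5 := by
    have := Subgroup.orderOf_coe (⟨q, hqQ⟩ : (Q : Subgroup G))
    rw [hq'] at this
    exact this
  have h1 := hinv x hx q hqQ
  have h2 := hinv z hzo q hqQ
  have h3 := hinv (x * z) hxzo q hqQ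
  have h4 : x * z * q * (x * z)⁻¹ = q := by
    calc x * z * q * (x * z)⁻¹ = x * (z * q * z⁻¹) * x⁻¹ := by group
      _ = x * q⁻¹ * x⁻¹ := by rw [h2]
      _ = (x * q * x⁻¹)⁻¹ := by group
      _ = q := by rw [h1, inv_inv]
  rw [h4] at h3
  have hq2 : q ^ 2 = 1 := by
    rw [pow_two]
    exact mul_eq_one_iff_eq_inv.mpr h3
  have := orderOf_dvd_of_pow_eq_one hq2
  rw [hqo] at this
  norm_num at this

end Cfsg.Agent.Lib.Helper22.KleinCent
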