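import Mathlib
import Cfsg.Prelude.Def_LocalEven
import Cfsg.Prelude.Def_Local
import Cfsg.Agent.Lib.Helper16.SFDefs

/-! helper22: S2752 market "SF", leaf normPsl in `_of` form: the leaves `pslAut` (at `Q := ↥K`, with the extra conjunct
`β ≠ 1` in the second alternative) and `s3_of_inverts` enter as hypotheses; the exact leaf is in `SFnormPsl`. -/

set_option autoImplicit false
universe u
open Cfsg Cfsg.Agent.Lib.Helper16.SF

namespace Cfsg.Agent.Lib.Helper22.SFnormPslOf

variable {H : Type u} [Group H]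

/-- the conjugation homomorphism `A → Aut K` for `A ≤ N(K)` -/
noncomputable def conjHom (A K : Subgroup H) (hAN : A ≤ Subgroup.normalizer (K : Set H)) :
    ↥A →* MulAut ↥K :=
  K.normalizerMonoidHom.comp (Subgroup.inclusion hAN)

theorem conjHom_coe (A K : Subgroup H) (hAN : A ≤ Subgroup.normalizer (K : Set H)) (a : ↥A)
    (k : ↥K) : ((conjHom A K hAN a k : ↥K) : H) = (a : H) * (k : H) * (a : H)⁻¹ := rfl

theorem conjHom_ker (A K : Subgroup H) (hAN : A ≤ Subgroup.normalizer (K : Set H)) :
    (conjHom A K hAN).ker = (A ⊓ Subgroup.centralizer (K : Set H)).subgroupOf A := by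
  ext a
  rw [MonoidHom.mem_ker, Subgroup.mem_subgroupOf, Subgroup.mem_inf, Subgroup.mem_centralizer_iff]
  constructor
  · intro h
    refine ⟨a.2, fun k hk => ?_⟩
    have h1 := conjHom_coe A K hAN a ⟨k, hk⟩
    rw [h] at h1
    have h2 : k = (a : H) * k * (a : H)⁻¹ := h1
    calc k * (a : H) = (a : H) * k * (a : H)⁻¹ * (a : H) := by rw [← h2]
      _ = (a : H) * k := by group
  · rintro ⟨-, h⟩
    ext k
    rw [conjHom_coe]
    have := h k.1 k.2
    show (a : H) * (k : H) * (a : H)⁻¹ = (k : H)
    rw [← this]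
    group

/-- the number of automorphisms induced by `A` on `K` is `|A : C_A(K)|` -/
theorem card_range_conjHom (A K : Subgroup H) (hAN : A ≤ Subgroup.normalizer (K : Set H)) :
    Nat.card ↥(conjHom A K hAN).range = (A ⊓ Subgroup.centralizer (K : Set H)).relIndex A := by
  rw [← Subgroup.index_ker, conjHom_ker, Subgroup.relIndex]

/-- the image of an elementary abelian `2`-group is elementary abelian -/
theorem ea_range_conjHom (A K : Subgroup H) (hAN : A ≤ Subgroup.normalizer (K : Set H))
    (hAe : Cfsg.IsElementaryAbelian 2 A) : Cfsg.IsElementaryAbelian 2 (conjHom A K hAN).range := by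
  refine ⟨⟨⟨?_⟩⟩, ?_⟩
  · rintro ⟨_, a, rfl⟩ ⟨_, b, rfl⟩
    apply Subtype.ext
    show conjHom A K hAN a * conjHom A K hAN b = conjHom A K hAN b * conjHom A K hAN a
    rw [← map_mul, ← map_mul]
    congr 1
    exact hAe.1.is_comm.comm a b
  · rintro _ ⟨a, rfl⟩
    rw [← map_pow]
    have : a ^ 2 = 1 := Subtype.ext (by simpa using hAe.2 a.1 a.2)
    rw [this, map_one]

/-- **normPsl**, over `pslAut` (second alternative with `β ≠ 1`) and `s3_of_inverts` -/
theorem normPsl_of
    (hs3 : ∀ a u : H, a * a = 1 → orderOf u = 3 → a * u * a⁻¹ = u⁻¹ →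
      Cfsg.Involves (Equiv.Perm (Fin 3)) H)
    (hb : ¬ Cfsg.Involves (Equiv.Perm (Fin 3)) H)
    (A : Subgroup H) (hAe : Cfsg.IsElementaryAbelian 2 A) (K : Subgroup H)
    (hpslAut : ∀ E : Subgroup (MulAut ↥K), Cfsg.IsElementaryAbelian 2 E → 4 ≤ Nat.card E →
      (∃ β ∈ E, ∃ u : ↥K, orderOf u = 3 ∧ β u = u⁻¹) ∨
        (Nat.card E = 4 ∧ ∃ β ∈ E, ∃ β' ∈ E, ∃ x : ↥K, β ≠ 1 ∧ x ≠ 1 ∧ Odd (orderOf x) ∧ β x = x ∧
          β' x = x⁻¹))
    (hAN : A ≤ Subgroup.normalizer (K : Set H))
    (h4 : 4 ≤ (A ⊓ Subgroup.centralizer (K : Set H)).relIndex A) : ConfD A := by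
  classical
  set φ := conjHom A K hAN with hφ
  have hsq : ∀ a : ↥A, (a : H) * (a : H) = 1 := by
    intro a
    have := hAe.2 a.1 a.2
    rwa [pow_two] at this
  rcases hpslAut φ.range (ea_range_conjHom A K hAN hAe)
    (by rw [card_range_conjHom]; exact h4) with ⟨_, ⟨b, rfl⟩, u, hu, hbu⟩ | ⟨hc4, _, ⟨b, rfl⟩, _, ⟨b', rfl⟩, x, hβ1, hx1, hxo, hbx, hbx'⟩
  · -- an element of order three is inverted: `S₃`
    exfalso
    apply hb
    refine hs3 (b : H) (u : H) (hsq b) ?_ ?_
    · rw [Subgroup.orderOf_coe]; exact hu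
    · have := congrArg (fun k : ↥K => (k : H)) hbu
      simpa [hφ, conjHom_coe] using this
  · -- the torus configuration
    have hxx : x⁻¹ ≠ x := by
      intro h
      have h2 : x ^ 2 = 1 := by
        rw [pow_two]
        calc x * x = x⁻¹ * x := by rw [h]
          _ = 1 := inv_mul_cancel x
      have hd : orderOf x ∣ 2 := orderOf_dvd_of_pow_eq_one h2
      have h1 : orderOf x = 1 := by
        rcases (Nat.dvd_prime Nat.prime_two).mp hd with h | h
        · exact h
        · rw [h] at hxo; exact absurd hxo (by decide)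
      exact hx1 (orderOf_eq_one_iff.mp h1)
    -- the four elements of the range
    have hβ' : φ b' ≠ 1 := by
      intro h
      rw [h] at hbx'
      exact hxx hbx'.symm
    have hββ' : φ b ≠ φ b' := by
      intro h
      rw [h, hbx'] at hbx
      exact hxx hbx
    have hall : ∀ γ ∈ φ.range, γ = 1 ∨ γ = φ b ∨ γ = φ b' ∨ γ = φ b * φ b' := by
      intro γ hγ
      by_contra hcon
      push Not at hcon
      obtain ⟨h1, h2, h3, h4'⟩ := hcon
      have hinj : Function.Injective (fun i : Fin 5 =>
          (![⟨1, φ.range.one_mem⟩, ⟨φ b, b, rfl⟩, ⟨φ b', b', rfl⟩,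
            ⟨φ b * φ b', φ.range.mul_mem ⟨b, rfl⟩ ⟨b', rfl⟩⟩, ⟨γ, hγ⟩] i : ↥φ.range)) := by
        intro i j hij
        have hij' := congrArg Subtype.val hij
        have e1 : φ b * φ b' ≠ 1 := by
          intro h
          have h5 : φ b * φ b' * φ b' = φ b' := by rw [h, one_mul]
          have h6 : φ b' * φ b' = 1 := by
            rw [← map_mul]
            have : b' * b' = 1 := Subtype.ext (hsq b')
            rw [this, map_one]
          rw [mul_assoc, h6, mul_one] at h5
          exact hββ' h5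
        have e2 : φ b * φ b' ≠ φ b := by
          intro h
          exact hβ' (mul_eq_left.mp h)
        have e3 : φ b * φ b' ≠ φ b' := by
          intro h
          exact hβ1 (mul_eq_right.mp h)
        fin_cases i <;> fin_cases j <;> first | rfl | (exfalso; simp at hij'; tauto)
      have hfin : Finite ↥φ.range := Nat.finite_of_card_ne_zero (by rw [hc4]; norm_num)
      have h5 := Nat.card_le_card_of_injective _ hinj
      rw [Nat.card_eq_fintype_card, Fintype.card_fin] at h5
      omega
    -- every element of `A` fixes or inverts `x`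
    have hfix : ∀ a : ↥A, φ a x = x ∨ φ a x = x⁻¹ := by
      intro a
      rcases hall (φ a) ⟨a, rfl⟩ with h | h | h | h
      · left; rw [h]; rfl
      · left; rw [h]; exact hbx
      · right; rw [h]; exact hbx'
      · right
        rw [h, MulAut.mul_apply, hbx', map_inv, hbx]
    refine ⟨A ⊓ Subgroup.centralizer {(x : H)}, (b' : H), (x : H), inf_le_left, b'.2, ?_, ?_, ?_, ?_,
      ?_, ?_⟩
    · -- `b' ∉ B`
      intro hmem
      have h1 := (Subgroup.mem_centralizer_iff.mp hmem.2) (x : H) rfl
      apply hxx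
      apply Subtype.ext
      have h2 := congrArg (fun k : ↥K => (k : H)) hbx'
      simp only [hφ, conjHom_coe, Subgroup.coe_inv] at h2
      show ((x : H))⁻¹ = (x : H)
      rw [← h2, ← h1]
      group
    · -- `A ≤ B ⊔ <b'>`
      intro a ha
      rcases hfix ⟨a, ha⟩ with h | h
      · apply Subgroup.mem_sup_left
        refine ⟨ha, Subgroup.mem_centralizer_iff.mpr ?_⟩
        rintro _ rfl
        have h2 := congrArg (fun k : ↥K => (k : H)) h
        simp only [hφ, conjHom_coe] at h2
        calc (x : H) * a = a * (x : H) * a⁻¹ * a := by rw [h2]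
          _ = a * (x : H) := by group
      · have hab : a * (b' : H) ∈ A ⊓ Subgroup.centralizer {(x : H)} := by
          refine ⟨A.mul_mem ha b'.2, Subgroup.mem_centralizer_iff.mpr ?_⟩
          rintro _ rfl
          have h2 := congrArg (fun k : ↥K => (k : H)) h
          have h3 := congrArg (fun k : ↥K => (k : H)) hbx'
          simp only [hφ, conjHom_coe, Subgroup.coe_inv] at h2 h3
          -- `b' x b'⁻¹ = x⁻¹`, `a x a⁻¹ = x⁻¹`
          have h4 : (b' : H) * (x : H) * (b' : H)⁻¹ = (x : H)⁻¹ := h3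
          have h5 : a * (x : H) * a⁻¹ = (x : H)⁻¹ := h2
          have h6 : a * (x : H)⁻¹ * a⁻¹ = (x : H) := by
            have h7 : (a * (x : H) * a⁻¹)⁻¹ = ((x : H)⁻¹)⁻¹ := by rw [h5]
            rw [inv_inv] at h7
            calc a * (x : H)⁻¹ * a⁻¹ = (a * (x : H) * a⁻¹)⁻¹ := by group
              _ = (x : H) := h7
          calc (x : H) * (a * (b' : H)) = a * (x : H)⁻¹ * a⁻¹ * (a * (b' : H)) := by rw [h6]
            _ = a * ((x : H)⁻¹ * (b' : H)) := by group
            _ = a * ((b' : H) * (x : H) * (b' : H)⁻¹ * (b' : H)) := by rw [h4]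
            _ = a * (b' : H) * (x : H) := by group
        have : a = a * (b' : H) * (b' : H)⁻¹ := by group
        rw [this]
        exact Subgroup.mul_mem_sup hab (Subgroup.inv_mem _ (Subgroup.mem_zpowers _))
    · intro h
      exact hx1 (Subtype.ext h)
    · rw [Subgroup.orderOf_coe]; exact hxo
    · intro c hc
      exact ((Subgroup.mem_centralizer_iff.mp hc.2) (x : H) rfl).symm
    · have h3 := congrArg (fun k : ↥K => (k : H)) hbx'
      simpa [hφ, conjHom_coe] using h3

end Cfsg.Agent.Lib.Helper22.SFnormPslOf
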