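import Mathlib
import Cfsg.Prelude.Def_ClassicalGeometry
import Cfsg.Prelude.Def_GeometricClasses
import Cfsg.Agent.Lib.Helper2.SOTDefs
import Cfsg.Agent.Lib.Helper2.SOTGDefs
import Cfsg.Agent.Lib.Helper4.SOTS
import Cfsg.Agent.Lib.Helper7.SpTN
import Cfsg.Agent.Lib.Helper27.SOTLADefs
import Cfsg.Agent.Lib.Helper11.SOTC
import Cfsg.Agent.Lib.Helper11.SOTLAT

/-!
S5666 PART (LA), leaf (FC-A) `fc_caseA` of `notes/S5666_LA_leaves.lean` (helper27's sub-market),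
EXACT signature.  Case `k' = m⁻¹ (kA e_o 1) m = α₂ ⊗ 1` of the fusion control.
-/

set_option autoImplicit false
set_option linter.unusedSectionVars false
set_option linter.unusedVariables false

namespace Cfsg.Agent.Lib.Helper22.SOTLALeaf
open Matrix
open Cfsg.Agent.Lib.Helper25.Tens Cfsg.Agent.Lib.Helper25.SpT Cfsg.Agent.Lib.Helper19.OSub
open Cfsg.Agent.Lib.Helper2.SOT Cfsg.Agent.Lib.Helper27.SOTLA
open scoped Kronecker

variable {F : Type*} [Field F] [Fintype F] {a b : ℕ} {G : Matrix (Fin b) (Fin b) F}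
  {M : Subgroup (GL (Idx a b) F)}

lemma sub_kron (A B : Matrix (Fin a) (Fin a) F) (C : Matrix (Fin b) (Fin b) F) :
    (A - B) ⊗ₖ C = A ⊗ₖ C - B ⊗ₖ C := by
  ext ⟨i, k⟩ ⟨j, l⟩
  simp only [Matrix.kroneckerMap_apply, Matrix.sub_apply, sub_mul]

/-- the nilpotent `NA e_o` is not zero (`b > 0`) -/
lemma NA_single_ne_zero (hb : 0 < b) {o o' : Fin a} (ho : o.val = 0) (ho' : o'.val = 1) :
    (NA (Pi.single o (1 : F)) : Matrix (Idx a b) (Idx a b) F) ≠ 0 := by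
  intro h0
  have h1 := NA_mulVec_pt (b := b) (Pi.single o (1 : F)) (Pi.single o' (1 : F))
    (Pi.single (⟨0, hb⟩ : Fin b) (1 : F))
  rw [h0, Matrix.zero_mulVec, sf_single_single, Jm_apply, if_neg (by omega),
    if_pos ⟨by omega, by omega⟩] at h1
  have h2 : pt (Pi.single o (1 : F)) (Pi.single (⟨0, hb⟩ : Fin b) (1 : F)) = 0 := by
    have := h1.symm
    rwa [neg_smul, one_smul, neg_eq_zero] at this
  rw [pt_eq_zero_iff] at h2
  rcases h2 with h2 | h2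
  · have := congrFun h2 o
    rw [Pi.single_eq_same, Pi.zero_apply] at this
    exact one_ne_zero this
  · have := congrFun h2 ⟨0, hb⟩
    rw [Pi.single_eq_same, Pi.zero_apply] at this
    exact one_ne_zero this

/-- (FC-A) case `k' = α₂ ⊗ 1`. -/
theorem fc_caseA (h : MCtx a b G M) {o o' : Fin a} (ho : o.val = 0) (ho' : o'.val = 1)
    (hL1 : ∀ g ∈ M, (∀ y : Fin b → F, ∃ y' : Fin b → F,
      mv g (pt (Pi.single o 1) y) = pt (Pi.single o 1) y') → g ∈ KG a b F)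
    {m : GL (Idx a b) F} (hm : m ∈ M) (α₂ : Matrix (Fin a) (Fin a) F)
    (hk : ((m⁻¹ * kA (Pi.single o 1) 1 * m : GL (Idx a b) F) : Matrix (Idx a b) (Idx a b) F) =
      α₂ ⊗ₖ (1 : Matrix (Fin b) (Fin b) F)) : m ∈ KG a b F := by
  classical
  have hb : 0 < b := by have := h.hb; omega
  -- `m (α₂ ⊗ 1) = kA e_o 1 * m`
  have hk1 : (m : Matrix (Idx a b) (Idx a b) F) * (α₂ ⊗ₖ (1 : Matrix (Fin b) (Fin b) F)) =
      ((kA (Pi.single o 1) 1 : GL (Idx a b) F) : Matrix (Idx a b) (Idx a b) F) *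
        (m : Matrix (Idx a b) (Idx a b) F) := by
    rw [← hk, ← Units.val_mul, ← Units.val_mul]
    congr 1
    group
  -- `m ((α₂ - 1) ⊗ 1) = N m`
  have hk2 : (m : Matrix (Idx a b) (Idx a b) F) *
      ((α₂ - 1) ⊗ₖ (1 : Matrix (Fin b) (Fin b) F)) =
      (NA (Pi.single o (1 : F)) : Matrix (Idx a b) (Idx a b) F) *
        (m : Matrix (Idx a b) (Idx a b) F) := by
    rw [sub_kron, Matrix.one_kronecker_one, mul_sub, mul_one, hk1, kA_val, one_smul,
      add_mul, one_mul, add_sub_cancel_left]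
  -- `α₂ ≠ 1`
  have hα : α₂ - 1 ≠ 0 := by
    intro h0
    rw [h0, Matrix.zero_kronecker, mul_zero] at hk2
    apply NA_single_ne_zero (F := F) (a := a) hb ho ho'
    have h1 := congrArg (· * ((m⁻¹ : GL (Idx a b) F) : Matrix (Idx a b) (Idx a b) F)) hk2
    simp only [zero_mul, Matrix.mul_assoc] at h1
    rw [← Units.val_mul, mul_inv_cancel, Units.val_one, mul_one] at h1
    exact h1.symm
  -- `x' = (α₂ - 1) x'' ≠ 0`
  obtain ⟨x'', hx''⟩ : ∃ x'' : Fin a → F, (α₂ - 1) *ᵥ x'' ≠ 0 := by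
    by_contra hcon
    push Not at hcon
    apply hα
    ext i j
    have := congrFun (hcon (Pi.single j 1)) i
    rw [Matrix.mulVec_single_one] at this
    simpa using this
  obtain ⟨α, hαS, hαx⟩ := Cfsg.Agent.Lib.Helper7.SpTLeaf.sp_trans h.ea o _ hx''
  have hhM : (kel α (1 : GL (Fin b) F) : GL (Idx a b) F) ∈ M :=
    Cfsg.Agent.Lib.Helper11.SOTLALeaf.kel_spT_mem h α hαS
  have hhK : (kel α (1 : GL (Fin b) F) : GL (Idx a b) F) ∈ KG a b F := kel_mem_KG α 1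
  have key : ∀ y : Fin b → F, ∃ y' : Fin b → F,
      mv (m * kel α (1 : GL (Fin b) F)) (pt (Pi.single o 1) y) = pt (Pi.single o 1) y' := by
    intro y
    obtain ⟨y', hy'⟩ := Cfsg.Agent.Lib.Helper11.SOTLeaf.NA_mulVec_mem (Pi.single o (1 : F))
      ((m : Matrix (Idx a b) (Idx a b) F) *ᵥ pt x'' y)
    refine ⟨y', ?_⟩
    rw [mv_mul, Cfsg.Agent.Lib.Helper4.SOTLeaf.mv_kel_pt, hαx, Units.val_one, Matrix.one_mulVec]
    have h1 : pt ((α₂ - 1) *ᵥ x'') y =
        ((α₂ - 1) ⊗ₖ (1 : Matrix (Fin b) (Fin b) F)) *ᵥ pt x'' y := by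
      rw [kron_mulVec_pt, Matrix.one_mulVec]
    unfold mv
    rw [h1, Matrix.mulVec_mulVec, hk2, ← Matrix.mulVec_mulVec, hy']
  have hK := hL1 _ (M.mul_mem hm hhM) key
  have : m = (m * kel α (1 : GL (Fin b) F)) * (kel α (1 : GL (Fin b) F))⁻¹ := by group
  rw [this]
  exact (KG a b F).mul_mem hK ((KG a b F).inv_mem hhK)

end Cfsg.Agent.Lib.Helper22.SOTLALeaf
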