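import Mathlib
import Cfsg.Prelude.Def_ClassicalGeometry
import Cfsg.Prelude.Def_GeometricClasses
import Cfsg.Agent.Lib.Helper2.SOTDefs
import Cfsg.Agent.Lib.Helper2.SOTGDefs
import Cfsg.Agent.Lib.Helper4.SOTS
import Cfsg.Agent.Lib.Helper7.SpTN
import Cfsg.Agent.Lib.Helper27.SOTLADefs
import Cfsg.Agent.Lib.Helper27.SOTLAU5
import Cfsg.Agent.Lib.Helper18.SOTLAA1
import Cfsg.Agent.Lib.Helper18.SOTLAA2
import Cfsg.Agent.Lib.Helper18.SOTLAA9
import Cfsg.Agent.Lib.Helper1.SOTLATools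
import Cfsg.Agent.Lib.Helper1.SOTLAA10
import Cfsg.Agent.Lib.Helper15.SOTLAFCB1
import Cfsg.Agent.Lib.Helper15.SOTLAFCB2

/-!
S5666 PART (LA), leaf (FC-B) `fc_caseB` of `notes/S5666_LA_leaves.lean` (helper27's sub-market),
EXACT signature.  Case `k' = m⁻¹ (kA e_o 1) m = 1 ⊗ β₂` of the fusion control is impossible.
-/

set_option autoImplicit false
set_option linter.unusedSectionVars false
set_option linter.unusedVariables false

namespace Cfsg.Agent.Lib.Helper22.SOTLALeaf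
open Matrix
open Cfsg.Agent.Lib.Helper25.Tens Cfsg.Agent.Lib.Helper25.SpT Cfsg.Agent.Lib.Helper19.OSub
open Cfsg.Agent.Lib.Helper2.SOT Cfsg.Agent.Lib.Helper27.SOTLA
open scoped Kronecker

variable {F : Type*} [Field F] [Fintype F] {a b : ℕ} {G : Matrix (Fin b) (Fin b) F}
  {M : Subgroup (GL (Idx a b) F)}

lemma kron_sub_right (A : Matrix (Fin a) (Fin a) F) (B C : Matrix (Fin b) (Fin b) F) :
    A ⊗ₖ (B - C) = A ⊗ₖ B - A ⊗ₖ C := by
  ext ⟨i, k⟩ ⟨j, l⟩
  simp only [Matrix.kroneckerMap_apply, Matrix.sub_apply, mul_sub]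

lemma kron_neg_right (A : Matrix (Fin a) (Fin a) F) (B : Matrix (Fin b) (Fin b) F) :
    A ⊗ₖ (-B) = -(A ⊗ₖ B) := by
  ext ⟨i, k⟩ ⟨j, l⟩
  simp only [Matrix.kroneckerMap_apply, Matrix.neg_apply, mul_neg]

/-- `N² = 0` -/
lemma EN_mul_EN {o o' : Fin a} (hoo' : o ≠ o') :
    (EN o o' : Matrix (Idx a b) (Idx a b) F) * EN o o' = 0 := by
  unfold EN
  rw [← Matrix.mul_kronecker_mul, Matrix.single_mul_single_of_ne _ _ _ _ hoo'.symm,
    Matrix.zero_kronecker]

/-- `N ≠ 0` (`b > 0`) -/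
lemma EN_ne_zero (hb : 0 < b) (o o' : Fin a) : (EN o o' : Matrix (Idx a b) (Idx a b) F) ≠ 0 := by
  intro h0
  have h1 := congrFun (congrFun h0 (o, ⟨0, hb⟩)) (o', ⟨0, hb⟩)
  unfold EN at h1
  rw [Matrix.kroneckerMap_apply, Matrix.single_apply_same, Matrix.one_apply_eq, mul_one,
    Matrix.zero_apply] at h1
  exact one_ne_zero h1

/-- `kA e_o 1 = 1 - N` -/
lemma kA_single_one_val (ea : Even a) {o o' : Fin a} (ho : o.val = 0) (ho' : o'.val = 1) :
    ((kA (Pi.single o 1) 1 : GL (Idx a b) F) : Matrix (Idx a b) (Idx a b) F) = 1 - EN o o' := by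
  rw [Cfsg.Agent.Lib.Helper27.SOTLALeaf.kA_single_eq ea ho ho']
  unfold uMat EN
  simp only [Pi.zero_apply, Matrix.kronecker_zero, Finset.sum_const_zero, add_zero, neg_smul,
    one_smul, kron_neg_right]
  rw [sub_eq_add_neg]

/-- conjugation by a unit is injective at `0` -/
lemma conj_eq_zero (m : GL (Idx a b) F) {Y : Matrix (Idx a b) (Idx a b) F}
    (hY : (m : Matrix (Idx a b) (Idx a b) F) * Y *
      ((m⁻¹ : GL (Idx a b) F) : Matrix (Idx a b) (Idx a b) F) = 0) : Y = 0 := by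
  have h1 := congrArg (fun Z => ((m⁻¹ : GL (Idx a b) F) : Matrix (Idx a b) (Idx a b) F) * Z *
    (m : Matrix (Idx a b) (Idx a b) F)) hY
  simp only [mul_zero, zero_mul] at h1
  rw [← Matrix.mul_assoc, ← Matrix.mul_assoc, ← Units.val_mul, inv_mul_cancel, Units.val_one,
    one_mul, Matrix.mul_assoc, ← Units.val_mul, inv_mul_cancel, Units.val_one, mul_one] at h1
  exact h1

/-- (FC-B) case `k' = 1 ⊗ β₂` is impossible. -/
theorem fc_caseB (h : MCtx a b G M) (h4 : 4 ≤ a) {o o' : Fin a} (ho : o.val = 0) (ho' : o'.val = 1)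
    (hsq : ∀ X : Matrix (Idx a b) (Idx a b) F, InM M X → UA o o' X → (X - 1) * (X - 1) = 0)
    {m : GL (Idx a b) F} (hm : m ∈ M) (β₂ : Matrix (Fin b) (Fin b) F)
    (hk : ((m⁻¹ * kA (Pi.single o 1) 1 * m : GL (Idx a b) F) : Matrix (Idx a b) (Idx a b) F) =
      (1 : Matrix (Fin a) (Fin a) F) ⊗ₖ β₂) : False := by
  classical
  have hb : 0 < b := by have := h.hb; omega
  have hoo' : o ≠ o' := fun h' => by rw [h'] at ho; omega
  obtain ⟨ν, hν⟩ : ∃ ν : Matrix (Fin b) (Fin b) F, ν = β₂ - 1 := ⟨_, rfl⟩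
  have hβ : β₂ = 1 + ν := by rw [hν]; abel
  -- (1) `1 ⊗ ν = -(m⁻¹ N m)`
  have hmN : (1 : Matrix (Fin a) (Fin a) F) ⊗ₖ ν =
      -(((m⁻¹ : GL (Idx a b) F) : Matrix (Idx a b) (Idx a b) F) * EN o o' *
        (m : Matrix (Idx a b) (Idx a b) F)) := by
    rw [hν, kron_sub_right, Matrix.one_kronecker_one, ← hk, Units.val_mul, Units.val_mul,
      kA_single_one_val h.ea ho ho', mul_sub, sub_mul, mul_one, ← Units.val_mul, inv_mul_cancel,
      Units.val_one, sub_sub_cancel_left]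
  -- (2) `ν² = 0`
  have hν2 : ν * ν = 0 := by
    have h2 : ((1 : Matrix (Fin a) (Fin a) F) ⊗ₖ ν) * ((1 : Matrix (Fin a) (Fin a) F) ⊗ₖ ν) = 0 := by
      rw [hmN, neg_mul_neg]
      calc ((m⁻¹ : GL (Idx a b) F) : Matrix (Idx a b) (Idx a b) F) * EN o o' *
            (m : Matrix (Idx a b) (Idx a b) F) *
            (((m⁻¹ : GL (Idx a b) F) : Matrix (Idx a b) (Idx a b) F) * EN o o' *
              (m : Matrix (Idx a b) (Idx a b) F))
          = ((m⁻¹ : GL (Idx a b) F) : Matrix (Idx a b) (Idx a b) F) * (EN o o' *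
              ((m : Matrix (Idx a b) (Idx a b) F) *
                ((m⁻¹ : GL (Idx a b) F) : Matrix (Idx a b) (Idx a b) F)) * EN o o') *
              (m : Matrix (Idx a b) (Idx a b) F) := by simp only [Matrix.mul_assoc]
        _ = 0 := by
          rw [← Units.val_mul, mul_inv_cancel, Units.val_one, mul_one, EN_mul_EN hoo', mul_zero,
            zero_mul]
    rw [← Matrix.mul_kronecker_mul, mul_one] at h2
    have h3 := congrArg (fun X => ablk X o o) h2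
    simp only [ablk_kron, Matrix.one_apply_eq, one_smul, ablk_zero] at h3
    exact h3
  -- (3) `ν ≠ 0`
  have hν0 : ν ≠ 0 := by
    intro h0
    rw [h0, Matrix.kronecker_zero, eq_comm, neg_eq_zero] at hmN
    apply EN_ne_zero (F := F) hb o o'
    have h1 := conj_eq_zero (m⁻¹) (Y := EN o o') (by rw [inv_inv]; exact hmN)
    exact h1
  -- (4) `β₂` is orthogonal
  have hkM : m⁻¹ * kA (Pi.single o 1) 1 * m ∈ M :=
    M.mul_mem (M.mul_mem (M.inv_mem hm) (Cfsg.Agent.Lib.Helper27.SOTLALeaf.kA_mem_M h _ _)) hm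
  have hkS := h.le_sp hkM
  have hmv : ∀ (x : Fin a → F) (y : Fin b → F),
      mv (m⁻¹ * kA (Pi.single o 1) 1 * m : GL (Idx a b) F) (pt x y) = pt x (β₂ *ᵥ y) := by
    intro x y
    unfold mv
    rw [hk, kron_mulVec_pt, Matrix.one_mulVec]
  have hO : IsOrthB G β₂ := by
    apply Cfsg.Agent.Lib.Helper18.SOTLALeaf.isOrthB_of_forall
    intro y y'
    have h1 := (mem_SpV.1 hkS) (pt (Pi.single o 1) y) (pt (Pi.single o' 1) y')
    rw [hmv, hmv, fV_pt, fV_pt, sf_single_single, Jm_apply, if_pos ⟨by omega, by omega⟩, one_mul,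
      one_mul] at h1
    exact h1
  -- (5) `ν` is skew-adjoint
  have hνs : IsSkewAdj G ν := by
    unfold IsSkewAdj
    unfold IsOrthB at hO
    have e1 : β₂ * (1 - ν) = 1 := by
      rw [hβ]
      calc (1 + ν) * (1 - ν) = 1 - ν * ν := by noncomm_ring
        _ = 1 := by rw [hν2, sub_zero]
    have e2 : β₂ᵀ * G * β₂ * (1 - ν) = G * (1 - ν) := by rw [hO]
    rw [Matrix.mul_assoc, e1, mul_one, hβ, Matrix.transpose_add, Matrix.transpose_one, add_mul,
      one_mul, mul_sub, mul_one] at e2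
    have h3 : G * ν + νᵀ * G = (G + νᵀ * G) - (G - G * ν) := by abel
    rw [e2, sub_self] at h3
    exact eq_neg_of_add_eq_zero_left h3
  -- (6) `z`, `v`
  obtain ⟨z, v, hz0, ⟨y₀, hzy⟩, hv, hQv⟩ :=
    Cfsg.Agent.Lib.Helper1.SOTLALeaf.exists_zv h.symm h.nd h.two hνs hν2 hν0
      (Cfsg.Agent.Lib.Helper15.SOTLALeaf.ker_ne_im (by omega) ho ho' m ν hmN hb)
  have hzz : fB G z z = 0 := by
    rw [hzy, Cfsg.Agent.Lib.Helper1.SOTLALeaf.skewAdj_fB hνs, Matrix.mulVec_mulVec, hν2,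
      Matrix.zero_mulVec, Cfsg.Agent.Lib.Helper1.SOTLALeaf.fB_zero_right, neg_zero]
  have hzv : fB G z v = 0 := by
    rw [hzy, Cfsg.Agent.Lib.Helper1.SOTLALeaf.skewAdj_fB hνs, hv,
      Cfsg.Agent.Lib.Helper1.SOTLALeaf.fB_zero_right, neg_zero]
  -- (7) the Siegel element
  have hη : IsOrthB G (siegel G z v) :=
    Cfsg.Agent.Lib.Helper18.SOTLALeaf.siegel_orth h.symm h.two hzz hzv
  obtain ⟨η', hη'v, hη'M⟩ := Cfsg.Agent.Lib.Helper27.SOTLALeaf.exists_kel_one_orth (a := a) h hη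
  have hUA := Cfsg.Agent.Lib.Helper15.SOTLALeaf.UA_conj_siegel h.symm h.two hoo' m hνs hν2 hmN y₀ v hv
  rw [← hzy] at hUA
  have hInM : InM M ((m : Matrix (Idx a b) (Idx a b) F) *
      ((1 : Matrix (Fin a) (Fin a) F) ⊗ₖ siegel G z v) *
      ((m⁻¹ : GL (Idx a b) F) : Matrix (Idx a b) (Idx a b) F)) :=
    ⟨m * kel 1 η' * m⁻¹, M.mul_mem (M.mul_mem hm hη'M) (M.inv_mem hm), by
      rw [Units.val_mul, Units.val_mul, kel_val, Units.val_one, hη'v]⟩
  have h5 := hsq _ hInM hUA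
  -- `X - 1 = m (1 ⊗ (η - 1)) m⁻¹`
  have h6 : (m : Matrix (Idx a b) (Idx a b) F) *
      ((1 : Matrix (Fin a) (Fin a) F) ⊗ₖ siegel G z v) *
      ((m⁻¹ : GL (Idx a b) F) : Matrix (Idx a b) (Idx a b) F) - 1 =
      (m : Matrix (Idx a b) (Idx a b) F) *
      ((1 : Matrix (Fin a) (Fin a) F) ⊗ₖ (siegel G z v - 1)) *
      ((m⁻¹ : GL (Idx a b) F) : Matrix (Idx a b) (Idx a b) F) := by
    rw [kron_sub_right, Matrix.one_kronecker_one, mul_sub, sub_mul, mul_one, ← Units.val_mul,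
      mul_inv_cancel, Units.val_one]
  rw [h6] at h5
  have h7 : (m : Matrix (Idx a b) (Idx a b) F) *
      ((1 : Matrix (Fin a) (Fin a) F) ⊗ₖ ((siegel G z v - 1) * (siegel G z v - 1))) *
      ((m⁻¹ : GL (Idx a b) F) : Matrix (Idx a b) (Idx a b) F) = 0 := by
    rw [← h5]
    have e : (1 : Matrix (Fin a) (Fin a) F) ⊗ₖ ((siegel G z v - 1) * (siegel G z v - 1)) =
        ((1 : Matrix (Fin a) (Fin a) F) ⊗ₖ (siegel G z v - 1)) *
          ((1 : Matrix (Fin a) (Fin a) F) ⊗ₖ (siegel G z v - 1)) := by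
      rw [← Matrix.mul_kronecker_mul, mul_one]
    rw [e]
    calc (m : Matrix (Idx a b) (Idx a b) F) *
          (((1 : Matrix (Fin a) (Fin a) F) ⊗ₖ (siegel G z v - 1)) *
            ((1 : Matrix (Fin a) (Fin a) F) ⊗ₖ (siegel G z v - 1))) *
          ((m⁻¹ : GL (Idx a b) F) : Matrix (Idx a b) (Idx a b) F)
        = (m : Matrix (Idx a b) (Idx a b) F) *
          (((1 : Matrix (Fin a) (Fin a) F) ⊗ₖ (siegel G z v - 1)) *
            (((m⁻¹ : GL (Idx a b) F) : Matrix (Idx a b) (Idx a b) F) *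
              (m : Matrix (Idx a b) (Idx a b) F)) *
            ((1 : Matrix (Fin a) (Fin a) F) ⊗ₖ (siegel G z v - 1))) *
          ((m⁻¹ : GL (Idx a b) F) : Matrix (Idx a b) (Idx a b) F) := by
          rw [← Units.val_mul, inv_mul_cancel, Units.val_one, mul_one]
      _ = _ := by simp only [Matrix.mul_assoc]
  have h8 := conj_eq_zero m h7
  have h9 := congrArg (fun X => ablk X o o) h8
  simp only [ablk_kron, Matrix.one_apply_eq, one_smul, ablk_zero] at h9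
  rw [Cfsg.Agent.Lib.Helper18.SOTLALeaf.siegel_sub_one_sq h.symm h.two hzz hzv] at h9
  -- `rk1 z z ≠ 0`
  obtain ⟨y', hy'⟩ := Cfsg.Agent.Lib.Helper18.SOTLALeaf.fB_nondeg' h.nd hz0
  have h10 := congrArg (fun X => X *ᵥ y') h9
  simp only [Matrix.smul_mulVec, rk1_mulVec, Matrix.zero_mulVec] at h10
  rw [smul_smul] at h10
  have h11 : -(fB G v v) * fB G y' z ≠ 0 := by
    apply mul_ne_zero (neg_ne_zero.mpr hQv)
    rw [fB_comm G h.symm]
    exact hy'
  exact hz0 ((smul_eq_zero.mp h10).resolve_left h11)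

end Cfsg.Agent.Lib.Helper22.SOTLALeaf
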