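/-
helper22: S4885/S4886 leaves (L1), (L2) for planner helper14: coprime action on Sylow subgroups
(existence of an invariant Sylow subgroup; conjugacy of invariant Sylow subgroups under the
centralizer).
-/
import Mathlib
import Cfsg.Prelude.Def_Blocks
import Cfsg.Prelude.Def_Local
import Cfsg.Agent.Lib.Helper1.Coprime
import Cfsg.Agent.Lib.Helper14.TPDefs

set_option autoImplicit false

namespace Cfsg.Agent.Lib.Helper22.TP

open Cfsg Cfsg.Agent.Lib.Helper2.Glaub
open Cfsg.Agent.Lib.Helper14.TP Cfsg.Agent.Lib.Helper1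
open scoped Pointwise

universe u

section nav
variable {Γ : Type u} [Group Γ] [Finite Γ]

omit [Finite Γ] in
/-- `|S : T|`-index and order -/
theorem relIndex_mul_card_of_le {S T : Subgroup Γ} (h : S ≤ T) :
    S.relIndex T * Nat.card S = Nat.card T := by
  have := Subgroup.card_mul_index (S.subgroupOf T)
  rw [card_subgroupOf_of_le h] at this
  rw [Subgroup.relIndex, mul_comm]
  exact this

/-- a `T`-conjugate of a Sylow subgroup of `T` is a Sylow subgroup of `T` -/
theorem isSylowIn_conj (q : ℕ) {S T : Subgroup Γ} (hS : IsSylowIn q S T) {k : Γ} (hk : k ∈ T) :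
    IsSylowIn q (MulAut.conj k • S) T := by
  have hle : MulAut.conj k • S ≤ T := by
    intro x hx
    rw [mem_conj_smul_iff] at hx
    have h1 : k⁻¹ * x * k ∈ T := hS.1 hx
    have e : x = k * (k⁻¹ * x * k) * k⁻¹ := by group
    rw [e]
    exact T.mul_mem (T.mul_mem hk h1) (T.inv_mem hk)
  refine ⟨hle, ?_, ?_⟩
  · rw [Subgroup.pointwise_smul_def]
    exact hS.2.1.map _
  · have h1 := relIndex_mul_card_of_le hle
    have h2 := relIndex_mul_card_of_le hS.1
    rw [card_conj_smul] at h1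
    have hpos : 0 < Nat.card S := Nat.card_pos
    have : (MulAut.conj k • S).relIndex T = S.relIndex T :=
      Nat.eq_of_mul_eq_mul_right hpos (h1.trans h2.symm)
    rw [this]
    exact hS.2.2

/-- the image in `Γ` of a Sylow subgroup of `↥T` -/
theorem isSylowIn_map_subtype (q : ℕ) [Fact q.Prime] (T : Subgroup Γ) (P : Sylow q ↥T) :
    IsSylowIn q ((P : Subgroup ↥T).map T.subtype) T := by
  refine ⟨Subgroup.map_subtype_le _, P.isPGroup'.map _, ?_⟩
  have h : ((P : Subgroup ↥T).map T.subtype).subgroupOf T = (P : Subgroup ↥T) := by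
    ext x
    rw [Subgroup.mem_subgroupOf, Subgroup.mem_map]
    constructor
    · rintro ⟨y, hy, hyx⟩
      have : y = x := Subtype.ext hyx
      rwa [← this]
    · intro hx
      exact ⟨x, hx, rfl⟩
  rw [Subgroup.relIndex, h]
  exact P.not_dvd_index

omit [Finite Γ] in
/-- a Sylow subgroup of `T` in the sense of `IsSylowIn`, as a `Sylow` of `↥T` -/
theorem exists_sylow_of_isSylowIn (q : ℕ) [Fact q.Prime] {S T : Subgroup Γ}
    (hS : IsSylowIn q S T) : ∃ P : Sylow q ↥T, (P : Subgroup ↥T) = S.subgroupOf T := by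
  have h1 : IsPGroup q ↥(S.subgroupOf T) := hS.2.1.comap_subtype
  exact ⟨h1.toSylow hS.2.2, IsPGroup.toSylow_coe h1 hS.2.2⟩

/-- (L1) coprime action: an `A`-invariant Sylow `q`-subgroup of an `A`-invariant `p'`-subgroup. -/
theorem exists_isSylowIn_le_normalizer (p q : ℕ) [Fact p.Prime] [Fact q.Prime] (T A : Subgroup Γ)
    (hAT : A ≤ Subgroup.normalizer (T : Set Γ)) (hT : (Nat.card T).Coprime p) (hA : IsPGroup p A) :
    ∃ S : Subgroup Γ, IsSylowIn q S T ∧ A ≤ Subgroup.normalizer (S : Set Γ) := by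
  obtain ⟨n, hn⟩ := IsPGroup.iff_card.mp hA
  have hcop : Nat.Coprime (Nat.card A) (Nat.card T) := by
    rw [hn]
    exact (Nat.Coprime.pow_right n hT).symm
  have hsolv : Group.IsSolvable A ∨ Group.IsSolvable T := by
    left
    have := hA.isNilpotent
    infer_instance
  let P : Sylow q ↥T := default
  set S₀ : Subgroup Γ := (P : Subgroup ↥T).map T.subtype with hS₀
  have hS₀syl : IsSylowIn q S₀ T := isSylowIn_map_subtype q T P
  set U : Subgroup Γ := Subgroup.normalizer (S₀ : Set Γ) ⊓ (T ⊔ A) with hU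
  have hUle : U ≤ T ⊔ A := inf_le_right
  have hKU : ∀ γ ∈ T ⊔ A, ∃ k ∈ T, ∃ u ∈ U, γ = k * u := by
    intro γ hγ
    have hγN : γ ∈ Subgroup.normalizer (T : Set Γ) := sup_le_normalizer hAT hγ
    obtain ⟨k, hk, hkn⟩ := frattini_sylow T P γ hγN
    refine ⟨k, hk, k⁻¹ * γ, ⟨hkn, ?_⟩, by group⟩
    exact (T ⊔ A).mul_mem ((T ⊔ A).inv_mem ((le_sup_left : T ≤ T ⊔ A) hk)) hγ
  obtain ⟨k, hk, hAk⟩ := exists_le_conj_smul_of_coprime hAT hcop hsolv hUle hKU
  refine ⟨MulAut.conj k • S₀, isSylowIn_conj q hS₀syl hk, ?_⟩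
  intro a ha
  have h1 := hAk ha
  rw [mem_conj_smul_iff] at h1
  rw [← conj_smul_normalizer, mem_conj_smul_iff]
  exact h1.1

end nav

end Cfsg.Agent.Lib.Helper22.TP
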