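/-
helper22: S4885/S4886 leaf (L2) for planner helper14: two invariant Sylow subgroups are conjugate
under the centralizer of the acting group.
-/
import Mathlib
import Cfsg.Prelude.Def_Blocks
import Cfsg.Prelude.Def_Local
import Cfsg.Agent.Lib.Helper1.Coprime
import Cfsg.Agent.Lib.Helper14.TPDefs
import Cfsg.Agent.Lib.Helper22.TPL1

set_option autoImplicit false

namespace Cfsg.Agent.Lib.Helper22.TP

open Cfsg Cfsg.Agent.Lib.Helper2.Glaub
open Cfsg.Agent.Lib.Helper14.TP Cfsg.Agent.Lib.Helper1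
open scoped Pointwise

universe u

section nav
variable {Γ : Type u} [Group Γ] [Finite Γ]

/-- (L2) coprime action: two `A`-invariant Sylow `q`-subgroups of `K` are conjugate under
`C_K(A)`. -/
theorem exists_conj_of_isSylowIn (p q : ℕ) [Fact p.Prime] [Fact q.Prime] (K A Q S : Subgroup Γ)
    (hAK : A ≤ Subgroup.normalizer (K : Set Γ)) (hK : (Nat.card K).Coprime p) (hA : IsPGroup p A)
    (hQ : IsSylowIn q Q K) (hS : IsSylowIn q S K) (hAQ : A ≤ Subgroup.normalizer (Q : Set Γ))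
    (hAS : A ≤ Subgroup.normalizer (S : Set Γ)) :
    ∃ c ∈ K ⊓ Subgroup.centralizer (A : Set Γ), S = MulAut.conj c • Q := by
  obtain ⟨n, hn⟩ := IsPGroup.iff_card.mp hA
  have hcop : Nat.Coprime (Nat.card A) (Nat.card K) := by
    rw [hn]
    exact (Nat.Coprime.pow_right n hK).symm
  have hsolv : Group.IsSolvable A ∨ Group.IsSolvable K := by
    left
    have := hA.isNilpotent
    infer_instance
  -- Sylow conjugacy in `K`
  obtain ⟨PQ, hPQ⟩ := exists_sylow_of_isSylowIn q hQ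
  obtain ⟨PS, hPS⟩ := exists_sylow_of_isSylowIn q hS
  obtain ⟨k, hk⟩ := MulAction.exists_smul_eq ↥K PQ PS
  have hk' : MulAut.conj k • Q.subgroupOf K = S.subgroupOf K := by
    have := congrArg (fun P : Sylow q ↥K => (P : Subgroup ↥K)) hk
    simp only [Sylow.coe_subgroup_smul] at this
    rw [hPQ, hPS] at this
    exact this
  have hkQ : MulAut.conj (k : Γ) • Q = S := conj_eq_of_subgroupOf_conj_eq hQ.1 hS.1 k hk'
  -- `A ≤ N(S) = k N(Q) k⁻¹`
  have hAkU : A ≤ MulAut.conj (k : Γ) • Subgroup.normalizer (Q : Set Γ) := by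
    rw [conj_smul_normalizer, hkQ]
    exact hAS
  obtain ⟨c, hc, hkc⟩ := exists_mem_centralizer_of_le_conj_smul hAK hcop hsolv hAQ (k : Γ) k.2 hAkU
  refine ⟨c, hc, ?_⟩
  have h1 : MulAut.conj ((k : Γ)⁻¹ * c) • Q = Q := by
    ext x
    rw [mem_conj_smul_iff]
    have h := (Subgroup.mem_normalizer_iff.mp hkc) (((k : Γ)⁻¹ * c)⁻¹ * x * ((k : Γ)⁻¹ * c))
    rw [h]
    have e : (k : Γ)⁻¹ * c * (((k : Γ)⁻¹ * c)⁻¹ * x * ((k : Γ)⁻¹ * c)) * ((k : Γ)⁻¹ * c)⁻¹ = x := by
      group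
    rw [e]
  have h2 : c = (k : Γ) * ((k : Γ)⁻¹ * c) := by group
  rw [h2, map_mul, mul_smul, h1, hkQ]

end nav

end Cfsg.Agent.Lib.Helper22.TP
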