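/-
helper22: S4885/S4886 leaves (NV6), (NV6b) for planner helper14: a nontrivial normal `q`-solvable
subgroup contains a nontrivial normal `q`-subgroup or `q'`-subgroup of the whole group; a normal
`q`-subgroup lies in every Sylow `q`-subgroup.
-/
import Mathlib
import Cfsg.Prelude.Def_Blocks
import Cfsg.Prelude.Def_Local
import Cfsg.Agent.Lib.Helper24.PSolvable
import Cfsg.Agent.Lib.Helper12.Cores
import Cfsg.Agent.Lib.Helper14.TPDefs
import Cfsg.Agent.Lib.Helper22.TPL1

set_option autoImplicit false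

namespace Cfsg.Agent.Lib.Helper22.TP

open Cfsg Cfsg.Agent.Lib.Helper2.Glaub
open Cfsg.Agent.Lib.Helper14.TP
open scoped Pointwise

universe u

section nav
variable {Γ : Type u} [Group Γ] [Finite Γ]

/-- (NV6) a nontrivial normal `q`-solvable subgroup contains a nontrivial normal subgroup of `Γ`
which is a `q`-group or a `q'`-group (`O_q(K)` or `O_{q'}(K)`). -/
theorem exists_normal_le_q_or_qprime (q : ℕ) [Fact q.Prime] (K : Subgroup Γ) [K.Normal]
    (hK : K ≠ ⊥) (hqs : IsPSolvable q K) :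
    ∃ N : Subgroup Γ, N.Normal ∧ N ≤ K ∧ N ≠ ⊥ ∧ (IsPGroup q N ∨ (Nat.card N).Coprime q) := by
  have : Nontrivial ↥K := (Subgroup.nontrivial_iff_ne_bot K).mpr hK
  obtain ⟨N₀, hN₀, hN₀1, hN₀2⟩ := Cfsg.Agent.Lib.Helper24.exists_normal_of_isPSolvable q hqs
  have hinj : Function.Injective K.subtype := Subgroup.subtype_injective K
  rcases hN₀2 with hpg | hc
  · have : (Cfsg.pCore q ↥K).Characteristic := Cfsg.Agent.Lib.Helper12.pCore_characteristic' q
    refine ⟨(Cfsg.pCore q ↥K).map K.subtype, inferInstance, Subgroup.map_subtype_le _, ?_, ?_⟩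
    · intro h
      rw [Subgroup.map_eq_bot_iff_of_injective _ hinj] at h
      have := Cfsg.Agent.Lib.Helper12.le_pCore' q N₀ hN₀ hpg
      rw [h, le_bot_iff] at this
      exact hN₀1 this
    · left
      exact (Cfsg.Agent.Lib.Helper12.pCore_isPGroup' q).map _
  · have : (Cfsg.pPrimeCore q ↥K).Characteristic :=
      Cfsg.Agent.Lib.Helper12.pPrimeCore_characteristic q
    refine ⟨(Cfsg.pPrimeCore q ↥K).map K.subtype, inferInstance, Subgroup.map_subtype_le _, ?_, ?_⟩
    · intro h
      rw [Subgroup.map_eq_bot_iff_of_injective _ hinj] at h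
      have := Cfsg.Agent.Lib.Helper12.le_pPrimeCore q N₀ hN₀ hc
      rw [h, le_bot_iff] at this
      exact hN₀1 this
    · right
      rw [Subgroup.card_map_of_injective hinj]
      exact Cfsg.Agent.Lib.Helper12.pPrimeCore_coprime q

omit [Finite Γ] in
/-- (NV6b) a normal `q`-subgroup lies in every Sylow `q`-subgroup. -/
theorem le_of_isSylowIn_of_normal (q : ℕ) [Fact q.Prime] (N Q K : Subgroup Γ) [N.Normal]
    (hNK : N ≤ K) (hN : IsPGroup q N) (hQ : IsSylowIn q Q K) : N ≤ Q := by
  obtain ⟨P, hP⟩ := exists_sylow_of_isSylowIn q hQ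
  have hN' : IsPGroup q ↥(N.subgroupOf K) := hN.comap_subtype
  have hle := Cfsg.Agent.Lib.Helper24.normal_pgroup_le_sylow (N.subgroupOf K) hN' P
  intro x hx
  have h1 : (⟨x, hNK hx⟩ : ↥K) ∈ N.subgroupOf K := Subgroup.mem_subgroupOf.mpr hx
  have h2 := hle h1
  rw [hP] at h2
  exact Subgroup.mem_subgroupOf.mp h2

end nav

end Cfsg.Agent.Lib.Helper22.TP
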