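/-
helper22: S2524 (helper10's market, `notes/S2524_leaves.lean`, section `mackey`) - common core of the
leaves MKU and MKE: the action `g . B = g^{-T} B g^{-1}` of the Levi factor on symmetric matrices, the
orbit representatives `single 0 0 κ`, `κ = 0, 1, ν` of the matrices of rank at most one.
-/
import Mathlib
import Cfsg.Agent.Lib.Helper10.WGDefs
import Cfsg.Agent.Lib.Helper23.WGLVW
import Cfsg.Agent.Lib.Helper17.WGWD

set_option autoImplicit false
set_option linter.unusedSectionVars false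
set_option linter.unusedVariables false

namespace Cfsg.Agent.Lib.Helper22.WGMKC

open Matrix Cfsg.Agent.Lib.Helper11.LS Cfsg.Agent.Lib.Helper10.WG

universe u

variable {F : Type*} [Field F]

section act

variable {n : ℕ}

/-- the action `g . B = g^{-T} B g^{-1}` -/
def act (g : GL (Fin n) F) (B : Matrix (Fin n) (Fin n) F) : Matrix (Fin n) (Fin n) F :=
  ((g⁻¹ : GL (Fin n) F) : Matrix (Fin n) (Fin n) F)ᵀ * B *
    ((g⁻¹ : GL (Fin n) F) : Matrix (Fin n) (Fin n) F)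

theorem act_one (B : Matrix (Fin n) (Fin n) F) : act (1 : GL (Fin n) F) B = B := by
  simp [act]

theorem act_mul (g h : GL (Fin n) F) (B : Matrix (Fin n) (Fin n) F) :
    act (g * h) B = act g (act h B) := by
  unfold act
  rw [_root_.mul_inv_rev, Units.val_mul, transpose_mul]
  simp only [Matrix.mul_assoc]

theorem act_transpose (g : GL (Fin n) F) (B : Matrix (Fin n) (Fin n) F) (hB : Bᵀ = B) :
    (act g B)ᵀ = act g B := by
  unfold act
  rw [transpose_mul, transpose_mul, transpose_transpose, hB, Matrix.mul_assoc]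

theorem act_inv_act (g : GL (Fin n) F) (B : Matrix (Fin n) (Fin n) F) :
    act g⁻¹ (act g B) = B := by
  rw [← act_mul, inv_mul_cancel, act_one]

theorem act_act_inv (g : GL (Fin n) F) (B : Matrix (Fin n) (Fin n) F) :
    act g (act g⁻¹ B) = B := by
  rw [← act_mul, mul_inv_cancel, act_one]

theorem act_zero (g : GL (Fin n) F) : act g (0 : Matrix (Fin n) (Fin n) F) = 0 := by
  simp [act]

theorem lvG_mul (g h : GL (Fin n) F) : (LvG (g * h) : SpG F n) = LvG g * LvG h := by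
  apply Subtype.ext
  show fromBlocks ((g * h : GL (Fin n) F) : Matrix (Fin n) (Fin n) F) 0 0
      (((g * h)⁻¹ : GL (Fin n) F) : Matrix (Fin n) (Fin n) F)ᵀ =
    fromBlocks (g : Matrix (Fin n) (Fin n) F) 0 0
        ((g⁻¹ : GL (Fin n) F) : Matrix (Fin n) (Fin n) F)ᵀ *
      fromBlocks (h : Matrix (Fin n) (Fin n) F) 0 0
        ((h⁻¹ : GL (Fin n) F) : Matrix (Fin n) (Fin n) F)ᵀ
  rw [fromBlocks_multiply, _root_.mul_inv_rev, Units.val_mul, Units.val_mul, transpose_mul]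
  simp

theorem lvG_one : (LvG (1 : GL (Fin n) F) : SpG F n) = 1 := by
  apply Subtype.ext
  show fromBlocks ((1 : GL (Fin n) F) : Matrix (Fin n) (Fin n) F) 0 0
      (((1 : GL (Fin n) F)⁻¹ : GL (Fin n) F) : Matrix (Fin n) (Fin n) F)ᵀ = 1
  simp [fromBlocks_one]

end act

section rep

variable [Fintype F] [DecidableEq F]

variable {n : ℕ} {V : Type u} [AddCommGroup V] [Module ℂ V]

theorem rho_lvG_mul (ρ : Representation ℂ (SpG F n) V) (g h : GL (Fin n) F) (v : V) :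
    ρ (LvG g) (ρ (LvG h) v) = ρ (LvG (g * h)) v := by
  rw [lvG_mul, map_mul]; rfl

theorem rho_lvG_one (ρ : Representation ℂ (SpG F n) V) (v : V) :
    ρ (LvG (1 : GL (Fin n) F)) v = v := by
  rw [lvG_one, map_one]; rfl

theorem rho_lvG_inv_cancel (ρ : Representation ℂ (SpG F n) V) (g : GL (Fin n) F) (v : V) :
    ρ (LvG g) (ρ (LvG g⁻¹) v) = v := by
  rw [rho_lvG_mul, mul_inv_cancel, rho_lvG_one]

theorem rho_lvG_inv_cancel' (ρ : Representation ℂ (SpG F n) V) (g : GL (Fin n) F) (v : V) :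
    ρ (LvG g⁻¹) (ρ (LvG g) v) = v := by
  rw [rho_lvG_mul, inv_mul_cancel, rho_lvG_one]

theorem mem_wt_act (ψ : AddChar F ℂ) (ρ : Representation ℂ (SpG F n) V) (g : GL (Fin n) F)
    (B : Matrix (Fin n) (Fin n) F) (v : V) (hv : v ∈ wt ψ ρ B) :
    ρ (LvG g) v ∈ wt ψ ρ (act g B) :=
  Cfsg.Agent.Lib.Helper23.WGLVW.LvG_mem_wt ψ ρ g B v hv

theorem mem_wt_of_act (ψ : AddChar F ℂ) (ρ : Representation ℂ (SpG F n) V) (g : GL (Fin n) F)
    (B : Matrix (Fin n) (Fin n) F) (v : V) (hv : v ∈ wt ψ ρ (act g B)) :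
    ρ (LvG g⁻¹) v ∈ wt ψ ρ B := by
  have := mem_wt_act ψ ρ g⁻¹ (act g B) v hv
  rwa [act_inv_act] at this

end rep

section orbit

variable {n : ℕ}

theorem conj_single_apply (H : Matrix (Fin (n + 1)) (Fin (n + 1)) F) (κ : F)
    (i j : Fin (n + 1)) :
    (Hᵀ * (single 0 0 κ : Matrix (Fin (n + 1)) (Fin (n + 1)) F) * H) i j = κ * H 0 i * H 0 j := by
  rw [Matrix.mul_apply, Finset.sum_eq_single 0]
  · rw [Matrix.mul_single_apply_same, transpose_apply]
    ring
  · intro b _ hb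
    rw [Matrix.mul_single_apply_of_ne _ _ _ _ _ hb, zero_mul]
  · intro h
    exact absurd (Finset.mem_univ _) h

theorem act_single_apply (g : GL (Fin (n + 1)) F) (κ : F) (i j : Fin (n + 1)) :
    act g (single 0 0 κ) i j =
      κ * ((g⁻¹ : GL (Fin (n + 1)) F) : Matrix (Fin (n + 1)) (Fin (n + 1)) F) 0 i *
        ((g⁻¹ : GL (Fin (n + 1)) F) : Matrix (Fin (n + 1)) (Fin (n + 1)) F) 0 j := by
  unfold act
  exact conj_single_apply _ κ i j

/-- a row of an invertible matrix is not zero -/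
theorem row_ne_zero (g : GL (Fin (n + 1)) F) :
    ∃ i, (g : Matrix (Fin (n + 1)) (Fin (n + 1)) F) 0 i ≠ 0 := by
  by_contra hcon
  have hcon' : ∀ i, (g : Matrix (Fin (n + 1)) (Fin (n + 1)) F) 0 i = 0 := by
    intro i
    by_contra hi
    exact hcon ⟨i, hi⟩
  have h1 : ((g * g⁻¹ : GL (Fin (n + 1)) F) : Matrix (Fin (n + 1)) (Fin (n + 1)) F) 0 0 = 1 := by
    rw [mul_inv_cancel, Units.val_one, Matrix.one_apply_eq]
  rw [Units.val_mul, Matrix.mul_apply] at h1
  rw [Finset.sum_eq_zero (fun i _ => by rw [hcon' i, zero_mul])] at h1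
  exact zero_ne_one h1

/-- the three base points lie in different orbits -/
theorem act_single_eq_single (ν : F) (hν : ¬ IsSquare ν) (g : GL (Fin (n + 1)) F) (κ κ' : F)
    (hκ : κ = 0 ∨ κ = 1 ∨ κ = ν) (hκ' : κ' = 0 ∨ κ' = 1 ∨ κ' = ν)
    (h : act g (single 0 0 κ) = single 0 0 κ') : κ = κ' := by
  have hν0 : ν ≠ 0 := by
    rintro rfl
    exact hν ⟨0, by simp⟩
  have h00 : κ * ((g⁻¹ : GL (Fin (n + 1)) F) : Matrix (Fin (n + 1)) (Fin (n + 1)) F) 0 0 *
      ((g⁻¹ : GL (Fin (n + 1)) F) : Matrix (Fin (n + 1)) (Fin (n + 1)) F) 0 0 = κ' := by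
    rw [← act_single_apply, h, single_apply_same]
  -- if κ ≠ 0 then κ' ≠ 0
  have hne : κ ≠ 0 → κ' ≠ 0 := by
    intro hk hk'
    obtain ⟨i, hi⟩ := row_ne_zero (g⁻¹ : GL (Fin (n + 1)) F)
    have h1 := act_single_apply g κ i i
    rw [h, hk', Matrix.single_zero, Matrix.zero_apply] at h1
    have h2 := h1.symm
    rw [mul_assoc, mul_eq_zero, mul_self_eq_zero] at h2
    rcases h2 with h2 | h2
    · exact hk h2
    · exact hi h2
  set t := ((g⁻¹ : GL (Fin (n + 1)) F) : Matrix (Fin (n + 1)) (Fin (n + 1)) F) 0 0 with ht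
  rcases hκ with rfl | rfl | rfl
  · simpa using h00
  · rcases hκ' with rfl | rfl | rfl
    · exact absurd rfl (hne one_ne_zero)
    · rfl
    · exact absurd ⟨t, by rw [← h00]; ring⟩ hν
  · rcases hκ' with rfl | rfl | rfl
    · exact absurd rfl (hne hν0)
    · have ht0 : t ≠ 0 := by
        rintro h0
        rw [h0] at h00
        simp at h00
      exact absurd ⟨t⁻¹, by field_simp; linear_combination h00⟩ hν
    · rfl

theorem exists_GL_row (u : Fin (n + 1) → F) (hu : u ≠ 0) :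
    ∃ G : GL (Fin (n + 1)) F, ∀ j, (G : Matrix (Fin (n + 1)) (Fin (n + 1)) F) 0 j = u j := by
  classical
  have he : (Pi.single 0 1 : Fin (n + 1) → F) ≠ 0 := by
    intro h
    have := congrFun h 0
    simp at this
  let f : (F ∙ (Pi.single 0 1 : Fin (n + 1) → F)) ≃ₗ[F] (F ∙ u) :=
    (LinearEquiv.toSpanNonzeroSingleton F _ _ he).symm ≪≫ₗ
      LinearEquiv.toSpanNonzeroSingleton F _ u hu
  obtain ⟨e, he'⟩ := Submodule.exists_linearEquiv_restrict_eq f
  have h1 : e (Pi.single 0 1) = u := by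
    have h2 := he' ⟨Pi.single 0 1, Submodule.mem_span_singleton_self _⟩
    have h3 : f ⟨Pi.single 0 1, Submodule.mem_span_singleton_self _⟩ =
        ⟨u, Submodule.mem_span_singleton_self _⟩ := by
      show LinearEquiv.toSpanNonzeroSingleton F _ u hu
        ((LinearEquiv.toSpanNonzeroSingleton F _ _ he).symm _) = _
      rw [← LinearEquiv.toSpanNonzeroSingleton_one F _ _ he, LinearEquiv.symm_apply_apply,
        LinearEquiv.toSpanNonzeroSingleton_one]
    rw [h3] at h2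
    exact h2.symm
  let M := LinearMap.toMatrix' (e : (Fin (n + 1) → F) →ₗ[F] (Fin (n + 1) → F))
  let M' := LinearMap.toMatrix' (e.symm : (Fin (n + 1) → F) →ₗ[F] (Fin (n + 1) → F))
  have hMM' : M * M' = 1 := by
    rw [← LinearMap.toMatrix'_comp]
    simp
  have hM'M : M' * M = 1 := by
    rw [← LinearMap.toMatrix'_comp]
    simp
  refine ⟨⟨Mᵀ, M'ᵀ, ?_, ?_⟩, ?_⟩
  · rw [← transpose_mul, hM'M, transpose_one]
  · rw [← transpose_mul, hMM', transpose_one]
  · intro j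
    show (LinearMap.toMatrix' (e : (Fin (n + 1) → F) →ₗ[F] (Fin (n + 1) → F)))ᵀ 0 j = u j
    rw [transpose_apply, LinearMap.toMatrix'_apply, ← h1]
    congr 2

variable [Fintype F]

theorem exists_sq_class (h2 : (2 : F) ≠ 0) (ν : F) (hν : ¬ IsSquare ν) (a : F) (ha : a ≠ 0) :
    ∃ κ s : F, (κ = 1 ∨ κ = ν) ∧ s ≠ 0 ∧ a = κ * s * s := by
  classical
  have hν0 : ν ≠ 0 := by
    rintro rfl
    exact hν ⟨0, by simp⟩
  by_cases hsq : IsSquare a
  · obtain ⟨s, hs⟩ := hsq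
    refine ⟨1, s, Or.inl rfl, ?_, by rw [hs]; ring⟩
    rintro rfl
    exact ha (by rw [hs]; ring)
  · have h1 : quadraticChar F (a * ν) = 1 := by
      rw [map_mul, quadraticChar_neg_one_iff_not_isSquare.mpr hsq,
        quadraticChar_neg_one_iff_not_isSquare.mpr hν]
      norm_num
    obtain ⟨s, hs⟩ := (quadraticChar_one_iff_isSquare (mul_ne_zero ha hν0)).mp h1
    have hs0 : s ≠ 0 := by
      rintro rfl
      have : a * ν = 0 := by rw [hs]; ring
      exact mul_ne_zero ha hν0 this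
    refine ⟨ν, s * ν⁻¹, Or.inr rfl, mul_ne_zero hs0 (inv_ne_zero hν0), ?_⟩
    have : ν * (s * ν⁻¹) * (s * ν⁻¹) = (s * s) * ν⁻¹ := by field_simp
    rw [this, ← hs]
    field_simp

/-- every non-zero matrix `a v vᵀ` lies in the orbit of `single 0 0 1` or of `single 0 0 ν` -/
theorem orbit_rep (h2 : (2 : F) ≠ 0) (ν : F) (hν : ¬ IsSquare ν) (a : F) (w : Fin (n + 1) → F)
    (hB : a • vecMulVec w w ≠ 0) :
    ∃ (g : GL (Fin (n + 1)) F) (κ : F), (κ = 1 ∨ κ = ν) ∧
      act g (single 0 0 κ) = a • vecMulVec w w := by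
  have ha : a ≠ 0 := by
    rintro rfl
    exact hB (zero_smul _ _)
  have hw : w ≠ 0 := by
    rintro rfl
    apply hB
    ext i j
    simp
  obtain ⟨κ, s, hκ, hs, has⟩ := exists_sq_class h2 ν hν a ha
  have hu : s • w ≠ 0 := smul_ne_zero hs hw
  obtain ⟨G, hG⟩ := exists_GL_row (s • w) hu
  refine ⟨G⁻¹, κ, hκ, ?_⟩
  ext i j
  rw [act_single_apply, inv_inv, hG, hG, has]
  simp only [Pi.smul_apply, smul_eq_mul, Matrix.smul_apply, vecMulVec_apply]
  ring

end orbit

section decomp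

variable [Fintype F] [DecidableEq F]

variable {n : ℕ} {V' W : Type u} [AddCommGroup V'] [Module ℂ V'] [AddCommGroup W] [Module ℂ W]

/-- two linear maps which agree on all the weight spaces are equal -/
theorem ext_wt (h2 : (2 : F) ≠ 0) (ψ : AddChar F ℂ) (hψ : ψ.IsPrimitive)
    (ρ' : Representation ℂ (SpG F n) V') (f g : V' →ₗ[ℂ] W)
    (h : ∀ B : Matrix (Fin n) (Fin n) F, Bᵀ = B → ∀ x ∈ wt ψ ρ' B, f x = g x) : f = g := by
  ext v
  have hv := Cfsg.Agent.Lib.Helper17.WGWD.sum_wtProj h2 ψ hψ ρ' v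
  rw [← hv, map_sum, map_sum]
  exact Finset.sum_congr rfl
    (fun B _ => h B.1 B.2 _ (Cfsg.Agent.Lib.Helper17.WGWD.wtProj_mem ψ ρ' B.1 v))

/-- the weight of a non-zero weight vector of a (W)-module lies in one of the three orbits -/
theorem exists_rep (h2 : (2 : F) ≠ 0) (ν : F) (hν : ¬ IsSquare ν) (ψ : AddChar F ℂ)
    (ρ' : Representation ℂ (SpG F (n + 1)) V') (hW' : IsW ψ ρ')
    (B : Matrix (Fin (n + 1)) (Fin (n + 1)) F) (hB : Bᵀ = B) (x : V') (hx : x ∈ wt ψ ρ' B)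
    (hx0 : x ≠ 0) :
    ∃ (g : GL (Fin (n + 1)) F) (κ : F), (κ = 0 ∨ κ = 1 ∨ κ = ν) ∧ act g (single 0 0 κ) = B := by
  have hne : wt ψ ρ' B ≠ ⊥ := (Submodule.ne_bot_iff _).mpr ⟨x, hx, hx0⟩
  obtain ⟨a, w, rfl⟩ := hW' B hB hne
  by_cases h0 : a • vecMulVec w w = 0
  · refine ⟨1, 0, Or.inl rfl, ?_⟩
    rw [act_one, h0, Matrix.single_zero]
  · obtain ⟨g, κ, hκ, hg⟩ := orbit_rep h2 ν hν a w h0
    exact ⟨g, κ, Or.inr hκ, hg⟩

end decomp

end Cfsg.Agent.Lib.Helper22.WGMKC
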