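/-
helper22: S2524 leaf MKU (helper10's market, `notes/S2524_leaves.lean`, section `mackey`): a
`P`-homomorphism of a (W)-module is determined by its restrictions to the weight spaces of `0`,
`E_00` and `ν E_00`.
-/
import Mathlib
import Cfsg.Agent.Lib.Helper10.WGDefs
import Cfsg.Agent.Lib.Helper22.WGMKC

set_option autoImplicit false
set_option linter.unusedSectionVars false
set_option linter.unusedVariables false

namespace Cfsg.Agent.Lib.Helper22.WGMKU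

open Matrix Cfsg.Agent.Lib.Helper11.LS Cfsg.Agent.Lib.Helper10.WG Cfsg.Agent.Lib.Helper22.WGMKC

universe u

variable {F : Type*} [Field F] [Fintype F] [DecidableEq F]

section mackey

variable {n : ℕ} {V V' : Type u} [AddCommGroup V] [Module ℂ V] [AddCommGroup V'] [Module ℂ V']

/-- (MKU) uniqueness. -/
theorem P_hom_unique (h2 : (2 : F) ≠ 0) (ψ : AddChar F ℂ) (hψ : ψ.IsPrimitive) (ν : F)
    (hν : ¬ IsSquare ν) (ρ' : Representation ℂ (SpG F (n + 1)) V')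
    (ρ : Representation ℂ (SpG F (n + 1)) V) (hW' : IsW ψ ρ') (Φ Ψ : V' →ₗ[ℂ] V)
    (hΦQ : ∀ (S : Matrix (Fin (n + 1)) (Fin (n + 1)) F) (hS : Sᵀ = S), Comm ρ' ρ Φ (Xs S hS))
    (hΦL : ∀ g : GL (Fin (n + 1)) F, Comm ρ' ρ Φ (LvG g))
    (hΨQ : ∀ (S : Matrix (Fin (n + 1)) (Fin (n + 1)) F) (hS : Sᵀ = S), Comm ρ' ρ Ψ (Xs S hS))
    (hΨL : ∀ g : GL (Fin (n + 1)) F, Comm ρ' ρ Ψ (LvG g))
    (h0 : ∀ v ∈ wt ψ ρ' 0, Φ v = Ψ v)
    (h1 : ∀ v ∈ wt ψ ρ' (single 0 0 1), Φ v = Ψ v)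
    (h2' : ∀ v ∈ wt ψ ρ' (single 0 0 ν), Φ v = Ψ v) : Φ = Ψ := by
  apply ext_wt h2 ψ hψ ρ'
  intro B hB x hx
  by_cases hx0 : x = 0
  · rw [hx0, map_zero, map_zero]
  obtain ⟨g, κ, hκ, hg⟩ := exists_rep h2 ν hν ψ ρ' hW' B hB x hx hx0
  have hy : ρ' (LvG g⁻¹) x ∈ wt ψ ρ' (single 0 0 κ) :=
    mem_wt_of_act ψ ρ' g _ x (by rw [hg]; exact hx)
  have hxy : x = ρ' (LvG g) (ρ' (LvG g⁻¹) x) := (rho_lvG_inv_cancel ρ' g x).symm
  have hΦΨ : Φ (ρ' (LvG g⁻¹) x) = Ψ (ρ' (LvG g⁻¹) x) := by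
    rcases hκ with rfl | rfl | rfl
    · apply h0
      rw [Matrix.single_zero] at hy
      exact hy
    · exact h1 _ hy
    · exact h2' _ hy
  rw [hxy, hΦL g (ρ' (LvG g⁻¹) x), hΨL g (ρ' (LvG g⁻¹) x), hΦΨ]

end mackey

end Cfsg.Agent.Lib.Helper22.WGMKU
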