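import Mathlib
import Cfsg.Prelude.Def_PLocal
import Cfsg.Agent.Lib.Helper1.NilpotentAction

/-!
helper22: Timmesfeld replacement for *abelian* (not necessarily elementary abelian) best offenders.

`msr V B = |B| * |C_V(B)|`; `AbBest V B`: `B` is abelian and `msr V D ≤ msr V B` for all `D ≤ B`.
Main result `exists_best_offender`: an abelian `p`-group `B` normalizing the elementary abelian `p`-group
`V`, `AbBest`, acting nontrivially, contains a subgroup `B0` with `Cfsg.IsBestOffenderOn p V B0` acting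
nontrivially (obtained by iterating `B ↦ C_B([v, B])`).
-/

set_option autoImplicit false
set_option linter.unusedSectionVars false
set_option linter.style.haveILetI false

namespace Cfsg.Agent.Lib.Helper22.FFAb

open Subgroup
open scoped commutatorElement

variable {G : Type*} [Group G]

/-- `|B| * |C_V(B)|` -/
noncomputable def msr (V B : Subgroup G) : ℕ :=
  Nat.card B * Nat.card ↥(V ⊓ centralizer (B : Set G))

/-- abelian best offender: abelian, and no subgroup has larger measure -/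
def AbBest (V B : Subgroup G) : Prop :=
  (∀ a ∈ B, ∀ b ∈ B, a * b = b * a) ∧ ∀ D : Subgroup G, D ≤ B → msr V D ≤ msr V B

/-- the set of commutators `[b, v]`, `b ∈ B` -/
def commSet (B : Subgroup G) (v : G) : Set G := {c | ∃ b ∈ B, c = ⁅b, v⁆}

/-- `B_v = C_B([v, B])` -/
def cen (B : Subgroup G) (v : G) : Subgroup G := B ⊓ centralizer (commSet B v)

theorem cen_le (B : Subgroup G) (v : G) : cen B v ≤ B := inf_le_left

theorem mem_cen_iff {B : Subgroup G} {v a : G} :
    a ∈ cen B v ↔ a ∈ B ∧ ∀ b ∈ B, ⁅b, v⁆ * a = a * ⁅b, v⁆ := by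
  unfold cen
  rw [mem_inf, mem_centralizer_iff]
  constructor
  · rintro ⟨h1, h2⟩
    exact ⟨h1, fun b hb => h2 _ ⟨b, hb, rfl⟩⟩
  · rintro ⟨h1, h2⟩
    refine ⟨h1, ?_⟩
    rintro _ ⟨b, hb, rfl⟩
    exact h2 b hb

theorem comm_mul (a b v : G) : ⁅a * b, v⁆ = (a * ⁅b, v⁆ * a⁻¹) * ⁅a, v⁆ := by
  simp only [commutatorElement_def]; group

section step
variable {V B : Subgroup G} (hVc : ∀ x ∈ V, ∀ y ∈ V, x * y = y * x)
  (hBV : B ≤ normalizer (V : Set G)) (hBc : ∀ a ∈ B, ∀ b ∈ B, a * b = b * a) {v : G} (hv : v ∈ V)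

include hBV hv in
theorem comm_mem {b : G} (hb : b ∈ B) : ⁅b, v⁆ ∈ V := by
  rw [commutatorElement_def]
  have h1 : b * v * b⁻¹ ∈ V := (mem_normalizer_iff.mp (hBV hb) v).mp hv
  exact V.mul_mem h1 (V.inv_mem hv)

include hBV in
theorem conj_mem {b x : G} (hb : b ∈ B) (hx : x ∈ V) : b * x * b⁻¹ ∈ V :=
  (mem_normalizer_iff.mp (hBV hb) x).mp hx

include hVc hBV hBc hv in
/-- for `a ∈ B_v`, `[a, v]` is centralized by `B` -/
theorem comm_mem_centralizer {a : G} (ha : a ∈ cen B v) {b : G} (hb : b ∈ B) :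
    b * ⁅a, v⁆ * b⁻¹ = ⁅a, v⁆ := by
  obtain ⟨haB, hac⟩ := mem_cen_iff.mp ha
  have h1 : ⁅b * a, v⁆ = (b * ⁅a, v⁆ * b⁻¹) * ⁅b, v⁆ := comm_mul b a v
  have h2 : ⁅a * b, v⁆ = (a * ⁅b, v⁆ * a⁻¹) * ⁅a, v⁆ := comm_mul a b v
  have h3 : a * ⁅b, v⁆ * a⁻¹ = ⁅b, v⁆ := by rw [← hac b hb, mul_inv_cancel_right]
  rw [hBc a haB b hb, h1, h3] at h2
  have h4 : ⁅b, v⁆ * ⁅a, v⁆ = ⁅a, v⁆ * ⁅b, v⁆ :=
    hVc _ (comm_mem hBV hv hb) _ (comm_mem hBV hv haB)
  rw [h4] at h2
  exact mul_right_cancel h2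

include hVc hBV hBc hv in
theorem comm_mul_of_cen {a b : G} (ha : a ∈ cen B v) (hb : b ∈ B) :
    ⁅b * a, v⁆ = ⁅b, v⁆ * ⁅a, v⁆ := by
  rw [comm_mul, comm_mem_centralizer hVc hBV hBc hv ha hb]
  exact hVc _ (comm_mem hBV hv (cen_le B v ha)) _ (comm_mem hBV hv hb)

include hVc hBV hBc hv in
/-- if `[d, v]` is centralized by `B` then `d ∈ B_v` -/
theorem mem_cen_of_comm_fixed {d : G} (hd : d ∈ B) (h : ∀ b ∈ B, b * ⁅d, v⁆ * b⁻¹ = ⁅d, v⁆) :
    d ∈ cen B v := by
  rw [mem_cen_iff]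
  refine ⟨hd, ?_⟩
  intro a ha
  have h1 : ⁅d * a, v⁆ = (d * ⁅a, v⁆ * d⁻¹) * ⁅d, v⁆ := comm_mul d a v
  have h2 : ⁅a * d, v⁆ = (a * ⁅d, v⁆ * a⁻¹) * ⁅a, v⁆ := comm_mul a d v
  rw [h a ha, hBc a ha d hd, h1] at h2
  have h4 : ⁅d, v⁆ * ⁅a, v⁆ = ⁅a, v⁆ * ⁅d, v⁆ :=
    hVc _ (comm_mem hBV hv hd) _ (comm_mem hBV hv ha)
  rw [h4] at h2
  have h5 : d * ⁅a, v⁆ * d⁻¹ = ⁅a, v⁆ := mul_right_cancel h2
  calc ⁅a, v⁆ * d = (d * ⁅a, v⁆ * d⁻¹) * d := by rw [h5]
    _ = d * ⁅a, v⁆ := by group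


theorem inf_centralizer_le_cen (V B : Subgroup G) (v : G) :
    V ⊓ centralizer (B : Set G) ≤ V ⊓ centralizer ((cen B v : Subgroup G) : Set G) :=
  inf_le_inf_left _ (centralizer_le (cen_le B v))

include hBV hv in
theorem comm_mem_inf_centralizer_cen {b : G} (hb : b ∈ B) :
    ⁅b, v⁆ ∈ V ⊓ centralizer ((cen B v : Subgroup G) : Set G) := by
  refine mem_inf.mpr ⟨comm_mem hBV hv hb, ?_⟩
  rw [mem_centralizer_iff]
  intro a ha
  exact ((mem_cen_iff.mp ha).2 b hb).symm

include hVc hBV hBc hv in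
theorem comm_mem_inf_centralizer {a : G} (ha : a ∈ cen B v) :
    ⁅a, v⁆ ∈ V ⊓ centralizer (B : Set G) := by
  refine mem_inf.mpr ⟨comm_mem hBV hv (cen_le B v ha), ?_⟩
  rw [mem_centralizer_iff]
  intro b hb
  have := comm_mem_centralizer hVc hBV hBc hv ha hb
  calc b * ⁅a, v⁆ = (b * ⁅a, v⁆ * b⁻¹) * b := by group
    _ = ⁅a, v⁆ * b := by rw [this]

include hVc hBV hBc hv in
/-- injectivity on cosets -/
theorem inv_mul_mem_cen {x y : G} (hx : x ∈ B) (hy : y ∈ B)
    (h : ⁅x, v⁆⁻¹ * ⁅y, v⁆ ∈ V ⊓ centralizer (B : Set G)) : x⁻¹ * y ∈ cen B v := by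
  have hd : x⁻¹ * y ∈ B := B.mul_mem (B.inv_mem hx) hy
  have h1 : ⁅y, v⁆ = (x * ⁅x⁻¹ * y, v⁆ * x⁻¹) * ⁅x, v⁆ := by
    have := comm_mul x (x⁻¹ * y) v
    rwa [mul_inv_cancel_left] at this
  have hcV : x * ⁅x⁻¹ * y, v⁆ * x⁻¹ ∈ V := conj_mem hBV hx (comm_mem hBV hv hd)
  have h2 : ⁅x, v⁆⁻¹ * ⁅y, v⁆ = x * ⁅x⁻¹ * y, v⁆ * x⁻¹ := by
    rw [h1, hVc _ hcV _ (comm_mem hBV hv hx), inv_mul_cancel_left]
  rw [h2] at h
  have h3 : x * ⁅x⁻¹ * y, v⁆ * x⁻¹ = ⁅x⁻¹ * y, v⁆ := by
    have hc := (mem_centralizer_iff.mp h.2) x hx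
    -- x * c = c * x with c = x * d * x⁻¹
    have : x * (x * ⁅x⁻¹ * y, v⁆ * x⁻¹) = x * ⁅x⁻¹ * y, v⁆ := by
      rw [hc]; group
    exact mul_left_cancel this
  rw [h3] at h
  apply mem_cen_of_comm_fixed hVc hBV hBc hv hd
  intro b hb
  have hc := (mem_centralizer_iff.mp h.2) b hb
  rw [hc, mul_inv_cancel_right]

end step

section count
variable [Finite G] {V B : Subgroup G} (hVc : ∀ x ∈ V, ∀ y ∈ V, x * y = y * x)
  (hBV : B ≤ normalizer (V : Set G)) (hBc : ∀ a ∈ B, ∀ b ∈ B, a * b = b * a) {v : G} (hv : v ∈ V)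

/-- the coset map `b B_v ↦ [b, v] C_V(B)` -/
noncomputable def cosetMap (hVc : ∀ x ∈ V, ∀ y ∈ V, x * y = y * x)
    (hBV : B ≤ normalizer (V : Set G)) (hBc : ∀ a ∈ B, ∀ b ∈ B, a * b = b * a) {v : G} (hv : v ∈ V) :
    (↥B ⧸ (cen B v).subgroupOf B) →
      (↥(V ⊓ centralizer ((cen B v : Subgroup G) : Set G)) ⧸
        (V ⊓ centralizer (B : Set G)).subgroupOf (V ⊓ centralizer ((cen B v : Subgroup G) : Set G))) :=
  Quotient.map' (fun b : ↥B => (⟨⁅(b : G), v⁆, comm_mem_inf_centralizer_cen hBV hv b.2⟩ :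
      ↥(V ⊓ centralizer ((cen B v : Subgroup G) : Set G)))) (by
    intro x y hxy
    rw [QuotientGroup.leftRel_apply] at hxy ⊢
    rw [mem_subgroupOf] at hxy ⊢
    have hxy' : (x : G)⁻¹ * (y : G) ∈ cen B v := by simpa using hxy
    have h1 := comm_mul_of_cen hVc hBV hBc hv hxy' x.2
    rw [mul_inv_cancel_left] at h1
    have h2 := comm_mem_inf_centralizer hVc hBV hBc hv hxy'
    show (⁅(x : G), v⁆)⁻¹ * ⁅(y : G), v⁆ ∈ V ⊓ centralizer (B : Set G)
    rw [h1, inv_mul_cancel_left]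
    exact h2)

theorem cosetMap_injective : Function.Injective (cosetMap hVc hBV hBc hv) := by
  intro a b
  refine Quotient.inductionOn₂' a b ?_
  intro x y h
  unfold cosetMap at h
  rw [Quotient.map'_mk'', Quotient.map'_mk'', Quotient.eq''] at h
  rw [Quotient.eq'']
  rw [QuotientGroup.leftRel_apply, mem_subgroupOf] at h ⊢
  have h' : (⁅(x : G), v⁆)⁻¹ * ⁅(y : G), v⁆ ∈ V ⊓ centralizer (B : Set G) := h
  have := inv_mul_mem_cen hVc hBV hBc hv x.2 y.2 h'
  simpa using this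

theorem card_subgroupOf_of_le {H K : Subgroup G} (h : H ≤ K) :
    Nat.card ↥(H.subgroupOf K) = Nat.card ↥H :=
  Nat.card_congr (subgroupOfEquivOfLe h).toEquiv

include hVc hBV hBc hv in
/-- Timmesfeld step: `msr V B ≤ msr V (C_B([v,B]))` -/
theorem msr_le_msr_cen : msr V B ≤ msr V (cen B v) := by
  have hinj := cosetMap_injective hVc hBV hBc hv
  have hle := Nat.card_le_card_of_injective _ hinj
  have e1 := card_eq_card_quotient_mul_card_subgroup ((cen B v).subgroupOf B)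
  have e2 := card_eq_card_quotient_mul_card_subgroup
    ((V ⊓ centralizer (B : Set G)).subgroupOf (V ⊓ centralizer ((cen B v : Subgroup G) : Set G)))
  rw [card_subgroupOf_of_le (cen_le B v)] at e1
  rw [card_subgroupOf_of_le (inf_centralizer_le_cen V B v)] at e2
  unfold msr
  rw [e1, e2]
  calc Nat.card (↥B ⧸ (cen B v).subgroupOf B) * Nat.card ↥(cen B v) *
        Nat.card ↥(V ⊓ centralizer (B : Set G))
      ≤ Nat.card (↥(V ⊓ centralizer ((cen B v : Subgroup G) : Set G)) ⧸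
        (V ⊓ centralizer (B : Set G)).subgroupOf (V ⊓ centralizer ((cen B v : Subgroup G) : Set G))) *
        Nat.card ↥(cen B v) * Nat.card ↥(V ⊓ centralizer (B : Set G)) := by gcongr
    _ = _ := by ring

include hVc hBV hBc hv in
/-- equality case: `C_V(B_v) = [v, B] C_V(B)` -/
theorem exists_eq_comm_mul (heq : msr V (cen B v) ≤ msr V B) {w : G}
    (hw : w ∈ V ⊓ centralizer ((cen B v : Subgroup G) : Set G)) :
    ∃ b ∈ B, ∃ c ∈ V ⊓ centralizer (B : Set G), w = ⁅b, v⁆ * c := by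
  have hinj := cosetMap_injective hVc hBV hBc hv
  have e1 := card_eq_card_quotient_mul_card_subgroup ((cen B v).subgroupOf B)
  have e2 := card_eq_card_quotient_mul_card_subgroup
    ((V ⊓ centralizer (B : Set G)).subgroupOf (V ⊓ centralizer ((cen B v : Subgroup G) : Set G)))
  rw [card_subgroupOf_of_le (cen_le B v)] at e1
  rw [card_subgroupOf_of_le (inf_centralizer_le_cen V B v)] at e2
  unfold msr at heq
  rw [e1, e2] at heq
  have hpos1 : 0 < Nat.card ↥(cen B v) := Nat.card_pos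
  have hpos2 : 0 < Nat.card ↥(V ⊓ centralizer (B : Set G)) := Nat.card_pos
  have hle : Nat.card (↥(V ⊓ centralizer ((cen B v : Subgroup G) : Set G)) ⧸
        (V ⊓ centralizer (B : Set G)).subgroupOf (V ⊓ centralizer ((cen B v : Subgroup G) : Set G))) ≤
      Nat.card (↥B ⧸ (cen B v).subgroupOf B) := by
    have h3 : Nat.card (↥(V ⊓ centralizer ((cen B v : Subgroup G) : Set G)) ⧸
        (V ⊓ centralizer (B : Set G)).subgroupOf (V ⊓ centralizer ((cen B v : Subgroup G) : Set G))) *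
        (Nat.card ↥(cen B v) * Nat.card ↥(V ⊓ centralizer (B : Set G))) ≤
        Nat.card (↥B ⧸ (cen B v).subgroupOf B) *
        (Nat.card ↥(cen B v) * Nat.card ↥(V ⊓ centralizer (B : Set G))) := by
      calc _ = Nat.card ↥(cen B v) * (Nat.card (↥(V ⊓ centralizer ((cen B v : Subgroup G) : Set G)) ⧸
        (V ⊓ centralizer (B : Set G)).subgroupOf (V ⊓ centralizer ((cen B v : Subgroup G) : Set G))) *
          Nat.card ↥(V ⊓ centralizer (B : Set G))) := by ring
        _ ≤ _ := heq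
        _ = _ := by ring
    exact Nat.le_of_mul_le_mul_right h3 (Nat.mul_pos hpos1 hpos2)
  have hbij := Function.Injective.bijective_of_nat_card_le hinj hle
  obtain ⟨q, hq⟩ := hbij.2 (QuotientGroup.mk ⟨w, hw⟩)
  revert hq
  refine Quotient.inductionOn' q ?_
  intro b hb
  unfold cosetMap at hb
  rw [Quotient.map'_mk''] at hb
  have hb' := Quotient.eq''.mp hb
  rw [QuotientGroup.leftRel_apply, mem_subgroupOf] at hb'
  have hb'' : (⁅(b : G), v⁆)⁻¹ * w ∈ V ⊓ centralizer (B : Set G) := hb'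
  exact ⟨b, b.2, _, hb'', by rw [mul_inv_cancel_left]⟩

end count

section iterate
variable [Finite G] {p : ℕ} [hp : Fact p.Prime]

theorem conj_pow_eq' {x y c : G} (h : x * y * x⁻¹ = c * y) (hc : x * c = c * x) (k : ℕ) :
    x ^ k * y * (x ^ k)⁻¹ = c ^ k * y := by
  induction k with
  | zero => simp
  | succ k ih =>
    have h1 : x * c ^ k * x⁻¹ = c ^ k := by
      have : Commute x (c ^ k) := (show Commute x c from hc).pow_right k
      rw [this.eq]; group
    calc x ^ (k + 1) * y * (x ^ (k + 1))⁻¹ = x * (x ^ k * y * (x ^ k)⁻¹) * x⁻¹ := by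
          rw [pow_succ']; group
      _ = x * (c ^ k * y) * x⁻¹ := by rw [ih]
      _ = (x * c ^ k * x⁻¹) * (x * y * x⁻¹) := by group
      _ = c ^ k * (c * y) := by rw [h1, h]
      _ = c ^ (k + 1) * y := by rw [pow_succ]; group

theorem AbBest.of_le_of_msr {V B D : Subgroup G} (hB : AbBest V B) (hD : D ≤ B)
    (h : msr V B ≤ msr V D) : AbBest V D :=
  ⟨fun a ha b hb => hB.1 a (hD ha) b (hD hb), fun E hE => (hB.2 E (hE.trans hD)).trans h⟩

/-- quadratic case -/
theorem isBestOffenderOn_of_quadratic {V B : Subgroup G} (hV : Cfsg.IsElementaryAbelian p V)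
    (hBV : B ≤ normalizer (V : Set G))
    (hB : AbBest V B) (hq : ∀ v ∈ V, cen B v = B) : Cfsg.IsBestOffenderOn p V B := by
  refine ⟨fun D hD => hB.2 D hD, ?_, ?_⟩
  · have : ⁅B, B⁆ = ⊥ := by
      rw [commutator_eq_bot_iff_le_centralizer]
      intro a ha
      rw [mem_centralizer_iff]
      intro b hb
      exact hB.1 b hb a ha
    rw [this]; exact bot_le
  · intro a ha
    rw [mem_centralizer_iff]
    intro v hv
    have hav : a ∈ cen B v := by rw [hq v hv]; exact ha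
    have hc := (mem_cen_iff.mp hav).2 a ha
    have h1 : a * v * a⁻¹ = ⁅a, v⁆ * v := by rw [commutatorElement_def]; group
    have h2 := conj_pow_eq' h1 hc.symm p
    have hcV : ⁅a, v⁆ ∈ V := comm_mem hBV hv ha
    rw [hV.2 _ hcV, one_mul] at h2
    calc v * a ^ p = (a ^ p * v * (a ^ p)⁻¹) * a ^ p := by rw [h2]
      _ = a ^ p * v := by group


omit [Finite G] hp in
theorem comm_mul_right_of_commute {x c b : G} (h : c * b = b * c) : ⁅x * c, b⁆ = ⁅x, b⁆ := by
  simp only [commutatorElement_def]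
  have : x * c * b * (x * c)⁻¹ * b⁻¹ = x * (c * b * c⁻¹) * x⁻¹ * b⁻¹ := by group
  rw [this, h, mul_inv_cancel_right]

/-- nontriviality of the action of `B_v` -/
theorem commutator_cen_ne_bot {V B : Subgroup G} (hV : Cfsg.IsElementaryAbelian p V)
    (hBV : B ≤ normalizer (V : Set G)) (hBp : IsPGroup p B) (hB : AbBest V B) (hne : ⁅V, B⁆ ≠ ⊥)
    {v : G} (hv : v ∈ V) : ⁅V, cen B v⁆ ≠ ⊥ := by
  intro h0
  have hVc : ∀ x ∈ V, ∀ y ∈ V, x * y = y * x := by
    intro x hx y hy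
    have := hV.1.is_comm.comm ⟨x, hx⟩ ⟨y, hy⟩
    exact congrArg Subtype.val this
  have hVp : IsPGroup p V := by
    intro x
    refine ⟨1, ?_⟩
    apply Subtype.ext
    simpa using hV.2 x x.2
  have heq : msr V (cen B v) ≤ msr V B := hB.2 _ (cen_le B v)
  have hVle : V ≤ centralizer ((cen B v : Subgroup G) : Set G) :=
    commutator_eq_bot_iff_le_centralizer.mp h0
  apply hne
  set U := ⁅V, B⁆ with hU
  have hUV : U ≤ V := by
    rw [hU, commutator_le]
    intro x hx b hb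
    rw [commutatorElement_def]
    have h1 : b * x⁻¹ * b⁻¹ ∈ V := conj_mem hBV hb (V.inv_mem hx)
    have : x * b * x⁻¹ * b⁻¹ = x * (b * x⁻¹ * b⁻¹) := by group
    rw [this]
    exact V.mul_mem hx h1
  have hBU : B ≤ normalizer (U : Set G) := by
    intro b hb
    have hb1 : b ∈ normalizer (V : Set G) := hBV hb
    have hb2 : b ∈ normalizer (B : Set G) := le_normalizer hb
    rw [mem_normalizer_iff]
    intro u
    have key : ∀ c : G, c ∈ normalizer (V : Set G) → c ∈ normalizer (B : Set G) →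
        ∀ u ∈ U, c * u * c⁻¹ ∈ U := by
      intro c hc1 hc2 u hu
      have : (⁅V, B⁆).map (MulAut.conj c).toMonoidHom = ⁅V, B⁆ := by
        rw [map_commutator]
        congr 1
        · ext y
          simp only [mem_map, MulEquiv.coe_toMonoidHom, MulAut.conj_apply]
          constructor
          · rintro ⟨x, hx, rfl⟩
            exact (mem_normalizer_iff.mp hc1 x).mp hx
          · intro hy
            refine ⟨c⁻¹ * y * c, ?_, by group⟩
            have := (mem_normalizer_iff.mp (inv_mem hc1) y).mp hy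
            simpa using this
        · ext y
          simp only [mem_map, MulEquiv.coe_toMonoidHom, MulAut.conj_apply]
          constructor
          · rintro ⟨x, hx, rfl⟩
            exact (mem_normalizer_iff.mp hc2 x).mp hx
          · intro hy
            refine ⟨c⁻¹ * y * c, ?_, by group⟩
            have := (mem_normalizer_iff.mp (inv_mem hc2) y).mp hy
            simpa using this
      have hmem : c * u * c⁻¹ ∈ (⁅V, B⁆).map (MulAut.conj c).toMonoidHom := ⟨u, hu, rfl⟩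
      rw [this] at hmem
      exact hmem
    constructor
    · exact key b hb1 hb2 u
    · intro h
      have := key b⁻¹ (inv_mem hb1) (inv_mem hb2) _ h
      simpa [mul_assoc] using this
  have hle : U ≤ ⁅U, B⁆ := by
    rw [hU, commutator_le]
    intro w hw b' hb'
    have hwmem : w ∈ V ⊓ centralizer ((cen B v : Subgroup G) : Set G) := mem_inf.mpr ⟨hw, hVle hw⟩
    obtain ⟨b, hb, c, hc, rfl⟩ := exists_eq_comm_mul hVc hBV hB.1 hv heq hwmem
    have hcb : c * b' = b' * c := ((mem_centralizer_iff.mp (mem_inf.mp hc).2) b' hb').symm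
    rw [comm_mul_right_of_commute hcb]
    refine commutator_mem_commutator ?_ hb'
    have : ⁅b, v⁆ ∈ ⁅B, V⁆ := commutator_mem_commutator hb hv
    rwa [commutator_comm] at this
  by_contra hU0
  have hlt := Cfsg.Agent.Lib.Helper1.IsPGroup.commutator_lt (hVp.to_le hUV) hBp hBU hU0
  exact absurd hle (not_le_of_gt hlt)

/-- **Timmesfeld replacement, iterated**: an abelian best offender contains a best offender in the sense of
`Cfsg.IsBestOffenderOn` (in particular elementary abelian modulo the kernel) acting nontrivially. -/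
theorem exists_best_offender {V : Subgroup G} (hV : Cfsg.IsElementaryAbelian p V) :
    ∀ (n : ℕ) (B : Subgroup G), Nat.card B = n → B ≤ normalizer (V : Set G) → IsPGroup p B →
      AbBest V B → ⁅V, B⁆ ≠ ⊥ →
      ∃ B0 : Subgroup G, B0 ≤ B ∧ Cfsg.IsBestOffenderOn p V B0 ∧ ⁅V, B0⁆ ≠ ⊥ := by
  intro n
  induction n using Nat.strong_induction_on with
  | _ n ih =>
    intro B hn hBV hBp hB hne
    have hVc : ∀ x ∈ V, ∀ y ∈ V, x * y = y * x := by
      intro x hx y hy
      have := hV.1.is_comm.comm ⟨x, hx⟩ ⟨y, hy⟩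
      exact congrArg Subtype.val this
    by_cases hq : ∀ v ∈ V, cen B v = B
    · exact ⟨B, le_rfl, isBestOffenderOn_of_quadratic hV hBV hB hq, hne⟩
    · push Not at hq
      obtain ⟨v, hv, hvB⟩ := hq
      have hlt : cen B v < B := lt_of_le_of_ne (cen_le B v) hvB
      have hcard : Nat.card ↥(cen B v) < n := by
        rw [← hn]
        have h := Set.ncard_lt_ncard (SetLike.coe_ssubset_coe.mpr hlt) (Set.toFinite _)
        rw [← _root_.Nat.card_coe_set_eq, ← _root_.Nat.card_coe_set_eq] at h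
        exact h
      have hmsr : msr V B ≤ msr V (cen B v) := msr_le_msr_cen hVc hBV hB.1 hv
      have hB' : AbBest V (cen B v) := hB.of_le_of_msr (cen_le B v) hmsr
      obtain ⟨B0, hB0, hbest, hne0⟩ := ih _ hcard (cen B v) rfl ((cen_le B v).trans hBV)
        (hBp.to_le (cen_le B v)) hB' (commutator_cen_ne_bot hV hBV hBp hB hne hv)
      exact ⟨B0, hB0.trans (cen_le B v), hbest, hne0⟩

end iterate

end Cfsg.Agent.Lib.Helper22.FFAb
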