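import Mathlib
import Cfsg.Agent.Lib.Helper22.FFAbA
import Cfsg.Agent.Lib.Helper4.Basic
import Cfsg.Agent.Lib.Helper1.Fitting
import Cfsg.Agent.Lib.Helper8.HallSCN1

/-!
helper22: group-side preparations for Glauberman's failure-of-factorization theorem with the abelian-version
Thompson subgroup: the module `W = Ω₁(⟨Z(T)^X⟩)`, `C_X(W) = core C_X(Z(T))`, `O₂(X / C_X(W)) = 1`,
maximal abelian subgroups are abelian best offenders.
-/

set_option autoImplicit false
set_option linter.unusedSectionVars false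
set_option linter.style.haveILetI false

namespace Cfsg.Agent.Lib.Helper22.FFAb

open Subgroup
open scoped commutatorElement

section general
variable {X : Type*} [Group X]

/-- the core of the centralizer of `Z` is the centralizer of the normal closure of `Z` -/
theorem normalCore_centralizer (Z : Set X) :
    (centralizer Z).normalCore = centralizer ((normalClosure Z : Subgroup X) : Set X) := by
  ext c
  have hcore : c ∈ (centralizer Z).normalCore ↔ ∀ b : X, b * c * b⁻¹ ∈ centralizer Z := Iff.rfl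
  rw [hcore]
  unfold normalClosure
  rw [centralizer_closure]
  constructor
  · intro h
    rw [mem_centralizer_iff]
    intro y hy
    obtain ⟨z, hz, hzy⟩ := Group.mem_conjugatesOfSet_iff.mp hy
    obtain ⟨g, rfl⟩ := isConj_iff.mp hzy
    have h1 := (mem_centralizer_iff.mp (h g⁻¹)) z hz
    simp only [inv_inv] at h1
    calc g * z * g⁻¹ * c = g * (z * (g⁻¹ * c * g)) * g⁻¹ := by group
      _ = g * ((g⁻¹ * c * g) * z) * g⁻¹ := by rw [h1]
      _ = c * (g * z * g⁻¹) := by group
  · intro h b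
    rw [mem_centralizer_iff]
    intro z hz
    have hy : b⁻¹ * z * b ∈ Group.conjugatesOfSet Z := by
      rw [Group.mem_conjugatesOfSet_iff]
      refine ⟨z, hz, isConj_iff.mpr ⟨b⁻¹, by simp⟩⟩
    have h1 := (mem_centralizer_iff.mp h) _ hy
    calc z * (b * c * b⁻¹) = b * ((b⁻¹ * z * b) * c) * b⁻¹ := by group
      _ = b * (c * (b⁻¹ * z * b)) * b⁻¹ := by rw [h1]
      _ = b * c * b⁻¹ * z := by group

/-- `Ω₁` of an abelian subgroup for the prime 2, as a subgroup -/
def omega2 (Vn : Subgroup X) (hc : ∀ x ∈ Vn, ∀ y ∈ Vn, x * y = y * x) : Subgroup X where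
  carrier := {x | x ∈ Vn ∧ x ^ 2 = 1}
  mul_mem' := by
    rintro a b ⟨ha, ha2⟩ ⟨hb, hb2⟩
    refine ⟨Vn.mul_mem ha hb, ?_⟩
    rw [(show Commute a b from hc a ha b hb).mul_pow, ha2, hb2, one_mul]
  one_mem' := ⟨Vn.one_mem, one_pow 2⟩
  inv_mem' := by
    rintro a ⟨ha, ha2⟩
    exact ⟨Vn.inv_mem ha, by rw [inv_pow, ha2, inv_one]⟩

theorem mem_omega2 {Vn : Subgroup X} {hc : ∀ x ∈ Vn, ∀ y ∈ Vn, x * y = y * x} {x : X} :
    x ∈ omega2 Vn hc ↔ x ∈ Vn ∧ x ^ 2 = 1 := Iff.rfl

theorem omega2_le (Vn : Subgroup X) (hc : ∀ x ∈ Vn, ∀ y ∈ Vn, x * y = y * x) : omega2 Vn hc ≤ Vn :=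
  fun _ hx => hx.1

instance omega2_normal (Vn : Subgroup X) [hn : Vn.Normal] (hc : ∀ x ∈ Vn, ∀ y ∈ Vn, x * y = y * x) :
    (omega2 Vn hc).Normal := by
  constructor
  rintro x ⟨hx, hx2⟩ g
  refine ⟨hn.conj_mem x hx g, ?_⟩
  rw [conj_pow, hx2, mul_one, mul_inv_cancel]

theorem omega2_isElementaryAbelian (Vn : Subgroup X) (hc : ∀ x ∈ Vn, ∀ y ∈ Vn, x * y = y * x) :
    Cfsg.IsElementaryAbelian 2 (omega2 Vn hc) := by
  refine ⟨⟨⟨?_⟩⟩, fun a ha => ha.2⟩
  rintro ⟨a, ha⟩ ⟨b, hb⟩
  exact Subtype.ext (hc a ha.1 b hb.1)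

/-- an element of odd order normalizing an abelian 2-group `Vn` and centralizing `Ω₁(Vn)` centralizes `Vn` -/
theorem mem_centralizer_of_odd [Finite X] {Vn : Subgroup X} (hc : ∀ x ∈ Vn, ∀ y ∈ Vn, x * y = y * x)
    (hV2 : IsPGroup 2 Vn) {x : X} (hxn : x ∈ normalizer (Vn : Set X)) (hodd : Odd (orderOf x))
    (hxW : x ∈ centralizer ((omega2 Vn hc : Subgroup X) : Set X)) : x ∈ centralizer (Vn : Set X) := by
  have key : ∀ k : ℕ, ∀ v ∈ Vn, v ^ (2 ^ k) = 1 → x * v * x⁻¹ = v := by
    intro k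
    induction k with
    | zero =>
      intro v _ hv1
      rw [pow_zero, pow_one] at hv1
      rw [hv1, mul_one, mul_inv_cancel]
    | succ k ih =>
      intro v hv hvk
      have hv2 : v ^ 2 ∈ Vn := Vn.pow_mem hv 2
      have h1 : x * v ^ 2 * x⁻¹ = v ^ 2 := by
        apply ih _ hv2
        rw [← pow_mul, ← pow_succ']
        exact hvk
      set u := x * v * x⁻¹ * v⁻¹ with hu
      have hxv : x * v * x⁻¹ ∈ Vn := (mem_normalizer_iff.mp hxn v).mp hv
      have huV : u ∈ Vn := Vn.mul_mem hxv (Vn.inv_mem hv)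
      have hu2 : u ^ 2 = 1 := by
        have hcomm : Commute (x * v * x⁻¹) v⁻¹ := hc _ hxv _ (Vn.inv_mem hv)
        rw [hu, hcomm.mul_pow, conj_pow, h1, inv_pow, mul_inv_cancel]
      have huW : u ∈ omega2 Vn hc := ⟨huV, hu2⟩
      have hxu : x * u = u * x := ((mem_centralizer_iff.mp hxW) u huW).symm
      have hconj : x * v * x⁻¹ = u * v := by rw [hu]; group
      have h2 := conj_pow_eq' hconj hxu (orderOf x)
      rw [pow_orderOf_eq_one, one_mul, inv_one, mul_one] at h2
      have h3 : u ^ orderOf x = 1 := by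
        have : u ^ orderOf x * v = 1 * v := by rw [one_mul]; exact h2.symm
        exact mul_right_cancel this
      obtain ⟨m, hm⟩ := hodd
      have hu1 : u = 1 := by
        have : u ^ (2 * m + 1) = u := by
          rw [pow_succ, pow_mul, hu2, one_pow, one_mul]
        rw [← this, ← hm, h3]
      rw [hconj, hu1, one_mul]
  rw [mem_centralizer_iff]
  intro v hv
  obtain ⟨k, hk⟩ := (IsPGroup.iff_orderOf.mp hV2) ⟨v, hv⟩
  have hvk : v ^ (2 ^ k) = 1 := by
    have h1 : orderOf v = 2 ^ k := by rw [← hk]; exact (orderOf_mk v hv).symm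
    rw [← h1]; exact pow_orderOf_eq_one v
  have := key k v hv hvk
  calc v * x = (x * v * x⁻¹) * x := by rw [this]
    _ = x * v := by group

end general

section sylow
variable {X : Type*} [Group X] [Finite X]

/-- `|K : T ∩ K|` divides `|X : T|` for `K` normal -/
theorem inf_relIndex_dvd_index (T K : Subgroup X) [hK : K.Normal] : (T ⊓ K).relIndex K ∣ T.index := by
  have hTK : T ≤ normalizer (K : Set X) := by rw [normalizer_eq_top]; exact le_top
  have h1 := Cfsg.Agent.Lib.Helper4.card_sup_mul_card_inf T K hTK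
  have h2 := Cfsg.Agent.Lib.Helper4.card_mul_relIndex (inf_le_right : T ⊓ K ≤ K)
  have h3 := Cfsg.Agent.Lib.Helper4.card_mul_relIndex (le_sup_left : T ≤ T ⊔ K)
  have h4 : T.relIndex (T ⊔ K) = (T ⊓ K).relIndex K := by
    have hpos1 : 0 < Nat.card ↥T := Nat.card_pos
    have hpos2 : 0 < Nat.card ↥(T ⊓ K) := Nat.card_pos
    apply Nat.eq_of_mul_eq_mul_left (Nat.mul_pos hpos1 hpos2)
    calc Nat.card ↥T * Nat.card ↥(T ⊓ K) * T.relIndex (T ⊔ K)
        = (Nat.card ↥T * T.relIndex (T ⊔ K)) * Nat.card ↥(T ⊓ K) := by ring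
      _ = Nat.card ↥T * Nat.card ↥K := by rw [h3, h1]
      _ = Nat.card ↥T * Nat.card ↥(T ⊓ K) * (T ⊓ K).relIndex K := by rw [← h2]; ring
  rw [← h4]
  exact relIndex_dvd_index_of_le le_sup_left

/-- **Lemma A**: a normal subgroup all of whose odd-order elements lie in the core of `C_X(Z(T))`
lies in that core. -/
theorem le_normalCore_of_odd_mem (T : Sylow 2 X) (K : Subgroup X) [hK : K.Normal]
    (h : ∀ k ∈ K, Odd (orderOf k) →
      k ∈ (centralizer (((T : Subgroup X) ⊓ centralizer ((T : Subgroup X) : Set X) : Subgroup X) : Set X)).normalCore) :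
    K ≤ (centralizer (((T : Subgroup X) ⊓ centralizer ((T : Subgroup X) : Set X) : Subgroup X) : Set X)).normalCore := by
  set Z : Subgroup X := (T : Subgroup X) ⊓ centralizer ((T : Subgroup X) : Set X) with hZ
  rw [normal_le_normalCore]
  set K0 := K ⊓ centralizer (Z : Set X) with hK0
  have hone : K0.relIndex K = 1 := by
    rw [Nat.eq_one_iff_not_exists_prime_dvd]
    intro r hr hdvd
    by_cases hr2 : r = 2
    · subst hr2
      have hTK : (T : Subgroup X) ⊓ K ≤ K0 := by
        intro x hx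
        refine mem_inf.mpr ⟨(mem_inf.mp hx).2, ?_⟩
        rw [mem_centralizer_iff]
        intro z hz
        exact ((mem_centralizer_iff.mp (mem_inf.mp hz).2) x (mem_inf.mp hx).1).symm
      have h1 : K0.relIndex K ∣ ((T : Subgroup X) ⊓ K).relIndex K := relIndex_dvd_of_le_left K hTK
      have h2 := inf_relIndex_dvd_index (T : Subgroup X) K
      exact (Sylow.not_dvd_index T) (hdvd.trans (h1.trans h2))
    · haveI : Fact r.Prime := ⟨hr⟩
      obtain ⟨P⟩ : Nonempty (Sylow r ↥K) := inferInstance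
      have hodd : Odd r := hr.odd_of_ne_two hr2
      have hP : (P : Subgroup ↥K) ≤ K0.subgroupOf K := by
        intro x hx
        rw [mem_subgroupOf]
        refine mem_inf.mpr ⟨x.2, ?_⟩
        obtain ⟨j, hj⟩ := (IsPGroup.iff_orderOf.mp P.2) ⟨x, hx⟩
        have hox : orderOf (x : X) = r ^ j := by
          rw [← hj, Subgroup.orderOf_coe]
          exact (orderOf_mk x hx).symm
        have : Odd (orderOf (x : X)) := by rw [hox]; exact hodd.pow
        exact normalCore_le _ (h _ x.2 this)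
      have h1 : (K0.subgroupOf K).index ∣ (P : Subgroup ↥K).index := index_dvd_of_le hP
      exact (Sylow.not_dvd_index P) (hdvd.trans h1)
  rw [relIndex_eq_one] at hone
  exact hone.trans inf_le_right

end sylow

section setup
variable {X : Type*} [Group X] [Finite X] [Group.IsSolvable X]

/-- `Z(T)` -/
abbrev ZT (T : Sylow 2 X) : Subgroup X := (T : Subgroup X) ⊓ centralizer ((T : Subgroup X) : Set X)

/-- the normal closure of `Z(T)` -/
abbrev Vn (T : Sylow 2 X) : Subgroup X := normalClosure ((ZT T : Subgroup X) : Set X)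

theorem centralizer_pCore_le (hF : Cfsg.fittingSubgroup X = Cfsg.pCore 2 X) :
    centralizer (Cfsg.pCore 2 X : Set X) ≤ Cfsg.pCore 2 X := by
  have := Cfsg.Agent.Lib.Helper8.HallSCN.centralizer_fitting_le (G := X)
  rwa [hF] at this

theorem Vn_le (hF : Cfsg.fittingSubgroup X = Cfsg.pCore 2 X) (T : Sylow 2 X) :
    Vn T ≤ Cfsg.pCore 2 X ⊓ centralizer (Cfsg.pCore 2 X : Set X) := by
  have hQn : (Cfsg.pCore 2 X).Normal := Cfsg.Agent.Lib.Helper1.pCore_normal 2 X
  have hQT : Cfsg.pCore 2 X ≤ (T : Subgroup X) := Cfsg.Agent.Lib.Helper1.pCore_le_sylow T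
  have hcn : (centralizer (Cfsg.pCore 2 X : Set X)).Normal := normal_centralizer
  have hn : (Cfsg.pCore 2 X ⊓ centralizer (Cfsg.pCore 2 X : Set X)).Normal := inferInstance
  apply normalClosure_le_normal
  intro z hz
  have hzc : z ∈ centralizer (Cfsg.pCore 2 X : Set X) := centralizer_le hQT (mem_inf.mp hz).2
  exact mem_inf.mpr ⟨centralizer_pCore_le hF hzc, hzc⟩

theorem Vn_comm (hF : Cfsg.fittingSubgroup X = Cfsg.pCore 2 X) (T : Sylow 2 X) :
    ∀ x ∈ Vn T, ∀ y ∈ Vn T, x * y = y * x := by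
  intro x hx y hy
  have hx' := Vn_le hF T hx
  have hy' := Vn_le hF T hy
  exact (mem_centralizer_iff.mp (mem_inf.mp hy').2) x (mem_inf.mp hx').1

theorem Vn_isPGroup (hF : Cfsg.fittingSubgroup X = Cfsg.pCore 2 X) (T : Sylow 2 X) :
    IsPGroup 2 (Vn T) :=
  (Cfsg.Agent.Lib.Helper1.pCore_isPGroup 2 X).to_le ((Vn_le hF T).trans inf_le_left)

/-- the module `W = Ω₁(⟨Z(T)^X⟩)` -/
def Wm (hF : Cfsg.fittingSubgroup X = Cfsg.pCore 2 X) (T : Sylow 2 X) : Subgroup X :=
  omega2 (Vn T) (Vn_comm hF T)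

instance Wm_normal (hF : Cfsg.fittingSubgroup X = Cfsg.pCore 2 X) (T : Sylow 2 X) : (Wm hF T).Normal := by
  unfold Wm
  have : (Vn T).Normal := normalClosure_normal
  infer_instance

theorem Wm_isElementaryAbelian (hF : Cfsg.fittingSubgroup X = Cfsg.pCore 2 X) (T : Sylow 2 X) :
    Cfsg.IsElementaryAbelian 2 (Wm hF T) := omega2_isElementaryAbelian _ _

theorem Wm_le_sylow (hF : Cfsg.fittingSubgroup X = Cfsg.pCore 2 X) (T : Sylow 2 X) :
    Wm hF T ≤ (T : Subgroup X) :=
  (omega2_le _ _).trans (((Vn_le hF T).trans inf_le_left).trans (Cfsg.Agent.Lib.Helper1.pCore_le_sylow T))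

theorem Wm_comm (hF : Cfsg.fittingSubgroup X = Cfsg.pCore 2 X) (T : Sylow 2 X) :
    ∀ x ∈ Wm hF T, ∀ y ∈ Wm hF T, x * y = y * x :=
  fun x hx y hy => Vn_comm hF T x (omega2_le _ _ hx) y (omega2_le _ _ hy)

/-- `C_X(W)` is the core of `C_X(Z(T))` -/
theorem centralizer_Wm (hF : Cfsg.fittingSubgroup X = Cfsg.pCore 2 X) (T : Sylow 2 X) :
    centralizer ((Wm hF T : Subgroup X) : Set X) =
      (centralizer ((ZT T : Subgroup X) : Set X)).normalCore := by
  apply le_antisymm
  · have hKn : (centralizer ((Wm hF T : Subgroup X) : Set X)).Normal := normal_centralizer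
    apply le_normalCore_of_odd_mem T
    intro k hk hodd
    rw [normalCore_centralizer]
    have hVn : (Vn T).Normal := normalClosure_normal
    have hkn : k ∈ normalizer ((Vn T : Subgroup X) : Set X) := by
      rw [normalizer_eq_top]; exact mem_top k
    exact mem_centralizer_of_odd (Vn_comm hF T) (Vn_isPGroup hF T) hkn hodd hk
  · rw [normalCore_centralizer]
    exact centralizer_le (omega2_le _ _)

/-- `O₂(X / C_X(W)) = 1` -/
theorem pCore_quotient_centralizer_Wm (hF : Cfsg.fittingSubgroup X = Cfsg.pCore 2 X) (T : Sylow 2 X) :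
    Cfsg.pCore 2 (X ⧸ centralizer ((Wm hF T : Subgroup X) : Set X)) = ⊥ := by
  set C := centralizer ((Wm hF T : Subgroup X) : Set X) with hC
  set Db := Cfsg.pCore 2 (X ⧸ C) with hDb
  have hDbn : Db.Normal := Cfsg.Agent.Lib.Helper1.pCore_normal 2 _
  have hDbp : IsPGroup 2 Db := Cfsg.Agent.Lib.Helper1.pCore_isPGroup 2 _
  set D := Db.comap (QuotientGroup.mk' C) with hD
  have hDn : D.Normal := hDbn.comap _
  have hle : D ≤ (centralizer ((ZT T : Subgroup X) : Set X)).normalCore := by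
    apply le_normalCore_of_odd_mem T
    intro d hd hodd
    rw [← centralizer_Wm hF T]
    have hdm : (QuotientGroup.mk' C) d ∈ Db := hd
    obtain ⟨j, hj⟩ := (IsPGroup.iff_orderOf.mp hDbp) ⟨_, hdm⟩
    have h1 : orderOf ((QuotientGroup.mk' C) d) = 2 ^ j := by
      rw [← hj]; exact (orderOf_mk _ hdm).symm
    have h2 : orderOf ((QuotientGroup.mk' C) d) ∣ orderOf d := orderOf_map_dvd _ d
    have h3 : Odd (orderOf ((QuotientGroup.mk' C) d)) := by
      obtain ⟨m, hm⟩ := h2
      rw [hm] at hodd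
      exact (Nat.odd_mul.mp hodd).1
    have h4 : j = 0 := by
      by_contra hj0
      rw [h1] at h3
      have : Even (2 ^ j) := (Nat.even_pow.mpr ⟨even_two, hj0⟩)
      exact (Nat.not_odd_iff_even.mpr this) h3
    rw [h4, pow_zero, orderOf_eq_one_iff] at h1
    exact (QuotientGroup.eq_one_iff d).mp h1
  rw [← centralizer_Wm hF T] at hle
  rw [eq_bot_iff]
  intro x hx
  obtain ⟨d, rfl⟩ := QuotientGroup.mk'_surjective C x
  have hd : d ∈ D := hx
  rw [mem_bot]
  exact (QuotientGroup.eq_one_iff d).mpr (hle hd)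

end setup

end Cfsg.Agent.Lib.Helper22.FFAb
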