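import Mathlib
import Cfsg.Agent.S5652

/-!
# S5789 leaf Q4 (helper22): `O_{2m}^±(q) < Sp_{2m}(q)`, `q ≥ 4` even, for ALL `2 ≤ m`

Re-run of `Cfsg.Agent.S5652.S5652aux` with a new `exists_b` (valid for `2 ≤ m`, `4 ≤ card F`) and a new strictness
argument.  `quad_max_low` is the general statement; `quad_max4` is the leaf (`m = 2`).
-/

set_option autoImplicit false
set_option linter.unusedSectionVars false
set_option linter.unusedVariables false
set_option linter.unusedSimpArgs false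

namespace Cfsg.Agent.Lib.Helper22.Sp4ELeaf
open Cfsg Matrix Cfsg.Agent.Lib.Helper5 Cfsg.Agent.Lib.Helper5.SpMax Cfsg.Agent.S5652.S5652aux

section Tools
variable {F : Type*} [Field F] {m : ℕ}

/-- projection onto `⟨x₁,x₂⟩^⊥` (characteristic 2, `f(x₁,x₂) ≠ 0`) -/
noncomputable def prj (x₁ x₂ y : Fin m ⊕ Fin m → F) : Fin m ⊕ Fin m → F :=
  y + (sympForm m F y x₂ / sympForm m F x₁ x₂) • x₁ + (sympForm m F y x₁ / sympForm m F x₁ x₂) • x₂

lemma prj_perp1 {x₁ x₂ : Fin m ⊕ Fin m → F} (hc : sympForm m F x₁ x₂ ≠ 0)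
    (y : Fin m ⊕ Fin m → F) : sympForm m F (prj x₁ x₂ y) x₁ = 0 := by
  unfold prj
  rw [sympForm_add_left, sympForm_add_left, sympForm_smul_left, sympForm_smul_left, sympForm_self,
    sympForm_swap (u := x₂) (v := x₁)]
  field_simp
  ring

lemma prj_perp2 (h2 : (2 : F) = 0) {x₁ x₂ : Fin m ⊕ Fin m → F} (hc : sympForm m F x₁ x₂ ≠ 0)
    (y : Fin m ⊕ Fin m → F) : sympForm m F (prj x₁ x₂ y) x₂ = 0 := by
  unfold prj
  rw [sympForm_add_left, sympForm_add_left, sympForm_smul_left, sympForm_smul_left, sympForm_self,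
    div_mul_cancel₀ _ hc, mul_zero, add_zero]
  exact add_self2 h2 _

lemma symp_prj {x₁ x₂ x : Fin m ⊕ Fin m → F} (h1 : sympForm m F x x₁ = 0)
    (h1' : sympForm m F x x₂ = 0) (y : Fin m ⊕ Fin m → F) :
    sympForm m F x (prj x₁ x₂ y) = sympForm m F x y := by
  unfold prj
  rw [sympForm_add_right, sympForm_add_right, sympForm_smul_right, sympForm_smul_right, h1, h1',
    mul_zero, mul_zero, add_zero, add_zero]

lemma exists_perp_ne_zero (hm : 2 ≤ m) (x₁ x₂ : Fin m ⊕ Fin m → F) :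
    ∃ x, x ≠ 0 ∧ sympForm m F x x₁ = 0 ∧ sympForm m F x x₂ = 0 := by
  classical
  obtain ⟨S, hS⟩ : ∃ S : Submodule F (Fin m ⊕ Fin m → F),
      S = Submodule.span F ((({x₁, x₂} : Finset (Fin m ⊕ Fin m → F))) :
        Set (Fin m ⊕ Fin m → F)) := ⟨_, rfl⟩
  have hS2 : Module.finrank F S ≤ 2 := by
    rw [hS]
    exact le_trans (finrank_span_finset_le_card _) Finset.card_le_two
  have hx₁ : x₁ ∈ S := by rw [hS]; exact Submodule.subset_span (by simp)
  have hx₂ : x₂ ∈ S := by rw [hS]; exact Submodule.subset_span (by simp)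
  have hpos : 0 < Module.finrank F (perp S) := by
    rw [finrank_perp]; omega
  obtain ⟨⟨x, hxS⟩, hx0⟩ := Module.finrank_pos_iff_exists_ne_zero.mp hpos
  refine ⟨x, fun h => hx0 (Subtype.ext h), hxS x₁ hx₁, hxS x₂ hx₂⟩

variable {Q : (Fin m ⊕ Fin m → F) → F}

/-- `Q` represents every value on `⟨x₁,x₂⟩^⊥` -/
lemma rep2 (h2 : (2 : F) = 0) (hQ : QF Q) (hsq : ∀ x : F, ∃ y, y ^ 2 = x) (hm : 2 ≤ m)
    (x₁ x₂ : Fin m ⊕ Fin m → F) (hc : sympForm m F x₁ x₂ ≠ 0) (r : F) :
    ∃ w, sympForm m F w x₁ = 0 ∧ sympForm m F w x₂ = 0 ∧ Q w = r := by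
  obtain ⟨x, hx0, hx1, hx2⟩ := exists_perp_ne_zero hm x₁ x₂
  obtain ⟨y₀, hy₀⟩ := sympForm_nondeg x hx0
  have hy1 := prj_perp1 hc y₀
  have hy2 := prj_perp2 h2 hc y₀
  have hxy : sympForm m F x (prj x₁ x₂ y₀) ≠ 0 := by rw [symp_prj hx1 hx2]; exact hy₀
  have hex : ∃ w₀, sympForm m F w₀ x₁ = 0 ∧ sympForm m F w₀ x₂ = 0 ∧ Q w₀ ≠ 0 := by
    by_cases hQx : Q x = 0
    · by_cases hQy : Q (prj x₁ x₂ y₀) = 0
      · refine ⟨x + prj x₁ x₂ y₀, ?_, ?_, ?_⟩
        · rw [sympForm_add_left, hx1, hy1, add_zero]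
        · rw [sympForm_add_left, hx2, hy2, add_zero]
        · rw [hQ.pol, hQx, hQy, zero_add, zero_add]; exact hxy
      · exact ⟨_, hy1, hy2, hQy⟩
    · exact ⟨x, hx1, hx2, hQx⟩
  obtain ⟨w₀, hw1, hw2, hQw₀⟩ := hex
  obtain ⟨l, hl⟩ := hsq (r / Q w₀)
  refine ⟨l • w₀, ?_, ?_, ?_⟩
  · rw [sympForm_smul_left, hw1, mul_zero]
  · rw [sympForm_smul_left, hw2, mul_zero]
  · rw [hQ.smul, hl, div_mul_cancel₀ _ hQw₀]

/-- a quadratic polynomial with non-zero linear coefficient has a non-zero non-root -/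
lemma exists_nonroot [Fintype F] (h4 : 4 ≤ Fintype.card F) (c₀ c₁ c₂ : F) (hc₁ : c₁ ≠ 0) :
    ∃ z : F, z ≠ 0 ∧ c₀ + c₁ * z + c₂ * z ^ 2 ≠ 0 := by
  classical
  obtain ⟨p, hp⟩ : ∃ p : Polynomial F, p = Polynomial.C c₂ * Polynomial.X ^ 2 +
      Polynomial.C c₁ * Polynomial.X + Polynomial.C c₀ := ⟨_, rfl⟩
  have hcoeff : p.coeff 1 = c₁ := by
    rw [hp]
    simp [Polynomial.coeff_X, Polynomial.coeff_C]
  have hp0 : p ≠ 0 := by
    intro h
    rw [h, Polynomial.coeff_zero] at hcoeff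
    exact hc₁ hcoeff.symm
  have hdeg : p.natDegree ≤ 2 := by
    rw [hp]
    compute_degree
  have hroots : p.roots.toFinset.card ≤ 2 :=
    le_trans (Multiset.toFinset_card_le _) (le_trans (Polynomial.card_roots' p) hdeg)
  by_contra hcon
  push Not at hcon
  have hsub : (Finset.univ : Finset F) ⊆ insert 0 p.roots.toFinset := by
    intro z _
    by_cases hz : z = 0
    · rw [hz]; exact Finset.mem_insert_self _ _
    · apply Finset.mem_insert_of_mem
      rw [Multiset.mem_toFinset, Polynomial.mem_roots hp0, Polynomial.IsRoot, hp]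
      simp only [Polynomial.eval_add, Polynomial.eval_mul, Polynomial.eval_C, Polynomial.eval_pow,
        Polynomial.eval_X]
      have := hcon z hz
      linear_combination this
  have h1 := Finset.card_le_card hsub
  rw [Finset.card_univ] at h1
  have h3 := Finset.card_insert_le (0 : F) p.roots.toFinset
  omega

end Tools

section Main
variable {F : Type*} [Field F] [Fintype F] {m : ℕ} {Q Q' : (Fin m ⊕ Fin m → F) → F}

lemma exists_both_ne_symp (x y : Fin m ⊕ Fin m → F) (hx : x ≠ 0) (hy : y ≠ 0) :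
    ∃ v, sympForm m F x v ≠ 0 ∧ sympForm m F y v ≠ 0 := by
  obtain ⟨v₁, hv₁⟩ := sympForm_nondeg x hx
  obtain ⟨v₂, hv₂⟩ := sympForm_nondeg y hy
  by_cases h1 : sympForm m F y v₁ = 0
  · by_cases h3 : sympForm m F x v₂ = 0
    · refine ⟨v₁ + v₂, ?_, ?_⟩
      · rw [sympForm_add_right, h3, add_zero]; exact hv₁
      · rw [sympForm_add_right, h1, zero_add]; exact hv₂
    · exact ⟨v₂, h3, hv₂⟩
  · exact ⟨v₁, hv₁, h1⟩

/-- the new `exists_b`, for `2 ≤ m` and `4 ≤ card F` -/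
lemma exists_b_low (h2 : (2 : F) = 0) (hsq : ∀ x : F, ∃ y, y ^ 2 = x) (hm : 2 ≤ m)
    (h4 : 4 ≤ Fintype.card F) (hQ : QF Q)
    {d : Fin m ⊕ Fin m → F} (hd0 : d ≠ 0) (hd : ∀ v, Q' v = Q v + (sympForm m F v d) ^ 2)
    {a : Fin m ⊕ Fin m → F} (ha : a ≠ 0) {δ : F} (hδ : δ ≠ 0) :
    ∃ b, Q b = Q a ∧ Q' b = Q a + δ ∧ sympForm m F a b ≠ 0 := by
  obtain ⟨u, hu⟩ := hsq δ
  have hu0 : u ≠ 0 := by
    rintro rfl
    apply hδ
    rw [← hu]; ring
  -- `d'` with `f(d',d) = 1`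
  obtain ⟨v₁, hv₁⟩ := sympForm_nondeg d hd0
  have hv₁' : sympForm m F v₁ d ≠ 0 := by rw [sympForm_swap]; exact neg_ne_zero.mpr hv₁
  obtain ⟨d', hd'⟩ : ∃ d', d' = (1 / sympForm m F v₁ d) • v₁ := ⟨_, rfl⟩
  have hd'd : sympForm m F d' d = 1 := by
    rw [hd', sympForm_smul_left, one_div, inv_mul_cancel₀ hv₁']
  have hdd' : sympForm m F d d' = 1 := by
    rw [sympForm_swap, hd'd, neg_eq2 h2]
  have hc : sympForm m F d d' ≠ 0 := by rw [hdd']; exact one_ne_zero
  -- reduction: it suffices to find `β` and `p ⟂ d, d'` with the right value and `f(a,p) ≠ c₀(β)`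
  have key : ∀ (β : F) (p : Fin m ⊕ Fin m → F), sympForm m F p d = 0 → sympForm m F p d' = 0 →
      Q p = Q a + β ^ 2 * Q d + u ^ 2 * Q d' + β * u →
      sympForm m F a p ≠ β * sympForm m F a d + u * sympForm m F a d' →
      ∃ b, Q b = Q a ∧ Q' b = Q a + δ ∧ sympForm m F a b ≠ 0 := by
    intro β p hpd hpd' hQp hne
    have hQb : Q (β • d + u • d' + p) = Q a := by
      rw [hQ.pol, hQ.pol, hQ.smul, hQ.smul, sympForm_smul_left, sympForm_smul_right, hdd',
        sympForm_add_left, sympForm_smul_left, sympForm_smul_left,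
        sympForm_swap (u := d) (v := p), sympForm_swap (u := d') (v := p), hpd, hpd', hQp]
      linear_combination (β ^ 2 * Q d + u ^ 2 * Q d' + β * u) * h2
    refine ⟨β • d + u • d' + p, hQb, ?_, ?_⟩
    · rw [hd, hQb, sympForm_add_left, sympForm_add_left, sympForm_smul_left, sympForm_smul_left,
        sympForm_self, hd'd, hpd, ← hu]
      ring
    · rw [sympForm_add_right, sympForm_add_right, sympForm_smul_right, sympForm_smul_right]
      intro h0
      apply hne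
      have h5 : sympForm m F a p = -(β * sympForm m F a d + u * sympForm m F a d') := by
        linear_combination h0
      rw [h5, neg_eq2 h2]
  -- the projection of `a`
  obtain ⟨a', ha'⟩ : ∃ a', a' = prj d d' a := ⟨_, rfl⟩
  have ha'd : sympForm m F a' d = 0 := by rw [ha']; exact prj_perp1 hc a
  have ha'd' : sympForm m F a' d' = 0 := by rw [ha']; exact prj_perp2 h2 hc a
  have hap : ∀ p, sympForm m F p d = 0 → sympForm m F p d' = 0 →
      sympForm m F a p = sympForm m F a' p := by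
    intro p hpd hpd'
    rw [sympForm_swap (u := a) (v := p), sympForm_swap (u := a') (v := p), ha', symp_prj hpd hpd']
  by_cases ha'0 : a' = 0
  · -- `a ∈ ⟨d,d'⟩`
    have hβ : ∃ β : F, β * sympForm m F a d + u * sympForm m F a d' ≠ 0 := by
      by_cases h5 : sympForm m F a d = 0
      · have h6 : sympForm m F a d' ≠ 0 := by
          intro h6
          apply ha
          have h7 : prj d d' a = 0 := by rw [← ha']; exact ha'0
          unfold prj at h7
          rw [h5, h6] at h7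
          simpa using h7
        exact ⟨0, by rw [zero_mul, zero_add]; exact mul_ne_zero hu0 h6⟩
      · by_cases h6 : u * sympForm m F a d' = 0
        · exact ⟨1, by rw [one_mul, h6, add_zero]; exact h5⟩
        · exact ⟨0, by rw [zero_mul, zero_add]; exact h6⟩
    obtain ⟨β, hβ⟩ := hβ
    obtain ⟨p, hp1, hp2, hp3⟩ := rep2 h2 hQ hsq hm d d' hc
      (Q a + β ^ 2 * Q d + u ^ 2 * Q d' + β * u)
    refine key β p hp1 hp2 hp3 ?_
    rw [hap p hp1 hp2, ha'0, sympForm_zero_left]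
    exact fun h => hβ h.symm
  · -- `a' ≠ 0`
    obtain ⟨β, -, hβ⟩ := exists_nonroot h4 (Q a + u ^ 2 * Q d') u (Q d) hu0
    obtain ⟨s, hs⟩ : ∃ s, s = Q a + β ^ 2 * Q d + u ^ 2 * Q d' + β * u := ⟨_, rfl⟩
    have hs0 : s ≠ 0 := by
      rw [hs]
      intro h
      apply hβ
      linear_combination h
    obtain ⟨p₀, hp1, hp2, hp3⟩ := rep2 h2 hQ hsq hm d d' hc s
    have hp₀0 : p₀ ≠ 0 := by
      rintro rfl
      rw [hQ.zero] at hp3
      exact hs0 hp3.symm
    by_cases hgood : sympForm m F a p₀ ≠ β * sympForm m F a d + u * sympForm m F a d'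
    · exact key β p₀ hp1 hp2 (by rw [hp3, hs]) hgood
    · push Not at hgood
      -- a vector `y ⟂ d, d'` with `Q y ≠ 0`, `f(p₀,y) ≠ 0`, `f(a',y) ≠ 0`
      have hy : ∃ y, sympForm m F y d = 0 ∧ sympForm m F y d' = 0 ∧ Q y ≠ 0 ∧
          sympForm m F p₀ y ≠ 0 ∧ sympForm m F a' y ≠ 0 := by
        by_cases hc' : sympForm m F p₀ a' = 0
        · obtain ⟨a₀, h5, h6⟩ := exists_both_ne_symp a' p₀ ha'0 hp₀0
          obtain ⟨as, has⟩ : ∃ as, as = prj d d' a₀ := ⟨_, rfl⟩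
          have hasd : sympForm m F as d = 0 := by rw [has]; exact prj_perp1 hc a₀
          have hasd' : sympForm m F as d' = 0 := by rw [has]; exact prj_perp2 h2 hc a₀
          have h5' : sympForm m F a' as ≠ 0 := by rw [has, symp_prj ha'd ha'd']; exact h5
          have h6' : sympForm m F p₀ as ≠ 0 := by rw [has, symp_prj hp1 hp2]; exact h6
          have h7 : sympForm m F as a' ≠ 0 := by
            rw [sympForm_swap]; exact neg_ne_zero.mpr h5'
          obtain ⟨z, -, hz⟩ := exists_nonroot h4 (Q as) (sympForm m F as a') (Q a') h7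
          refine ⟨as + z • a', ?_, ?_, ?_, ?_, ?_⟩
          · rw [sympForm_add_left, sympForm_smul_left, hasd, ha'd, mul_zero, add_zero]
          · rw [sympForm_add_left, sympForm_smul_left, hasd', ha'd', mul_zero, add_zero]
          · rw [hQ.pol, hQ.smul, sympForm_smul_right]
            intro h
            apply hz
            linear_combination h
          · rw [sympForm_add_right, sympForm_smul_right, hc', mul_zero, add_zero]; exact h6'
          · rw [sympForm_add_right, sympForm_smul_right, sympForm_self, mul_zero, add_zero]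
            exact h5'
        · obtain ⟨z, hz0, hz⟩ := exists_nonroot h4 s (sympForm m F p₀ a') (Q a') hc'
          refine ⟨p₀ + z • a', ?_, ?_, ?_, ?_, ?_⟩
          · rw [sympForm_add_left, sympForm_smul_left, hp1, ha'd, mul_zero, add_zero]
          · rw [sympForm_add_left, sympForm_smul_left, hp2, ha'd', mul_zero, add_zero]
          · rw [hQ.pol, hQ.smul, sympForm_smul_right, hp3]
            intro h
            apply hz
            linear_combination h
          · rw [sympForm_add_right, sympForm_smul_right, sympForm_self, zero_add]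
            exact mul_ne_zero hz0 hc'
          · rw [sympForm_add_right, sympForm_smul_right, sympForm_self, mul_zero, add_zero,
              sympForm_swap]
            exact neg_ne_zero.mpr hc'
      obtain ⟨y, hyd, hyd', hQy, hp₀y, ha'y⟩ := hy
      obtain ⟨p', hp'⟩ : ∃ p', p' = p₀ + (sympForm m F p₀ y / Q y) • y := ⟨_, rfl⟩
      have hp'd : sympForm m F p' d = 0 := by
        rw [hp', sympForm_add_left, sympForm_smul_left, hp1, hyd, mul_zero, add_zero]
      have hp'd' : sympForm m F p' d' = 0 := by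
        rw [hp', sympForm_add_left, sympForm_smul_left, hp2, hyd', mul_zero, add_zero]
      have hQp' : Q p' = s := by
        rw [hp', hQ.pol, hQ.smul, sympForm_smul_right, hp3]
        have e1 : (sympForm m F p₀ y / Q y) ^ 2 * Q y = sympForm m F p₀ y ^ 2 / Q y := by
          field_simp
        have e2 : sympForm m F p₀ y / Q y * sympForm m F p₀ y = sympForm m F p₀ y ^ 2 / Q y := by
          field_simp
        rw [e1, e2, add_assoc, add_self2 h2, add_zero]
      refine key β p' hp'd hp'd' (by rw [hQp', hs]) ?_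
      rw [hap p' hp'd hp'd', hp', sympForm_add_right, sympForm_smul_right, ← hap p₀ hp1 hp2, hgood]
      intro h
      have h5 : sympForm m F p₀ y / Q y * sympForm m F a' y = 0 := by
        linear_combination h
      exact (mul_ne_zero (div_ne_zero hp₀y hQy) ha'y) h5

lemma all_mem_low (h2 : (2 : F) = 0) (hsq : ∀ x : F, ∃ y, y ^ 2 = x) (hm : 2 ≤ m)
    (h4 : 4 ≤ Fintype.card F) (hQ : QF Q)
    {M : Subgroup (GL (Fin m ⊕ Fin m) F)} (hMS : M ≤ spGL m F)
    (hHM : Geo.quadSimilarityGroup Q ⊓ spGL m F ≤ M) {g : GL (Fin m ⊕ Fin m) F} (hgM : g ∈ M)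
    (hg : g ∉ Geo.quadSimilarityGroup Q) : ∀ a, a ∈ Sset M := by
  have hgS := hMS hgM
  have hgiS : g⁻¹ ∈ spGL m F := (spGL m F).inv_mem hgS
  obtain ⟨Q', hQ'def⟩ : ∃ Q' : (Fin m ⊕ Fin m → F) → F, Q' = fun v =>
      Q (((g⁻¹ : GL (Fin m ⊕ Fin m) F) : Matrix (Fin m ⊕ Fin m) (Fin m ⊕ Fin m) F) *ᵥ v) :=
    ⟨_, rfl⟩
  have hQ'eq : ∀ v, Q' v =
      Q (((g⁻¹ : GL (Fin m ⊕ Fin m) F) : Matrix (Fin m ⊕ Fin m) (Fin m ⊕ Fin m) F) *ᵥ v) :=
    fun v => by rw [hQ'def]
  have hQ' : QF Q' := by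
    constructor
    · intro c v; rw [hQ'eq, hQ'eq, Matrix.mulVec_smul, hQ.smul]
    · intro u v; rw [hQ'eq, hQ'eq, hQ'eq, Matrix.mulVec_add, hQ.pol, mem_spGL.mp hgiS]
  obtain ⟨d, hd⟩ := exists_d h2 hsq hQ hQ'
  have hd0 : d ≠ 0 := by
    rintro rfl
    apply hg
    have h3 : g⁻¹ ∈ Geo.quadSimilarityGroup Q := mem_qsim.mpr ⟨1, fun v => by
      rw [Units.val_one, one_mul, ← hQ'eq, hd, sympForm_zero_right]; ring⟩
    have h4' := (Geo.quadSimilarityGroup Q).inv_mem h3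
    rwa [inv_inv] at h4'
  intro a
  by_cases ha : a = 0
  · rw [ha]; exact zero_mem_Sset M
  intro c
  by_cases hc : c = 0
  · rw [hc, tvc_zero_coeff]; exact M.one_mem
  by_cases hcs : 1 / c = Q a
  · have hQa : Q a ≠ 0 := by rw [← hcs]; exact one_div_ne_zero hc
    have := hHM (refl_mem h2 hQ hQa)
    rwa [← hcs, one_div_one_div] at this
  · obtain ⟨b, hb1, hb2, hb3⟩ := exists_b_low h2 hsq hm h4 hQ hd0 hd ha (δ := 1 / c - Q a)
      (sub_ne_zero.mpr hcs)
    have hb2' : Q' b = 1 / c := by rw [hb2]; ring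
    have hbM : tvc b c ∈ M := by
      have hne : Q (((g⁻¹ : GL (Fin m ⊕ Fin m) F) :
          Matrix (Fin m ⊕ Fin m) (Fin m ⊕ Fin m) F) *ᵥ b) ≠ 0 := by
        rw [← hQ'eq, hb2']; exact one_div_ne_zero hc
      have h3 := hHM (refl_mem h2 hQ hne)
      rw [← hQ'eq, hb2', one_div_one_div] at h3
      have h4' := M.mul_mem (M.mul_mem hgM h3) (M.inv_mem hgM)
      rwa [conj_tvc hgS, mul_inv_mulVec] at h4'
    obtain ⟨hr, hrb⟩ := refl_map h2 hQ hb1.symm hb3
    have h5 := M.mul_mem (M.mul_mem (hHM hr) hbM) (M.inv_mem (hHM hr))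
    rwa [conj_tvc hr.2, hrb] at h5

/-- `O_{2m}^±(q) < Sp_{2m}(q)` is maximal for `q ≥ 4` even and ALL `2 ≤ m` -/
theorem quad_max_low (m : ℕ) (hm : 2 ≤ m) (heven : ¬ Odd (Fintype.card F))
    (h4 : 4 ≤ Fintype.card F) (Q : (Fin m ⊕ Fin m → F) → F)
    (hQ : Geo.IsNondegenerateQuadraticForm Q)
    (hpol : ∀ u v, QuadraticMap.polar Q u v = sympForm m F u v) :
    Geo.IsMaximalIn (spGL m F) (Geo.quadSimilarityGroup Q ⊓ spGL m F) := by
  have hchar : ringChar F = 2 :=
    FiniteField.even_card_iff_char_two.mpr (Nat.even_iff.mp (Nat.not_odd_iff_even.mp heven))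
  have h2 : (2 : F) = 0 := by
    have := ringChar.of_eq hchar
    have := CharP.cast_eq_zero F 2
    exact_mod_cast this
  have hsq : ∀ x : F, ∃ y, y ^ 2 = x := fun x => by
    obtain ⟨r, hr⟩ := FiniteField.isSquare_of_char_two hchar x
    exact ⟨r, by rw [pow_two]; exact hr.symm⟩
  have hQF : QF Q := ⟨hQ.smul, fun u v => by
    have := hpol u v
    rw [QuadraticMap.polar] at this
    rw [← this]; ring⟩
  refine ⟨lt_of_le_of_ne inf_le_right ?_, ?_⟩
  · intro hEq
    -- a vector `a₁` with `Q a₁ = 1`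
    obtain ⟨x₀, hx₀0, -, -⟩ := exists_perp_ne_zero (F := F) hm (0 : Fin m ⊕ Fin m → F) 0
    obtain ⟨y₀, hy₀⟩ := sympForm_nondeg x₀ hx₀0
    obtain ⟨a₁, -, -, ha₁⟩ := rep2 h2 hQF hsq hm x₀ y₀ hy₀ 1
    have ha₁0 : a₁ ≠ 0 := by
      rintro rfl
      rw [hQF.zero] at ha₁
      exact zero_ne_one ha₁
    obtain ⟨b₀, hb₀⟩ := sympForm_nondeg a₁ ha₁0
    obtain ⟨w, hw1, hw2, hw4⟩ := rep2 h2 hQF hsq hm a₁ b₀ hb₀ 1
    have hz : Q (a₁ + w) = 0 := by
      rw [hQF.pol, ha₁, hw4, sympForm_swap, hw1, neg_zero, add_zero, one_add_one_eq_two, h2]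
    have hzb : sympForm m F (a₁ + w) b₀ ≠ 0 := by
      rw [sympForm_add_left, hw2, add_zero]; exact hb₀
    have hT : tvc (a₁ + w) 1 ∈ Geo.quadSimilarityGroup Q ⊓ spGL m F := by
      rw [hEq]; exact tvc_mem _ _
    obtain ⟨c, hc⟩ := mem_qsim.mp hT.1
    have hc1 : (c : F) = 1 := sim_eq_one hQF hT.2 hc hzb
    have h3 := hc b₀
    rw [hQF.tvc, hz, hc1, one_mul] at h3
    have h4' : sympForm m F b₀ (a₁ + w) ^ 2 = 0 := by linear_combination h3
    have h5 : sympForm m F b₀ (a₁ + w) = 0 := (pow_eq_zero_iff (two_ne_zero)).mp h4'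
    apply hzb
    rw [sympForm_swap, h5, neg_zero]
  · intro M hHM hMS
    by_cases hMH : M = Geo.quadSimilarityGroup Q ⊓ spGL m F
    · left; exact hMH
    right
    apply le_antisymm hMS
    obtain ⟨g, hgM, hgH⟩ := SetLike.exists_of_lt (lt_of_le_of_ne hHM (Ne.symm hMH))
    have hg : g ∉ Geo.quadSimilarityGroup Q := fun h => hgH ⟨h, hMS hgM⟩
    exact le_of_forall_mem_Sset M (all_mem_low h2 hsq hm h4 hQF hMS hHM hgM hg)

/-- **Q4** (leaf of S5789) -/
theorem quad_max4 (heven : ¬ Odd (Fintype.card F)) (h4 : 4 ≤ Fintype.card F)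
    (Q : (Fin 2 ⊕ Fin 2 → F) → F) (hQ : Cfsg.Geo.IsNondegenerateQuadraticForm Q)
    (hpol : ∀ u v : (Fin 2 ⊕ Fin 2 → F), QuadraticMap.polar Q u v = (Cfsg.sympForm 2 F) u v) :
    Cfsg.Geo.IsMaximalIn (Cfsg.spGL 2 F) (Cfsg.Geo.quadSimilarityGroup Q ⊓ Cfsg.spGL 2 F) :=
  quad_max_low 2 le_rfl heven h4 Q hQ hpol

end Main

end Cfsg.Agent.Lib.Helper22.Sp4ELeaf
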