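import Mathlib
import Cfsg.Prelude.Def_LocalEven
import Cfsg.Prelude.Def_Local
import Cfsg.Agent.Lib.Helper16.SFDefs

/-! helper22: S2752 market "SF", leaf redBeta in `_of` form: the leaves `exists_compl_ea`, `diag`, `qs_image`, `autq`
enter as hypotheses (instantiated at the objects of the proof); the exact leaf is in `SFredBeta`. -/

set_option autoImplicit false
universe u
open Cfsg Cfsg.Agent.Lib.Helper16.SF

namespace Cfsg.Agent.Lib.Helper22.SFredBetaOf

variable {H : Type u} [Group H]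

/-- a subgroup of an elementary abelian `2`-group is elementary abelian -/
theorem ea_of_le' {A B : Subgroup H} (hAe : Cfsg.IsElementaryAbelian 2 A) (hBA : B ≤ A) :
    Cfsg.IsElementaryAbelian 2 B := by
  refine ⟨⟨⟨fun x y => ?_⟩⟩, fun b hb => hAe.2 b (hBA hb)⟩
  have := hAe.1.is_comm.comm ⟨x.1, hBA x.2⟩ ⟨y.1, hBA y.2⟩
  exact Subtype.ext (by simpa using congrArg Subtype.val this)

theorem ea_comm' {A : Subgroup H} (hAe : Cfsg.IsElementaryAbelian 2 A) {x y : H} (hx : x ∈ A)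
    (hy : y ∈ A) : x * y = y * x := by
  have := hAe.1.is_comm.comm ⟨x, hx⟩ ⟨y, hy⟩
  simpa using congrArg Subtype.val this

/-- **redBeta**, over `exists_compl_ea`, `diag`, `qs_image`, `autq` -/
theorem redBeta_of (A : Subgroup H) (hAe : Cfsg.IsElementaryAbelian 2 A) (K : Subgroup H)
    (hcompl : ∀ B : Subgroup H, B ≤ A → ∃ C : Subgroup H, C ≤ A ∧ C ⊓ B = ⊥ ∧ C ⊔ B = A)
    (hdiag : ∀ C : Subgroup H, Cfsg.IsElementaryAbelian 2 C →
      C ⊓ Subgroup.normalizer (K : Set H) = ⊥ →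
      ∃ δ : ↥K →* H,
        (∀ c ∈ C, ∀ y : ↥K, c * δ y = δ y * c) ∧
        (∀ g : H, (∀ c ∈ C, g * c = c * g) → ∀ y z : ↥K, g * (y : H) * g⁻¹ = (z : H) →
          g * δ y * g⁻¹ = δ z) ∧
        δ.ker ≤ Subgroup.center ↥K)
    (hqs : ∀ (R : Subgroup H) (f : ↥K →* ↥R), Function.Surjective f →
      f.ker ≤ Subgroup.center ↥K →
      Cfsg.IsQuasisimple ↥R ∧ Nonempty (↥K ⧸ Subgroup.center ↥K ≃* ↥R ⧸ Subgroup.center ↥R) ∧
        Subgroup.center ↥R = (Subgroup.center ↥K).map f)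
    (hautq : ∀ β : MulAut ↥K, (∀ x : ↥K, x⁻¹ * β x ∈ Subgroup.center ↥K) → β = 1)
    (hβ : ¬ A ⊓ Subgroup.normalizer (K : Set H) ≤ Subgroup.centralizer (K : Set H)) :
    ∃ K' : Subgroup H, Cfsg.IsQuasisimple ↥K' ∧
      Nonempty (↥K ⧸ Subgroup.center ↥K ≃* ↥K' ⧸ Subgroup.center ↥K') ∧
      Nat.card ↥(Subgroup.center ↥K') ∣ Nat.card ↥(Subgroup.center ↥K) ∧
      A ≤ Subgroup.normalizer (K' : Set H) ∧ ¬ A ≤ Subgroup.centralizer (K' : Set H) := by
  classical
  obtain ⟨C, hCA, hCN, hCsup⟩ := hcompl (A ⊓ Subgroup.normalizer (K : Set H)) inf_le_left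
  have hCe : Cfsg.IsElementaryAbelian 2 C := ea_of_le' hAe hCA
  have hCK : C ⊓ Subgroup.normalizer (K : Set H) = ⊥ := by
    rw [eq_bot_iff]
    intro c hc
    rw [← hCN]
    exact ⟨hc.1, hCA hc.1, hc.2⟩
  obtain ⟨δ, hd1, hd2, hd3⟩ := hdiag C hCe hCK
  obtain ⟨hq1, hq2, hq3⟩ := hqs δ.range δ.rangeRestrict δ.rangeRestrict_surjective
    (by rw [MonoidHom.ker_rangeRestrict]; exact hd3)
  -- elements of `N_A(K)` act on `δ.range` through `δ`
  have hN : ∀ n ∈ A ⊓ Subgroup.normalizer (K : Set H), ∀ y : ↥K,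
      ∃ z : ↥K, n * (y : H) * n⁻¹ = (z : H) ∧ n * δ y * n⁻¹ = δ z := by
    intro n hn y
    have hz : n * (y : H) * n⁻¹ ∈ K := (Subgroup.mem_normalizer_iff.mp hn.2 (y : H)).mp y.2
    refine ⟨⟨_, hz⟩, rfl, ?_⟩
    exact hd2 n (fun c hc => ea_comm' hAe hn.1 (hCA hc)) y ⟨_, hz⟩ rfl
  refine ⟨δ.range, hq1, hq2, ?_, ?_, ?_⟩
  · rw [hq3]
    exact Subgroup.card_map_dvd _ _
  · -- `A = C ⊔ N_A(K)` normalizes `δ.range`
    rw [← hCsup]
    apply sup_le
    · intro c hc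
      rw [Subgroup.mem_normalizer_iff]
      intro h
      constructor
      · rintro ⟨y, rfl⟩
        refine ⟨y, ?_⟩
        rw [hd1 c hc y]
        group
      · rintro ⟨y, hy⟩
        refine ⟨y, ?_⟩
        have h1 : h = c⁻¹ * (c * h * c⁻¹) * c := by group
        rw [h1, ← hy]
        have h2 := hd1 c hc y
        calc δ y = c⁻¹ * (c * δ y) := by group
          _ = c⁻¹ * (δ y * c) := by rw [h2]
          _ = c⁻¹ * δ y * c := by group
    · intro n hn
      have hn' : n⁻¹ ∈ A ⊓ Subgroup.normalizer (K : Set H) := Subgroup.inv_mem _ hn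
      rw [Subgroup.mem_normalizer_iff]
      intro h
      constructor
      · rintro ⟨y, rfl⟩
        obtain ⟨z, -, hz⟩ := hN n hn y
        exact ⟨z, hz.symm⟩
      · rintro ⟨y, hy⟩
        obtain ⟨z, -, hz⟩ := hN n⁻¹ hn' y
        refine ⟨z, ?_⟩
        rw [← hz, hy]
        group
  · -- some `b ∈ N_A(K)` does not centralize `δ.range`
    intro hcen
    apply hβ
    intro b hb
    have hbN : b ∈ Subgroup.normalizer (K : Set H) := hb.2
    set β : MulAut ↥K := K.normalizerMonoidHom ⟨b, hbN⟩ with hβdef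
    have hβv : ∀ y : ↥K, ((β y : ↥K) : H) = b * (y : H) * b⁻¹ := fun y => rfl
    have hβ1 : β = 1 := by
      apply hautq
      intro y
      apply hd3
      rw [MonoidHom.mem_ker, map_mul, map_inv]
      obtain ⟨z, hz1, hz2⟩ := hN b hb y
      have hzβ : z = β y := Subtype.ext (by rw [hβv, ← hz1])
      rw [← hzβ, ← hz2]
      have hc := (Subgroup.mem_centralizer_iff.mp (hcen hb.1)) (δ y) ⟨y, rfl⟩
      -- `δ y * b = b * δ y`
      calc (δ y)⁻¹ * (b * δ y * b⁻¹) = (δ y)⁻¹ * (δ y * b * b⁻¹) := by rw [hc]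
        _ = 1 := by group
    rw [Subgroup.mem_centralizer_iff]
    intro k hk
    have h1 := hβv ⟨k, hk⟩
    rw [hβ1] at h1
    have h2 : k = b * k * b⁻¹ := h1
    calc k * b = b * k * b⁻¹ * b := by rw [← h2]
      _ = b * k := by group

end Cfsg.Agent.Lib.Helper22.SFredBetaOf
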