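import Mathlib
import Cfsg.Statements.S2752
import Cfsg.Agent.Lib.Helper16.SFDefs
import Cfsg.Agent.Lib.Helper8.ThTwoA
import Cfsg.Agent.Lib.Helper8.ThTwoE
import Cfsg.Agent.Lib.Helper8.FStar
import Cfsg.Agent.Lib.Helper9.Components
import Cfsg.Agent.Lib.Helper4.SFexists_compl_ea
import Cfsg.Agent.Lib.Helper17.SFautq
import Cfsg.Agent.Lib.Helper17.SFqs_odd
import Cfsg.Agent.Lib.Helper17.SFqs_image
import Cfsg.Agent.Lib.Helper22.SFredBetaOf
import Cfsg.Agent.Lib.Helper22.SFredAlphaOf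

/-! helper22: S2752 market "SF", leaves redBeta / redAlpha over the statement of leaf `diag` only (the landed leaves
`exists_compl_ea`, `autq`, `qs_odd`, `qs_image` and the commuting of distinct components are wired in). -/

set_option autoImplicit false
universe u v
open Cfsg Cfsg.Agent.Lib.Helper16.SF Cfsg.Agent.Lib.Helper8.ThTwo

namespace Cfsg.Agent.Lib.Helper22.SFredOfDiag

section grp
variable {H : Type u} [Group H] [Finite H]

/-- the statement of leaf `diag` -/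
def Diag (H : Type u) [Group H] : Prop :=
  ∀ (K : Subgroup H) (_ : Cfsg.IsComponent K) (C : Subgroup H)
    (_ : Cfsg.IsElementaryAbelian 2 C) (_ : C ⊓ Subgroup.normalizer (K : Set H) = ⊥),
    ∃ δ : ↥K →* H,
      (∀ c ∈ C, ∀ y : ↥K, c * δ y = δ y * c) ∧
      (∀ g : H, (∀ c ∈ C, g * c = c * g) → ∀ y z : ↥K, g * (y : H) * g⁻¹ = (z : H) →
        g * δ y * g⁻¹ = δ z) ∧
      δ.ker ≤ Subgroup.center ↥K ∧
      (∀ y : ↥K, δ y ∈ ⨆ c : ↥C, K.map (MulAut.conj (c : H)).toMonoidHom) ∧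
      (∀ y : ↥K, ∃ r : H, δ y = (y : H) * r ∧ ∀ k ∈ K, r * k = k * r)

omit [Finite H] in
/-- a conjugate `K^g ≠ K` of a component commutes elementwise with `K` -/
theorem conj_comm (K : Subgroup H) (hK : Cfsg.IsComponent K) (g : H)
    (hg : g ∉ Subgroup.normalizer (K : Set H)) (k : H) (hk : k ∈ K) (k' : H) (hk' : k' ∈ K) :
    (g * k * g⁻¹) * k' = k' * (g * k * g⁻¹) := by
  have hKg := Cfsg.Agent.Lib.Helper8.isComponent_map_conj hK g
  have hne : K.map (MulAut.conj g).toMonoidHom ≠ K := by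
    intro h
    apply hg
    rw [Subgroup.mem_normalizer_iff]
    intro h'
    constructor
    · intro hh
      rw [← h]
      exact ⟨h', hh, rfl⟩
    · intro hh
      rw [← h] at hh
      obtain ⟨k2, hk2, hk2e⟩ := hh
      have : k2 = h' := by
        have h3 : g * k2 * g⁻¹ = g * h' * g⁻¹ := hk2e
        have h4 : g⁻¹ * (g * k2 * g⁻¹) * g = g⁻¹ * (g * h' * g⁻¹) * g := by rw [h3]
        have e1 : g⁻¹ * (g * k2 * g⁻¹) * g = k2 := by group
        have e2 : g⁻¹ * (g * h' * g⁻¹) * g = h' := by group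
        rw [e1, e2] at h4
        exact h4
      rw [← this]; exact hk2
  have hcomm := Cfsg.Agent.Lib.Helper9.components_commute _ _ hKg hK hne
  rw [Subgroup.commutator_eq_bot_iff_le_centralizer] at hcomm
  have h1 : g * k * g⁻¹ ∈ K.map (MulAut.conj g).toMonoidHom := ⟨k, hk, rfl⟩
  exact ((Subgroup.mem_centralizer_iff.mp (hcomm h1)) k' hk').symm

/-- **redBeta** over `diag` -/
theorem redBeta_ofDiag (hD : Diag H) (A : Subgroup H) (hAe : Cfsg.IsElementaryAbelian 2 A)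
    (K : Subgroup H) (hK : Cfsg.IsComponent K)
    (hβ : ¬ A ⊓ Subgroup.normalizer (K : Set H) ≤ Subgroup.centralizer (K : Set H)) :
    ∃ K' : Subgroup H, Cfsg.IsQuasisimple ↥K' ∧
      Nonempty (↥K ⧸ Subgroup.center ↥K ≃* ↥K' ⧸ Subgroup.center ↥K') ∧
      Nat.card ↥(Subgroup.center ↥K') ∣ Nat.card ↥(Subgroup.center ↥K) ∧
      A ≤ Subgroup.normalizer (K' : Set H) ∧ ¬ A ≤ Subgroup.centralizer (K' : Set H) := by
  have : Group.IsPerfect ↥K := hK.2.1
  refine Cfsg.Agent.Lib.Helper22.SFredBetaOf.redBeta_of A hAe K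
    (fun B hBA => Cfsg.Agent.Lib.Helper4.SFLeaf.exists_compl_ea 2 A B hAe hBA)
    (fun C hCe hCK => ?_)
    (fun R f hf hker => Cfsg.Agent.Lib.Helper17.SFLeaf.qs_image hK.2 f hf hker)
    (fun β h => Cfsg.Agent.Lib.Helper17.SFLeaf.autq β h) hβ
  obtain ⟨δ, h1, h2, h3, -, -⟩ := hD K hK C hCe hCK
  exact ⟨δ, h1, h2, h3⟩

/-- **redAlpha** over `diag` -/
theorem redAlpha_ofDiag (hD : Diag H) (A : Subgroup H) (hAe : Cfsg.IsElementaryAbelian 2 A)
    (K : Subgroup H) (hK : Cfsg.IsComponent K) (hAK : ¬ K ≤ Subgroup.centralizer (A : Set H))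
    (hα : A ⊓ Subgroup.normalizer (K : Set H) ≤ Subgroup.centralizer (K : Set H)) : ConfD A :=
  Cfsg.Agent.Lib.Helper22.SFredAlphaOf.redAlpha_of A hAe K
    (fun B hBA => Cfsg.Agent.Lib.Helper4.SFLeaf.exists_compl_ea 2 A B hAe hBA)
    (fun C hCe hCK => hD K hK C hCe hCK)
    (Cfsg.Agent.Lib.Helper17.SFLeaf.qs_odd hK.2)
    (fun g hg k hk k' hk' => conj_comm K hK g hg k hk k' hk') hAK hα

end grp

end Cfsg.Agent.Lib.Helper22.SFredOfDiag
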