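import Mathlib
import Cfsg.Statements.S2752
import Cfsg.Agent.Lib.Helper16.SFDefs
import Cfsg.Agent.Lib.Helper8.ThTwoA
import Cfsg.Agent.Lib.Helper8.ThTwoE
import Cfsg.Agent.Lib.Helper4.SFdiag
import Cfsg.Agent.Lib.Helper22.SFredOfDiag

/-! helper22: S2752 market "SF", leaf redAlpha (exact statement; proof in `SFredOfDiag` / `SFredAlphaOf`, over helper4's
`diag` + `exists_compl_ea`, helper17's `autq` / `qs_odd` / `qs_image`). -/

set_option autoImplicit false
universe u v
open Cfsg Cfsg.Agent.Lib.Helper16.SF Cfsg.Agent.Lib.Helper8.ThTwo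

namespace Cfsg.Agent.Lib.Helper22.SFLeaf

section grp
variable {H : Type u} [Group H] [Finite H]

/-- **redAlpha** -/
theorem redAlpha (A : Subgroup H) (hAe : Cfsg.IsElementaryAbelian 2 A) (K : Subgroup H)
    (hK : Cfsg.IsComponent K) (hAK : ¬ K ≤ Subgroup.centralizer (A : Set H))
    (hα : A ⊓ Subgroup.normalizer (K : Set H) ≤ Subgroup.centralizer (K : Set H)) : ConfD A :=
  Cfsg.Agent.Lib.Helper22.SFredOfDiag.redAlpha_ofDiag
    (fun K hK C hC hCK => Cfsg.Agent.Lib.Helper4.SFLeaf.diag K hK C hC hCK) A hAe K hK hAK hα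

end grp

end Cfsg.Agent.Lib.Helper22.SFLeaf
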