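import Mathlib
set_option autoImplicit false
set_option linter.unusedSectionVars false
namespace Cfsg.Agent.Lib.Helper22.PiClasses

variable {G : Type*} [Group G]

/-- `x` is a `π`-element: all prime divisors of its order lie in `π`. -/
def IsPi (π : Set ℕ) (x : G) : Prop := ∀ q : ℕ, q.Prime → q ∣ orderOf x → q ∈ π

/-- the class predicate of the statement -/
def PiClass (π : Set ℕ) (C : ConjClasses G) : Prop :=
  ∀ q : ℕ, q.Prime → (∃ g : G, ConjClasses.mk g = C ∧ q ∣ orderOf g) → q ∈ π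

theorem isPi_one (π : Set ℕ) : IsPi π (1 : G) := by
  intro q hq hd
  rw [orderOf_one] at hd
  exact absurd (Nat.dvd_one.1 hd) hq.ne_one

theorem IsPi.inv {π : Set ℕ} {x : G} (h : IsPi π x) : IsPi π x⁻¹ := by
  intro q hq hd
  rw [orderOf_inv] at hd
  exact h q hq hd

theorem IsPi.mul {π : Set ℕ} {x y : G} (hx : IsPi π x) (hy : IsPi π y) (hc : Commute x y) :
    IsPi π (x * y) := by
  intro q hq hd
  have h1 := hd.trans hc.orderOf_mul_dvd_lcm
  have h2 : q ∣ orderOf x * orderOf y := h1.trans (Nat.lcm_dvd_mul _ _)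
  rcases (Nat.Prime.dvd_mul hq).1 h2 with h | h
  · exact hx q hq h
  · exact hy q hq h

theorem IsPi.of_dvd {π : Set ℕ} {H : Type*} [Group H] {x : G} {y : H} (hx : IsPi π x)
    (h : orderOf y ∣ orderOf x) : IsPi π y :=
  fun q hq hd => hx q hq (hd.trans h)

theorem IsPi.of_mem_zpowers {π : Set ℕ} {x y : G} (hx : IsPi π x)
    (h : y ∈ Subgroup.zpowers x) : IsPi π y :=
  hx.of_dvd (orderOf_dvd_of_mem_zpowers h)

theorem eq_one_of_isPi_of_isPi_compl {π : Set ℕ} {x : G} (h1 : IsPi π x) (h2 : IsPi πᶜ x) :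
    x = 1 := by
  rw [← orderOf_eq_one_iff]
  by_contra hne
  obtain ⟨q, hq, hd⟩ := Nat.exists_prime_and_dvd hne
  exact h2 q hq hd (h1 q hq hd)

/-- splitting a positive integer into its `π`- and `π'`-parts -/
theorem exists_pi_split (π : Set ℕ) (n : ℕ) (hn : n ≠ 0) :
    ∃ a b : ℕ, a * b = n ∧ Nat.Coprime a b ∧ (∀ q : ℕ, q.Prime → q ∣ a → q ∈ π) ∧
      (∀ q : ℕ, q.Prime → q ∣ b → q ∉ π) := by
  induction n using Nat.recOnPrimeCoprime with
  | zero => exact absurd rfl hn
  | prime_pow p k hp =>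
    by_cases hpi : p ∈ π
    · refine ⟨p ^ k, 1, mul_one _, Nat.coprime_one_right _, ?_, ?_⟩
      · intro q hq hd
        have := (Nat.prime_dvd_prime_iff_eq hq hp).1 (hq.dvd_of_dvd_pow hd)
        rw [this]; exact hpi
      · intro q hq hd
        exact absurd (Nat.dvd_one.1 hd) hq.ne_one
    · refine ⟨1, p ^ k, one_mul _, Nat.coprime_one_left _, ?_, ?_⟩
      · intro q hq hd
        exact absurd (Nat.dvd_one.1 hd) hq.ne_one
      · intro q hq hd
        have := (Nat.prime_dvd_prime_iff_eq hq hp).1 (hq.dvd_of_dvd_pow hd)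
        rw [this]; exact hpi
  | coprime m n hm hn' hmn ihm ihn =>
    obtain ⟨a1, b1, h1, hc1, hp1, hq1⟩ := ihm (by omega)
    obtain ⟨a2, b2, h2, hc2, hp2, hq2⟩ := ihn (by omega)
    refine ⟨a1 * a2, b1 * b2, by rw [← h1, ← h2]; ring, ?_, ?_, ?_⟩
    · have ha1 : a1 ∣ m := ⟨b1, h1.symm⟩
      have hb1 : b1 ∣ m := ⟨a1, by rw [← h1, mul_comm]⟩
      have ha2 : a2 ∣ n := ⟨b2, h2.symm⟩
      have hb2 : b2 ∣ n := ⟨a2, by rw [← h2, mul_comm]⟩
      apply Nat.Coprime.mul_left
      · apply Nat.Coprime.mul_right hc1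
        exact Nat.Coprime.coprime_dvd_left ha1 (Nat.Coprime.coprime_dvd_right hb2 hmn)
      · apply Nat.Coprime.mul_right _ hc2
        exact Nat.Coprime.coprime_dvd_left ha2 (Nat.Coprime.coprime_dvd_right hb1 hmn.symm)
    · intro q hq hd
      rcases (Nat.Prime.dvd_mul hq).1 hd with h | h
      · exact hp1 q hq h
      · exact hp2 q hq h
    · intro q hq hd
      rcases (Nat.Prime.dvd_mul hq).1 hd with h | h
      · exact hq1 q hq h
      · exact hq2 q hq h

/-- existence of the `π`-decomposition of an element of finite order -/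
theorem exists_pi_decomp (π : Set ℕ) (x : G) (hx : IsOfFinOrder x) :
    ∃ s u : G, s ∈ Subgroup.zpowers x ∧ u ∈ Subgroup.zpowers x ∧ IsPi π s ∧ IsPi πᶜ u ∧
      s * u = x := by
  obtain ⟨a, b, hab, hc, ha, hb⟩ := exists_pi_split π (orderOf x) hx.orderOf_pos.ne'
  have hbez : (a : ℤ) * Nat.gcdA a b + (b : ℤ) * Nat.gcdB a b = 1 := by
    have := Nat.gcd_eq_gcd_ab a b
    rw [hc.gcd_eq_one] at this
    exact_mod_cast this.symm
  refine ⟨x ^ ((b : ℤ) * Nat.gcdB a b), x ^ ((a : ℤ) * Nat.gcdA a b),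
    ⟨_, rfl⟩, ⟨_, rfl⟩, ?_, ?_, ?_⟩
  · have h1 : (x ^ ((b : ℤ) * Nat.gcdB a b)) ^ a = 1 := by
      rw [← zpow_natCast, ← zpow_mul]
      have : (b : ℤ) * Nat.gcdB a b * (a : ℤ) = ((a * b : ℕ) : ℤ) * Nat.gcdB a b := by
        push_cast; ring
      rw [this, hab, zpow_mul, zpow_natCast, pow_orderOf_eq_one, one_zpow]
    intro q hq hd
    exact ha q hq (hd.trans (orderOf_dvd_of_pow_eq_one h1))
  · have h1 : (x ^ ((a : ℤ) * Nat.gcdA a b)) ^ b = 1 := by
      rw [← zpow_natCast, ← zpow_mul]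
      have : (a : ℤ) * Nat.gcdA a b * (b : ℤ) = ((a * b : ℕ) : ℤ) * Nat.gcdA a b := by
        push_cast; ring
      rw [this, hab, zpow_mul, zpow_natCast, pow_orderOf_eq_one, one_zpow]
    intro q hq hd
    exact hb q hq (hd.trans (orderOf_dvd_of_pow_eq_one h1))
  · rw [← zpow_add, add_comm, hbez, zpow_one]


section parts
variable [Finite G]

/-- the `π`-part of an element -/
noncomputable def piPart (π : Set ℕ) (x : G) : G :=
  (exists_pi_decomp π x (isOfFinOrder_of_finite x)).choose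

/-- the `π'`-part of an element -/
noncomputable def piPart' (π : Set ℕ) (x : G) : G :=
  (exists_pi_decomp π x (isOfFinOrder_of_finite x)).choose_spec.choose

theorem piPart_mem (π : Set ℕ) (x : G) : piPart π x ∈ Subgroup.zpowers x :=
  (exists_pi_decomp π x (isOfFinOrder_of_finite x)).choose_spec.choose_spec.1

theorem piPart'_mem (π : Set ℕ) (x : G) : piPart' π x ∈ Subgroup.zpowers x :=
  (exists_pi_decomp π x (isOfFinOrder_of_finite x)).choose_spec.choose_spec.2.1

theorem isPi_piPart (π : Set ℕ) (x : G) : IsPi π (piPart π x) :=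
  (exists_pi_decomp π x (isOfFinOrder_of_finite x)).choose_spec.choose_spec.2.2.1

theorem isPi_piPart' (π : Set ℕ) (x : G) : IsPi πᶜ (piPart' π x) :=
  (exists_pi_decomp π x (isOfFinOrder_of_finite x)).choose_spec.choose_spec.2.2.2.1

theorem piPart_mul_piPart' (π : Set ℕ) (x : G) : piPart π x * piPart' π x = x :=
  (exists_pi_decomp π x (isOfFinOrder_of_finite x)).choose_spec.choose_spec.2.2.2.2

theorem commute_of_mem_zpowers {x y z : G} (h : Commute z x) (hy : y ∈ Subgroup.zpowers x) :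
    Commute z y := by
  obtain ⟨k, rfl⟩ := hy
  exact h.zpow_right k

theorem commute_zpowers {x y z : G} (hy : y ∈ Subgroup.zpowers x) (hz : z ∈ Subgroup.zpowers x) :
    Commute y z := by
  obtain ⟨k, rfl⟩ := hy
  obtain ⟨l, rfl⟩ := hz
  exact (Commute.refl x).zpow_zpow k l

/-- uniqueness of the `π`-decomposition -/
theorem piPart_unique {π : Set ℕ} {s u : G} (hs : IsPi π s) (hu : IsPi πᶜ u) (hc : Commute s u) :
    piPart π (s * u) = s ∧ piPart' π (s * u) = u := by
  set x := s * u with hx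
  have hsx : Commute s x := (Commute.refl s).mul_right hc
  have hux : Commute u x := hc.symm.mul_right (Commute.refl u)
  have h0 := piPart_mul_piPart' π x
  have hs0 : Commute s (piPart π x) := commute_of_mem_zpowers hsx (piPart_mem π x)
  have hu0 : Commute u (piPart' π x) := commute_of_mem_zpowers hux (piPart'_mem π x)
  -- (piPart x)⁻¹ * s = piPart' x * u⁻¹
  have key : (piPart π x)⁻¹ * s = piPart' π x * u⁻¹ := by
    rw [inv_mul_eq_iff_eq_mul, ← mul_assoc, h0, hx, mul_inv_cancel_right]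
  have h1 : IsPi π ((piPart π x)⁻¹ * s) :=
    (isPi_piPart π x).inv.mul hs hs0.symm.inv_left
  have h2 : IsPi πᶜ ((piPart π x)⁻¹ * s) := by
    rw [key]
    exact (isPi_piPart' π x).mul hu.inv hu0.symm.inv_right
  have h3 := eq_one_of_isPi_of_isPi_compl h1 h2
  have h4 : piPart π x = s := by
    rw [inv_mul_eq_one] at h3; exact h3
  refine ⟨h4, ?_⟩
  have h5 : piPart' π x * u⁻¹ = 1 := by rw [← key, h3]
  rw [mul_inv_eq_one] at h5; exact h5

end parts

section counting

/-- the `π`-elements as a sub-action of conjugation -/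
def piSub (π : Set ℕ) : SubMulAction (ConjAct G) G where
  carrier := {x | IsPi π x}
  smul_mem' := by
    intro c x hx
    show IsPi π (c • x)
    rw [ConjAct.smul_def]
    refine IsPi.of_dvd hx (dvd_of_eq ?_)
    exact (MulEquiv.orderOf_eq (MulAut.conj (ConjAct.ofConjAct c)) x)

theorem isPi_iff_piClass (π : Set ℕ) (a : G) : IsPi π a ↔ PiClass π (ConjClasses.mk a) := by
  constructor
  · rintro h q hq ⟨g, hg, hd⟩
    rw [ConjClasses.mk_eq_mk_iff_isConj] at hg
    obtain ⟨c, hc⟩ := isConj_iff.1 hg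
    have : orderOf a = orderOf g := by
      rw [← hc]
      exact (MulEquiv.orderOf_eq (MulAut.conj c) g)
    exact h q hq (this ▸ hd)
  · intro h q hq hd
    exact h q hq ⟨a, rfl, hd⟩

theorem card_piPairs (π : Set ℕ) [Finite G] :
    Nat.card {p : G × G // IsPi π p.1 ∧ p.1 * p.2 = p.2 * p.1} =
      Nat.card {C : ConjClasses G // PiClass π C} * Nat.card G := by
  classical
  haveI := Fintype.ofFinite G
  have e1 : {C : ConjClasses G // PiClass π C} ≃
      Quotient (MulAction.orbitRel (ConjAct G) (piSub π)) :=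
    Equiv.subtypeQuotientEquivQuotientSubtype (fun x : G => x ∈ piSub π) (s₁ := IsConj.setoid G)
      (PiClass π) (fun a => isPi_iff_piClass π a) (fun x y => by
        show x ∈ MulAction.orbit (ConjAct G) y ↔ IsConj x.1 y.1
        rw [MulAction.mem_orbit_iff, isConj_comm, isConj_iff]
        constructor
        · rintro ⟨c, hc⟩
          refine ⟨ConjAct.ofConjAct c, ?_⟩
          rw [← hc]; rfl
        · rintro ⟨c, hc⟩
          refine ⟨ConjAct.toConjAct c, Subtype.ext ?_⟩
          rw [← hc]; rfl)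
  have e2 : {p : G × G // IsPi π p.1 ∧ p.1 * p.2 = p.2 * p.1} ≃
      Σ a : ConjAct G, MulAction.fixedBy (piSub π) a :=
    { toFun := fun p => ⟨ConjAct.toConjAct p.1.2, ⟨⟨p.1.1, p.2.1⟩, by
        rw [MulAction.mem_fixedBy]
        apply Subtype.ext
        show p.1.2 * p.1.1 * (p.1.2)⁻¹ = p.1.1
        rw [← p.2.2, mul_inv_cancel_right]⟩⟩
      invFun := fun q => ⟨(q.2.1.1, ConjAct.ofConjAct q.1), q.2.1.2, by
        have h := q.2.2
        rw [MulAction.mem_fixedBy] at h
        have h' : ConjAct.ofConjAct q.1 * q.2.1.1 * (ConjAct.ofConjAct q.1)⁻¹ = q.2.1.1 :=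
          congrArg Subtype.val h
        show q.2.1.1 * ConjAct.ofConjAct q.1 = ConjAct.ofConjAct q.1 * q.2.1.1
        rw [mul_inv_eq_iff_eq_mul] at h'
        exact h'.symm⟩
      left_inv := fun p => by rfl
      right_inv := fun q => by rfl }
  rw [Nat.card_congr e2, Nat.card_congr e1, Nat.card_eq_fintype_card, Nat.card_eq_fintype_card,
    Nat.card_eq_fintype_card, Fintype.card_sigma,
    MulAction.sum_card_fixedBy_eq_card_orbits_mul_card_group]
  rfl

end counting

section main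
variable [Finite G] (N : Subgroup G) [N.Normal] (π : Set ℕ)

open Classical in
/-- a chosen element of the coset `h` commuting with `x` (if there is one) -/
noncomputable def cfun (x : G) (h : G ⧸ N) : G :=
  if H : ∃ c : G, (c : G ⧸ N) = h ∧ x * c = c * x then H.choose else 1

theorem cfun_spec {x : G} {h : G ⧸ N} (H : ∃ c : G, (c : G ⧸ N) = h ∧ x * c = c * x) :
    ((cfun N x h : G) : G ⧸ N) = h ∧ x * cfun N x h = cfun N x h * x := by
  unfold cfun; rw [dif_pos H]; exact H.choose_spec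

/-- the element of `N` attached to a commuting pair -/
noncomputable def nOf (x y : G) : G := (cfun N x (y : G ⧸ N))⁻¹ * y

theorem nOf_mem {x y : G} (hxy : x * y = y * x) : nOf N x y ∈ N := by
  have h := (cfun_spec N (x := x) (h := (y : G ⧸ N)) ⟨y, rfl, hxy⟩).1
  rw [← QuotientGroup.eq_one_iff]
  unfold nOf
  rw [QuotientGroup.mk_mul, QuotientGroup.mk_inv, h, inv_mul_cancel]

theorem nOf_comm {x y : G} (hxy : x * y = y * x) : Commute x (nOf N x y) := by
  have h := (cfun_spec N (x := x) (h := (y : G ⧸ N)) ⟨y, rfl, hxy⟩).2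
  unfold nOf
  exact (Commute.inv_right h).mul_right hxy

theorem mul_nOf (x y : G) : cfun N x (y : G ⧸ N) * nOf N x y = y := by
  unfold nOf; rw [mul_inv_cancel_left]

/-- first output -/
noncomputable def yOf (x y : G) : G := piPart π (nOf N x y)
/-- the `π'`-part -/
noncomputable def uOf (x y : G) : G := piPart' π (nOf N x y)
/-- the modified first coordinate -/
noncomputable def xOf (x y : G) : G := x * uOf N π x y
/-- second output -/
noncomputable def zOf (x y : G) : G := (cfun N (yOf N π x y) (x : G ⧸ N))⁻¹ * xOf N π x y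

theorem yOf_mem {x y : G} (hxy : x * y = y * x) : yOf N π x y ∈ N :=
  (Subgroup.zpowers_le.2 (nOf_mem N hxy)) (piPart_mem π _)

theorem uOf_mem {x y : G} (hxy : x * y = y * x) : uOf N π x y ∈ N :=
  (Subgroup.zpowers_le.2 (nOf_mem N hxy)) (piPart'_mem π _)

theorem x_comm_yOf {x y : G} (hxy : x * y = y * x) : Commute x (yOf N π x y) :=
  commute_of_mem_zpowers (nOf_comm N hxy) (piPart_mem π _)

theorem x_comm_uOf {x y : G} (hxy : x * y = y * x) : Commute x (uOf N π x y) :=
  commute_of_mem_zpowers (nOf_comm N hxy) (piPart'_mem π _)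

theorem yOf_comm_uOf (x y : G) : Commute (yOf N π x y) (uOf N π x y) :=
  commute_zpowers (piPart_mem π _) (piPart'_mem π _)

theorem yOf_mul_uOf (x y : G) : yOf N π x y * uOf N π x y = nOf N x y :=
  piPart_mul_piPart' π _

theorem xOf_spec {x y : G} (hxy : x * y = y * x) :
    ((xOf N π x y : G) : G ⧸ N) = (x : G ⧸ N) ∧
      yOf N π x y * xOf N π x y = xOf N π x y * yOf N π x y := by
  constructor
  · unfold xOf
    rw [QuotientGroup.mk_mul, (QuotientGroup.eq_one_iff _).2 (uOf_mem N π hxy), mul_one]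
  · unfold xOf
    exact ((x_comm_yOf N π hxy).symm.mul_right (yOf_comm_uOf N π x y)).eq

theorem zOf_mem {x y : G} (hxy : x * y = y * x) : zOf N π x y ∈ N := by
  have h := (cfun_spec N (x := yOf N π x y) (h := (x : G ⧸ N))
    ⟨xOf N π x y, (xOf_spec N π hxy).1, (xOf_spec N π hxy).2⟩).1
  rw [← QuotientGroup.eq_one_iff]
  unfold zOf
  rw [QuotientGroup.mk_mul, QuotientGroup.mk_inv, h, (xOf_spec N π hxy).1, inv_mul_cancel]

theorem yOf_comm_zOf {x y : G} (hxy : x * y = y * x) :
    yOf N π x y * zOf N π x y = zOf N π x y * yOf N π x y := by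
  have h := (cfun_spec N (x := yOf N π x y) (h := (x : G ⧸ N))
    ⟨xOf N π x y, (xOf_spec N π hxy).1, (xOf_spec N π hxy).2⟩).2
  unfold zOf
  exact ((Commute.inv_right h).mul_right (xOf_spec N π hxy).2).eq

/-- recovering `(x, y)` from the data -/
theorem recover {x y : G} (hx : IsPi π x) (hxy : x * y = y * x) :
    x = piPart π (cfun N (yOf N π x y) (x : G ⧸ N) * zOf N π x y) ∧
    y = cfun N x (y : G ⧸ N) *
      (yOf N π x y * piPart' π (cfun N (yOf N π x y) (x : G ⧸ N) * zOf N π x y)) := by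
  have h1 : cfun N (yOf N π x y) (x : G ⧸ N) * zOf N π x y = x * uOf N π x y := by
    unfold zOf xOf; rw [mul_inv_cancel_left]
  have h2 := piPart_unique (π := π) hx (isPi_piPart' π (nOf N x y)) (x_comm_uOf N π hxy)
  rw [h1]
  refine ⟨h2.1.symm, ?_⟩
  have h3 : piPart' π (x * uOf N π x y) = uOf N π x y := h2.2
  rw [h3, yOf_mul_uOf, mul_nOf]

end main

section final
variable [Finite G] (N : Subgroup G) [N.Normal] (π : Set ℕ)

/-- commuting pairs whose first coordinate is a `π`-element -/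
abbrev PP (π : Set ℕ) (X : Type*) [Group X] : Type _ :=
  {p : X × X // IsPi π p.1 ∧ p.1 * p.2 = p.2 * p.1}

/-- the injection `PP G → PP (G/N) × PP N` -/
noncomputable def Phi (p : PP π G) : PP π (G ⧸ N) × PP π N :=
  (⟨((p.1.1 : G ⧸ N), (p.1.2 : G ⧸ N)),
      IsPi.of_dvd p.2.1 (orderOf_map_dvd (QuotientGroup.mk' N) p.1.1), by
        show ((p.1.1 : G ⧸ N)) * (p.1.2 : G ⧸ N) = (p.1.2 : G ⧸ N) * (p.1.1 : G ⧸ N)
        rw [← QuotientGroup.mk_mul, ← QuotientGroup.mk_mul, p.2.2]⟩,
    ⟨(⟨yOf N π p.1.1 p.1.2, yOf_mem N π p.2.2⟩, ⟨zOf N π p.1.1 p.1.2, zOf_mem N π p.2.2⟩),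
      IsPi.of_dvd (isPi_piPart π (nOf N p.1.1 p.1.2)) (dvd_of_eq (Subgroup.orderOf_mk _ _)),
      Subtype.ext (yOf_comm_zOf N π p.2.2)⟩)

theorem Phi_injective : Function.Injective (Phi N π) := by
  intro p q hpq
  obtain ⟨⟨x1, y1⟩, hx1, hc1⟩ := p
  obtain ⟨⟨x2, y2⟩, hx2, hc2⟩ := q
  simp only [Phi, Prod.mk.injEq, Subtype.mk.injEq] at hpq
  obtain ⟨⟨hqx, hqy⟩, hy, hz⟩ := hpq
  have r1 := recover N π hx1 hc1
  have r2 := recover N π hx2 hc2
  have hx : x1 = x2 := by
    calc x1 = piPart π (cfun N (yOf N π x1 y1) (x1 : G ⧸ N) * zOf N π x1 y1) := r1.1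
      _ = piPart π (cfun N (yOf N π x2 y2) (x2 : G ⧸ N) * zOf N π x2 y2) := by rw [hy, hz, hqx]
      _ = x2 := r2.1.symm
  subst hx
  have hyy : y1 = y2 := by
    calc y1 = cfun N x1 (y1 : G ⧸ N) * (yOf N π x1 y1 *
          piPart' π (cfun N (yOf N π x1 y1) (x1 : G ⧸ N) * zOf N π x1 y1)) := r1.2
      _ = cfun N x1 (y2 : G ⧸ N) * (yOf N π x1 y2 *
          piPart' π (cfun N (yOf N π x1 y2) (x1 : G ⧸ N) * zOf N π x1 y2)) := by rw [hy, hz, hqy]
      _ = y2 := r2.2.symm
  subst hyy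
  rfl

theorem card_PP_le : Nat.card (PP π G) ≤ Nat.card (PP π (G ⧸ N)) * Nat.card (PP π N) := by
  rw [← Nat.card_prod]
  exact Nat.card_le_card_of_injective (Phi N π) (Phi_injective N π)

/-- `k_π(G) ≤ k_π(N) k_π(G/N)` -/
theorem card_piClasses_le :
    Nat.card {C : ConjClasses G // PiClass π C} ≤
      Nat.card {C : ConjClasses N // PiClass π C} *
        Nat.card {C : ConjClasses (G ⧸ N) // PiClass π C} := by
  have h1 := card_piPairs (G := G) π
  have h2 := card_piPairs (G := N) π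
  have h3 := card_piPairs (G := G ⧸ N) π
  have h4 := card_PP_le N π
  have h5 : Nat.card G = Nat.card (G ⧸ N) * Nat.card N :=
    Subgroup.card_eq_card_quotient_mul_card_subgroup N
  have hpos : 0 < Nat.card G := Nat.card_pos
  rw [h1, h2, h3] at h4
  apply Nat.le_of_mul_le_mul_right _ hpos
  calc _ ≤ _ := h4
    _ = _ := by rw [h5]; ring

end final
end Cfsg.Agent.Lib.Helper22.PiClasses
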