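/-
helper22: S0720 leaf W2P-CYCLO.
Subsets `A, B` of a cyclic group of odd prime order with `(Σ_A λ)² = (Σ_B λ)²` for all characters
(only one faithful character is used), `|A| = |B|`, `|A| + |B| < 2p`, are equal.
(`Φ_p` is irreducible over `ℚ`: a rational relation `Σ_k a_k ζ^k = 0`, `k < p`, has constant coefficients.)
-/
import Mathlib

set_option autoImplicit false

namespace Cfsg.Agent.Lib.Helper22.W2PCYCLO

open Polynomial

/-- a rational linear relation among `1, ζ, …, ζ^(p-1)` has constant coefficients -/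
theorem const_of_sum_eq_zero {p : ℕ} (hp : p.Prime) {ζ : ℂ} (hζ : IsPrimitiveRoot ζ p) (a : ℕ → ℚ)
    (h : ∑ k ∈ Finset.range p, (a k : ℂ) * ζ ^ k = 0) : ∃ c : ℚ, ∀ k < p, a k = c := by
  haveI : Fact p.Prime := ⟨hp⟩
  set F : ℚ[X] := ∑ k ∈ Finset.range p, C (a k) * X ^ k with hF
  have hev : aeval ζ F = 0 := by
    rw [hF, map_sum, ← h]
    refine Finset.sum_congr rfl fun k _ => ?_
    simp
  have hdvd : cyclotomic p ℚ ∣ F := by
    rw [cyclotomic_eq_minpoly_rat hζ hp.pos]
    exact minpoly.dvd ℚ ζ hev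
  have hcoeff : ∀ k < p, F.coeff k = a k := by
    intro k hk
    rw [hF, finsetSum_coeff]
    rw [Finset.sum_eq_single k]
    · simp
    · intro i _ hik
      rw [coeff_C_mul, coeff_X_pow, if_neg (Ne.symm hik), mul_zero]
    · intro hk'
      exact absurd (Finset.mem_range.mpr hk) hk'
  obtain ⟨R, hR⟩ := hdvd
  by_cases hF0 : F = 0
  · refine ⟨0, fun k hk => ?_⟩
    rw [← hcoeff k hk, hF0, coeff_zero]
  · have hdeg : F.natDegree ≤ p - 1 := by
      rw [hF]
      refine natDegree_sum_le_of_forall_le _ _ ?_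
      intro k hk
      refine (natDegree_C_mul_X_pow_le (a k) k).trans ?_
      have := Finset.mem_range.mp hk
      omega
    have hR0 : R ≠ 0 := by
      rintro rfl
      rw [mul_zero] at hR
      exact hF0 hR
    have hsum : (cyclotomic p ℚ).natDegree + R.natDegree = F.natDegree := by
      rw [hR, natDegree_mul (cyclotomic_ne_zero p ℚ) hR0]
    rw [natDegree_cyclotomic, Nat.totient_prime hp] at hsum
    have hRdeg : R.natDegree = 0 := by omega
    rw [eq_C_of_natDegree_eq_zero hRdeg] at hR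
    refine ⟨R.coeff 0, fun k hk => ?_⟩
    rw [← hcoeff k hk, hR, cyclotomic_prime, coeff_mul_C, finsetSum_coeff]
    rw [Finset.sum_eq_single k]
    · simp
    · intro i _ hik
      rw [coeff_X_pow, if_neg (Ne.symm hik)]
    · intro hk'
      exact absurd (Finset.mem_range.mpr hk) hk'

section grp

variable {Q : Type*} [CommGroup Q] [Fintype Q]

/-- a function on a group of prime order whose sum against a non-trivial character vanishes is constant -/
theorem const_of_char_sum {p : ℕ} (hp : p.Prime) (hQ : Fintype.card Q = p) (lam0 : Q →* ℂ)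
    (q0 : Q) (hq0 : q0 ≠ 1) (hlam : lam0 q0 ≠ 1) (f : Q → ℚ)
    (h0 : ∑ y : Q, (f y : ℂ) * lam0 y = 0) : ∃ c : ℚ, ∀ y : Q, f y = c := by
  haveI : Fact p.Prime := ⟨hp⟩
  have hq0p : q0 ^ p = 1 := by rw [← hQ]; exact pow_card_eq_one
  have hord : orderOf q0 = p := orderOf_eq_prime hq0p hq0
  have hζp : lam0 q0 ^ p = 1 := by rw [← map_pow, hq0p, map_one]
  have hζ : IsPrimitiveRoot (lam0 q0) p := by
    have := orderOf_eq_prime hζp hlam
    rw [← this]
    exact IsPrimitiveRoot.orderOf _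
  -- the bijection `k ↦ q0 ^ k`
  have hinj : Function.Injective (fun k : Fin p => q0 ^ (k : ℕ)) := by
    intro k l hkl
    apply Fin.ext
    apply pow_injOn_Iio_orderOf (x := q0)
    · rw [hord]; exact k.2
    · rw [hord]; exact l.2
    · exact hkl
  have hbij : Function.Bijective (fun k : Fin p => q0 ^ (k : ℕ)) := by
    rw [Fintype.bijective_iff_injective_and_card]
    exact ⟨hinj, by rw [Fintype.card_fin, hQ]⟩
  let E : Fin p ≃ Q := Equiv.ofBijective _ hbij
  have hsum : ∑ y : Q, (f y : ℂ) * lam0 y =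
      ∑ k ∈ Finset.range p, ((f (q0 ^ k) : ℚ) : ℂ) * lam0 q0 ^ k := by
    rw [← Fin.sum_univ_eq_sum_range (fun k => ((f (q0 ^ k) : ℚ) : ℂ) * lam0 q0 ^ k) p]
    rw [← Equiv.sum_comp E]
    refine Finset.sum_congr rfl fun k _ => ?_
    show ((f (q0 ^ (k : ℕ)) : ℚ) : ℂ) * lam0 (q0 ^ (k : ℕ)) = _
    rw [map_pow]
  rw [hsum] at h0
  obtain ⟨c, hc⟩ := const_of_sum_eq_zero hp hζ (fun k => f (q0 ^ k)) h0
  refine ⟨c, fun y => ?_⟩
  obtain ⟨k, rfl⟩ := hbij.2 y
  exact hc k k.2

end grp

/-- indicator of a finset, rational valued -/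
def ind {Q : Type*} [DecidableEq Q] (S : Finset Q) (y : Q) : ℚ := if y ∈ S then 1 else 0

theorem sum_ind {Q : Type*} [Fintype Q] [DecidableEq Q] (S : Finset Q) (g : Q → ℂ) :
    ∑ y ∈ S, g y = ∑ y : Q, ((ind S y : ℚ) : ℂ) * g y := by
  unfold ind
  rw [← Finset.sum_filter_add_sum_filter_not Finset.univ (fun y => y ∈ S)]
  have h1 : ∑ y ∈ Finset.univ.filter (fun y => y ∈ S), (((if y ∈ S then 1 else 0 : ℚ)) : ℂ) * g y =
      ∑ y ∈ S, g y := by
    have : Finset.univ.filter (fun y => y ∈ S) = S := by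
      ext y; simp
    rw [this]
    refine Finset.sum_congr rfl fun y hy => ?_
    rw [if_pos hy]; simp
  have h2 : ∑ y ∈ Finset.univ.filter (fun y => ¬ y ∈ S), (((if y ∈ S then 1 else 0 : ℚ)) : ℂ) * g y
      = 0 := by
    refine Finset.sum_eq_zero fun y hy => ?_
    rw [if_neg (Finset.mem_filter.mp hy).2]; simp
  rw [h1, h2, add_zero]

theorem sum_ind_card {Q : Type*} [Fintype Q] [DecidableEq Q] (S : Finset Q) :
    ∑ y : Q, ind S y = S.card := by
  unfold ind
  rw [Finset.sum_ite_mem, Finset.univ_inter]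
  simp

/-- W2P-CYCLO: subsets of a cyclic group of odd prime order with equal squared character sums. -/
theorem eq_of_sq_eq {Q : Type*} [CommGroup Q] [Fintype Q] [DecidableEq Q] {p : ℕ} (hp : p.Prime)
    (hodd : p ≠ 2) (hQ : Fintype.card Q = p) (A B : Finset Q) (hcard : A.card = B.card)
    (hlt : A.card + B.card < 2 * p)
    (h : ∀ lam : Q →* ℂ, (∑ y ∈ A, lam y) ^ 2 = (∑ y ∈ B, lam y) ^ 2) : A = B := by
  haveI : Fact p.Prime := ⟨hp⟩
  have hQ' : Nat.card Q = p := by rw [Nat.card_eq_fintype_card, hQ]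
  haveI : IsCyclic Q := isCyclic_of_prime_card hQ'
  obtain ⟨q0, hq0⟩ : ∃ q0 : Q, q0 ≠ 1 := by
    haveI : Nontrivial Q := Fintype.one_lt_card_iff_nontrivial.mp (by rw [hQ]; exact hp.one_lt)
    exact exists_ne 1
  have hprim : ∃ ζ : ℂˣ, IsPrimitiveRoot ζ (Nat.card Q) := by
    rw [hQ']
    have hz := Complex.isPrimitiveRoot_exp p hp.ne_zero
    refine ⟨(hz.isUnit hp.ne_zero).unit, ?_⟩
    rw [← IsPrimitiveRoot.coe_units_iff]
    exact hz
  obtain ⟨φ, hφ⟩ := IsCyclic.exists_apply_ne_one (G' := ℂˣ) hprim hq0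
  let lam0 : Q →* ℂ := (Units.coeHom ℂ).comp φ
  have hlam : lam0 q0 ≠ 1 := by
    intro h1
    apply hφ
    apply Units.ext
    exact h1
  have hkey := h lam0
  have hfac : (∑ y ∈ A, lam0 y - ∑ y ∈ B, lam0 y) * (∑ y ∈ A, lam0 y + ∑ y ∈ B, lam0 y) = 0 := by
    linear_combination hkey
  have hcA : ∑ y : Q, ind A y = A.card := sum_ind_card A
  have hcB : ∑ y : Q, ind B y = B.card := sum_ind_card B
  have hpQ : (p : ℚ) = Fintype.card Q := by rw [hQ]
  rcases mul_eq_zero.mp hfac with hm | hpl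
  · -- difference
    have h0 : ∑ y : Q, (((ind A y - ind B y : ℚ)) : ℂ) * lam0 y = 0 := by
      rw [← hm, sum_ind A, sum_ind B, ← Finset.sum_sub_distrib]
      refine Finset.sum_congr rfl fun y _ => ?_
      push_cast
      ring
    obtain ⟨c, hc⟩ := const_of_char_sum hp hQ lam0 q0 hq0 hlam _ h0
    have hsum : ∑ y : Q, (ind A y - ind B y) = (Fintype.card Q : ℚ) * c := by
      rw [Finset.sum_congr rfl (fun y _ => hc y), Finset.sum_const, Finset.card_univ, nsmul_eq_mul]
    rw [Finset.sum_sub_distrib, hcA, hcB, hcard, sub_self, ← hpQ] at hsum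
    have hc0 : c = 0 := by
      have hp0 : (p : ℚ) ≠ 0 := by exact_mod_cast hp.ne_zero
      rcases mul_eq_zero.mp hsum.symm with h1 | h1
      · exact absurd h1 hp0
      · exact h1
    ext y
    have hy := hc y
    rw [hc0] at hy
    unfold ind at hy
    by_cases hA : y ∈ A <;> by_cases hB : y ∈ B <;> simp [hA, hB] at hy ⊢
  · -- sum
    have h0 : ∑ y : Q, (((ind A y + ind B y : ℚ)) : ℂ) * lam0 y = 0 := by
      rw [← hpl, sum_ind A, sum_ind B, ← Finset.sum_add_distrib]
      refine Finset.sum_congr rfl fun y _ => ?_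
      push_cast
      ring
    obtain ⟨c, hc⟩ := const_of_char_sum hp hQ lam0 q0 hq0 hlam _ h0
    have hsum : ∑ y : Q, (ind A y + ind B y) = (Fintype.card Q : ℚ) * c := by
      rw [Finset.sum_congr rfl (fun y _ => hc y), Finset.sum_const, Finset.card_univ, nsmul_eq_mul]
    rw [Finset.sum_add_distrib, hcA, hcB, ← hpQ] at hsum
    -- the value of `c`
    have h1c := hc 1
    unfold ind at h1c
    have hltq : ((A.card : ℚ) + B.card) < 2 * p := by exact_mod_cast hlt
    have hcardq : (A.card : ℚ) = B.card := by exact_mod_cast hcard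
    have hp0 : (0 : ℚ) < p := by exact_mod_cast hp.pos
    by_cases hA : (1 : Q) ∈ A <;> by_cases hB : (1 : Q) ∈ B
    · -- c = 2
      exfalso
      rw [if_pos hA, if_pos hB] at h1c
      rw [← h1c] at hsum
      rw [hsum] at hltq
      norm_num at hltq
      linarith
    · -- c = 1
      exfalso
      rw [if_pos hA, if_neg hB] at h1c
      rw [← h1c] at hsum
      have h2 : ((2 * A.card : ℕ) : ℚ) = (p : ℕ) := by
        push_cast
        linarith
      have h3 : 2 * A.card = p := by exact_mod_cast h2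
      rcases hp.eq_one_or_self_of_dvd 2 ⟨A.card, h3.symm⟩ with h4 | h4
      · omega
      · exact hodd h4.symm
    · -- c = 1
      exfalso
      rw [if_neg hA, if_pos hB] at h1c
      rw [← h1c] at hsum
      have h2 : ((2 * A.card : ℕ) : ℚ) = (p : ℕ) := by
        push_cast
        linarith
      have h3 : 2 * A.card = p := by exact_mod_cast h2
      rcases hp.eq_one_or_self_of_dvd 2 ⟨A.card, h3.symm⟩ with h4 | h4
      · omega
      · exact hodd h4.symm
    · -- c = 0
      rw [if_neg hA, if_neg hB] at h1c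
      have hc0 : c = 0 := by rw [← h1c]; norm_num
      ext y
      have hy := hc y
      rw [hc0] at hy
      unfold ind at hy
      by_cases hA' : y ∈ A <;> by_cases hB' : y ∈ B <;> simp [hA', hB'] at hy ⊢

end Cfsg.Agent.Lib.Helper22.W2PCYCLO
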