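/-
helper22: S0720 leaf W2P-ARITH (pure finite combinatorics).
-/
import Mathlib

set_option autoImplicit false

namespace Cfsg.Agent.Lib.Helper22.W2PARITH

section

variable {I X : Type*} [Fintype I] [Fintype X] [DecidableEq I] (n : I → ℕ) (r : I → ℤ)
  (c : I → X → ℕ)

omit [Fintype X] in
theorem le_two (h0 : ∀ x, ∑ i, c i x = 2) (i : I) (x : X) : c i x ≤ 2 := by
  rw [← h0 x]
  exact Finset.single_le_sum (f := fun i => c i x) (fun _ _ => Nat.zero_le _) (Finset.mem_univ i)

omit [Fintype X] in
/-- three distinct indices cannot all be non-zero at `x` when two of them have value `1` -/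
theorem rest_zero (h0 : ∀ x, ∑ i, c i x = 2) (x : X) (i j : I) (hij : i ≠ j) (hi : c i x = 1)
    (hj : c j x = 1) (k : I) (hki : k ≠ i) (hkj : k ≠ j) : c k x = 0 := by
  by_contra hk
  have hsub : ({i, j, k} : Finset I) ⊆ Finset.univ := Finset.subset_univ _
  have hle : ∑ s ∈ ({i, j, k} : Finset I), c s x ≤ ∑ s, c s x :=
    Finset.sum_le_sum_of_subset hsub
  rw [h0 x, Finset.sum_insert, Finset.sum_insert, Finset.sum_singleton, hi, hj] at hle
  · omega
  · simp only [Finset.mem_singleton]
    exact fun h => hkj h.symm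
  · simp only [Finset.mem_insert, Finset.mem_singleton, not_or]
    exact ⟨hij, fun h => hki h.symm⟩

omit [Fintype X] in
theorem two_rest_zero (h0 : ∀ x, ∑ i, c i x = 2) (x : X) (i : I) (hi : c i x = 2) (k : I)
    (hki : k ≠ i) : c k x = 0 := by
  by_contra hk
  have hsub : ({i, k} : Finset I) ⊆ Finset.univ := Finset.subset_univ _
  have hle : ∑ s ∈ ({i, k} : Finset I), c s x ≤ ∑ s, c s x :=
    Finset.sum_le_sum_of_subset hsub
  rw [h0 x, Finset.sum_insert, Finset.sum_singleton, hi] at hle
  · omega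
  · simp only [Finset.mem_singleton]
    exact fun h => hki h.symm

omit [Fintype X] in
/-- an index with value `1` at `x` has a partner -/
theorem exists_partner (h0 : ∀ x, ∑ i, c i x = 2) (x : X) (i : I) (hi : c i x = 1) :
    ∃ j, j ≠ i ∧ c j x = 1 := by
  by_contra hcon
  push Not at hcon
  have hothers : ∀ k, k ≠ i → c k x = 0 := by
    intro k hki
    by_contra hk
    have hk2 := le_two c h0 k x
    have hk1 : c k x ≠ 1 := hcon k hki
    have hk2' : c k x = 2 := by omega
    have := two_rest_zero c h0 x k hk2' i (Ne.symm hki)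
    omega
  have := h0 x
  rw [Fintype.sum_eq_single i (fun k hk => hothers k hk), hi] at this
  omega


/-- number of `x` with value `1`, as an integer -/
def uu (i : I) : ℤ := ∑ x, if c i x = 1 then (1 : ℤ) else 0

theorem uu_eq (h0 : ∀ x, ∑ i, c i x = 2)
    (h1 : ∀ i, ∑ x, (c i x : ℤ) = n i + r i)
    (h2 : ∀ i, ∑ x, (c i x : ℤ) ^ 2 = 2 * n i - 2 * r i ^ 2) (i : I) :
    uu c i = 2 * r i ^ 2 + 2 * r i := by
  have hpt : ∀ x, (if c i x = 1 then (1 : ℤ) else 0) = 2 * (c i x : ℤ) - (c i x : ℤ) ^ 2 := by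
    intro x
    have hle := le_two c h0 i x
    have hcases : c i x = 0 ∨ c i x = 1 ∨ c i x = 2 := by omega
    rcases hcases with h | h | h <;> rw [h] <;> norm_num
  unfold uu
  rw [Finset.sum_congr rfl (fun x _ => hpt x), Finset.sum_sub_distrib, ← Finset.mul_sum, h1, h2]
  ring

/-- if the value `2` does not occur then `n = r (2r+1)` -/
theorem n_eq_of_le_one (h1 : ∀ i, ∑ x, (c i x : ℤ) = n i + r i)
    (h2 : ∀ i, ∑ x, (c i x : ℤ) ^ 2 = 2 * n i - 2 * r i ^ 2) (i : I)
    (hle : ∀ x, c i x ≤ 1) : (n i : ℤ) = r i * (2 * r i + 1) := by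
  have hpt : ∀ x, (c i x : ℤ) ^ 2 = (c i x : ℤ) := by
    intro x
    have := hle x
    have hcases : c i x = 0 ∨ c i x = 1 := by omega
    rcases hcases with h | h <;> rw [h] <;> norm_num
  have := h2 i
  rw [Finset.sum_congr rfl (fun x _ => hpt x), h1] at this
  linarith


omit [Fintype X] in
/-- the value `2` forces `r = 0` -/
theorem r_eq_zero_of_two (h0 : ∀ x, ∑ i, c i x = 2)
    (h3 : ∀ x, ∑ i, (r i : ℚ) / n i * c i x = 0) (h4 : ∀ i, 2 ≤ n i)
    (i : I) (x : X) (hi : c i x = 2) : r i = 0 := by
  have := h3 x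
  rw [Fintype.sum_eq_single i] at this
  · rw [hi] at this
    have hn : (n i : ℚ) ≠ 0 := by
      have := h4 i
      have h' : n i ≠ 0 := by omega
      exact_mod_cast h'
    have h5 : (r i : ℚ) / n i = 0 := by
      rcases mul_eq_zero.mp this with h | h
      · exact h
      · norm_num at h
    rcases div_eq_zero_iff.mp h5 with h | h
    · exact_mod_cast h
    · exact absurd h hn
  · intro k hk
    rw [two_rest_zero c h0 x i hi k hk]
    simp

omit [Fintype X] in
/-- partners have `r j = - r i - 1` -/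
theorem partner_r (h0 : ∀ x, ∑ i, c i x = 2)
    (h3 : ∀ x, ∑ i, (r i : ℚ) / n i * c i x = 0)
    (i j : I) (hij : i ≠ j) (x : X) (hi : c i x = 1) (hj : c j x = 1)
    (hri : r i ≠ 0) (hrj : r j ≠ 0)
    (hni : (n i : ℤ) = r i * (2 * r i + 1)) (hnj : (n j : ℤ) = r j * (2 * r j + 1)) :
    r j = - r i - 1 := by
  have := h3 x
  rw [Fintype.sum_eq_add i j hij] at this
  · rw [hi, hj] at this
    have hni' : (n i : ℚ) = r i * (2 * r i + 1) := by exact_mod_cast hni
    have hnj' : (n j : ℚ) = r j * (2 * r j + 1) := by exact_mod_cast hnj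
    rw [hni', hnj'] at this
    have hri' : (r i : ℚ) ≠ 0 := by exact_mod_cast hri
    have hrj' : (r j : ℚ) ≠ 0 := by exact_mod_cast hrj
    have hoi : (2 * (r i : ℚ) + 1) ≠ 0 := by
      have : (2 * r i + 1 : ℤ) ≠ 0 := by omega
      exact_mod_cast this
    have hoj : (2 * (r j : ℚ) + 1) ≠ 0 := by
      have : (2 * r j + 1 : ℤ) ≠ 0 := by omega
      exact_mod_cast this
    have e1 : (r i : ℚ) / (r i * (2 * r i + 1)) = 1 / (2 * r i + 1) := by
      field_simp
    have e2 : (r j : ℚ) / (r j * (2 * r j + 1)) = 1 / (2 * r j + 1) := by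
      field_simp
    rw [e1, e2] at this
    push_cast at this
    rw [mul_one, mul_one, div_add_div _ _ hoi hoj] at this
    rcases div_eq_zero_iff.mp this with h | h
    · have h' : (r j : ℚ) = - r i - 1 := by linarith
      exact_mod_cast h'
    · exact absurd h (mul_ne_zero hoi hoj)
  · rintro k ⟨hki, hkj⟩
    rw [rest_zero c h0 x i j hij hi hj k hki hkj]
    simp

end

/-- W2P-ARITH: the combinatorial core (abstract). `I` = non-trivial orbitals, `X = P ∖ 1`. -/
theorem arith {I X : Type*} [Fintype I] [Fintype X] [DecidableEq I] (n : I → ℕ) (r : I → ℤ)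
    (c : I → X → ℕ)
    (h0 : ∀ x, ∑ i, c i x = 2)
    (h1 : ∀ i, ∑ x, (c i x : ℤ) = n i + r i)
    (h2 : ∀ i, ∑ x, (c i x : ℤ) ^ 2 = 2 * n i - 2 * r i ^ 2)
    (h3 : ∀ x, ∑ i, (r i : ℚ) / n i * c i x = 0)
    (h4 : ∀ i, 2 ≤ n i)
    (h5 : ∑ i, n i = 2 * Fintype.card X + 1) :
    ∃ (a : ℕ) (ip im : I), 0 < a ∧ ip ≠ im ∧ r ip = a ∧ n ip = a * (2 * a + 1) ∧
      r im = -((a : ℤ) + 1) ∧ n im = (a + 1) * (2 * a + 1) ∧
      (∀ x, c ip x = c im x ∧ c ip x ≤ 1) ∧
      Fintype.card {x // c ip x = 1} = 2 * a * (a + 1) ∧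
      ∀ i, i ≠ ip → i ≠ im → r i = 0 ∧ (∀ x, c i x = 0 ∨ c i x = 2) ∧ ∃ x, c i x = 2 := by
  classical
  have hle2 := le_two c h0
  have hu := uu_eq n r c h0 h1 h2
  have hr2 := r_eq_zero_of_two n r c h0 h3 h4
  have hle1 : ∀ i, r i ≠ 0 → ∀ x, c i x ≤ 1 := by
    intro i hri x
    have h2' : c i x ≠ 2 := fun h => hri (hr2 i x h)
    have := hle2 i x
    omega
  have hn : ∀ i, r i ≠ 0 → (n i : ℤ) = r i * (2 * r i + 1) := fun i hri =>
    n_eq_of_le_one n r c h1 h2 i (hle1 i hri)
  have hrm1 : ∀ i, r i ≠ -1 := by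
    intro i hri
    have h' : r i ≠ 0 := by omega
    have h'' := hn i h'
    rw [hri] at h''
    norm_num at h''
    have := h4 i
    omega
  have hzero : ∀ i, r i = 0 → (∀ x, c i x = 0 ∨ c i x = 2) ∧ ∃ x, c i x = 2 := by
    intro i hri
    have hu0 : uu c i = 0 := by rw [hu, hri]; norm_num
    have hne1 : ∀ x, c i x ≠ 1 := by
      intro x hx
      unfold uu at hu0
      have hnonneg : ∀ y ∈ Finset.univ, (0 : ℤ) ≤ (if c i y = 1 then (1 : ℤ) else 0) := by
        intro y _
        split_ifs <;> norm_num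
      have := (Finset.sum_eq_zero_iff_of_nonneg hnonneg).mp hu0 x (Finset.mem_univ x)
      rw [if_pos hx] at this
      exact one_ne_zero this
    have h02 : ∀ x, c i x = 0 ∨ c i x = 2 := by
      intro x
      have := hle2 i x
      have := hne1 x
      omega
    refine ⟨h02, ?_⟩
    by_contra hcon
    push Not at hcon
    have hall0 : ∀ x, c i x = 0 := by
      intro x
      rcases h02 x with h | h
      · exact h
      · exact absurd h (hcon x)
    have h1i := h1 i
    have hz : ∑ x, (c i x : ℤ) = 0 := by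
      refine Finset.sum_eq_zero (fun x _ => ?_)
      rw [hall0 x]
      rfl
    rw [hz, hri] at h1i
    have := h4 i
    omega
  have hex1 : ∀ i, r i ≠ 0 → ∃ x, c i x = 1 := by
    intro i hri
    by_contra hcon
    push Not at hcon
    have hu0 : uu c i = 0 := by
      unfold uu
      exact Finset.sum_eq_zero (fun x _ => if_neg (hcon x))
    rw [hu] at hu0
    have hrm := hrm1 i
    have hprod : r i * (r i + 1) = 0 := by nlinarith
    rcases mul_eq_zero.mp hprod with h | h
    · exact hri h
    · exact hrm (by omega)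
  have hr_of_one : ∀ i x, c i x = 1 → r i ≠ 0 := by
    intro i x hx hri
    rcases (hzero i hri).1 x with h | h <;> omega
  have hpart : ∀ i j x, i ≠ j → c i x = 1 → c j x = 1 → r j = - r i - 1 := by
    intro i j x hij hi hj
    exact partner_r n r c h0 h3 i j hij x hi hj (hr_of_one i x hi) (hr_of_one j x hj)
      (hn i (hr_of_one i x hi)) (hn j (hr_of_one j x hj))
  have hsumr : ∑ i, r i = -1 := by
    have hA : ∑ i, ∑ x, (c i x : ℤ) = ∑ i, ((n i : ℤ) + r i) :=
      Finset.sum_congr rfl (fun i _ => h1 i)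
    rw [Finset.sum_comm] at hA
    have hB : ∀ x, ∑ i, (c i x : ℤ) = 2 := by
      intro x
      have := h0 x
      exact_mod_cast this
    rw [Finset.sum_congr rfl (fun x _ => hB x), Finset.sum_const, Finset.card_univ,
      Finset.sum_add_distrib] at hA
    have hC : ∑ i, (n i : ℤ) = 2 * Fintype.card X + 1 := by exact_mod_cast h5
    rw [hC] at hA
    simp only [nsmul_eq_mul] at hA
    linarith
  -- the weighted double count
  set wgt : I → ℚ := fun i => 1 / (2 * (r i : ℚ) ^ 2 + 2 * r i) with hwgt
  set dl : I → X → ℚ := fun i x => if c i x = 1 then 1 else 0 with hdl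
  set pos : I → ℚ := fun i => if 0 < r i then 1 else 0 with hpos
  set neg : I → ℚ := fun i => if r i < 0 then 1 else 0 with hneg
  have hW1 : ∀ i, r i ≠ 0 → ∑ x, dl i x * wgt i = 1 := by
    intro i hri
    rw [← Finset.sum_mul]
    have hs : ∑ x, dl i x = ((uu c i : ℤ) : ℚ) := by
      unfold uu
      rw [Int.cast_sum]
      refine Finset.sum_congr rfl (fun x _ => ?_)
      show (if c i x = 1 then (1 : ℚ) else 0) = _
      split_ifs <;> simp
    rw [hs, hu]
    show ((2 * r i ^ 2 + 2 * r i : ℤ) : ℚ) * (1 / (2 * (r i : ℚ) ^ 2 + 2 * r i)) = 1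
    have hne : (2 * (r i : ℚ) ^ 2 + 2 * r i) ≠ 0 := by
      have hrm := hrm1 i
      have : (2 * r i ^ 2 + 2 * r i : ℤ) ≠ 0 := by
        intro h
        have hprod : r i * (r i + 1) = 0 := by nlinarith
        rcases mul_eq_zero.mp hprod with h | h
        · exact hri h
        · exact hrm (by omega)
      exact_mod_cast this
    push_cast
    exact mul_one_div_cancel hne
  have hX : ∀ x, (∑ i, dl i x * wgt i * r i = - ∑ i, dl i x * wgt i * pos i) ∧
      (∑ i, dl i x * wgt i * neg i = ∑ i, dl i x * wgt i * pos i) := by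
    intro x
    by_cases hex : ∃ i, c i x = 1
    · obtain ⟨i, hi⟩ := hex
      obtain ⟨j, hji, hj⟩ := exists_partner c h0 x i hi
      have hij : i ≠ j := Ne.symm hji
      have hrj := hpart i j x hij hi hj
      have hdk : ∀ k, k ≠ i ∧ k ≠ j → dl k x = 0 := by
        rintro k ⟨hki, hkj⟩
        have := rest_zero c h0 x i j hij hi hj k hki hkj
        show (if c k x = 1 then (1 : ℚ) else 0) = 0
        rw [if_neg (by omega)]
      have hdi : dl i x = 1 := if_pos hi
      have hdj : dl j x = 1 := if_pos hj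
      have hwj : wgt j = wgt i := by
        show 1 / (2 * (r j : ℚ) ^ 2 + 2 * r j) = 1 / (2 * (r i : ℚ) ^ 2 + 2 * r i)
        rw [hrj]
        push_cast
        congr 1
        ring
      have hri0 := hr_of_one i x hi
      have hrim := hrm1 i
      rw [Fintype.sum_eq_add i j hij (fun k hk => by rw [hdk k hk]; ring),
        Fintype.sum_eq_add i j hij (fun k hk => by rw [hdk k hk]; ring),
        Fintype.sum_eq_add i j hij (fun k hk => by rw [hdk k hk]; ring)]
      rw [hdi, hdj, hwj]
      have hrjq : (r j : ℚ) = - r i - 1 := by exact_mod_cast hrj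
      rcases lt_or_gt_of_ne hri0 with hlt | hgt
      · have hjpos : 0 < r j := by omega
        have e1 : pos i = 0 := if_neg (by omega)
        have e2 : pos j = 1 := if_pos hjpos
        have e3 : neg i = 1 := if_pos hlt
        have e4 : neg j = 0 := if_neg (by omega)
        rw [e1, e2, e3, e4, hrjq]
        constructor <;> ring
      · have hjneg : r j < 0 := by omega
        have e1 : pos i = 1 := if_pos hgt
        have e2 : pos j = 0 := if_neg (by omega)
        have e3 : neg i = 0 := if_neg (by omega)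
        have e4 : neg j = 1 := if_pos hjneg
        rw [e1, e2, e3, e4, hrjq]
        constructor <;> ring
    · push Not at hex
      have hd0 : ∀ i, dl i x = 0 := fun i => if_neg (hex i)
      constructor
      · rw [Finset.sum_eq_zero (fun i _ => by rw [hd0 i]; ring),
          Finset.sum_eq_zero (fun i _ => by rw [hd0 i]; ring), neg_zero]
      · rw [Finset.sum_eq_zero (fun i _ => by rw [hd0 i]; ring),
          Finset.sum_eq_zero (fun i _ => by rw [hd0 i]; ring)]
  have hposS : ∑ i, pos i = ∑ x, ∑ i, dl i x * wgt i * pos i := by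
    rw [Finset.sum_comm]
    refine Finset.sum_congr rfl (fun i _ => ?_)
    rw [← Finset.sum_mul]
    by_cases hri : 0 < r i
    · rw [hW1 i (by omega), one_mul]
    · have : pos i = 0 := if_neg hri
      rw [this, mul_zero]
  have hnegS : ∑ i, neg i = ∑ x, ∑ i, dl i x * wgt i * neg i := by
    rw [Finset.sum_comm]
    refine Finset.sum_congr rfl (fun i _ => ?_)
    rw [← Finset.sum_mul]
    by_cases hri : r i < 0
    · rw [hW1 i (by omega), one_mul]
    · have : neg i = 0 := if_neg hri
      rw [this, mul_zero]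
  have hrS : ∑ i, (r i : ℚ) = ∑ x, ∑ i, dl i x * wgt i * r i := by
    rw [Finset.sum_comm]
    refine Finset.sum_congr rfl (fun i _ => ?_)
    rw [← Finset.sum_mul]
    by_cases hri : r i = 0
    · rw [hri]; simp
    · rw [hW1 i hri, one_mul]
  have hsumrq : ∑ i, (r i : ℚ) = -1 := by
    have : ((∑ i, r i : ℤ) : ℚ) = ((-1 : ℤ) : ℚ) := by rw [hsumr]
    rw [Int.cast_sum] at this
    rw [this]
    norm_num
  have hP1 : ∑ i, pos i = 1 := by
    rw [hposS]
    rw [hrS, Finset.sum_congr rfl (fun x _ => (hX x).1), Finset.sum_neg_distrib] at hsumrq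
    linarith
  have hN1 : ∑ i, neg i = 1 := by
    rw [hnegS, Finset.sum_congr rfl (fun x _ => (hX x).2), ← hposS, hP1]
  have hPc : (Finset.univ.filter (fun i => 0 < r i)).card = 1 := by
    have : ∑ i, pos i = ((Finset.univ.filter (fun i => 0 < r i)).card : ℚ) :=
      Finset.sum_boole _ _
    rw [hP1] at this
    exact_mod_cast this.symm
  have hNc : (Finset.univ.filter (fun i => r i < 0)).card = 1 := by
    have : ∑ i, neg i = ((Finset.univ.filter (fun i => r i < 0)).card : ℚ) :=
      Finset.sum_boole _ _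
    rw [hN1] at this
    exact_mod_cast this.symm
  obtain ⟨ip, hip⟩ := Finset.card_eq_one.mp hPc
  obtain ⟨im, him⟩ := Finset.card_eq_one.mp hNc
  have hipos : 0 < r ip := by
    have : ip ∈ Finset.univ.filter (fun i => 0 < r i) := by rw [hip]; exact Finset.mem_singleton_self _
    exact (Finset.mem_filter.mp this).2
  have himneg : r im < 0 := by
    have : im ∈ Finset.univ.filter (fun i => r i < 0) := by rw [him]; exact Finset.mem_singleton_self _
    exact (Finset.mem_filter.mp this).2
  have hPuniq : ∀ i, 0 < r i → i = ip := by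
    intro i hi
    have : i ∈ Finset.univ.filter (fun i => 0 < r i) := Finset.mem_filter.mpr ⟨Finset.mem_univ _, hi⟩
    rw [hip] at this
    exact Finset.mem_singleton.mp this
  have hNuniq : ∀ i, r i < 0 → i = im := by
    intro i hi
    have : i ∈ Finset.univ.filter (fun i => r i < 0) := Finset.mem_filter.mpr ⟨Finset.mem_univ _, hi⟩
    rw [him] at this
    exact Finset.mem_singleton.mp this
  -- the partner of a value `1` of `ip` is `im`, and conversely
  have hip_im : ∀ x, c ip x = 1 → c im x = 1 := by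
    intro x hx
    obtain ⟨j, hj, hjx⟩ := exists_partner c h0 x ip hx
    have hrj := hpart ip j x (Ne.symm hj) hx hjx
    have : j = im := hNuniq j (by omega)
    rw [← this]
    exact hjx
  have him_ip : ∀ x, c im x = 1 → c ip x = 1 := by
    intro x hx
    obtain ⟨j, hj, hjx⟩ := exists_partner c h0 x im hx
    have hrj := hpart im j x (Ne.symm hj) hx hjx
    have hm1 := hrm1 im
    have : j = ip := hPuniq j (by omega)
    rw [← this]
    exact hjx
  have hrim : r im = - r ip - 1 := by
    obtain ⟨x, hx⟩ := hex1 im (by omega)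
    have hx' := him_ip x hx
    have hne : ip ≠ im := by
      intro h
      rw [h] at hipos
      omega
    exact hpart ip im x hne hx' hx
  obtain ⟨a, ha⟩ : ∃ a : ℕ, r ip = a := ⟨(r ip).toNat, (Int.toNat_of_nonneg hipos.le).symm⟩
  have ha0 : 0 < a := by
    have : (0 : ℤ) < a := by rw [← ha]; exact hipos
    exact_mod_cast this
  refine ⟨a, ip, im, ha0, ?_, ha, ?_, ?_, ?_, ?_, ?_, ?_⟩
  · intro h
    rw [h] at hipos
    omega
  · have := hn ip (by omega)
    rw [ha] at this
    exact_mod_cast this
  · rw [hrim, ha]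
    ring
  · have := hn im (by omega)
    rw [hrim, ha] at this
    have h' : (n im : ℤ) = ((a + 1) * (2 * a + 1) : ℕ) := by
      rw [this]
      push_cast
      ring
    exact_mod_cast h'
  · intro x
    have hp1 := hle1 ip (by omega) x
    have hm1 := hle1 im (by omega) x
    refine ⟨?_, hp1⟩
    have hcp : c ip x = 0 ∨ c ip x = 1 := by omega
    have hcm : c im x = 0 ∨ c im x = 1 := by omega
    rcases hcp with hp | hp
    · rcases hcm with hm | hm
      · rw [hp, hm]
      · have := him_ip x hm
        omega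
    · rw [hp, hip_im x hp]
  · have huip := hu ip
    unfold uu at huip
    rw [Finset.sum_boole] at huip
    rw [Fintype.card_subtype]
    have h' : (((Finset.univ.filter (fun x => c ip x = 1)).card : ℕ) : ℤ) =
        ((2 * a * (a + 1) : ℕ) : ℤ) := by
      rw [huip, ha]
      push_cast
      ring
    exact_mod_cast h'
  · intro i hi1 hi2
    have hri : r i = 0 := by
      by_contra hne
      rcases lt_or_gt_of_ne hne with h | h
      · exact hi2 (hNuniq i h)
      · exact hi1 (hPuniq i h)
    exact ⟨hri, hzero i hri⟩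

end Cfsg.Agent.Lib.Helper22.W2PARITH
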