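/-
helper22: S4705 market "BS", leaf BS-NO2 `no_normal_two`.
A normal subgroup of order two is central, hence inside `C(y) = Q` for `y ∈ Q \ 1`; so `2 ∣ p`.
-/
import Mathlib

set_option autoImplicit false

namespace Cfsg.Agent.Lib.Helper22.BSNO2

universe u

variable {p : ℕ} [Fact p.Prime]

/-- a normal subgroup of order two is central -/
theorem comm_of_card_two {H : Type u} [Group H] (N : Subgroup H) (hN : N.Normal)
    (hN2 : Nat.card ↥N = 2) : ∀ n ∈ N, ∀ g : H, n * g = g * n := by
  intro n hn g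
  obtain ⟨y, -, hy⟩ := (Nat.card_eq_two_iff' (1 : ↥N)).mp hN2
  by_cases h1 : n = 1
  · rw [h1]; simp
  · have hc : g⁻¹ * n * g ∈ N := by
      have := hN.conj_mem n hn g⁻¹
      simpa using this
    have e1 : (⟨n, hn⟩ : ↥N) = y := hy _ (fun h => h1 (congrArg Subtype.val h))
    have e2 : (⟨g⁻¹ * n * g, hc⟩ : ↥N) = y := hy _ (fun h => by
      have h' : g⁻¹ * n * g = 1 := congrArg Subtype.val h
      apply h1
      have : n = g * (g⁻¹ * n * g) * g⁻¹ := by group
      rw [this, h']; group)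
    have h3 : g⁻¹ * n * g = n := congrArg Subtype.val (e2.trans e1.symm)
    calc n * g = g * (g⁻¹ * n * g) := by group
      _ = g * n := by rw [h3]

/-- BS-NO2 : no normal subgroup of order `2`. -/
theorem no_normal_two {H : Type u} [Group H] [Finite H] (hp2 : p ≠ 2) (Q : Sylow p H)
    (hQ : Nat.card (Q : Subgroup H) = p)
    (hcent : ∀ y : H, y ∈ (Q : Subgroup H) → y ≠ 1 →
      Subgroup.centralizer ({y} : Set H) = (Q : Subgroup H)) :
    ∀ N : Subgroup H, N.Normal → Nat.card N ≠ 2 := by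
  intro N hN hN2
  have hp : p.Prime := Fact.out
  -- a non-trivial element of `Q`
  have hQnt : Nontrivial (Q : Subgroup H) := by
    rw [← Finite.one_lt_card_iff_nontrivial, hQ]
    exact hp.one_lt
  obtain ⟨⟨y, hyQ⟩, hy1⟩ := exists_ne (1 : (Q : Subgroup H))
  have hy1' : y ≠ 1 := fun h => hy1 (Subtype.ext h)
  have hle : N ≤ (Q : Subgroup H) := by
    intro n hn
    rw [← hcent y hyQ hy1']
    rw [Subgroup.mem_centralizer_iff]
    intro h hh
    rw [Set.mem_singleton_iff] at hh
    rw [hh]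
    exact (comm_of_card_two N hN hN2 n hn y).symm
  have hdvd : Nat.card N ∣ Nat.card (Q : Subgroup H) := Subgroup.card_dvd_of_le hle
  rw [hN2, hQ] at hdvd
  exact hp2 ((Nat.prime_dvd_prime_iff_eq Nat.prime_two hp).mp hdvd).symm

end Cfsg.Agent.Lib.Helper22.BSNO2
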