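/-
helper22: S4705 market "BS", leaf BS-ORDER `not_psl`.
`|PSL(2,F)| = p (p² - 1) / 2` for `|F| = p` odd, and `2 p (p-1) (p-2) = p (p-1) (p+1)` only for `p = 5`.
-/
import Mathlib
import Cfsg.Agent.Lib.Helper13.PSL2

set_option autoImplicit false

namespace Cfsg.Agent.Lib.Helper22.BSORDER

universe u

variable {p : ℕ} [Fact p.Prime]

/-- the arithmetic: `q (q-1) (q-2) · 2 ≠ q (q² - 1)` for `q > 5` -/
theorem arith (q n : ℕ) (hq5 : 5 < q) (h1 : n * 2 = q * (q ^ 2 - 1)) (h2 : n = q * (q - 1) * (q - 2)) :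
    False := by
  obtain ⟨k, rfl⟩ : ∃ k, q = k + 6 := ⟨q - 6, by omega⟩
  have e1 : (k + 6) ^ 2 - 1 = (k + 5) * (k + 7) := by
    have : (k + 6) ^ 2 = (k + 5) * (k + 7) + 1 := by ring
    omega
  have e2 : k + 6 - 1 = k + 5 := by omega
  have e3 : k + 6 - 2 = k + 4 := by omega
  rw [e1] at h1
  rw [e2, e3] at h2
  subst h2
  have h3 : (k + 6) * (k + 5) * ((k + 4) * 2) = (k + 6) * (k + 5) * (k + 7) := by
    calc (k + 6) * (k + 5) * ((k + 4) * 2) = (k + 6) * (k + 5) * (k + 4) * 2 := by ring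
      _ = (k + 6) * ((k + 5) * (k + 7)) := h1
      _ = (k + 6) * (k + 5) * (k + 7) := by ring
  have h4 : 0 < (k + 6) * (k + 5) := by positivity
  have h5 := Nat.eq_of_mul_eq_mul_left h4 h3
  omega

/-- BS-ORDER : `PSL(2,p)` has the wrong order. -/
theorem not_psl {H : Type u} [Group H] [Finite H] (hp5 : 5 < p) (F : Type) [Field F] [Fintype F]
    (hF : Fintype.card F = p) (e : H ≃* Matrix.ProjectiveSpecialLinearGroup (Fin 2) F)
    (hcard : Nat.card H = p * (p - 1) * (p - 2)) : False := by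
  have hp : p.Prime := Fact.out
  have h2 : (2 : F) ≠ 0 := by
    intro h
    have h1 : addOrderOf (1 : F) ∣ 2 := by
      apply addOrderOf_dvd_of_nsmul_eq_zero
      rw [nsmul_eq_mul, mul_one]
      exact_mod_cast h
    have h3 : addOrderOf (1 : F) ∣ Fintype.card F := addOrderOf_dvd_card
    rw [hF] at h3
    rcases (Nat.dvd_prime Nat.prime_two).mp h1 with h4 | h4
    · rw [AddMonoid.addOrderOf_eq_one_iff] at h4
      exact one_ne_zero h4
    · rw [h4] at h3
      have := (Nat.prime_dvd_prime_iff_eq Nat.prime_two hp).mp h3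
      omega
  have hc := Cfsg.Agent.Lib.Helper13.card_PSL2_mul_two (F := F) h2
  rw [← Nat.card_congr e.toEquiv, hF] at hc
  exact arith p (Nat.card H) hp5 hc hcard

end Cfsg.Agent.Lib.Helper22.BSORDER
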