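/-
helper22: BRC-DEGCN (helper24's BRC market, S0999 + S4701): the degree of `Ind_N^G β` is `|G : N| = 1 + n p`,
read off the decomposition `Ind_N^G β = ∑_χ ⟨χ|_N, β⟩ χ` (helper1's `BRCAux.indFun_eq_sum`).
-/
import Mathlib
import Cfsg.Prelude.Def_BlockRank
import Cfsg.Prelude.Def_Perm
import Cfsg.Agent.Lib.Helper24.BRCDefs
import Cfsg.Agent.Lib.Helper1.BRCAux
import Cfsg.Agent.Lib.Helper6.CharExtra

set_option autoImplicit false

namespace Cfsg.Agent.Lib.Helper22.BRCDEGCN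

open Cfsg Cfsg.Agent.Lib.Helper8.DOM Cfsg.Agent.Lib.Helper27.DO Cfsg.Agent.CharLib
open Cfsg.Agent.Lib.Helper6.BRH Cfsg.Agent.Lib.Helper24.BRC
open scoped ComplexConjugate

universe u

variable {G : Type u} [Group G] [Finite G] {p : ℕ} [Fact p.Prime]

/-- the degree of an induced linear character, as a sum over its constituents -/
theorem sum_cN_mul_degree (P : Subgroup G) (β : IrrCharacter (Nz P)) (hβ1 : (β : Nz P → ℂ) 1 = 1) :
    ∑ᶠ χ : IrrCharacter G, cN P χ β * charDegree (χ : G → ℂ) = (Nz P).index := by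
  classical
  let _ : Fintype G := Fintype.ofFinite G
  let _ : Fintype (IrrCharacter G) := Fintype.ofFinite _
  have h1 := Cfsg.Agent.Lib.Helper1.BRCAux.indFun_eq_sum P β 1
  rw [Cfsg.Agent.Lib.Helper6.indFun_apply_one, hβ1, mul_one] at h1
  have hidx : (Nat.card (Nz P) : ℂ)⁻¹ * (Nat.card G : ℂ) = ((Nz P).index : ℂ) := by
    have hH : (Nat.card (Nz P) : ℂ) ≠ 0 := by exact_mod_cast Nat.card_pos.ne'
    rw [← Subgroup.card_mul_index (Nz P)]
    push_cast
    field_simp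
  rw [hidx, finsum_eq_sum_of_fintype] at h1
  rw [finsum_eq_sum_of_fintype]
  have h2 : (((Nz P).index : ℕ) : ℂ) =
      ((∑ χ : IrrCharacter G, cN P χ β * charDegree (χ : G → ℂ) : ℕ) : ℂ) := by
    rw [h1]
    push_cast
    apply Finset.sum_congr rfl
    intro χ _
    rw [apply_one_eq]
  exact_mod_cast h2.symm

variable {P : Subgroup G} {n w : ℕ} {X Y : Set (IrrCharacter G)} {v : IrrCharacter G → ℤ} {ε : ℤ}

/-- **BRC-DEGCN**.  The degree of `Ind_N^G β` is `|G : N| = 1 + n p`. -/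
theorem deg_cN (hS : Special p P n w X Y v ε) (hL : LinData P) :
    ∀ β ∈ Lin P, ∑ᶠ χ : IrrCharacter G, cN P χ β * charDegree (χ : G → ℂ) = 1 + n * p := by
  intro β hβ
  rw [sum_cN_mul_degree P β (hβ 1 (by simp)), hS.hidx]

end Cfsg.Agent.Lib.Helper22.BRCDEGCN
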