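import Mathlib
import Cfsg.Agent.Lib.Helper22.FFAbA
import Cfsg.Agent.Lib.Helper8.FFCoprime
import Cfsg.Agent.Lib.Helper4.Basic

/-!
helper22: abelian best offenders in a faithful failure-of-factorization setting for `p = 2` are elementary
abelian (`abBest_sq_eq_one`).  Uses helper8's `FFOff` structure theory (`E_facts`) for a minimal best
offender inside the abelian best offender (found by Timmesfeld replacement, `FFAbA`).
-/

set_option autoImplicit false
set_option linter.unusedSectionVars false
set_option linter.style.haveILetI false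

namespace Cfsg.Agent.Lib.Helper22.FFAb

open Subgroup Cfsg.Agent.Lib.Helper8.FFOff
open scoped commutatorElement

theorem two_enum {G : Type*} [Group G] {M : Subgroup G} (hM2 : Nat.card M = 2)
    {a b : G} (ha : a ∈ M) (hb : b ∈ M) (hab : a ≠ b) {x : G} (hx : x ∈ M) : x = a ∨ x = b := by
  classical
  have hfin : Finite M := Nat.finite_of_card_ne_zero (by rw [hM2]; norm_num)
  have hMfin : (M : Set G).Finite := Set.toFinite _
  have hs : ({a, b} : Set G) ⊆ (M : Set G) := by
    intro y hy
    simp only [Set.mem_insert_iff, Set.mem_singleton_iff] at hy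
    rcases hy with rfl | rfl <;> assumption
  have hcard : ({a, b} : Set G).ncard = 2 := Set.ncard_pair hab
  have hM : (M : Set G).ncard = 2 := by rw [← Nat.card_coe_set_eq]; exact hM2
  have heq := Set.eq_of_subset_of_ncard_le hs (by rw [hM, hcard]) hMfin
  have : x ∈ ({a, b} : Set G) := by rw [heq]; exact hx
  simpa using this

theorem four_enum {G : Type*} [Group G] {M : Subgroup G} (hM4 : Nat.card M = 4)
    {a b c d : G} (ha : a ∈ M) (hb : b ∈ M) (hc : c ∈ M) (hd : d ∈ M)
    (hab : a ≠ b) (hac : a ≠ c) (had : a ≠ d) (hbc : b ≠ c) (hbd : b ≠ d) (hcd : c ≠ d)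
    {x : G} (hx : x ∈ M) : x = a ∨ x = b ∨ x = c ∨ x = d := by
  classical
  have hfin : Finite M := Nat.finite_of_card_ne_zero (by rw [hM4]; norm_num)
  have hMfin : (M : Set G).Finite := Set.toFinite _
  have hs : ({a, b, c, d} : Set G) ⊆ (M : Set G) := by
    intro y hy
    simp only [Set.mem_insert_iff, Set.mem_singleton_iff] at hy
    rcases hy with rfl | rfl | rfl | rfl <;> assumption
  have hcard : ({a, b, c, d} : Set G).ncard = 4 := by
    rw [Set.ncard_insert_of_notMem, Set.ncard_insert_of_notMem, Set.ncard_pair hcd]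
    · simp [hbc, hbd]
    · simp [hab, hac, had]
  have hM : (M : Set G).ncard = 4 := by rw [← Nat.card_coe_set_eq]; exact hM4
  have heq := Set.eq_of_subset_of_ncard_le hs (by rw [hM, hcard]) hMfin
  have : x ∈ ({a, b, c, d} : Set G) := by rw [heq]; exact hx
  simpa using this

theorem four_group_dichotomy {G : Type*} [Group G] {M : Subgroup G} (hM4 : Nat.card M = 4)
    (hM2 : ∀ x ∈ M, x ^ 2 = 1)
    {e a w0 : G} (he : e ∈ normalizer (M : Set G)) (ha : a ∈ normalizer (M : Set G))
    (hw0 : w0 ≠ 1) (he0 : ∀ x ∈ M, ⁅e, x⁆ = 1 ∨ ⁅e, x⁆ = w0) (hew0 : e * w0 = w0 * e)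
    (haw0 : a * w0 = w0 * a) (heM : e ∉ centralizer (M : Set G)) :
    a ∈ centralizer (M : Set G) ∨ e * a ∈ centralizer (M : Set G) := by
  -- pick v not centralized by e
  have hex : ∃ v ∈ M, v * e ≠ e * v := by
    by_contra h
    push Not at h
    exact heM (mem_centralizer_iff.mpr h)
  obtain ⟨v, hvM, hve⟩ := hex
  have hcomm : ⁅e, v⁆ = w0 := by
    rcases he0 v hvM with h | h
    · exfalso
      apply hve
      rw [commutatorElement_def] at h
      have : e * v = v * e := by
        calc e * v = (e * v * e⁻¹ * v⁻¹) * v * e := by group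
          _ = v * e := by rw [h, one_mul]
      exact this.symm
    · exact h
  have hconj : e * v * e⁻¹ = w0 * v := by
    rw [← hcomm, commutatorElement_def]; group
  have hw0M : w0 ∈ M := by
    rw [← hcomm, commutatorElement_def]
    exact M.mul_mem ((mem_normalizer_iff.mp he v).mp hvM) (M.inv_mem hvM)
  have hw0sq : w0 * w0 = 1 := by rw [← pow_two]; exact hM2 w0 hw0M
  have hv1 : v ≠ 1 := by
    rintro rfl
    exact hve (by simp)
  have hvw : v ≠ w0 := by
    rintro rfl
    exact hve hew0.symm
  have hwv1 : w0 * v ≠ 1 := by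
    intro h
    have : v = w0 := by
      calc v = w0 * (w0 * v) := by rw [← mul_assoc, hw0sq, one_mul]
        _ = w0 := by rw [h, mul_one]
    exact hvw this
  have hwvM : w0 * v ∈ M := M.mul_mem hw0M hvM
  have henum : ∀ x ∈ M, x = 1 ∨ x = w0 ∨ x = v ∨ x = w0 * v := by
    intro x hx
    refine four_enum hM4 M.one_mem hw0M hvM hwvM hw0.symm hv1.symm hwv1.symm hvw.symm ?_ ?_ hx
    · intro h
      have : v = 1 := by
        have h2 : w0 * 1 = w0 * v := by rw [mul_one]; exact h
        exact (mul_left_cancel h2).symm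
      exact hv1 this
    · intro h
      have : w0 = 1 := by
        have h2 : 1 * v = w0 * v := by rw [one_mul]; exact h
        exact (mul_right_cancel h2).symm
      exact hw0 this
  have hcen : ∀ c : G, c * w0 = w0 * c → c * v = v * c → c ∈ centralizer (M : Set G) := by
    intro c h1 h2
    rw [mem_centralizer_iff]
    intro x hx
    rcases henum x hx with rfl | rfl | rfl | rfl
    · simp
    · exact h1.symm
    · exact h2.symm
    · rw [mul_assoc, ← h2, ← mul_assoc, ← h1, mul_assoc]
  have hav : a * v * a⁻¹ ∈ M := (mem_normalizer_iff.mp ha v).mp hvM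
  rcases henum _ hav with h | h | h | h
  · exfalso
    apply hv1
    have : a * v = a := by
      calc a * v = (a * v * a⁻¹) * a := by group
        _ = a := by rw [h, one_mul]
    exact mul_left_cancel (this.trans (mul_one a).symm)
  · exfalso
    apply hvw
    have : a * v = a * w0 := by
      calc a * v = (a * v * a⁻¹) * a := by group
        _ = w0 * a := by rw [h]
        _ = a * w0 := haw0.symm
    exact mul_left_cancel this
  · left
    apply hcen a haw0
    calc a * v = (a * v * a⁻¹) * a := by group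
      _ = v * a := by rw [h]
  · right
    apply hcen (e * a)
    · rw [mul_assoc, haw0, ← mul_assoc, hew0, mul_assoc]
    · have h1 : a * v = w0 * v * a := by
        calc a * v = (a * v * a⁻¹) * a := by group
          _ = w0 * v * a := by rw [h]
      have h2 : e * v = w0 * v * e := by
        calc e * v = (e * v * e⁻¹) * e := by group
          _ = w0 * v * e := by rw [hconj]
      calc e * a * v = e * (a * v) := by group
        _ = e * (w0 * v * a) := by rw [h1]
        _ = (e * w0) * v * a := by group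
        _ = w0 * (e * v) * a := by rw [hew0]; group
        _ = w0 * (w0 * v * e) * a := by rw [h2]
        _ = (w0 * w0) * v * e * a := by group
        _ = v * (e * a) := by rw [hw0sq]; group

theorem mem_centralizer_sup_iff {G : Type*} [Group G] (D A : Subgroup G) (x : G) :
    x ∈ centralizer ((D ⊔ A : Subgroup G) : Set G) ↔
      x ∈ centralizer (D : Set G) ∧ x ∈ centralizer (A : Set G) := by
  constructor
  · intro h
    exact ⟨centralizer_le (show D ≤ D ⊔ A from le_sup_left) h,
      centralizer_le (show A ≤ D ⊔ A from le_sup_right) h⟩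
  · rintro ⟨h1, h2⟩
    have h3 : D ≤ centralizer ((zpowers x : Subgroup G) : Set G) := by
      rw [le_centralizer_iff, zpowers_le]; exact h1
    have h4 : A ≤ centralizer ((zpowers x : Subgroup G) : Set G) := by
      rw [le_centralizer_iff, zpowers_le]; exact h2
    have h5 : D ⊔ A ≤ centralizer ((zpowers x : Subgroup G) : Set G) := sup_le h3 h4
    rw [le_centralizer_iff, zpowers_le] at h5
    exact h5

/-- adjoining a minimal offender `A0` (order 2, hyperplane centralizer) to `D` does not change the measure when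
`D` centralizes a subgroup `M ≤ V` not centralized by `A0` -/
theorem msr_sup_eq {G : Type*} [Group G] [Finite G] {V D A0 M : Subgroup G}
    (hDA : ∀ d ∈ D, ∀ x ∈ A0, d * x = x * d) (hA0 : Nat.card A0 = 2) (hinf : D ⊓ A0 = ⊥)
    (hK : (V ⊓ centralizer (A0 : Set G)).relIndex V = 2) (hMV : M ≤ V)
    (hDM : D ≤ centralizer (M : Set G)) (hA0M : ¬ A0 ≤ centralizer (M : Set G)) :
    msr V (D ⊔ A0) = msr V D := by
  have hnorm : D ≤ normalizer (A0 : Set G) := by
    intro d hd
    rw [mem_normalizer_iff]
    intro x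
    have key : ∀ y ∈ A0, d * y * d⁻¹ = y := by
      intro y hy
      rw [hDA d hd y hy, mul_inv_cancel_right]
    constructor
    · intro hx; rw [key x hx]; exact hx
    · intro hx
      have := key _ hx
      have h2 : d * x * d⁻¹ = x := by
        have h3 : d * (d * x * d⁻¹) = (d * x * d⁻¹) * d := hDA d hd _ hx
        have h4 : d * x * d⁻¹ * d = d * x := by group
        rw [h4] at h3
        exact mul_left_cancel h3
      rwa [h2] at hx
  have hc1 := Cfsg.Agent.Lib.Helper4.card_sup_mul_card_inf D A0 hnorm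
  rw [hinf, card_bot, mul_one, hA0] at hc1
  set K := V ⊓ centralizer (A0 : Set G) with hKdef
  set L := V ⊓ centralizer (D : Set G) with hLdef
  have hL' : V ⊓ centralizer ((D ⊔ A0 : Subgroup G) : Set G) = K ⊓ L := by
    ext x
    simp only [mem_inf, mem_centralizer_sup_iff, hKdef, hLdef]
    tauto
  have hLV : L ≤ V := inf_le_left
  have hKne : K.relIndex V ≠ 0 := by rw [hK]; norm_num
  have h1 : K.relIndex L ≤ 2 := hK ▸ relIndex_le_of_le_right hLV hKne
  have h2 : K.relIndex L ≠ 1 := by
    intro h
    rw [relIndex_eq_one] at h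
    apply hA0M
    rw [le_centralizer_iff]
    intro m hm
    have hmL : m ∈ L := mem_inf.mpr ⟨hMV hm, (le_centralizer_iff.mp hDM) hm⟩
    exact (mem_inf.mp (h hmL)).2
  have h3 : K.relIndex L ≠ 0 := by
    unfold relIndex
    exact Subgroup.FiniteIndex.index_ne_zero
  have h4 : K.relIndex L = 2 := by omega
  have h5 := Cfsg.Agent.Lib.Helper4.card_mul_relIndex (inf_le_right : K ⊓ L ≤ L)
  rw [inf_relIndex_right, h4] at h5
  unfold msr
  rw [hL', hc1, ← h5]
  ring


section main
variable {G : Type*} [Group G] [Finite G]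

/-- the subgroup generated by all best offenders inside `R` -/
noncomputable def offGen (V R : Subgroup G) : Subgroup G :=
  ⨆ A : {A : Subgroup G // A ≤ R ∧ Cfsg.IsBestOffenderOn 2 V A}, (A : Subgroup G)

theorem offGen_le (V R : Subgroup G) : offGen V R ≤ R :=
  iSup_le (fun A => A.2.1)

theorem le_offGen {V R A : Subgroup G} (hAR : A ≤ R) (hA : Cfsg.IsBestOffenderOn 2 V A) :
    A ≤ offGen V R :=
  le_iSup (fun A : {A : Subgroup G // A ≤ R ∧ Cfsg.IsBestOffenderOn 2 V A} => (A : Subgroup G))
    ⟨A, hAR, hA⟩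

theorem offGen_hS3 (V R : Subgroup G) :
    offGen V R = ⨆ A : {A : Subgroup G // A ≤ offGen V R ∧ Cfsg.IsBestOffenderOn 2 V A},
      (A : Subgroup G) := by
  apply le_antisymm
  · refine iSup_le ?_
    rintro ⟨A, hAR, hA⟩
    exact le_iSup (fun A : {A : Subgroup G // A ≤ offGen V R ∧ Cfsg.IsBestOffenderOn 2 V A} =>
      (A : Subgroup G)) ⟨A, le_offGen hAR hA, hA⟩
  · exact iSup_le (fun A => A.2.1)

theorem offGen_map_cj_le {V R : Subgroup G} {r : G} (hrV : r ∈ normalizer (V : Set G)) (hrR : r ∈ R) :
    (offGen V R).map (cj r) ≤ offGen V R := by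
  unfold offGen
  rw [Subgroup.map_iSup]
  refine iSup_le ?_
  rintro ⟨A, hAR, hA⟩
  exact le_offGen (map_cj_le_of_mem hrR hAR) (isBestOffenderOn_map_cj hrV hA)

theorem le_normalizer_offGen {V R : Subgroup G} (hRV : R ≤ normalizer (V : Set G)) :
    R ≤ normalizer ((offGen V R : Subgroup G) : Set G) := by
  intro r hr
  apply mem_normalizer_of_map_cj_eq
  apply le_antisymm (offGen_map_cj_le (hRV hr) hr)
  have h := offGen_map_cj_le (V := V) (R := R) (hRV (R.inv_mem hr)) (R.inv_mem hr)
  calc offGen V R = ((offGen V R).map (cj r⁻¹)).map (cj r) := (map_cj_inv_cancel r _).symm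
    _ ≤ (offGen V R).map (cj r) := Subgroup.map_mono h

/-- **Key claim**: abelian best offenders are elementary abelian. -/
theorem abBest_sq_eq_one {V R : Subgroup G} (hRV : R ≤ normalizer (V : Set G))
    (hRf : R ⊓ centralizer (V : Set G) = ⊥) (S : FFSetting 2 V (offGen V R)) :
    ∀ (n : ℕ) (B : Subgroup G), Nat.card B = n → B ≤ R → IsPGroup 2 B → AbBest V B →
      ∀ a ∈ B, a ^ 2 = 1 := by
  intro n
  induction n using Nat.strong_induction_on with
  | _ n ih =>
    intro B hn hBR hBp hB
    set H0 := offGen V R with hH0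
    have hV := S.hV
    have hV2 : ∀ x ∈ V, x ^ 2 = 1 := hV.2
    have hBV : B ≤ normalizer (V : Set G) := hBR.trans hRV
    by_cases hB1 : B = ⊥
    · intro a ha
      rw [hB1, mem_bot] at ha
      rw [ha, one_pow]
    have hne : ⁅V, B⁆ ≠ ⊥ := by
      intro h0
      apply hB1
      have h1 : V ≤ centralizer (B : Set G) := commutator_eq_bot_iff_le_centralizer.mp h0
      have h2 : B ≤ centralizer (V : Set G) := le_centralizer_iff.mp h1
      rw [eq_bot_iff, ← hRf]
      exact le_inf hBR h2
    obtain ⟨B0, hB0B, hbest, hne0⟩ := exists_best_offender (p := 2) hV n B hn hBV hBp hB hne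
    have hB0H : B0 ≤ H0 := le_offGen (hB0B.trans hBR) hbest
    obtain ⟨k, Bf, hBf, -, hsup⟩ :=
      best_offender_decomposition V H0 S.hV S.hHV S.hf S.hS1 B0 hB0H hbest
    have hk : 0 < k := by
      rcases Nat.eq_zero_or_pos k with h | h
      · exfalso
        subst h
        apply hne0
        have : B0 = ⊥ := by
          rw [← hsup, eq_bot_iff]
          exact iSup_le (fun i => i.elim0)
        rw [this]
        exact commutator_bot_right V
      · exact h
    set A0 := Bf ⟨0, hk⟩ with hA0def
    have hA0min : IsMinBest 2 V A0 :=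
      ⟨(hBf ⟨0, hk⟩).2.1, (hBf ⟨0, hk⟩).2.2.1, (hBf ⟨0, hk⟩).2.2.2⟩
    have hA0B0 : A0 ≤ B0 := (hBf ⟨0, hk⟩).1
    have hA0B : A0 ≤ B := hA0B0.trans hB0B
    have hA0H : A0 ≤ H0 := hA0B0.trans hB0H
    obtain ⟨hcA0, hcVA0, hrel⟩ := hA0min.cards S hA0H
    have hA0cen : A0 ≤ centralizer ((⁅V, A0⁆ : Subgroup G) : Set G) :=
      hA0min.le_centralizer_commutator S hA0H
    obtain ⟨hEH, hcM, -, hEM, -⟩ := E_facts S hA0H hA0min
    set E := EG 2 H0 A0 with hEdef
    set M := ⁅V, E⁆ with hMdef
    have hMV : M ≤ V :=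
      Cfsg.Agent.Lib.Helper1.commutator_le_of_le_normalizer (hEH.trans S.hHV)
    have hcM4 : Nat.card M = 4 := by rw [hcM]; norm_num
    -- elements of B normalize M
    have hBM : B ≤ normalizer (M : Set G) := by
      intro b hb
      apply mem_normalizer_of_map_cj_eq
      have hbV : b ∈ normalizer (V : Set G) := hBV hb
      have hbH : b ∈ normalizer ((H0 : Subgroup G) : Set G) := le_normalizer_offGen hRV (hBR hb)
      have hbA : b ∈ centralizer (A0 : Set G) := by
        rw [mem_centralizer_iff]
        intro x hx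
        exact hB.1 x (hA0B hx) b hb
      have hE' : E.map (cj b) = E := by
        rw [hEdef, map_cj_sup, map_cj_commutator, QG_map_cj hbH, map_cj_eq_self_of_mem_centralizer hbA]
      rw [hMdef, map_cj_commutator, map_cj_eq_self_of_mem_normalizer hbV, hE']
    -- the generator `e` of `A0`
    have hA0ne : A0 ≠ ⊥ := by
      intro h
      rw [h, card_bot] at hcA0
      omega
    obtain ⟨e, heA0, he1⟩ : ∃ e ∈ A0, e ≠ 1 := by
      obtain ⟨x, hx⟩ := (Subgroup.ne_bot_iff_exists_ne_one).mp hA0ne
      exact ⟨(x : G), x.2, fun h => hx (Subtype.ext h)⟩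
    have heB : e ∈ B := hA0B heA0
    have hesq : e ^ 2 = 1 := by
      have h := pow_card_eq_one' (G := A0) (x := ⟨e, heA0⟩)
      rw [hcA0] at h
      exact congrArg Subtype.val h
    have heM : e ∉ centralizer (M : Set G) := by
      intro h
      have h1 : e ∈ E ⊓ centralizer (M : Set G) := mem_inf.mpr ⟨le_sup_right (a := ⁅QG 2 H0, A0⁆) heA0, h⟩
      rw [hEM, mem_bot] at h1
      exact he1 h1
    have hA0M : ¬ A0 ≤ centralizer (M : Set G) := fun h => heM (h heA0)
    have hA0enum : ∀ x ∈ A0, x = 1 ∨ x = e := fun x hx =>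
      two_enum hcA0 A0.one_mem heA0 (Ne.symm he1) hx
    -- the nontrivial element `w0` of `[V, A0]`
    have hUne : (⁅V, A0⁆ : Subgroup G) ≠ ⊥ := hA0min.2.1
    obtain ⟨w0, hw0U, hw01⟩ : ∃ w0 ∈ (⁅V, A0⁆ : Subgroup G), w0 ≠ 1 := by
      obtain ⟨x, hx⟩ := (Subgroup.ne_bot_iff_exists_ne_one).mp hUne
      exact ⟨(x : G), x.2, fun h => hx (Subtype.ext h)⟩
    have hUenum : ∀ x ∈ (⁅V, A0⁆ : Subgroup G), x = 1 ∨ x = w0 := fun x hx =>
      two_enum hcVA0 (Subgroup.one_mem _) hw0U (Ne.symm hw01) hx
    have hew0 : e * w0 = w0 * e := ((mem_centralizer_iff.mp (hA0cen heA0)) w0 hw0U).symm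
    -- every element of `B` fixes `w0`
    have hBw0 : ∀ a ∈ B, a * w0 = w0 * a := by
      intro a ha
      have haV : a ∈ normalizer (V : Set G) := hBV ha
      have haA : a ∈ centralizer (A0 : Set G) := by
        rw [mem_centralizer_iff]
        intro x hx
        exact hB.1 x (hA0B hx) a ha
      have hU' : (⁅V, A0⁆).map (cj a) = ⁅V, A0⁆ := by
        rw [map_cj_commutator, map_cj_eq_self_of_mem_normalizer haV, map_cj_eq_self_of_mem_centralizer haA]
      have hmem : a * w0 * a⁻¹ ∈ (⁅V, A0⁆ : Subgroup G) := by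
        rw [← hU']
        exact (mem_map_cj a _ _).mpr ⟨w0, hw0U, rfl⟩
      rcases hUenum _ hmem with h | h
      · exfalso
        apply hw01
        have : a * w0 = a := by
          calc a * w0 = (a * w0 * a⁻¹) * a := by group
            _ = a := by rw [h, one_mul]
        exact mul_left_cancel (this.trans (mul_one a).symm)
      · calc a * w0 = (a * w0 * a⁻¹) * a := by group
          _ = w0 * a := by rw [h]
    have he0 : ∀ x ∈ M, ⁅e, x⁆ = 1 ∨ ⁅e, x⁆ = w0 := by
      intro x hx
      apply hUenum
      have : ⁅e, x⁆ ∈ ⁅A0, V⁆ := commutator_mem_commutator heA0 (hMV hx)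
      rwa [commutator_comm] at this
    have hdich : ∀ a ∈ B, a ∈ centralizer (M : Set G) ∨ e * a ∈ centralizer (M : Set G) := by
      intro a ha
      exact four_group_dichotomy hcM4 (fun x hx => hV2 x (hMV hx)) (hBM heB) (hBM ha) hw01 he0 hew0
        (hBw0 a ha) heM
    set B1 := B ⊓ centralizer (M : Set G) with hB1def
    have hB1B : B1 ≤ B := inf_le_left
    have heB1 : e ∉ B1 := fun h => heM (mem_inf.mp h).2
    have hB1lt : B1 < B := lt_of_le_of_ne hB1B (fun h => heB1 (h ▸ heB))
    have hcard : Nat.card ↥B1 < n := by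
      rw [← hn]
      have h := Set.ncard_lt_ncard (SetLike.coe_ssubset_coe.mpr hB1lt) (Set.toFinite _)
      rw [← _root_.Nat.card_coe_set_eq, ← _root_.Nat.card_coe_set_eq] at h
      exact h
    have hBsup : B = B1 ⊔ A0 := by
      apply le_antisymm
      · intro a ha
        rcases hdich a ha with h | h
        · exact le_sup_left (a := B1) (mem_inf.mpr ⟨ha, h⟩)
        · have h1 : e * a ∈ B1 := mem_inf.mpr ⟨B.mul_mem heB ha, h⟩
          have h2 : a = e * (e * a) := by
            rw [← mul_assoc, ← pow_two, hesq, one_mul]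
          rw [h2]
          exact (B1 ⊔ A0).mul_mem (le_sup_right (a := B1) heA0) (le_sup_left (a := B1) h1)
      · exact sup_le hB1B hA0B
    have hmsr : ∀ D : Subgroup G, D ≤ B1 → msr V (D ⊔ A0) = msr V D := by
      intro D hD
      refine msr_sup_eq (M := M) ?_ hcA0 ?_ hrel hMV (hD.trans inf_le_right) hA0M
      · intro d hd x hx
        exact hB.1 d (hB1B (hD hd)) x (hA0B hx)
      · rw [eq_bot_iff]
        intro x hx
        rw [mem_bot]
        rcases hA0enum x (mem_inf.mp hx).2 with h | h
        · exact h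
        · exfalso
          exact heB1 (h ▸ hD (mem_inf.mp hx).1)
    have hB1best : AbBest V B1 := by
      refine ⟨fun a ha b hb => hB.1 a (hB1B ha) b (hB1B hb), ?_⟩
      intro D hD
      rw [← hmsr D hD, ← hmsr B1 le_rfl, ← hBsup]
      exact hB.2 _ (sup_le (hD.trans hB1B) hA0B)
    have ih1 := ih _ hcard B1 rfl (hB1B.trans hBR) (hBp.to_le hB1B) hB1best
    intro a ha
    rcases hdich a ha with h | h
    · exact ih1 a (mem_inf.mpr ⟨ha, h⟩)
    · have h1 : e * a ∈ B1 := mem_inf.mpr ⟨B.mul_mem heB ha, h⟩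
      have h2 := ih1 _ h1
      have hcomm : e * a = a * e := hB.1 e heB a ha
      have h3 : (e * a) ^ 2 = e ^ 2 * a ^ 2 := (show Commute e a from hcomm).mul_pow 2
      rw [h3, hesq, one_mul] at h2
      exact h2

end main

end Cfsg.Agent.Lib.Helper22.FFAb
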