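import Mathlib
import Cfsg.Agent.Lib.Helper22.FFAbB
import Cfsg.Agent.Lib.Helper22.FFAbC
import Cfsg.Agent.Lib.Helper8.FFCoprimeG
import Cfsg.Agent.Lib.Helper8.FFOffF
import Cfsg.Agent.Lib.Helper25.PSolvableOfSolvable

/-!
helper22: transfer of the abelian-version Thompson subgroup to the failure-of-factorization setting
`V ⋊ X/C_X(V)` (pieces for S4302).
-/

set_option autoImplicit false
set_option linter.unusedSectionVars false
set_option linter.style.haveILetI false

namespace Cfsg.Agent.Lib.Helper22.FFAb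

open Subgroup
open Cfsg.Agent.Lib.Helper8.Bridge Cfsg.Agent.Lib.Helper8.FFOff

section L7
variable {X : Type*} [Group X] [Finite X]

/-- an abelian subgroup of largest order in `T'` has largest measure on any abelian `W ≤ T'`
among its subgroups -/
theorem msr_le_of_max_abelian {W T' A : Subgroup X} (hWc : ∀ x ∈ W, ∀ y ∈ W, x * y = y * x)
    (hWT : W ≤ T') (hAc : ∀ a ∈ A, ∀ b ∈ A, a * b = b * a)
    (hmax : ∀ B : Subgroup X, B ≤ T' → (∀ a ∈ B, ∀ b ∈ B, a * b = b * a) → Nat.card B ≤ Nat.card A)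
    (hAT : A ≤ T') {D : Subgroup X} (hD : D ≤ A) : msr W D ≤ msr W A := by
  set CD : Subgroup X := W ⊓ centralizer (D : Set X) with hCD
  have h1 : CD ≤ normalizer (D : Set X) := inf_le_right.trans (centralizer_le_normalizer (D : Set X))
  have h2 := Cfsg.Agent.Lib.Helper4.card_sup_mul_card_inf CD D h1
  have hDCD : D ≤ centralizer (CD : Set X) := le_centralizer_iff.mp inf_le_right
  have hcen : CD ⊔ D ≤ centralizer ((CD ⊔ D : Subgroup X) : Set X) := by
    refine sup_le ?_ ?_
    · intro x hx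
      rw [mem_centralizer_sup_iff]
      refine ⟨?_, hx.2⟩
      rw [mem_centralizer_iff]
      intro y hy
      exact hWc y hy.1 x hx.1
    · intro d hd
      rw [mem_centralizer_sup_iff]
      refine ⟨hDCD hd, ?_⟩
      rw [mem_centralizer_iff]
      intro y hy
      exact hAc y (hD hy) d (hD hd)
  have hab : ∀ a ∈ CD ⊔ D, ∀ b ∈ CD ⊔ D, a * b = b * a := by
    intro a ha b hb
    exact (mem_centralizer_iff.mp (hcen hb)) a ha
  have hle : CD ⊔ D ≤ T' := sup_le (inf_le_left.trans hWT) (hD.trans hAT)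
  have h3 := hmax _ hle hab
  have h4 : CD ⊓ D ≤ W ⊓ centralizer (A : Set X) := by
    intro x hx
    refine ⟨hx.1.1, ?_⟩
    show x ∈ centralizer (A : Set X)
    rw [mem_centralizer_iff]
    intro y hy
    exact hAc y hy x (hD hx.2)
  have h5 : Nat.card ↥(CD ⊓ D) ≤ Nat.card ↥(W ⊓ centralizer (A : Set X)) := card_le_of_le h4
  unfold msr
  calc Nat.card D * Nat.card ↥(W ⊓ centralizer (D : Set X))
      = Nat.card ↥(CD ⊔ D) * Nat.card ↥(CD ⊓ D) := by rw [h2, mul_comm]
    _ ≤ Nat.card A * Nat.card ↥(W ⊓ centralizer (A : Set X)) := Nat.mul_le_mul h3 h5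

end L7

section L8
universe u
variable {G : Type u} [Group G] [Finite G] (V : Subgroup G) [V.Normal]

/-- abelian best offenders map to abelian best offenders in `V ⋊ G/C_G(V)` -/
theorem abBest_map_pi {A : Subgroup G} (hA : AbBest V A) : AbBest (V' V) (A.map (pi V)) := by
  obtain ⟨hc, h1⟩ := hA
  refine ⟨?_, ?_⟩
  · rintro _ ⟨a, ha, rfl⟩ _ ⟨b, hb, rfl⟩
    rw [← map_mul, ← map_mul, hc a ha b hb]
  · intro B' hB'
    set B : Subgroup G := A ⊓ B'.comap (pi V) with hB
    have hBmap : B.map (pi V) = B' := by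
      apply le_antisymm
      · rintro _ ⟨b, hb, rfl⟩
        exact hb.2
      · intro x hx
        obtain ⟨a, ha, rfl⟩ := hB' hx
        exact ⟨a, ⟨ha, hx⟩, rfl⟩
    have hBC : B ⊓ centralizer (V : Set G) = A ⊓ centralizer (V : Set G) := by
      apply le_antisymm
      · exact inf_le_inf_right _ inf_le_left
      · intro x hx
        refine ⟨⟨hx.1, ?_⟩, hx.2⟩
        have : x ∈ (pi V).ker := by rw [ker_pi]; exact hx.2
        show pi V x ∈ B'
        rw [MonoidHom.mem_ker.mp this]
        exact one_mem _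
    have e1 := card_map_pi_mul V B
    have e2 := card_map_pi_mul V A
    rw [hBmap, hBC] at e1
    have e3 := card_V'_inf_centralizer_map V B
    rw [hBmap] at e3
    have e4 := card_V'_inf_centralizer_map V A
    have hle := h1 B inf_le_left
    unfold msr at hle ⊢
    rw [e3, e4]
    have hpos : 0 < Nat.card ↥(A ⊓ centralizer (V : Set G)) := Nat.card_pos
    apply Nat.le_of_mul_le_mul_right _ hpos
    calc Nat.card ↥B' * Nat.card ↥(V ⊓ centralizer (B : Set G)) * Nat.card ↥(A ⊓ centralizer (V : Set G))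
        = (Nat.card ↥B' * Nat.card ↥(A ⊓ centralizer (V : Set G))) * Nat.card ↥(V ⊓ centralizer (B : Set G)) := by ring
      _ = Nat.card B * Nat.card ↥(V ⊓ centralizer (B : Set G)) := by rw [e1]
      _ ≤ Nat.card A * Nat.card ↥(V ⊓ centralizer (A : Set G)) := hle
      _ = (Nat.card ↥(A.map (pi V)) * Nat.card ↥(A ⊓ centralizer (V : Set G))) * Nat.card ↥(V ⊓ centralizer (A : Set G)) := by rw [e2]
      _ = Nat.card ↥(A.map (pi V)) * Nat.card ↥(V ⊓ centralizer (A : Set G)) * Nat.card ↥(A ⊓ centralizer (V : Set G)) := by ring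

end L8

end Cfsg.Agent.Lib.Helper22.FFAb
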