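import Mathlib
import Cfsg.Agent.Lib.Helper13.SL2

/-!
helper22: `SL₂(𝔽₂) ≃* S₃`, and an internal direct product of finitely many copies of a group `P`
is isomorphic to `Fin n → P`.
-/

set_option autoImplicit false
set_option linter.unusedSectionVars false

namespace Cfsg.Agent.Lib.Helper22.FFAb

open Matrix

/-- the nonzero vectors of `𝔽₂²` -/
abbrev NZ2 : Type := {v : Fin 2 → ZMod 2 // v ≠ 0}

noncomputable instance instMulActionNZ2 : MulAction (SpecialLinearGroup (Fin 2) (ZMod 2)) NZ2 where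
  smul g v := ⟨g • v.1, fun h => v.2 (by
    have h1 := congrArg (fun w => g⁻¹ • w) h
    simpa using h1)⟩
  one_smul v := Subtype.ext (one_smul _ v.1)
  mul_smul g h v := Subtype.ext (mul_smul g h v.1)

theorem smul_NZ2_val (g : SpecialLinearGroup (Fin 2) (ZMod 2)) (v : NZ2) :
    (g • v).1 = g.1 *ᵥ v.1 := rfl

theorem card_NZ2 : Fintype.card NZ2 = 3 := by decide

theorem toPermHom_NZ2_injective :
    Function.Injective (MulAction.toPermHom (SpecialLinearGroup (Fin 2) (ZMod 2)) NZ2) := by
  rw [injective_iff_map_eq_one]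
  intro g hg
  have h0 : g • (⟨![1, 0], by decide⟩ : NZ2) = ⟨![1, 0], by decide⟩ := by
    have := congrArg (fun σ : Equiv.Perm NZ2 => σ ⟨![1, 0], by decide⟩) hg
    simpa using this
  have h1 : g • (⟨![0, 1], by decide⟩ : NZ2) = ⟨![0, 1], by decide⟩ := by
    have := congrArg (fun σ : Equiv.Perm NZ2 => σ ⟨![0, 1], by decide⟩) hg
    simpa using this
  have h0' := congrArg Subtype.val h0
  have h1' := congrArg Subtype.val h1
  rw [smul_NZ2_val] at h0' h1'
  apply Subtype.ext
  ext i j
  have a0 := congrFun h0' i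
  have a1 := congrFun h1' i
  simp only [Matrix.mulVec, dotProduct, Fin.sum_univ_two] at a0 a1
  fin_cases i <;> fin_cases j <;> simp_all

theorem card_SL2_two : Nat.card (SpecialLinearGroup (Fin 2) (ZMod 2)) = 6 := by
  have : Fact (Nat.Prime 2) := ⟨by norm_num⟩
  have := Cfsg.Agent.Lib.Helper13.card_SL2 (F := ZMod 2)
  rw [ZMod.card] at this
  rw [this]
  norm_num

/-- `SL₂(𝔽₂) ≃* S₃` -/
theorem nonempty_SL2_two_equiv_perm :
    Nonempty (SpecialLinearGroup (Fin 2) (ZMod 2) ≃* Equiv.Perm (Fin 3)) := by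
  have hbij : Function.Bijective (MulAction.toPermHom (SpecialLinearGroup (Fin 2) (ZMod 2)) NZ2) := by
    rw [Nat.bijective_iff_injective_and_card]
    refine ⟨toPermHom_NZ2_injective, ?_⟩
    rw [card_SL2_two, Nat.card_eq_fintype_card, Fintype.card_perm, card_NZ2]
    rfl
  have e : NZ2 ≃ Fin 3 := Fintype.equivFinOfCardEq card_NZ2
  exact ⟨(MulEquiv.ofBijective _ hbij).trans e.permCongrHom⟩

section prod
variable {G : Type*} [Group G]

/-- an internal direct product of copies of `P`, indexed by a finite type, is `Fin n → P` -/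
theorem nonempty_mulEquiv_pi_of_iSupIndep {ι : Type*} [Finite ι] (H : ι → Subgroup G)
    (K : Subgroup G) (hN : ∀ i, K ≤ Subgroup.normalizer ((H i : Subgroup G) : Set G))
    (hind : iSupIndep H) (hsup : ⨆ i, H i = K) {P : Type*} [Group P]
    (hiso : ∀ i, Nonempty (↥(H i) ≃* P)) :
    Nonempty (↥K ≃* (Fin (Nat.card ι) → P)) := by
  classical
  have : Fintype ι := Fintype.ofFinite ι
  have hle : ∀ i, H i ≤ K := fun i => hsup ▸ le_iSup H i
  have hcomm : Pairwise fun i j : ι => ∀ x y : G, x ∈ H i → y ∈ H j → Commute x y := by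
    intro i j hij x y hx hy
    have hd : Disjoint (H i) (H j) := hind.pairwiseDisjoint hij
    have hxj : x ∈ Subgroup.normalizer ((H j : Subgroup G) : Set G) := hN j (hle i hx)
    have hyi : y ∈ Subgroup.normalizer ((H i : Subgroup G) : Set G) := hN i (hle j hy)
    have h1 : x * y * x⁻¹ * y⁻¹ ∈ H i := by
      have : y * x⁻¹ * y⁻¹ ∈ H i := (Subgroup.mem_normalizer_iff.mp hyi x⁻¹).mp ((H i).inv_mem hx)
      have := (H i).mul_mem hx this
      convert this using 1
      group
    have h2 : x * y * x⁻¹ * y⁻¹ ∈ H j := by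
      have : x * y * x⁻¹ ∈ H j := (Subgroup.mem_normalizer_iff.mp hxj y).mp hy
      exact (H j).mul_mem this ((H j).inv_mem hy)
    have h3 : x * y * x⁻¹ * y⁻¹ = 1 := by
      have := Subgroup.disjoint_def.mp hd h1 h2
      exact this
    show x * y = y * x
    calc x * y = (x * y * x⁻¹ * y⁻¹) * (y * x) := by group
      _ = y * x := by rw [h3, one_mul]
  have hinj := Subgroup.injective_noncommPiCoprod_of_iSupIndep (hcomm := hcomm) hind
  have hrange : (Subgroup.noncommPiCoprod hcomm).range = K := by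
    rw [Subgroup.noncommPiCoprod_range, hsup]
  let e1 : (∀ i : ι, ↥(H i)) ≃* ↥(Subgroup.noncommPiCoprod hcomm).range :=
    MonoidHom.ofInjective hinj
  let e2 : ↥(Subgroup.noncommPiCoprod hcomm).range ≃* ↥K := MulEquiv.subgroupCongr hrange
  let e3 : (∀ i : ι, ↥(H i)) ≃* (ι → P) := MulEquiv.piCongrRight (fun i => (hiso i).some)
  let e4 : (ι → P) ≃* (Fin (Nat.card ι) → P) :=
    MulEquiv.arrowCongr ((Fintype.equivFin ι).trans (finCongr (Nat.card_eq_fintype_card).symm))
      (MulEquiv.refl P)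
  exact ⟨(e2.symm.trans e1.symm).trans (e3.trans e4)⟩

end prod

end Cfsg.Agent.Lib.Helper22.FFAb
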