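import Mathlib
import Cfsg.Agent.Lib.Helper22.FFAbD
import Cfsg.Agent.Lib.Helper22.FFAbE
import Cfsg.Agent.Lib.Helper16.Minimal

/-!
helper22: Glauberman's failure-of-factorization theorem for solvable groups with `F(X) = O₂(X)` and
the abelian-version Thompson subgroup (assembly for S4302).
-/

set_option autoImplicit false
set_option linter.unusedSectionVars false
set_option linter.style.haveILetI false

namespace Cfsg.Agent.Lib.Helper22.FFAb

open Subgroup
open Cfsg.Agent.Lib.Helper8.Bridge Cfsg.Agent.Lib.Helper8.FFOff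

section thompson
variable {X : Type*} [Group X]

theorem maxAbelian_map_props [Finite X] (T : Subgroup X) {A' : Subgroup ↥T}
    (hA' : A' ∈ Cfsg.maxAbelianSubgroups ↥T) :
    A'.map T.subtype ≤ T ∧
    (∀ a ∈ A'.map T.subtype, ∀ b ∈ A'.map T.subtype, a * b = b * a) ∧
    (∀ B : Subgroup X, B ≤ T → (∀ a ∈ B, ∀ b ∈ B, a * b = b * a) →
      Nat.card B ≤ Nat.card ↥(A'.map T.subtype)) ∧
    A'.map T.subtype ≤ Cfsg.thompsonSubgroupAOf T := by
  refine ⟨Subgroup.map_subtype_le A', ?_, ?_, ?_⟩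
  · rintro _ ⟨a, ha, rfl⟩ _ ⟨b, hb, rfl⟩
    have h := (isMulCommutative_iff.mp hA'.1) ⟨a, ha⟩ ⟨b, hb⟩
    have h2 := congrArg (fun z : ↥A' => ((z : ↥T) : X)) h
    simpa using h2
  · intro B hBT hBc
    have hB' : IsMulCommutative ↥(B.subgroupOf T) := by
      rw [isMulCommutative_iff]
      rintro ⟨x, hx⟩ ⟨y, hy⟩
      apply Subtype.ext
      apply Subtype.ext
      exact hBc x.1 (mem_subgroupOf.mp hx) y.1 (mem_subgroupOf.mp hy)
    have h1 := hA'.2 _ hB'
    have h2 : Nat.card ↥(B.subgroupOf T) = Nat.card B :=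
      Nat.card_congr (Subgroup.subgroupOfEquivOfLe hBT).toEquiv
    have h3 : Nat.card ↥(A'.map T.subtype) = Nat.card A' :=
      card_map_of_injective T.subtype_injective
    rw [h3, ← h2]
    exact h1
  · exact Subgroup.map_mono (le_sSup hA')

theorem thompsonSubgroupAOf_le_iff (T K : Subgroup X) :
    Cfsg.thompsonSubgroupAOf T ≤ K ↔
      ∀ A' ∈ Cfsg.maxAbelianSubgroups ↥T, A'.map T.subtype ≤ K := by
  unfold Cfsg.thompsonSubgroupAOf Cfsg.thompsonSubgroupA
  rw [Subgroup.map_le_iff_le_comap, sSup_le_iff]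
  simp only [Subgroup.map_le_iff_le_comap]

theorem thompsonSubgroupAOf_le (T : Subgroup X) : Cfsg.thompsonSubgroupAOf T ≤ T :=
  Subgroup.map_subtype_le _

/-- an abelian subgroup of `T` of largest order lies in `J(T)` -/
theorem le_thompsonSubgroupAOf [Finite X] {T A : Subgroup X} (hAT : A ≤ T)
    (hAc : ∀ a ∈ A, ∀ b ∈ A, a * b = b * a)
    (hmax : ∀ B : Subgroup X, B ≤ T → (∀ a ∈ B, ∀ b ∈ B, a * b = b * a) → Nat.card B ≤ Nat.card A) :
    A ≤ Cfsg.thompsonSubgroupAOf T := by
  have hmem : A.subgroupOf T ∈ Cfsg.maxAbelianSubgroups ↥T := by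
    refine ⟨?_, ?_⟩
    · rw [isMulCommutative_iff]
      rintro ⟨x, hx⟩ ⟨y, hy⟩
      apply Subtype.ext
      apply Subtype.ext
      exact hAc x.1 (mem_subgroupOf.mp hx) y.1 (mem_subgroupOf.mp hy)
    · intro B' hB'
      have h1 : Nat.card ↥(B'.map T.subtype) = Nat.card B' :=
        card_map_of_injective T.subtype_injective
      have h2 : Nat.card ↥(A.subgroupOf T) = Nat.card A :=
        Nat.card_congr (Subgroup.subgroupOfEquivOfLe hAT).toEquiv
      rw [h2, ← h1]
      apply hmax _ (Subgroup.map_subtype_le B')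
      rintro _ ⟨a, ha, rfl⟩ _ ⟨b, hb, rfl⟩
      have h := (isMulCommutative_iff.mp hB') ⟨a, ha⟩ ⟨b, hb⟩
      have h2 := congrArg (fun z : ↥B' => ((z : ↥T) : X)) h
      simpa using h2
  have h3 : (A.subgroupOf T).map T.subtype = A := by
    rw [Subgroup.subgroupOf_map_subtype, inf_of_le_left hAT]
  rw [← h3]
  exact Subgroup.map_mono (le_sSup hmem)

/-- `N_X(T ∩ Y) ≤ N_X(J(T))` whenever `J(T) ≤ Y` -/
theorem normalizer_inf_le_normalizer_thompson [Finite X] {T Y : Subgroup X}
    (hJY : Cfsg.thompsonSubgroupAOf T ≤ Y) :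
    normalizer ((T ⊓ Y : Subgroup X) : Set X) ≤
      normalizer ((Cfsg.thompsonSubgroupAOf T : Subgroup X) : Set X) := by
  have key : ∀ g ∈ normalizer ((T ⊓ Y : Subgroup X) : Set X),
      (Cfsg.thompsonSubgroupAOf T).map (cj g) ≤ Cfsg.thompsonSubgroupAOf T := by
    intro g hg
    rw [Subgroup.map_le_iff_le_comap, thompsonSubgroupAOf_le_iff]
    intro A' hA'
    obtain ⟨h1, h2, h3, h4⟩ := maxAbelian_map_props T hA'
    rw [← Subgroup.map_le_iff_le_comap]
    have hle : (A'.map T.subtype).map (cj g) ≤ T ⊓ Y := by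
      rw [← map_cj_eq_self_of_mem_normalizer hg]
      exact Subgroup.map_mono (le_inf h1 (h4.trans hJY))
    apply le_thompsonSubgroupAOf (hle.trans inf_le_left)
    · rintro _ ⟨a, ha, rfl⟩ _ ⟨b, hb, rfl⟩
      rw [← map_mul, ← map_mul, h2 a ha b hb]
    · intro B hBT hBc
      rw [card_map_cj]
      exact h3 B hBT hBc
  intro g hg
  apply mem_normalizer_of_map_cj_eq
  apply le_antisymm (key g hg)
  have h := key g⁻¹ (inv_mem hg)
  calc Cfsg.thompsonSubgroupAOf T
      = ((Cfsg.thompsonSubgroupAOf T).map (cj g⁻¹)).map (cj g) := (map_cj_inv_cancel g _).symm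
    _ ≤ (Cfsg.thompsonSubgroupAOf T).map (cj g) := Subgroup.map_mono h

/-- Frattini: `X = Y N_X(J(T))` for the normal closure `Y` of `J(T)` -/
theorem normalClosure_thompson_sup_normalizer [Finite X] (T : Sylow 2 X) :
    normalClosure ((Cfsg.thompsonSubgroupAOf (T : Subgroup X) : Subgroup X) : Set X) ⊔
      normalizer ((Cfsg.thompsonSubgroupAOf (T : Subgroup X) : Subgroup X) : Set X) = ⊤ := by
  have : Fact (Nat.Prime 2) := ⟨Nat.prime_two⟩
  set Y := normalClosure ((Cfsg.thompsonSubgroupAOf (T : Subgroup X) : Subgroup X) : Set X) with hY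
  have hYn : Y.Normal := normalClosure_normal
  obtain ⟨P, hP⟩ := Cfsg.Agent.Lib.Helper16.exists_sylow_of_normal_inf T Y
  have hfr := Sylow.normalizer_sup_eq_top P
  rw [hP] at hfr
  have hle := normalizer_inf_le_normalizer_thompson (T := (T : Subgroup X)) (Y := Y) subset_normalClosure
  rw [eq_top_iff, ← hfr, sup_comm]
  exact sup_le_sup_left hle _

end thompson

section main
universe u
variable {X : Type u} [Group X] [Finite X] [Group.IsSolvable X]
  (hF : Cfsg.fittingSubgroup X = Cfsg.pCore 2 X) (T : Sylow 2 X)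

theorem isPSolvable_two_of_isSolvable : Cfsg.IsPSolvable 2 X :=
  Cfsg.Agent.Lib.Helper25.isPSolvable_of_isSolvable' 2 Nat.prime_two inferInstance

/-- FF setting for the image of a normal subgroup in `W ⋊ X/C_X(W)` -/
theorem ffSetting_map_pi (Y : Subgroup X) [Y.Normal] :
    FFSetting 2 (V' (Wm hF T)) (Y.map (pi (Wm hF T))) where
  hV := isElementaryAbelian_V' (Wm hF T) (Wm_isElementaryAbelian hF T)
  hHV := by rw [normalizer_eq_top]; exact le_top
  hf := by
    rw [eq_bot_iff, ← range_pi_inf_centralizer (Wm hF T)]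
    exact inf_le_inf_right _ (Subgroup.map_le_range _ _)
  hS1 := hS1_map_pi (Wm hF T) isPSolvable_two_of_isSolvable (pCore_quotient_centralizer_Wm hF T) Y

theorem range_le_normalizer_V' :
    (pi (Wm hF T)).range ≤ normalizer ((V' (Wm hF T) : Subgroup (Gam (Wm hF T))) : Set (Gam (Wm hF T))) := by
  rw [normalizer_eq_top]; exact le_top

theorem ffSetting_offGen :
    FFSetting 2 (V' (Wm hF T)) (offGen (V' (Wm hF T)) (pi (Wm hF T)).range) := by
  have hn := le_normalizer_offGen (range_le_normalizer_V' hF T)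
  have hnorm : ((offGen (V' (Wm hF T)) (pi (Wm hF T)).range).comap (pi (Wm hF T))).Normal := by
    constructor
    intro x hx g
    show pi (Wm hF T) (g * x * g⁻¹) ∈ offGen (V' (Wm hF T)) (pi (Wm hF T)).range
    rw [map_mul, map_mul, map_inv]
    exact (mem_normalizer_iff.mp (hn ⟨g, rfl⟩) _).mp hx
  have hmap := map_comap_pi (Wm hF T) _ (offGen_le (V' (Wm hF T)) (pi (Wm hF T)).range)
  have h := ffSetting_map_pi hF T ((offGen (V' (Wm hF T)) (pi (Wm hF T)).range).comap (pi (Wm hF T)))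
  rw [hmap] at h
  exact h

/-- abelian subgroups of `T` of largest order map to best offenders -/
theorem isBestOffenderOn_map_pi_of_max {A : Subgroup X} (hAT : A ≤ (T : Subgroup X))
    (hAc : ∀ a ∈ A, ∀ b ∈ A, a * b = b * a)
    (hmax : ∀ B : Subgroup X, B ≤ (T : Subgroup X) → (∀ a ∈ B, ∀ b ∈ B, a * b = b * a) →
      Nat.card B ≤ Nat.card A) :
    Cfsg.IsBestOffenderOn 2 (V' (Wm hF T)) (A.map (pi (Wm hF T))) := by
  have hAb : AbBest (Wm hF T) A :=
    ⟨hAc, fun D hD => msr_le_of_max_abelian (Wm_comm hF T) (Wm_le_sylow hF T) hAc hmax hAT hD⟩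
  have hAb' := abBest_map_pi (Wm hF T) hAb
  have hp : IsPGroup 2 ↥(A.map (pi (Wm hF T))) := by
    have h1 : IsPGroup 2 A := T.isPGroup'.to_le hAT
    exact h1.map (pi (Wm hF T))
  have hsq := abBest_sq_eq_one (range_le_normalizer_V' hF T) (range_pi_inf_centralizer (Wm hF T))
    (ffSetting_offGen hF T) _ (A.map (pi (Wm hF T))) rfl (Subgroup.map_le_range _ _) hp hAb'
  refine ⟨fun B hB => hAb'.2 B hB, ?_, ?_⟩
  · have h0 : ⁅A.map (pi (Wm hF T)), A.map (pi (Wm hF T))⁆ = ⊥ := by
      rw [commutator_eq_bot_iff_le_centralizer]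
      intro a ha
      rw [mem_centralizer_iff]
      intro b hb
      exact hAb'.1 b hb a ha
    rw [h0]
    exact bot_le
  · intro a ha
    rw [hsq a ha]
    exact one_mem _

theorem offGen_map_cj_le' {G : Type*} [Group G] [Finite G] {V R : Subgroup G} {r : G}
    (hrV : r ∈ normalizer (V : Set G)) (hrR : R.map (cj r) ≤ R) :
    (offGen V R).map (cj r) ≤ offGen V R := by
  unfold offGen
  rw [Subgroup.map_iSup]
  refine iSup_le ?_
  rintro ⟨A, hAR, hA⟩
  exact le_offGen ((Subgroup.map_mono hAR).trans hrR) (isBestOffenderOn_map_cj hrV hA)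

/-- the image of `⟨J(T)^X⟩` is generated by its best offenders -/
theorem map_pi_normalClosure_eq_offGen :
    (normalClosure ((Cfsg.thompsonSubgroupAOf (T : Subgroup X) : Subgroup X) : Set X)).map (pi (Wm hF T)) =
      offGen (V' (Wm hF T))
        ((normalClosure ((Cfsg.thompsonSubgroupAOf (T : Subgroup X) : Subgroup X) : Set X)).map
          (pi (Wm hF T))) := by
  set Y := normalClosure ((Cfsg.thompsonSubgroupAOf (T : Subgroup X) : Subgroup X) : Set X) with hY
  have hYn : Y.Normal := normalClosure_normal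
  set H1 := Y.map (pi (Wm hF T)) with hH1
  apply le_antisymm _ (offGen_le _ _)
  rw [hH1, Subgroup.map_le_iff_le_comap]
  have hnorm : ((offGen (V' (Wm hF T)) H1).comap (pi (Wm hF T))).Normal := by
    constructor
    intro x hx g
    show pi (Wm hF T) (g * x * g⁻¹) ∈ offGen (V' (Wm hF T)) H1
    rw [map_mul, map_mul, map_inv]
    have hrV : pi (Wm hF T) g ∈
        normalizer ((V' (Wm hF T) : Subgroup (Gam (Wm hF T))) : Set (Gam (Wm hF T))) := by
      rw [normalizer_eq_top]; exact mem_top _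
    have hrR : H1.map (cj (pi (Wm hF T) g)) ≤ H1 := by
      rintro _ ⟨_, ⟨y, hy, rfl⟩, rfl⟩
      refine ⟨g * y * g⁻¹, hYn.conj_mem y hy g, ?_⟩
      rw [map_mul, map_mul, map_inv]
      rfl
    apply offGen_map_cj_le' hrV hrR
    exact ⟨_, hx, rfl⟩
  apply normalClosure_le_normal
  show Cfsg.thompsonSubgroupAOf (T : Subgroup X) ≤ (offGen (V' (Wm hF T)) H1).comap (pi (Wm hF T))
  rw [thompsonSubgroupAOf_le_iff]
  intro A' hA'
  obtain ⟨h1, h2, h3, h4⟩ := maxAbelian_map_props (T : Subgroup X) hA'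
  rw [← Subgroup.map_le_iff_le_comap]
  apply le_offGen
  · exact Subgroup.map_mono (h4.trans subset_normalClosure)
  · exact isBestOffenderOn_map_pi_of_max hF T h1 h2 h3

include hF in
/-- **Glauberman**: `Y ≤ C` or `Y / (Y ∩ C)` is a direct product of copies of `S₃`. -/
theorem normalClosure_thompson_structure :
    normalClosure ((Cfsg.thompsonSubgroupAOf (T : Subgroup X) : Subgroup X) : Set X) ≤
        (centralizer ((ZT T : Subgroup X) : Set X)).normalCore ∨
      ∃ n : ℕ, 1 ≤ n ∧ Nonempty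
        (↥(normalClosure ((Cfsg.thompsonSubgroupAOf (T : Subgroup X) : Subgroup X) : Set X)) ⧸
          ((centralizer ((ZT T : Subgroup X) : Set X)).normalCore).subgroupOf
            (normalClosure ((Cfsg.thompsonSubgroupAOf (T : Subgroup X) : Subgroup X) : Set X)) ≃*
          (Fin n → Equiv.Perm (Fin 3))) := by
  set Y := normalClosure ((Cfsg.thompsonSubgroupAOf (T : Subgroup X) : Subgroup X) : Set X) with hY
  have hYn : Y.Normal := normalClosure_normal
  set C := (centralizer ((ZT T : Subgroup X) : Set X)).normalCore with hC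
  have hCW : centralizer ((Wm hF T : Subgroup X) : Set X) = C := centralizer_Wm hF T
  by_cases hYC : Y ≤ C
  · exact Or.inl hYC
  right
  set H1 := Y.map (pi (Wm hF T)) with hH1
  have hne : H1 ≠ ⊥ := by
    intro h0
    apply hYC
    rw [hH1, Subgroup.map_eq_bot_iff, ker_pi, hCW] at h0
    exact h0
  have hS := ffSetting_map_pi hF T Y
  have hS3 := map_pi_normalClosure_eq_offGen hF T
  obtain ⟨-, hE, hind, hsup, -, -⟩ := ff_structure hS hS3 hne
  have hiso : ∀ E : {E : Subgroup (Gam (Wm hF T)) // IsE 2 (V' (Wm hF T)) H1 E},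
      Nonempty (↥(E : Subgroup (Gam (Wm hF T))) ≃* Equiv.Perm (Fin 3)) := fun E =>
    ⟨(hE E).2.1.some.trans nonempty_SL2_two_equiv_perm.some⟩
  have hprod := nonempty_mulEquiv_pi_of_iSupIndep
    (fun E : {E : Subgroup (Gam (Wm hF T)) // IsE 2 (V' (Wm hF T)) H1 E} => (E : Subgroup (Gam (Wm hF T))))
    H1 (fun E => (hE E).1) hind hsup hiso
  have hpos : 1 ≤ Nat.card {E : Subgroup (Gam (Wm hF T)) // IsE 2 (V' (Wm hF T)) H1 E} := by
    rw [Nat.succ_le_iff, Nat.card_pos_iff]
    refine ⟨?_, inferInstance⟩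
    by_contra hemp
    rw [not_nonempty_iff] at hemp
    apply hne
    exact hsup.symm.trans (iSup_of_empty _)
  refine ⟨_, hpos, ?_⟩
  obtain ⟨e⟩ := hprod
  let f : ↥Y →* ↥H1 := (pi (Wm hF T)).subgroupMap Y
  have hf : Function.Surjective f := (pi (Wm hF T)).subgroupMap_surjective Y
  have hker : C.subgroupOf Y = f.ker := by
    ext x
    rw [mem_subgroupOf, MonoidHom.mem_ker]
    have hk : (x : X) ∈ C ↔ pi (Wm hF T) (x : X) = 1 := by
      rw [← MonoidHom.mem_ker, ker_pi, hCW]
    rw [hk]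
    constructor
    · intro h; exact Subtype.ext h
    · intro h; exact congrArg Subtype.val h
  exact ⟨(QuotientGroup.liftEquiv (N := C.subgroupOf Y) hf hker).trans e⟩

end main

end Cfsg.Agent.Lib.Helper22.FFAb
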