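import Cfsg.Agent.Lib.Helper24.SLMQ8Defs
import Cfsg.Agent.Lib.Helper14.SLMLines

/-!
SLnMax stage 2, Q8 sub-market (helper24), block G: the abstract group `G64` (G1 .. G6).
-/

set_option autoImplicit false
set_option linter.unusedSectionVars false
set_option linter.unusedVariables false

namespace Cfsg.Agent.Lib.Helper22.SLMQ8Leaf

open Cfsg.Geo Matrix Module Cfsg.Agent.Lib.Helper17.SLM Cfsg.Agent.Lib.Helper24.SLMQ8

variable {F : Type*} [Field F]

/-- G1 (S). -/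
theorem card_G64 : Nat.card G64 = 64 := by
  rw [Nat.card_congr G64.equivProd]
  simp

theorem comm_iff_aux (p q : G64) : p * q = q * p ↔ tw p.b q.a = tw q.b p.a := by
  rw [G64.mul_def, G64.mul_def]
  constructor
  · intro h
    have hk := congrArg G64.k h
    simp only at hk
    have : p.k + q.k + tw p.b q.a = p.k + q.k + tw q.b p.a := by
      rw [hk]; abel
    exact add_left_cancel this
  · intro h
    apply G64.ext'
    · simp only
      rw [h]; abel
    · exact vx_comm _ _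
    · exact vx_comm _ _

theorem center_aux : ∀ a b : Fin 4, (∀ ga gb : Fin 4, tw gb a = tw b ga) ↔ (a = 0 ∧ b = 0) := by
  decide +kernel

/-- G2 (S).  `(k,a,b)` and `(k',a',b')` commute iff `tw b a' = tw b' a`; central iff `a = b = 0`. -/
theorem mem_center_G64 (p : G64) : p ∈ Subgroup.center G64 ↔ p.a = 0 ∧ p.b = 0 := by
  rw [Subgroup.mem_center_iff, ← center_aux]
  constructor
  · intro h ga gb
    have := (comm_iff_aux ⟨0, ga, gb⟩ p).mp (h ⟨0, ga, gb⟩)
    exact this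
  · intro h g
    rw [comm_iff_aux]
    exact h g.a g.b

/-- the central element `(k,0,0)` -/
def cen (k : Fin 4) : Subgroup.center G64 := ⟨⟨k, 0, 0⟩, (mem_center_G64 _).mpr ⟨rfl, rfl⟩⟩

/-- the centre is `{(k,0,0)}` -/
def centerEquiv : Fin 4 ≃ Subgroup.center G64 where
  toFun := cen
  invFun z := z.1.k
  left_inv k := rfl
  right_inv z := by
    obtain ⟨⟨k, a, b⟩, hz⟩ := z
    have := (mem_center_G64 _).mp hz
    simp only at this
    obtain ⟨rfl, rfl⟩ := this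
    rfl

/-- G3 (S).  The centre is `{(k,0,0)}`. -/
theorem card_center_G64 : Nat.card (Subgroup.center G64) = 4 := by
  rw [← Nat.card_congr centerEquiv]
  simp

theorem sq_aux (p : G64) : p ^ 2 = ⟨p.k + p.k + tw p.b p.a, 0, 0⟩ := by
  rw [pow_two, G64.mul_def]
  apply G64.ext'
  · rfl
  · exact vx_self _
  · exact vx_self _

theorem four_aux : ∀ k b a : Fin 4, k + k + tw b a + (k + k + tw b a) + tw 0 0 = 0 := by
  decide +kernel

theorem pow_four_G64 (p : G64) : p ^ 4 = 1 := by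
  have : p ^ 4 = (p ^ 2) ^ 2 := by rw [← pow_mul]
  rw [this, sq_aux p, sq_aux]
  apply G64.ext'
  · exact four_aux p.k p.b p.a
  · rfl
  · rfl

theorem orderOf_gen : orderOf (⟨1, 0, 0⟩ : G64) = 4 := by
  have h := orderOf_eq_prime_pow (x := (⟨1, 0, 0⟩ : G64)) (p := 2) (n := 1) ?_ ?_
  · simpa using h
  · rw [pow_one, sq_aux]
    intro h
    have := congrArg G64.k h
    revert this
    decide
  · exact pow_four_G64 _

/-- G4 (S).  The centre is generated by `(1,0,0)`. -/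
theorem isCyclic_center_G64 : IsCyclic (Subgroup.center G64) := by
  apply isCyclic_of_orderOf_eq_card (cen 1)
  rw [card_center_G64]
  exact (Subgroup.orderOf_mk _ _).trans orderOf_gen

/-- G5 (S).  `p⁴ = 1` for all `p` and `(1,0,0)` has order `4`. -/
theorem exponent_G64 : Monoid.exponent G64 = 4 := by
  apply Nat.dvd_antisymm
  · exact Monoid.exponent_dvd_of_forall_pow_eq_one pow_four_G64
  · rw [← orderOf_gen]
    exact Monoid.order_dvd_exponent _

/-! ### four outer automorphisms -/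

/-- low bit -/
def lo (a : Fin 4) : ℕ := a.val % 2
/-- high bit -/
def hi (a : Fin 4) : ℕ := a.val / 2
/-- `ℕ → Fin 4` -/
def f4 (n : ℕ) : Fin 4 := ⟨n % 4, Nat.mod_lt _ (by decide)⟩

/-- swap `X ↔ Z` on the low bit -/
def autHlo (p : G64) : G64 := ⟨p.k + f4 (2 * lo p.a * lo p.b), f4 (lo p.b + 2 * hi p.a), f4 (lo p.a + 2 * hi p.b)⟩
/-- `X ↦ i X Z` on the low bit -/
def autSlo (p : G64) : G64 := ⟨p.k + f4 (lo p.a), p.a, f4 ((lo p.a + lo p.b) % 2 + 2 * hi p.b)⟩
/-- swap `X ↔ Z` on the high bit -/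
def autHhi (p : G64) : G64 := ⟨p.k + f4 (2 * hi p.a * hi p.b), f4 (lo p.a + 2 * hi p.b), f4 (lo p.b + 2 * hi p.a)⟩
/-- `X ↦ i X Z` on the high bit -/
def autShi (p : G64) : G64 := ⟨p.k + f4 (hi p.a), p.a, f4 (lo p.b + 2 * ((hi p.a + hi p.b) % 2))⟩

theorem autHlo_mul_aux : ∀ k a b k' a' b' : Fin 4,
    autHlo (⟨k, a, b⟩ * ⟨k', a', b'⟩) = autHlo ⟨k, a, b⟩ * autHlo ⟨k', a', b'⟩ := by decide +kernel
theorem autSlo_mul_aux : ∀ k a b k' a' b' : Fin 4,
    autSlo (⟨k, a, b⟩ * ⟨k', a', b'⟩) = autSlo ⟨k, a, b⟩ * autSlo ⟨k', a', b'⟩ := by decide +kernel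
theorem autHhi_mul_aux : ∀ k a b k' a' b' : Fin 4,
    autHhi (⟨k, a, b⟩ * ⟨k', a', b'⟩) = autHhi ⟨k, a, b⟩ * autHhi ⟨k', a', b'⟩ := by decide +kernel
theorem autShi_mul_aux : ∀ k a b k' a' b' : Fin 4,
    autShi (⟨k, a, b⟩ * ⟨k', a', b'⟩) = autShi ⟨k, a, b⟩ * autShi ⟨k', a', b'⟩ := by decide +kernel

theorem autHlo_ker_aux : ∀ k a b : Fin 4, autHlo ⟨k, a, b⟩ = 1 → (⟨k, a, b⟩ : G64) = 1 := by decide +kernel
theorem autSlo_ker_aux : ∀ k a b : Fin 4, autSlo ⟨k, a, b⟩ = 1 → (⟨k, a, b⟩ : G64) = 1 := by decide +kernel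
theorem autHhi_ker_aux : ∀ k a b : Fin 4, autHhi ⟨k, a, b⟩ = 1 → (⟨k, a, b⟩ : G64) = 1 := by decide +kernel
theorem autShi_ker_aux : ∀ k a b : Fin 4, autShi ⟨k, a, b⟩ = 1 → (⟨k, a, b⟩ : G64) = 1 := by decide +kernel

/-- a multiplicative self-map of `G64` with trivial kernel is an automorphism -/
noncomputable def mkAut (f : G64 → G64) (hmul : ∀ p q, f (p * q) = f p * f q) (hker : ∀ p, f p = 1 → p = 1) :
    G64 ≃* G64 :=
  MulEquiv.ofBijective (MonoidHom.mk' f hmul)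
    ⟨(injective_iff_map_eq_one (MonoidHom.mk' f hmul)).mpr hker,
      Finite.injective_iff_surjective.mp ((injective_iff_map_eq_one (MonoidHom.mk' f hmul)).mpr hker)⟩

theorem mkAut_apply (f : G64 → G64) (hmul : ∀ p q, f (p * q) = f p * f q) (hker : ∀ p, f p = 1 → p = 1) (p : G64) :
    mkAut f hmul hker p = f p := rfl

theorem noncomm_aux : ∀ k a b : Fin 4, ¬ (a = 0 ∧ b = 0) →
    (tw (autHlo ⟨k, a, b⟩).b a ≠ tw b (autHlo ⟨k, a, b⟩).a) ∨
    (tw (autSlo ⟨k, a, b⟩).b a ≠ tw b (autSlo ⟨k, a, b⟩).a) ∨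
    (tw (autHhi ⟨k, a, b⟩).b a ≠ tw b (autHhi ⟨k, a, b⟩).a) ∨
    (tw (autShi ⟨k, a, b⟩).b a ≠ tw b (autShi ⟨k, a, b⟩).a) := by decide +kernel

/-- G6 (M-L).  A characteristic abelian subgroup is central. -/
theorem char_le_center_G64 (A : Subgroup G64) (hA : A.Characteristic) (hc : IsMulCommutative A) :
    A ≤ Subgroup.center G64 := by
  intro x hx
  rw [mem_center_G64]
  by_contra hnc
  have key : ∀ φ : G64 ≃* G64, tw (φ x).b x.a = tw x.b (φ x).a := by
    intro φ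
    have hφx : φ x ∈ A := by
      have h1 := hA.fixed φ
      have h2 : x ∈ A.comap φ.toMonoidHom := by rw [h1]; exact hx
      exact h2
    exact (comm_iff_aux (φ x) x).mp (setLike_mul_comm hφx hx)
  obtain ⟨k, a, b⟩ := x
  have e1 := key (mkAut autHlo (fun p q => autHlo_mul_aux p.k p.a p.b q.k q.a q.b)
    (fun p => autHlo_ker_aux p.k p.a p.b))
  have e2 := key (mkAut autSlo (fun p q => autSlo_mul_aux p.k p.a p.b q.k q.a q.b)
    (fun p => autSlo_ker_aux p.k p.a p.b))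
  have e3 := key (mkAut autHhi (fun p q => autHhi_mul_aux p.k p.a p.b q.k q.a q.b)
    (fun p => autHhi_ker_aux p.k p.a p.b))
  have e4 := key (mkAut autShi (fun p q => autShi_mul_aux p.k p.a p.b q.k q.a q.b)
    (fun p => autShi_ker_aux p.k p.a p.b))
  rw [mkAut_apply] at e1 e2 e3 e4
  rcases noncomm_aux k a b hnc with h | h | h | h
  · exact h e1
  · exact h e2
  · exact h e3
  · exact h e4

end Cfsg.Agent.Lib.Helper22.SLMQ8Leaf
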