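/-
helper22: S4395 leaf NORM (planner helper21, `notes/S4395_leaves.lean`): P is normal in X = ⟨P, y⟩
-/
import Mathlib
import Cfsg.Prelude.Def_Transfer
import Cfsg.Agent.Lib.Helper21.SchDefs

set_option autoImplicit false
set_option linter.unusedSectionVars false
set_option linter.unusedVariables false
universe u v
open Cfsg
open Cfsg.Agent.Lib.Helper21.Sch

namespace Cfsg.Agent.Lib.Helper22.SchNORM

section B
variable {p : ℕ} [Fact p.Prime] {K : Type*} [Field K] {ω : K} {X : Type*} [Group X]

/-- **TAG NORM** `y P y⁻¹ ⊆ P` is an equality (finite), so `P` is normalized by `⟨P, y⟩ = X`. -/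
theorem normal_of_frame [Finite X] (𝔣 : Frame p ω X) (hgen : 𝔣.IsGen) : 𝔣.P.Normal := by
  rw [← Subgroup.normalizer_eq_top_iff, eq_top_iff, ← hgen, Subgroup.closure_le]
  rintro g (hg | hg)
  · exact Subgroup.le_normalizer hg
  · rw [Set.mem_singleton_iff] at hg
    subst hg
    exact Subgroup.mem_normalizer_fintype (fun n hn => 𝔣.y_norm n hn)

end B

end Cfsg.Agent.Lib.Helper22.SchNORM
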