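/-
helper22: S3713 leaf PROD (`homOn_prod`): a hom on a product `B P` with `B` normalising `P`.
-/
import Cfsg.Agent.Lib.Helper18.SPDec
import Cfsg.Agent.Lib.Helper18.SPHom

set_option autoImplicit false

namespace Cfsg.Agent.Lib.Helper22.SPPROD

open Cfsg.Agent.Lib.Helper18.SP

section abstract
variable {G H : Type*} [Group G] [Group H]

/-- **PROD** (a hom on a product `B P` with `B` normalising `P`). -/
theorem homOn_prod (B P Q : Subgroup G) (β π : G → H) (hβ : HomOn B β) (hπ : HomOn P π)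
    (hB : B ≤ Q) (hP : P ≤ Q) (hQ : ∀ g ∈ Q, ∃ b ∈ B, ∃ p ∈ P, g = b * p)
    (hnorm : ∀ b ∈ B, ∀ p ∈ P, b * p * b⁻¹ ∈ P)
    (hagree : ∀ g ∈ B, g ∈ P → β g = π g)
    (hcompat : ∀ b ∈ B, ∀ p ∈ P, π (b * p * b⁻¹) = β b * π p * (β b)⁻¹) :
    ∃ φ : G → H, HomOn Q φ ∧ (∀ b ∈ B, φ b = β b) ∧ (∀ p ∈ P, φ p = π p) := by
  classical
  -- well-definedness
  have hwd : ∀ b ∈ B, ∀ p ∈ P, ∀ b' ∈ B, ∀ p' ∈ P, b * p = b' * p' → β b * π p = β b' * π p' := by
    intro b hb p hp b' hb' p' hp' h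
    have hz : b'⁻¹ * b = p' * p⁻¹ := by
      have : b'⁻¹ * (b * p) * p⁻¹ = b'⁻¹ * (b' * p') * p⁻¹ := by rw [h]
      have e1 : b'⁻¹ * (b * p) * p⁻¹ = b'⁻¹ * b := by group
      have e2 : b'⁻¹ * (b' * p') * p⁻¹ = p' * p⁻¹ := by group
      rw [e1, e2] at this
      exact this
    have hzB : b'⁻¹ * b ∈ B := B.mul_mem (B.inv_mem hb') hb
    have hzP : b'⁻¹ * b ∈ P := by rw [hz]; exact P.mul_mem hp' (P.inv_mem hp)
    have h1 := hagree _ hzB hzP
    rw [hβ.map_mul (B.inv_mem hb') hb, hβ.map_inv hb'] at h1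
    rw [hz, hπ.map_mul hp' (P.inv_mem hp), hπ.map_inv hp] at h1
    -- (β b')⁻¹ * β b = π p' * (π p)⁻¹
    have : β b = β b' * (π p' * (π p)⁻¹) := by rw [← h1]; group
    rw [this]
    group
  let Φ : G → H := fun g =>
    if h : ∃ b ∈ B, ∃ p ∈ P, g = b * p then β h.choose * π h.choose_spec.2.choose else 1
  have hΦ : ∀ b ∈ B, ∀ p ∈ P, Φ (b * p) = β b * π p := by
    intro b hb p hp
    have hex : ∃ b' ∈ B, ∃ p' ∈ P, b * p = b' * p' := ⟨b, hb, p, hp, rfl⟩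
    have hval : Φ (b * p) = β hex.choose * π hex.choose_spec.2.choose := dif_pos hex
    rw [hval]
    exact (hwd b hb p hp _ hex.choose_spec.1 _ hex.choose_spec.2.choose_spec.1
      hex.choose_spec.2.choose_spec.2).symm
  refine ⟨Φ, ?_, ?_, ?_⟩
  · intro g hg g' hg'
    obtain ⟨b, hb, p, hp, rfl⟩ := hQ g hg
    obtain ⟨b', hb', p', hp', rfl⟩ := hQ g' hg'
    have hconj : b'⁻¹ * p * b'⁻¹⁻¹ ∈ P := hnorm b'⁻¹ (B.inv_mem hb') p hp
    have e : b * p * (b' * p') = (b * b') * ((b'⁻¹ * p * b'⁻¹⁻¹) * p') := by group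
    rw [e, hΦ _ (B.mul_mem hb hb') _ (P.mul_mem hconj hp'), hΦ b hb p hp, hΦ b' hb' p' hp',
      hβ.map_mul hb hb', hπ.map_mul hconj hp', hcompat b'⁻¹ (B.inv_mem hb') p hp, hβ.map_inv hb']
    group
  · intro b hb
    have := hΦ b hb 1 P.one_mem
    rw [mul_one, hπ.map_one, mul_one] at this
    exact this
  · intro p hp
    have := hΦ 1 B.one_mem p hp
    rw [one_mul, hβ.map_one, one_mul] at this
    exact this

end abstract

end Cfsg.Agent.Lib.Helper22.SPPROD
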