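import Mathlib
import Cfsg.Prelude.Def_ClassicalGeometry
import Cfsg.Prelude.Def_GeometricClasses
import Cfsg.Agent.Lib.Helper5.SpMax
import Cfsg.Agent.Lib.Helper22.C3sDefs

/-!
Toolkit for S5664: the torus elements `hk` as elements of `GL`, membership in `Sp` and commutation with
`E` for `kt`, `hk`, `sg`; multiplication of `E`-transvections; conjugation and product formulas for the
`F`-Siegel matrices `rhoMat`.
-/

set_option autoImplicit false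
set_option linter.unusedSectionVars false
set_option linter.unusedVariables false
set_option linter.unusedSimpArgs false

namespace Cfsg.Agent.Lib.Helper22.C3s
open Cfsg Matrix Module Cfsg.Agent.Lib.Helper5 Cfsg.Agent.Lib.Helper5.SpMax Cfsg.Agent.Lib.Helper22.C3

variable {F : Type*} [Field F] {m : ℕ} {E : Type*} [Field E] [Algebra F E]

local notation "𝕍" => (Fin m ⊕ Fin m → F)
local notation "𝕄" => Matrix (Fin m ⊕ Fin m) (Fin m ⊕ Fin m) F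

/-- for `g ∈ Sp`: `f(g⁻¹ x, p) = f(x, g p)` -/
lemma form_inv_mulVec {g : GL (Fin m ⊕ Fin m) F} (hg : g ∈ spGL m F) (x p : 𝕍) :
    sympForm m F (((g⁻¹ : GL (Fin m ⊕ Fin m) F) : 𝕄) *ᵥ x) p = sympForm m F x ((g : 𝕄) *ᵥ p) := by
  have := mem_spGL.mp hg (((g⁻¹ : GL (Fin m ⊕ Fin m) F) : 𝕄) *ᵥ x) p
  rw [mul_inv_mulVec] at this
  exact this.symm

namespace KS
variable (S : KS m F E)

lemma ρ_injective (hm : 0 < m) : Function.Injective S.ρ := by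
  haveI : Nonempty (Fin m ⊕ Fin m) := ⟨Sum.inl ⟨0, hm⟩⟩
  exact (S.ρ : E →+* 𝕄).injective

include S in
lemma finite (hm : 0 < m) : Module.Finite F E :=
  Module.Finite.of_injective (S.ρ : E →ₗ[F] 𝕄) (S.ρ_injective hm)

/-! ### `E`-transvections -/

lemma kt_mul (v : 𝕍) (a b : E) : S.kt v a * S.kt v b = S.kt v (a + b) := by
  apply Units.ext
  apply mat_eq_of_mulVec
  intro x
  rw [Units.val_mul, ← Matrix.mulVec_mulVec, kt_mulVec, kt_mulVec, kt_mulVec, S.add_left,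
    S.fE_smul_left, S.alt, mul_zero, add_zero, add_mul, S.act_add, add_assoc, add_comm (S.act (b * _) v)]

lemma kt_zero (v : 𝕍) : S.kt v 0 = 1 := by
  apply Units.ext
  apply mat_eq_of_mulVec
  intro x
  rw [kt_mulVec, zero_mul, S.act_zero, add_zero, Units.val_one, Matrix.one_mulVec]

lemma kt_inv (v : 𝕍) (a : E) : (S.kt v a)⁻¹ = S.kt v (-a) := by
  apply inv_eq_of_mul_eq_one_right
  rw [kt_mul, add_neg_cancel, kt_zero]

lemma kt_fix {v x : 𝕍} (a : E) (h : S.fE x v = 0) :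
    ((S.kt v a : GL (Fin m ⊕ Fin m) F) : 𝕄) *ᵥ x = x := by
  rw [kt_mulVec, h, mul_zero, S.act_zero, add_zero]

lemma kt_mem_of (M : Subgroup (GL (Fin m ⊕ Fin m) F))
    (hM : ∀ g ∈ spGL m F, (∀ e : E, (g : 𝕄) * S.ρ e = S.ρ e * (g : 𝕄)) → g ∈ M) (v : 𝕍) (a : E) :
    S.kt v a ∈ M := hM _ (S.kt_mem v a) (S.kt_comm v a)

/-! ### torus elements -/

lemma hkMat_fE_right {v v' : 𝕍} (h : S.fE v v' = 1) (k : E) (x : 𝕍) :
    S.fE (S.hkMat v v' k *ᵥ x) v' = k * S.fE x v' := by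
  rw [hkMat_mulVec, S.add_left, S.fE_sub_left, S.fE_smul_left, S.fE_smul_left, h, S.alt]
  ring

lemma hkMat_fE_left {v v' : 𝕍} (h : S.fE v v' = 1) (k : E) (x : 𝕍) :
    S.fE (S.hkMat v v' k *ᵥ x) v = k⁻¹ * S.fE x v := by
  have h' : S.fE v' v = -1 := by rw [S.skew, h]
  rw [hkMat_mulVec, S.add_left, S.fE_sub_left, S.fE_smul_left, S.fE_smul_left, h', S.alt]
  ring

lemma hkMat_mul_inv {v v' : 𝕍} (h : S.fE v v' = 1) {k : E} (hk : k ≠ 0) :
    S.hkMat v v' k * S.hkMat v v' k⁻¹ = 1 := by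
  apply mat_eq_of_mulVec
  intro x
  rw [← Matrix.mulVec_mulVec, hkMat_mulVec (k := k), S.hkMat_fE_right h, S.hkMat_fE_left h,
    hkMat_mulVec, Matrix.one_mulVec, inv_inv]
  have e1 : (k - 1) * (k⁻¹ * S.fE x v') = - ((k⁻¹ - 1) * S.fE x v') := by
    field_simp
    ring
  have e2 : (k⁻¹ - 1) * (k * S.fE x v) = - ((k - 1) * S.fE x v) := by
    field_simp
    ring
  rw [e1, e2, S.act_neg, S.act_neg]
  abel

/-- the torus element: `k` on `E v`, `k⁻¹` on `E v'`, `1` on the `E`-orthogonal complement -/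
def hk (v v' : 𝕍) (h : S.fE v v' = 1) (k : E) (hk : k ≠ 0) : GL (Fin m ⊕ Fin m) F :=
  ⟨S.hkMat v v' k, S.hkMat v v' k⁻¹, S.hkMat_mul_inv h hk, by
    have := S.hkMat_mul_inv h (inv_ne_zero hk)
    rwa [inv_inv] at this⟩

lemma hk_mulVec {v v' : 𝕍} (h : S.fE v v' = 1) {k : E} (hk : k ≠ 0) (x : 𝕍) :
    ((S.hk v v' h k hk : GL (Fin m ⊕ Fin m) F) : 𝕄) *ᵥ x
      = x + (S.act ((k - 1) * S.fE x v') v - S.act ((k⁻¹ - 1) * S.fE x v) v') :=
  S.hkMat_mulVec v v' k x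

lemma hk_act {v v' : 𝕍} (h : S.fE v v' = 1) {k : E} (hk : k ≠ 0) (e : E) :
    ((S.hk v v' h k hk : GL (Fin m ⊕ Fin m) F) : 𝕄) *ᵥ (S.act e v) = S.act (k * e) v := by
  rw [hk_mulVec, S.fE_smul_left, S.fE_smul_left, h, S.alt, mul_zero, mul_zero, S.act_zero, sub_zero,
    mul_one, ← S.act_add]
  congr 1
  ring

lemma hk_fE {v v' : 𝕍} (h : S.fE v v' = 1) {k : E} (hk : k ≠ 0) (x y : 𝕍) :
    S.fE (((S.hk v v' h k hk : GL (Fin m ⊕ Fin m) F) : 𝕄) *ᵥ x)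
      (((S.hk v v' h k hk : GL (Fin m ⊕ Fin m) F) : 𝕄) *ᵥ y) = S.fE x y := by
  have h' : S.fE v' v = -1 := by rw [S.skew, h]
  rw [hk_mulVec, hk_mulVec]
  simp only [S.add_left, S.fE_add_right, S.fE_sub_left, S.fE_sub_right, S.fE_smul_left,
    S.fE_smul_right, S.alt, h, h']
  rw [S.skew v y, S.skew v' y]
  field_simp
  ring

lemma hk_mem {v v' : 𝕍} (h : S.fE v v' = 1) {k : E} (hk : k ≠ 0) : S.hk v v' h k hk ∈ spGL m F := by
  rw [mem_spGL]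
  intro x y
  rw [S.form_eq', hk_fE, ← S.form_eq']

lemma hk_comm {v v' : 𝕍} (h : S.fE v v' = 1) {k : E} (hk : k ≠ 0) (e : E) :
    ((S.hk v v' h k hk : GL (Fin m ⊕ Fin m) F) : 𝕄) * S.ρ e
      = S.ρ e * ((S.hk v v' h k hk : GL (Fin m ⊕ Fin m) F) : 𝕄) := by
  apply mat_eq_of_mulVec
  intro x
  rw [← Matrix.mulVec_mulVec, ← Matrix.mulVec_mulVec, hk_mulVec, hk_mulVec, ← S.act_def, ← S.act_def,
    S.fE_smul_left, S.fE_smul_left, S.act_vadd, S.act_vsub, ← S.act_mul, ← S.act_mul]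
  congr 3 <;> ring

lemma hk_mem_of (M : Subgroup (GL (Fin m ⊕ Fin m) F))
    (hM : ∀ g ∈ spGL m F, (∀ e : E, (g : 𝕄) * S.ρ e = S.ρ e * (g : 𝕄)) → g ∈ M) {v v' : 𝕍}
    (h : S.fE v v' = 1) {k : E} (hk : k ≠ 0) : S.hk v v' h k hk ∈ M :=
  hM _ (S.hk_mem h hk) (S.hk_comm h hk)

/-! ### `E`-Siegel elements -/

lemma sg_fE {v w : 𝕍} (h : S.fE w v = 0) (x y : 𝕍) :
    S.fE (((S.sg v w h : GL (Fin m ⊕ Fin m) F) : 𝕄) *ᵥ x)
      (((S.sg v w h : GL (Fin m ⊕ Fin m) F) : 𝕄) *ᵥ y) = S.fE x y := by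
  have h' : S.fE v w = 0 := by rw [S.skew, h, neg_zero]
  rw [sg_mulVec, sg_mulVec]
  simp only [S.add_left, S.fE_add_right, S.fE_smul_left, S.fE_smul_right, S.alt, h, h']
  rw [S.skew v y, S.skew w y]
  ring

lemma sg_mem {v w : 𝕍} (h : S.fE w v = 0) : S.sg v w h ∈ spGL m F := by
  rw [mem_spGL]
  intro x y
  rw [S.form_eq', sg_fE, ← S.form_eq']

lemma sg_comm {v w : 𝕍} (h : S.fE w v = 0) (e : E) :
    ((S.sg v w h : GL (Fin m ⊕ Fin m) F) : 𝕄) * S.ρ e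
      = S.ρ e * ((S.sg v w h : GL (Fin m ⊕ Fin m) F) : 𝕄) := by
  apply mat_eq_of_mulVec
  intro x
  rw [← Matrix.mulVec_mulVec, ← Matrix.mulVec_mulVec, sg_mulVec, sg_mulVec, ← S.act_def, ← S.act_def,
    S.fE_smul_left, S.fE_smul_left, S.act_vadd, S.act_vadd, ← S.act_mul, ← S.act_mul]

lemma sg_mem_of (M : Subgroup (GL (Fin m ⊕ Fin m) F))
    (hM : ∀ g ∈ spGL m F, (∀ e : E, (g : 𝕄) * S.ρ e = S.ρ e * (g : 𝕄)) → g ∈ M) {v w : 𝕍}
    (h : S.fE w v = 0) : S.sg v w h ∈ M :=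
  hM _ (S.sg_mem h) (S.sg_comm h)

lemma sg_fix {v w : 𝕍} (h : S.fE w v = 0) :
    ((S.sg v w h : GL (Fin m ⊕ Fin m) F) : 𝕄) *ᵥ v = v := by
  have h' : S.fE v w = 0 := by rw [S.skew, h, neg_zero]
  rw [sg_mulVec, S.alt, h', S.act_zero, S.act_zero, add_zero, add_zero]

end KS

/-! ### `F`-Siegel matrices -/

lemma rhoMat_conj {g : GL (Fin m ⊕ Fin m) F} (hg : g ∈ spGL m F) (p p' : 𝕍) (c : F) :
    (g : 𝕄) * rhoMat p p' c * ((g⁻¹ : GL (Fin m ⊕ Fin m) F) : 𝕄)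
      = rhoMat ((g : 𝕄) *ᵥ p) ((g : 𝕄) *ᵥ p') c := by
  apply mat_eq_of_mulVec
  intro x
  rw [← Matrix.mulVec_mulVec, ← Matrix.mulVec_mulVec, rhoMat_mulVec, rhoMat_mulVec,
    form_inv_mulVec hg, form_inv_mulVec hg, Matrix.mulVec_add, mul_inv_mulVec, Matrix.mulVec_smul,
    Matrix.mulVec_add, Matrix.mulVec_smul, Matrix.mulVec_smul]

lemma rhoMat_self (p : 𝕍) (c : F) : rhoMat p p c = ((tvc p (2 * c) : GL (Fin m ⊕ Fin m) F) : 𝕄) := by
  apply mat_eq_of_mulVec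
  intro x
  rw [rhoMat_mulVec, tvc_mulVec, ← two_smul F (sympForm m F x p • p), smul_smul, smul_smul]
  congr 2
  ring

lemma rhoMat_smul_left (s : F) (p p' : 𝕍) (c : F) : rhoMat (s • p) p' c = rhoMat p p' (s * c) := by
  apply mat_eq_of_mulVec
  intro x
  rw [rhoMat_mulVec, rhoMat_mulVec, sympForm_smul_right]
  congr 1
  simp only [smul_add, smul_smul]
  congr 1 <;> congr 1 <;> ring

lemma rhoMat_zero (p p' : 𝕍) : rhoMat p p' (0 : F) = 1 := by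
  apply mat_eq_of_mulVec
  intro x
  rw [rhoMat_mulVec, zero_smul, add_zero, Matrix.one_mulVec]

/-- product formula: for `v ⊥ w, w'`:
`rhoMat v w c * rhoMat v w' c = tvc v (c² f(w', w)) * rhoMat v (w + w') c` -/
lemma rhoMat_mul {v w w' : 𝕍} (hw : sympForm m F v w = 0) (hw' : sympForm m F v w' = 0) (c : F) :
    rhoMat v w c * rhoMat v w' c
      = ((tvc v (c * c * sympForm m F w' w) : GL (Fin m ⊕ Fin m) F) : 𝕄) * rhoMat v (w + w') c := by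
  have hwv : sympForm m F w v = 0 := by rw [sympForm_swap, hw, neg_zero]
  have hwv' : sympForm m F w' v = 0 := by rw [sympForm_swap, hw', neg_zero]
  apply mat_eq_of_mulVec
  intro x
  rw [← Matrix.mulVec_mulVec, ← Matrix.mulVec_mulVec, rhoMat_mulVec v w', rhoMat_mulVec, tvc_mulVec,
    rhoMat_mulVec]
  simp only [sympForm_add_left, sympForm_add_right, sympForm_smul_left, sympForm_smul_right,
    sympForm_self, hw, hw', hwv, hwv', smul_add, smul_smul, mul_zero, zero_mul, add_zero, zero_add]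
  ext i
  simp only [Pi.add_apply, Pi.smul_apply, smul_eq_mul]
  ring

/-- `Sieg` is transported by elements of `M ≤ Sp` -/
lemma Sieg_img {M : Subgroup (GL (Fin m ⊕ Fin m) F)} (hMS : M ≤ spGL m F) {U : Submodule F 𝕍}
    (hS : Sieg M U) {g : GL (Fin m ⊕ Fin m) F} (hg : g ∈ M) : Sieg M (img g U) := by
  intro p₁ hp₁ p₂ hp₂ c
  obtain ⟨q₁, hq₁, rfl⟩ := mem_img.mp hp₁
  obtain ⟨q₂, hq₂, rfl⟩ := mem_img.mp hp₂
  obtain ⟨y, hy, hyv⟩ := hS q₁ hq₁ q₂ hq₂ c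
  refine ⟨g * y * g⁻¹, M.mul_mem (M.mul_mem hg hy) (M.inv_mem hg), ?_⟩
  rw [Units.val_mul, Units.val_mul, hyv, rhoMat_conj (hMS hg)]

end Cfsg.Agent.Lib.Helper22.C3s
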