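import Mathlib
import Cfsg.Prelude.Def_ClassicalGeometry
import Cfsg.Prelude.Def_GeometricClasses
import Cfsg.Agent.Lib.Helper5.SpMax
import Cfsg.Agent.Lib.Helper22.C3sDefs
import Cfsg.Agent.Lib.Helper22.C3sTool

/-!
S5664 leaf D3: degree two, characteristic two (the `E`-form `Emat v w l` of the elements of `Q_v`).
-/

set_option autoImplicit false
set_option linter.unusedSectionVars false
set_option linter.unusedVariables false
set_option linter.unusedSimpArgs false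

namespace Cfsg.Agent.Lib.Helper22.C3sLeaf
open Cfsg Matrix Module Cfsg.Agent.Lib.Helper5 Cfsg.Agent.Lib.Helper5.SpMax
  Cfsg.Agent.Lib.Helper22.C3 Cfsg.Agent.Lib.Helper22.C3s

universe u
variable {F : Type u} [Field F] {m : ℕ} {E : Type u} [Field E] [Algebra F E]

local notation "𝕍" => (Fin m ⊕ Fin m → F)
local notation "𝕄" => Matrix (Fin m ⊕ Fin m) (Fin m ⊕ Fin m) F

/-- the matrix of `y ↦ y + f(y, w) v + f(y, v) w + l f(y, v) v` -/
def Emat (v w : 𝕍) (l : F) : 𝕄 := rhoMat v w 1 + l • rk v v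

lemma Emat_mulVec (v w : 𝕍) (l : F) (y : 𝕍) :
    Emat v w l *ᵥ y = y + sympForm m F y w • v + sympForm m F y v • w
      + (l * sympForm m F y v) • v := by
  unfold Emat
  rw [Matrix.add_mulVec, rhoMat_mulVec, Matrix.smul_mulVec, rk_mulVec, one_smul, smul_smul]
  abel

lemma Emat_conj {g : GL (Fin m ⊕ Fin m) F} (hg : g ∈ spGL m F) (v w : 𝕍) (l : F) :
    (g : 𝕄) * Emat v w l * ((g⁻¹ : GL (Fin m ⊕ Fin m) F) : 𝕄)
      = Emat ((g : 𝕄) *ᵥ v) ((g : 𝕄) *ᵥ w) l := by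
  apply mat_eq_of_mulVec
  intro x
  rw [← Matrix.mulVec_mulVec, ← Matrix.mulVec_mulVec, Emat_mulVec, Emat_mulVec,
    form_inv_mulVec hg, form_inv_mulVec hg]
  simp only [Matrix.mulVec_add, Matrix.mulVec_smul, mul_inv_mulVec]

lemma Emat_mul {v w w' : 𝕍} (hw : sympForm m F v w = 0) (hw' : sympForm m F v w' = 0) (l l' : F) :
    Emat v w l * Emat v w' l' = Emat v (w + w') (l + l' + sympForm m F w' w) := by
  have hwv : sympForm m F w v = 0 := by rw [sympForm_swap, hw, neg_zero]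
  have hwv' : sympForm m F w' v = 0 := by rw [sympForm_swap, hw', neg_zero]
  apply mat_eq_of_mulVec
  intro x
  rw [← Matrix.mulVec_mulVec, Emat_mulVec v w', Emat_mulVec, Emat_mulVec]
  simp only [sympForm_add_left, sympForm_add_right, sympForm_smul_left, sympForm_smul_right,
    sympForm_self, hw, hw', hwv, hwv', smul_add, smul_smul, mul_zero, zero_mul, add_zero, zero_add]
  ext i
  simp only [Pi.add_apply, Pi.smul_apply, smul_eq_mul]
  ring

lemma Emat_zero (v : 𝕍) (l : F) : Emat v 0 l = ((tvc v l : GL (Fin m ⊕ Fin m) F) : 𝕄) := by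
  apply mat_eq_of_mulVec
  intro x
  rw [Emat_mulVec, tvc_mulVec]
  simp [sympForm]

/-- an `E`-transvection with scalar `κ₀⁻¹` (`τ κ₀ = 0`) in `E`-form -/
lemma kt_eq_Emat (S : KS m F E) (hr2 : finrank F E = 2) (hch : (2 : F) = 0) (hm : 0 < m) (u₀ : 𝕍)
    {κ₀ ξ₁ : E} (hκ₀ : κ₀ ≠ 0) (hτκ : S.τ κ₀ = 0) (hτξ : S.τ ξ₁ = 1) :
    ((S.kt u₀ κ₀⁻¹ : GL (Fin m ⊕ Fin m) F) : 𝕄)
      = Emat u₀ (S.act (κ₀⁻¹ * ξ₁) u₀) (S.τ (κ₀⁻¹ * ξ₁ * ξ₁)) := by
  have hfin := S.finite hm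
  have h2E : (2 : E) = 0 := by
    have := congrArg (algebraMap F E) hch
    rwa [map_ofNat, map_zero] at this
  -- every ξ is c κ₀ + τ(ξ) ξ₁
  have hker : ∀ ξ : E, S.τ ξ = 0 → ∃ c : F, ξ = c • κ₀ := by
    intro ξ hξ
    have h1 : finrank F (LinearMap.ker S.τ) = 1 := by
      have h2 := LinearMap.finrank_range_add_finrank_ker S.τ
      have h3 : finrank F (LinearMap.range S.τ) = 1 := by
        have : LinearMap.range S.τ = ⊤ := by
          apply LinearMap.range_eq_top.mpr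
          intro c
          exact ⟨c • ξ₁, by rw [map_smul, hτξ, smul_eq_mul, mul_one]⟩
        rw [this, finrank_top, Module.finrank_self]
      omega
    have h4 : (⟨κ₀, hτκ⟩ : LinearMap.ker S.τ) ≠ 0 := fun h => hκ₀ (congrArg Subtype.val h)
    obtain ⟨c, hc⟩ := (finrank_eq_one_iff_of_nonzero' (⟨κ₀, hτκ⟩ : LinearMap.ker S.τ) h4).mp h1
      ⟨ξ, hξ⟩
    exact ⟨c, (congrArg Subtype.val hc).symm⟩
  have key : ∀ ξ : E, κ₀⁻¹ * ξ = algebraMap F E (S.τ (κ₀⁻¹ * ξ₁ * ξ)) + S.τ ξ • (κ₀⁻¹ * ξ₁)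
      + algebraMap F E (S.τ (κ₀⁻¹ * ξ₁ * ξ₁) * S.τ ξ) := by
    intro ξ
    obtain ⟨c, hc⟩ := hker (ξ - S.τ ξ • ξ₁) (by rw [map_sub, map_smul, hτξ, smul_eq_mul, mul_one, sub_self])
    have hξ : ξ = c • κ₀ + S.τ ξ • ξ₁ := by rw [← hc]; abel
    have e1 : S.τ (κ₀⁻¹ * ξ₁ * ξ) = c + S.τ ξ * S.τ (κ₀⁻¹ * ξ₁ * ξ₁) := by
      conv_lhs => rw [hξ]
      rw [mul_add, map_add, mul_smul_comm, mul_smul_comm, map_smul, map_smul, smul_eq_mul, smul_eq_mul]
      have : κ₀⁻¹ * ξ₁ * κ₀ = ξ₁ := by field_simp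
      rw [this, hτξ, mul_one]
    rw [e1]
    have hξ' : κ₀⁻¹ * ξ = algebraMap F E c + algebraMap F E (S.τ ξ) * (κ₀⁻¹ * ξ₁) := by
      conv_lhs => rw [hξ]
      rw [mul_add, mul_smul_comm, mul_smul_comm, inv_mul_cancel₀ hκ₀, Algebra.smul_def,
        Algebra.smul_def, mul_one]
    rw [hξ', Algebra.smul_def, (algebraMap F E).map_add, (algebraMap F E).map_mul,
      (algebraMap F E).map_mul]
    linear_combination (- algebraMap F E (S.τ ξ) * algebraMap F E (S.τ (κ₀⁻¹ * ξ₁ * ξ₁))) * h2E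
  apply mat_eq_of_mulVec
  intro y
  rw [S.kt_mulVec, Emat_mulVec, S.form_act_right, S.form_eq' y u₀, key (S.fE y u₀)]
  simp only [S.act_add, S.act_algebraMap, S.act_smul, ← S.act_mul]
  rw [mul_comm (S.τ (κ₀⁻¹ * ξ₁ * ξ₁))]
  abel

/-- the kernel of a functional onto `F` on a 2-dimensional space is a line -/
lemma ker_eq_span (hr2 : finrank F E = 2) [Module.Finite F E] (φ : E →ₗ[F] F) {x₁ : E}
    (hx₁ : φ x₁ = 1) {z : E} (hz : z ≠ 0) (hφz : φ z = 0) (x : E) (hx : φ x = 0) :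
    ∃ c : F, x = c • z := by
  have h1 : finrank F (LinearMap.ker φ) = 1 := by
    have h2 := LinearMap.finrank_range_add_finrank_ker φ
    have h3 : finrank F (LinearMap.range φ) = 1 := by
      have : LinearMap.range φ = ⊤ := by
        apply LinearMap.range_eq_top.mpr
        intro c
        exact ⟨c • x₁, by rw [map_smul, hx₁, smul_eq_mul, mul_one]⟩
      rw [this, finrank_top, Module.finrank_self]
    omega
  have h4 : (⟨z, hφz⟩ : LinearMap.ker φ) ≠ 0 := fun h => hz (congrArg Subtype.val h)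
  obtain ⟨c, hc⟩ := (finrank_eq_one_iff_of_nonzero' (⟨z, hφz⟩ : LinearMap.ker φ) h4).mp h1 ⟨x, hx⟩
  exact ⟨c, (congrArg Subtype.val hc).symm⟩

lemma finrank_V' : finrank F 𝕍 = 2 * m := by
  rw [Module.finrank_fintype_fun_eq_card, Fintype.card_sum, Fintype.card_fin]; ring

/-- two vectors `E`-orthogonal to `v` with non-zero `E`-product -/
lemma exists_perp_pair (S : KS m F E) (hr2 : finrank F E = 2) (hm : 3 ≤ m) {v : 𝕍} (hv : v ≠ 0) :
    ∃ w w' : 𝕍, S.fE w v = 0 ∧ S.fE w' v = 0 ∧ S.fE w' w ≠ 0 := by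
  obtain ⟨v', hv'⟩ := S.fE_surj hv 1
  have hv'0 : v' ≠ 0 := by
    rintro rfl
    rw [S.fE_zero_right] at hv'
    exact zero_ne_one hv'
  have hvv' : S.fE v' v = -1 := by rw [S.skew, hv']
  -- the projection
  set π : 𝕍 → 𝕍 := fun z => z + S.act (-S.fE z v') v + S.act (S.fE z v) v' with hπ
  have hπv : ∀ z, S.fE (π z) v = 0 := by
    intro z
    simp only [hπ, S.add_left, S.fE_smul_left, S.alt, hvv']
    ring
  have hπv' : ∀ z, S.fE (π z) v' = 0 := by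
    intro z
    simp only [hπ, S.add_left, S.fE_smul_left, S.alt, hv']
    ring
  have hπr : ∀ z y, S.fE (π z) (π y) = S.fE (π z) y := by
    intro z y
    have h1 : S.fE v (π z) = 0 := by rw [S.skew, hπv, neg_zero]
    have h2 : S.fE v' (π z) = 0 := by rw [S.skew, hπv', neg_zero]
    conv_lhs => rw [hπ]
    simp only [S.fE_add_right, S.fE_smul_right]
    rw [S.skew (π z) v, S.skew (π z) v', h1, h2]
    ring
  -- a vector outside line v ⊔ line v'
  have hlt : S.line v ⊔ S.line v' ≠ ⊤ := by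
    intro htop
    have h1 := Submodule.finrank_add_le_finrank_add_finrank (S.line v) (S.line v')
    rw [htop, finrank_top, finrank_V', S.finrank_line hv, S.finrank_line hv'0, hr2] at h1
    omega
  obtain ⟨z, hz⟩ : ∃ z : 𝕍, z ∉ S.line v ⊔ S.line v' := by
    by_contra h
    push Not at h
    exact hlt (eq_top_iff.mpr fun z _ => h z)
  have hπz : π z ≠ 0 := by
    intro h0
    apply hz
    have : z = S.act (S.fE z v') v + S.act (- S.fE z v) v' := by
      have h1 : π z = z + S.act (-S.fE z v') v + S.act (S.fE z v) v' := rfl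
      rw [h0, S.act_neg] at h1
      rw [S.act_neg]
      have h2 : z = (z + -S.act (S.fE z v') v + S.act (S.fE z v) v') + S.act (S.fE z v') v
          + - S.act (S.fE z v) v' := by abel
      rw [← h1, zero_add] at h2
      exact h2
    rw [this]
    exact Submodule.add_mem_sup (S.act_mem_line _ _) (S.act_mem_line _ _)
  obtain ⟨y, hy⟩ := S.fE_nondeg hπz
  refine ⟨π z, π y, hπv z, hπv y, ?_⟩
  rw [S.skew, hπr]
  exact neg_ne_zero.mpr hy

/-- D3: degree two, characteristic two -/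
theorem tvc_mem_of_deg_two (S : KS m F E) (hr2 : finrank F E = 2) (hch : (2 : F) = 0)
    (hm : 3 ≤ m) (M : Subgroup (GL (Fin m ⊕ Fin m) F)) (hMS : M ≤ spGL m F)
    (hM : ∀ g ∈ spGL m F, (∀ e : E, (g : 𝕄) * S.ρ e = S.ρ e * (g : 𝕄)) → g ∈ M)
    {v₀ : 𝕍} (hv₀ : v₀ ≠ 0) {g : GL (Fin m ⊕ Fin m) F} (hg : g ∈ M)
    (h1 : S.line v₀ ⊓ img g (S.line v₀) ≠ ⊥)
    (hnp : ¬ img g (S.line v₀) ≤ perp (S.line v₀)) :
    ∃ v : 𝕍, v ≠ 0 ∧ ∃ c : F, c ≠ 0 ∧ tvc v c ∈ M := by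
  have hm0 : 0 < m := by omega
  have hfin := S.finite hm0
  have hgS : g ∈ spGL m F := hMS hg
  have h2E : (2 : E) = 0 := by
    have := congrArg (algebraMap F E) hch
    rwa [map_ofNat, map_zero] at this
  have hdbl : ∀ x : 𝕍, x + x = 0 := by
    intro x
    rw [← two_smul F x, hch, zero_smul]
  -- a common vector
  obtain ⟨v, hv, hv0⟩ := (Submodule.ne_bot_iff _).mp h1
  obtain ⟨hvL, hvg⟩ := Submodule.mem_inf.mp hv
  obtain ⟨u₀, hu₀L, hgu₀⟩ := mem_img.mp hvg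
  have hu₀0 : u₀ ≠ 0 := by
    rintro rfl
    apply hv0
    rw [← hgu₀, Matrix.mulVec_zero]
  have hLv : S.line v = S.line v₀ := S.line_eq_of_mem hvL hv0
  have hLu : S.line u₀ = S.line v₀ := S.line_eq_of_mem hu₀L hu₀0
  -- ξ₁ and κ₀
  obtain ⟨ξ₁, hξ₁⟩ : ∃ ξ₁ : E, S.τ ξ₁ = 1 := by
    obtain ⟨b, hb⟩ := S.exists_tau_ne hv0 (one_ne_zero : (1 : E) ≠ 0)
    rw [one_mul] at hb
    exact ⟨(S.τ b)⁻¹ • b, by rw [map_smul, smul_eq_mul, inv_mul_cancel₀ hb]⟩
  obtain ⟨κ₀, hκ₀, hτκ⟩ : ∃ κ₀ : E, κ₀ ≠ 0 ∧ S.τ κ₀ = 0 := by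
    have h2 := LinearMap.finrank_range_add_finrank_ker S.τ
    have h3 : finrank F (LinearMap.range S.τ) ≤ 1 := by
      have := Submodule.finrank_le (LinearMap.range S.τ)
      rwa [Module.finrank_self] at this
    have h4 : 0 < finrank F (LinearMap.ker S.τ) := by omega
    obtain ⟨⟨k, hk⟩, hk0⟩ := (Module.finrank_pos_iff_exists_ne_zero).mp h4
    exact ⟨k, fun h => hk0 (Subtype.ext h), hk⟩
  set ω : E := κ₀⁻¹ * ξ₁ with hω
  set l₀ : F := S.τ (κ₀⁻¹ * ξ₁ * ξ₁) with hl₀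
  have hτωκ : S.τ (ω * κ₀) = 1 := by
    have : ω * κ₀ = ξ₁ := by rw [hω]; field_simp
    rw [this, hξ₁]
  -- every element of E is s + t ω
  have hbasis : ∀ e : E, ∃ s t : F, e = algebraMap F E s + t • ω := by
    intro e
    set φ : E →ₗ[F] F := S.τ.comp (LinearMap.mulRight F κ₀) with hφ
    have hφ1 : φ ω = 1 := by rw [hφ]; simpa using hτωκ
    have hφone : φ 1 = 0 := by rw [hφ]; simpa using hτκ
    have hφe : φ (e - φ e • ω) = 0 := by
      rw [map_sub, map_smul, hφ1, smul_eq_mul, mul_one, sub_self]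
    obtain ⟨c, hc⟩ := ker_eq_span hr2 φ hφ1 one_ne_zero hφone _ hφe
    refine ⟨c, φ e, ?_⟩
    rw [Algebra.algebraMap_eq_smul_one, ← hc]
    abel
  -- the element h₂
  have hk₂ : S.kt u₀ κ₀⁻¹ ∈ M := S.kt_mem_of M hM _ _
  obtain ⟨h₂, hh₂def⟩ : ∃ h₂ : GL (Fin m ⊕ Fin m) F, h₂ = g * S.kt u₀ κ₀⁻¹ * g⁻¹ := ⟨_, rfl⟩
  have hh₂M : h₂ ∈ M := by rw [hh₂def]; exact M.mul_mem (M.mul_mem hg hk₂) (M.inv_mem hg)
  set w₂ : 𝕍 := (g : 𝕄) *ᵥ (S.act ω u₀) with hw₂
  have hh₂ : (h₂ : 𝕄) = Emat v w₂ l₀ := by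
    rw [hh₂def, Units.val_mul, Units.val_mul, kt_eq_Emat S hr2 hch hm0 u₀ hκ₀ hτκ hξ₁,
      Emat_conj hgS, hgu₀]
  have hvw₂ : sympForm m F v w₂ = 0 := by
    rw [← hgu₀, hw₂, mem_spGL.mp hgS, S.form_act_right, S.alt, mul_zero, map_zero]
  set β : E := S.fE w₂ v with hβdef
  have hβ : β ≠ 0 := by
    intro hβ0
    apply hnp
    intro x hx
    obtain ⟨y, hy, rfl⟩ := mem_img.mp hx
    rw [← hLu] at hy
    obtain ⟨e, rfl⟩ := S.mem_line.mp hy
    obtain ⟨s, t, rfl⟩ := hbasis e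
    rw [← hLv, S.mem_perp_line hv0, S.act_add, S.act_algebraMap, S.act_smul, Matrix.mulVec_add,
      Matrix.mulVec_smul, Matrix.mulVec_smul, hgu₀, S.add_left, S.fE_fsmul_left', S.fE_fsmul_left',
      S.alt, ← hw₂, ← hβdef, hβ0, smul_zero, smul_zero, add_zero]
  -- the elements H(w)
  have hH : ∀ w : 𝕍, S.fE w v = 0 →
      ∃ y ∈ M, (y : 𝕄) = Emat v (S.act β w + S.act (S.fE w₂ w) v) 0 := by
    intro w hw
    have hσM : S.sg v w hw ∈ M := S.sg_mem_of M hM hw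
    have hσS : S.sg v w hw ∈ spGL m F := S.sg_mem hw
    obtain ⟨σ, hσ⟩ : ∃ σ : GL (Fin m ⊕ Fin m) F, σ = S.sg v w hw := ⟨_, rfl⟩
    rw [← hσ] at hσM hσS
    have hσw₂ : (σ : 𝕄) *ᵥ w₂ = w₂ + (S.act β w + S.act (S.fE w₂ w) v) := by
      rw [hσ]; exact S.sg_mulVec hw w₂
    have hσv : (σ : 𝕄) *ᵥ v = v := by rw [hσ]; exact S.sg_fix hw
    refine ⟨h₂ * (σ * h₂ * σ⁻¹), M.mul_mem hh₂M (M.mul_mem (M.mul_mem hσM hh₂M) (M.inv_mem hσM)), ?_⟩
    have hvσ : sympForm m F v ((σ : 𝕄) *ᵥ w₂) = 0 := by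
      have := mem_spGL.mp hσS v w₂
      rw [hσv] at this
      rw [this]; exact hvw₂
    rw [Units.val_mul, Units.val_mul, Units.val_mul, hh₂, Emat_conj hσS, hσv, Emat_mul hvw₂ hvσ]
    have e1 : w₂ + (σ : 𝕄) *ᵥ w₂ = S.act β w + S.act (S.fE w₂ w) v := by
      rw [hσw₂, ← add_assoc, hdbl, zero_add]
    have e2 : l₀ + l₀ + sympForm m F ((σ : 𝕄) *ᵥ w₂) w₂ = 0 := by
      have e3 : l₀ + l₀ = 0 := by rw [← two_mul, hch, zero_mul]
      rw [e3, zero_add, hσw₂, sympForm_add_left, sympForm_self, zero_add, sympForm_add_left,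
        S.form_act_left, S.form_act_left, S.skew w w₂, S.skew v w₂, ← hβdef, ← map_add]
      have : β * -S.fE w₂ w + S.fE w₂ w * -β = (2 : E) * (- (β * S.fE w₂ w)) := by ring
      rw [this, h2E, zero_mul, map_zero]
    rw [e1, e2]
  -- the transvections
  have hT : ∀ w w' : 𝕍, S.fE w v = 0 → S.fE w' v = 0 →
      tvc v (S.τ (β * β * S.fE w' w)) ∈ M := by
    intro w w' hw hw'
    have hww' : S.fE (w + w') v = 0 := by rw [S.add_left, hw, hw', add_zero]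
    obtain ⟨y₁, hy₁, hy₁v⟩ := hH w hw
    obtain ⟨y₂, hy₂, hy₂v⟩ := hH w' hw'
    obtain ⟨y₃, hy₃, hy₃v⟩ := hH (w + w') hww'
    set X : 𝕍 := S.act β w + S.act (S.fE w₂ w) v with hX
    set X' : 𝕍 := S.act β w' + S.act (S.fE w₂ w') v with hX'
    have hX3 : S.act β (w + w') + S.act (S.fE w₂ (w + w')) v = X + X' := by
      rw [S.act_vadd, S.fE_add_right, S.act_add, hX, hX']; abel
    rw [hX3] at hy₃v
    have hvX : sympForm m F v X = 0 := by
      rw [hX, sympForm_add_right, S.form_act_right, S.form_act_right, S.alt, S.skew v w, hw]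
      simp
    have hvX' : sympForm m F v X' = 0 := by
      rw [hX', sympForm_add_right, S.form_act_right, S.form_act_right, S.alt, S.skew v w', hw']
      simp
    have hvXX : sympForm m F v (X + X') = 0 := by rw [sympForm_add_right, hvX, hvX', add_zero]
    have hXX : sympForm m F X' X = S.τ (β * β * S.fE w' w) := by
      have hvw : S.fE v w = 0 := by rw [S.skew, hw, neg_zero]
      rw [S.form_eq', hX, hX']
      simp only [S.add_left, S.fE_add_right, S.fE_smul_left, S.fE_smul_right, S.alt, hw', hvw,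
        mul_zero, add_zero]
      congr 1
      ring
    have hprod : ((y₁ * y₂ * y₃ : GL (Fin m ⊕ Fin m) F) : 𝕄)
        = ((tvc v (S.τ (β * β * S.fE w' w)) : GL (Fin m ⊕ Fin m) F) : 𝕄) := by
      rw [Units.val_mul, Units.val_mul, hy₁v, hy₂v, hy₃v, Emat_mul hvX hvX', Emat_mul hvXX hvXX,
        hdbl, sympForm_self, ← Emat_zero, hXX]
      congr 1
      ring
    have : y₁ * y₂ * y₃ = tvc v (S.τ (β * β * S.fE w' w)) := Units.ext hprod
    rw [← this]
    exact M.mul_mem (M.mul_mem hy₁ hy₂) hy₃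
  -- choice of w, w'
  obtain ⟨w, w', hw, hw', hne⟩ := exists_perp_pair S hr2 hm hv0
  have ha : β * β * S.fE w' w ≠ 0 := mul_ne_zero (mul_ne_zero hβ hβ) hne
  obtain ⟨b, hb⟩ := S.exists_tau_ne hv0 ha
  refine ⟨v, hv0, _, hb, ?_⟩
  have hw'' : S.fE (S.act b w') v = 0 := by rw [S.fE_smul_left, hw', mul_zero]
  have := hT w (S.act b w') hw hw''
  rw [S.fE_smul_left] at this
  have e : β * β * (b * S.fE w' w) = β * β * S.fE w' w * b := by ring
  rwa [e] at this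

end Cfsg.Agent.Lib.Helper22.C3sLeaf
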