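/-
helper22: BT-CZ (helper19's S0997 market, twin): a type B character (`v = -1`, degree `p - 1`) forces `C_G(P) = P`
(helper7's TYPEB + CZ).
-/
import Mathlib
import Cfsg.Prelude.Def_BlockRank
import Cfsg.Prelude.Def_CaseTheorems
import Cfsg.Agent.Lib.Helper6.BRHDefs
import Cfsg.Agent.Lib.Helper24.BRCDefs
import Cfsg.Agent.Lib.Helper7.BRWTYPEB
import Cfsg.Agent.Lib.Helper7.BRWCZ

set_option autoImplicit false

namespace Cfsg.Agent.Lib.Helper22.BTCZ

open Cfsg Cfsg.Agent.Lib.Helper8.DOM Cfsg.Agent.Lib.Helper27.DO Cfsg.Agent.CharLib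
open Cfsg.Agent.Lib.Helper6.BRH Cfsg.Agent.Lib.Helper24.BRC
open scoped ComplexConjugate

universe u

variable {G : Type u} [Group G] [Finite G] {p : ℕ} [Fact p.Prime]

variable {X Y : Set (IrrCharacter G)} {v : IrrCharacter G → ℤ} {ε : ℤ}

/-- BT-CZ  (step 5, end). -/
theorem Cz_eq (hcore : pPrimeCore p G = ⊥) (P : Subgroup G) (hP : Nat.card P = p) (hSyl : ¬ p ∣ P.index) (b0 : B0 p P X Y v ε)
    (η : IrrCharacter G) (hη : η ∈ X) (hv : v η = -1) (hdeg : charDegree (η : G → ℂ) = p - 1) : Cz P = P := by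
  have hpp : p.Prime := Fact.out
  have hord : ∀ x ∈ P, x ≠ 1 → orderOf x = p := by
    intro x hx hx1
    have h1 : orderOf (⟨x, hx⟩ : P) ∣ p := by
      rw [← hP]; exact orderOf_dvd_natCard _
    rw [Subgroup.orderOf_mk] at h1
    rcases (Nat.dvd_prime hpp).mp h1 with h | h
    · exact absurd (orderOf_eq_one_iff.mp h) hx1
    · exact h
  have hker := Cfsg.Agent.Lib.Helper7.BRWTYPEB.apply_eq_degree_of_typeB P hP hSyl η hdeg (by
    intro x hx hx1 y hy hyreg
    have hcomm : Commute x y := (Subgroup.mem_centralizer_iff.mp hy x hx)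
    have hco : (orderOf x).Coprime (orderOf y) := by
      rw [hord x hx hx1]; exact (Nat.Prime.coprime_iff_not_dvd hpp).mpr hyreg
    have h3 : p ∣ orderOf (x * y) := by
      rw [hcomm.orderOf_mul_eq_mul_orderOf_of_coprime hco, hord x hx hx1]
      exact dvd_mul_right _ _
    have := b0.valX η hη (x * y) h3
    rw [this, hv]; simp)
  apply Cfsg.Agent.Lib.Helper7.BRWCZ.Cz_eq_of_typeB hcore P hP hSyl η hker
  -- an element of `P#`
  have hnt : Nontrivial P := by
    rw [← Finite.one_lt_card_iff_nontrivial, hP]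
    exact hpp.one_lt
  obtain ⟨x, hx⟩ := exists_ne (1 : P)
  have hx1 : (x : G) ≠ 1 := fun h => hx (Subtype.ext h)
  refine ⟨(x : G), x.2, ?_⟩
  rw [b0.valX η hη (x : G) (by rw [hord (x : G) x.2 hx1]), hv, apply_one_eq, hdeg]
  intro h
  have h1 : ((p - 1 : ℕ) : ℂ) = (p : ℂ) - 1 := by
    rw [Nat.cast_sub hpp.one_le]; simp
  rw [h1] at h
  have h2 : (p : ℂ) = 0 := by
    push_cast at h
    linear_combination -h
  exact hpp.ne_zero (by exact_mod_cast h2)

end Cfsg.Agent.Lib.Helper22.BTCZ
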