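/-
helper22: BRW-FROB (helper27's BRW market, S4700 + S0996): an irreducible character equal to `+1` on the
`p`-singular elements of `C_G(P)` is a constituent of `Ind_N^G β` for a linear character `β` of `N / C`;
hence `χ(1) ≤ |G : N_G(P)|`.
-/
import Mathlib
import Cfsg.Prelude.Def_BlockRank
import Cfsg.Prelude.Def_CaseTheorems
import Cfsg.Agent.Lib.Helper6.BRHDefs
import Cfsg.Agent.Lib.Helper27.BRWDefs
import Cfsg.Agent.Lib.Helper29.BRHLAM
import Cfsg.Agent.Lib.Helper10.BRHROW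
import Cfsg.Agent.Lib.Helper6.CharExtra
import Cfsg.Agent.Lib.Helper6.Knoerr
import Cfsg.Agent.Lib.Helper23.LinTwist
import Cfsg.Agent.Lib.Lead.CharInd

set_option autoImplicit false

namespace Cfsg.Agent.Lib.Helper22.BRWFROB

open Cfsg Cfsg.Agent.Lib.Helper8.DOM Cfsg.Agent.Lib.Helper27.DO Cfsg.Agent.CharLib
open Cfsg.Agent.Lib.Helper6.BRH Cfsg.Agent.Lib.Helper27.BRW
open scoped ComplexConjugate

universe u

/-- the dual of a finite commutative group is finite -/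
theorem finite_dual (B : Type*) [CommGroup B] [Finite B] : Finite (B →* ℂˣ) := by
  have hne : NeZero ((Monoid.exponent B : ℕ) : ℂ) :=
    ⟨by exact_mod_cast Monoid.exponent_ne_zero_of_finite⟩
  have h := CommGroup.card_monoidHom_of_hasEnoughRootsOfUnity B ℂ
  have h2 : Nat.card (B →* ℂˣ) ≠ 0 := by
    rw [h]; exact Nat.card_pos.ne'
  exact Nat.finite_of_card_ne_zero h2

/-- orthogonality in the dual of a finite commutative group -/
theorem sum_dual_eq_zero (B : Type*) [CommGroup B] [Finite B] [Fintype (B →* ℂˣ)] (b : B)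
    (hb : b ≠ 1) : ∑ φ : B →* ℂˣ, ((φ b : ℂˣ) : ℂ) = 0 := by
  have hne : NeZero ((Monoid.exponent B : ℕ) : ℂ) :=
    ⟨by exact_mod_cast Monoid.exponent_ne_zero_of_finite⟩
  obtain ⟨φ0, hφ0⟩ := CommGroup.exists_apply_ne_one_of_hasEnoughRootsOfUnity B ℂ hb
  have h1 : ((φ0 b : ℂˣ) : ℂ) * ∑ φ : B →* ℂˣ, ((φ b : ℂˣ) : ℂ) =
      ∑ φ : B →* ℂˣ, ((φ b : ℂˣ) : ℂ) := by
    rw [Finset.mul_sum]
    rw [← Equiv.sum_comp (Equiv.mulLeft φ0) (fun φ : B →* ℂˣ => ((φ b : ℂˣ) : ℂ))]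
    apply Finset.sum_congr rfl
    intro φ _
    simp
  have h2 : (((φ0 b : ℂˣ) : ℂ) - 1) * ∑ φ : B →* ℂˣ, ((φ b : ℂˣ) : ℂ) = 0 := by
    rw [sub_mul, h1, one_mul, sub_self]
  rcases mul_eq_zero.mp h2 with h3 | h3
  · exfalso
    apply hφ0
    apply Units.ext
    rw [Units.val_one]
    exact sub_eq_zero.mp h3
  · exact h3

/-- the value of the sum over the dual -/
theorem sum_dual (B : Type*) [CommGroup B] [Finite B] [Fintype (B →* ℂˣ)] [DecidableEq B] (b : B) :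
    ∑ φ : B →* ℂˣ, ((φ b : ℂˣ) : ℂ) = if b = 1 then (Nat.card (B →* ℂˣ) : ℂ) else 0 := by
  split_ifs with hb
  · subst hb
    simp [Nat.card_eq_fintype_card]
  · exact sum_dual_eq_zero B b hb

variable {G : Type u} [Group G] [Finite G] {p : ℕ} [Fact p.Prime]

/-- **Frobenius**: an irreducible constituent of an induced character has at most its degree. -/
theorem degree_le_of_mult_ne_zero (H : Subgroup G) (χ : IrrCharacter G) (β : IrrCharacter H)
    (hβ1 : (β : H → ℂ) 1 = 1) (h : mult H (χ : G → ℂ) (β : H → ℂ) ≠ 0) :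
    charDegree (χ : G → ℂ) ≤ H.index := by
  classical
  let _ : Fintype G := Fintype.ofFinite G
  let _ : Fintype H := Fintype.ofFinite H
  have hΦ : IsCharacter G (indFun H (β : H → ℂ)) :=
    IsCharacter.indFun H (IsIrrCharacter.isCharacter β.2)
  have hχc := IsIrrCharacter.isCharacter χ.2
  have hfr := frobenius_reciprocity H (β : H → ℂ) (IsCharacter.isClassFunction hχc)
  have hne : classInner (indFun H (β : H → ℂ)) (χ : G → ℂ) ≠ 0 := by
    rw [hfr]
    intro h0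
    apply h
    rw [Cfsg.Agent.Lib.Helper10.BRHROW.mult_eq_classInner]
    have h1 : conj (classInner (β : H → ℂ) (fun h : H => (χ : G → ℂ) h)) =
        classInner (fun h : H => (χ : G → ℂ) (h : G)) (β : H → ℂ) := by
      unfold classInner
      rw [map_mul, map_inv₀, Complex.conj_natCast, map_sum]
      congr 1
      apply Finset.sum_congr rfl
      intro y _
      rw [map_mul, Complex.conj_conj, mul_comm]
    rw [← h1, h0, map_zero]
  have hsub := Cfsg.Agent.Lib.Helper6.IsCharacter.sub_constituent hΦ χ.2 hne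
  obtain ⟨k, hk⟩ := IsCharacter.apply_one hsub
  rw [Pi.sub_apply, Cfsg.Agent.Lib.Helper6.indFun_apply_one, hβ1, mul_one, apply_one_eq] at hk
  have hidx : (Nat.card H : ℂ)⁻¹ * (Nat.card G : ℂ) = (H.index : ℂ) := by
    have hH : (Nat.card H : ℂ) ≠ 0 := by exact_mod_cast Nat.card_pos.ne'
    rw [← Subgroup.card_mul_index H]
    push_cast
    field_simp
  rw [hidx] at hk
  have h2 : ((H.index : ℕ) : ℂ) = ((charDegree (χ : G → ℂ) + k : ℕ) : ℂ) := by
    push_cast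
    rw [← hk]; ring
  have h3 : H.index = charDegree (χ : G → ℂ) + k := by exact_mod_cast h2
  omega

/-- FROB : `χ = +1` on the `p`-singular elements of `C_G(P)` ⇒ `χ` is a constituent of `Ind_N^G β` for a
linear `β` of `N/C`: `χ(1) ≤ |G : N_G(P)|`. -/
theorem degree_le_index (P : Subgroup G) (hP : Nat.card P = p) (hSyl : ¬ p ∣ P.index) (χ : IrrCharacter G)
    (hval : ∀ x ∈ P, x ≠ 1 → ∀ y ∈ Cz P, ¬ p ∣ orderOf y → (χ : G → ℂ) (x * y) = 1) :
    charDegree (χ : G → ℂ) ≤ (Nz P).index := by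
  classical
  have hp : p.Prime := Fact.out
  let _ : Fintype G := Fintype.ofFinite G
  let _ : Fintype (Cz P) := Fintype.ofFinite (Cz P)
  let _ : Fintype (Nz P) := Fintype.ofFinite (Nz P)
  obtain ⟨M, hM⟩ := Cfsg.Agent.Lib.Helper6.exists_isPModular p
  obtain ⟨lam, hlam⟩ := Cfsg.Agent.Lib.Helper29.BRHLAM.exists_lam hM P hP hSyl
  obtain ⟨x0, hx0⟩ := Cfsg.Agent.Lib.Helper7.DOS4441.exists_gen P hP
  have hord : orderOf x0 = p := by
    rw [← Nat.card_zpowers, ← hx0, hP]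
  have hx0P : x0 ∈ P := by rw [hx0]; exact Subgroup.mem_zpowers x0
  have hx0C : x0 ∈ Cz P := by
    rw [Subgroup.mem_centralizer_iff]
    intro z hz
    rw [SetLike.mem_coe, hx0] at hz
    obtain ⟨m, rfl⟩ := Subgroup.mem_zpowers_iff.mp hz
    exact ((Commute.refl x0).zpow_left m).eq
  -- `χ = 1` on the `p`-singular elements of `C`
  have hη : ∀ c : Cz P, p ∣ orderOf c → (χ : G → ℂ) (c : G) = 1 := by
    intro c hc
    obtain ⟨k, y, hk, hy, hcy⟩ := Cfsg.Agent.Lib.Helper29.BRHLAM.exists_decomp P hP hSyl x0 hx0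
      ⟨x0, hx0C⟩ rfl c hc
    have h1 : (c : G) = x0 ^ k * (y : G) := by
      rw [hcy]; simp
    rw [h1]
    apply hval (x0 ^ k) (P.pow_mem hx0P k) _ (y : G) y.2
    · rwa [Subgroup.orderOf_coe]
    · intro h2
      apply hk
      rw [← hord]
      exact orderOf_dvd_of_pow_eq_one h2
  -- `⟨χ|_C, 1_C⟩ ≥ 1`
  have hcardC : (Nat.card (Cz P) : ℂ) ≠ 0 := by
    exact_mod_cast Nat.card_pos.ne'
  have hu : (1 : ZMod p) ≠ 0 := by
    have : Fact (1 < p) := ⟨hp.one_lt⟩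
    exact one_ne_zero
  obtain ⟨n1, hn1⟩ := Cfsg.Agent.Lib.Helper10.BRHROW.mult_nat (Cz P)
    (IsIrrCharacter.isCharacter χ.2) (lam 1)
  have h1 : ∑ h : Cz P, conj ((lam 1 : Cz P → ℂ) h) = 0 := by
    have h := classInner_irr' (lam 1) (lam 0)
    rw [if_neg (fun h' => hu (hlam.inj h'))] at h
    unfold classInner at h
    have h2 : ∑ g : Cz P, (lam 1 : Cz P → ℂ) g * conj ((lam 0 : Cz P → ℂ) g) = 0 := by
      rcases mul_eq_zero.mp h with h3 | h3
      · exact absurd (inv_eq_zero.mp h3) hcardC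
      · exact h3
    have h3 : ∑ g : Cz P, (lam 1 : Cz P → ℂ) g = 0 := by
      rw [← h2]
      apply Finset.sum_congr rfl
      intro g _
      rw [hlam.zero g, map_one, mul_one]
    rw [← map_sum, h3, map_zero]
  have h0 : ∑ h : Cz P, conj ((lam 0 : Cz P → ℂ) h) = (Nat.card (Cz P) : ℂ) := by
    have : ∀ h : Cz P, conj ((lam 0 : Cz P → ℂ) h) = 1 := by
      intro h
      rw [hlam.zero h, map_one]
    rw [Finset.sum_congr rfl (fun h _ => this h), Finset.sum_const, Finset.card_univ, nsmul_eq_mul,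
      mul_one, Nat.card_eq_fintype_card]
  have hterm : ∀ h : Cz P, (χ : G → ℂ) (h : G) * conj ((lam 0 : Cz P → ℂ) h) -
      (χ : G → ℂ) (h : G) * conj ((lam 1 : Cz P → ℂ) h) =
      conj ((lam 0 : Cz P → ℂ) h) - conj ((lam 1 : Cz P → ℂ) h) := by
    intro h
    by_cases hh : p ∣ orderOf h
    · rw [hη h hh]
      ring
    · rw [hlam.reg 1 h hh, hlam.reg 0 h hh]
      ring
  have hdiff : mult (Cz P) (χ : G → ℂ) (lam 0 : Cz P → ℂ) -
      mult (Cz P) (χ : G → ℂ) (lam 1 : Cz P → ℂ) = 1 := by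
    rw [Cfsg.Agent.Lib.Helper10.BRHROW.mult_sum, Cfsg.Agent.Lib.Helper10.BRHROW.mult_sum, ← mul_sub,
      ← Finset.sum_sub_distrib, Finset.sum_congr rfl (fun h _ => hterm h), Finset.sum_sub_distrib,
      h1, h0, sub_zero]
    exact inv_mul_cancel₀ hcardC
  have hsumC : ∑ c : Cz P, (χ : G → ℂ) (c : G) = (Nat.card (Cz P) : ℂ) * ((n1 : ℂ) + 1) := by
    have h2 : mult (Cz P) (χ : G → ℂ) (lam 0 : Cz P → ℂ) = (n1 : ℂ) + 1 := by
      rw [← hn1, ← hdiff]; ring
    rw [Cfsg.Agent.Lib.Helper10.BRHROW.mult_sum] at h2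
    have h3 : ∑ c : Cz P, (χ : G → ℂ) (c : G) * conj ((lam 0 : Cz P → ℂ) c) =
        ∑ c : Cz P, (χ : G → ℂ) (c : G) := by
      apply Finset.sum_congr rfl
      intro c _
      rw [hlam.zero c, map_one, mul_one]
    rw [h3] at h2
    rw [← h2]
    field_simp
  have hsumC_ne : ∑ c : Cz P, (χ : G → ℂ) (c : G) ≠ 0 := by
    rw [hsumC]
    apply mul_ne_zero hcardC
    have : ((n1 : ℂ) + 1) = ((n1 + 1 : ℕ) : ℂ) := by push_cast; ring
    rw [this]
    exact_mod_cast Nat.succ_ne_zero n1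
  -- the homomorphism `N → Aut P ≅ (ℤ/p)ˣ` with kernel `C`
  have : IsCyclic P := isCyclic_of_prime_card hP
  have : NeZero (Nat.card P) := ⟨by rw [hP]; exact hp.ne_zero⟩
  let e : MulAut P ≃* (ZMod (Nat.card P))ˣ := IsCyclic.mulAutMulEquiv P
  let ρ : Nz P →* (ZMod (Nat.card P))ˣ := e.toMonoidHom.comp P.normalizerMonoidHom
  have hker : ∀ y : Nz P, ρ y = 1 ↔ (y : G) ∈ Cz P := by
    intro y
    have h2 : ρ y = 1 ↔ P.normalizerMonoidHom y = 1 := by
      show e (P.normalizerMonoidHom y) = 1 ↔ _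
      exact MulEquiv.map_eq_one_iff e
    rw [h2, ← MonoidHom.mem_ker, Subgroup.normalizerMonoidHom_ker, Subgroup.mem_subgroupOf]
  have hCN : Cz P ≤ Nz P := Subgroup.centralizer_le_normalizer _
  have : Finite ((ZMod (Nat.card P))ˣ →* ℂˣ) := finite_dual _
  let _ : Fintype ((ZMod (Nat.card P))ˣ →* ℂˣ) := Fintype.ofFinite _
  -- the linear characters of `N` coming from the dual of `(ℤ/p)ˣ`
  let β : ((ZMod (Nat.card P))ˣ →* ℂˣ) → IrrCharacter (Nz P) :=
    fun φ => Cfsg.Agent.Lib.Helper23.lin (φ.comp ρ)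
  have hβ : ∀ φ (y : Nz P), (β φ : Nz P → ℂ) y = ((φ (ρ y) : ℂˣ) : ℂ) := fun φ y => rfl
  -- the sum of the multiplicities
  have hK : (Nat.card ((ZMod (Nat.card P))ˣ →* ℂˣ) : ℂ) ≠ 0 := by
    exact_mod_cast Nat.card_pos.ne'
  have hcardN : (Nat.card (Nz P) : ℂ) ≠ 0 := by
    exact_mod_cast Nat.card_pos.ne'
  have hsum : ∑ φ : (ZMod (Nat.card P))ˣ →* ℂˣ, mult (Nz P) (χ : G → ℂ) (β φ : Nz P → ℂ) =
      (Nat.card (Nz P) : ℂ)⁻¹ * ((Nat.card ((ZMod (Nat.card P))ˣ →* ℂˣ) : ℂ) *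
        ∑ c : Cz P, (χ : G → ℂ) (c : G)) := by
    have h2 : ∀ φ : (ZMod (Nat.card P))ˣ →* ℂˣ, mult (Nz P) (χ : G → ℂ) (β φ : Nz P → ℂ) =
        (Nat.card (Nz P) : ℂ)⁻¹ * ∑ y : Nz P, (χ : G → ℂ) (y : G) * conj ((β φ : Nz P → ℂ) y) :=
      fun φ => Cfsg.Agent.Lib.Helper10.BRHROW.mult_sum (Nz P) _ _
    rw [Finset.sum_congr rfl (fun φ _ => h2 φ), ← Finset.mul_sum, Finset.sum_comm]
    congr 1
    have h3 : ∀ y : Nz P, ∑ φ : (ZMod (Nat.card P))ˣ →* ℂˣ,
        (χ : G → ℂ) (y : G) * conj ((β φ : Nz P → ℂ) y) =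
        if (y : G) ∈ Cz P then (Nat.card ((ZMod (Nat.card P))ˣ →* ℂˣ) : ℂ) * (χ : G → ℂ) (y : G)
        else 0 := by
      intro y
      rw [← Finset.mul_sum, ← map_sum]
      have h4 : ∑ φ : (ZMod (Nat.card P))ˣ →* ℂˣ, (β φ : Nz P → ℂ) y =
          ∑ φ : (ZMod (Nat.card P))ˣ →* ℂˣ, ((φ (ρ y) : ℂˣ) : ℂ) :=
        Finset.sum_congr rfl (fun φ _ => hβ φ y)
      rw [h4, sum_dual]
      by_cases hy : (y : G) ∈ Cz P
      · rw [if_pos ((hker y).mpr hy), if_pos hy, Complex.conj_natCast, mul_comm]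
      · rw [if_neg (fun h => hy ((hker y).mp h)), if_neg hy, map_zero, mul_zero]
    rw [Finset.sum_congr rfl (fun y _ => h3 y), ← Finset.sum_filter, Finset.mul_sum]
    refine (Finset.sum_bij (fun (c : Cz P) _ => (⟨(c : G), hCN c.2⟩ : Nz P)) ?_ ?_ ?_ ?_).symm
    · intro c _
      simp only [Finset.mem_filter, Finset.mem_univ, true_and]
      exact c.2
    · intro c _ c' _ hcc
      apply Subtype.ext
      exact congrArg (fun z : Nz P => (z : G)) hcc
    · intro y hy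
      simp only [Finset.mem_filter, Finset.mem_univ, true_and] at hy
      exact ⟨⟨(y : G), hy⟩, Finset.mem_univ _, Subtype.ext rfl⟩
    · intro c _
      rfl
  have hex : ∃ φ : (ZMod (Nat.card P))ˣ →* ℂˣ, mult (Nz P) (χ : G → ℂ) (β φ : Nz P → ℂ) ≠ 0 := by
    by_contra hcon
    have hcon : ∀ φ : (ZMod (Nat.card P))ˣ →* ℂˣ, mult (Nz P) (χ : G → ℂ) (β φ : Nz P → ℂ) = 0 :=
      fun φ => by_contra (fun h => hcon ⟨φ, h⟩)
    rw [Finset.sum_congr rfl (fun φ _ => hcon φ), Finset.sum_const_zero] at hsum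
    have := mul_ne_zero (inv_ne_zero hcardN) (mul_ne_zero hK hsumC_ne)
    exact this hsum.symm
  obtain ⟨φ, hφ⟩ := hex
  apply degree_le_of_mult_ne_zero (Nz P) χ (β φ) _ hφ
  rw [hβ, map_one, map_one, Units.val_one]

end Cfsg.Agent.Lib.Helper22.BRWFROB
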