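/-
helper22: S4700/S0996 wrapper leaf BRW-QUOT (`quot_data`): passage to `G / O_{p'}(G)`.
-/
import Mathlib
import Cfsg.Prelude.Def_BlockRank
import Cfsg.Prelude.Def_CaseTheorems
import Cfsg.Agent.Lib.Helper6.BRHDefs
import Cfsg.Agent.Lib.Helper27.BRWDefs
import Cfsg.Agent.Lib.Helper9.PComponent
import Cfsg.Agent.Lib.Helper12.Cores

set_option autoImplicit false

namespace Cfsg.Agent.Lib.Helper22.BRWQUOT

open Cfsg Cfsg.Agent.Lib.Helper8.DOM Cfsg.Agent.Lib.Helper27.DO Cfsg.Agent.CharLib
open Cfsg.Agent.Lib.Helper6.BRH Cfsg.Agent.Lib.Helper27.BRW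
open scoped ComplexConjugate

universe u

variable {G : Type u} [Group G] [Finite G] {p : ℕ} [Fact p.Prime]

omit [Finite G] [Fact p.Prime] in
/-- the image of a perfect group is perfect -/
theorem commutator_quotient_eq_top (hperf : commutator G = ⊤) (N : Subgroup G) [N.Normal] :
    commutator (G ⧸ N) = ⊤ := by
  have h1 : (commutator G).map (QuotientGroup.mk' N) = commutator (G ⧸ N) := by
    rw [commutator_def, commutator_def, Subgroup.map_commutator,
      Subgroup.map_top_of_surjective _ (QuotientGroup.mk'_surjective N)]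
  rw [← h1, hperf, Subgroup.map_top_of_surjective _ (QuotientGroup.mk'_surjective N)]

/-- a number `≡ 1 (mod p)` -/
theorem exists_eq_one_add_mul {t : ℕ} (ht : t ≡ 1 [MOD p]) : ∃ k : ℕ, t = 1 + k * p := by
  have hp : p.Prime := Fact.out
  have h1 : 1 ≤ t := by
    rcases Nat.eq_zero_or_pos t with h | h
    · exfalso
      rw [h] at ht
      have := (Nat.modEq_zero_iff_dvd.mp ht.symm)
      exact hp.one_lt.ne' (Nat.dvd_one.mp this)
    · exact h
  have h2 : p ∣ t - 1 := (Nat.modEq_iff_dvd' h1).mp ht.symm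
  obtain ⟨k, hk⟩ := h2
  exact ⟨k, by rw [mul_comm]; omega⟩

/-- QUOT : passage to `G / O_{p'}(G)`. -/
theorem quot_data (hperf : commutator G = ⊤) (P : Sylow p G) (hP : Nat.card P = p) (n : ℕ)
    (hn : Nat.card (Sylow p G) = 1 + n * p) :
    commutator (G ⧸ pPrimeCore p G) = ⊤ ∧ pPrimeCore p (G ⧸ pPrimeCore p G) = ⊥ ∧
    ∃ (Q : Sylow p (G ⧸ pPrimeCore p G)) (m k : ℕ), Nat.card Q = p ∧
      Nat.card (Sylow p (G ⧸ pPrimeCore p G)) = 1 + m * p ∧ 1 + n * p = (1 + m * p) * (1 + k * p) := by
  classical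
  have hp : p.Prime := Fact.out
  refine ⟨commutator_quotient_eq_top hperf _, Cfsg.Agent.Lib.Helper9.pPrimeCore_quotient_eq_bot p, ?_⟩
  set H : Subgroup G := pPrimeCore p G with hH
  set π : G →* G ⧸ H := QuotientGroup.mk' H with hπ
  have hsurj : Function.Surjective π := QuotientGroup.mk'_surjective H
  set Q : Sylow p (G ⧸ H) := P.mapSurjective hsurj with hQ
  have hQcoe : (Q : Subgroup (G ⧸ H)) = (P : Subgroup G).map π := Sylow.coe_mapSurjective hsurj P
  -- the order of `Q`
  have hcop : (Nat.card H).Coprime p := Cfsg.Agent.Lib.Helper12.pPrimeCore_coprime p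
  have hQcard : Nat.card Q = p := by
    have hfacG : (Nat.card G).factorization p = 1 := by
      have h1 := P.card_eq_multiplicity
      have hP' : Nat.card (P : Subgroup G) = p := hP
      rw [hP'] at h1
      have : p ^ 1 = p ^ (Nat.card G).factorization p := by rw [pow_one]; exact h1
      exact (Nat.pow_right_injective hp.two_le this).symm
    have hcard : Nat.card G = Nat.card H * Nat.card (G ⧸ H) := by
      rw [← Subgroup.index_eq_card, mul_comm]
      exact (Subgroup.index_mul_card H).symm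
    have hfacH : (Nat.card H).factorization p = 0 := by
      apply Nat.factorization_eq_zero_of_not_dvd
      exact (Nat.Prime.coprime_iff_not_dvd hp).mp hcop.symm
    have hfacQ : (Nat.card (G ⧸ H)).factorization p = 1 := by
      have : (Nat.card G).factorization p = (Nat.card H * Nat.card (G ⧸ H)).factorization p := by
        rw [← hcard]
      rw [Nat.factorization_mul Nat.card_pos.ne' Nat.card_pos.ne', Finsupp.add_apply, hfacG,
        hfacH, zero_add] at this
      exact this.symm
    have h2 := Q.card_eq_multiplicity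
    rw [hfacQ, pow_one] at h2
    exact h2
  -- the numbers of Sylow subgroups
  obtain ⟨m, hm⟩ := exists_eq_one_add_mul (p := p) (card_sylow_modEq_one p (G ⧸ H))
  have hdvd : Nat.card (Sylow p (G ⧸ H)) ∣ Nat.card (Sylow p G) := by
    rw [Sylow.card_eq_index_normalizer P, Sylow.card_eq_index_normalizer Q]
    change (Subgroup.normalizer ((Q : Subgroup (G ⧸ H)) : Set (G ⧸ H))).index ∣
      (Subgroup.normalizer ((P : Subgroup G) : Set G)).index
    have h1 : (Subgroup.normalizer ((Q : Subgroup (G ⧸ H)) : Set (G ⧸ H))).index =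
        ((Subgroup.normalizer ((Q : Subgroup (G ⧸ H)) : Set (G ⧸ H))).comap π).index :=
      (Subgroup.index_comap_of_surjective _ hsurj).symm
    rw [h1]
    apply Subgroup.index_dvd_of_le
    intro g hg
    rw [Subgroup.mem_comap, hQcoe]
    exact Subgroup.le_normalizer_map π ⟨g, hg, rfl⟩
  rw [hn, hm] at hdvd
  obtain ⟨t, ht⟩ := hdvd
  have htmod : t ≡ 1 [MOD p] := by
    have h1 : (1 + m * p) * t ≡ 1 * t [MOD p] := by
      apply Nat.ModEq.mul_right
      have : 1 + m * p ≡ 1 + 0 [MOD p] := by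
        apply Nat.ModEq.add_left
        exact (Nat.modEq_zero_iff_dvd.mpr (dvd_mul_left p m))
      simp at this ⊢
    have h2 : 1 + n * p ≡ 1 [MOD p] := by
      have : 1 + n * p ≡ 1 + 0 [MOD p] := by
        apply Nat.ModEq.add_left
        exact (Nat.modEq_zero_iff_dvd.mpr (dvd_mul_left p n))
      simp at this ⊢
    rw [← ht, one_mul] at h1
    exact h1.symm.trans h2
  obtain ⟨k, hk⟩ := exists_eq_one_add_mul (p := p) htmod
  exact ⟨Q, m, k, hQcard, hm, by rw [ht, hk]⟩

end Cfsg.Agent.Lib.Helper22.BRWQUOT
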