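import Cfsg.Agent.Lib.Helper27.MajSubDefs
import Cfsg.Agent.Lib.Helper6.DefectOrder

/-!
helper22: S4539 (planner helper27), leaf ALG2a `card_le_trace`: `k ≤ α + γ - β` by the Galois AM-GM argument.
-/

set_option autoImplicit false

namespace Cfsg.Agent.Lib.Helper22.MajSubALG2a

open Cfsg Cfsg.Agent.CharLib Cfsg.Agent.Lib.Helper24 Cfsg.Agent.Lib.Helper6 Cfsg.Agent.Lib.Helper23
open Cfsg.Agent.Lib.Helper23.Subsec Cfsg.Agent.Lib.Helper27.MajSub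
open scoped ComplexConjugate

universe u w

variable {M : Ideal AlgInt} {p : ℕ} [hpp : Fact p.Prime]

/-- Galois AM-GM for a nonzero algebraic integer. -/
theorem card_gal_le_sum_norm_sq (hM : IsPModular p M) (K : Type w) [Field K] [Algebra ℚ K]
    [FiniteDimensional ℚ K] [IsGalois ℚ K] (φ : K →+* ℂ) (y : K) (hy : IsIntegral ℤ y)
    (hy0 : y ≠ 0) :
    (Fintype.card (K ≃ₐ[ℚ] K) : ℝ) ≤ ∑ σ : K ≃ₐ[ℚ] K, ‖φ (σ y)‖ ^ 2 := by
  have hprime : M.IsPrime := isPrime_of_isPModular hM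
  have h := card_gal_le_sum_norm_sq_local hM K φ y hy hy0 0 (fun σ => by
    rw [pow_zero, div_one]
    have h1 : IsIntegral ℤ (σ y) := hy.map σ
    have h2 : IsIntegral ℤ (φ (σ y)) := map_isIntegral_int φ h1
    exact memLocalRing_of_algInt (M := M) ⟨φ (σ y), h2⟩ hprime.one_notMem)
  simpa using h

theorem norm_identity (u v : ℂ) :
    ‖u‖ ^ 2 + ‖v‖ ^ 2 + ‖u - v‖ ^ 2 =
      2 * (conj u * u + conj v * v - conj u * v).re := by
  rw [← Complex.normSq_eq_norm_sq, ← Complex.normSq_eq_norm_sq, ← Complex.normSq_eq_norm_sq]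
  simp only [Complex.normSq_apply, Complex.sub_re, Complex.sub_im, Complex.add_re, Complex.mul_re,
    Complex.conj_re, Complex.conj_im]
  ring

theorem card_le_trace (hM : IsPModular p M) (K : Type w) [Field K] [Algebra ℚ K]
    [FiniteDimensional ℚ K] [IsGalois ℚ K] (φ : K →+* ℂ) {ι : Type*} [Fintype ι]
    (x : ι → Fin 2 → K) (hx : ∀ i a, IsIntegral ℤ (x i a))
    (hne : ∀ i, x i 0 ≠ 0 ∨ x i 1 ≠ 0)
    (Cm : Matrix (Fin 2) (Fin 2) ℤ)
    (hgram : ∀ σ : K ≃ₐ[ℚ] K, ∀ a b : Fin 2,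
      ∑ i, conj (φ (σ (x i a))) * φ (σ (x i b)) = (Cm a b : ℂ)) :
    (Fintype.card ι : ℤ) ≤ Cm 0 0 + Cm 1 1 - Cm 0 1 := by
  classical
  set g : ℝ := (Fintype.card (K ≃ₐ[ℚ] K) : ℝ) with hg
  have hgpos : 0 < g := by
    rw [hg]
    exact_mod_cast Fintype.card_pos_iff.mpr ⟨AlgEquiv.refl⟩
  set T : ℤ := Cm 0 0 + Cm 1 1 - Cm 0 1 with hT
  -- the quantity `q i σ`
  set q : ι → (K ≃ₐ[ℚ] K) → ℝ := fun i σ =>
    ‖φ (σ (x i 0))‖ ^ 2 + ‖φ (σ (x i 1))‖ ^ 2 + ‖φ (σ (x i 0 - x i 1))‖ ^ 2 with hq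
  have hsumσ : ∀ σ : K ≃ₐ[ℚ] K, ∑ i, q i σ = 2 * (T : ℝ) := by
    intro σ
    have h1 : ∀ i, q i σ = 2 * (conj (φ (σ (x i 0))) * φ (σ (x i 0)) +
        conj (φ (σ (x i 1))) * φ (σ (x i 1)) - conj (φ (σ (x i 0))) * φ (σ (x i 1))).re := by
      intro i
      rw [hq]
      simp only
      rw [map_sub, map_sub]
      exact norm_identity _ _
    rw [Finset.sum_congr rfl (fun i _ => h1 i), ← Finset.mul_sum, ← Complex.re_sum,
      Finset.sum_sub_distrib, Finset.sum_add_distrib, hgram σ 0 0, hgram σ 1 1, hgram σ 0 1]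
    rw [hT]
    push_cast
    simp [Complex.sub_re, Complex.add_re]
  have hsumi : ∀ i, 2 * g ≤ ∑ σ : K ≃ₐ[ℚ] K, q i σ := by
    intro i
    have hnn : ∀ y : K, 0 ≤ ∑ σ : K ≃ₐ[ℚ] K, ‖φ (σ y)‖ ^ 2 :=
      fun y => Finset.sum_nonneg (fun σ _ => sq_nonneg _)
    have hge : ∀ y : K, IsIntegral ℤ y → y ≠ 0 → g ≤ ∑ σ : K ≃ₐ[ℚ] K, ‖φ (σ y)‖ ^ 2 :=
      fun y hy hy0 => card_gal_le_sum_norm_sq hM K φ y hy hy0
    have hsplit : ∑ σ : K ≃ₐ[ℚ] K, q i σ = ∑ σ : K ≃ₐ[ℚ] K, ‖φ (σ (x i 0))‖ ^ 2 +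
        ∑ σ : K ≃ₐ[ℚ] K, ‖φ (σ (x i 1))‖ ^ 2 + ∑ σ : K ≃ₐ[ℚ] K, ‖φ (σ (x i 0 - x i 1))‖ ^ 2 := by
      rw [hq]
      simp only
      rw [Finset.sum_add_distrib, Finset.sum_add_distrib]
    rw [hsplit]
    have hd : IsIntegral ℤ (x i 0 - x i 1) := (hx i 0).sub (hx i 1)
    by_cases h0 : x i 0 = 0
    · have h1 : x i 1 ≠ 0 := by
        rcases hne i with h | h
        · exact absurd h0 h
        · exact h
      have h2 : x i 0 - x i 1 ≠ 0 := by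
        rw [h0, zero_sub]
        exact neg_ne_zero.mpr h1
      have := hge _ (hx i 1) h1
      have := hge _ hd h2
      have := hnn (x i 0)
      linarith
    · by_cases h1 : x i 1 = 0
      · have h2 : x i 0 - x i 1 ≠ 0 := by
          rw [h1, sub_zero]
          exact h0
        have := hge _ (hx i 0) h0
        have := hge _ hd h2
        have := hnn (x i 1)
        linarith
      · have := hge _ (hx i 0) h0
        have := hge _ (hx i 1) h1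
        have := hnn (x i 0 - x i 1)
        linarith
  -- double counting
  have hdouble : ∑ σ : K ≃ₐ[ℚ] K, ∑ i, q i σ = ∑ i, ∑ σ : K ≃ₐ[ℚ] K, q i σ := Finset.sum_comm
  have hL : ∑ σ : K ≃ₐ[ℚ] K, ∑ i, q i σ = g * (2 * (T : ℝ)) := by
    rw [Finset.sum_congr rfl (fun σ _ => hsumσ σ), Finset.sum_const, Finset.card_univ, nsmul_eq_mul]
  have hR : (Fintype.card ι : ℝ) * (2 * g) ≤ ∑ i, ∑ σ : K ≃ₐ[ℚ] K, q i σ := by
    calc (Fintype.card ι : ℝ) * (2 * g) = ∑ _i : ι, 2 * g := by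
          rw [Finset.sum_const, Finset.card_univ, nsmul_eq_mul]
      _ ≤ ∑ i, ∑ σ : K ≃ₐ[ℚ] K, q i σ := Finset.sum_le_sum (fun i _ => hsumi i)
  rw [← hdouble, hL] at hR
  have hfin : (Fintype.card ι : ℝ) ≤ (T : ℝ) := by
    have h2g : 0 < 2 * g := by linarith
    have : (Fintype.card ι : ℝ) * (2 * g) ≤ (T : ℝ) * (2 * g) := by linarith
    exact le_of_mul_le_mul_right this h2g
  exact_mod_cast hfin

end Cfsg.Agent.Lib.Helper22.MajSubALG2a
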