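import Cfsg.Agent.Lib.Helper27.MajSubDefs
import Cfsg.Agent.Lib.Helper6.DefectOrder
import Cfsg.Agent.Lib.Helper27.MajSubSmall
import Cfsg.Agent.Lib.Helper8.MajSubNB

/-!
helper22: S4539 (planner helper27), leaf CN `contrib_eq_nMat`: `p^d μ = R N R*`.
-/

set_option autoImplicit false
set_option linter.unusedVariables false

namespace Cfsg.Agent.Lib.Helper22.MajSubCN

open Cfsg Cfsg.Agent.CharLib Cfsg.Agent.Lib.Helper24 Cfsg.Agent.Lib.Helper6 Cfsg.Agent.Lib.Helper23
open Cfsg.Agent.Lib.Helper23.Subsec Cfsg.Agent.Lib.Helper27.MajSub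
open scoped ComplexConjugate

universe u w

variable {G : Type u} [Group G] [Fintype G] {M : Ideal AlgInt} {p : ℕ} [hpp : Fact p.Prime]

/-- The contribution in terms of `zCoeff` and the integers `[ζ̃, ζ']` (no centrality needed). -/
theorem contrib_eq_zCoeff (z : G) (C : Subgroup G) [Fintype C] [Fintype (IrrCharacter C)]
    (e : Set (IrrCharacter C)) (χ ψ : IrrCharacter G) :
    contrib p C e z χ ψ =
      (∑ ζ : IrrCharacter C, ∑ ζ' : IrrCharacter C,
        zCoeff C e z χ ζ * conj (zCoeff C e z ψ ζ') * (tildeInt p ζ ζ' : ℂ)) /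
        ((p ^ (Nat.card C).factorization p : ℕ) : ℂ) := by
  unfold contrib
  have h1 : ∀ s : C, (if p ∣ orderOf s then (0 : ℂ) else
      decFun C e z χ s * conj (decFun C e z ψ s)) =
      ∑ ζ : IrrCharacter C, ∑ ζ' : IrrCharacter C,
        zCoeff C e z χ ζ * conj (zCoeff C e z ψ ζ') *
          (if p ∣ orderOf s then 0 else (ζ : C → ℂ) s * conj ((ζ' : C → ℂ) s)) := by
    intro s
    by_cases hs : p ∣ orderOf s
    · simp only [if_pos hs, mul_zero, Finset.sum_const_zero]
    · simp only [if_neg hs]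
      rw [Cfsg.Agent.Lib.Helper27.MajSubSmall.decFun_eq_zCoeff,
        Cfsg.Agent.Lib.Helper27.MajSubSmall.decFun_eq_zCoeff, map_sum, Finset.sum_mul_sum]
      apply Finset.sum_congr rfl
      intro ζ _
      apply Finset.sum_congr rfl
      intro ζ' _
      rw [map_mul]
      ring
  simp_rw [h1]
  rw [Finset.sum_comm]
  simp_rw [Finset.sum_comm (s := (Finset.univ : Finset C))]
  simp_rw [← Finset.mul_sum]
  rw [Finset.mul_sum, Finset.sum_div]
  apply Finset.sum_congr rfl
  intro ζ _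
  rw [Finset.mul_sum, Finset.sum_div]
  apply Finset.sum_congr rfl
  intro ζ' _
  rw [mul_div_assoc, ← sum_regular_eq_tildeInt]
  ring

/-- (CN) `p^d μ = R N R*`. -/
theorem contrib_eq_nMat (hM : IsPModular p M) (z : G) (C : Subgroup G) [Fintype C]
    [Fintype (IrrCharacter C)] (hzC : z ∈ C) (hcomm : ∀ c ∈ C, c * z = z * c)
    (e : Set (IrrCharacter C)) (he : IsPBlock M e) (χ ψ : IrrCharacter G) :
    (p : ℂ) ^ blockDefect p e * contrib p C e z χ ψ =
      ∑ ζ : IrrCharacter C, ∑ ζ' : IrrCharacter C,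
        zCoeff C e z χ ζ * conj (zCoeff C e z ψ ζ') * (nMat p e ζ ζ' : ℂ) := by
  classical
  have hp : p.Prime := hpp.out
  have hprime : M.IsPrime := isPrime_of_isPModular hM
  have hne : e.Nonempty := by
    obtain ⟨χ₁, rfl⟩ := he
    exact ⟨χ₁, mem_blockOf_self χ₁⟩
  set a := (Nat.card C).factorization p with ha
  set m := minVal p e with hm
  have hma : m ≤ a := minVal_le_factorization_card hne
  have hd : blockDefect p e = a - m := blockDefect_eq e
  have hp0 : (p : ℂ) ≠ 0 := Nat.cast_ne_zero.mpr hp.ne_zero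
  have hpa : ((p ^ a : ℕ) : ℂ) = (p : ℂ) ^ (a - m) * (p : ℂ) ^ m := by
    rw [← pow_add, Nat.sub_add_cancel hma]
    push_cast
    rfl
  rw [contrib_eq_zCoeff, hd, hpa, mul_div_assoc', Finset.mul_sum]
  rw [div_eq_iff (mul_ne_zero (pow_ne_zero _ hp0) (pow_ne_zero _ hp0)), Finset.sum_mul]
  apply Finset.sum_congr rfl
  intro ζ _
  rw [Finset.mul_sum, Finset.sum_mul]
  apply Finset.sum_congr rfl
  intro ζ' _
  by_cases hζ : ζ ∈ e
  · by_cases hζ' : ζ' ∈ e
    · have h1 := Cfsg.Agent.Lib.Helper8.MajSubNB.nMat_mul_pow hM e hζ hζ'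
      have h2 : (tildeInt p ζ ζ' : ℂ) = (p : ℂ) ^ m * (nMat p e ζ ζ' : ℂ) := by
        rw [← h1]
        push_cast
        rfl
      rw [h2]
      ring
    · have h0 : zCoeff C e z ψ ζ' = 0 := by
        unfold zCoeff
        rw [if_neg hζ']
      rw [h0]
      simp
  · have h0 : zCoeff C e z χ ζ = 0 := by
      unfold zCoeff
      rw [if_neg hζ]
    rw [h0]
    simp

end Cfsg.Agent.Lib.Helper22.MajSubCN
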