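import Mathlib
import Cfsg.Prelude.Def_GeometricClasses
import Cfsg.Agent.Lib.Helper20.OmMDefs
import Cfsg.Agent.Lib.Helper1.OmMP1
import Cfsg.Agent.Lib.Helper1.OmMN13

/-!
# OmOddMax market (helper20), block P: P2 `not_omega_le_dec` (helper22).
Exact signature of `notes/OmOddMax_leaves.lean`.  Form-theoretic supports: `fsupp v = {i | v is not orthogonal to D i}`.
-/

set_option autoImplicit false
set_option linter.unusedSectionVars false
set_option linter.unusedVariables false

namespace Cfsg.Agent.Lib.Helper22.OmMLeaf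

open Cfsg Cfsg.Geo Matrix Module QuadraticMap Cfsg.Agent.Lib.Helper20.OmM

section generic
variable {ι : Type} [Fintype ι] [DecidableEq ι] {F : Type*} [Field F] [Fintype F]
  (Q : QuadraticForm F (ι → F))

/-- the form-theoretic support of `v` with respect to the family `D`: the members of `D` to which `v` is not orthogonal -/
noncomputable def fsupp {t : ℕ} (D : Fin t → Submodule F (ι → F)) (v : ι → F) : Finset (Fin t) := by
  classical
  exact Finset.univ.filter (fun i => ∃ x ∈ D i, polar ⇑Q v x ≠ 0)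

theorem mem_fsupp {t : ℕ} (D : Fin t → Submodule F (ι → F)) (v : ι → F) (i : Fin t) :
    i ∈ fsupp Q D v ↔ ∃ x ∈ D i, polar ⇑Q v x ≠ 0 := by
  classical
  unfold fsupp
  simp only [Finset.mem_filter, Finset.mem_univ, true_and]

/-- the support does not change under non-zero scalars -/
theorem fsupp_smul {t : ℕ} (D : Fin t → Submodule F (ι → F)) {c : F} (hc : c ≠ 0) (v : ι → F) :
    fsupp Q D (c • v) = fsupp Q D v := by
  ext i
  rw [mem_fsupp, mem_fsupp]
  constructor
  · rintro ⟨x, hx, h⟩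
    refine ⟨x, hx, fun h0 => h ?_⟩
    rw [polar_smul_left, h0, smul_zero]
  · rintro ⟨x, hx, h⟩
    refine ⟨x, hx, ?_⟩
    rw [polar_smul_left, smul_eq_mul]
    exact mul_ne_zero hc h

/-- an isometry `g` which permutes the family `D` by `σ` transports supports by `σ` -/
theorem fsupp_map {t : ℕ} {D : Fin t → Submodule F (ι → F)} {g : GL ι F} (hg : g ∈ omegaGL ⇑Q)
    {σ : Equiv.Perm (Fin t)} (hσ : ∀ i, (D i).map (Matrix.toLin' (g : Matrix ι ι F)) = D (σ i)) (v : ι → F) :
    fsupp Q D ((g : Matrix ι ι F) *ᵥ v) = (fsupp Q D v).map σ.toEmbedding := by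
  have hpolar : ∀ a b : ι → F, polar (⇑Q) ((g : Matrix ι ι F) *ᵥ a) ((g : Matrix ι ι F) *ᵥ b) = polar (⇑Q) a b := by
    intro a b
    unfold polar
    rw [← Matrix.mulVec_add, Cfsg.Agent.Lib.Helper1.OmMLeaf.isometry_of_mem_omegaGL (⇑Q) hg,
      Cfsg.Agent.Lib.Helper1.OmMLeaf.isometry_of_mem_omegaGL (⇑Q) hg,
      Cfsg.Agent.Lib.Helper1.OmMLeaf.isometry_of_mem_omegaGL (⇑Q) hg]
  ext j
  rw [Finset.mem_map_equiv, mem_fsupp, mem_fsupp]
  constructor
  · rintro ⟨y, hy, h⟩
    have hy' : y ∈ (D (σ.symm j)).map (Matrix.toLin' (g : Matrix ι ι F)) := by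
      rw [hσ, Equiv.apply_symm_apply]
      exact hy
    obtain ⟨x, hx, rfl⟩ := hy'
    refine ⟨x, hx, ?_⟩
    rw [Matrix.toLin'_apply, hpolar] at h
    exact h
  · rintro ⟨x, hx, h⟩
    refine ⟨(g : Matrix ι ι F) *ᵥ x, ?_, ?_⟩
    · have : (g : Matrix ι ι F) *ᵥ x ∈ (D (σ.symm j)).map (Matrix.toLin' (g : Matrix ι ι F)) :=
        ⟨x, hx, Matrix.toLin'_apply _ _⟩
      rw [hσ, Equiv.apply_symm_apply] at this
      exact this
    · rw [hpolar]
      exact h

/-- a vector of `⨆ i ∈ S, D i` is orthogonal to the `D j`, `j ∉ S` -/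
theorem polar_eq_zero_of_notMem {t k : ℕ} {D : Fin t → Submodule F (ι → F)}
    (hD : IsNondegenerateMDecomposition (polar ⇑Q) k D) {S : Finset (Fin t)} {v : ι → F}
    (hv : v ∈ ⨆ i ∈ S, D i) {j : Fin t} (hj : j ∉ S) {x : ι → F} (hx : x ∈ D j) : polar ⇑Q v x = 0 := by
  have hle : (⨆ i ∈ S, D i) ≤ LinearMap.ker ((polarBilin Q).flip x) := by
    refine iSup₂_le fun i hi w hw => ?_
    rw [LinearMap.mem_ker, LinearMap.flip_apply, polarBilin_apply_apply]
    exact hD.orthogonal i j (by rintro rfl; exact hj hi) w hw x hx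
  have := hle hv
  rwa [LinearMap.mem_ker, LinearMap.flip_apply, polarBilin_apply_apply] at this

/-- the support of a vector of `⨆ i ∈ S, D i` is inside `S` -/
theorem fsupp_subset {t k : ℕ} {D : Fin t → Submodule F (ι → F)}
    (hD : IsNondegenerateMDecomposition (polar ⇑Q) k D) {S : Finset (Fin t)} {v : ι → F}
    (hv : v ∈ ⨆ i ∈ S, D i) : fsupp Q D v ⊆ S := by
  intro j hj
  rw [mem_fsupp] at hj
  obtain ⟨x, hx, h⟩ := hj
  by_contra hjS
  exact h (polar_eq_zero_of_notMem Q hD hv hjS hx)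

/-- vectors of `⨆ i ∈ S, D i` and of `⨆ i ∈ T, D i` are orthogonal when `S`, `T` are disjoint -/
theorem polar_eq_zero_of_disjoint {t k : ℕ} {D : Fin t → Submodule F (ι → F)}
    (hD : IsNondegenerateMDecomposition (polar ⇑Q) k D) {S T : Finset (Fin t)} (hST : Disjoint S T) {a b : ι → F}
    (ha : a ∈ ⨆ i ∈ S, D i) (hb : b ∈ ⨆ i ∈ T, D i) : polar ⇑Q a b = 0 := by
  have hle : (⨆ i ∈ T, D i) ≤ LinearMap.ker (polarBilin Q a) := by
    refine iSup₂_le fun i hi w hw => ?_
    rw [LinearMap.mem_ker, polarBilin_apply_apply]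
    exact polar_eq_zero_of_notMem Q hD ha (Finset.disjoint_right.mp hST hi) hw
  have := hle hb
  rwa [LinearMap.mem_ker, polarBilin_apply_apply] at this

/-- a non-zero vector has a non-empty support -/
theorem fsupp_nonempty (hQ : (polarBilin Q).Nondegenerate) {t k : ℕ} {D : Fin t → Submodule F (ι → F)}
    (hD : IsNondegenerateMDecomposition (polar ⇑Q) k D) {v : ι → F} (hv : v ≠ 0) : (fsupp Q D v).Nonempty := by
  by_contra hne
  rw [Finset.not_nonempty_iff_eq_empty] at hne
  apply hv
  apply hQ.1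
  intro y
  have hle : iSup D ≤ LinearMap.ker (polarBilin Q v) := by
    refine iSup_le fun i w hw => ?_
    rw [LinearMap.mem_ker, polarBilin_apply_apply]
    by_contra h
    have : i ∈ fsupp Q D v := (mem_fsupp Q D v i).mpr ⟨w, hw, h⟩
    rw [hne] at this
    exact absurd this (Finset.notMem_empty i)
  have hy : y ∈ iSup D := by
    rw [hD.decomp.iSup_eq_top]
    exact Submodule.mem_top
  exact LinearMap.mem_ker.mp (hle hy)

/-- supports add up over disjoint index sets -/
theorem fsupp_add {t k : ℕ} {D : Fin t → Submodule F (ι → F)}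
    (hD : IsNondegenerateMDecomposition (polar ⇑Q) k D) {S T : Finset (Fin t)} (hST : Disjoint S T) {a b : ι → F}
    (ha : a ∈ ⨆ i ∈ S, D i) (hb : b ∈ ⨆ i ∈ T, D i) :
    (fsupp Q D a).card + (fsupp Q D b).card ≤ (fsupp Q D (a + b)).card := by
  classical
  have hdis : Disjoint (fsupp Q D a) (fsupp Q D b) :=
    Finset.disjoint_of_subset_left (fsupp_subset Q hD ha)
      (Finset.disjoint_of_subset_right (fsupp_subset Q hD hb) hST)
  rw [← Finset.card_union_of_disjoint hdis]
  refine Finset.card_le_card ?_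
  intro i hi
  rw [Finset.mem_union] at hi
  rw [mem_fsupp]
  rcases hi with hi | hi
  · have hiS : i ∈ S := fsupp_subset Q hD ha hi
    have hiT : i ∉ T := Finset.disjoint_left.mp hST hiS
    obtain ⟨x, hx, h⟩ := (mem_fsupp Q D a i).mp hi
    refine ⟨x, hx, ?_⟩
    rw [polar_add_left, polar_eq_zero_of_notMem Q hD hb hiT hx, add_zero]
    exact h
  · have hiT : i ∈ T := fsupp_subset Q hD hb hi
    have hiS : i ∉ S := Finset.disjoint_right.mp hST hiT
    obtain ⟨x, hx, h⟩ := (mem_fsupp Q D b i).mp hi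
    refine ⟨x, hx, ?_⟩
    rw [polar_add_left, polar_eq_zero_of_notMem Q hD ha hiS hx, zero_add]
    exact h

/-- the dimension of a partial sum of an `m`-decomposition -/
theorem finrank_biSup_dec {t k : ℕ} {D : Fin t → Submodule F (ι → F)} (hD : IsMDecomposition k D)
    (S : Finset (Fin t)) : finrank F ↥(⨆ i ∈ S, D i) = S.card * k := by
  classical
  induction S using Finset.induction_on with
  | empty => simp
  | insert a S ha ih =>
    rw [Finset.iSup_insert, Finset.card_insert_of_notMem ha]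
    have hdis : Disjoint (D a) (⨆ i ∈ S, D i) := by
      have := hD.indep.disjoint_biSup (x := a) (y := (S : Set (Fin t))) (by simpa using ha)
      simpa using this
    have h := Submodule.finrank_sup_add_finrank_inf_eq (D a) (⨆ i ∈ S, D i)
    rw [hdis.eq_bot, finrank_bot, ih, hD.finrank_eq] at h
    rw [Nat.add_zero] at h
    rw [h]
    ring

/-- P2. -/
theorem not_omega_le_dec (hQ : (polarBilin Q).Nondegenerate) (h2 : (2 : F) ≠ 0)
    (hodd : Odd (Fintype.card ι)) (hι : 7 ≤ Fintype.card ι) {t k : ℕ} {D : Fin t → Submodule F (ι → F)}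
    (hD : IsNondegenerateMDecomposition (polar ⇑Q) k D) :
    ¬ omegaGL ⇑Q ≤ decompositionStabilizer D := by
  classical
  intro hle
  -- the size of the support is constant on the non-zero singular vectors
  have hconst : ∀ u x : ι → F, u ≠ 0 → Q u = 0 → x ≠ 0 → Q x = 0 →
      (fsupp Q D x).card = (fsupp Q D u).card := by
    intro u x hu0 hu hx0 hx
    obtain ⟨g, hg, c, hc⟩ := Cfsg.Agent.Lib.Helper1.OmMLeaf.exists_omega_map Q hQ (by omega) hu0 hu hx0 hx
    obtain ⟨σ, hσ⟩ := hle hg
    have hc0 : c ≠ 0 := by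
      rintro rfl
      rw [zero_smul] at hc
      exact hx0 hc
    rw [hc, fsupp_smul Q D hc0, fsupp_map Q hg hσ, Finset.card_map]
  -- the choice of the sizes
  have hcard := Cfsg.Agent.Lib.Helper1.OmMLeaf.mdec_card_gen hD.decomp
  have htwo := hD.decomp.two_le
  have hpos := hD.decomp.pos
  obtain ⟨c, hc3, hct⟩ : ∃ c : ℕ, 3 ≤ c * k ∧ 2 * c ≤ t := by
    rcases Nat.lt_or_ge k 3 with hk | hk
    · have hk12 : k = 1 ∨ k = 2 := by omega
      rcases hk12 with rfl | rfl
      · refine ⟨3, by omega, by omega⟩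
      · exfalso
        rw [← hcard] at hodd
        exact (Nat.not_even_iff_odd.mpr hodd) ⟨t, by ring⟩
    · exact ⟨1, by omega, by omega⟩
  obtain ⟨S, -, hS⟩ := Finset.exists_subset_card_eq (s := (Finset.univ : Finset (Fin t))) (n := c)
    (by rw [Finset.card_univ, Fintype.card_fin]; omega)
  obtain ⟨T, hTS, hT⟩ := Finset.exists_subset_card_eq (s := (Finset.univ : Finset (Fin t)) \ S) (n := c)
    (by rw [Finset.card_sdiff_of_subset (Finset.subset_univ S), Finset.card_univ, Fintype.card_fin]; omega)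
  have hST : Disjoint S T := by
    rw [Finset.disjoint_right]
    intro i hi
    exact (Finset.mem_sdiff.mp (hTS hi)).2
  have hfS : 3 ≤ finrank F ↥(⨆ i ∈ S, D i) := by rw [finrank_biSup_dec hD.decomp, hS]; exact hc3
  have hfT : 3 ≤ finrank F ↥(⨆ i ∈ T, D i) := by rw [finrank_biSup_dec hD.decomp, hT]; exact hc3
  obtain ⟨a, haS, ha0, ha⟩ := Cfsg.Agent.Lib.Helper15.exists_singular_in Q _ hfS
  obtain ⟨b, hbT, hb0, hb⟩ := Cfsg.Agent.Lib.Helper15.exists_singular_in Q _ hfT
  have hab : Q (a + b) = 0 := by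
    have h := polar_eq_zero_of_disjoint Q hD hST haS hbT
    unfold polar at h
    rw [ha, hb] at h
    simpa using h
  have hadd := fsupp_add Q hD hST haS hbT
  have hane := fsupp_nonempty Q hQ hD ha0
  have hab0 : a + b ≠ 0 := by
    intro h0
    rw [h0] at hadd
    have h00 : fsupp Q D (0 : ι → F) = ∅ := by
      ext i
      rw [mem_fsupp]
      simp
    rw [h00, Finset.card_empty] at hadd
    have := hane.card_pos
    omega
  have h1 := hconst a b ha0 ha hb0 hb
  have h3 := hconst a (a + b) ha0 ha hab0 hab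
  have := hane.card_pos
  omega

end generic

end Cfsg.Agent.Lib.Helper22.OmMLeaf
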