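import Mathlib
import Cfsg.Agent.Lib.Helper29.SpPrfDefs
import Cfsg.Agent.Lib.Helper29.SpPrfC
import Cfsg.Agent.Lib.Helper20.SpTnsDefs

/-!
S5662 block [TNS] (helper20's market): coordinate toolkit for the leaves E3, E4 (helper22).
Generic index type `κ`: `coordK e P u` (coordinates of `u`), action of `conjR e P M` in coordinates; for `κ = Fin s × Fin k`:
pure tensors `kvec x y`, the elements of `isoG J ⊓ tensorProductSubgroup` in coordinates.
-/

set_option autoImplicit false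
set_option linter.unusedSectionVars false
set_option linter.unusedVariables false

namespace Cfsg.Agent.Lib.Helper22.SpTnsLeaf
open Matrix Cfsg Cfsg.Geo Cfsg.Agent.Lib.Helper20.Asch Cfsg.Agent.Lib.Helper29.SpAsch
  Cfsg.Agent.Lib.Helper20.SpTns
open scoped Kronecker

variable {F : Type*} [Field F] [Fintype F] {n : ℕ} {J : Matrix (Fin n) (Fin n) F}

section transport
variable {κ : Type} [Fintype κ] [DecidableEq κ]

/-- coordinates of a vector -/
def coordK (e : Fin n ≃ κ) (P : GL (Fin n) F) (u : Fin n → F) : κ → F :=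
  fun a => (((P⁻¹ : GL (Fin n) F) : Matrix (Fin n) (Fin n) F) *ᵥ u) (e.symm a)

lemma tvec_coordK (e : Fin n ≃ κ) (P : GL (Fin n) F) (u : Fin n → F) :
    tvec e P (coordK e P u) = u := by
  unfold tvec coordK
  have : (fun a => (((P⁻¹ : GL (Fin n) F) : Matrix (Fin n) (Fin n) F) *ᵥ u) (e.symm a)) ∘ e
      = ((P⁻¹ : GL (Fin n) F) : Matrix (Fin n) (Fin n) F) *ᵥ u := by
    funext i; simp
  rw [this, Matrix.mulVec_mulVec, ← Units.val_mul, mul_inv_cancel, Units.val_one, Matrix.one_mulVec]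

lemma coordK_tvec (e : Fin n ≃ κ) (P : GL (Fin n) F) (x : κ → F) :
    coordK e P (tvec e P x) = x := by
  unfold tvec coordK
  rw [Matrix.mulVec_mulVec, ← Units.val_mul, inv_mul_cancel, Units.val_one, Matrix.one_mulVec]
  funext a; simp

lemma coordK_add (e : Fin n ≃ κ) (P : GL (Fin n) F) (u v : Fin n → F) :
    coordK e P (u + v) = coordK e P u + coordK e P v := by
  unfold coordK; rw [Matrix.mulVec_add]; rfl

lemma coordK_smul (e : Fin n ≃ κ) (P : GL (Fin n) F) (a : F) (u : Fin n → F) :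
    coordK e P (a • u) = a • coordK e P u := by
  unfold coordK; rw [Matrix.mulVec_smul]; rfl

lemma coordK_zero (e : Fin n ≃ κ) (P : GL (Fin n) F) : coordK e P (0 : Fin n → F) = 0 := by
  unfold coordK; rw [Matrix.mulVec_zero]; rfl

/-- (B8) every vector has coordinates -/
theorem exists_tvecK (e : Fin n ≃ κ) (P : GL (Fin n) F) (u : Fin n → F) :
    ∃ x : κ → F, u = tvec e P x := ⟨coordK e P u, (tvec_coordK e P u).symm⟩

/-- (B9) the action of `conjR e P M` in coordinates -/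
theorem conjR_mulVec_tvecK (e : Fin n ≃ κ) (P : GL (Fin n) F) (M : Matrix κ κ F) (x : κ → F) :
    conjR e P M *ᵥ tvec e P x = tvec e P (M *ᵥ x) := by
  unfold conjR tvec
  rw [Matrix.mulVec_mulVec, Matrix.mul_assoc, Matrix.mul_assoc, ← Units.val_mul, inv_mul_cancel,
    Units.val_one, Matrix.mul_one, ← Matrix.mulVec_mulVec]
  congr 1
  rw [Matrix.reindex_apply, Matrix.submatrix_mulVec_equiv]
  have hx : (x ∘ ⇑e) ∘ ⇑(e.symm.symm).symm = x := by
    funext a
    simp
  rw [hx]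
  rfl

lemma coordK_conjR (e : Fin n ≃ κ) (P : GL (Fin n) F) (M : Matrix κ κ F) (u : Fin n → F) :
    coordK e P (conjR e P M *ᵥ u) = M *ᵥ coordK e P u := by
  conv_lhs => rw [← tvec_coordK e P u]
  rw [conjR_mulVec_tvecK, coordK_tvec]

/-- an isometry of `bfm J` of the form `conjR e P M` is an isometry of the Gram matrix in coordinates -/
theorem gramT_of_isoG (e : Fin n ≃ κ) (P : GL (Fin n) F) {g : GL (Fin n) F} (hgJ : g ∈ isoG J)
    {M : Matrix κ κ F} (hM : (g : Matrix (Fin n) (Fin n) F) = conjR e P M) :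
    Mᵀ * gramT e P J * M = gramT e P J := by
  apply bfm_injective
  intro x y
  rw [← bfm_mulVec, ← Cfsg.Agent.Lib.Helper29.SpPrfLeaf.bfm_gramT, ← conjR_mulVec_tvecK, ← conjR_mulVec_tvecK, ← hM,
    isoG_apply hgJ, Cfsg.Agent.Lib.Helper29.SpPrfLeaf.bfm_gramT]

end transport

section kron
variable {s k : ℕ}

/-- (K4) the action of `a ⊗ b` on pure tensors -/
theorem kron_mulVec_kvecK (a : Matrix (Fin s) (Fin s) F) (b : Matrix (Fin k) (Fin k) F)
    (x : Fin s → F) (y : Fin k → F) : (a ⊗ₖ b) *ᵥ kvec x y = kvec (a *ᵥ x) (b *ᵥ y) := by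
  funext p
  simp only [Matrix.mulVec, dotProduct, kvec, Matrix.kroneckerMap_apply]
  rw [Fintype.sum_prod_type, Finset.sum_mul_sum]
  refine Finset.sum_congr rfl fun i _ => Finset.sum_congr rfl fun j _ => ?_
  ring

/-- (K4) the form `G₁ ⊗ G₂` on pure tensors -/
theorem bfm_kron_kvecK (G₁ : Matrix (Fin s) (Fin s) F) (G₂ : Matrix (Fin k) (Fin k) F)
    (x x' : Fin s → F) (y y' : Fin k → F) :
    bfm (G₁ ⊗ₖ G₂) (kvec x y) (kvec x' y') = bfm G₁ x x' * bfm G₂ y y' := by
  unfold bfm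
  rw [kron_mulVec_kvecK]
  simp only [dotProduct, kvec]
  rw [Fintype.sum_prod_type, Finset.sum_mul_sum]
  refine Finset.sum_congr rfl fun i _ => Finset.sum_congr rfl fun j _ => ?_
  ring

/-- (K4') the pure tensor vectors span -/
theorem span_tvec_kvecK (e : Fin n ≃ Fin s × Fin k) (P : GL (Fin n) F) :
    Submodule.span F {u : Fin n → F | ∃ (x : Fin s → F) (y : Fin k → F), u = tvec e P (kvec x y)} = ⊤ := by
  classical
  rw [eq_top_iff]
  intro u _
  rw [← tvec_coordK e P u]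
  set z := coordK e P u with hz
  have hsum : z = ∑ p : Fin s × Fin k, z p • kvec (Pi.single p.1 (1 : F)) (Pi.single p.2 (1 : F)) := by
    funext q
    rw [Finset.sum_apply]
    simp only [Pi.smul_apply, kvec, smul_eq_mul]
    rw [Finset.sum_eq_single q]
    · simp
    · intro p _ hpq
      have : ¬ (p.1 = q.1 ∧ p.2 = q.2) := fun h => hpq (Prod.ext h.1 h.2)
      by_cases h1 : p.1 = q.1
      · have h2 : p.2 ≠ q.2 := fun h2 => this ⟨h1, h2⟩
        rw [Pi.single_apply, Pi.single_apply, if_neg (Ne.symm h2)]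
        simp
      · rw [Pi.single_apply, if_neg (Ne.symm h1)]
        simp
    · intro hq
      exact absurd (Finset.mem_univ q) hq
  have hlin : tvec e P z = ∑ p : Fin s × Fin k,
      z p • tvec e P (kvec (Pi.single p.1 (1 : F)) (Pi.single p.2 (1 : F))) := by
    conv_lhs => rw [hsum]
    unfold tvec
    have hcomp : (∑ p : Fin s × Fin k, z p • kvec (Pi.single p.1 (1 : F)) (Pi.single p.2 (1 : F))) ∘ e =
        ∑ p : Fin s × Fin k, z p • ((kvec (Pi.single p.1 (1 : F)) (Pi.single p.2 (1 : F))) ∘ e) := by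
      funext i
      simp [Finset.sum_apply]
    rw [hcomp, Matrix.mulVec_sum]
    refine Finset.sum_congr rfl fun p _ => ?_
    rw [Matrix.mulVec_smul]
  rw [hlin]
  refine Submodule.sum_mem _ fun p _ => Submodule.smul_mem _ _ (Submodule.subset_span ⟨_, _, rfl⟩)

/-- the elements of `isoG J ⊓ tensorProductSubgroup` in coordinates -/
theorem exists_kron_of_mem (e : Fin n ≃ Fin s × Fin k) (P : GL (Fin n) F)
    (G₁ : Matrix (Fin s) (Fin s) F) (G₂ : Matrix (Fin k) (Fin k) F)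
    (hgram : gramT e P J = G₁ ⊗ₖ G₂) {g : GL (Fin n) F} (hgJ : g ∈ isoG J)
    (hg : g ∈ tensorProductSubgroup s k e P) :
    ∃ (a : GL (Fin s) F) (b : GL (Fin k) F),
      (g : Matrix (Fin n) (Fin n) F) =
        conjR e P ((a : Matrix (Fin s) (Fin s) F) ⊗ₖ (b : Matrix (Fin k) (Fin k) F)) ∧
      ((a : Matrix (Fin s) (Fin s) F)ᵀ * G₁ * (a : Matrix (Fin s) (Fin s) F)) ⊗ₖ
        ((b : Matrix (Fin k) (Fin k) F)ᵀ * G₂ * (b : Matrix (Fin k) (Fin k) F)) = G₁ ⊗ₖ G₂ := by
  obtain ⟨a, b, hab⟩ := (mem_tensorProductSubgroup_iff e P g).mp hg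
  refine ⟨a, b, hab, ?_⟩
  have h := gramT_of_isoG e P hgJ hab
  rw [hgram, ← Matrix.kroneckerMap_transpose, ← Matrix.mul_kronecker_mul, ← Matrix.mul_kronecker_mul] at h
  exact h

/-- the second factor of an element of `isoG J ⊓ tensorProductSubgroup` is a similitude of `G₂` -/
theorem exists_similitude_right (e : Fin n ≃ Fin s × Fin k) (P : GL (Fin n) F)
    (G₁ : Matrix (Fin s) (Fin s) F) (G₂ : Matrix (Fin k) (Fin k) F) (hG₁ : G₁ ≠ 0) (hG₂ : G₂ ≠ 0)
    (hgram : gramT e P J = G₁ ⊗ₖ G₂) {g : GL (Fin n) F} (hgJ : g ∈ isoG J)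
    (hg : g ∈ tensorProductSubgroup s k e P) :
    ∃ (a : GL (Fin s) F) (b : GL (Fin k) F) (d : F),
      (g : Matrix (Fin n) (Fin n) F) =
        conjR e P ((a : Matrix (Fin s) (Fin s) F) ⊗ₖ (b : Matrix (Fin k) (Fin k) F)) ∧
      (b : Matrix (Fin k) (Fin k) F)ᵀ * G₂ * (b : Matrix (Fin k) (Fin k) F) = d • G₂ := by
  obtain ⟨a, b, hab, hk⟩ := exists_kron_of_mem e P G₁ G₂ hgram hgJ hg
  have hent : ∀ i j c d, ((a : Matrix (Fin s) (Fin s) F)ᵀ * G₁ * (a : Matrix (Fin s) (Fin s) F)) i j *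
      ((b : Matrix (Fin k) (Fin k) F)ᵀ * G₂ * (b : Matrix (Fin k) (Fin k) F)) c d = G₁ i j * G₂ c d := by
    intro i j c d
    have := congrFun (congrFun hk (i, c)) (j, d)
    simpa [Matrix.kroneckerMap_apply] using this
  obtain ⟨i0, j0, hij⟩ : ∃ i j, G₁ i j ≠ 0 := by
    by_contra hcon
    push Not at hcon
    exact hG₁ (Matrix.ext hcon)
  obtain ⟨c0, d0, hcd⟩ : ∃ c d, G₂ c d ≠ 0 := by
    by_contra hcon
    push Not at hcon
    exact hG₂ (Matrix.ext hcon)
  set α := ((a : Matrix (Fin s) (Fin s) F)ᵀ * G₁ * (a : Matrix (Fin s) (Fin s) F)) i0 j0 with hα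
  have hα0 : α ≠ 0 := by
    intro h0
    have := hent i0 j0 c0 d0
    rw [← hα, h0, zero_mul] at this
    exact mul_ne_zero hij hcd this.symm
  refine ⟨a, b, G₁ i0 j0 / α, hab, ?_⟩
  ext c d
  have := hent i0 j0 c d
  rw [← hα] at this
  rw [Matrix.smul_apply, smul_eq_mul]
  field_simp
  linear_combination this

end kron

end Cfsg.Agent.Lib.Helper22.SpTnsLeaf
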