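import Mathlib
import Cfsg.Agent.Lib.Helper29.SpPrfDefs
import Cfsg.Agent.Lib.Helper29.AschKF2
import Cfsg.Agent.Lib.Helper26.AschNL
import Cfsg.Agent.Lib.Helper9.TensSwap
import Cfsg.Agent.Lib.Helper17.SpAschQ0
import Cfsg.Agent.Lib.Helper17.SpAschZ
import Cfsg.Agent.Lib.Helper20.SpTnsDefs
import Cfsg.Agent.Lib.Helper22.SpTnsCoord

/-!
S5662 block [TNS] (helper20's market): leaf (E3) `exit_even_c8` (helper22), EXACT signature of `notes/S5662_TNS_leaves.lean`.
Even `q`, both factors alternating: the quadratic form `Q u = bfm (T₁ ⊗ G₂) x x` (`T₁` the strictly upper triangular part of `G₁`)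
has polar form `bfm J` and vanishes on the pure tensors: C8 by helper17's `c8_of_vanishing`.
-/

set_option autoImplicit false
set_option linter.unusedSectionVars false
set_option linter.unusedVariables false

namespace Cfsg.Agent.Lib.Helper22.SpTnsLeaf
open Matrix Cfsg Cfsg.Geo Cfsg.Agent.Lib.Helper20.Asch Cfsg.Agent.Lib.Helper29.SpAsch
  Cfsg.Agent.Lib.Helper20.SpTns
open scoped Kronecker

variable {F : Type*} [Field F] [Fintype F] {n m : ℕ} {J : Matrix (Fin n) (Fin n) F}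
  {H N : Subgroup (GL (Fin n) F)}

/-- (E3) -/
theorem exit_even_c8 (h : SpCtx J m H) (heven : ¬ Odd (Fintype.card F)) {s k : ℕ}
    (e : Fin n ≃ Fin s × Fin k) (P : GL (Fin n) F) (G₁ : Matrix (Fin s) (Fin s) F)
    (G₂ : Matrix (Fin k) (Fin k) F) (hG₁s : G₁ᵀ = G₁) (hG₁z : ∀ a, G₁ a a = 0) (hG₂s : G₂ᵀ = G₂)
    (hG₂z : ∀ c, G₂ c c = 0) (hgram : gramT e P J = G₁ ⊗ₖ G₂)
    (hH : H ≤ tensorProductSubgroup s k e P) : SGeo J m H := by
  classical
  have h2 : (2 : F) = 0 := Cfsg.Agent.Lib.Helper17.SpAschLeaf.two_eq_zero_of_not_odd heven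
  have hneg : ∀ a : F, -a = a := fun a => by
    have : a + a = 0 := by rw [← two_mul, h2, zero_mul]
    exact neg_eq_of_add_eq_zero_left this
  let T₁ : Matrix (Fin s) (Fin s) F := Matrix.of fun i j => if i < j then G₁ i j else 0
  have hT : T₁ + T₁ᵀ = G₁ := by
    ext i j
    simp only [Matrix.add_apply, Matrix.transpose_apply, T₁, Matrix.of_apply]
    rcases lt_trichotomy i j with hij | hij | hij
    · rw [if_pos hij, if_neg (not_lt.2 hij.le), add_zero]
    · subst hij; rw [if_neg (lt_irrefl _), add_zero, hG₁z]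
    · rw [if_neg (not_lt.2 hij.le), if_pos hij, zero_add]
      have := congrFun (congrFun hG₁s i) j
      rw [Matrix.transpose_apply] at this
      exact this
  let M : Matrix (Fin s × Fin k) (Fin s × Fin k) F := T₁ ⊗ₖ G₂
  have hMM : M + Mᵀ = gramT e P J := by
    rw [hgram]
    show T₁ ⊗ₖ G₂ + (T₁ ⊗ₖ G₂)ᵀ = _
    rw [← Matrix.kroneckerMap_transpose, hG₂s, ← Matrix.add_kronecker, hT]
  let Q : (Fin n → F) → F := fun u => bfm M (coordK e P u) (coordK e P u)
  have hsmul : ∀ (a : F) (v : Fin n → F), Q (a • v) = a ^ 2 * Q v := by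
    intro a v
    show bfm M (coordK e P (a • v)) (coordK e P (a • v)) = a ^ 2 * bfm M (coordK e P v) (coordK e P v)
    rw [coordK_smul, bfm_smul_left, bfm_smul_right]; ring
  have hpolar : ∀ u v, QuadraticMap.polar Q u v = bfm J u v := by
    intro u v
    unfold QuadraticMap.polar
    show bfm M (coordK e P (u + v)) (coordK e P (u + v)) - bfm M (coordK e P u) (coordK e P u)
      - bfm M (coordK e P v) (coordK e P v) = _
    rw [coordK_add, bfm_add_left, bfm_add_right, bfm_add_right]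
    have h1 : bfm J u v = bfm M (coordK e P u) (coordK e P v) + bfm M (coordK e P v) (coordK e P u) := by
      conv_lhs => rw [← tvec_coordK e P u, ← tvec_coordK e P v]
      rw [Cfsg.Agent.Lib.Helper29.SpPrfLeaf.bfm_gramT, ← hMM, Cfsg.Agent.Lib.Helper29.SpPrfLeaf.bfm_add_mat_c,
        Cfsg.Agent.Lib.Helper29.SpPrfLeaf.bfm_transpose_c]
    rw [h1]; ring
  refine Cfsg.Agent.Lib.Helper17.SpAschLeaf.c8_of_vanishing h heven Q hsmul hpolar
    {u : Fin n → F | ∃ (x : Fin s → F) (y : Fin k → F), u = tvec e P (kvec x y)}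
    (span_tvec_kvecK e P) ?_ ?_
  · rintro _ ⟨x, y, rfl⟩
    show bfm M (coordK e P (tvec e P (kvec x y))) (coordK e P (tvec e P (kvec x y))) = 0
    rw [coordK_tvec]
    show bfm (T₁ ⊗ₖ G₂) (kvec x y) (kvec x y) = 0
    rw [bfm_kron_kvecK]
    have hz : bfm G₂ y y = 0 := by
      rw [bfm_eq_bf]
      refine Cfsg.Agent.Lib.Helper27.AschO4.bf_alt G₂ ?_ hG₂z _
      rw [hG₂s]
      ext i j
      rw [Matrix.neg_apply, hneg]
    rw [hz, mul_zero]
  · rintro g hg _ ⟨x, y, rfl⟩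
    obtain ⟨a, b, hab⟩ := (mem_tensorProductSubgroup_iff e P g).mp (hH hg)
    refine ⟨(a : Matrix (Fin s) (Fin s) F) *ᵥ x, (b : Matrix (Fin k) (Fin k) F) *ᵥ y, ?_⟩
    rw [hab, conjR_mulVec_tvecK, kron_mulVec_kvecK]

end Cfsg.Agent.Lib.Helper22.SpTnsLeaf
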