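import Mathlib
import Cfsg.Agent.Lib.Helper29.SpPrfDefs
import Cfsg.Agent.Lib.Helper29.AschKF2
import Cfsg.Agent.Lib.Helper26.AschNL
import Cfsg.Agent.Lib.Helper9.TensSwap
import Cfsg.Agent.Lib.Helper17.SpAschQ0
import Cfsg.Agent.Lib.Helper17.SpAschZ
import Cfsg.Agent.Lib.Helper20.SpTnsDefs
import Cfsg.Agent.Lib.Helper22.SpTnsCoord

/-!
S5662 block [TNS] (helper20's market): leaf (E4) `false_of_nonalt` (helper22), EXACT signature of `notes/S5662_TNS_leaves.lean`.
Even `q`, a non-alternating symmetric second factor: the zero set `W₂` of `y ↦ bfm G₂ y y` is a proper non-zero subspace of `F^k`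
preserved by the similitudes of `G₂`, so `F^s ⊗ W₂` is a proper non-zero `H`-invariant subspace.
-/

set_option autoImplicit false
set_option linter.unusedSectionVars false
set_option linter.unusedVariables false

namespace Cfsg.Agent.Lib.Helper22.SpTnsLeaf
open Matrix Cfsg Cfsg.Geo Cfsg.Agent.Lib.Helper20.Asch Cfsg.Agent.Lib.Helper29.SpAsch
  Cfsg.Agent.Lib.Helper20.SpTns
open scoped Kronecker

variable {F : Type*} [Field F] [Fintype F] {n m : ℕ} {J : Matrix (Fin n) (Fin n) F}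
  {H N : Subgroup (GL (Fin n) F)}

/-- a symmetric matrix gives a symmetric form -/
lemma bfm_symm_of_transpose {k : ℕ} {G₂ : Matrix (Fin k) (Fin k) F} (hG₂s : G₂ᵀ = G₂) (y y' : Fin k → F) :
    bfm G₂ y y' = bfm G₂ y' y := by
  have := Cfsg.Agent.Lib.Helper29.SpPrfLeaf.bfm_transpose_c G₂ y y'
  rw [hG₂s] at this
  exact this

/-- in characteristic 2, `y ↦ bfm G₂ y y` is additive for symmetric `G₂` -/
lemma bfm_self_add {k : ℕ} (h2 : (2 : F) = 0) {G₂ : Matrix (Fin k) (Fin k) F} (hG₂s : G₂ᵀ = G₂)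
    (y y' : Fin k → F) : bfm G₂ (y + y') (y + y') = bfm G₂ y y + bfm G₂ y' y' := by
  rw [bfm_add_left, bfm_add_right, bfm_add_right, bfm_symm_of_transpose hG₂s y' y]
  linear_combination bfm G₂ y y' * h2

lemma bfm_self_smul {k : ℕ} (G₂ : Matrix (Fin k) (Fin k) F) (α : F) (y : Fin k → F) :
    bfm G₂ (α • y) (α • y) = α * α * bfm G₂ y y := by
  rw [bfm_smul_left, bfm_smul_right]
  ring

/-- the zero set of `y ↦ bfm G₂ y y` (characteristic 2, `G₂` symmetric) -/
def qzero {k : ℕ} (h2 : (2 : F) = 0) (G₂ : Matrix (Fin k) (Fin k) F) (hG₂s : G₂ᵀ = G₂) :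
    Submodule F (Fin k → F) where
  carrier := {y | bfm G₂ y y = 0}
  add_mem' := by
    intro y y' hy hy'
    show bfm G₂ (y + y') (y + y') = 0
    rw [bfm_self_add h2 hG₂s, show bfm G₂ y y = 0 from hy, show bfm G₂ y' y' = 0 from hy', add_zero]
  zero_mem' := bfm_zero_left _
  smul_mem' := by
    intro α y hy
    show bfm G₂ (α • y) (α • y) = 0
    rw [bfm_self_smul, show bfm G₂ y y = 0 from hy, mul_zero]

lemma mem_qzero {k : ℕ} (h2 : (2 : F) = 0) (G₂ : Matrix (Fin k) (Fin k) F) (hG₂s : G₂ᵀ = G₂)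
    (y : Fin k → F) : y ∈ qzero h2 G₂ hG₂s ↔ bfm G₂ y y = 0 := Iff.rfl

/-- `F^s ⊗ W₂` in the coordinates `e`, `P` -/
def bigW {s k : ℕ} (e : Fin n ≃ Fin s × Fin k) (P : GL (Fin n) F) (W₂ : Submodule F (Fin k → F)) :
    Submodule F (Fin n → F) where
  carrier := {u | ∀ a : Fin s, (fun c => coordK e P u (a, c)) ∈ W₂}
  add_mem' := by
    intro u v hu hv a
    have : (fun c => coordK e P (u + v) (a, c)) =
        (fun c => coordK e P u (a, c)) + (fun c => coordK e P v (a, c)) := by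
      funext c
      rw [coordK_add]
      rfl
    rw [this]
    exact W₂.add_mem (hu a) (hv a)
  zero_mem' := by
    intro a
    have : (fun c => coordK e P (0 : Fin n → F) (a, c)) = 0 := by
      funext c
      rw [coordK_zero]
      rfl
    rw [this]
    exact W₂.zero_mem
  smul_mem' := by
    intro α u hu a
    have : (fun c => coordK e P (α • u) (a, c)) = α • (fun c => coordK e P u (a, c)) := by
      funext c
      rw [coordK_smul]
      rfl
    rw [this]
    exact W₂.smul_mem α (hu a)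

lemma mem_bigW {s k : ℕ} (e : Fin n ≃ Fin s × Fin k) (P : GL (Fin n) F) (W₂ : Submodule F (Fin k → F))
    (u : Fin n → F) : u ∈ bigW e P W₂ ↔ ∀ a : Fin s, (fun c => coordK e P u (a, c)) ∈ W₂ := Iff.rfl

/-- the rows of `(A ⊗ B) x` -/
lemma kron_mulVec_row {s k : ℕ} (A : Matrix (Fin s) (Fin s) F) (B : Matrix (Fin k) (Fin k) F)
    (x : Fin s × Fin k → F) (a' : Fin s) :
    (fun c' => ((A ⊗ₖ B) *ᵥ x) (a', c')) = ∑ a'' : Fin s, A a' a'' • (B *ᵥ fun c => x (a'', c)) := by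
  funext c'
  rw [Finset.sum_apply]
  simp only [Matrix.mulVec, dotProduct, Matrix.kroneckerMap_apply, Pi.smul_apply, smul_eq_mul]
  rw [Fintype.sum_prod_type]
  refine Finset.sum_congr rfl fun i _ => ?_
  rw [Finset.mul_sum]
  refine Finset.sum_congr rfl fun j _ => ?_
  ring

/-- `F^s ⊗ W₂` is invariant under `A ⊗ B` when `B` preserves `W₂` -/
lemma bigW_invariant {s k : ℕ} (e : Fin n ≃ Fin s × Fin k) (P : GL (Fin n) F) (W₂ : Submodule F (Fin k → F))
    (A : Matrix (Fin s) (Fin s) F) (B : Matrix (Fin k) (Fin k) F) (hB : ∀ y ∈ W₂, B *ᵥ y ∈ W₂)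
    {u : Fin n → F} (hu : u ∈ bigW e P W₂) : conjR e P (A ⊗ₖ B) *ᵥ u ∈ bigW e P W₂ := by
  intro a'
  rw [coordK_conjR, kron_mulVec_row]
  exact W₂.sum_mem fun a'' _ => W₂.smul_mem _ (hB _ (hu a''))

/-- (E4) -/
theorem false_of_nonalt (h : SpCtx J m H) (hirr : Irr H) (heven : ¬ Odd (Fintype.card F)) {s k : ℕ}
    (hs : 0 < s) (hk : 2 ≤ k) (e : Fin n ≃ Fin s × Fin k) (P : GL (Fin n) F)
    (G₁ : Matrix (Fin s) (Fin s) F) (G₂ : Matrix (Fin k) (Fin k) F) (hG₁ : G₁ ≠ 0) (hG₂s : G₂ᵀ = G₂)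
    (hG₂nz : ∃ c, G₂ c c ≠ 0) (hgram : gramT e P J = G₁ ⊗ₖ G₂)
    (hH : H ≤ tensorProductSubgroup s k e P) : False := by
  classical
  have h2 : (2 : F) = 0 := Cfsg.Agent.Lib.Helper17.SpAschLeaf.two_eq_zero_of_not_odd heven
  obtain ⟨c₁, hc₁⟩ := hG₂nz
  have hG₂ : G₂ ≠ 0 := by
    intro h0
    apply hc₁
    rw [h0]
    rfl
  set W₂ := qzero h2 G₂ hG₂s with hW₂
  have a₀ : Fin s := ⟨0, hs⟩
  -- a non-zero vector of `W₂`
  obtain ⟨y₀, hy₀W, hy₀⟩ : ∃ y₀ ∈ W₂, y₀ ≠ 0 := by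
    let d₀ : Fin k := ⟨0, by omega⟩
    let d₁ : Fin k := ⟨1, by omega⟩
    have hd : d₁ ≠ d₀ := by
      intro hh
      have := congrArg Fin.val hh
      simp [d₀, d₁] at this
    by_cases hq : bfm G₂ (Pi.single d₁ (1 : F)) (Pi.single d₁ (1 : F)) = 0
    · refine ⟨Pi.single d₁ (1 : F), hq, ?_⟩
      intro h0
      have := congrFun h0 d₁
      simp at this
    · have hchar : ringChar F = 2 := by
        apply CharP.ringChar_of_prime_eq_zero Nat.prime_two
        exact_mod_cast h2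
      obtain ⟨α, hα⟩ := FiniteField.isSquare_of_char_two hchar
        (bfm G₂ (Pi.single d₀ (1 : F)) (Pi.single d₀ (1 : F)) /
          bfm G₂ (Pi.single d₁ (1 : F)) (Pi.single d₁ (1 : F)))
      refine ⟨Pi.single d₀ (1 : F) + α • Pi.single d₁ (1 : F), ?_, ?_⟩
      · rw [hW₂, mem_qzero, bfm_self_add h2 hG₂s, bfm_self_smul, ← hα, div_mul_cancel₀ _ hq]
        linear_combination bfm G₂ (Pi.single d₀ (1 : F)) (Pi.single d₀ (1 : F)) * h2
      · intro h0
        have := congrFun h0 d₀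
        simp [hd.symm] at this
  -- a vector outside `W₂`
  have hy₁ : Pi.single c₁ (1 : F) ∉ W₂ := by
    rw [hW₂, mem_qzero, bfm_entry]
    exact hc₁
  set W := bigW e P W₂ with hW
  have hinv : ∀ M ∈ matrixSet H, W.map (Matrix.toLin' M) ≤ W := by
    rintro _ ⟨g, hg, rfl⟩ _ ⟨u, hu, rfl⟩
    obtain ⟨a, b, d, hab, hsim⟩ := exists_similitude_right e P G₁ G₂ hG₁ hG₂ hgram (h.le hg) (hH hg)
    rw [Matrix.toLin'_apply]
    show (g : Matrix (Fin n) (Fin n) F) *ᵥ u ∈ W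
    rw [hab]
    refine bigW_invariant e P W₂ _ _ ?_ hu
    intro y hy
    rw [hW₂, mem_qzero] at hy ⊢
    rw [bfm_mulVec, hsim, Cfsg.Agent.Lib.Helper29.SpPrfLeaf.bfm_smul_mat_c, hy, mul_zero]
  rcases hirr W hinv with hbot | htop
  · -- `W ≠ ⊥`
    have hmem : tvec e P (fun p => y₀ p.2) ∈ W := by
      intro a
      rw [coordK_tvec]
      exact hy₀W
    rw [hbot, Submodule.mem_bot] at hmem
    apply hy₀
    have h0 := congrArg (coordK e P) hmem
    rw [coordK_tvec, coordK_zero] at h0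
    funext c
    exact congrFun h0 (a₀, c)
  · -- `W ≠ ⊤`
    have hmem : tvec e P (fun p => (Pi.single c₁ (1 : F) : Fin k → F) p.2) ∈ W := by
      rw [htop]
      exact Submodule.mem_top
    have := hmem a₀
    rw [coordK_tvec] at this
    exact hy₁ this

end Cfsg.Agent.Lib.Helper22.SpTnsLeaf
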