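import Mathlib
import Cfsg.Prelude.Def_HallClasses
import Cfsg.Agent.Lib.Helper8.Conj

set_option autoImplicit false

/-!
Pronormal subgroups: restriction, images, preimages, Sylow conjugacy "at the level of the big group",
and the Guo–Maslova–Revin extension criterion for pronormality of overgroups of Sylow subgroups.
-/

namespace Cfsg.Agent.Lib.Helper22.Pronormal

open Cfsg.Agent.Lib.Helper8

variable {G : Type*} [Group G]

local notation:max H "^^" g => Subgroup.map (MulEquiv.toMonoidHom (MulAut.conj g)) H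

/-! ### basic conjugation lemmas -/

theorem map_conj_of_mem {H : Subgroup G} {g : G} (hg : g ∈ H) : (H ^^ g) = H :=
  mem_normalizer_iff_map_conj.mp (Subgroup.le_normalizer hg)

theorem map_conj_normal (A : Subgroup G) [hA : A.Normal] (g : G) : (A ^^ g) = A := by
  apply mem_normalizer_iff_map_conj.mp
  rw [Subgroup.normalizer_eq_top_iff.mpr hA]
  exact Subgroup.mem_top g

theorem map_conj_le_of_mem {H J : Subgroup G} {g : G} (hH : H ≤ J) (hg : g ∈ J) : (H ^^ g) ≤ J := by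
  calc (H ^^ g) ≤ (J ^^ g) := Subgroup.map_mono hH
    _ = J := map_conj_of_mem hg

theorem map_conj_inf (H K : Subgroup G) (g : G) : ((H ⊓ K) ^^ g) = (H ^^ g) ⊓ (K ^^ g) :=
  Subgroup.map_inf H K _ (MulAut.conj g).injective

theorem map_conj_subtype (A : Subgroup G) (K : Subgroup A) (a : A) :
    (K ^^ a).map A.subtype = ((K.map A.subtype) ^^ (a : G)) := by
  rw [Subgroup.map_map, Subgroup.map_map]
  congr 1

theorem map_conj_map {G' : Type*} [Group G'] (f : G →* G') (H : Subgroup G) (g : G) :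
    (H ^^ g).map f = ((H.map f) ^^ (f g)) := by
  rw [Subgroup.map_map, Subgroup.map_map]
  congr 1
  ext x
  simp

theorem comap_map_conj {G' : Type*} [Group G'] (f : G →* G') (K : Subgroup G') (g : G) :
    ((K.comap f) ^^ g) = (K ^^ (f g)).comap f := by
  ext y
  rw [mem_map_conj, Subgroup.mem_comap, Subgroup.mem_comap, mem_map_conj]
  simp

/-- The composition trick: if `g = y * g₁` with `y ∈ ⟨H, H^g⟩` and `H^g₁ = H^w` with
`w ∈ ⟨H, H^g₁⟩`, then `H^g = H^(y*w)` with `y * w ∈ ⟨H, H^g⟩`. -/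
theorem conj_trick (H : Subgroup G) {y g₁ w : G}
    (hy : y ∈ H ⊔ (H ^^ (y * g₁)))
    (hw : w ∈ H ⊔ (H ^^ g₁))
    (hHw : (H ^^ g₁) = (H ^^ w)) :
    ∃ x ∈ H ⊔ (H ^^ (y * g₁)), (H ^^ (y * g₁)) = (H ^^ x) := by
  refine ⟨y * w, ?_, ?_⟩
  · set J : Subgroup G := H ⊔ (H ^^ (y * g₁)) with hJ
    have h1 : y * w * y⁻¹ ∈ J := by
      have h2 : y * w * y⁻¹ ∈ ((H ⊔ (H ^^ g₁)) ^^ y) := conj_mem_map_conj hw
      have h3 : ((H ⊔ (H ^^ g₁)) ^^ y) ≤ J := by
        rw [Subgroup.map_sup, map_conj_map_conj]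
        exact sup_le (map_conj_le_of_mem le_sup_left hy) le_sup_right
      exact h3 h2
    have h4 : y * w = (y * w * y⁻¹) * y := by group
    rw [h4]
    exact J.mul_mem h1 hy
  · rw [← map_conj_map_conj H g₁ y, hHw, map_conj_map_conj]

/-! ### relative pronormality -/

/-- `K` is "pronormal with respect to conjugation by elements of `M`". -/
def PrnIn (K M : Subgroup G) : Prop :=
  ∀ g ∈ M, ∃ x ∈ K ⊔ (K ^^ g), (K ^^ g) = (K ^^ x)

theorem isPronormal_iff_prnIn_top (K : Subgroup G) : Cfsg.IsPronormal K ↔ PrnIn K ⊤ :=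
  ⟨fun h g _ => h g, fun h g => h g (Subgroup.mem_top g)⟩

theorem PrnIn.mono {K M M' : Subgroup G} (h : PrnIn K M) (hM : M' ≤ M) : PrnIn K M' :=
  fun g hg => h g (hM hg)

theorem prnIn_of_subgroupOf {K M : Subgroup G} (hKM : K ≤ M)
    (h : Cfsg.IsPronormal (K.subgroupOf M)) : PrnIn K M := by
  have T1 : (K.subgroupOf M).map M.subtype = K := Subgroup.map_subgroupOf_eq_of_le hKM
  intro g hg
  obtain ⟨x, hx, hxe⟩ := h ⟨g, hg⟩
  refine ⟨(x : G), ?_, ?_⟩
  · have := Subgroup.mem_map_of_mem M.subtype hx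
    rw [Subgroup.map_sup, map_conj_subtype, T1] at this
    exact this
  · have := congrArg (Subgroup.map M.subtype) hxe
    rw [map_conj_subtype, map_conj_subtype, T1] at this
    exact this

theorem subgroupOf_of_prnIn {K M : Subgroup G} (hKM : K ≤ M)
    (h : PrnIn K M) : Cfsg.IsPronormal (K.subgroupOf M) := by
  have T1 : (K.subgroupOf M).map M.subtype = K := Subgroup.map_subgroupOf_eq_of_le hKM
  intro g
  obtain ⟨x, hx, hxe⟩ := h (g : G) g.2
  have hxM : x ∈ M := (sup_le hKM (map_conj_le_of_mem hKM g.2)) hx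
  refine ⟨⟨x, hxM⟩, ?_, ?_⟩
  · rw [← Subgroup.mem_map_iff_mem M.subtype_injective, Subgroup.map_sup, map_conj_subtype, T1]
    exact hx
  · apply Subgroup.map_injective M.subtype_injective
    rw [map_conj_subtype, map_conj_subtype, T1]
    exact hxe

/-- Images of pronormal subgroups under surjective homomorphisms are pronormal. -/
theorem pronormal_map {G' : Type*} [Group G'] {f : G →* G'} (hf : Function.Surjective f)
    {H : Subgroup G} (h : Cfsg.IsPronormal H) : Cfsg.IsPronormal (H.map f) := by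
  intro g'
  obtain ⟨g, rfl⟩ := hf g'
  obtain ⟨x, hx, hxe⟩ := h g
  refine ⟨f x, ?_, ?_⟩
  · rw [← map_conj_map, ← Subgroup.map_sup]
    exact Subgroup.mem_map_of_mem f hx
  · rw [← map_conj_map, ← map_conj_map, hxe]

/-- Preimages of pronormal subgroups under surjective homomorphisms are pronormal. -/
theorem pronormal_comap {G' : Type*} [Group G'] {f : G →* G'} (hf : Function.Surjective f)
    {K : Subgroup G'} (h : Cfsg.IsPronormal K) : Cfsg.IsPronormal (K.comap f) := by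
  intro g
  obtain ⟨x', hx', hxe⟩ := h (f g)
  obtain ⟨x, rfl⟩ := hf x'
  refine ⟨x, ?_, ?_⟩
  · rw [comap_map_conj, Subgroup.comap_sup_eq f _ _ hf]
    exact hx'
  · rw [comap_map_conj, comap_map_conj, hxe]

/-- Pronormality is invariant under conjugation. -/
theorem pronormal_conj {H : Subgroup G} (h : Cfsg.IsPronormal H) (c : G) :
    Cfsg.IsPronormal (H ^^ c) := by
  have := pronormal_map (f := (MulAut.conj c).toMonoidHom) (MulAut.conj c).surjective h
  exact this

/-! ### maximal `p`-subgroups of a subgroup, at the level of the big group -/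

/-- `T` is a maximal `p`-subgroup of `D` (i.e. a Sylow `p`-subgroup of `D`, when `G` is finite). -/
def SylIn (p : ℕ) (T D : Subgroup G) : Prop :=
  T ≤ D ∧ IsPGroup p T ∧ ∀ Q : Subgroup G, IsPGroup p Q → Q ≤ D → T ≤ Q → Q = T

theorem SylIn.mono {p : ℕ} {T D A : Subgroup G} (h : SylIn p T A) (hTD : T ≤ D) (hDA : D ≤ A) :
    SylIn p T D :=
  ⟨hTD, h.2.1, fun Q hQ hQD hTQ => h.2.2 Q hQ (hQD.trans hDA) hTQ⟩

theorem SylIn.map_conj {p : ℕ} {T D : Subgroup G} (h : SylIn p T D) (g : G) :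
    SylIn p (T ^^ g) (D ^^ g) := by
  refine ⟨Subgroup.map_mono h.1, h.2.1.map _, ?_⟩
  intro Q hQ hQD hTQ
  have h1 : (Q ^^ g⁻¹) = T := by
    apply h.2.2 _ (hQ.map _)
    · have := Subgroup.map_mono (f := (MulAut.conj g⁻¹).toMonoidHom) hQD
      rwa [map_conj_map_conj, inv_mul_cancel, map_conj_one] at this
    · have := Subgroup.map_mono (f := (MulAut.conj g⁻¹).toMonoidHom) hTQ
      rwa [map_conj_map_conj, inv_mul_cancel, map_conj_one] at this
  rw [← h1, map_conj_map_conj, mul_inv_cancel, map_conj_one]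

theorem SylIn.of_sylow {p : ℕ} {D : Subgroup G} (P : Sylow p D) :
    SylIn p ((P : Subgroup D).map D.subtype) D := by
  refine ⟨Subgroup.map_subtype_le _, P.2.map _, ?_⟩
  intro Q hQ hQD hPQ
  have h1 : Q.subgroupOf D = (P : Subgroup D) := by
    apply P.3 (hQ.comap_subtype)
    intro x hx
    rw [Subgroup.mem_comap]
    exact hPQ (Subgroup.mem_map_of_mem D.subtype hx)
  rw [← h1, Subgroup.map_subgroupOf_eq_of_le hQD]

theorem SylIn.of_sylow_top {p : ℕ} (P : Sylow p G) : SylIn p (P : Subgroup G) ⊤ :=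
  ⟨le_top, P.2, fun _ hQ _ hPQ => P.3 hQ hPQ⟩

theorem SylIn.map_conj_top {p : ℕ} {T : Subgroup G} (h : SylIn p T ⊤) (g : G) :
    SylIn p (T ^^ g) ⊤ := by
  have := h.map_conj g
  rwa [map_conj_normal ⊤ g] at this

theorem SylIn.exists_sylow {p : ℕ} [Fact p.Prime] [Finite G] {T D : Subgroup G} (h : SylIn p T D) :
    ∃ S : Sylow p D, (S : Subgroup D).map D.subtype = T := by
  obtain ⟨S, hS⟩ := (h.2.1.comap_subtype (K := D)).exists_le_sylow
  refine ⟨S, h.2.2 _ (S.2.map _) (Subgroup.map_subtype_le _) ?_⟩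
  have : T = (T.subgroupOf D).map D.subtype := (Subgroup.map_subgroupOf_eq_of_le h.1).symm
  rw [this]
  exact Subgroup.map_mono hS

/-- Sylow's second theorem inside `D`, stated in `G`. -/
theorem SylIn.conj {p : ℕ} [Fact p.Prime] [Finite G] {T T' D : Subgroup G} (h : SylIn p T D)
    (h' : SylIn p T' D) : ∃ d ∈ D, T' = (T ^^ d) := by
  obtain ⟨S, hS⟩ := h.exists_sylow
  obtain ⟨S', hS'⟩ := h'.exists_sylow
  obtain ⟨d, hd⟩ := MulAction.exists_smul_eq D S S'
  refine ⟨(d : G), d.2, ?_⟩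
  rw [← hS, ← hS', ← hd, sylow_smul_coe, map_conj_subtype]

/-- Sylow subgroups are pronormal. -/
theorem sylow_pronormal {p : ℕ} [Fact p.Prime] [Finite G] (S : Sylow p G) :
    Cfsg.IsPronormal (S : Subgroup G) := by
  intro g
  have h0 := SylIn.of_sylow_top S
  have h1 : SylIn p (S : Subgroup G) ((S : Subgroup G) ⊔ ((S : Subgroup G) ^^ g)) :=
    h0.mono le_sup_left le_top
  have h2 : SylIn p ((S : Subgroup G) ^^ g) ((S : Subgroup G) ⊔ ((S : Subgroup G) ^^ g)) := by
    have := h0.map_conj_top g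
    exact this.mono le_sup_right le_top
  obtain ⟨d, hd, hde⟩ := h1.conj h2
  exact ⟨d, hd, hde⟩

/-- A subgroup containing the normalizer of one of its Sylow subgroups (Sylow in `G`) is pronormal
and self-normalizing. -/
theorem pronormal_of_normalizer_le {p : ℕ} [Fact p.Prime] [Finite G] (S : Sylow p G)
    {K : Subgroup G} (hSK : (S : Subgroup G) ≤ K)
    (hN : Subgroup.normalizer ((S : Subgroup G) : Set G) ≤ K) :
    Cfsg.IsPronormal K ∧ Subgroup.normalizer (K : Set G) ≤ K := by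
  have key : ∀ g : G, ∃ x ∈ K ⊔ (K ^^ g), x⁻¹ * g ∈ K := by
    intro g
    have h0 := SylIn.of_sylow_top S
    have h1 : SylIn p (S : Subgroup G) (K ⊔ (K ^^ g)) := h0.mono (hSK.trans le_sup_left) le_top
    have h2 : SylIn p ((S : Subgroup G) ^^ g) (K ⊔ (K ^^ g)) :=
      (h0.map_conj_top g).mono ((Subgroup.map_mono hSK).trans le_sup_right) le_top
    obtain ⟨d, hd, hde⟩ := h1.conj h2
    refine ⟨d, hd, hN ?_⟩
    rw [mem_normalizer_iff_map_conj, ← map_conj_map_conj, hde, map_conj_map_conj,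
      inv_mul_cancel, map_conj_one]
  constructor
  · intro g
    obtain ⟨x, hx, hxg⟩ := key g
    refine ⟨x, hx, ?_⟩
    have h3 : g = x * (x⁻¹ * g) := by group
    conv_lhs => rw [h3, ← map_conj_map_conj, map_conj_of_mem hxg]
  · intro g hg
    obtain ⟨x, hx, hxg⟩ := key g
    rw [mem_normalizer_iff_map_conj.mp hg, sup_idem] at hx
    have h3 : g = x * (x⁻¹ * g) := by group
    rw [h3]
    exact K.mul_mem hx hxg

/-! ### Frattini argument at the level of `G` -/

theorem le_sup_inf_normalizer {p : ℕ} [Fact p.Prime] [Finite G] {T D H : Subgroup G}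
    (hT : SylIn p T D) (hDH : D ≤ H) (hHD : ∀ h ∈ H, (D ^^ h) = D) :
    H ≤ D ⊔ (H ⊓ Subgroup.normalizer (T : Set G)) := by
  intro h hh
  have h1 : SylIn p (T ^^ h) D := by
    have := hT.map_conj h
    rwa [hHD h hh] at this
  obtain ⟨d, hd, hde⟩ := hT.conj h1
  have h2 : d⁻¹ * h ∈ Subgroup.normalizer (T : Set G) := by
    rw [mem_normalizer_iff_map_conj, ← map_conj_map_conj, hde, map_conj_map_conj,
      inv_mul_cancel, map_conj_one]
  have h3 : h = d * (d⁻¹ * h) := by group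
  rw [h3]
  exact Subgroup.mul_mem_sup hd ⟨H.mul_mem (H.inv_mem (hDH hd)) hh, h2⟩

/-! ### the core of the Guo–Maslova–Revin criterion -/

/-- Core step: if `T` is a Sylow `p`-subgroup of the normal subgroup `A`, `T ≤ H`, `H ∩ A` is
pronormal in `A` and `H ∩ N_G(T)` is pronormal in `N_G(T)`, then `H` and `H^a` are conjugate in
their join for all `a ∈ A`. -/
theorem prnIn_of_frattini {p : ℕ} [Fact p.Prime] [Finite G] (A : Subgroup G) [A.Normal]
    (T H : Subgroup G) (hT : SylIn p T A) (hTH : T ≤ H)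
    (hD : PrnIn (H ⊓ A) A)
    (hM : PrnIn (H ⊓ Subgroup.normalizer (T : Set G)) (Subgroup.normalizer (T : Set G))) :
    PrnIn H A := by
  intro a ha
  set D : Subgroup G := H ⊓ A with hDdef
  set M : Subgroup G := H ⊓ Subgroup.normalizer (T : Set G) with hMdef
  have hDA : D ≤ A := inf_le_right
  have hDH : D ≤ H := inf_le_left
  have hTD : T ≤ D := le_inf hTH hT.1
  have hHD : ∀ h ∈ H, (D ^^ h) = D := by
    intro h hh
    rw [hDdef, map_conj_inf, map_conj_of_mem hh, map_conj_normal]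
  obtain ⟨x, hx, hDx⟩ := hD a ha
  have hxA : x ∈ A := (sup_le hDA (map_conj_le_of_mem hDA ha)) hx
  have hxJ : x ∈ H ⊔ (H ^^ a) := (sup_le_sup hDH (Subgroup.map_mono hDH)) hx
  -- a₁ = x⁻¹ a normalizes D
  have ha₁A : x⁻¹ * a ∈ A := A.mul_mem (A.inv_mem hxA) ha
  have hDa₁ : (D ^^ (x⁻¹ * a)) = D := by
    rw [← map_conj_map_conj, hDx, map_conj_map_conj, inv_mul_cancel, map_conj_one]
  -- T^{a₁} is Sylow in D
  have hT1 : SylIn p T D := hT.mono hTD hDA
  have hT2 : SylIn p (T ^^ (x⁻¹ * a)) D := by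
    have := hT1.map_conj (x⁻¹ * a)
    rwa [hDa₁] at this
  obtain ⟨b, hb, hTb⟩ := hT1.conj hT2
  -- a₂ = b⁻¹ a₁ normalizes T and D
  set a₂ : G := b⁻¹ * (x⁻¹ * a) with ha₂def
  have ha₂A : a₂ ∈ A := A.mul_mem (A.inv_mem (hDA hb)) ha₁A
  have hTa₂ : (T ^^ a₂) = T := by
    rw [ha₂def, ← map_conj_map_conj, hTb, map_conj_map_conj, inv_mul_cancel, map_conj_one]
  have hDa₂ : (D ^^ a₂) = D := by
    rw [ha₂def, ← map_conj_map_conj, hDa₁, map_conj_of_mem (D.inv_mem hb)]
  have ha₂N : a₂ ∈ Subgroup.normalizer (T : Set G) := mem_normalizer_iff_map_conj.mpr hTa₂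
  obtain ⟨z, hz, hMz⟩ := hM a₂ ha₂N
  -- z normalizes D
  have hND : M ⊔ (M ^^ a₂) ≤ Subgroup.normalizer (D : Set G) := by
    have hMle : M ≤ Subgroup.normalizer (D : Set G) := by
      intro m hm
      exact mem_normalizer_iff_map_conj.mpr (hHD m hm.1)
    refine sup_le hMle (map_conj_le_of_mem hMle (mem_normalizer_iff_map_conj.mpr hDa₂))
  have hDz : (D ^^ z) = D := mem_normalizer_iff_map_conj.mp (hND hz)
  -- Frattini: H = D ⊔ M
  have hHeq : H = D ⊔ M :=
    le_antisymm (le_sup_inf_normalizer hT1 hDH hHD) (sup_le hDH inf_le_left)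
  have hHa₂ : (H ^^ a₂) = (H ^^ z) := by
    conv_lhs => rw [hHeq, Subgroup.map_sup, hDa₂, hMz, ← hDz, ← Subgroup.map_sup, ← hHeq]
  have hzJ : z ∈ H ⊔ (H ^^ a₂) :=
    (sup_le_sup (inf_le_left : M ≤ H) (Subgroup.map_mono (inf_le_left : M ≤ H))) hz
  have hae : x * b * a₂ = a := by rw [ha₂def]; group
  have hy : x * b ∈ H ⊔ (H ^^ (x * b * a₂)) := by
    rw [hae]
    exact Subgroup.mul_mem _ hxJ ((le_sup_left : H ≤ H ⊔ (H ^^ a)) (hDH hb))
  have := conj_trick H hy hzJ hHa₂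
  rwa [hae] at this

/-- Gluing step: if `H` is conjugate to `H^a` inside their join for `a ∈ A`, the image of `H` in
`G/A` is pronormal and `N_{G/A}(HA/A)` is the image of `N_G(H)`, then `H` is pronormal. -/
theorem pronormal_of_prnIn_normal (A : Subgroup G) [A.Normal] (H : Subgroup G)
    (hA : PrnIn H A)
    (hQ : Cfsg.IsPronormal (H.map (QuotientGroup.mk' A)))
    (hN : Subgroup.normalizer ((H.map (QuotientGroup.mk' A) : Subgroup (G ⧸ A)) : Set (G ⧸ A)) ≤
      (Subgroup.normalizer (H : Set G)).map (QuotientGroup.mk' A)) :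
    Cfsg.IsPronormal H := by
  intro g
  obtain ⟨xb, hxb, hxbe⟩ := hQ (QuotientGroup.mk' A g)
  rw [← map_conj_map, ← Subgroup.map_sup] at hxb
  obtain ⟨y, hy, rfl⟩ := hxb
  -- g₁ = y⁻¹ g normalizes the image
  have hg₁ : QuotientGroup.mk' A (y⁻¹ * g) ∈
      Subgroup.normalizer ((H.map (QuotientGroup.mk' A) : Subgroup (G ⧸ A)) : Set (G ⧸ A)) := by
    rw [mem_normalizer_iff_map_conj, map_mul, ← map_conj_map_conj, hxbe, map_conj_map_conj,
      map_inv, inv_mul_cancel, map_conj_one]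
  obtain ⟨n, hn, hne⟩ := hN hg₁
  have haA : y⁻¹ * g * n⁻¹ ∈ A := by
    rw [← QuotientGroup.eq_one_iff (N := A)]
    have h1 : ((y⁻¹ * g * n⁻¹ : G) : G ⧸ A) =
        QuotientGroup.mk' A (y⁻¹ * g) * (QuotientGroup.mk' A n)⁻¹ := by
      simp
    rw [h1, hne, mul_inv_cancel]
  obtain ⟨w, hw, hHw⟩ := hA _ haA
  have hHg₁ : (H ^^ (y⁻¹ * g)) = (H ^^ (y⁻¹ * g * n⁻¹)) := by
    have h2 : y⁻¹ * g = (y⁻¹ * g * n⁻¹) * n := by group
    conv_lhs => rw [h2, ← map_conj_map_conj, mem_normalizer_iff_map_conj.mp hn]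
  have hge : y * (y⁻¹ * g) = g := by group
  have hy' : y ∈ H ⊔ (H ^^ (y * (y⁻¹ * g))) := by rw [hge]; exact hy
  have hw' : w ∈ H ⊔ (H ^^ (y⁻¹ * g)) := by rw [hHg₁]; exact hw
  have := conj_trick H hy' hw' (hHg₁.trans hHw)
  rwa [hge] at this

/-! ### the class of groups in which all overgroups of Sylow `p`-subgroups are pronormal -/

/-- Every subgroup containing a Sylow `p`-subgroup is pronormal. -/
def PP (p : ℕ) (G : Type*) [Group G] : Prop :=
  ∀ K : Subgroup G, (∃ P : Sylow p G, (P : Subgroup G) ≤ K) → Cfsg.IsPronormal K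

theorem prnIn_of_PP_quot {p : ℕ} [Fact p.Prime] [Finite G] (N T : Subgroup G)
    [hn : (T.subgroupOf N).Normal] (hPP : PP p (↥N ⧸ T.subgroupOf N)) (M : Subgroup G)
    (hTM : T ≤ M) (hMN : M ≤ N) (P : Sylow p G) (hPM : (P : Subgroup G) ≤ M) : PrnIn M N := by
  apply prnIn_of_subgroupOf hMN
  have hsurj : Function.Surjective (QuotientGroup.mk' (T.subgroupOf N)) :=
    QuotientGroup.mk'_surjective _
  have h1 : Cfsg.IsPronormal ((M.subgroupOf N).map (QuotientGroup.mk' (T.subgroupOf N))) := by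
    apply hPP
    refine ⟨(P.subtype (hPM.trans hMN)).mapSurjective hsurj, ?_⟩
    rw [Sylow.coe_mapSurjective, Sylow.coe_subtype]
    exact Subgroup.map_mono (Subgroup.comap_mono hPM)
  have h2 := pronormal_comap hsurj h1
  rwa [Subgroup.comap_map_eq, QuotientGroup.ker_mk', sup_of_le_left] at h2
  exact Subgroup.comap_mono hTM

theorem PP_quot_of_PP {p : ℕ} [Fact p.Prime] [Finite G] (hPP : PP p G) (N T : Subgroup G)
    [hn : (T.subgroupOf N).Normal] (P₀ : Sylow p G) (hP₀N : (P₀ : Subgroup G) ≤ N) :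
    PP p (↥N ⧸ T.subgroupOf N) := by
  rintro Kb ⟨Pb, hPb⟩
  have hsurj : Function.Surjective (QuotientGroup.mk' (T.subgroupOf N)) :=
    QuotientGroup.mk'_surjective _
  obtain ⟨q, hq⟩ := MulAction.exists_smul_eq (↥N ⧸ T.subgroupOf N)
    ((P₀.subtype hP₀N).mapSurjective hsurj) Pb
  obtain ⟨n, rfl⟩ := hsurj q
  have hPbe : (Pb : Subgroup (↥N ⧸ T.subgroupOf N)) =
      (((P₀ : Subgroup G).subgroupOf N) ^^ n).map (QuotientGroup.mk' (T.subgroupOf N)) := by
    rw [← hq, sylow_smul_coe, Sylow.coe_mapSurjective, Sylow.coe_subtype, map_conj_map]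
  -- the Sylow subgroup P₁ = n • P₀ of G lies in the preimage of Kb
  have hP₁ : (((n : G) • P₀ : Sylow p G) : Subgroup G) ≤
      (Kb.comap (QuotientGroup.mk' (T.subgroupOf N))).map N.subtype := by
    intro x hx
    rw [sylow_smul_coe] at hx
    have hxN : x ∈ N := map_conj_le_of_mem hP₀N n.2 hx
    refine ⟨⟨x, hxN⟩, ?_, rfl⟩
    rw [SetLike.mem_coe, Subgroup.mem_comap]
    apply hPb
    rw [hPbe]
    apply Subgroup.mem_map_of_mem
    rw [mem_map_conj, Subgroup.mem_subgroupOf]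
    rw [mem_map_conj] at hx
    simpa using hx
  have h1 : Cfsg.IsPronormal ((Kb.comap (QuotientGroup.mk' (T.subgroupOf N))).map N.subtype) :=
    hPP _ ⟨_, hP₁⟩
  have h2 : PrnIn ((Kb.comap (QuotientGroup.mk' (T.subgroupOf N))).map N.subtype) N :=
    ((isPronormal_iff_prnIn_top _).mp h1).mono le_top
  have h3 := subgroupOf_of_prnIn (Subgroup.map_subtype_le _) h2
  have h4 : ((Kb.comap (QuotientGroup.mk' (T.subgroupOf N))).map N.subtype).subgroupOf N =
      Kb.comap (QuotientGroup.mk' (T.subgroupOf N)) :=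
    Subgroup.comap_map_eq_self_of_injective N.subtype_injective _
  rw [h4] at h3
  have h5 := pronormal_map hsurj h3
  rwa [Subgroup.map_comap_eq_self_of_surjective hsurj] at h5

theorem exists_sylow_ge_le_normalizer {p : ℕ} [Fact p.Prime] [Finite G] (A : Subgroup G)
    [A.Normal] {T : Subgroup G} (hT : SylIn p T A) :
    ∃ P₀ : Sylow p G, T ≤ (P₀ : Subgroup G) ∧
      (P₀ : Subgroup G) ≤ Subgroup.normalizer (T : Set G) := by
  obtain ⟨P₀, hTP₀⟩ := hT.2.1.exists_le_sylow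
  refine ⟨P₀, hTP₀, ?_⟩
  have hTe : (P₀ : Subgroup G) ⊓ A = T :=
    hT.2.2 _ (P₀.2.to_le inf_le_left) inf_le_right (le_inf hTP₀ hT.1)
  intro x hx
  rw [mem_normalizer_iff_map_conj, ← hTe, map_conj_inf, map_conj_of_mem hx, map_conj_normal]

/-- Forward direction (i) of the Guo–Maslova–Revin criterion. -/
theorem gmr_forward_i {p : ℕ} [Fact p.Prime] [Finite G] (A : Subgroup G) [A.Normal]
    (T : Subgroup G) (hT : SylIn p T A)
    [hn : (T.subgroupOf (Subgroup.normalizer (T : Set G))).Normal] (hG : PP p G) :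
    PP p (↥(Subgroup.normalizer (T : Set G)) ⧸ T.subgroupOf (Subgroup.normalizer (T : Set G))) := by
  obtain ⟨P₀, _, hP₀N⟩ := exists_sylow_ge_le_normalizer A hT
  exact PP_quot_of_PP hG _ _ P₀ hP₀N

/-- Forward direction (ii): for a pronormal subgroup `K`, the image of `N_G(K)` in `G/A` is the
normalizer of the image of `K`. -/
theorem gmr_forward_ii (A : Subgroup G) [A.Normal] (K : Subgroup G) (hK : Cfsg.IsPronormal K) :
    (Subgroup.normalizer (K : Set G)).map (QuotientGroup.mk' A) =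
      Subgroup.normalizer ((K.map (QuotientGroup.mk' A) : Subgroup (G ⧸ A)) : Set (G ⧸ A)) := by
  apply le_antisymm (Subgroup.le_normalizer_map _)
  intro gb hgb
  obtain ⟨g, rfl⟩ := QuotientGroup.mk'_surjective A gb
  rw [mem_normalizer_iff_map_conj, ← map_conj_map] at hgb
  -- K^g ≤ K ⊔ A
  have h1 : (K ^^ g) ≤ K ⊔ A := by
    have h2 : (K ^^ g) ≤ ((K ^^ g).map (QuotientGroup.mk' A)).comap (QuotientGroup.mk' A) :=
      Subgroup.le_comap_map _ _
    rw [hgb, Subgroup.comap_map_eq, QuotientGroup.ker_mk'] at h2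
    exact h2
  obtain ⟨x, hx, hxe⟩ := hK g
  have hxKA : x ∈ K ⊔ A := (sup_le le_sup_left h1) hx
  obtain ⟨k, hk, a, ha, rfl⟩ := Subgroup.mem_sup_of_normal_right.mp hxKA
  have hn : (k * a)⁻¹ * g ∈ Subgroup.normalizer (K : Set G) := by
    rw [mem_normalizer_iff_map_conj, ← map_conj_map_conj, hxe, map_conj_map_conj,
      inv_mul_cancel, map_conj_one]
  refine ⟨k * ((k * a)⁻¹ * g), Subgroup.mul_mem _ (Subgroup.le_normalizer hk) hn, ?_⟩
  have h3 : QuotientGroup.mk' A a = 1 := (QuotientGroup.eq_one_iff a).mpr ha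
  simp only [map_mul, map_inv, h3]
  group

/-- Backward direction of the Guo–Maslova–Revin criterion. -/
theorem gmr_backward {p : ℕ} [Fact p.Prime] [Finite G] (A : Subgroup G) [A.Normal]
    (T : Subgroup G) (hT : SylIn p T A)
    [hn : (T.subgroupOf (Subgroup.normalizer (T : Set G))).Normal] (hA : PP p A)
    (hi : PP p (↥(Subgroup.normalizer (T : Set G)) ⧸ T.subgroupOf (Subgroup.normalizer (T : Set G))))
    (hQN : ∀ K : Subgroup G, (∃ P : Sylow p G, (P : Subgroup G) ≤ K) →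
      Cfsg.IsPronormal (K.map (QuotientGroup.mk' A)) ∧
      Subgroup.normalizer ((K.map (QuotientGroup.mk' A) : Subgroup (G ⧸ A)) : Set (G ⧸ A)) ≤
        (Subgroup.normalizer (K : Set G)).map (QuotientGroup.mk' A)) :
    PP p G := by
  rintro H ⟨P, hPH⟩
  obtain ⟨P₀, hTP₀, hP₀N⟩ := exists_sylow_ge_le_normalizer A hT
  obtain ⟨g, hg⟩ := MulAction.exists_smul_eq G P P₀
  have hP₀H' : (P₀ : Subgroup G) ≤ (H ^^ g) := by
    rw [← hg, sylow_smul_coe]
    exact Subgroup.map_mono hPH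
  suffices h : Cfsg.IsPronormal (H ^^ g) by
    have := pronormal_conj h g⁻¹
    rwa [map_conj_map_conj, inv_mul_cancel, map_conj_one] at this
  have hTH' : T ≤ (H ^^ g) := hTP₀.trans hP₀H'
  obtain ⟨PA, hPA⟩ := hT.exists_sylow
  have hD : PrnIn ((H ^^ g) ⊓ A) A := by
    apply prnIn_of_subgroupOf inf_le_right
    apply hA
    refine ⟨PA, ?_⟩
    intro x hx
    rw [Subgroup.mem_subgroupOf]
    refine ⟨hTH' ?_, x.2⟩
    rw [← hPA]
    exact Subgroup.mem_map_of_mem A.subtype hx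
  have hM : PrnIn ((H ^^ g) ⊓ Subgroup.normalizer (T : Set G)) (Subgroup.normalizer (T : Set G)) :=
    prnIn_of_PP_quot _ T hi _ (le_inf hTH' Subgroup.le_normalizer) inf_le_right P₀
      (le_inf hP₀H' hP₀N)
  have hcore := prnIn_of_frattini A T (H ^^ g) hT hTH' hD hM
  obtain ⟨hq1, hq2⟩ := hQN (H ^^ g) ⟨P₀, hP₀H'⟩
  exact pronormal_of_prnIn_normal A (H ^^ g) hcore hq1 hq2

end Cfsg.Agent.Lib.Helper22.Pronormal
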