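import Mathlib
import Cfsg.Agent.S4216

/-!
Helper lemmas (helper22) for the Hall–Wielandt transfer theorem: Newton/hockey-stick product
identity, products over free orbits of a map of prime order, and the local lemma on `A ⧸ B`.
-/

set_option autoImplicit false
open Finset

namespace Cfsg.Agent.Lib.Helper22


/-- multiplicative forward difference -/
def mdiff {T : Type*} [CommGroup T] (f : ℕ → T) : ℕ → T := fun i => (f i)⁻¹ * f (i + 1)

/-- hockey-stick / Newton summation: `∏_{i<m} f i = ∏_{k<m} (Δ^k f 0)^(C(m,k+1))`. -/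
theorem prod_range_eq_prod_mdiff {T : Type*} [CommGroup T] :
    ∀ (m : ℕ) (f : ℕ → T),
      ∏ i ∈ range m, f i = ∏ k ∈ range m, (mdiff^[k] f 0) ^ (m.choose (k + 1)) := by
  intro m
  induction m with
  | zero => intro f; simp
  | succ m ih =>
    intro f
    -- ∏_{i<m+1} f i = f 0 * ∏_{i<m} f (i+1), and f (i+1) = f i * mdiff f i
    have h1 : ∏ i ∈ range (m + 1), f i = f 0 * ∏ i ∈ range m, f (i + 1) := by
      rw [Finset.prod_range_succ']; exact mul_comm _ _
    have h2 : ∏ i ∈ range m, f (i + 1) = (∏ i ∈ range m, f i) * ∏ i ∈ range m, mdiff f i := by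
      rw [← Finset.prod_mul_distrib]
      apply Finset.prod_congr rfl
      intro i _
      unfold mdiff
      rw [mul_inv_cancel_left]
    rw [h1, h2, ih f, ih (mdiff f)]
    -- right side
    have h3 : ∏ k ∈ range (m + 1), (mdiff^[k] f 0) ^ ((m + 1).choose (k + 1)) =
        (∏ k ∈ range (m + 1), (mdiff^[k] f 0) ^ (m.choose k)) *
          ∏ k ∈ range (m + 1), (mdiff^[k] f 0) ^ (m.choose (k + 1)) := by
      rw [← Finset.prod_mul_distrib]
      apply Finset.prod_congr rfl
      intro k _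
      rw [Nat.choose_succ_succ, pow_add]
    rw [h3]
    have h4 : ∏ k ∈ range (m + 1), (mdiff^[k] f 0) ^ (m.choose (k + 1)) =
        ∏ k ∈ range m, (mdiff^[k] f 0) ^ (m.choose (k + 1)) := by
      rw [Finset.prod_range_succ, Nat.choose_succ_self, pow_zero, mul_one]
    have h5 : ∏ k ∈ range (m + 1), (mdiff^[k] f 0) ^ (m.choose k) =
        f 0 * ∏ k ∈ range m, (mdiff^[k] (mdiff f) 0) ^ (m.choose (k + 1)) := by
      rw [Finset.prod_range_succ']
      simp only [Function.iterate_zero, id_eq, Nat.choose_zero_right, pow_one,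
        Function.iterate_succ, Function.comp_apply]
      exact mul_comm _ _
    rw [h4, h5]
    -- commutative rearrangement
    have : ∀ a b c : T, a * (b * c) = a * c * b := fun a b c => by
      rw [mul_assoc, mul_comm b c]
    exact this _ _ _

/-- Algebraic core of the Hall–Wielandt argument. -/
theorem prod_eq_one_of_engel {T : Type*} [CommGroup T] (p : ℕ) (hp : p.Prime) (t : ℕ → ℕ → T)
    (hstep : ∀ j i, t (j + 1) i = (t j i)⁻¹ * t j (i + 1))
    (hpow : ∀ i, t 0 i ^ p = 1) (hengel : ∀ i, t (p - 1) i = 1) :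
    ∏ i ∈ range p, t 0 i = 1 := by
  have hiter : ∀ j, mdiff^[j] (t 0) = t j := by
    intro j
    induction j with
    | zero => rfl
    | succ j ih =>
      rw [Function.iterate_succ_apply', ih]
      funext i
      unfold mdiff
      exact (hstep j i).symm
  have hpow' : ∀ j i, t j i ^ p = 1 := by
    intro j
    induction j with
    | zero => exact hpow
    | succ j ih =>
      intro i
      rw [hstep, mul_pow, inv_pow, ih, ih, inv_one, one_mul]
  rw [prod_range_eq_prod_mdiff p (t 0)]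
  apply Finset.prod_eq_one
  intro k hk
  rw [Finset.mem_range] at hk
  rw [hiter k]
  by_cases hkp : k = p - 1
  · rw [hkp, hengel, one_pow]
  · have h1 : k + 1 < p := by omega
    obtain ⟨c, hc⟩ := hp.dvd_choose_self (Nat.succ_ne_zero k) h1
    rw [hc, pow_mul, hpow', one_pow]

/-- product over a finite set stable under a fixed-point-free map of prime order `p`
whose orbit products are trivial -/
theorem prod_eq_one_of_free_perm {X T : Type*} [DecidableEq X] [CommMonoid T] (σ : X → X) (p : ℕ)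
    (hp : p.Prime) (hσp : ∀ d, σ^[p] d = d) (hfree : ∀ d, σ d ≠ d) (f : X → T) :
    ∀ (n : ℕ) (F : Finset X), F.card = n → (∀ d ∈ F, σ d ∈ F) →
      (∀ d ∈ F, ∏ i ∈ range p, f (σ^[i] d) = 1) → ∏ d ∈ F, f d = 1 := by
  intro n
  induction n using Nat.strong_induction_on with
  | _ n ih =>
  intro F hcard hF horb
  by_cases hFe : F = ∅
  · rw [hFe, Finset.prod_empty]
  obtain ⟨d, hd⟩ := Finset.nonempty_iff_ne_empty.mpr hFe
  have hFi : ∀ i : ℕ, ∀ e ∈ F, σ^[i] e ∈ F := by
    intro i
    induction i with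
    | zero => intro e he; exact he
    | succ i ih2 => intro e he; rw [Function.iterate_succ_apply']; exact hF _ (ih2 e he)
  -- minimal period is p
  have hper : ∀ e : X, Function.minimalPeriod σ e = p := by
    intro e
    have h1 : Function.minimalPeriod σ e ∣ p := (Function.IsPeriodicPt.minimalPeriod_dvd (hσp e))
    rcases (Nat.dvd_prime hp).mp h1 with h | h
    · exfalso
      exact hfree e (Function.minimalPeriod_eq_one_iff_isFixedPt.mp h)
    · exact h
  have hinj : Set.InjOn (fun i => σ^[i] d) (range p : Set ℕ) := by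
    intro i hi j hj hij
    have hi' : i < Function.minimalPeriod σ d := by rw [hper]; exact Finset.mem_range.mp hi
    have hj' : j < Function.minimalPeriod σ d := by rw [hper]; exact Finset.mem_range.mp hj
    exact Function.iterate_injOn_Iio_minimalPeriod hi' hj' hij
  set O : Finset X := (range p).image (fun i => σ^[i] d) with hO
  have hOF : O ⊆ F := by
    intro e he
    obtain ⟨i, -, rfl⟩ := Finset.mem_image.mp he
    exact hFi i d hd
  have hOprod : ∏ e ∈ O, f e = 1 := by
    rw [hO, Finset.prod_image hinj]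
    exact horb d hd
  -- σ-stability of O and of F \ O
  have hOσ : ∀ e, e ∈ O ↔ σ e ∈ O := by
    intro e
    constructor
    · intro he
      obtain ⟨i, hi, rfl⟩ := Finset.mem_image.mp he
      rw [Finset.mem_range] at hi
      by_cases hip : i + 1 = p
      · have : σ (σ^[i] d) = σ^[0] d := by
          have h := Function.iterate_succ_apply' σ i d
          rw [← h]
          show σ^[i + 1] d = d
          rw [hip, hσp]
        rw [this]
        exact Finset.mem_image.mpr ⟨0, Finset.mem_range.mpr hp.pos, rfl⟩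
      · have : σ (σ^[i] d) = σ^[i + 1] d := (Function.iterate_succ_apply' σ i d).symm
        rw [this]
        exact Finset.mem_image.mpr ⟨i + 1, Finset.mem_range.mpr (by omega), rfl⟩
    · intro he
      obtain ⟨i, hi, hie⟩ := Finset.mem_image.mp he
      -- e = σ^[p-1] (σ e)
      have h1 : e = σ^[p - 1] (σ e) := by
        have h := Function.iterate_succ_apply σ (p - 1) e
        rw [← h]
        show e = σ^[p - 1 + 1] e
        rw [Nat.sub_add_cancel hp.pos, hσp]
      rw [h1, ← hie, ← Function.iterate_add_apply]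
      -- σ^[(p-1+i)] d ∈ O
      have h2 : σ^[p - 1 + i] d = σ^[(p - 1 + i) % p] d := by
        conv_lhs => rw [← Nat.mod_add_div (p - 1 + i) p]
        rw [Function.iterate_add_apply]
        congr 1
        induction ((p - 1 + i) / p) with
        | zero => simp
        | succ c ihc =>
          rw [Nat.mul_succ, Function.iterate_add_apply, hσp, ihc]
      rw [h2]
      exact Finset.mem_image.mpr ⟨_, Finset.mem_range.mpr (Nat.mod_lt _ hp.pos), rfl⟩
  have hsplit : ∏ e ∈ F, f e = (∏ e ∈ F \ O, f e) * ∏ e ∈ O, f e :=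
    (Finset.prod_sdiff hOF).symm
  rw [hsplit, hOprod, mul_one]
  have hOne : O.Nonempty := ⟨d, Finset.mem_image.mpr ⟨0, Finset.mem_range.mpr hp.pos, rfl⟩⟩
  have hlt : (F \ O).card < n := by
    rw [← hcard]
    apply Finset.card_lt_card
    refine ⟨Finset.sdiff_subset, ?_⟩
    intro hsub
    have := hsub hd
    rw [Finset.mem_sdiff] at this
    exact this.2 (Finset.mem_image.mpr ⟨0, Finset.mem_range.mpr hp.pos, rfl⟩)
  apply ih _ hlt (F \ O) rfl
  · intro e he
    rw [Finset.mem_sdiff] at he ⊢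
    exact ⟨hF e he.1, fun h => he.2 ((hOσ e).mpr h)⟩
  · intro e he
    exact horb e (Finset.mem_sdiff.mp he).1


open Cfsg.Agent.S4216 (ext1 ext1_of_mem)


section ext1lemmas
variable {G : Type*} [Group G] {T : Type*} [CommGroup T] (H : Subgroup G) (ϕ : H →* T)

theorem ext1_one' : ext1 H ϕ 1 = 1 := by
  rw [ext1_of_mem H ϕ 1 H.one_mem]
  exact map_one ϕ

theorem ext1_mul' (x y : G) (hx : x ∈ H) (hy : y ∈ H) :
    ext1 H ϕ (x * y) = ext1 H ϕ x * ext1 H ϕ y := by
  rw [ext1_of_mem H ϕ _ (H.mul_mem hx hy), ext1_of_mem H ϕ _ hx, ext1_of_mem H ϕ _ hy, ← map_mul]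
  rfl

theorem ext1_inv' (x : G) (hx : x ∈ H) : ext1 H ϕ x⁻¹ = (ext1 H ϕ x)⁻¹ := by
  rw [ext1_of_mem H ϕ _ (H.inv_mem hx), ext1_of_mem H ϕ _ hx, ← map_inv]
  rfl

theorem ext1_conj' (x h : G) (hx : x ∈ H) (hh : h ∈ H) : ext1 H ϕ (h⁻¹ * x * h) = ext1 H ϕ x := by
  rw [ext1_mul' H ϕ _ _ (H.mul_mem (H.inv_mem hh) hx) hh, ext1_mul' H ϕ _ _ (H.inv_mem hh) hx,
    ext1_inv' H ϕ h hh]
  rw [mul_comm (ext1 H ϕ h)⁻¹, mul_assoc, inv_mul_cancel, mul_one]

end ext1lemmas

theorem exists_normalizing_elt {A : Type*} [Group A] [Finite A] (p : ℕ) [Fact p.Prime]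
    (hA : IsPGroup p A) (B Q : Subgroup A) [Q.Normal] (hQB : ¬ Q ≤ B) :
    ∃ n ∈ Q, n ∈ Subgroup.normalizer (B : Set A) ∧ n ∉ B ∧ n ^ p ∈ B := by
  have hp : p.Prime := Fact.out
  -- step 1: q ∈ Q normalizing B, not in B
  have h1 : ∃ q ∈ Q, q ∈ Subgroup.normalizer (B : Set A) ∧ q ∉ B := by
    set S : Subgroup A := Q ⊔ B with hS
    have hBS : B ≤ S := le_sup_right
    have hSp : IsPGroup p S := hA.to_subgroup S
    haveI : Group.IsNilpotent S := hSp.isNilpotent
    have hlt : B.subgroupOf S < ⊤ := by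
      rw [lt_top_iff_ne_top, Ne, Subgroup.subgroupOf_eq_top]
      intro h
      exact hQB (le_trans le_sup_left h)
    have hnc := Group.normalizerCondition_of_isNilpotent (G := S) (B.subgroupOf S) hlt
    obtain ⟨g, hgN, hgB⟩ := SetLike.exists_of_lt hnc
    rw [← Subgroup.subgroupOf_normalizer_eq hBS, Subgroup.mem_subgroupOf] at hgN
    rw [Subgroup.mem_subgroupOf] at hgB
    have hgS : (g : A) ∈ Q ⊔ B := g.2
    rw [Subgroup.mem_sup_of_normal_left] at hgS
    obtain ⟨q, hq, b, hb, hqb⟩ := hgS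
    refine ⟨q, hq, ?_, ?_⟩
    · have : q = (g : A) * b⁻¹ := by rw [← hqb]; group
      rw [this]
      exact Subgroup.mul_mem _ hgN (Subgroup.le_normalizer (B.inv_mem hb))
    · intro hqB
      apply hgB
      rw [← hqb]
      exact B.mul_mem hqB hb
  obtain ⟨q, hqQ, hqN, hqB⟩ := h1
  -- step 2: suitable p-power
  classical
  have hex : ∃ k : ℕ, q ^ p ^ k ∈ B := by
    obtain ⟨k, hk⟩ := hA q
    exact ⟨k, by rw [hk]; exact B.one_mem⟩
  set k₀ := Nat.find hex with hk₀
  have hk₀spec : q ^ p ^ k₀ ∈ B := Nat.find_spec hex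
  have hk₀pos : k₀ ≠ 0 := by
    intro h0
    rw [h0, pow_zero, pow_one] at hk₀spec
    exact hqB hk₀spec
  obtain ⟨k₁, hk₁⟩ := Nat.exists_eq_succ_of_ne_zero hk₀pos
  refine ⟨q ^ p ^ k₁, Q.pow_mem hqQ _, Subgroup.pow_mem _ hqN _, ?_, ?_⟩
  · exact Nat.find_min hex (by omega : k₁ < k₀)
  · rw [← pow_mul, ← pow_succ, ← Nat.succ_eq_add_one, ← hk₁]
    exact hk₀spec

/-- Local lemma for the Hall–Wielandt theorem. -/
theorem local_lemma {A : Type*} [Group A] [Finite A] (p : ℕ) [Fact p.Prime] (hA : IsPGroup p A)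
    (B Q : Subgroup A) [Q.Normal] (hQB : ¬ Q ≤ B) (u : A)
    {T : Type*} [CommGroup T] (τ : B →* T) [Fintype (A ⧸ B)]
    [DecidablePred fun d : A ⧸ B => u • d = d]
    (hEngel : ∀ y : A, ∀ z ∈ Q, (fun y : A => y⁻¹ * z⁻¹ * y * z)^[p - 1] y = 1)
    (hτp : ∀ a : A, ∀ h : a⁻¹ * u * a ∈ B, τ ⟨_, h⟩ ^ p = 1) :
    ∏ d ∈ (Finset.univ.filter (fun d : A ⧸ B => u • d = d)),
      ext1 B τ (d.out⁻¹ * u * d.out) = 1 := by
  classical
  have hp : p.Prime := Fact.out
  obtain ⟨n, hnQ, hnN, hnB, hnp⟩ := exists_normalizing_elt p hA B Q hQB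
  have hconjB : ∀ (i : ℕ) (y : A), y ∈ B → (n ^ i)⁻¹ * y * n ^ i ∈ B := by
    intro i y hy
    have h1 : (n ^ i)⁻¹ ∈ Subgroup.normalizer (B : Set A) :=
      Subgroup.inv_mem _ (Subgroup.pow_mem _ hnN i)
    have := (Subgroup.mem_normalizer_iff.mp h1 y).mp hy
    simpa using this
  let σ : A ⧸ B → A ⧸ B := Quotient.map' (fun a => a * n) (by
    intro a₁ a₂ h
    rw [QuotientGroup.leftRel_apply] at h ⊢
    have e : (a₁ * n)⁻¹ * (a₂ * n) = (n ^ 1)⁻¹ * (a₁⁻¹ * a₂) * n ^ 1 := by group
    rw [e]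
    exact hconjB 1 _ h)
  have hσmk : ∀ a : A, σ (QuotientGroup.mk a) = QuotientGroup.mk (a * n) := fun a => rfl
  have hσiter : ∀ (i : ℕ) (a : A), σ^[i] (QuotientGroup.mk a) = QuotientGroup.mk (a * n ^ i) := by
    intro i
    induction i with
    | zero => intro a; simp
    | succ i ih =>
      intro a
      rw [Function.iterate_succ_apply', ih, hσmk, pow_succ, mul_assoc]
  have hσp : ∀ d, σ^[p] d = d := by
    intro d
    obtain ⟨a, rfl⟩ := QuotientGroup.mk_surjective d
    rw [hσiter, QuotientGroup.eq]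
    have : (a * n ^ p)⁻¹ * a = (n ^ p)⁻¹ := by group
    rw [this]
    exact B.inv_mem hnp
  have hfree : ∀ d, σ d ≠ d := by
    intro d
    obtain ⟨a, rfl⟩ := QuotientGroup.mk_surjective d
    rw [hσmk, Ne, QuotientGroup.eq]
    have : (a * n)⁻¹ * a = n⁻¹ := by group
    rw [this]
    intro h
    exact hnB (by simpa using B.inv_mem h)
  have hcomm : ∀ d : A ⧸ B, u • σ d = σ (u • d) := by
    intro d
    obtain ⟨a, rfl⟩ := QuotientGroup.mk_surjective d
    rw [hσmk]
    change (QuotientGroup.mk (u * (a * n)) : A ⧸ B) = σ (QuotientGroup.mk (u * a))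
    rw [hσmk, mul_assoc]
  apply prod_eq_one_of_free_perm σ p hp hσp hfree _ _ _ rfl
  · intro d hd
    rw [Finset.mem_filter] at hd ⊢
    refine ⟨Finset.mem_univ _, ?_⟩
    rw [hcomm, hd.2]
  · intro d hd
    rw [Finset.mem_filter] at hd
    have hdu := hd.2
    set a := d.out with ha
    have hb : a⁻¹ * u * a ∈ B := Cfsg.Agent.S4216.out_conj_mem_of_fixed B u d hdu
    set b := a⁻¹ * u * a with hbdef
    -- the iterated commutators
    let D : A → A := fun y => y⁻¹ * n⁻¹ * y * n
    have hDB : ∀ j : ℕ, D^[j] b ∈ B := by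
      intro j
      induction j with
      | zero => exact hb
      | succ j ih =>
        rw [Function.iterate_succ_apply']
        have e : D (D^[j] b) = (D^[j] b)⁻¹ * ((n ^ 1)⁻¹ * D^[j] b * n ^ 1) := by
          simp only [D]; group
        rw [e]
        exact B.mul_mem (B.inv_mem ih) (hconjB 1 _ ih)
    let t : ℕ → ℕ → T := fun j i => ext1 B τ ((n ^ i)⁻¹ * D^[j] b * n ^ i)
    have hval : ∀ i : ℕ, ext1 B τ ((σ^[i] d).out⁻¹ * u * (σ^[i] d).out) = t 0 i := by
      intro i
      have hd' : d = QuotientGroup.mk a := (QuotientGroup.out_eq' d).symm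
      have h1 : σ^[i] d = QuotientGroup.mk (a * n ^ i) := by
        conv_lhs => rw [hd']
        exact hσiter i a
      obtain ⟨h, hh⟩ := QuotientGroup.mk_out_eq_mul B (a * n ^ i)
      rw [h1, hh]
      have e : (a * n ^ i * (h : A))⁻¹ * u * (a * n ^ i * (h : A)) =
          (h : A)⁻¹ * ((n ^ i)⁻¹ * b * n ^ i) * (h : A) := by
        rw [hbdef]; group
      rw [e, ext1_conj' B τ _ _ (hconjB i b hb) h.2]
      rfl
    have hprod : ∏ i ∈ range p, ext1 B τ ((σ^[i] d).out⁻¹ * u * (σ^[i] d).out) =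
        ∏ i ∈ range p, t 0 i := Finset.prod_congr rfl (fun i _ => hval i)
    rw [hprod]
    apply prod_eq_one_of_engel p hp t
    · intro j i
      simp only [t]
      have e : (n ^ i)⁻¹ * D^[j + 1] b * n ^ i =
          ((n ^ i)⁻¹ * D^[j] b * n ^ i)⁻¹ * ((n ^ (i + 1))⁻¹ * D^[j] b * n ^ (i + 1)) := by
        rw [Function.iterate_succ_apply']
        simp only [D]
        rw [pow_succ]; group
      rw [e, ext1_mul' B τ _ _ (B.inv_mem (hconjB i _ (hDB j))) (hconjB (i + 1) _ (hDB j)),
        ext1_inv' B τ _ (hconjB i _ (hDB j))]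
    · intro i
      simp only [t, Function.iterate_zero, id_eq]
      have e : (n ^ i)⁻¹ * b * n ^ i = (a * n ^ i)⁻¹ * u * (a * n ^ i) := by rw [hbdef]; group
      have hmem : (a * n ^ i)⁻¹ * u * (a * n ^ i) ∈ B := by rw [← e]; exact hconjB i b hb
      have := hτp (a * n ^ i) hmem
      rw [e, ext1_of_mem B τ _ hmem]
      exact this
    · intro i
      simp only [t]
      have : D^[p - 1] b = 1 := hEngel b n hnQ
      rw [this]
      have e : (n ^ i)⁻¹ * 1 * n ^ i = 1 := by group
      rw [e, ext1_one']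

end Cfsg.Agent.Lib.Helper22
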