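import Mathlib
import Cfsg.Agent.Lib.Helper21.GagDefs

/-! S4561 (Gagola), leaf Q6 (helper22): the primes of the order of the final quotient `H ⧸ kerLam D`. -/

set_option autoImplicit false

namespace Cfsg.Agent.Lib.Helper22.GagQ6

open RegularWreathProduct Cfsg.Agent.Lib.Helper21.Gag

universe u

section quot

variable {G : Type u} [Group G] {n : ℕ} {H : Type u} [Group H] {Z : Subgroup H}
  {lam : H → ℂˣ} {s : G → H} {m : ℕ}

/-- `lam` is a power map on `Z` -/
theorem lam_pow_eq (D : GDatum G n H Z lam s m) (z : H) (hz : z ∈ Z) (k : ℕ) :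
    lam (z ^ k) = lam z ^ k := by
  induction k with
  | zero => rw [pow_zero, pow_zero]; exact D.lam_one
  | succ k ih => rw [pow_succ, pow_succ, D.lam_mul _ (Z.pow_mem hz k) _ hz, ih]

/-- (Q6) primes of the order of the quotient. -/
theorem primes_card_quot (D : GDatum G n H Z lam s m) [Finite H] [hK : (kerLam D).Normal] :
    ∀ q : ℕ, q.Prime → (q ∣ Nat.card (H ⧸ kerLam D) ↔ q ∣ n) := by
  intro q hq
  constructor
  · intro h
    exact D.primes_card q hq (h.trans (Subgroup.card_quotient_dvd_card (kerLam D)))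
  · intro h
    obtain ⟨z, hz, hz1, hzq⟩ := D.witness q hq h
    have hne : (QuotientGroup.mk z : H ⧸ kerLam D) ≠ 1 := by
      intro h1
      rw [QuotientGroup.eq_one_iff] at h1
      exact hz1 h1.2
    have hpow : (QuotientGroup.mk z : H ⧸ kerLam D) ^ q = 1 := by
      rw [← QuotientGroup.mk_pow, QuotientGroup.eq_one_iff]
      exact ⟨Z.pow_mem hz q, by rw [lam_pow_eq D z hz q, hzq]⟩
    have : Fact q.Prime := ⟨hq⟩
    have hord : orderOf (QuotientGroup.mk z : H ⧸ kerLam D) = q := orderOf_eq_prime hpow hne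
    rw [← hord]
    exact orderOf_dvd_natCard _

end quot

end Cfsg.Agent.Lib.Helper22.GagQ6
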