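/-
helper22: S4395 leaf B1 (planner helper21, `notes/S4395_leaves.lean`): commutators and p-th powers die in (K,+)
-/
import Mathlib
import Cfsg.Prelude.Def_Transfer
import Cfsg.Agent.Lib.Helper21.SchDefs

set_option autoImplicit false
set_option linter.unusedSectionVars false
set_option linter.unusedVariables false
universe u v
open Cfsg
open Cfsg.Agent.Lib.Helper21.Sch

namespace Cfsg.Agent.Lib.Helper22.SchB1

section B
variable {p : ℕ} [Fact p.Prime] {K : Type*} [Field K] {ω : K} {X : Type*} [Group X]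

/-- **TAG B1** commutators and `p`-th powers die in `(K,+)`. -/
theorem Phi_le_ker [CharP K p] (𝔣 : Frame p ω X) :
    ∀ c ∈ 𝔣.Phi, ∃ hc : c ∈ 𝔣.P, 𝔣.π ⟨c, hc⟩ = 1 := by
  have hle : 𝔣.Phi ≤ (𝔣.π.ker).map 𝔣.P.subtype := by
    unfold Frame.Phi
    rw [Subgroup.closure_le]
    rintro c (⟨x, hx, x', hx', rfl⟩ | ⟨x, hx, rfl⟩)
    · refine ⟨⟨x, hx⟩ * ⟨x', hx'⟩ * ⟨x, hx⟩⁻¹ * ⟨x', hx'⟩⁻¹, ?_, rfl⟩
      rw [SetLike.mem_coe, MonoidHom.mem_ker, map_mul, map_mul, map_mul, map_inv, map_inv,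
        mul_comm (𝔣.π ⟨x, hx⟩), mul_inv_cancel_right, mul_inv_cancel]
    · refine ⟨⟨x, hx⟩ ^ p, ?_, rfl⟩
      rw [SetLike.mem_coe, MonoidHom.mem_ker, map_pow]
      apply Multiplicative.toAdd.injective
      rw [toAdd_pow, toAdd_one, nsmul_eq_mul, CharP.cast_eq_zero, zero_mul]
  intro c hc
  obtain ⟨z, hz, rfl⟩ := hle hc
  exact ⟨z.2, hz⟩

end B

end Cfsg.Agent.Lib.Helper22.SchB1
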