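/-
helper22: S4395 leaf B3 (planner helper21, `notes/S4395_leaves.lean`): ker π ≤ Φ for frames with P = [P,y] (norm map into the abelianization)
-/
import Mathlib
import Cfsg.Prelude.Def_Transfer
import Cfsg.Agent.Lib.Helper21.SchDefs

set_option autoImplicit false
set_option linter.unusedSectionVars false
set_option linter.unusedVariables false
universe u v
open Cfsg
open Cfsg.Agent.Lib.Helper21.Sch

namespace Cfsg.Agent.Lib.Helper22.SchB3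

section B
variable {p : ℕ} [Fact p.Prime] {K : Type*} [Field K] {ω : K} {X : Type*} [Group X]

/-- conjugation by `y` on `P` -/
def cy (𝔣 : Frame p ω X) : ↥𝔣.P →* ↥𝔣.P where
  toFun x := ⟨𝔣.y * (x : X) * 𝔣.y⁻¹, 𝔣.y_norm x x.2⟩
  map_one' := Subtype.ext (by simp)
  map_mul' a b := Subtype.ext (by
    show 𝔣.y * ((a : X) * (b : X)) * 𝔣.y⁻¹ = (𝔣.y * (a : X) * 𝔣.y⁻¹) * (𝔣.y * (b : X) * 𝔣.y⁻¹)
    group)

theorem cy_iterate_val (𝔣 : Frame p ω X) (i : ℕ) (x : ↥𝔣.P) :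
    ((((cy 𝔣)^[i]) x : ↥𝔣.P) : X) = 𝔣.y ^ i * (x : X) * (𝔣.y ^ i)⁻¹ := by
  induction i with
  | zero => simp
  | succ i ih =>
    rw [Function.iterate_succ_apply']
    show 𝔣.y * ((((cy 𝔣)^[i]) x : ↥𝔣.P) : X) * 𝔣.y⁻¹ = _
    rw [ih, pow_succ']
    group

/-- the norm map into the abelianization -/
noncomputable def nu (𝔣 : Frame p ω X) (n : ℕ) : ↥𝔣.P →* Abelianization ↥𝔣.P :=
  MonoidHom.mk' (fun x => ∏ i ∈ Finset.range n, Abelianization.of (((cy 𝔣)^[i]) x)) (by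
    intro a b
    rw [← Finset.prod_mul_distrib]
    refine Finset.prod_congr rfl (fun i _ => ?_)
    rw [iterate_map_mul, map_mul])

theorem nu_apply (𝔣 : Frame p ω X) (n : ℕ) (x : ↥𝔣.P) :
    nu 𝔣 n x = ∏ i ∈ Finset.range n, Abelianization.of (((cy 𝔣)^[i]) x) := rfl

theorem nu_cy (𝔣 : Frame p ω X) (n : ℕ) (hn : 𝔣.y ^ n = 1) (x : ↥𝔣.P) :
    nu 𝔣 n (cy 𝔣 x) = nu 𝔣 n x := by
  rw [nu_apply, nu_apply]
  have hper : ((cy 𝔣)^[n]) x = x := by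
    apply Subtype.ext
    rw [cy_iterate_val, hn]
    simp
  have h1 := Finset.prod_range_succ' (fun i => Abelianization.of (((cy 𝔣)^[i]) x)) n
  have h2 := Finset.prod_range_succ (fun i => Abelianization.of (((cy 𝔣)^[i]) x)) n
  rw [h1] at h2
  simp only [Function.iterate_zero, id_eq, hper] at h2
  have h3 := mul_right_cancel h2
  rw [← h3]
  refine Finset.prod_congr rfl (fun i _ => ?_)
  rw [Function.iterate_succ_apply]

theorem nu_of_fixed (𝔣 : Frame p ω X) (n : ℕ) (z : ↥𝔣.P) (hz : cy 𝔣 z = z) :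
    nu 𝔣 n z = Abelianization.of (z ^ n) := by
  rw [nu_apply, map_pow]
  have : ∀ i, ((cy 𝔣)^[i]) z = z := fun i => Function.iterate_fixed hz i
  simp only [this, Finset.prod_const, Finset.card_range]

/-- **TAG B3** `ker π ≤ Φ`: modulo `Φ` (normal in `P`, `y`-invariant, `P/Φ` abelian) the norm
`ν x = ∏_{i<n} y^i x y^-i` is multiplicative with `ν (y x y⁻¹) ≡ ν x`, so `ν` kills the generators `x'⁻¹ (y x' y⁻¹)`,
hence `P`; for `z ∈ ker π` (`y`-fixed) `ν z = z^n`, and `z^p = 1`. -/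
theorem isTight_of_isComm [Finite X] [CharP K p] (𝔣 : Frame p ω X) (n : ℕ) (hn : 𝔣.y ^ n = 1)
    (hnp : n.Coprime p) (hc : 𝔣.IsComm) : 𝔣.IsTight := by
  -- the norm map kills `P`
  have hkill : ∀ x : ↥𝔣.P, nu 𝔣 n x = 1 := by
    intro x
    have key : ∃ h : (x : X) ∈ 𝔣.P, nu 𝔣 n ⟨(x : X), h⟩ = 1 := by
      refine Subgroup.closure_induction
        (p := fun g _ => ∃ h : g ∈ 𝔣.P, nu 𝔣 n ⟨g, h⟩ = 1) ?_ ?_ ?_ ?_ (hc x x.2)
      · rintro g ⟨x', hx', rfl⟩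
        have hmem : x'⁻¹ * (𝔣.y * x' * 𝔣.y⁻¹) ∈ 𝔣.P :=
          𝔣.P.mul_mem (𝔣.P.inv_mem hx') (𝔣.y_norm x' hx')
        refine ⟨hmem, ?_⟩
        have e : (⟨x'⁻¹ * (𝔣.y * x' * 𝔣.y⁻¹), hmem⟩ : ↥𝔣.P) =
            (⟨x', hx'⟩ : ↥𝔣.P)⁻¹ * cy 𝔣 ⟨x', hx'⟩ := Subtype.ext rfl
        rw [e, map_mul, map_inv, nu_cy 𝔣 n hn, inv_mul_cancel]
      · exact ⟨𝔣.P.one_mem, map_one _⟩
      · rintro a b _ _ ⟨ha, ha1⟩ ⟨hb, hb1⟩
        refine ⟨𝔣.P.mul_mem ha hb, ?_⟩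
        have e : (⟨a * b, 𝔣.P.mul_mem ha hb⟩ : ↥𝔣.P) = ⟨a, ha⟩ * ⟨b, hb⟩ := Subtype.ext rfl
        rw [e, map_mul, ha1, hb1, one_mul]
      · rintro a _ ⟨ha, ha1⟩
        refine ⟨𝔣.P.inv_mem ha, ?_⟩
        have e : (⟨a⁻¹, 𝔣.P.inv_mem ha⟩ : ↥𝔣.P) = (⟨a, ha⟩ : ↥𝔣.P)⁻¹ := Subtype.ext rfl
        rw [e, map_inv, ha1, inv_one]
    obtain ⟨h, h1⟩ := key
    exact h1
  -- the commutator subgroup of `P` lies in `Φ`
  have hcomm : commutator ↥𝔣.P ≤ 𝔣.Phi.subgroupOf 𝔣.P := by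
    rw [commutator_def, Subgroup.commutator_le]
    intro a _ b _
    rw [Subgroup.mem_subgroupOf]
    exact Subgroup.subset_closure (Or.inl ⟨a, a.2, b, b.2, by
      rw [commutatorElement_def]; simp⟩)
  intro z hz
  have hfix : cy 𝔣 z = z := Subtype.ext (𝔣.ker_fixed z hz)
  have hzn : z ^ n ∈ 𝔣.Phi.subgroupOf 𝔣.P := by
    apply hcomm
    rw [← Abelianization.ker_of, MonoidHom.mem_ker, ← nu_of_fixed 𝔣 n z hfix]
    exact hkill z
  have hzp : z ^ p = 1 := 𝔣.ker_exp z hz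
  have hbez : (1 : ℤ) = (n : ℤ) * Nat.gcdA n p + (p : ℤ) * Nat.gcdB n p := by
    have := Nat.gcd_eq_gcd_ab n p
    rw [Nat.Coprime] at hnp
    rw [hnp] at this
    exact_mod_cast this
  have hz1 : z = (z ^ n) ^ (Nat.gcdA n p) := by
    conv_lhs => rw [← zpow_one z, hbez, zpow_add, zpow_mul, zpow_mul, zpow_natCast, zpow_natCast,
      hzp, one_zpow, mul_one]
  have hmem : z ∈ 𝔣.Phi.subgroupOf 𝔣.P := by
    rw [hz1]
    exact Subgroup.zpow_mem _ hzn _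
  exact Subgroup.mem_subgroupOf.mp hmem

end B

end Cfsg.Agent.Lib.Helper22.SchB3
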