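/-
helper22: S4395 leaf B4 (planner helper21, `notes/S4395_leaves.lean`): first isomorphism theorem, |P| ≤ |K| |Φ|
-/
import Mathlib
import Cfsg.Prelude.Def_Transfer
import Cfsg.Agent.Lib.Helper21.SchDefs

set_option autoImplicit false
set_option linter.unusedSectionVars false
set_option linter.unusedVariables false
universe u v
open Cfsg
open Cfsg.Agent.Lib.Helper21.Sch

namespace Cfsg.Agent.Lib.Helper22.SchB4

section B
variable {p : ℕ} [Fact p.Prime] {K : Type*} [Field K] {ω : K} {X : Type*} [Group X]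

/-- **TAG B4** first isomorphism theorem: `|P| = |K| |ker π| ≤ |K| |Φ|`. -/
theorem card_P_le [Finite X] [Finite K] (𝔣 : Frame p ω X) (a b : ℕ) (hK : Nat.card K = p ^ a)
    (ht : 𝔣.IsTight) (hPhi : Nat.card 𝔣.Phi ≤ p ^ b) : Nat.card 𝔣.P ≤ p ^ (a + b) := by
  have h1 : Nat.card 𝔣.π.ker * 𝔣.π.ker.index = Nat.card 𝔣.P := Subgroup.card_mul_index _
  have h2 : 𝔣.π.ker.index = Nat.card K := by
    rw [Subgroup.index_ker, MonoidHom.range_eq_top.mpr 𝔣.π_surj, Subgroup.card_top]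
    rfl
  have h3 : Nat.card 𝔣.π.ker ≤ Nat.card 𝔣.Phi := by
    let f : 𝔣.π.ker → 𝔣.Phi := fun z => ⟨((z : ↥𝔣.P) : X), ht z.1 z.2⟩
    apply Nat.card_le_card_of_injective f
    intro z z' hzz'
    have := congrArg Subtype.val hzz'
    exact Subtype.ext (Subtype.ext this)
  rw [← h1, h2, hK, pow_add, mul_comm]
  exact Nat.mul_le_mul_left _ (h3.trans hPhi)

end B

end Cfsg.Agent.Lib.Helper22.SchB4
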