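/-
helper22: S4395 leaf B5 (planner helper21, `notes/S4395_leaves.lean`): a subgroup of P mapping onto K is P (tight frames)
-/
import Mathlib
import Cfsg.Prelude.Def_Transfer
import Cfsg.Agent.Lib.Helper21.SchDefs

set_option autoImplicit false
set_option linter.unusedSectionVars false
set_option linter.unusedVariables false
universe u v
open Cfsg
open Cfsg.Agent.Lib.Helper21.Sch

namespace Cfsg.Agent.Lib.Helper22.SchB5

section B
variable {p : ℕ} [Fact p.Prime] {K : Type*} [Field K] {ω : K} {X : Type*} [Group X]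

theorem conj_central {G : Type*} [Group G] (a z u : G) (hz : ∀ g, z * g = g * z) :
    (a * z) * u * (a * z)⁻¹ = a * u * a⁻¹ := by
  have h : (a * z) * u * (a * z)⁻¹ = a * (z * u * z⁻¹) * a⁻¹ := by group
  rw [h, hz u, mul_inv_cancel_right]

theorem comm_central {G : Type*} [Group G] (a b z w : G) (hz : ∀ g, z * g = g * z)
    (hw : ∀ g, w * g = g * w) :
    (a * z) * (b * w) * (a * z)⁻¹ * (b * w)⁻¹ = a * b * a⁻¹ * b⁻¹ := by
  calc (a * z) * (b * w) * (a * z)⁻¹ * (b * w)⁻¹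
      = (a * (b * w) * a⁻¹) * (b * w)⁻¹ := by rw [conj_central a z (b * w) hz]
    _ = a * ((b * w) * a⁻¹ * (b * w)⁻¹) := by group
    _ = a * (b * a⁻¹ * b⁻¹) := by rw [conj_central b w a⁻¹ hw]
    _ = a * b * a⁻¹ * b⁻¹ := by group

/-- **TAG B5** a subgroup of `P` mapping onto `K` is `P` (for tight frames): `P = P₁ ker π`, commutators and `p`-th powers
of `P` are those of `P₁` (kernel central of exponent `p`), so `ker π ≤ Φ ≤ P₁`. -/
theorem eq_of_surj_of_isTight (𝔣 : Frame p ω X) (ht : 𝔣.IsTight) (P₁ : Subgroup X) (h₁ : P₁ ≤ 𝔣.P)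
    (hs : ∀ u : K, ∃ x, ∃ hx : x ∈ 𝔣.P, x ∈ P₁ ∧ Multiplicative.toAdd (𝔣.π ⟨x, hx⟩) = u) :
    P₁ = 𝔣.P := by
  -- decomposition `x = x₁ z`
  have hdec : ∀ x : ↥𝔣.P, ∃ x₁ z : ↥𝔣.P, (x₁ : X) ∈ P₁ ∧ 𝔣.π z = 1 ∧ x = x₁ * z := by
    intro x
    obtain ⟨x₁, hx₁P, hx₁, hπ⟩ := hs (Multiplicative.toAdd (𝔣.π x))
    have hπ' : 𝔣.π ⟨x₁, hx₁P⟩ = 𝔣.π x := Multiplicative.toAdd.injective hπ
    refine ⟨⟨x₁, hx₁P⟩, ⟨x₁, hx₁P⟩⁻¹ * x, hx₁, ?_, ?_⟩
    · rw [map_mul, map_inv, hπ', inv_mul_cancel]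
    · rw [mul_inv_cancel_left]
  have hPhi : 𝔣.Phi ≤ P₁ := by
    unfold Frame.Phi
    rw [Subgroup.closure_le]
    rintro c (⟨x, hx, x', hx', rfl⟩ | ⟨x, hx, rfl⟩)
    · obtain ⟨x₁, z, hx₁, hz, hxz⟩ := hdec ⟨x, hx⟩
      obtain ⟨x₁', z', hx₁', hz', hxz'⟩ := hdec ⟨x', hx'⟩
      have hc := comm_central x₁ x₁' z z' (𝔣.ker_central z hz) (𝔣.ker_central z' hz')
      rw [← hxz, ← hxz'] at hc
      have hc' := congrArg Subtype.val hc
      simp only [Subgroup.coe_mul, Subgroup.coe_inv] at hc'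
      rw [SetLike.mem_coe, hc']
      exact P₁.mul_mem (P₁.mul_mem (P₁.mul_mem hx₁ hx₁') (P₁.inv_mem hx₁)) (P₁.inv_mem hx₁')
    · obtain ⟨x₁, z, hx₁, hz, hxz⟩ := hdec ⟨x, hx⟩
      have hcomm : Commute x₁ z := (𝔣.ker_central z hz x₁).symm
      have hp : (⟨x, hx⟩ : ↥𝔣.P) ^ p = x₁ ^ p := by
        rw [hxz, hcomm.mul_pow, 𝔣.ker_exp z hz, mul_one]
      have hp' := congrArg Subtype.val hp
      simp only [Subgroup.coe_pow] at hp'
      rw [SetLike.mem_coe, hp']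
      exact P₁.pow_mem hx₁ p
  apply le_antisymm h₁
  intro x hx
  obtain ⟨x₁, z, hx₁, hz, hxz⟩ := hdec ⟨x, hx⟩
  have hx' := congrArg Subtype.val hxz
  simp only [Subgroup.coe_mul] at hx'
  rw [hx']
  exact P₁.mul_mem hx₁ (hPhi (ht z hz))

end B

end Cfsg.Agent.Lib.Helper22.SchB5
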