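/-
helper22: S4395 leaf CENT (planner helper21, `notes/S4395_leaves.lean`): elements of ker π are central in X = ⟨P, y⟩
-/
import Mathlib
import Cfsg.Prelude.Def_Transfer
import Cfsg.Agent.Lib.Helper21.SchDefs

set_option autoImplicit false
set_option linter.unusedSectionVars false
set_option linter.unusedVariables false
universe u v
open Cfsg
open Cfsg.Agent.Lib.Helper21.Sch

namespace Cfsg.Agent.Lib.Helper22.SchCENT

section B
variable {p : ℕ} [Fact p.Prime] {K : Type*} [Field K] {ω : K} {X : Type*} [Group X]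

/-- **TAG CENT** elements of `ker π` are central in `X = ⟨P, y⟩`. -/
theorem ker_le_center (𝔣 : Frame p ω X) (hgen : 𝔣.IsGen) :
    ∀ z : ↥𝔣.P, 𝔣.π z = 1 → (z : X) ∈ Subgroup.center X := by
  intro z hz
  have hle : Subgroup.closure ((𝔣.P : Set X) ∪ {𝔣.y}) ≤ Subgroup.centralizer {(z : X)} := by
    rw [Subgroup.closure_le]
    rintro g (hg | hg)
    · rw [SetLike.mem_coe, Subgroup.mem_centralizer_iff]
      intro h hh
      rw [Set.mem_singleton_iff] at hh
      subst hh
      have := congrArg Subtype.val (𝔣.ker_central z hz ⟨g, hg⟩)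
      simpa using this
    · rw [Set.mem_singleton_iff] at hg
      subst hg
      rw [SetLike.mem_coe, Subgroup.mem_centralizer_iff]
      intro h hh
      rw [Set.mem_singleton_iff] at hh
      subst hh
      have := 𝔣.ker_fixed z hz
      calc (z : X) * 𝔣.y = (𝔣.y * (z : X) * 𝔣.y⁻¹) * 𝔣.y := by rw [this]
        _ = 𝔣.y * (z : X) := by group
  rw [Subgroup.mem_center_iff]
  intro g
  have hg : g ∈ Subgroup.centralizer {(z : X)} := hle (by rw [hgen]; exact Subgroup.mem_top g)
  rw [Subgroup.mem_centralizer_iff] at hg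
  exact (hg _ rfl).symm

end B

end Cfsg.Agent.Lib.Helper22.SchCENT
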