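/-
helper22: S4395 leaf POW (planner helper21, `notes/S4395_leaves.lean`): change of generator y' = y^j'
-/
import Mathlib
import Cfsg.Prelude.Def_Transfer
import Cfsg.Agent.Lib.Helper21.SchDefs

set_option autoImplicit false
set_option linter.unusedSectionVars false
set_option linter.unusedVariables false
universe u v
open Cfsg
open Cfsg.Agent.Lib.Helper21.Sch

namespace Cfsg.Agent.Lib.Helper22.SchPOW

section B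
variable {p : ℕ} [Fact p.Prime] {K : Type*} [Field K] {ω : K} {X : Type*} [Group X]

theorem pow_norm (𝔣 : Frame p ω X) (m : ℕ) :
    ∀ x ∈ 𝔣.P, 𝔣.y ^ m * x * (𝔣.y ^ m)⁻¹ ∈ 𝔣.P := by
  induction m with
  | zero =>
    intro x hx
    simpa using hx
  | succ m ih =>
    intro x hx
    have h : 𝔣.y ^ (m + 1) * x * (𝔣.y ^ (m + 1))⁻¹ =
        𝔣.y * (𝔣.y ^ m * x * (𝔣.y ^ m)⁻¹) * 𝔣.y⁻¹ := by
      rw [pow_succ']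
      group
    rw [h]
    exact 𝔣.y_norm _ (ih x hx)

theorem pow_conj (𝔣 : Frame p ω X) (m : ℕ) (x : X) (hx : x ∈ 𝔣.P) :
    Multiplicative.toAdd (𝔣.π ⟨𝔣.y ^ m * x * (𝔣.y ^ m)⁻¹, pow_norm 𝔣 m x hx⟩) =
      ω ^ m * Multiplicative.toAdd (𝔣.π ⟨x, hx⟩) := by
  induction m with
  | zero =>
    have e : (⟨𝔣.y ^ 0 * x * (𝔣.y ^ 0)⁻¹, pow_norm 𝔣 0 x hx⟩ : ↥𝔣.P) = ⟨x, hx⟩ :=
      Subtype.ext (by simp)
    rw [e, pow_zero, one_mul]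
  | succ m ih =>
    have e : (⟨𝔣.y ^ (m + 1) * x * (𝔣.y ^ (m + 1))⁻¹, pow_norm 𝔣 (m + 1) x hx⟩ : ↥𝔣.P) =
        ⟨𝔣.y * (𝔣.y ^ m * x * (𝔣.y ^ m)⁻¹) * 𝔣.y⁻¹, 𝔣.y_norm _ (pow_norm 𝔣 m x hx)⟩ :=
      Subtype.ext (by
        show 𝔣.y ^ (m + 1) * x * (𝔣.y ^ (m + 1))⁻¹ = 𝔣.y * (𝔣.y ^ m * x * (𝔣.y ^ m)⁻¹) * 𝔣.y⁻¹
        rw [pow_succ']
        group)
    rw [e, 𝔣.π_conj _ (pow_norm 𝔣 m x hx), ih, pow_succ']
    ring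

theorem pow_fixed (𝔣 : Frame p ω X) (m : ℕ) (z : ↥𝔣.P) (hz : 𝔣.π z = 1) :
    𝔣.y ^ m * (z : X) * (𝔣.y ^ m)⁻¹ = z := by
  induction m with
  | zero => simp
  | succ m ih =>
    have h : 𝔣.y ^ (m + 1) * (z : X) * (𝔣.y ^ (m + 1))⁻¹ =
        𝔣.y * (𝔣.y ^ m * (z : X) * (𝔣.y ^ m)⁻¹) * 𝔣.y⁻¹ := by
      rw [pow_succ']
      group
    rw [h, ih, 𝔣.ker_fixed z hz]

/-- **TAG POW** change of generator: same `P`, same `π`, `y' = y^j'`. -/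
theorem exists_frame_pow (j j' : ℕ) (𝔣 : Frame p (ω ^ j) X) (h : (ω ^ j) ^ j' = ω) :
    ∃ 𝔣' : Frame p ω X, 𝔣'.P = 𝔣.P ∧ 𝔣'.y = 𝔣.y ^ j' ∧ (𝔣.IsTight → 𝔣'.IsTight) := by
  refine ⟨{ P := 𝔣.P, y := 𝔣.y ^ j', π := 𝔣.π, y_norm := pow_norm 𝔣 j', π_conj := ?_,
            π_surj := 𝔣.π_surj, ker_central := 𝔣.ker_central, ker_exp := 𝔣.ker_exp,
            ker_fixed := pow_fixed 𝔣 j' }, rfl, rfl, ?_⟩
  · intro x hx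
    rw [pow_conj 𝔣 j' x hx, h]
  · intro ht
    exact ht

end B

end Cfsg.Agent.Lib.Helper22.SchPOW
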