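import Mathlib

/-! Traces of products of conjugates in `SL_n(F)`: existence lemmas for vectors and functionals,
the elements `1 + s • v φ` of `SL_n`, and the relation `RR Y C` (all `SL_n`-conjugates of `Y` are
trace-orthogonal to `C`). -/

set_option autoImplicit false

namespace Cfsg.Agent.Lib.Helper22.AHTrace

open Matrix

variable {F : Type*} [Field F] {n : Type*} [Fintype n] [DecidableEq n]

/-- If `a` is not a multiple of `b`, some functional kills `b` but not `a`. -/
theorem exists_dot_zero_ne (a b : n → F) (h : ∀ c : F, a ≠ c • b) :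
    ∃ ξ : n → F, ξ ⬝ᵥ b = 0 ∧ ξ ⬝ᵥ a ≠ 0 := by
  by_cases hb : b = 0
  · have ha : a ≠ 0 := by
      intro h0
      exact h 0 (by rw [h0, zero_smul])
    obtain ⟨i, hi⟩ := Function.ne_iff.mp ha
    refine ⟨Pi.single i 1, by rw [hb, dotProduct_zero], ?_⟩
    rw [single_one_dotProduct]
    exact hi
  · obtain ⟨j, hj⟩ := Function.ne_iff.mp hb
    have hj' : b j ≠ 0 := hj
    have hex : ∃ i, a i * b j - a j * b i ≠ 0 := by
      by_contra hcon
      push_neg at hcon
      apply h (a j / b j)
      funext i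
      have := hcon i
      simp only [Pi.smul_apply, smul_eq_mul]
      field_simp
      linear_combination this
    obtain ⟨i, hi⟩ := hex
    refine ⟨b j • Pi.single i 1 - b i • Pi.single j 1, ?_, ?_⟩
    · rw [sub_dotProduct, smul_dotProduct, smul_dotProduct, single_one_dotProduct,
        single_one_dotProduct]
      simp only [smul_eq_mul]
      ring
    · rw [sub_dotProduct, smul_dotProduct, smul_dotProduct, single_one_dotProduct,
        single_one_dotProduct]
      simp only [smul_eq_mul]
      intro h0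
      apply hi
      linear_combination h0

/-- In dimension at least `3` two functionals have a common nonzero kernel vector. -/
theorem exists_ne_zero_dot_zero (hn : 2 < Fintype.card n) (χ₁ χ₂ : n → F) :
    ∃ x : n → F, x ≠ 0 ∧ χ₁ ⬝ᵥ x = 0 ∧ χ₂ ⬝ᵥ x = 0 := by
  let L : (n → F) →ₗ[F] (Fin 2 → F) :=
    { toFun := fun x => ![χ₁ ⬝ᵥ x, χ₂ ⬝ᵥ x]
      map_add' := by
        intro x y
        ext i
        fin_cases i <;> simp [dotProduct_add]
      map_smul' := by
        intro c x
        ext i
        fin_cases i <;> simp [dotProduct_smul] }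
  have hninj : ¬ Function.Injective L := by
    intro hinj
    have := LinearMap.finrank_le_finrank_of_injective hinj
    rw [Module.finrank_fintype_fun_eq_card, Module.finrank_fintype_fun_eq_card,
      Fintype.card_fin] at this
    omega
  have hker : LinearMap.ker L ≠ ⊥ := by
    intro hk
    exact hninj (LinearMap.ker_eq_bot.mp hk)
  obtain ⟨x, hx, hx0⟩ := Submodule.exists_mem_ne_zero_of_ne_bot hker
  refine ⟨x, hx0, ?_, ?_⟩
  · have := congrFun (LinearMap.mem_ker.mp hx) 0
    simpa [L] using this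
  · have := congrFun (LinearMap.mem_ker.mp hx) 1
    simpa [L] using this

/-- A matrix that maps every vector to a multiple of itself is scalar. -/
theorem exists_mulVec_ne_smul [Nonempty n] (X : Matrix n n F) (hX : ∀ c : F, X ≠ scalar n c) :
    ∃ v : n → F, ∀ c : F, X *ᵥ v ≠ c • v := by
  by_contra hcon
  push_neg at hcon
  choose c hc using fun i : n => hcon (Pi.single i 1)
  have hXe : ∀ k i, X k i = c i * (if k = i then 1 else 0) := by
    intro k i
    have := congrFun (hc i) k
    rw [mulVec_single_one] at this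
    simp only [col_apply, Pi.smul_apply, smul_eq_mul, Pi.single_apply] at this
    exact this
  have hcc : ∀ i j, i ≠ j → c i = c j := by
    intro i j hij
    obtain ⟨c', hc'⟩ := hcon (Pi.single i 1 + Pi.single j 1)
    have h1 := congrFun hc' i
    have h2 := congrFun hc' j
    rw [mulVec_add, mulVec_single_one, mulVec_single_one] at h1 h2
    simp only [Pi.add_apply, col_apply, Pi.smul_apply, smul_eq_mul, Pi.single_apply,
      hXe] at h1 h2
    simp [hij, hij.symm] at h1 h2
    rw [h1, h2]
  obtain ⟨i0⟩ := ‹Nonempty n›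
  apply hX (c i0)
  ext k l
  rw [hXe k l, scalar_apply, diagonal_apply]
  by_cases hkl : k = l
  · subst hkl
    by_cases hk : k = i0
    · subst hk; simp
    · simp [hcc k i0 hk]
  · simp [hkl]

/-- The element `1 + s • v φ` of `SL_n(F)` for `φ ⬝ᵥ v = 0`. -/
noncomputable def tv (v φ : n → F) (h : φ ⬝ᵥ v = 0) (s : F) : Matrix.SpecialLinearGroup n F :=
  ⟨1 + s • vecMulVec v φ, by
    rw [← smul_vecMulVec, vecMulVec_eq Unit, det_one_add_replicateCol_mul_replicateRow,
      dotProduct_smul, h, smul_zero, add_zero]⟩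

theorem coe_tv (v φ : n → F) (h : φ ⬝ᵥ v = 0) (s : F) :
    ((tv v φ h s : Matrix.SpecialLinearGroup n F) : Matrix n n F) = 1 + s • vecMulVec v φ := rfl

theorem vecMulVec_sq_zero (v φ : n → F) (h : φ ⬝ᵥ v = 0) :
    vecMulVec v φ * vecMulVec v φ = 0 := by
  rw [vecMulVec_mul_vecMulVec, h, zero_smul, vecMulVec_zero]

theorem tv_mul_neg (v φ : n → F) (h : φ ⬝ᵥ v = 0) (s : F) :
    tv v φ h s * tv v φ h (-s) = 1 := by
  apply Subtype.ext
  rw [Matrix.SpecialLinearGroup.coe_mul, coe_tv, coe_tv, Matrix.SpecialLinearGroup.coe_one]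
  have h2 := vecMulVec_sq_zero v φ h
  rw [add_mul, mul_add, mul_add, one_mul, mul_one, one_mul, smul_mul_smul_comm, h2, neg_smul]
  simp

theorem tv_inv (v φ : n → F) (h : φ ⬝ᵥ v = 0) (s : F) :
    (tv v φ h s)⁻¹ = tv v φ h (-s) :=
  inv_eq_of_mul_eq_one_right (tv_mul_neg v φ h s)

theorem coe_tv_inv (v φ : n → F) (h : φ ⬝ᵥ v = 0) (s : F) :
    (((tv v φ h s)⁻¹ : Matrix.SpecialLinearGroup n F) : Matrix n n F) = 1 - s • vecMulVec v φ := by
  rw [tv_inv, coe_tv, neg_smul, sub_eq_add_neg]

/-- `RR Y C`: every `SL_n`-conjugate of `Y` is trace-orthogonal to `C`. -/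
def RR (Y C : Matrix n n F) : Prop :=
  ∀ g : Matrix.SpecialLinearGroup n F,
    trace (((g⁻¹ : Matrix.SpecialLinearGroup n F) : Matrix n n F) * Y * (g : Matrix n n F) * C) = 0

theorem RR.sub {Y₁ Y₂ C : Matrix n n F} (h₁ : RR Y₁ C) (h₂ : RR Y₂ C) : RR (Y₁ - Y₂) C := by
  intro g
  rw [mul_sub, sub_mul, sub_mul, trace_sub, h₁ g, h₂ g, sub_zero]

theorem RR.smul {Y C : Matrix n n F} (h : RR Y C) (c : F) : RR (c • Y) C := by
  intro g
  rw [mul_smul_comm, smul_mul_assoc, smul_mul_assoc, trace_smul, h g, smul_zero]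

theorem RR.neg {Y C : Matrix n n F} (h : RR Y C) : RR (-Y) C := by
  have := h.smul (-1)
  simpa using this

theorem coe_inv_mul_coe (g : Matrix.SpecialLinearGroup n F) :
    ((g⁻¹ : Matrix.SpecialLinearGroup n F) : Matrix n n F) * (g : Matrix n n F) = 1 := by
  rw [← Matrix.SpecialLinearGroup.coe_mul, inv_mul_cancel, Matrix.SpecialLinearGroup.coe_one]

theorem coe_mul_coe_inv (g : Matrix.SpecialLinearGroup n F) :
    (g : Matrix n n F) * ((g⁻¹ : Matrix.SpecialLinearGroup n F) : Matrix n n F) = 1 := by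
  rw [← Matrix.SpecialLinearGroup.coe_mul, mul_inv_cancel, Matrix.SpecialLinearGroup.coe_one]

theorem RR.conj {Y C : Matrix n n F} (h : RR Y C) (k : Matrix.SpecialLinearGroup n F) :
    RR (((k⁻¹ : Matrix.SpecialLinearGroup n F) : Matrix n n F) * Y * (k : Matrix n n F)) C := by
  intro g
  have := h (k * g)
  rw [_root_.mul_inv_rev, Matrix.SpecialLinearGroup.coe_mul, Matrix.SpecialLinearGroup.coe_mul] at this
  rw [← this]
  congr 1
  simp only [Matrix.mul_assoc]

theorem RR.symm {Y C : Matrix n n F} (h : RR Y C) : RR C Y := by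
  intro g
  have := h g⁻¹
  rw [inv_inv] at this
  rw [← this]
  rw [trace_mul_comm, ← Matrix.mul_assoc, ← Matrix.mul_assoc, trace_mul_cycle,
    ← Matrix.mul_assoc]

end Cfsg.Agent.Lib.Helper22.AHTrace
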