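import Cfsg.Agent.Lib.Helper22.AHTraceA

/-! If all `SL_n`-conjugates of a non-scalar matrix `X` are trace-orthogonal to `C` (and `n ≥ 3`),
then `C` is scalar. -/

set_option autoImplicit false

namespace Cfsg.Agent.Lib.Helper22.AHTrace

open Matrix

variable {F : Type*} [Field F] {n : Type*} [Fintype n] [DecidableEq n]

/-- Abstract double-commutator step. -/
theorem RR.step {X C N N' : Matrix n n F} (g g' : Matrix.SpecialLinearGroup n F)
    (hg : (g : Matrix n n F) = 1 + N)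
    (hgi : ((g⁻¹ : Matrix.SpecialLinearGroup n F) : Matrix n n F) = 1 - N)
    (hg' : (g' : Matrix n n F) = 1 + N')
    (hgi' : ((g'⁻¹ : Matrix.SpecialLinearGroup n F) : Matrix n n F) = 1 - N')
    (h1 : N * N' = 0) (h2 : N' * N = 0) (h3 : N' * X * N = 0) (h4 : N * X * N' = N')
    (hR : RR X C) : RR N' C := by
  set Y : Matrix n n F := X * N - N * X - N * X * N with hY
  have hRY : RR Y C := by
    have h := (hR.conj g).sub hR
    have e : ((g⁻¹ : Matrix.SpecialLinearGroup n F) : Matrix n n F) * X * (g : Matrix n n F) - X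
        = Y := by
      rw [hg, hgi, hY]
      noncomm_ring
    rwa [e] at h
  have hYN : Y * N' = -N' := by
    rw [hY, sub_mul, sub_mul, Matrix.mul_assoc X N N', h1, Matrix.mul_zero,
      Matrix.mul_assoc (N * X) N N', h1, Matrix.mul_zero, h4]
    simp
  have hNY : N' * Y = 0 := by
    rw [hY, mul_sub, mul_sub, ← Matrix.mul_assoc N' X N, h3, ← Matrix.mul_assoc N' N X, h2,
      ← Matrix.mul_assoc N' (N * X) N, ← Matrix.mul_assoc N' N X, h2]
    simp
  have hRY' : RR (-N') C := by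
    have h := (hRY.conj g').sub hRY
    have e : ((g'⁻¹ : Matrix.SpecialLinearGroup n F) : Matrix n n F) * Y * (g' : Matrix n n F) - Y
        = -N' := by
      rw [hg', hgi']
      have : (1 - N') * Y * (1 + N') - Y = Y * N' - N' * Y - N' * Y * N' := by noncomm_ring
      rw [this, hYN, hNY]
      simp
    rwa [e] at h
  simpa using hRY'.neg

/-- The vector form of the double-commutator step. -/
theorem RR.step_vec {X C : Matrix n n F} (v φ₀ φ' : n → F) (h0 : φ₀ ⬝ᵥ v = 0)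
    (h0' : φ' ⬝ᵥ v = 0) (h1 : φ₀ ⬝ᵥ (X *ᵥ v) = 1) (h1' : φ' ⬝ᵥ (X *ᵥ v) = 0)
    (hR : RR X C) : RR (vecMulVec v φ') C := by
  refine RR.step (N := vecMulVec v φ₀) (tv v φ₀ h0 1) (tv v φ' h0' 1) ?_ ?_ ?_ ?_ ?_ ?_ ?_ ?_ hR
  · rw [coe_tv, one_smul]
  · rw [coe_tv_inv, one_smul]
  · rw [coe_tv, one_smul]
  · rw [coe_tv_inv, one_smul]
  · rw [vecMulVec_mul_vecMulVec, h0, zero_smul, vecMulVec_zero]
  · rw [vecMulVec_mul_vecMulVec, h0', zero_smul, vecMulVec_zero]
  · rw [vecMulVec_mul, vecMulVec_mul_vecMulVec, ← dotProduct_mulVec, h1', zero_smul,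
      vecMulVec_zero]
  · rw [vecMulVec_mul, vecMulVec_mul_vecMulVec, ← dotProduct_mulVec, h1, one_smul]

/-- Conjugating a rank-one matrix. -/
theorem conj_vecMulVec (g : Matrix.SpecialLinearGroup n F) (u χ : n → F) :
    ((g⁻¹ : Matrix.SpecialLinearGroup n F) : Matrix n n F) * vecMulVec u χ * (g : Matrix n n F)
      = vecMulVec (((g⁻¹ : Matrix.SpecialLinearGroup n F) : Matrix n n F) *ᵥ u)
          (χ ᵥ* (g : Matrix n n F)) := by
  rw [mul_vecMulVec, vecMulVec_mul]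

theorem tv_inv_mulVec (x ξ : n → F) (h : ξ ⬝ᵥ x = 0) (u : n → F) :
    (((tv x ξ h 1)⁻¹ : Matrix.SpecialLinearGroup n F) : Matrix n n F) *ᵥ u
      = u - (ξ ⬝ᵥ u) • x := by
  rw [coe_tv_inv, one_smul, sub_mulVec, one_mulVec, vecMulVec_mulVec, op_smul_eq_smul]

theorem vecMul_tv (x ξ : n → F) (h : ξ ⬝ᵥ x = 0) (χ : n → F) :
    χ ᵥ* ((tv x ξ h 1 : Matrix.SpecialLinearGroup n F) : Matrix n n F)
      = χ + (χ ⬝ᵥ x) • ξ := by
  rw [coe_tv, one_smul, vecMul_add, vecMul_one, vecMul_vecMulVec]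

/-- Moving the vector inside the kernel of the functional. -/
theorem RR.move_vec {C : Matrix n n F} {u χ : n → F} (hP : RR (vecMulVec u χ) C) (hu : u ≠ 0)
    (x : n → F) (hx : χ ⬝ᵥ x = 0) : RR (vecMulVec x χ) C := by
  by_cases hux : ∃ c : F, u = c • x
  · obtain ⟨c, hc⟩ := hux
    have hc0 : c ≠ 0 := by
      intro h0
      apply hu
      rw [hc, h0, zero_smul]
    have := hP.smul c⁻¹
    rw [← smul_vecMulVec, hc, smul_smul, inv_mul_cancel₀ hc0, one_smul] at this
    exact this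
  · push_neg at hux
    obtain ⟨ξ, hξx, hξu⟩ := exists_dot_zero_ne u x hux
    have h1 := hP.conj (tv x ξ hξx 1)
    rw [conj_vecMulVec, tv_inv_mulVec, vecMul_tv, hx, zero_smul, add_zero] at h1
    have h2 := hP.sub h1
    rw [← sub_vecMulVec, sub_sub_cancel, smul_vecMulVec] at h2
    have h3 := h2.smul (ξ ⬝ᵥ u)⁻¹
    rwa [smul_smul, inv_mul_cancel₀ hξu, one_smul] at h3

/-- Moving the functional inside the annihilator of the vector. -/
theorem RR.move_fun {C : Matrix n n F} {u χ : n → F} (hP : RR (vecMulVec u χ) C) (hχ : χ ≠ 0)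
    (ξ : n → F) (hξ : ξ ⬝ᵥ u = 0) : RR (vecMulVec u ξ) C := by
  by_cases hχξ : ∃ c : F, χ = c • ξ
  · obtain ⟨c, hc⟩ := hχξ
    have hc0 : c ≠ 0 := by
      intro h0
      apply hχ
      rw [hc, h0, zero_smul]
    have := hP.smul c⁻¹
    rw [← vecMulVec_smul, hc, smul_smul, inv_mul_cancel₀ hc0, one_smul] at this
    exact this
  · push_neg at hχξ
    obtain ⟨x, hxξ, hxχ⟩ := exists_dot_zero_ne χ ξ hχξ
    have hξx : ξ ⬝ᵥ x = 0 := by rw [dotProduct_comm]; exact hxξ
    have hχx : χ ⬝ᵥ x ≠ 0 := by rw [dotProduct_comm]; exact hxχ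
    have h1 := hP.conj (tv x ξ hξx 1)
    rw [conj_vecMulVec, tv_inv_mulVec, vecMul_tv, hξ, zero_smul, sub_zero] at h1
    have h2 := h1.sub hP
    rw [← vecMulVec_sub, add_sub_cancel_left, vecMulVec_smul] at h2
    have h3 := h2.smul (χ ⬝ᵥ x)⁻¹
    rwa [smul_smul, inv_mul_cancel₀ hχx, one_smul] at h3

/-- From one rank-one nilpotent to all of them. -/
theorem RR.all_pairs (hn : 2 < Fintype.card n) {C : Matrix n n F} {v φ : n → F}
    (hP : RR (vecMulVec v φ) C) (hv : v ≠ 0) (hφ : φ ≠ 0) (y ξ : n → F) (hy : ξ ⬝ᵥ y = 0) :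
    RR (vecMulVec y ξ) C := by
  obtain ⟨x, hx0, hx1, hx2⟩ := exists_ne_zero_dot_zero hn φ ξ
  have h1 := hP.move_vec hv x hx1
  have h2 := h1.move_fun hφ ξ hx2
  exact h2.move_vec hx0 y hy

theorem trace_vecMulVec_mul (y ξ : n → F) (C : Matrix n n F) :
    trace (vecMulVec y ξ * C) = ξ ⬝ᵥ (C *ᵥ y) := by
  rw [vecMulVec_mul, trace_vecMulVec, dotProduct_comm, dotProduct_mulVec]

theorem RR.apply_one {Y C : Matrix n n F} (h : RR Y C) : trace (Y * C) = 0 := by
  have := h 1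
  simpa using this

/-- If all `SL_n`-conjugates of a non-scalar `X` are trace-orthogonal to `C`, then `C` is scalar
(`n ≥ 3`). -/
theorem RR.scalar (hn : 2 < Fintype.card n) {X C : Matrix n n F} (hR : RR X C)
    (hX : ∀ c : F, X ≠ scalar n c) : ∃ c : F, C = scalar n c := by
  haveI : Nonempty n := by
    rw [← Fintype.card_pos_iff]; omega
  obtain ⟨v, hv⟩ := exists_mulVec_ne_smul X hX
  have hv0 : v ≠ 0 := by
    intro h0
    apply hv 0
    rw [h0, mulVec_zero, smul_zero]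
  -- φ₀ kills `v` and is `1` on `X v`
  obtain ⟨ξ, hξv, hξX⟩ := exists_dot_zero_ne (X *ᵥ v) v hv
  set φ₀ : n → F := (ξ ⬝ᵥ (X *ᵥ v))⁻¹ • ξ with hφ₀
  have h0 : φ₀ ⬝ᵥ v = 0 := by rw [hφ₀, smul_dotProduct, hξv, smul_zero]
  have h1 : φ₀ ⬝ᵥ (X *ᵥ v) = 1 := by
    rw [hφ₀, smul_dotProduct, smul_eq_mul, inv_mul_cancel₀ hξX]
  obtain ⟨φ', hφ'0, hφ'v, hφ'X⟩ := exists_ne_zero_dot_zero hn v (X *ᵥ v)
  rw [dotProduct_comm] at hφ'v hφ'X
  have hP : RR (vecMulVec v φ') C := RR.step_vec v φ₀ φ' h0 hφ'v h1 hφ'X hR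
  have hall := fun y ξ hy => RR.all_pairs hn hP hv0 hφ'0 y ξ hy
  -- off-diagonal entries vanish
  have hoff : ∀ i j : n, i ≠ j → C j i = 0 := by
    intro i j hij
    have h := (hall (Pi.single i 1) (Pi.single j 1)
      (by rw [single_one_dotProduct, Pi.single_apply, if_neg hij.symm])).apply_one
    rw [trace_vecMulVec_mul, single_one_dotProduct, mulVec_single_one] at h
    exact h
  have hdiag : ∀ i j : n, i ≠ j → C i i = C j j := by
    intro i j hij
    have h := (hall (Pi.single i 1 + Pi.single j 1) (Pi.single i 1 - Pi.single j 1)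
      (by
        rw [sub_dotProduct, single_one_dotProduct, single_one_dotProduct]
        simp [hij, hij.symm])).apply_one
    rw [trace_vecMulVec_mul, sub_dotProduct, single_one_dotProduct, single_one_dotProduct,
      mulVec_add, mulVec_single_one, mulVec_single_one] at h
    simp only [Pi.add_apply, col_apply] at h
    rw [hoff j i hij.symm, hoff i j hij] at h
    linear_combination h
  obtain ⟨i0⟩ := ‹Nonempty n›
  refine ⟨C i0 i0, ?_⟩
  ext k l
  rw [scalar_apply, diagonal_apply]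
  by_cases hkl : k = l
  · subst hkl
    rw [if_pos rfl]
    by_cases hk : k = i0
    · rw [hk]
    · exact hdiag k i0 hk
  · rw [if_neg hkl]
    exact hoff l k (Ne.symm hkl)

end Cfsg.Agent.Lib.Helper22.AHTrace
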