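import Cfsg.Agent.Lib.Helper22.AHTraceB

/-! For non-scalar `A, B ∈ SL_n(F)`, `n ≥ 3`, the traces `tr (g⁻¹ A g B)` take the value `0` and a
nonzero value. -/

set_option autoImplicit false

namespace Cfsg.Agent.Lib.Helper22.AHTrace

open Matrix

variable {F : Type*} [Field F] {n : Type*} [Fintype n] [DecidableEq n]

/-- The trace along the one-parameter family `1 + s • v φ` is affine when `φ (B v) = 0`. -/
theorem trace_tv_conj (v φ : n → F) (h : φ ⬝ᵥ v = 0) (A' B : Matrix n n F)
    (hB : φ ⬝ᵥ (B *ᵥ v) = 0) (s : F) :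
    trace ((((tv v φ h s)⁻¹ : Matrix.SpecialLinearGroup n F) : Matrix n n F) * A'
        * ((tv v φ h s : Matrix.SpecialLinearGroup n F) : Matrix n n F) * B)
      = trace (A' * B) + s * trace (A' * (vecMulVec v φ * B - B * vecMulVec v φ)) := by
  rw [coe_tv_inv, coe_tv]
  set N := vecMulVec v φ with hN
  have hNBN : N * B * N = 0 := by
    rw [hN, vecMulVec_mul, vecMulVec_mul_vecMulVec, ← dotProduct_mulVec, hB, zero_smul,
      vecMulVec_zero]
  have e : (1 - s • N) * A' * (1 + s • N) * B
      = A' * B + s • (A' * N * B) - s • (N * A' * B) - (s * s) • (N * A' * N * B) := by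
    simp only [sub_mul, mul_sub, add_mul, mul_add, one_mul, mul_one, smul_mul_assoc,
      mul_smul_comm, smul_sub, smul_add, smul_smul, Matrix.mul_assoc]
    abel
  rw [e, trace_sub, trace_sub, trace_add, trace_smul, trace_smul, trace_smul]
  have t1 : trace (N * A' * B) = trace (A' * (B * N)) := by
    rw [Matrix.mul_assoc, trace_mul_comm, Matrix.mul_assoc]
  have t2 : trace (N * A' * N * B) = 0 := by
    rw [Matrix.mul_assoc, Matrix.mul_assoc, trace_mul_comm, Matrix.mul_assoc, Matrix.mul_assoc,
      ← Matrix.mul_assoc N B N, hNBN, Matrix.mul_zero]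
    simp
  rw [t1, t2, Matrix.mul_assoc A' N B, mul_sub, trace_sub]
  simp only [smul_eq_mul]
  ring

/-- Main lemma: both a zero and a nonzero trace occur among the products of conjugates. -/
theorem exists_trace_zero_and_ne_zero (hn : 2 < Fintype.card n)
    (A B : Matrix.SpecialLinearGroup n F)
    (hA : ∀ c : F, (A : Matrix n n F) ≠ scalar n c)
    (hB : ∀ c : F, (B : Matrix n n F) ≠ scalar n c) :
    (∃ g : Matrix.SpecialLinearGroup n F,
      trace (((g⁻¹ * A * g : Matrix.SpecialLinearGroup n F) : Matrix n n F) * (B : Matrix n n F))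
        = 0) ∧
    (∃ g : Matrix.SpecialLinearGroup n F,
      trace (((g⁻¹ * A * g : Matrix.SpecialLinearGroup n F) : Matrix n n F) * (B : Matrix n n F))
        ≠ 0) := by
  haveI : Nonempty n := by
    rw [← Fintype.card_pos_iff]; omega
  obtain ⟨v, hv⟩ := exists_mulVec_ne_smul (B : Matrix n n F) hB
  have hv0 : v ≠ 0 := by
    intro h0
    apply hv 0
    rw [h0, mulVec_zero, smul_zero]
  obtain ⟨φ, hφ0, hφv, hφB⟩ := exists_ne_zero_dot_zero hn v ((B : Matrix n n F) *ᵥ v)
  rw [dotProduct_comm] at hφv hφB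
  set N := vecMulVec v φ with hN
  set C : Matrix n n F := N * (B : Matrix n n F) - (B : Matrix n n F) * N with hC
  -- `C` is not scalar
  have hCns : ∀ c : F, C ≠ scalar n c := by
    intro c hc
    have hCv : C *ᵥ v = 0 := by
      rw [hC, sub_mulVec, ← mulVec_mulVec, ← mulVec_mulVec, hN, vecMulVec_mulVec,
        vecMulVec_mulVec, hφB, hφv]
      simp
    have hc0 : c = 0 := by
      rw [hc] at hCv
      have : c • v = 0 := by
        rw [← hCv]
        ext i
        simp [scalar_apply, mulVec_diagonal]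
      rcases smul_eq_zero.mp this with h | h
      · exact h
      · exact absurd h hv0
    obtain ⟨i, hi⟩ := Function.ne_iff.mp hφ0
    have hi' : φ i ≠ 0 := hi
    set y : n → F := (φ i)⁻¹ • Pi.single i 1 with hy
    have hφy : φ ⬝ᵥ y = 1 := by
      rw [hy, dotProduct_smul, dotProduct_single_one, smul_eq_mul, inv_mul_cancel₀ hi']
    have hCy : C *ᵥ y = 0 := by
      rw [hc, hc0]
      simp
    rw [hC, sub_mulVec, ← mulVec_mulVec, ← mulVec_mulVec, hN, vecMulVec_mulVec,
      vecMulVec_mulVec, hφy, op_smul_eq_smul, op_smul_eq_smul, one_smul, sub_eq_zero] at hCy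
    exact hv _ hCy.symm
  -- some conjugate of `A` pairs nontrivially with `C`
  have hnR : ¬ RR (A : Matrix n n F) C := by
    intro hR
    obtain ⟨c, hc⟩ := hR.scalar hn hA
    exact hCns c hc
  unfold RR at hnR
  push_neg at hnR
  obtain ⟨g, hg⟩ := hnR
  set A' : Matrix n n F := ((g⁻¹ : Matrix.SpecialLinearGroup n F) : Matrix n n F)
    * (A : Matrix n n F) * (g : Matrix n n F) with hA'
  have hkey : ∀ s : F,
      trace ((((g * tv v φ hφv s)⁻¹ * A * (g * tv v φ hφv s) : Matrix.SpecialLinearGroup n F)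
        : Matrix n n F) * (B : Matrix n n F))
      = trace (A' * (B : Matrix n n F)) + s * trace (A' * C) := by
    intro s
    rw [← trace_tv_conj v φ hφv A' (B : Matrix n n F) hφB s]
    congr 1
    rw [_root_.mul_inv_rev]
    simp only [Matrix.SpecialLinearGroup.coe_mul, hA', Matrix.mul_assoc]
  set α := trace (A' * (B : Matrix n n F)) with hα
  set β := trace (A' * C) with hβ
  have hβ0 : β ≠ 0 := by
    rw [hβ, hA']
    exact hg
  refine ⟨⟨g * tv v φ hφv (-α / β), ?_⟩, ⟨g * tv v φ hφv (-α / β + 1), ?_⟩⟩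
  · rw [hkey]
    field_simp
    ring
  · rw [hkey]
    intro h0
    apply hβ0
    field_simp at h0
    linear_combination h0

end Cfsg.Agent.Lib.Helper22.AHTrace
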