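import Cfsg.Agent.Lib.Helper22.AHTraceC

/-! In `PSL_n(F)`, `n ≥ 3`, the product of two nontrivial conjugacy classes is not a single class:
vanishing of the trace of a lift is a class invariant. -/

set_option autoImplicit false

namespace Cfsg.Agent.Lib.Helper22.AHTrace

open Matrix

variable {F : Type*} [Field F] {n : Type*} [Fintype n] [DecidableEq n]

/-- A matrix of `SL_n` whose image in `PSL_n` is nontrivial is not scalar. -/
theorem not_scalar_of_mk_ne_one (A : Matrix.SpecialLinearGroup n F)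
    (hA : (QuotientGroup.mk A : Matrix.ProjectiveSpecialLinearGroup n F) ≠ 1) :
    ∀ c : F, (A : Matrix n n F) ≠ scalar n c := by
  intro c hc
  apply hA
  rw [QuotientGroup.eq_one_iff, Matrix.SpecialLinearGroup.mem_center_iff]
  refine ⟨c, ?_, hc.symm⟩
  have hdet := A.prop
  rw [hc] at hdet
  simpa using hdet

/-- Vanishing of the trace is invariant under conjugacy in `PSL_n`. -/
theorem trace_eq_zero_iff_of_isConj [Nonempty n] (x y : Matrix.SpecialLinearGroup n F)
    (h : IsConj (QuotientGroup.mk x : Matrix.ProjectiveSpecialLinearGroup n F)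
      (QuotientGroup.mk y)) :
    trace (x : Matrix n n F) = 0 ↔ trace (y : Matrix n n F) = 0 := by
  obtain ⟨c, hc⟩ := isConj_iff.mp h
  obtain ⟨g, rfl⟩ := QuotientGroup.mk_surjective c
  rw [← QuotientGroup.mk_inv, ← QuotientGroup.mk_mul, ← QuotientGroup.mk_mul,
    QuotientGroup.eq] at hc
  obtain ⟨r, hr, hrz⟩ := Matrix.SpecialLinearGroup.mem_center_iff.mp hc
  have hr0 : r ≠ 0 := by
    intro h0
    rw [h0, zero_pow Fintype.card_ne_zero] at hr
    exact zero_ne_one hr
  have hy : y = (g * x * g⁻¹) * ((g * x * g⁻¹)⁻¹ * y) := by group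
  have hyM : (y : Matrix n n F)
      = (g : Matrix n n F) * (x : Matrix n n F)
        * ((g⁻¹ : Matrix.SpecialLinearGroup n F) : Matrix n n F) * scalar n r := by
    conv_lhs => rw [hy]
    rw [Matrix.SpecialLinearGroup.coe_mul, ← hrz, Matrix.SpecialLinearGroup.coe_mul,
      Matrix.SpecialLinearGroup.coe_mul]
  have htr : trace (y : Matrix n n F) = r * trace (x : Matrix n n F) := by
    rw [hyM, scalar_apply, ← smul_eq_mul_diagonal, trace_smul,
      Matrix.mul_assoc, trace_mul_comm, Matrix.mul_assoc, coe_inv_mul_coe, Matrix.mul_one,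
      smul_eq_mul]
  rw [htr]
  constructor
  · intro h0
    rw [h0, mul_zero]
  · intro h0
    rcases mul_eq_zero.mp h0 with h1 | h1
    · exact absurd h1 hr0
    · exact h1

/-- Arad–Herzog for `PSL_n(F)`, `n ≥ 3`: the product of two nontrivial classes is not a class. -/
theorem psl_class_product (hn : 2 < Fintype.card n)
    (a b : Matrix.ProjectiveSpecialLinearGroup n F) (ha : a ≠ 1) (hb : b ≠ 1) :
    ∃ g h : Matrix.ProjectiveSpecialLinearGroup n F,
      ¬ IsConj (a * b) (g * a * g⁻¹ * (h * b * h⁻¹)) := by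
  haveI : Nonempty n := by
    rw [← Fintype.card_pos_iff]; omega
  obtain ⟨A, rfl⟩ := QuotientGroup.mk_surjective a
  obtain ⟨B, rfl⟩ := QuotientGroup.mk_surjective b
  have hA := not_scalar_of_mk_ne_one A ha
  have hB := not_scalar_of_mk_ne_one B hb
  obtain ⟨⟨g₁, hg₁⟩, ⟨g₂, hg₂⟩⟩ := exists_trace_zero_and_ne_zero hn A B hA hB
  have key : ∀ g : Matrix.SpecialLinearGroup n F,
      (QuotientGroup.mk g⁻¹ : Matrix.ProjectiveSpecialLinearGroup n F) * QuotientGroup.mk A
          * (QuotientGroup.mk g⁻¹)⁻¹ * (1 * QuotientGroup.mk B * 1⁻¹)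
        = QuotientGroup.mk (g⁻¹ * A * g * B) := by
    intro g
    simp only [QuotientGroup.mk_mul, QuotientGroup.mk_inv, inv_inv, one_mul, inv_one, mul_one]
  by_cases h0 : trace ((A : Matrix n n F) * (B : Matrix n n F)) = 0
  · refine ⟨QuotientGroup.mk g₂⁻¹, 1, ?_⟩
    rw [key g₂, ← QuotientGroup.mk_mul]
    intro hconj
    have := (trace_eq_zero_iff_of_isConj (A * B) (g₂⁻¹ * A * g₂ * B) hconj).mp
      (by rw [Matrix.SpecialLinearGroup.coe_mul]; exact h0)
    rw [Matrix.SpecialLinearGroup.coe_mul] at this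
    exact hg₂ this
  · refine ⟨QuotientGroup.mk g₁⁻¹, 1, ?_⟩
    rw [key g₁, ← QuotientGroup.mk_mul]
    intro hconj
    have := (trace_eq_zero_iff_of_isConj (A * B) (g₁⁻¹ * A * g₁ * B) hconj).mpr
      (by rw [Matrix.SpecialLinearGroup.coe_mul]; exact hg₁)
    rw [Matrix.SpecialLinearGroup.coe_mul] at this
    exact h0 this

end Cfsg.Agent.Lib.Helper22.AHTrace
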