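import Mathlib

/-! helper22: S3614 market "AP", leaf AP-WITT (Witt's lemma in "maximal r-subgroup" form). -/

set_option autoImplicit false

namespace Cfsg.Agent.Lib.Helper22.APWITT

open Equiv MulAction

/-- two maximal `p`-subgroups of a finite group are conjugate -/
theorem conj_of_maximal {L : Type*} [Group L] [Finite L] {p : ℕ} [Fact p.Prime]
    (A B : Subgroup L) (hA : IsPGroup p ↥A) (hB : IsPGroup p ↥B)
    (hAmax : ∀ Q : Subgroup L, IsPGroup p ↥Q → A ≤ Q → Q = A)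
    (hBmax : ∀ Q : Subgroup L, IsPGroup p ↥Q → B ≤ Q → Q = B) :
    ∃ k : L, ∀ b : L, b ∈ B → k * b * k⁻¹ ∈ A := by
  obtain ⟨PA, hPA⟩ := hA.exists_le_sylow
  obtain ⟨PB, hPB⟩ := hB.exists_le_sylow
  have hPA' : (PA : Subgroup L) = A := hAmax _ PA.isPGroup' hPA
  have hPB' : (PB : Subgroup L) = B := hBmax _ PB.isPGroup' hPB
  obtain ⟨k, hk⟩ := MulAction.exists_smul_eq L PB PA
  refine ⟨k, fun b hb => ?_⟩
  have h1 : k * b * k⁻¹ ∈ ((k • PB : Sylow p L) : Subgroup L) := by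
    rw [Sylow.coe_subgroup_smul, Subgroup.mem_pointwise_smul_iff_inv_smul_mem]
    simp only [MulAut.smul_def, MulAut.conj_inv_apply]
    rw [hPB']
    convert hb using 1
    group
  rw [hk, hPA'] at h1
  exact h1

variable {Ω : Type*} [Fintype Ω] [DecidableEq Ω]

/-- the pointwise stabilizer of a tuple inside `H` -/
def fixH (H : Subgroup (Perm Ω)) {t : ℕ} (y : Fin t ↪ Ω) : Subgroup (Perm Ω) where
  carrier := {g | g ∈ H ∧ ∀ i, g (y i) = y i}
  mul_mem' := by
    rintro g h ⟨hg, hgy⟩ ⟨hh, hhy⟩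
    exact ⟨H.mul_mem hg hh, fun i => by rw [Perm.mul_apply, hhy, hgy]⟩
  one_mem' := ⟨H.one_mem, fun _ => rfl⟩
  inv_mem' := by
    rintro g ⟨hg, hgy⟩
    exact ⟨H.inv_mem hg, fun i => by rw [Perm.inv_eq_iff_eq, hgy]⟩

theorem mem_fixH {H : Subgroup (Perm Ω)} {t : ℕ} {y : Fin t ↪ Ω} {g : Perm Ω} :
    g ∈ fixH H y ↔ g ∈ H ∧ ∀ i, g (y i) = y i := Iff.rfl

set_option linter.dupNamespace false in
/-- **AP-WITT** (Witt's lemma; `Cfsg.Agent.S0713.sylow_conj` may help). -/
theorem APWITT (H : Subgroup (Perm Ω)) (r : ℕ) (hr : r.Prime) (t : ℕ)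
    (ht : IsMultiplyPretransitive ↥H Ω t)
    (S : Subgroup (Perm Ω)) (hSH : S ≤ H) (hSp : IsPGroup r ↥S)
    (hSmax : ∀ x : Fin t ↪ Ω, (∀ s ∈ S, ∀ i, s (x i) = x i) →
      ∀ Q : Subgroup (Perm Ω), Q ≤ H → IsPGroup r ↥Q → S ≤ Q →
        (∀ q ∈ Q, ∀ i, q (x i) = x i) → Q = S)
    (x y : Fin t ↪ Ω) (hx : ∀ s ∈ S, ∀ i, s (x i) = x i) (hy : ∀ s ∈ S, ∀ i, s (y i) = y i) :
    ∃ n ∈ H, n ∈ Subgroup.normalizer (S : Set (Perm Ω)) ∧ ∀ i, n (x i) = y i := by
  have : Fact r.Prime := ⟨hr⟩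
  obtain ⟨⟨h, hhH⟩, hh⟩ := ht.exists_smul_eq x y
  have hhxy : ∀ i, h (x i) = y i := fun i => by
    have := congrArg (fun f : Fin t ↪ Ω => f i) hh
    exact this
  -- the conjugate S' = h S h⁻¹
  set S' : Subgroup (Perm Ω) := S.map (MulAut.conj h).toMonoidHom with hS'
  have hmemS' : ∀ g, g ∈ S' ↔ h⁻¹ * g * h ∈ S := by
    intro g
    rw [hS', Subgroup.mem_map]
    constructor
    · rintro ⟨s, hs, rfl⟩
      simp only [MulEquiv.coe_toMonoidHom, MulAut.conj_apply]
      convert hs using 1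
      group
    · intro hg
      refine ⟨h⁻¹ * g * h, hg, ?_⟩
      simp only [MulEquiv.coe_toMonoidHom, MulAut.conj_apply]
      group
  have hS'p : IsPGroup r ↥S' := hSp.map _
  have hSL : S ≤ fixH H y := fun s hs => ⟨hSH hs, hy s hs⟩
  have hS'L : S' ≤ fixH H y := by
    intro g hg
    rw [hmemS'] at hg
    refine ⟨?_, fun i => ?_⟩
    · have := H.mul_mem (H.mul_mem hhH (hSH hg)) (H.inv_mem hhH)
      convert this using 1
      group
    · have := hx _ hg i
      rw [Perm.mul_apply, Perm.mul_apply, hhxy, Perm.inv_eq_iff_eq] at this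
      rw [this, hhxy]
  -- maximality inside L = fixH H y
  have hAmax : ∀ Q : Subgroup ↥(fixH H y), IsPGroup r ↥Q → S.subgroupOf (fixH H y) ≤ Q →
      Q = S.subgroupOf (fixH H y) := by
    intro Q hQ hle
    have hQS : Q.map (fixH H y).subtype = S := by
      apply hSmax y hy
      · rintro _ ⟨q, -, rfl⟩
        exact q.2.1
      · exact hQ.map _
      · intro s hs
        exact ⟨⟨s, hSL hs⟩, hle (by rw [Subgroup.mem_subgroupOf]; exact hs), rfl⟩
      · rintro _ ⟨q, -, rfl⟩ i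
        exact q.2.2 i
    rw [← hQS]
    exact (Subgroup.comap_map_eq_self_of_injective (Subgroup.subtype_injective _) Q).symm
  have hBmax : ∀ Q : Subgroup ↥(fixH H y), IsPGroup r ↥Q → S'.subgroupOf (fixH H y) ≤ Q →
      Q = S'.subgroupOf (fixH H y) := by
    intro Q hQ hle
    -- conjugate back by h
    have hQS : (Q.map (fixH H y).subtype).map (MulAut.conj h⁻¹).toMonoidHom = S := by
      apply hSmax x hx
      · rintro _ ⟨_, ⟨q, -, rfl⟩, rfl⟩
        simp only [MulEquiv.coe_toMonoidHom, MulAut.conj_apply, inv_inv]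
        exact H.mul_mem (H.mul_mem (H.inv_mem hhH) q.2.1) hhH
      · exact (hQ.map _).map _
      · intro s hs
        refine ⟨h * s * h⁻¹, ⟨⟨h * s * h⁻¹, hS'L ?_⟩, hle ?_, rfl⟩, ?_⟩
        · rw [hmemS']; convert hs using 1; group
        · rw [Subgroup.mem_subgroupOf, hmemS']; convert hs using 1; group
        · simp only [MulEquiv.coe_toMonoidHom, MulAut.conj_apply, inv_inv]; group
      · rintro _ ⟨_, ⟨q, -, rfl⟩, rfl⟩ i
        simp only [MulEquiv.coe_toMonoidHom, MulAut.conj_apply, inv_inv, Subgroup.coe_subtype,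
          Perm.mul_apply]
        rw [hhxy, q.2.2 i, Perm.inv_eq_iff_eq, hhxy]
    ext q
    rw [Subgroup.mem_subgroupOf, hmemS', ← hQS]
    constructor
    · intro hq
      refine ⟨(q : Perm Ω), ⟨q, hq, rfl⟩, ?_⟩
      show h⁻¹ * (q : Perm Ω) * h⁻¹⁻¹ = h⁻¹ * (q : Perm Ω) * h
      rw [inv_inv]
    · rintro ⟨_, ⟨q', hq', rfl⟩, hqq'⟩
      simp only [MulEquiv.coe_toMonoidHom, MulAut.conj_apply, inv_inv, Subgroup.coe_subtype] at hqq'
      have : (q' : Perm Ω) = (q : Perm Ω) := mul_left_cancel (mul_right_cancel hqq')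
      have : q' = q := Subtype.ext this
      rwa [← this]
  obtain ⟨k, hk⟩ := conj_of_maximal (p := r) (S.subgroupOf (fixH H y)) (S'.subgroupOf (fixH H y))
    (hSp.comap_subtype) (hS'p.comap_subtype) hAmax hBmax
  -- n = k * h
  have hkS : ∀ s ∈ S, (k : Perm Ω) * h * s * (h⁻¹ * (k : Perm Ω)⁻¹) ∈ S := by
    intro s hs
    have hb : h * s * h⁻¹ ∈ S' := by rw [hmemS']; convert hs using 1; group
    have := hk ⟨h * s * h⁻¹, hS'L hb⟩ (by rw [Subgroup.mem_subgroupOf]; exact hb)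
    rw [Subgroup.mem_subgroupOf] at this
    simp only [Subgroup.coe_mul, Subgroup.coe_inv] at this
    convert this using 1
    group
  refine ⟨(k : Perm Ω) * h, H.mul_mem k.2.1 hhH, ?_, fun i => ?_⟩
  · -- normalizer: n S n⁻¹ ≤ S suffices in a finite group
    have hsub : S.map (MulAut.conj ((k : Perm Ω) * h)).toMonoidHom ≤ S := by
      rintro _ ⟨s, hs, rfl⟩
      simp only [MulEquiv.coe_toMonoidHom, MulAut.conj_apply, mul_inv_rev]
      exact hkS s hs
    have heq : S.map (MulAut.conj ((k : Perm Ω) * h)).toMonoidHom = S := by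
      apply Subgroup.eq_of_le_of_card_ge hsub
      rw [Nat.card_congr (S.equivMapOfInjective _ (MulEquiv.injective _)).symm.toEquiv]
    rw [Subgroup.mem_normalizer_iff]
    intro g
    constructor
    · intro hg
      have := hkS g hg
      rwa [← mul_inv_rev] at this
    · intro hg
      rw [← heq] at hg
      obtain ⟨s, hs, hsg⟩ := hg
      simp only [MulEquiv.coe_toMonoidHom, MulAut.conj_apply] at hsg
      have : s = g := mul_left_cancel (mul_right_cancel hsg)
      rwa [← this]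
  · rw [Perm.mul_apply, hhxy]
    exact k.2.2 i

end Cfsg.Agent.Lib.Helper22.APWITT
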