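/-
helper22: S4482 leaf DIH (planner helper24, `notes/S4482_leaves.lean`): the subgroup generated by `σ` of order
`2^(n-1)` and an involution `τ` inverting it is dihedral of order `2^n`.
-/
import Mathlib
import Cfsg.Prelude.Def_Blocks
import Cfsg.Prelude.Def_Solvable
import Cfsg.Agent.Lib.Helper3.Dihedral

set_option autoImplicit false
set_option linter.unusedSectionVars false
set_option linter.unusedVariables false

namespace Cfsg.Agent.Lib.Helper22.BOFDIH

open Cfsg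

universe u

theorem tau_mul_self {G : Type u} [Group G] (τ : G) (hτo : orderOf τ = 2) : τ * τ = 1 := by
  rw [← pow_two, ← hτo]
  exact pow_orderOf_eq_one τ

theorem tau_inv {G : Type u} [Group G] (τ : G) (hτo : orderOf τ = 2) : τ⁻¹ = τ :=
  inv_eq_of_mul_eq_one_left (tau_mul_self τ hτo)

theorem tau_not_mem {G : Type u} [Group G] (n : ℕ) (hn : 3 ≤ n) (σ τ : G)
    (hσo : orderOf σ = 2 ^ (n - 1)) (hτo : orderOf τ = 2) (hrel : τ * σ * τ⁻¹ = σ⁻¹) :
    τ ∉ Subgroup.zpowers σ := by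
  intro hmem
  obtain ⟨k, hk⟩ := Subgroup.mem_zpowers_iff.mp hmem
  have hcomm : τ * σ = σ * τ := by
    rw [← hk]
    exact (Commute.zpow_self σ k).eq
  have h1 : σ = σ⁻¹ := by
    rw [← hrel, hcomm, mul_inv_cancel_right]
  have h2 : σ ^ 2 = 1 := by
    rw [pow_two]
    nth_rewrite 2 [h1]
    exact mul_inv_cancel σ
  have h3 : 2 ^ (n - 1) ∣ 2 := by
    rw [← hσo]
    exact orderOf_dvd_of_pow_eq_one h2
  have h4 : 2 ^ 2 ≤ 2 ^ (n - 1) := Nat.pow_le_pow_right (by norm_num) (by omega)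
  have h5 := Nat.le_of_dvd (by norm_num) h3
  omega

/-- (DIH) the Sylow 2-subgroup is dihedral (`Helper3.dihLift`, `Helper14.nonempty_mulEquiv_dihedral`). -/
theorem sylow_dihedral {G : Type u} [Group G] [Finite G] (n : ℕ) (hn : 3 ≤ n) (P : Subgroup G) (σ τ : G)
    (hσo : orderOf σ = 2 ^ (n - 1)) (hτo : orderOf τ = 2) (hrel : τ * σ * τ⁻¹ = σ⁻¹)
    (hgen : Subgroup.closure ({σ, τ} : Set G) = P) :
    Nonempty (↥P ≃* DihedralGroup (2 ^ (n - 1))) ∧ Nat.card P = 2 ^ n := by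
  have hτ2 := tau_mul_self τ hτo
  have hτi := tau_inv τ hτo
  have hσN : σ ^ (2 ^ (n - 1)) = 1 := by
    rw [← hσo]
    exact pow_orderOf_eq_one σ
  have hsx : τ * σ * τ = σ⁻¹ := by
    rw [← hrel, hτi]
  have hnot := tau_not_mem n hn σ τ hσo hτo hrel
  have hinj := Cfsg.Agent.Lib.Helper3.dihLift_injective σ τ hσN hτ2 hsx hσo hnot
  have hrange : (Cfsg.Agent.Lib.Helper3.dihLift σ τ hσN hτ2 hsx).range = P := by
    rw [Cfsg.Agent.Lib.Helper3.dihLift_range, hgen]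
  have e : DihedralGroup (2 ^ (n - 1)) ≃* ↥P :=
    (MonoidHom.ofInjective hinj).trans (MulEquiv.subgroupCongr hrange)
  refine ⟨⟨e.symm⟩, ?_⟩
  rw [← Nat.card_congr e.toEquiv, DihedralGroup.nat_card]
  obtain ⟨m, rfl⟩ : ∃ m, n = m + 1 := ⟨n - 1, by omega⟩
  rw [Nat.add_sub_cancel, pow_succ, mul_comm]

end Cfsg.Agent.Lib.Helper22.BOFDIH
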