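/-
helper22: S4482 leaf ALLINV (planner helper24, `notes/S4482_leaves.lean`): with a dihedral Sylow 2-subgroup
`P = ⟨σ, τ⟩`, if `τ` and `σ τ` are conjugate to the central involution `J` of `P` then all involutions are.
-/
import Mathlib
import Cfsg.Prelude.Def_Blocks
import Cfsg.Prelude.Def_Solvable
import Cfsg.Agent.Lib.Helper3.Dihedral
import Cfsg.Agent.Lib.Helper22.BOFDIH

set_option autoImplicit false
set_option linter.unusedSectionVars false
set_option linter.unusedVariables false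

namespace Cfsg.Agent.Lib.Helper22.BOFALLINV

open Cfsg Cfsg.Agent.Lib.Helper22.BOFDIH
open scoped Pointwise

universe u

section

variable {G : Type u} [Group G]

/-- `σ^m τ = τ σ^(-m)` -/
theorem zpow_mul_tau (σ τ : G) (hτo : orderOf τ = 2) (hrel : τ * σ * τ⁻¹ = σ⁻¹) (m : ℤ) :
    σ ^ m * τ = τ * σ ^ (-m) := by
  have h1 : τ * σ ^ (-m) * τ⁻¹ = σ ^ m := by
    have := @conj_zpow G _ (-m) τ σ
    rw [hrel, inv_zpow, zpow_neg, inv_inv] at this
    rw [zpow_neg]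
    exact this.symm
  rw [← h1, inv_mul_cancel_right]

/-- conjugating a reflection by a rotation -/
theorem conj_refl (σ τ : G) (hτo : orderOf τ = 2) (hrel : τ * σ * τ⁻¹ = σ⁻¹) (j k : ℤ) :
    σ ^ j * (τ * σ ^ k) * (σ ^ j)⁻¹ = τ * σ ^ (k - 2 * j) := by
  rw [← mul_assoc, zpow_mul_tau σ τ hτo hrel j, mul_assoc, mul_assoc, ← zpow_neg, ← zpow_add,
    ← zpow_add]
  congr 2
  ring

/-- every reflection is conjugate to `τ` or to `σ τ` -/
theorem refl_conj (σ τ : G) (hτo : orderOf τ = 2) (hrel : τ * σ * τ⁻¹ = σ⁻¹) (k : ℤ) :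
    IsConj τ (τ * σ ^ k) ∨ IsConj (σ * τ) (τ * σ ^ k) := by
  rcases Int.even_or_odd' k with ⟨j, hj | hj⟩
  · left
    apply IsConj.symm
    rw [isConj_iff]
    refine ⟨σ ^ j, ?_⟩
    rw [conj_refl σ τ hτo hrel, hj, sub_self, zpow_zero, mul_one]
  · right
    apply IsConj.symm
    rw [isConj_iff]
    refine ⟨σ ^ (j + 1), ?_⟩
    rw [conj_refl σ τ hτo hrel, hj]
    have : 2 * j + 1 - 2 * (j + 1) = -1 := by ring
    rw [this]
    have := zpow_mul_tau σ τ hτo hrel 1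
    rw [zpow_one] at this
    exact this.symm

/-- the only involution among the rotations is `J` -/
theorem rot_invol (n : ℕ) (hn : 3 ≤ n) (σ : G) (hσo : orderOf σ = 2 ^ (n - 1)) (k : ℤ)
    (hk : orderOf (σ ^ k) = 2) : σ ^ k = σ ^ (2 ^ (n - 2)) := by
  obtain ⟨m, rfl⟩ : ∃ m, n = m + 2 := ⟨n - 2, by omega⟩
  have e1 : m + 2 - 1 = m + 1 := by omega
  have e2 : m + 2 - 2 = m := by omega
  rw [e1] at hσo
  rw [e2]
  have h1 : (σ ^ k) ^ 2 = 1 := by
    rw [← hk]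
    exact pow_orderOf_eq_one _
  have h2 : σ ^ (k * 2) = 1 := by
    rw [zpow_mul, zpow_ofNat]
    exact h1
  have h3 : ((2 ^ (m + 1) : ℕ) : ℤ) ∣ k * 2 := by
    rw [← hσo]
    exact (orderOf_dvd_iff_zpow_eq_one).mpr h2
  have h4 : (2 ^ m : ℤ) ∣ k := by
    have : ((2 ^ (m + 1) : ℕ) : ℤ) = 2 ^ m * 2 := by push_cast; ring
    rw [this] at h3
    exact Int.dvd_of_mul_dvd_mul_right (by norm_num) h3
  obtain ⟨t, rfl⟩ := h4
  have hJ2 : (σ ^ (2 ^ m)) ^ 2 = 1 := by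
    rw [← pow_mul, ← pow_succ, ← hσo]
    exact pow_orderOf_eq_one σ
  have h5 : σ ^ ((2 ^ m : ℤ) * t) = (σ ^ (2 ^ m)) ^ t := by
    rw [zpow_mul]
    congr 1
    exact_mod_cast zpow_natCast σ (2 ^ m)
  rw [h5] at hk ⊢
  rcases Int.even_or_odd' t with ⟨s, hs | hs⟩
  · exfalso
    rw [hs, zpow_mul, zpow_ofNat, hJ2, one_zpow, orderOf_one] at hk
    omega
  · rw [hs, zpow_add, zpow_mul, zpow_ofNat, hJ2, one_zpow, one_mul, zpow_one]

end

/-- (ALLINV) all involutions of `G` are conjugate to `J = σ^(2^(n-2))`: an involution is conjugate into `P`; the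
involutions of `P` are `J` and `τ σ^a`, the latter `⟨σ⟩`-conjugate to `τ` (`a` even) or to `σ τ = τ σ⁻¹` (`a` odd). -/
theorem all_involutions_conj {G : Type u} [Group G] [Finite G] (n : ℕ) (hn : 3 ≤ n) (P : Sylow 2 G) (σ τ : G)
    (hσo : orderOf σ = 2 ^ (n - 1)) (hτo : orderOf τ = 2) (hrel : τ * σ * τ⁻¹ = σ⁻¹)
    (hgen : Subgroup.closure ({σ, τ} : Set G) = (P : Subgroup G))
    (hconj : IsConj (σ ^ (2 ^ (n - 2))) τ ∧ IsConj (σ ^ (2 ^ (n - 2))) (σ * τ)) :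
    ∀ x : G, orderOf x = 2 → IsConj (σ ^ (2 ^ (n - 2))) x := by
  intro x hx
  have hτ2 := tau_mul_self τ hτo
  have hτi := tau_inv τ hτo
  have hσN : σ ^ (2 ^ (n - 1)) = 1 := by
    rw [← hσo]
    exact pow_orderOf_eq_one σ
  have hsx : τ * σ * τ = σ⁻¹ := by
    rw [← hrel, hτi]
  -- conjugate `x` into `P`
  have hpg : IsPGroup 2 (Subgroup.zpowers x) := by
    apply IsPGroup.of_card (n := 1)
    rw [Nat.card_zpowers, hx, pow_one]
  obtain ⟨Q, hQ⟩ := hpg.exists_le_sylow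
  obtain ⟨g, hg⟩ := MulAction.exists_smul_eq G Q P
  have hxP : g * x * g⁻¹ ∈ (P : Subgroup G) := by
    rw [← hg]
    have hxQ : x ∈ (Q : Subgroup G) := hQ (Subgroup.mem_zpowers x)
    have : g * x * g⁻¹ ∈ MulAut.conj g • (Q : Subgroup G) :=
      Subgroup.smul_mem_pointwise_smul x (MulAut.conj g) (Q : Subgroup G) hxQ
    exact this
  -- `g x g⁻¹` is in the image of `dihLift`
  rw [← hgen, ← Cfsg.Agent.Lib.Helper3.dihLift_range σ τ hσN hτ2 hsx] at hxP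
  obtain ⟨d, hd⟩ := hxP
  have hx' : orderOf (g * x * g⁻¹) = 2 := by
    rw [← hx]
    exact (SemiconjBy.orderOf_eq g (show SemiconjBy g x (g * x * g⁻¹) by
      unfold SemiconjBy; group)).symm
  have hxx' : IsConj x (g * x * g⁻¹) := isConj_iff.mpr ⟨g, rfl⟩
  apply IsConj.trans _ hxx'.symm
  rw [← hd] at hx' ⊢
  rcases d with i | i
  · rw [Cfsg.Agent.Lib.Helper3.dihLift_r] at hx' ⊢
    obtain ⟨k, rfl⟩ := ZMod.intCast_surjective i
    rw [Cfsg.Agent.Lib.Helper3.dihPow_intCast] at hx' ⊢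
    rw [rot_invol n hn σ hσo k hx']
  · rw [Cfsg.Agent.Lib.Helper3.dihLift_sr]
    obtain ⟨k, rfl⟩ := ZMod.intCast_surjective i
    rw [Cfsg.Agent.Lib.Helper3.dihPow_intCast]
    rcases refl_conj σ τ hτo hrel k with h | h
    · exact hconj.1.trans h
    · exact hconj.2.trans h

end Cfsg.Agent.Lib.Helper22.BOFALLINV
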