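/-
helper22: S4482 leaf CA (planner helper24, `notes/S4482_leaves.lean`): class multiplication for the three
characters `1`, `χ₁`, `χ'` (three applications of `Helper24.irr_class_mul3` with `w = 1`).
-/
import Mathlib
import Cfsg.Prelude.Def_Blocks
import Cfsg.Prelude.Def_Solvable
import Cfsg.Agent.Lib.Helper24.IrrFacts

set_option autoImplicit false
set_option linter.unusedSectionVars false
set_option linter.unusedVariables false

namespace Cfsg.Agent.Lib.Helper22.BOFCA

open Cfsg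

universe u

theorem irr_one_ne_zero {G : Type u} [Group G] (χ : IrrCharacter G) : (χ : G → ℂ) 1 ≠ 0 := by
  rw [Cfsg.Agent.Lib.Helper24.irr_apply_one]
  have := Cfsg.Agent.Lib.Helper24.irr_charDegree_pos χ
  exact_mod_cast this.ne'

theorem class_sum_one {G : Type u} [Group G] [Fintype G] (χ : IrrCharacter G) (J : G) :
    ∑ a : G, ∑ b : G, (χ : G → ℂ) (a * J * a⁻¹ * (b * J * b⁻¹)) =
      (Nat.card G : ℂ) ^ 2 * ((χ : G → ℂ) J ^ 2 / (χ : G → ℂ) 1) := by
  have h := Cfsg.Agent.Lib.Helper24.irr_class_mul3 χ J J 1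
  simp only [mul_one] at h
  have h1 := irr_one_ne_zero χ
  rw [Nat.card_eq_fintype_card]
  apply mul_left_cancel₀ (pow_ne_zero 2 h1)
  rw [h]
  field_simp

/-- (CA) class multiplication for the three characters `1`, `χ₁`, `χ'` (`irr_class_mul3` of
`Cfsg.Agent.Lib.Helper24.IrrFacts` with `w = 1`). -/
theorem class_sum_three {G : Type u} [Group G] [Fintype G] (χ₁ χ' : IrrCharacter G) (δ : ℂ) (J : G) :
    ∑ a : G, ∑ b : G, (1 + δ * (χ₁ : G → ℂ) (a * J * a⁻¹ * (b * J * b⁻¹)) -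
        δ * (χ' : G → ℂ) (a * J * a⁻¹ * (b * J * b⁻¹))) =
      (Nat.card G : ℂ) ^ 2 * (1 + δ * (χ₁ : G → ℂ) J ^ 2 / (χ₁ : G → ℂ) 1 -
        δ * (χ' : G → ℂ) J ^ 2 / (χ' : G → ℂ) 1) := by
  have h1 := class_sum_one χ₁ J
  have h2 := class_sum_one χ' J
  simp only [Finset.sum_sub_distrib, Finset.sum_add_distrib, ← Finset.mul_sum, Finset.sum_const,
    Finset.card_univ, nsmul_eq_mul, mul_one]
  rw [h1, h2, Nat.card_eq_fintype_card]
  ring

end Cfsg.Agent.Lib.Helper22.BOFCA
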