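/-
helper22: S4501 market "BQ", leaf BQ-CARD7 `card_psl_seven` (twin).
-/
import Mathlib
import Cfsg.Agent.Lib.Helper13.DkMax

set_option autoImplicit false

namespace Cfsg.Agent.Lib.Helper22.BQCARD7

/-- `|PSL(2,F)| = 168` for `|F| = 7` -/
theorem card_psl_of_card_seven (F : Type*) [Field F] [Fintype F] (hF : Fintype.card F = 7) :
    Nat.card (Matrix.ProjectiveSpecialLinearGroup (Fin 2) F) = 168 := by
  have h := Cfsg.Agent.Lib.Helper13.Dk.card_PSL2_mul_gcd (K := F)
  rw [hF] at h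
  norm_num at h
  omega

/-- BQ-CARD7.  `Helper13.Dk.card_PSL2_mul_gcd` at `K := ZMod 7`. -/
theorem card_psl_seven : Nat.card (Matrix.ProjectiveSpecialLinearGroup (Fin 2) (ZMod 7)) = 168 := by
  have : Fact (Nat.Prime 7) := ⟨by norm_num⟩
  exact card_psl_of_card_seven (ZMod 7) (ZMod.card 7)

end Cfsg.Agent.Lib.Helper22.BQCARD7
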