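/-
helper22: S4501 market "BQ", leaf BQ-ISO `iso_of_psl` (twin).
`|F| = 5`: `Cfsg.Agent.S0253.result` (`PSL2(F) ≅ A5`).  `|F| = 7`: `|G| = |PSL2(F)| = 168`, then `Cfsg.Agent.S0495.result` at `ZMod 7`.
-/
import Mathlib
import Cfsg.Agent.Lib.Helper22.BQCARD7
import Cfsg.Agent.S0253
import Cfsg.Agent.S0495

set_option autoImplicit false

namespace Cfsg.Agent.Lib.Helper22.BQISO

universe u

variable {G : Type u} [Group G] [Finite G]

/-- BQ-ISO. -/
theorem iso_of_psl [IsSimpleGroup G]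
    (h : (∃ (F : Type) (_ : Field F) (_ : Fintype F), Fintype.card F = 5 ∧
        Nonempty (G ≃* Matrix.ProjectiveSpecialLinearGroup (Fin 2) F)) ∨
      (∃ (F : Type) (_ : Field F) (_ : Fintype F), Fintype.card F = 7 ∧
        Nonempty (G ≃* Matrix.ProjectiveSpecialLinearGroup (Fin 2) F))) :
    Nonempty (G ≃* alternatingGroup (Fin 5)) ∨
      Nonempty (G ≃* Matrix.ProjectiveSpecialLinearGroup (Fin 2) (ZMod 7)) := by
  rcases h with ⟨F, hF1, hF2, hFc, ⟨e⟩⟩ | ⟨F, hF1, hF2, hFc, ⟨e⟩⟩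
  · left
    obtain ⟨e'⟩ := Cfsg.Agent.S0253.result (F := F) hFc
    exact ⟨e.trans e'⟩
  · right
    have hcard : Nat.card G = 168 := by
      rw [Nat.card_congr e.toEquiv]
      exact Cfsg.Agent.Lib.Helper22.BQCARD7.card_psl_of_card_seven F hFc
    have : Fact (Nat.Prime 7) := ⟨by norm_num⟩
    exact Cfsg.Agent.S0495.result hcard (F := ZMod 7) (ZMod.card 7)

end Cfsg.Agent.Lib.Helper22.BQISO
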