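/-
helper22: S4501 market "BQ", leaf BQ-SYL5 `card_eq_sixty` (twin).
`G` simple non-abelian of order `12 · 5^b`: `b = 0` is `2² · 3` (Burnside, `Cfsg.Agent.S0144.result`); `b ≥ 1`: `n_5 ∣ 12`, `n_5 ≡ 1 mod 5`, `n_5 ≠ 1`:
`n_5 = 6`, `G` embeds in `Sym(6)`, `12 · 5^b ∣ 720`, `b = 1`.
-/
import Mathlib
import Cfsg.Agent.S0144

set_option autoImplicit false

namespace Cfsg.Agent.Lib.Helper22.BQSYL5

universe u

variable {G : Type u} [Group G] [Finite G]

omit [Finite G] in
/-- a simple group with two non-commuting elements is not solvable -/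
theorem not_solvable_of_simple [IsSimpleGroup G] (hna : ∃ x y : G, x * y ≠ y * x) :
    ¬ Group.IsSolvable G := by
  intro hs
  obtain ⟨x, y, hxy⟩ := hna
  have hc : commutator G = ⊤ := by
    rcases (inferInstance : (commutator G).Normal).eq_bot_or_eq_top with hb | ht
    · exfalso
      apply hxy
      have h1 := Subgroup.commutator_mem_commutator (Subgroup.mem_top x) (Subgroup.mem_top y)
      rw [commutator_def] at hb
      rw [hb, Subgroup.mem_bot] at h1
      exact commutatorElement_eq_one_iff_mul_comm.mp h1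
    · exact ht
  obtain ⟨n, hn⟩ := hs
  have hall : ∀ k : ℕ, derivedSeries G k = ⊤ := by
    intro k
    induction k with
    | zero => rfl
    | succ k ih =>
      rw [derivedSeries_succ, ih]
      rw [commutator_def] at hc
      exact hc
  rw [hall n] at hn
  have hsub : Subsingleton G := by
    refine ⟨fun a b => ?_⟩
    have ha : a ∈ (⊤ : Subgroup G) := Subgroup.mem_top a
    have hb : b ∈ (⊤ : Subgroup G) := Subgroup.mem_top b
    rw [hn, Subgroup.mem_bot] at ha hb
    rw [ha, hb]
  exact hxy (Subsingleton.elim _ _)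

/-- BQ-SYL5. -/
theorem card_eq_sixty [IsSimpleGroup G] (hna : ∃ x y : G, x * y ≠ y * x) (b : ℕ) (hG : Nat.card G = 12 * 5 ^ b) :
    Nat.card G = 60 := by
  classical
  have h5 : Nat.Prime 5 := by norm_num
  have : Fact (Nat.Prime 5) := ⟨h5⟩
  rcases Nat.eq_zero_or_pos b with hb0 | hbpos
  · -- `|G| = 12 = 2² · 3`
    exfalso
    apply not_solvable_of_simple hna
    apply Cfsg.Agent.S0144.result 2 3 2 1 Nat.prime_two Nat.prime_three
    rw [hG, hb0]
    norm_num
  · -- `b ≥ 1`
    have h5G : 5 ∣ Nat.card G := by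
      rw [hG]
      exact Dvd.dvd.mul_left (dvd_pow_self 5 hbpos.ne') 12
    let P : Sylow 5 G := default
    have hPbot : (P : Subgroup G) ≠ ⊥ := P.ne_bot_of_dvd_card h5G
    have hPtop : (P : Subgroup G) ≠ ⊤ := by
      intro ht
      have hp : IsPGroup 5 (P : Subgroup G) := P.isPGroup'
      obtain ⟨k, hk⟩ := (IsPGroup.iff_card (p := 5)).mp hp
      rw [ht, Subgroup.card_top, hG] at hk
      have h2 : 2 ∣ 5 ^ k := by
        rw [← hk]
        exact Dvd.dvd.mul_right (by norm_num) _
      have := (Nat.Prime.dvd_of_dvd_pow Nat.prime_two h2)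
      omega
    -- the number of Sylow 5-subgroups
    have hidx : (P : Subgroup G).index ∣ 12 := by
      have h1 : (P : Subgroup G).index ∣ 12 * 5 ^ b := by
        rw [← hG]
        exact Subgroup.index_dvd_card _
      have hnd : ¬ 5 ∣ (P : Subgroup G).index := P.not_dvd_index
      have hcop : Nat.Coprime ((P : Subgroup G).index) (5 ^ b) :=
        Nat.Coprime.pow_right b ((Nat.Prime.coprime_iff_not_dvd h5).mpr hnd).symm
      exact hcop.dvd_of_dvd_mul_right h1
    have hn12 : Nat.card (Sylow 5 G) ∣ 12 := (P.card_dvd_index).trans hidx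
    have hmod : Nat.card (Sylow 5 G) ≡ 1 [MOD 5] := card_sylow_modEq_one 5 G
    have hne1 : Nat.card (Sylow 5 G) ≠ 1 := by
      intro h1
      have h2 := P.card_eq_index_normalizer
      rw [h1] at h2
      have h3 : Subgroup.normalizer ((P : Subgroup G) : Set G) = ⊤ := Subgroup.index_eq_one.mp h2.symm
      have h4 : (P : Subgroup G).Normal := Subgroup.normalizer_eq_top_iff.mp h3
      rcases h4.eq_bot_or_eq_top with h | h
      · exact hPbot h
      · exact hPtop h
    have hn6 : Nat.card (Sylow 5 G) = 6 := by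
      have hle : Nat.card (Sylow 5 G) ≤ 12 := Nat.le_of_dvd (by norm_num) hn12
      have hm : Nat.card (Sylow 5 G) % 5 = 1 := hmod
      generalize Nat.card (Sylow 5 G) = n at *
      interval_cases n <;> simp_all
    -- the action on the Sylow 5-subgroups is faithful
    let φ : G →* Equiv.Perm (Sylow 5 G) := MulAction.toPermHom G (Sylow 5 G)
    have hker : φ.ker = ⊥ := by
      rcases (inferInstance : φ.ker.Normal).eq_bot_or_eq_top with h | h
      · exact h
      · exfalso
        have hsub : ∀ Q : Sylow 5 G, Q = P := by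
          intro Q
          obtain ⟨g, hg⟩ := MulAction.exists_smul_eq G P Q
          have hgk : g ∈ φ.ker := by rw [h]; exact Subgroup.mem_top g
          rw [MonoidHom.mem_ker] at hgk
          have : φ g P = P := by rw [hgk]; rfl
          rw [← hg]
          exact this
        have : Nat.card (Sylow 5 G) = 1 := by
          rw [Nat.card_eq_one_iff_unique]
          exact ⟨⟨fun a c => (hsub a).trans (hsub c).symm⟩, ⟨P⟩⟩
        exact hne1 this
    have hinj : Function.Injective φ := (MonoidHom.ker_eq_bot_iff φ).mp hker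
    have hdvd : Nat.card G ∣ Nat.card (Equiv.Perm (Sylow 5 G)) := Subgroup.card_dvd_of_injective φ hinj
    rw [Nat.card_perm, hn6, hG] at hdvd
    have h720 : (6 : ℕ).factorial = 720 := by decide
    rw [h720] at hdvd
    have h60 : 5 ^ b ∣ 60 := by
      have : 12 * 5 ^ b ∣ 12 * 60 := by simpa using hdvd
      exact Nat.dvd_of_mul_dvd_mul_left (by norm_num) this
    have hb1 : b = 1 := by
      by_contra hne
      have hb2 : 2 ≤ b := by omega
      have h25 : 5 ^ 2 ∣ 60 := (pow_dvd_pow 5 hb2).trans h60
      omega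
    rw [hG, hb1]
    norm_num

end Cfsg.Agent.Lib.Helper22.BQSYL5
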