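/-
helper22: S4705 market "BS", END segment of the spine (offered to the planner helper6; not a frozen leaf).
`H = G / Z(G)` with the local data of BS-QUOT, perfect (BS-PERF), and a faithful irreducible character of
degree `p - 1` that is `-1` on the `p`-singular elements (helper17's `k5` + deflation):
`|H| = p (p-1) (p-2)` (helper26 `T2PMain.card_eq`), no normal subgroup of order two (BS-NO2),
`Cfsg.Agent.S4701.result`, BS-ORDER  ⇒  `H ≅ SL(2, 2^a)`, `p = 2^a + 1`.  `end_main` adds BS-SPLIT.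
-/
import Mathlib
import Cfsg.Prelude.Def_BlockRank
import Cfsg.Agent.Lib.Helper26.T2PMain
import Cfsg.Agent.S4701
import Cfsg.Agent.Lib.Helper22.BSNO2
import Cfsg.Agent.Lib.Helper22.BSORDER

set_option autoImplicit false

namespace Cfsg.Agent.Lib.Helper22.BSEND

open Cfsg

universe u

variable {p : ℕ} [Fact p.Prime]

/-- `p (p-1) (p-2) < p³` -/
theorem lt_cube (q : ℕ) (hq : 5 < q) : q * (q - 1) * (q - 2) < q ^ 3 := by
  obtain ⟨k, rfl⟩ : ∃ k, q = k + 6 := ⟨q - 6, by omega⟩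
  have e2 : k + 6 - 1 = k + 5 := by omega
  have e3 : k + 6 - 2 = k + 4 := by omega
  rw [e2, e3]
  nlinarith

/-- the end of the spine in `H = G / Z(G)` -/
theorem end_quot {H : Type u} [Group H] [Finite H] (hp5 : 5 < p) (Q : Sylow p H)
    (hQ : Nat.card (Q : Subgroup H) = p)
    (hcent : ∀ y : H, y ∈ (Q : Subgroup H) → y ≠ 1 →
      Subgroup.centralizer ({y} : Set H) = (Q : Subgroup H))
    (hN : Nat.card (Subgroup.normalizer ((Q : Subgroup H) : Set H)) = 2 * p)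
    (hnn : ¬ (Q : Subgroup H).Normal)
    (hperf : commutator H = ⊤)
    (χ : IrrCharacter H) (hχ1 : (χ : H → ℂ) 1 = (p : ℂ) - 1)
    (hχs : ∀ g : H, p ∣ orderOf g → (χ : H → ℂ) g = -1)
    (hfaith : ∀ g : H, (χ : H → ℂ) g = (χ : H → ℂ) 1 → g = 1) :
    ∃ (a : ℕ) (F : Type) (_ : Field F) (_ : Fintype F), p = 2 ^ a + 1 ∧ Fintype.card F = 2 ^ a ∧
      Nonempty (H ≃* Matrix.SpecialLinearGroup (Fin 2) F) := by
  have hp2 : p ≠ 2 := by omega
  have hcard : Nat.card H = p * (p - 1) * (p - 2) :=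
    Cfsg.Agent.Lib.Helper26.T2PMain.card_eq (by omega) Q hQ hcent hN χ hχ1 hχs hfaith
  have hdvd : p ∣ Nat.card H := by
    rw [hcard, mul_assoc]
    exact dvd_mul_right _ _
  have hbig : Nat.card H < p ^ 3 := by
    rw [hcard]
    exact lt_cube p hp5
  have h2 := Cfsg.Agent.Lib.Helper22.BSNO2.no_normal_two hp2 Q hQ hcent
  rcases Cfsg.Agent.S4701.result hperf p hdvd hbig Q hnn h2 with
    ⟨F, hF1, hF2, hFc, -, ⟨e⟩⟩ | ⟨m, F, hF1, hF2, hFc, hpm, -, ⟨e⟩⟩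
  · exfalso
    exact @Cfsg.Agent.Lib.Helper22.BSORDER.not_psl p _ H _ _ hp5 F hF1 hF2 hFc e hcard
  · exact ⟨m, F, hF1, hF2, hpm, hFc, ⟨e⟩⟩

omit [Fact p.Prime] in
/-- the end of the spine in `G` -/
theorem end_main {G : Type u} [Group G] [Finite G]
    (hsplit : Nonempty (G ≃* (G ⧸ Subgroup.center G) × Subgroup.center G))
    (h : ∃ (a : ℕ) (F : Type) (_ : Field F) (_ : Fintype F), p = 2 ^ a + 1 ∧ Fintype.card F = 2 ^ a ∧
      Nonempty ((G ⧸ Subgroup.center G) ≃* Matrix.SpecialLinearGroup (Fin 2) F)) :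
    ∃ (a : ℕ) (F : Type) (_ : Field F) (_ : Fintype F), p = 2 ^ a + 1 ∧ Fintype.card F = 2 ^ a ∧
      Nonempty (G ≃* Matrix.SpecialLinearGroup (Fin 2) F × Subgroup.center G) := by
  obtain ⟨a, F, hF1, hF2, hpa, hFc, ⟨e⟩⟩ := h
  obtain ⟨s⟩ := hsplit
  exact ⟨a, F, hF1, hF2, hpa, hFc, ⟨s.trans (MulEquiv.prodCongr e (MulEquiv.refl _))⟩⟩

end Cfsg.Agent.Lib.Helper22.BSEND
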