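/-
helper22: S4705 market "BS", the END of the spine in the planner's vocabulary (segment "k6b-end" of helper6's msg 8379):
from the outputs of helper17's `k5` (`v = -1`, `χ₁ 1 = p - 1`, `ker χ₁ ≤ Z`), `hlin` (the input of BS-PERF) and the linear
character `μ` (faithful on `Z(G)`) to the conclusion of S4705.
Chain: helper17 `BSK6A.k6a` (deflation) + `BSK6B.k6b` (BS-QUOT + `T2PMain.card_eq`), helper7 `BSPERF.quot_perfect`,
`BSEND.end_quot` (BS-NO2, `Cfsg.Agent.S4701.result`, BS-ORDER), helper27 `BSSPLIT.split_center`.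
-/
import Mathlib
import Cfsg.Prelude.Def_BlockRank
import Cfsg.Agent.Lib.Helper6.BRHDefs
import Cfsg.Agent.Lib.Helper6.BSDefs
import Cfsg.Agent.Lib.Helper23.BRVIDefs
import Cfsg.Agent.Lib.Helper17.BSK6A
import Cfsg.Agent.Lib.Helper17.BSK6B
import Cfsg.Agent.Lib.Helper7.BSPERF
import Cfsg.Agent.Lib.Helper27.BSSPLIT
import Cfsg.Agent.Lib.Helper22.BSEND

set_option autoImplicit false

namespace Cfsg.Agent.Lib.Helper22.BSEND2

open Cfsg Cfsg.Agent.Lib.Helper8.DOM Cfsg.Agent.Lib.Helper27.DO Cfsg.Agent.CharLib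
open Cfsg.Agent.Lib.Helper6.BRH Cfsg.Agent.Lib.Helper23.BRVI Cfsg.Agent.Lib.Helper6.BS
open scoped ComplexConjugate

universe u

variable {G : Type u} [Group G] [Finite G] {p : ℕ} [Fact p.Prime]

/-- the end of the spine of S4705 -/
theorem s4705_end (hp5 : 5 < p) (P : Sylow p G) (hP : Nat.card (P : Subgroup G) = p)
    (hnn : ¬ (P : Subgroup G).Normal)
    (hf : (Cz (P : Subgroup G)).relIndex (Nz (P : Subgroup G)) = 2)
    (hV : ∀ y ∈ Cz (P : Subgroup G), ¬ p ∣ orderOf y → y ∈ Subgroup.center G)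
    (χ₁ : IrrCharacter G) (v : ℤ) (hv : v = -1) (h1c : χ₁ ∈ cset (trivIrr G))
    (hχ1 : (χ₁ : G → ℂ) 1 = (p : ℂ) - 1)
    (hsing : ∀ g : G, p ∣ orderOf g → (χ₁ : G → ℂ) g = (v : ℂ))
    (hker : ∀ g : G, (χ₁ : G → ℂ) g = (χ₁ : G → ℂ) 1 → g ∈ Subgroup.center G)
    (hlin : ∀ lam : IrrCharacter G, (lam : G → ℂ) 1 = 1 → lam ∈ cset (trivIrr G) → lam = trivIrr G)
    (μ : IrrCharacter G) (hμ1 : (μ : G → ℂ) 1 = 1)
    (hμZ : ∀ z ∈ Subgroup.center G, (μ : G → ℂ) z = 1 → z = 1) :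
    ∃ (a : ℕ) (F : Type) (_ : Field F) (_ : Fintype F), p = 2 ^ a + 1 ∧ Fintype.card F = 2 ^ a ∧
      Nonempty (G ≃* Matrix.SpecialLinearGroup (Fin 2) F × Subgroup.center G) := by
  obtain ⟨β, hβ1, hβs, hβf⟩ := Cfsg.Agent.Lib.Helper17.BSK6A.k6a χ₁ v hv h1c hχ1 hsing hker
  obtain ⟨-, Q, hQ, hcent, hN, hQnn⟩ :=
    Cfsg.Agent.Lib.Helper17.BSK6B.k6b hp5 P hP hnn hf hV χ₁ v hv h1c hχ1 hsing hker
  have hperf : commutator (G ⧸ Subgroup.center G) = ⊤ :=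
    Cfsg.Agent.Lib.Helper7.BSPERF.quot_perfect hlin
  have hq := Cfsg.Agent.Lib.Helper22.BSEND.end_quot hp5 Q hQ hcent hN hQnn hperf β hβ1 hβs hβf
  exact Cfsg.Agent.Lib.Helper22.BSEND.end_main
    (Cfsg.Agent.Lib.Helper27.BSSPLIT.split_center μ hμ1 hμZ hperf) hq

end Cfsg.Agent.Lib.Helper22.BSEND2
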