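/-
helper22: S4705 market "BS", leaf BS-INEQL `ineq_left` (the twisted sector is small).
`B a1 - A b1 = B (p-2) - (A - B) b1`, norm `≤ kb (p-2) + b1 = (p-1)(2 kb - 1)`, `kb ≥ 2`, and
`(2 kb - 1)² p² ≤ a1 b1 (p-2)` since `a1 b1 = p² kb (kb-1) + p - 1`.
-/
import Mathlib

set_option autoImplicit false

namespace Cfsg.Agent.Lib.Helper22.BSINEQL

/-- the real inequality -/
theorem real_left (P K N : ℝ) (hP : 7 ≤ P) (hK : 2 ≤ K) (hN0 : 0 ≤ N)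
    (hN : N ≤ (P - 1) * (2 * K - 1)) :
    N ^ 2 * P ^ 2 ≤ (P - 1) ^ 2 * ((P * K - 1) * (P * K - P + 1) * (P - 2)) := by
  have h1 : N ^ 2 ≤ ((P - 1) * (2 * K - 1)) ^ 2 := pow_le_pow_left₀ hN0 hN 2
  have hP2 : 0 ≤ P ^ 2 := by positivity
  have h2 : N ^ 2 * P ^ 2 ≤ ((P - 1) * (2 * K - 1)) ^ 2 * P ^ 2 :=
    mul_le_mul_of_nonneg_right h1 hP2
  have hm : 2 ≤ K * (K - 1) := by nlinarith
  have h3 : (2 * K - 1) ^ 2 * P ^ 2 ≤ (P * K - 1) * (P * K - P + 1) * (P - 2) := by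
    have e : (P * K - 1) * (P * K - P + 1) * (P - 2) - (2 * K - 1) ^ 2 * P ^ 2 =
        P ^ 2 * (K * (K - 1)) * (P - 6) - 3 * P + 2 := by ring
    have e1 : P ^ 2 * 2 * 1 ≤ P ^ 2 * (K * (K - 1)) * (P - 6) := by
      have a1 : P ^ 2 * 2 ≤ P ^ 2 * (K * (K - 1)) := mul_le_mul_of_nonneg_left hm hP2
      have a2 : 0 ≤ P ^ 2 * (K * (K - 1)) := by
        have : 0 ≤ K * (K - 1) := by linarith
        positivity
      have a3 : (1 : ℝ) ≤ P - 6 := by linarith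
      calc P ^ 2 * 2 * 1 ≤ P ^ 2 * (K * (K - 1)) * 1 := by linarith
        _ ≤ P ^ 2 * (K * (K - 1)) * (P - 6) := mul_le_mul_of_nonneg_left a3 a2
    have e2 : 3 * P ≤ P ^ 2 * 2 * 1 := by nlinarith
    linarith
  have h4 : ((P - 1) * (2 * K - 1)) ^ 2 * P ^ 2 ≤
      (P - 1) ^ 2 * ((P * K - 1) * (P * K - P + 1) * (P - 2)) := by
    have : ((P - 1) * (2 * K - 1)) ^ 2 * P ^ 2 = (P - 1) ^ 2 * ((2 * K - 1) ^ 2 * P ^ 2) := by ring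
    rw [this]
    exact mul_le_mul_of_nonneg_left h3 (by positivity)
  linarith

/-- BS-INEQL : the twisted sector is small. -/
theorem ineq_left (p : ℕ) (hp : 7 ≤ p) (b1 a1 kb : ℕ) (hb2 : 2 ≤ b1) (hb : b1 + (p - 1) = p * kb)
    (ha1 : a1 = b1 + (p - 2)) (A B : ℂ) (hB : ‖B‖ ≤ (kb : ℝ)) (hAB : ‖A - B‖ ≤ 1) :
    ‖B * (a1 : ℂ) - A * (b1 : ℂ)‖ ^ 2 * (p : ℝ) ^ 2 ≤
      ((p : ℝ) - 1) ^ 2 * ((a1 : ℝ) * (b1 : ℝ) * ((p : ℝ) - 2)) := by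
  have hpR : (7 : ℝ) ≤ (p : ℝ) := by exact_mod_cast hp
  -- `kb ≥ 2`
  have hkb : 2 ≤ kb := by
    by_contra hlt
    have h1 : kb ≤ 1 := by omega
    have h2 : p * kb ≤ p * 1 := Nat.mul_le_mul_left p h1
    omega
  have hkbR : (2 : ℝ) ≤ (kb : ℝ) := by exact_mod_cast hkb
  -- the real forms of `b1`, `a1`
  have hbR : (b1 : ℝ) = (p : ℝ) * (kb : ℝ) - (p : ℝ) + 1 := by
    have h1 : ((b1 + (p - 1) : ℕ) : ℝ) = ((p * kb : ℕ) : ℝ) := by rw [hb]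
    rw [Nat.cast_add, Nat.cast_sub (by omega), Nat.cast_mul, Nat.cast_one] at h1
    linarith
  have haR : (a1 : ℝ) = (p : ℝ) * (kb : ℝ) - 1 := by
    rw [ha1, Nat.cast_add, Nat.cast_sub (by omega), hbR]
    push_cast
    ring
  -- the norm bound
  have hb0 : (0 : ℝ) ≤ (b1 : ℝ) := by positivity
  have hp2 : (0 : ℝ) ≤ (p : ℝ) - 2 := by linarith
  have hnorm : ‖B * (a1 : ℂ) - A * (b1 : ℂ)‖ ≤ ((p : ℝ) - 1) * (2 * (kb : ℝ) - 1) := by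
    have e : B * (a1 : ℂ) - A * (b1 : ℂ) =
        B * (((p : ℝ) - 2 : ℝ) : ℂ) - (A - B) * ((b1 : ℝ) : ℂ) := by
      have : (a1 : ℂ) = (b1 : ℂ) + ((p : ℂ) - 2) := by
        rw [ha1, Nat.cast_add, Nat.cast_sub (by omega)]
        push_cast
        ring
      rw [this]
      push_cast
      ring
    rw [e]
    have h1 := norm_sub_le (B * (((p : ℝ) - 2 : ℝ) : ℂ)) ((A - B) * ((b1 : ℝ) : ℂ))
    rw [norm_mul, norm_mul, Complex.norm_real, Complex.norm_real, Real.norm_eq_abs,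
      Real.norm_eq_abs, abs_of_nonneg hp2, abs_of_nonneg hb0] at h1
    have h2 : ‖B‖ * ((p : ℝ) - 2) ≤ (kb : ℝ) * ((p : ℝ) - 2) :=
      mul_le_mul_of_nonneg_right hB hp2
    have h3 : ‖A - B‖ * (b1 : ℝ) ≤ 1 * (b1 : ℝ) := mul_le_mul_of_nonneg_right hAB hb0
    have h4 : (kb : ℝ) * ((p : ℝ) - 2) + 1 * (b1 : ℝ) = ((p : ℝ) - 1) * (2 * (kb : ℝ) - 1) := by
      rw [hbR]; ring
    linarith
  have h5 := real_left (p : ℝ) (kb : ℝ) _ hpR hkbR (norm_nonneg _) hnorm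
  have h6 : (a1 : ℝ) * (b1 : ℝ) * ((p : ℝ) - 2) =
      ((p : ℝ) * (kb : ℝ) - 1) * ((p : ℝ) * (kb : ℝ) - (p : ℝ) + 1) * ((p : ℝ) - 2) := by
    rw [haR, hbR]
  rw [h6]
  exact h5

end Cfsg.Agent.Lib.Helper22.BSINEQL
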