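/-
helper22: S4705 market "BS", leaf BS-INEQR `ineq_right` (the principal sector is large).
`v = 1`: `ε₀ = 1`, `d = h + 1`, `h = p m + 1` (`m = k₁ - 1 = kY`), `‖h - a‖ ≥ h + 1 - kY = (p-1) m + 2`.
`v = -1`: `ε₀ = -1`, `d = h - 1`, `h = p m - 1` (`m = k₁ + 1`), `‖h - a‖ ≥ h - k₁ = (p-1) m`.
-/
import Mathlib

set_option autoImplicit false

namespace Cfsg.Agent.Lib.Helper22.BSINEQR

/-- the real inequality, case `v = 1` -/
theorem real_pos (P m N : ℝ) (hP : 7 ≤ P) (hm : 0 ≤ m) (hN : (P - 1) * m + 2 ≤ N) :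
    (P - 1) ^ 2 * ((P * m + 1) * (P * m + 2)) < N ^ 2 * P ^ 2 := by
  have h0 : 0 ≤ (P - 1) * m + 2 := by
    have : 0 ≤ (P - 1) * m := mul_nonneg (by linarith) hm
    linarith
  have h1 : ((P - 1) * m + 2) ^ 2 ≤ N ^ 2 := pow_le_pow_left₀ h0 hN 2
  have hP2 : 0 < P ^ 2 := by positivity
  have h2 : ((P - 1) * m + 2) ^ 2 * P ^ 2 ≤ N ^ 2 * P ^ 2 :=
    mul_le_mul_of_nonneg_right h1 hP2.le
  have h3 : (P - 1) ^ 2 * ((P * m + 1) * (P * m + 2)) < ((P - 1) * m + 2) ^ 2 * P ^ 2 := by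
    have e : ((P - 1) * m + 2) ^ 2 * P ^ 2 - (P - 1) ^ 2 * ((P * m + 1) * (P * m + 2)) =
        (P - 1) * P * m * (P + 3) + (2 * P ^ 2 + 4 * P - 2) := by ring
    have e1 : 0 ≤ (P - 1) * P * m * (P + 3) := by
      have : 0 ≤ (P - 1) * P := mul_nonneg (by linarith) (by linarith)
      exact mul_nonneg (mul_nonneg this hm) (by linarith)
    have e2 : 0 < 2 * P ^ 2 + 4 * P - 2 := by nlinarith
    linarith
  linarith

/-- the real inequality, case `v = -1` -/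
theorem real_neg (P m N : ℝ) (hP : 7 ≤ P) (hm : 1 ≤ m) (hN : (P - 1) * m ≤ N) :
    (P - 1) ^ 2 * ((P * m - 1) * (P * m - 2)) < N ^ 2 * P ^ 2 := by
  have h0 : 0 ≤ (P - 1) * m := mul_nonneg (by linarith) (by linarith)
  have h1 : ((P - 1) * m) ^ 2 ≤ N ^ 2 := pow_le_pow_left₀ h0 hN 2
  have hP2 : 0 < P ^ 2 := by positivity
  have h2 : ((P - 1) * m) ^ 2 * P ^ 2 ≤ N ^ 2 * P ^ 2 :=
    mul_le_mul_of_nonneg_right h1 hP2.le
  have h3 : (P - 1) ^ 2 * ((P * m - 1) * (P * m - 2)) < ((P - 1) * m) ^ 2 * P ^ 2 := by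
    have e : ((P - 1) * m) ^ 2 * P ^ 2 - (P - 1) ^ 2 * ((P * m - 1) * (P * m - 2)) =
        (P - 1) ^ 2 * (3 * P * m - 2) := by ring
    have e1 : 0 < (P - 1) ^ 2 := by
      have : 0 < P - 1 := by linarith
      positivity
    have e2 : 0 < 3 * P * m - 2 := by nlinarith
    have := mul_pos e1 e2
    linarith
  linarith

/-- BS-INEQR : the principal sector is large. -/
theorem ineq_right (p : ℕ) (hp : 7 ≤ p) (h d k₁ kY : ℕ) (v ε₀ : ℤ) (hv : v = 1 ∨ v = -1)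
    (hε : ε₀ = 1 ∨ ε₀ = -1) (hh0 : 0 < h) (hd0 : 0 < d) (hdeg : ε₀ * (d : ℤ) = 1 + v * (h : ℤ))
    (hh : (h : ℤ) + v * ((p : ℤ) - 1) = (p : ℤ) * (k₁ : ℤ))
    (hd : (d : ℤ) - 2 * ε₀ = (p : ℤ) * (kY : ℤ))
    (a : ℂ) (ha : ‖a‖ ≤ (k₁ : ℝ)) (hψ : ‖1 + (v : ℂ) * a‖ ≤ (kY : ℝ)) :
    ((p : ℝ) - 1) ^ 2 * ((h : ℝ) * (d : ℝ)) < ‖(h : ℂ) - a‖ ^ 2 * (p : ℝ) ^ 2 := by
  have hpR : (7 : ℝ) ≤ (p : ℝ) := by exact_mod_cast hp
  have hpZ : (7 : ℤ) ≤ (p : ℤ) := by exact_mod_cast hp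
  have hhZ : (0 : ℤ) < (h : ℤ) := by exact_mod_cast hh0
  have hdZ : (0 : ℤ) < (d : ℤ) := by exact_mod_cast hd0
  rcases hv with rfl | rfl
  · -- `v = 1`
    have hε1 : ε₀ = 1 := by
      rcases hε with rfl | rfl
      · rfl
      · exfalso; linarith
    subst hε1
    have hdh : (d : ℤ) = (h : ℤ) + 1 := by linarith
    -- `k₁ ≥ 1`
    have hk1 : 1 ≤ k₁ := by
      rcases Nat.eq_zero_or_pos k₁ with h0 | h0
      · exfalso
        rw [h0] at hh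
        simp at hh
        linarith
      · exact h0
    obtain ⟨m, rfl⟩ : ∃ m, k₁ = m + 1 := ⟨k₁ - 1, by omega⟩
    have hhm : (h : ℤ) = (p : ℤ) * (m : ℤ) + 1 := by
      push_cast at hh
      linarith
    have hkY : (kY : ℤ) = (m : ℤ) := by
      have h1 : (p : ℤ) * (kY : ℤ) = (p : ℤ) * (m : ℤ) := by linarith
      have hp0 : (p : ℤ) ≠ 0 := by linarith
      exact mul_left_cancel₀ hp0 h1
    have hhR : (h : ℝ) = (p : ℝ) * (m : ℝ) + 1 := by exact_mod_cast hhm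
    have hdR : (d : ℝ) = (p : ℝ) * (m : ℝ) + 2 := by
      have : (d : ℤ) = (p : ℤ) * (m : ℤ) + 2 := by linarith
      exact_mod_cast this
    have hkYR : (kY : ℝ) = (m : ℝ) := by exact_mod_cast hkY
    -- the triangle inequality
    have htri : ((h : ℝ) + 1) ≤ ‖(h : ℂ) - a‖ + ‖1 + a‖ := by
      have e : ((h : ℂ) - a) + (1 + a) = (((h : ℝ) + 1 : ℝ) : ℂ) := by push_cast; ring
      have h1 := norm_add_le ((h : ℂ) - a) (1 + a)
      rw [e, Complex.norm_real, Real.norm_eq_abs, abs_of_nonneg (by positivity)] at h1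
      exact h1
    have hψ' : ‖1 + a‖ ≤ (m : ℝ) := by
      have : (1 : ℂ) + ((1 : ℤ) : ℂ) * a = 1 + a := by push_cast; ring
      rw [this] at hψ
      rw [← hkYR]; exact hψ
    have hN : ((p : ℝ) - 1) * (m : ℝ) + 2 ≤ ‖(h : ℂ) - a‖ := by
      rw [hhR] at htri
      linarith
    rw [hhR, hdR]
    exact real_pos (p : ℝ) (m : ℝ) _ hpR (by positivity) hN
  · -- `v = -1`
    have hhm : (h : ℤ) = (p : ℤ) * ((k₁ : ℤ) + 1) - 1 := by linarith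
    have hh6 : (6 : ℤ) ≤ (h : ℤ) := by
      have : (0 : ℤ) ≤ (p : ℤ) * (k₁ : ℤ) := by positivity
      linarith
    have hε1 : ε₀ = -1 := by
      rcases hε with rfl | rfl
      · exfalso; linarith
      · rfl
    subst hε1
    have hdh : (d : ℤ) = (h : ℤ) - 1 := by linarith
    have hhR : (h : ℝ) = (p : ℝ) * ((k₁ : ℝ) + 1) - 1 := by exact_mod_cast hhm
    have hdR : (d : ℝ) = (p : ℝ) * ((k₁ : ℝ) + 1) - 2 := by
      have : (d : ℤ) = (p : ℤ) * ((k₁ : ℤ) + 1) - 2 := by linarith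
      exact_mod_cast this
    have htri : (h : ℝ) ≤ ‖(h : ℂ) - a‖ + ‖a‖ := by
      have e : ((h : ℂ) - a) + a = ((h : ℝ) : ℂ) := by push_cast; ring
      have h1 := norm_add_le ((h : ℂ) - a) a
      rw [e, Complex.norm_real, Real.norm_eq_abs, abs_of_nonneg (by positivity)] at h1
      exact h1
    have hN : ((p : ℝ) - 1) * ((k₁ : ℝ) + 1) ≤ ‖(h : ℂ) - a‖ := by
      rw [hhR] at htri
      linarith
    rw [hhR, hdR]
    have hm1 : (1 : ℝ) ≤ (k₁ : ℝ) + 1 := by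
      have : (0 : ℝ) ≤ (k₁ : ℝ) := by positivity
      linarith
    exact real_neg (p : ℝ) ((k₁ : ℝ) + 1) _ hpR hm1 hN

end Cfsg.Agent.Lib.Helper22.BSINEQR
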