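/-
helper22: S4705 market "BS", a complete top-level assembly (twin of the planner helper6's spine):
R1 (helper14) → TB (helper5) → CSET (helper1) → INVOL (helper15) → `BSK34.k34` (helper23: χb 1 = 1) → `BSK5.k5` (helper17)
→ `BSK6C.hlin_of` / `hμZ_of` (helper17) → `BSEND2.s4705_end` (helper22).
-/
import Mathlib
import Cfsg.Prelude.Def_BlockRank
import Cfsg.Agent.Lib.Helper6.BRHDefs
import Cfsg.Agent.Lib.Helper6.BSDefs
import Cfsg.Agent.Lib.Helper6.Knoerr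
import Cfsg.Agent.Lib.Helper23.BRVIDefs
import Cfsg.Agent.Lib.Helper14.BSR1
import Cfsg.Agent.Lib.Helper14.BSB0V
import Cfsg.Agent.Lib.Helper5.BSTB
import Cfsg.Agent.Lib.Helper1.BSCSET
import Cfsg.Agent.Lib.Helper15.BSINVOL
import Cfsg.Agent.Lib.Helper15.BRVIZREG
import Cfsg.Agent.Lib.Helper23.BSK34
import Cfsg.Agent.Lib.Helper23.BSB0REST
import Cfsg.Agent.Lib.Helper17.BSK5
import Cfsg.Agent.Lib.Helper17.BSK6C
import Cfsg.Agent.Lib.Helper22.BSEND2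

set_option autoImplicit false

namespace Cfsg.Agent.Lib.Helper22.BSTOP

open Cfsg Cfsg.Agent.Lib.Helper8.DOM Cfsg.Agent.Lib.Helper27.DO Cfsg.Agent.CharLib
open Cfsg.Agent.Lib.Helper6.BRH Cfsg.Agent.Lib.Helper23.BRVI Cfsg.Agent.Lib.Helper6.BS
open scoped ComplexConjugate

universe u

variable {G : Type u} [Group G] [Finite G] {p : ℕ} [Fact p.Prime]

/-- S4705, for `ζ : IrrCharacter G` -/
theorem s4705 (hp5 : 5 < p) (P : Sylow p G) (hP : Nat.card (P : Subgroup G) = p)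
    (hnn : ¬ (P : Subgroup G).Normal) (ζ : IrrCharacter G)
    (hfaith : ∀ g : G, (ζ : G → ℂ) g = (ζ : G → ℂ) 1 → g = 1)
    (hdeg : charDegree (ζ : G → ℂ) = p - 2) :
    ∃ (a : ℕ) (F : Type) (_ : Field F) (_ : Fintype F), p = 2 ^ a + 1 ∧ Fintype.card F = 2 ^ a ∧
      Nonempty (G ≃* Matrix.SpecialLinearGroup (Fin 2) F × Subgroup.center G) := by
  have hpp : p.Prime := Fact.out
  have hp2 : p ≠ 2 := by omega
  have hp7 : 7 ≤ p := by
    rcases Nat.lt_or_ge p 7 with h | h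
    · exfalso
      have h6 : p = 6 := by omega
      rw [h6] at hpp
      exact absurd hpp (by decide)
    · exact h
  have hSyl : ¬ p ∣ (P : Subgroup G).index := P.not_dvd_index
  obtain ⟨M, hM⟩ := Cfsg.Agent.Lib.Helper6.exists_isPModular p
  -- the block of `ζ`
  obtain ⟨hf, hV, x0, χb, χa, ψs, i, hψi, dv⟩ :=
    Cfsg.Agent.Lib.Helper14.BSR1.partE_two hM hp5 (P : Subgroup G) hP hSyl hnn ζ hfaith hdeg
  have dζ := Cfsg.Agent.Lib.Helper5.BSTB.twoBlock_of_vals hp2 (P : Subgroup G) hP x0 χb χa 1 (-1) ψs (-1) dv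
  have hζY : ζ ∈ Set.range ψs := ⟨i, hψi⟩
  -- the principal block
  obtain ⟨x1, χ₁, v, ψs0, ε0, dv0, hsing⟩ :=
    Cfsg.Agent.Lib.Helper14.BSB0V.b0_vals hM hp5 (P : Subgroup G) hP hSyl hf
  have d0 := Cfsg.Agent.Lib.Helper5.BSTB.twoBlock_of_vals hp2 (P : Subgroup G) hP x1 (trivIrr G) χ₁ 1 v ψs0 ε0 dv0
  -- central characters
  have hZreg := Cfsg.Agent.Lib.Helper15.BRVIZREG.center_regular (P : Subgroup G) hP hSyl hnn
  obtain ⟨hbc, -, -⟩ := Cfsg.Agent.Lib.Helper1.BSCSET.cset_of_twoBlock hZreg (P : Subgroup G) χb χa 1 (-1)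
    (Set.range ψs) (-1) dζ ζ hζY
  obtain ⟨-, h1c, -⟩ := Cfsg.Agent.Lib.Helper23.BSB0REST.cset_triv_of_twoBlock hZreg (P : Subgroup G) χ₁ v
    (Set.range ψs0) ε0 d0
  have hrest0 := Cfsg.Agent.Lib.Helper23.BSB0REST.rest_vanish_triv (P : Subgroup G) hP hSyl hnn hV χ₁ v
    (Set.range ψs0) ε0 d0
  -- the element `w`
  obtain ⟨w, -, -, hwinv, hw2, hwreg, hNC⟩ :=
    Cfsg.Agent.Lib.Helper15.BSINVOL.exists_invol hp2 (P : Subgroup G) hP hSyl hnn hf hV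
  -- `χb` is linear
  have hb1 : (χb : G → ℂ) 1 = 1 :=
    Cfsg.Agent.Lib.Helper23.BSK34.k34 hp7 (P : Subgroup G) hP hSyl hnn hV χb χa (Set.range ψs) dζ ζ hζY hdeg hfaith
      χ₁ v (Set.range ψs0) ε0 d0 w hwinv hw2 hwreg hNC
  -- (K5)
  obtain ⟨hv, hχ1, hker⟩ :=
    Cfsg.Agent.Lib.Helper17.BSK5.k5 hp7 (P : Subgroup G) hP χb χa (Set.range ψs) dζ ζ hζY hdeg hfaith hb1 hbc
      χ₁ v (Set.range ψs0) ε0 d0 hsing hrest0
  -- the inputs of PERF and SPLIT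
  have hlin := Cfsg.Agent.Lib.Helper17.BSK6C.hlin_of hp7 (P : Subgroup G) hP χ₁ v (Set.range ψs0) ε0 d0 hv hχ1 hrest0
  have hμZ := Cfsg.Agent.Lib.Helper17.BSK6C.hμZ_of χb ζ hb1 hbc hfaith
  exact Cfsg.Agent.Lib.Helper22.BSEND2.s4705_end hp5 P hP hnn hf hV χ₁ v hv h1c hχ1 hsing hker hlin χb hb1 hμZ

end Cfsg.Agent.Lib.Helper22.BSTOP
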