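import Mathlib

/-!
helper22: groups in which abelian subgroups of equal order are conjugate (`BStar`); basic lifting
lemmas for quotients.
-/

set_option autoImplicit false

namespace Cfsg.Agent.Lib.Helper22.BStar

open Subgroup

/-- any two abelian subgroups of the same order are conjugate -/
def BStar (G : Type*) [Group G] : Prop :=
  ∀ A B : Subgroup G, IsMulCommutative ↥A → IsMulCommutative ↥B → Nat.card ↥A = Nat.card ↥B →
    ∃ g : G, B = A.map (MulAut.conj g).toMonoidHom

theorem map_conj_map {G H : Type*} [Group G] [Group H] (f : G →* H) (A : Subgroup G) (g : G) :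
    (A.map (MulAut.conj g).toMonoidHom).map f = (A.map f).map (MulAut.conj (f g)).toMonoidHom := by
  ext x
  simp only [Subgroup.mem_map, MulEquiv.coe_toMonoidHom, MulAut.conj_apply]
  constructor
  · rintro ⟨_, ⟨a, ha, rfl⟩, rfl⟩
    exact ⟨f a, ⟨a, ha, rfl⟩, by simp⟩
  · rintro ⟨_, ⟨a, ha, rfl⟩, rfl⟩
    exact ⟨g * a * g⁻¹, ⟨a, ha, rfl⟩, by simp⟩

theorem map_conj_mul {G : Type*} [Group G] (A : Subgroup G) (g h : G) :
    (A.map (MulAut.conj g).toMonoidHom).map (MulAut.conj h).toMonoidHom =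
      A.map (MulAut.conj (h * g)).toMonoidHom := by
  ext x
  simp only [Subgroup.mem_map, MulEquiv.coe_toMonoidHom, MulAut.conj_apply]
  constructor
  · rintro ⟨_, ⟨a, ha, rfl⟩, rfl⟩
    exact ⟨a, ha, by group⟩
  · rintro ⟨a, ha, rfl⟩
    exact ⟨g * a * g⁻¹, ⟨a, ha, rfl⟩, by group⟩

theorem BStar.of_mulEquiv {G H : Type*} [Group G] [Group H] (hG : BStar G) (e : G ≃* H) :
    BStar H := by
  intro A B hA hB hAB
  have hinj : Function.Injective e.symm.toMonoidHom := e.symm.injective
  obtain ⟨g, hg⟩ := hG (A.map e.symm.toMonoidHom) (B.map e.symm.toMonoidHom)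
    (Subgroup.map_isMulCommutative A _) (Subgroup.map_isMulCommutative B _)
    (by rw [Subgroup.card_map_of_injective hinj, Subgroup.card_map_of_injective hinj, hAB])
  refine ⟨e g, ?_⟩
  have key : ∀ C : Subgroup H, (C.map e.symm.toMonoidHom).map e.toMonoidHom = C := by
    intro C
    ext x
    simp only [Subgroup.mem_map, MulEquiv.coe_toMonoidHom]
    constructor
    · rintro ⟨_, ⟨c, hc, rfl⟩, rfl⟩
      simpa using hc
    · intro hx
      exact ⟨e.symm x, ⟨x, hx, rfl⟩, by simp⟩
  have := congrArg (Subgroup.map e.toMonoidHom) hg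
  rw [key, map_conj_map, key] at this
  exact this

/-- Criterion: enough to lift pairs to conjugate subgroups. -/
theorem bstar_quot_of_lift {G : Type*} [Group G] (N : Subgroup G) [N.Normal]
    (h : ∀ A B : Subgroup (G ⧸ N), IsMulCommutative ↥A → IsMulCommutative ↥B →
      Nat.card ↥A = Nat.card ↥B → ∃ A₀ B₀ : Subgroup G, A₀.map (QuotientGroup.mk' N) = A ∧
        B₀.map (QuotientGroup.mk' N) = B ∧ ∃ g : G, B₀ = A₀.map (MulAut.conj g).toMonoidHom) :
    BStar (G ⧸ N) := by
  intro A B hA hB hAB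
  obtain ⟨A₀, B₀, hA₀, hB₀, g, hg⟩ := h A B hA hB hAB
  refine ⟨QuotientGroup.mk' N g, ?_⟩
  rw [← hA₀, ← hB₀, hg, map_conj_map]

/-- Lifting an abelian subgroup of `G ⧸ N` of order coprime to `|N|` to an isomorphic subgroup of `G`. -/
theorem exists_lift_of_coprime {G : Type*} [Group G] [Finite G] (N : Subgroup G) [N.Normal]
    (Abar : Subgroup (G ⧸ N)) (hab : IsMulCommutative ↥Abar)
    (hcop : (Nat.card ↥N).Coprime (Nat.card ↥Abar)) :
    ∃ A₀ : Subgroup G, IsMulCommutative ↥A₀ ∧ Nat.card ↥A₀ = Nat.card ↥Abar ∧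
      A₀.map (QuotientGroup.mk' N) = Abar ∧ A₀ ⊓ N = ⊥ := by
  classical
  set π := QuotientGroup.mk' N with hπ
  have hsurj : Function.Surjective π := QuotientGroup.mk'_surjective N
  set A : Subgroup G := Abar.comap π with hA
  have hNA : N ≤ A := by
    intro n hn
    rw [hA, Subgroup.mem_comap]
    have : π n = 1 := by
      rw [hπ, QuotientGroup.mk'_apply, QuotientGroup.eq_one_iff]; exact hn
    rw [this]; exact Abar.one_mem
  -- the restricted hom
  let f : ↥A →* G ⧸ N := π.comp A.subtype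
  have hker : f.ker = N.subgroupOf A := by
    ext x
    rw [MonoidHom.mem_ker, Subgroup.mem_subgroupOf]
    show π (x : G) = 1 ↔ _
    rw [hπ, QuotientGroup.mk'_apply, QuotientGroup.eq_one_iff]
  have hrange : (f.range : Set (G ⧸ N)) = Abar := by
    ext y
    constructor
    · rintro ⟨x, rfl⟩
      exact x.2
    · intro hy
      obtain ⟨a, rfl⟩ := hsurj y
      exact ⟨⟨a, hy⟩, rfl⟩
  have hrange' : f.range = Abar := SetLike.coe_injective hrange
  have hidx : (N.subgroupOf A).index = Nat.card ↥Abar := by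
    rw [← hker, Subgroup.index_ker, hrange']
  have hcardN : Nat.card ↥(N.subgroupOf A) = Nat.card ↥N :=
    Nat.card_congr (Subgroup.subgroupOfEquivOfLe hNA).toEquiv
  obtain ⟨H', hH'⟩ := Subgroup.exists_right_complement'_of_coprime (N := N.subgroupOf A)
    (by rw [hcardN, hidx]; exact hcop)
  refine ⟨H'.map A.subtype, ?_, ?_, ?_, ?_⟩
  · -- abelian
    have hdisj : ∀ x ∈ H', (x : G) ∈ N → x = 1 := by
      intro x hx hxN
      have : x ∈ N.subgroupOf A ⊓ H' := ⟨Subgroup.mem_subgroupOf.mpr hxN, hx⟩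
      rw [hH'.disjoint.eq_bot] at this
      exact this
    refine ⟨⟨?_⟩⟩
    rintro ⟨_, ⟨x, hx, rfl⟩⟩ ⟨_, ⟨y, hy, rfl⟩⟩
    apply Subtype.ext
    show (A.subtype x) * (A.subtype y) = (A.subtype y) * (A.subtype x)
    have hcomm : f x * f y = f y * f x := by
      have h1 : f x ∈ Abar := x.2
      have h2 : f y ∈ Abar := y.2
      have := hab.is_comm.comm ⟨f x, h1⟩ ⟨f y, h2⟩
      exact congrArg Subtype.val this
    have hmem : x * y * (y * x)⁻¹ ∈ H' := H'.mul_mem (H'.mul_mem hx hy) (H'.inv_mem (H'.mul_mem hy hx))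
    have hN : ((x * y * (y * x)⁻¹ : ↥A) : G) ∈ N := by
      have : f (x * y * (y * x)⁻¹) = 1 := by
        rw [map_mul, map_inv, map_mul, map_mul, hcomm, mul_inv_cancel]
      have h3 : (x * y * (y * x)⁻¹) ∈ f.ker := this
      rw [hker] at h3
      exact Subgroup.mem_subgroupOf.mp h3
    have h1 := hdisj _ hmem hN
    have h2 : x * y = y * x := by
      have := mul_inv_eq_one.mp h1
      exact this
    have := congrArg (fun z : ↥A => (z : G)) h2
    simpa using this
  · rw [Subgroup.card_map_of_injective A.subtype_injective, ← hidx]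
    exact (hH'.symm.index_eq_card).symm
  · apply le_antisymm
    · rintro _ ⟨_, ⟨x, hx, rfl⟩, rfl⟩
      exact x.2
    · intro y hy
      obtain ⟨a, rfl⟩ := hsurj y
      have haA : a ∈ A := hy
      obtain ⟨⟨n, h⟩, hnh, -⟩ := (Subgroup.isComplement_iff_existsUnique.mp hH') ⟨a, haA⟩
      simp only at hnh
      refine ⟨(h : ↥A), ⟨h, h.2, rfl⟩, ?_⟩
      have hn1 : π ((n : ↥A) : G) = 1 := by
        rw [hπ, QuotientGroup.mk'_apply, QuotientGroup.eq_one_iff]
        exact Subgroup.mem_subgroupOf.mp n.2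
      have : ((n : ↥A) : G) * ((h : ↥A) : G) = a := by
        have := congrArg (fun z : ↥A => (z : G)) hnh
        simpa using this
      rw [← this, map_mul, hn1, one_mul]
  · rw [eq_bot_iff]
    rintro x ⟨⟨y, hy, rfl⟩, hxN⟩
    have : y ∈ N.subgroupOf A ⊓ H' := ⟨Subgroup.mem_subgroupOf.mpr hxN, hy⟩
    rw [hH'.disjoint.eq_bot, Subgroup.mem_bot] at this
    rw [this]; simp

end Cfsg.Agent.Lib.Helper22.BStar
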