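import Cfsg.Agent.Lib.Helper22.BStarA

/-!
helper22: `BStar` passes to the quotient by a normal subgroup of prime order under Sylow conditions.
-/

set_option autoImplicit false

namespace Cfsg.Agent.Lib.Helper22.BStar

open Subgroup

/-- An element of order prime to `p` acting trivially on `R/N` centralizes `R`, when `N` is a central
subgroup of `R` of exponent `p` consisting of `p`-th powers of elements of `R`. -/
theorem conj_eq_of_coprime {G : Type*} [Group G] [Finite G] (p : ℕ) (R N : Subgroup G) (k : G)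
    (hδ : ∀ u ∈ R, u⁻¹ * (k⁻¹ * u * k) ∈ N)
    (hcent : ∀ n ∈ N, ∀ u ∈ R, n * u = u * n)
    (hexp : ∀ n ∈ N, n ^ p = 1)
    (hpow : ∀ n ∈ N, ∃ w ∈ R, w ^ p = n)
    (hk : (orderOf k).Coprime p) : ∀ u ∈ R, k⁻¹ * u * k = u := by
  -- step 1: k centralizes N
  have step1 : ∀ n ∈ N, k⁻¹ * n * k = n := by
    intro n hn
    obtain ⟨w, hw, rfl⟩ := hpow n hn
    set d := w⁻¹ * (k⁻¹ * w * k) with hd
    have hdN : d ∈ N := hδ w hw
    have hwd : k⁻¹ * w * k = w * d := by rw [hd]; group
    have hcomm : Commute w d := (hcent d hdN w hw).symm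
    have h1 : k⁻¹ * w ^ p * k = (k⁻¹ * w * k) ^ p := by
      have : k⁻¹ * w * k = k⁻¹ * w * k⁻¹⁻¹ := by rw [inv_inv]
      rw [this, conj_pow, inv_inv]
    rw [h1, hwd, hcomm.mul_pow, hexp d hdN, mul_one]
  intro u hu
  set d := u⁻¹ * (k⁻¹ * u * k) with hd
  have hdN : d ∈ N := hδ u hu
  have hud : k⁻¹ * u * k = u * d := by rw [hd]; group
  have key : ∀ i : ℕ, (k ^ i)⁻¹ * u * k ^ i = u * d ^ i := by
    intro i
    induction i with
    | zero => simp
    | succ i ih =>
      have hdi : k⁻¹ * d ^ i * k = d ^ i := step1 _ (N.pow_mem hdN i)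
      calc (k ^ (i + 1))⁻¹ * u * k ^ (i + 1)
          = k⁻¹ * ((k ^ i)⁻¹ * u * k ^ i) * k := by rw [pow_succ]; group
        _ = k⁻¹ * (u * d ^ i) * k := by rw [ih]
        _ = (k⁻¹ * u * k) * (k⁻¹ * d ^ i * k) := by group
        _ = u * d * d ^ i := by rw [hud, hdi]
        _ = u * d ^ (i + 1) := by rw [pow_succ' d i, mul_assoc]
  have h2 := key (orderOf k)
  rw [pow_orderOf_eq_one, inv_one, one_mul, mul_one] at h2
  have h3 : d ^ orderOf k = 1 := by
    have := h2.symm
    exact mul_eq_left.mp this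
  have h4 : orderOf d ∣ orderOf k := orderOf_dvd_of_pow_eq_one h3
  have h5 : orderOf d ∣ p := orderOf_dvd_of_pow_eq_one (hexp d hdN)
  have h6 : orderOf d = 1 := Nat.eq_one_of_dvd_coprimes hk h4 h5
  have h7 : d = 1 := orderOf_eq_one_iff.mp h6
  rw [hud, h7, mul_one]

theorem card_comap_mk' {G : Type*} [Group G] [Finite G] (N : Subgroup G) [N.Normal]
    (X : Subgroup (G ⧸ N)) :
    Nat.card ↥(X.comap (QuotientGroup.mk' N)) = Nat.card ↥N * Nat.card ↥X := by
  set π := QuotientGroup.mk' N with hπ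
  have hsurj : Function.Surjective π := QuotientGroup.mk'_surjective N
  set A : Subgroup G := X.comap π with hA
  have hNA : N ≤ A := by
    intro n hn
    rw [hA, Subgroup.mem_comap]
    have : π n = 1 := by
      rw [hπ, QuotientGroup.mk'_apply, QuotientGroup.eq_one_iff]; exact hn
    rw [this]; exact X.one_mem
  let f : ↥A →* G ⧸ N := π.comp A.subtype
  have hker : f.ker = N.subgroupOf A := by
    ext x
    rw [MonoidHom.mem_ker, Subgroup.mem_subgroupOf]
    show π (x : G) = 1 ↔ _
    rw [hπ, QuotientGroup.mk'_apply, QuotientGroup.eq_one_iff]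
  have hrange' : f.range = X := by
    apply SetLike.coe_injective
    ext y
    constructor
    · rintro ⟨x, rfl⟩
      exact x.2
    · intro hy
      obtain ⟨a, rfl⟩ := hsurj y
      exact ⟨⟨a, hy⟩, rfl⟩
  have hidx : (N.subgroupOf A).index = Nat.card ↥X := by
    rw [← hker, Subgroup.index_ker, hrange']
  have hcardN : Nat.card ↥(N.subgroupOf A) = Nat.card ↥N :=
    Nat.card_congr (Subgroup.subgroupOfEquivOfLe hNA).toEquiv
  rw [← Subgroup.card_mul_index (N.subgroupOf A), hcardN, hidx]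

theorem le_comap_mk' {G : Type*} [Group G] (N : Subgroup G) [N.Normal] (X : Subgroup (G ⧸ N)) :
    N ≤ X.comap (QuotientGroup.mk' N) := by
  intro n hn
  rw [Subgroup.mem_comap]
  have : QuotientGroup.mk' N n = 1 := by
    rw [QuotientGroup.mk'_apply, QuotientGroup.eq_one_iff]; exact hn
  rw [this]; exact X.one_mem

/-- The join of two abelian subgroups commuting elementwise is abelian. -/
theorem isMulCommutative_sup {G : Type*} [Group G] (R K : Subgroup G) (hR : IsMulCommutative ↥R)
    (hK : IsMulCommutative ↥K) (hRK : ∀ k ∈ K, ∀ u ∈ R, k * u = u * k) :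
    IsMulCommutative ↥(R ⊔ K) := by
  have hRc : ∀ a ∈ R, ∀ b ∈ R, a * b = b * a := fun a ha b hb =>
    congrArg Subtype.val (hR.is_comm.comm ⟨a, ha⟩ ⟨b, hb⟩)
  have hKc : ∀ a ∈ K, ∀ b ∈ K, a * b = b * a := fun a ha b hb =>
    congrArg Subtype.val (hK.is_comm.comm ⟨a, ha⟩ ⟨b, hb⟩)
  have h1 : R ⊔ K ≤ centralizer (R : Set G) ⊓ centralizer (K : Set G) := by
    apply sup_le
    · intro a ha
      refine Subgroup.mem_inf.mpr ⟨?_, ?_⟩
      · exact mem_centralizer_iff.mpr (fun b hb => hRc b hb a ha)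
      · exact mem_centralizer_iff.mpr (fun b hb => hRK b hb a ha)
    · intro a ha
      refine Subgroup.mem_inf.mpr ⟨?_, ?_⟩
      · exact mem_centralizer_iff.mpr (fun b hb => (hRK a ha b hb).symm)
      · exact mem_centralizer_iff.mpr (fun b hb => hKc b hb a ha)
  have h2 : ∀ x ∈ R ⊔ K, ∀ y ∈ R ⊔ K, x * y = y * x := by
    intro x hx y hy
    have hx' := Subgroup.mem_inf.mp (h1 hx)
    have : R ⊔ K ≤ centralizer ({x} : Set G) := by
      apply sup_le
      · intro b hb
        rw [mem_centralizer_singleton_iff]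
        exact ((mem_centralizer_iff.mp hx'.1) b hb)
      · intro b hb
        rw [mem_centralizer_singleton_iff]
        exact ((mem_centralizer_iff.mp hx'.2) b hb)
    have := mem_centralizer_singleton_iff.mp (this hy)
    exact this.symm
  exact ⟨⟨fun a b => Subtype.ext (h2 a a.2 b b.2)⟩⟩

end Cfsg.Agent.Lib.Helper22.BStar
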