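import Cfsg.Agent.Lib.Helper22.BStarB

/-!
helper22: decomposition of preimages of abelian subgroups modulo a normal subgroup of prime order.
-/

set_option autoImplicit false

namespace Cfsg.Agent.Lib.Helper22.BStar

open Subgroup

variable {G : Type*} [Group G] [Finite G]

theorem exists_decomp (p : ℕ) [hp : Fact p.Prime] (N : Subgroup G) [N.Normal]
    (hN : Nat.card ↥N = p)
    (h1 : ∀ R : Subgroup G, IsPGroup p ↥R → N ≤ R → ∀ n ∈ N, ∀ u ∈ R, n * u = u * n)
    (h2 : ∀ R : Subgroup G, IsPGroup p ↥R → N < R → ∀ n ∈ N, ∃ w ∈ R, w ^ p = n)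
    (Abar : Subgroup (G ⧸ N)) (hab : IsMulCommutative ↥Abar) (hdiv : p ∣ Nat.card ↥Abar) :
    ∃ R K : Subgroup G, IsPGroup p ↥R ∧ N < R ∧
      Nat.card ↥R = p * p ^ (Nat.card ↥Abar).factorization p ∧
      IsMulCommutative ↥K ∧ Nat.card ↥K * p ^ (Nat.card ↥Abar).factorization p = Nat.card ↥Abar ∧
      R ⊔ K = Abar.comap (QuotientGroup.mk' N) ∧ (∀ k ∈ K, ∀ u ∈ R, k * u = u * k) := by
  classical
  set π := QuotientGroup.mk' N with hπ
  have hsurj : Function.Surjective π := QuotientGroup.mk'_surjective N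
  set v := (Nat.card ↥Abar).factorization p with hv
  have hcard0 : Nat.card ↥Abar ≠ 0 := Nat.card_pos.ne'
  have hvpos : 0 < v := hp.out.factorization_pos_of_dvd hcard0 hdiv
  have hcommA : ∀ a b : ↥Abar, a * b = b * a := fun a b => hab.is_comm.comm a b
  let S' : Sylow p ↥Abar := default
  haveI hS'n : (S' : Subgroup ↥Abar).Normal := by
    refine ⟨fun n hn g => ?_⟩
    have : g * n * g⁻¹ = n := by rw [hcommA g n]; group
    rw [this]; exact hn
  obtain ⟨T', hT'⟩ := Subgroup.exists_right_complement'_of_coprime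
    (N := (S' : Subgroup ↥Abar)) S'.card_coprime_index
  have hS'card : Nat.card ↥(S' : Subgroup ↥Abar) = p ^ v := S'.card_eq_multiplicity
  have hT'card : Nat.card ↥T' = (S' : Subgroup ↥Abar).index := (hT'.symm.index_eq_card).symm
  have hcopT : p.Coprime (Nat.card ↥T') := by
    have h := S'.card_coprime_index
    rw [hS'card, ← hT'card] at h
    exact Nat.Coprime.coprime_dvd_left (dvd_pow_self p hvpos.ne') h
  set Sbar : Subgroup (G ⧸ N) := (S' : Subgroup ↥Abar).map Abar.subtype with hSbar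
  set Tbar : Subgroup (G ⧸ N) := T'.map Abar.subtype with hTbar
  have hSle : Sbar ≤ Abar := by
    rintro _ ⟨x, -, rfl⟩; exact x.2
  have hTle : Tbar ≤ Abar := by
    rintro _ ⟨x, -, rfl⟩; exact x.2
  have hsup : Sbar ⊔ Tbar = Abar := by
    rw [hSbar, hTbar, ← Subgroup.map_sup, hT'.sup_eq_top]
    ext x
    constructor
    · rintro ⟨y, -, rfl⟩; exact y.2
    · intro hx; exact ⟨⟨x, hx⟩, Subgroup.mem_top _, rfl⟩
  have hScard : Nat.card ↥Sbar = p ^ v := by
    rw [hSbar, Subgroup.card_map_of_injective Abar.subtype_injective, hS'card]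
  have hTcard : Nat.card ↥Tbar = Nat.card ↥T' := by
    rw [hTbar, Subgroup.card_map_of_injective Abar.subtype_injective]
  have hTab : IsMulCommutative ↥Tbar := by
    refine ⟨⟨fun a b => Subtype.ext ?_⟩⟩
    have := hcommA ⟨a.1, hTle a.2⟩ ⟨b.1, hTle b.2⟩
    have h' := congrArg Subtype.val this
    simpa using h'
  -- R
  set R : Subgroup G := Sbar.comap π with hR
  have hRcard : Nat.card ↥R = p * p ^ v := by
    rw [hR, card_comap_mk', hN, hScard]
  have hRp : IsPGroup p ↥R := IsPGroup.of_card (n := v + 1) (by rw [hRcard, pow_succ']; )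
  have hNR : N ≤ R := le_comap_mk' N Sbar
  have hNR' : N < R := by
    refine lt_of_le_of_ne hNR ?_
    intro h
    have : Nat.card ↥N = Nat.card ↥R := by rw [h]
    rw [hN, hRcard] at this
    have h2 : 1 < p ^ v := Nat.one_lt_pow hvpos.ne' hp.out.one_lt
    have h3 : p * 1 < p * p ^ v := Nat.mul_lt_mul_of_pos_left h2 hp.out.pos
    omega
  -- K
  obtain ⟨K, hKab, hKcard, hKmap, hKN⟩ := exists_lift_of_coprime N Tbar hTab
    (by rw [hN, hTcard]; exact hcopT)
  have hRmap : R.map π = Sbar := Subgroup.map_comap_eq_self_of_surjective hsurj Sbar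
  have hkerπ : π.ker = N := QuotientGroup.ker_mk' N
  refine ⟨R, K, hRp, hNR', hRcard, hKab, ?_, ?_, ?_⟩
  · rw [hKcard, hTcard, ← hS'card, mul_comm]
    exact hT'.card_mul_card
  · have h3 : (R ⊔ K).map π = Abar := by
      rw [Subgroup.map_sup, hRmap, hKmap, hsup]
    have h4 := Subgroup.comap_map_eq π (R ⊔ K)
    rw [h3, hkerπ] at h4
    rw [h4]
    exact (sup_eq_left.mpr (hNR.trans le_sup_left)).symm
  · intro k hk u hu
    have hπk : π k ∈ Abar := hTle (by rw [← hKmap]; exact Subgroup.mem_map_of_mem π hk)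
    have hconj := conj_eq_of_coprime p R N k ?_ (h1 R hRp hNR) ?_ (h2 R hRp hNR') ?_ u hu
    · calc k * u = k * (k⁻¹ * u * k) := by rw [hconj]
        _ = u * k := by group
    · intro w hw
      have hπw : π w ∈ Abar := hSle (by rw [← hRmap]; exact Subgroup.mem_map_of_mem π hw)
      have hc := congrArg Subtype.val (hcommA ⟨π w, hπw⟩ ⟨π k, hπk⟩)
      simp only [Subgroup.coe_mul] at hc
      have : π (w⁻¹ * (k⁻¹ * w * k)) = 1 := by
        rw [map_mul, map_mul, map_mul, map_inv, map_inv, mul_assoc, hc]; group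
      have h5 : w⁻¹ * (k⁻¹ * w * k) ∈ π.ker := this
      rwa [hkerπ] at h5
    · intro n hn
      have := pow_card_eq_one' (G := ↥N) (x := ⟨n, hn⟩)
      rw [hN] at this
      exact congrArg Subtype.val this
    · have h5 : orderOf k ∣ Nat.card ↥K := Subgroup.orderOf_dvd_natCard K hk
      rw [hKcard, hTcard] at h5
      exact (Nat.Coprime.coprime_dvd_left h5 hcopT.symm)

end Cfsg.Agent.Lib.Helper22.BStar
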