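import Cfsg.Agent.Lib.Helper22.BStarC

/-!
helper22: `BStar` passes to the quotient by a normal subgroup of prime order under Sylow conditions.
-/

set_option autoImplicit false

namespace Cfsg.Agent.Lib.Helper22.BStar

open Subgroup

variable {G : Type*} [Group G] [Finite G]

theorem sylow_smul_eq_map (p : ℕ) (P : Sylow p G) (g : G) :
    ((g • P : Sylow p G) : Subgroup G) = (P : Subgroup G).map (MulAut.conj g).toMonoidHom := by
  ext x
  rw [Sylow.coe_subgroup_smul, Subgroup.mem_pointwise_smul_iff_inv_smul_mem, MulAut.smul_def,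
    MulAut.conj_inv_apply, Subgroup.mem_map]
  constructor
  · intro h
    exact ⟨g⁻¹ * x * g, h, by simp [MulAut.conj_apply]; group⟩
  · rintro ⟨y, hy, rfl⟩
    simp only [MulEquiv.coe_toMonoidHom, MulAut.conj_apply]
    have : g⁻¹ * (g * y * g⁻¹) * g = y := by group
    rw [this]; exact hy

/-- two subgroups of Sylow order inside a subgroup `C` are conjugate by an element of `C` -/
theorem exists_conj_in_of_card (p : ℕ) [hp : Fact p.Prime] (C X Y : Subgroup G) (hX : X ≤ C) (hY : Y ≤ C)
    (hXc : Nat.card ↥X = p ^ (Nat.card G).factorization p)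
    (hYc : Nat.card ↥Y = p ^ (Nat.card G).factorization p) :
    ∃ c ∈ C, X.map (MulAut.conj c).toMonoidHom = Y := by
  classical
  have hfac : (Nat.card ↥C).factorization p = (Nat.card G).factorization p := by
    apply le_antisymm
    · have hdvd : Nat.card ↥C ∣ Nat.card G := Subgroup.card_subgroup_dvd_card C
      exact (Nat.factorization_le_iff_dvd Nat.card_pos.ne' Nat.card_pos.ne').mpr hdvd p
    · have hdvd : Nat.card ↥X ∣ Nat.card ↥C := Subgroup.card_dvd_of_le hX
      rw [hXc] at hdvd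
      exact (hp.out.pow_dvd_iff_le_factorization Nat.card_pos.ne').mp hdvd
  have hX' : Nat.card ↥(X.subgroupOf C) = p ^ (Nat.card ↥C).factorization p := by
    rw [hfac, ← hXc]
    exact Nat.card_congr (Subgroup.subgroupOfEquivOfLe hX).toEquiv
  have hY' : Nat.card ↥(Y.subgroupOf C) = p ^ (Nat.card ↥C).factorization p := by
    rw [hfac, ← hYc]
    exact Nat.card_congr (Subgroup.subgroupOfEquivOfLe hY).toEquiv
  let QX : Sylow p ↥C := Sylow.ofCard (X.subgroupOf C) hX'
  let QY : Sylow p ↥C := Sylow.ofCard (Y.subgroupOf C) hY'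
  obtain ⟨c, hc⟩ := MulAction.exists_smul_eq ↥C QX QY
  refine ⟨(c : G), c.2, ?_⟩
  have hle : X.map (MulAut.conj (c : G)).toMonoidHom ≤ Y := by
    rintro _ ⟨x, hx, rfl⟩
    simp only [MulEquiv.coe_toMonoidHom, MulAut.conj_apply]
    have hxQ : (⟨x, hX hx⟩ : ↥C) ∈ (QX : Subgroup ↥C) := Subgroup.mem_subgroupOf.mpr hx
    have h1 : c * ⟨x, hX hx⟩ * c⁻¹ ∈ ((c • QX : Sylow p ↥C) : Subgroup ↥C) := by
      rw [sylow_smul_eq_map]
      exact ⟨⟨x, hX hx⟩, hxQ, by simp [MulAut.conj_apply]⟩
    rw [hc] at h1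
    have h2 := Subgroup.mem_subgroupOf.mp (show c * ⟨x, hX hx⟩ * c⁻¹ ∈ Y.subgroupOf C from h1)
    simpa using h2
  apply Subgroup.eq_of_le_of_card_ge hle
  rw [Subgroup.card_map_of_injective (MulAut.conj (c : G)).injective, hXc, hYc]

theorem bstar_quot_of_card_prime (hB : BStar G) (p : ℕ) [hp : Fact p.Prime] (N : Subgroup G)
    [N.Normal] (hN : Nat.card ↥N = p)
    (h1 : ∀ R : Subgroup G, IsPGroup p ↥R → N ≤ R → ∀ n ∈ N, ∀ u ∈ R, n * u = u * n)
    (h2 : ∀ R : Subgroup G, IsPGroup p ↥R → N < R → ∀ n ∈ N, ∃ w ∈ R, w ^ p = n)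
    (h3 : ∀ R : Subgroup G, IsPGroup p ↥R → N < R →
        IsMulCommutative ↥R ∨ Nat.card ↥R = p ^ (Nat.card G).factorization p) :
    BStar (G ⧸ N) := by
  classical
  apply bstar_quot_of_lift
  intro Abar Bbar hA hB' hAB
  set π := QuotientGroup.mk' N with hπ
  have hsurj : Function.Surjective π := QuotientGroup.mk'_surjective N
  by_cases hdiv : p ∣ Nat.card ↥Abar
  · have hdivB : p ∣ Nat.card ↥Bbar := hAB ▸ hdiv
    obtain ⟨RA, KA, hRAp, hNRA, hRAcard, hKAab, hKAcard, hsupA, hcomA⟩ :=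
      exists_decomp p N hN h1 h2 Abar hA hdiv
    obtain ⟨RB, KB, hRBp, hNRB, hRBcard, hKBab, hKBcard, hsupB, hcomB⟩ :=
      exists_decomp p N hN h1 h2 Bbar hB' hdivB
    rw [← hAB] at hRBcard hKBcard
    have hRcard : Nat.card ↥RA = Nat.card ↥RB := by rw [hRAcard, hRBcard]
    have hKcard : Nat.card ↥KA = Nat.card ↥KB := by
      have hpos : 0 < p ^ (Nat.card ↥Abar).factorization p := pow_pos hp.out.pos _
      exact Nat.eq_of_mul_eq_mul_right hpos (hKAcard.trans hKBcard.symm)
    refine ⟨Abar.comap π, Bbar.comap π, Subgroup.map_comap_eq_self_of_surjective hsurj _,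
      Subgroup.map_comap_eq_self_of_surjective hsurj _, ?_⟩
    have hcase : (IsMulCommutative ↥RA ∧ IsMulCommutative ↥RB) ∨
        (Nat.card ↥RA = p ^ (Nat.card G).factorization p ∧
          Nat.card ↥RB = p ^ (Nat.card G).factorization p) := by
      rcases h3 RA hRAp hNRA with ha | ha
      · rcases h3 RB hRBp hNRB with hb | hb
        · exact Or.inl ⟨ha, hb⟩
        · exact Or.inr ⟨hRcard.trans hb, hb⟩
      · exact Or.inr ⟨ha, hRcard.symm.trans ha⟩
    rcases hcase with ⟨hRAab, hRBab⟩ | ⟨hRAs, hRBs⟩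
    · have hAc : IsMulCommutative ↥(Abar.comap π) := by
        rw [← hsupA]; exact isMulCommutative_sup RA KA hRAab hKAab hcomA
      have hBc : IsMulCommutative ↥(Bbar.comap π) := by
        rw [← hsupB]; exact isMulCommutative_sup RB KB hRBab hKBab hcomB
      exact hB _ _ hAc hBc (by rw [hπ, card_comap_mk', card_comap_mk', hAB])
    · -- Sylow case
      obtain ⟨g1, -, hg1⟩ := exists_conj_in_of_card p ⊤ RA RB le_top le_top hRAs hRBs
      set KA' : Subgroup G := KA.map (MulAut.conj g1).toMonoidHom with hKA'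
      have hKA'ab : IsMulCommutative ↥KA' := Subgroup.map_isMulCommutative KA _
      have hKA'card : Nat.card ↥KA' = Nat.card ↥KB := by
        rw [hKA', Subgroup.card_map_of_injective (MulAut.conj g1).injective, hKcard]
      have hcomA' : ∀ k ∈ KA', ∀ u ∈ RB, k * u = u * k := by
        rintro _ ⟨k, hk, rfl⟩ u hu
        rw [← hg1] at hu
        obtain ⟨u0, hu0, rfl⟩ := hu
        simp only [MulEquiv.coe_toMonoidHom, MulAut.conj_apply]
        have := hcomA k hk u0 hu0
        calc g1 * k * g1⁻¹ * (g1 * u0 * g1⁻¹) = g1 * (k * u0) * g1⁻¹ := by group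
          _ = g1 * (u0 * k) * g1⁻¹ := by rw [this]
          _ = g1 * u0 * g1⁻¹ * (g1 * k * g1⁻¹) := by group
      obtain ⟨g, hg⟩ := hB KA' KB hKA'ab hKBab hKA'card
      set C : Subgroup G := centralizer (KB : Set G) with hC
      have hRBC : RB ≤ C := by
        intro u hu
        rw [hC, mem_centralizer_iff]
        intro k hk
        exact hcomB k hk u hu
      have hRBgC : RB.map (MulAut.conj g).toMonoidHom ≤ C := by
        rintro _ ⟨u, hu, rfl⟩
        rw [hC, mem_centralizer_iff]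
        intro k hk
        rw [hg] at hk
        obtain ⟨k0, hk0, rfl⟩ := hk
        simp only [MulEquiv.coe_toMonoidHom, MulAut.conj_apply]
        have := hcomA' k0 hk0 u hu
        calc g * k0 * g⁻¹ * (g * u * g⁻¹) = g * (k0 * u) * g⁻¹ := by group
          _ = g * (u * k0) * g⁻¹ := by rw [this]
          _ = g * u * g⁻¹ * (g * k0 * g⁻¹) := by group
      obtain ⟨c, hcC, hc⟩ := exists_conj_in_of_card p C (RB.map (MulAut.conj g).toMonoidHom) RB
        hRBgC hRBC
        (by rw [Subgroup.card_map_of_injective (MulAut.conj g).injective, hRBs]) hRBs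
      have hKBc : KB.map (MulAut.conj c).toMonoidHom = KB := by
        ext x
        rw [Subgroup.mem_map]
        constructor
        · rintro ⟨k, hk, rfl⟩
          simp only [MulEquiv.coe_toMonoidHom, MulAut.conj_apply]
          have := (mem_centralizer_iff.mp hcC) k hk
          have h' : c * k * c⁻¹ = k := by rw [← this]; group
          rw [h']; exact hk
        · intro hx
          refine ⟨x, hx, ?_⟩
          simp only [MulEquiv.coe_toMonoidHom, MulAut.conj_apply]
          have := (mem_centralizer_iff.mp hcC) x hx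
          rw [← this]; group
      refine ⟨c * g * g1, ?_⟩
      rw [← hsupA, ← hsupB, ← map_conj_mul, ← map_conj_mul, Subgroup.map_sup, hg1, ← hKA',
        Subgroup.map_sup, ← hg, Subgroup.map_sup, hc, hKBc]
  · -- coprime case
    have hdivB : ¬ p ∣ Nat.card ↥Bbar := hAB ▸ hdiv
    obtain ⟨A₀, hA₀ab, hA₀card, hA₀map, -⟩ := exists_lift_of_coprime N Abar hA
      (by rw [hN]; exact (Nat.Prime.coprime_iff_not_dvd hp.out).mpr hdiv)
    obtain ⟨B₀, hB₀ab, hB₀card, hB₀map, -⟩ := exists_lift_of_coprime N Bbar hB'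
      (by rw [hN]; exact (Nat.Prime.coprime_iff_not_dvd hp.out).mpr hdivB)
    exact ⟨A₀, B₀, hA₀map, hB₀map, hB A₀ B₀ hA₀ab hB₀ab (by rw [hA₀card, hB₀card, hAB])⟩

end Cfsg.Agent.Lib.Helper22.BStar
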