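import Mathlib

/-!
helper22: elementary facts on `QuaternionGroup n` used for groups whose abelian subgroups of
equal order are conjugate.
-/

set_option autoImplicit false

namespace Cfsg.Agent.Lib.Helper22.BStar

open QuaternionGroup

/-- a square in the generalized quaternion group is never of the form `xa i` -/
theorem quat_sq_ne_xa (n : ℕ) (y : QuaternionGroup n) (i : ZMod (2 * n)) : y * y ≠ xa i := by
  cases y with
  | a j => rw [a_mul_a]; exact fun h => by cases h
  | xa j => rw [xa_mul_xa]; exact fun h => by cases h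

/-- the powers of `xa 0` -/
theorem quat_xa_zero_pow (n : ℕ) (j : ℕ) :
    ((xa 0 : QuaternionGroup n) ^ j = a 0 ∨ (xa 0 : QuaternionGroup n) ^ j = xa 0) ∨
      ((xa 0 : QuaternionGroup n) ^ j = a n ∨ (xa 0 : QuaternionGroup n) ^ j = xa n) := by
  have h2n : ((n : ZMod (2 * n)) + n) = 0 := by
    have : ((2 * n : ℕ) : ZMod (2 * n)) = 0 := ZMod.natCast_self _
    rw [← this]; push_cast; ring
  induction j with
  | zero => left; left; rw [pow_zero, one_def]
  | succ j ih =>
    rw [pow_succ]
    rcases ih with (h | h) | (h | h)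
    · left; right; rw [h, a_mul_xa]; simp
    · right; left; rw [h, xa_mul_xa]; simp
    · right; right; rw [h, a_mul_xa]; congr 1
      have : (0 : ZMod (2 * n)) - n = n := by
        rw [zero_sub, neg_eq_iff_add_eq_zero]; exact h2n
      exact this
    · left; left; rw [h, xa_mul_xa]; simp

/-- if `y ^ 2` is a power of `xa 0` then `y ^ 4 = 1` -/
theorem quat_pow_four_of_sq_eq (n : ℕ) (y : QuaternionGroup n) (j : ℕ)
    (h : y * y = (xa 0 : QuaternionGroup n) ^ j) : y ^ 4 = 1 := by
  have h2n : ((n : ZMod (2 * n)) + n) = 0 := by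
    have : ((2 * n : ℕ) : ZMod (2 * n)) = 0 := ZMod.natCast_self _
    rw [← this]; push_cast; ring
  have h4 : y ^ 4 = (y * y) * (y * y) := by
    rw [show (4 : ℕ) = 2 + 2 from rfl, pow_add, pow_two]
  rcases quat_xa_zero_pow n j with (h' | h') | (h' | h')
  · rw [h4, h, h', a_mul_a, add_zero, a_zero]
  · exact absurd (h.trans h') (quat_sq_ne_xa n y 0)
  · rw [h4, h, h', a_mul_a, h2n, a_zero]
  · exact absurd (h.trans h') (quat_sq_ne_xa n y n)

/-- a subgroup containing all `xa i` is everything -/
theorem quat_eq_top (n : ℕ) (H : Subgroup (QuaternionGroup n)) (h : ∀ i, xa i ∈ H) : H = ⊤ := by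
  rw [eq_top_iff]
  intro y _
  cases y with
  | a j =>
    have : (a j : QuaternionGroup n) = xa 0 * xa (j - (n : ZMod (2 * n))) := by
      rw [xa_mul_xa]; congr 1; ring
    rw [this]; exact H.mul_mem (h 0) (h _)
  | xa j => exact h j

/-- the generalized quaternion groups of order at least 8 are not commutative -/
theorem quat_not_comm (n : ℕ) (hn : 2 ≤ n) :
    (a 1 : QuaternionGroup n) * xa 0 ≠ xa 0 * a 1 := by
  rw [a_mul_xa, xa_mul_a]
  intro h
  have h' : (0 : ZMod (2 * n)) - 1 = 0 + 1 := by injection h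
  have h2 : ((2 : ℕ) : ZMod (2 * n)) = 0 := by
    have : (2 : ZMod (2 * n)) = (0 + 1) - (0 - 1) := by ring
    push_cast; rw [this, h']; ring
  rw [ZMod.natCast_eq_zero_iff] at h2
  have := Nat.le_of_dvd (by norm_num) h2
  omega

end Cfsg.Agent.Lib.Helper22.BStar
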