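import Cfsg.Agent.Lib.Helper22.BStarE
import Cfsg.Agent.Lib.Helper22.BStarA
import Cfsg.Agent.S0016

/-!
helper22: consequences of "every subgroup of order `p` equals the normal subgroup `N`".
-/

set_option autoImplicit false

namespace Cfsg.Agent.Lib.Helper22.BStar

open Subgroup

variable {G : Type*} [Group G] [Finite G]

omit [Finite G] in
theorem map_conj_eq_of_normal (N : Subgroup G) [hN : N.Normal] (g : G) :
    N.map (MulAut.conj g).toMonoidHom = N := by
  ext x
  rw [Subgroup.mem_map]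
  constructor
  · rintro ⟨n, hn, rfl⟩
    simp only [MulEquiv.coe_toMonoidHom, MulAut.conj_apply]
    exact hN.conj_mem n hn g
  · intro hx
    refine ⟨g⁻¹ * x * g, ?_, ?_⟩
    · have := hN.conj_mem x hx g⁻¹
      simpa using this
    · simp only [MulEquiv.coe_toMonoidHom, MulAut.conj_apply]
      group

/-- in a `BStar` group a normal subgroup of prime order is the only subgroup of that order -/
theorem eq_of_card_prime (hB : BStar G) (p : ℕ) [hp : Fact p.Prime] (N : Subgroup G) [N.Normal]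
    (hN : Nat.card ↥N = p) (H : Subgroup G) (hH : Nat.card ↥H = p) : H = N := by
  haveI hNc : IsCyclic ↥N := isCyclic_of_prime_card hN
  haveI hHc : IsCyclic ↥H := isCyclic_of_prime_card hH
  obtain ⟨g, hg⟩ := hB N H inferInstance inferInstance (hN.trans hH.symm)
  rw [hg, map_conj_eq_of_normal]

omit [Finite G] in
theorem huniq_sub (p : ℕ) (N : Subgroup G)
    (hU : ∀ H : Subgroup G, Nat.card ↥H = p → H = N) (R : Subgroup G) :
    ∀ H K : Subgroup ↥R, Nat.card ↥H = p → Nat.card ↥K = p → H = K := by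
  intro H K hH hK
  have h1 := hU (H.map R.subtype)
    (by rw [Subgroup.card_map_of_injective R.subtype_injective, hH])
  have h2 := hU (K.map R.subtype)
    (by rw [Subgroup.card_map_of_injective R.subtype_injective, hK])
  exact Subgroup.map_injective R.subtype_injective (h1.trans h2.symm)

theorem cyclic_or_quat (p : ℕ) [Fact p.Prime] (N : Subgroup G)
    (hU : ∀ H : Subgroup G, Nat.card ↥H = p → H = N) (R : Subgroup G) (hR : IsPGroup p ↥R) :
    IsCyclic ↥R ∨ (p = 2 ∧ ∃ n : ℕ, Nonempty (↥R ≃* QuaternionGroup (2 ^ n))) :=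
  Cfsg.Agent.S0016.result p hR (huniq_sub p N hU R)

/-- if `N` is the only subgroup of order `p`, its elements are `p`-th powers in any larger `p`-subgroup -/
theorem exists_pow_eq_of_unique (p : ℕ) [hp : Fact p.Prime] (N : Subgroup G)
    (hU : ∀ H : Subgroup G, Nat.card ↥H = p → H = N) (R : Subgroup G) (hR : IsPGroup p ↥R)
    (hNR : N < R) : ∀ n ∈ N, ∃ w ∈ R, w ^ p = n := by
  obtain ⟨x, hxR, hxN⟩ := SetLike.exists_of_lt hNR
  obtain ⟨k, hk⟩ := hR ⟨x, hxR⟩
  have hk' : x ^ p ^ k = 1 := by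
    have := congrArg Subtype.val hk
    simpa using this
  obtain ⟨j, -, hj⟩ := (Nat.dvd_prime_pow hp.out).mp (orderOf_dvd_of_pow_eq_one hk')
  have hx1 : x ≠ 1 := fun h => hxN (h ▸ N.one_mem)
  have hj0 : j ≠ 0 := by
    rintro rfl
    rw [pow_zero, orderOf_eq_one_iff] at hj
    exact hx1 hj
  have hj1 : j ≠ 1 := by
    rintro rfl
    rw [pow_one] at hj
    have : zpowers x = N := hU _ (by rw [Nat.card_zpowers, hj])
    exact hxN (this ▸ mem_zpowers x)
  have hj2 : 2 ≤ j := by omega
  set w0 := x ^ p ^ (j - 2) with hw0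
  set y := w0 ^ p with hy
  have hyx : y = x ^ p ^ (j - 1) := by
    rw [hy, hw0, ← pow_mul, ← pow_succ]
    congr 2; omega
  have hyord : orderOf y = p := by
    rw [hyx, orderOf_pow_of_dvd (pow_ne_zero _ hp.out.ne_zero)
      (by rw [hj]; exact pow_dvd_pow p (by omega)), hj]
    have : p ^ j = p ^ (j - 1) * p := by rw [← pow_succ]; congr 1; omega
    rw [this, Nat.mul_div_cancel_left _ (pow_pos hp.out.pos _)]
  have hzy : zpowers y = N := hU _ (by rw [Nat.card_zpowers, hyord])
  have hw0R : w0 ∈ R := R.pow_mem hxR _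
  intro n hn
  rw [← hzy] at hn
  obtain ⟨i, rfl⟩ := mem_zpowers_iff.mp hn
  refine ⟨w0 ^ i, R.zpow_mem hw0R i, ?_⟩
  rw [hy, ← zpow_natCast, ← zpow_natCast, ← zpow_mul, ← zpow_mul, mul_comm]

omit [Finite G] in
/-- a normal subgroup of order two is central -/
theorem central_of_card_two (N : Subgroup G) [hN : N.Normal] (hN2 : Nat.card ↥N = 2) :
    ∀ n ∈ N, ∀ g : G, n * g = g * n := by
  intro n hn g
  obtain ⟨y, -, hy⟩ := (Nat.card_eq_two_iff' (1 : ↥N)).mp hN2
  by_cases h1 : n = 1
  · rw [h1]; simp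
  · have hc : g⁻¹ * n * g ∈ N := by
      have := hN.conj_mem n hn g⁻¹
      simpa using this
    have e1 : (⟨n, hn⟩ : ↥N) = y := hy _ (fun h => h1 (congrArg Subtype.val h))
    have e2 : (⟨g⁻¹ * n * g, hc⟩ : ↥N) = y := hy _ (fun h => by
      have h' : g⁻¹ * n * g = 1 := congrArg Subtype.val h
      apply h1
      have : n = g * (g⁻¹ * n * g) * g⁻¹ := by group
      rw [this, h']; group)
    have h3 : g⁻¹ * n * g = n := congrArg Subtype.val (e2.trans e1.symm)
    calc n * g = g * (g⁻¹ * n * g) := by group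
      _ = g * n := by rw [h3]

omit [Finite G] in
theorem not_comm_of_quat (R : Subgroup G) (n : ℕ) (hn : 1 ≤ n)
    (e : ↥R ≃* QuaternionGroup (2 ^ n)) : ¬ IsMulCommutative ↥R := by
  intro h
  have h2 : 2 ≤ 2 ^ n := by
    calc 2 = 2 ^ 1 := by norm_num
      _ ≤ 2 ^ n := Nat.pow_le_pow_right (by norm_num) hn
  apply quat_not_comm (2 ^ n) h2
  have := h.is_comm.comm (e.symm (QuaternionGroup.a 1)) (e.symm (QuaternionGroup.xa 0))
  have h' := congrArg e this
  simpa using h'

omit [Finite G] in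
theorem card_of_quat (R : Subgroup G) (n : ℕ) (e : ↥R ≃* QuaternionGroup (2 ^ n)) :
    Nat.card ↥R = 4 * 2 ^ n := by
  rw [Nat.card_congr e.toEquiv, Nat.card_eq_fintype_card, QuaternionGroup.card]

end Cfsg.Agent.Lib.Helper22.BStar
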