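import Cfsg.Agent.Lib.Helper22.BStarD
import Cfsg.Agent.Lib.Helper22.BStarF
import Cfsg.Agent.S3909

/-!
helper22: `BStar` passes to the quotient by a nontrivial normal elementary abelian subgroup,
provided (for the prime two) no subgroup is generalized quaternion of order at least 16.
-/

set_option autoImplicit false

namespace Cfsg.Agent.Lib.Helper22.BStar

open Subgroup

variable {G : Type*} [Group G] [Finite G]

theorem bstar_quot_of_sylow_eq (hB : BStar G) (p : ℕ) [hp : Fact p.Prime] (N : Subgroup G)
    [N.Normal] (P : Sylow p G) (hP : (P : Subgroup G) = N) : BStar (G ⧸ N) := by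
  have hcop : (Nat.card ↥N).Coprime N.index := by
    have := P.card_coprime_index
    rwa [hP] at this
  have hcop' : ∀ Abar : Subgroup (G ⧸ N), (Nat.card ↥N).Coprime (Nat.card ↥Abar) := by
    intro Abar
    apply Nat.Coprime.coprime_dvd_right _ hcop
    rw [Subgroup.index_eq_card]
    exact Subgroup.card_subgroup_dvd_card Abar
  apply bstar_quot_of_lift
  intro Abar Bbar hA hB' hAB
  obtain ⟨A₀, hA₀ab, hA₀card, hA₀map, -⟩ := exists_lift_of_coprime N Abar hA (hcop' Abar)
  obtain ⟨B₀, hB₀ab, hB₀card, hB₀map, -⟩ := exists_lift_of_coprime N Bbar hB' (hcop' Bbar)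
  exact ⟨A₀, B₀, hA₀map, hB₀map, hB A₀ B₀ hA₀ab hB₀ab (by rw [hA₀card, hB₀card, hAB])⟩

theorem bstar_quot_of_exponent (hB : BStar G) (p : ℕ) [hp : Fact p.Prime] (N : Subgroup G)
    [N.Normal] (hNab : IsMulCommutative ↥N) (hNexp : ∀ x ∈ N, x ^ p = 1) (hN1 : N ≠ ⊥)
    (hstar : p = 2 → ∀ (Q : Subgroup G) (k : ℕ), 2 ≤ k →
      IsEmpty (↥Q ≃* QuaternionGroup (2 ^ k))) : BStar (G ⧸ N) := by
  classical
  have hNp : IsPGroup p ↥N := by
    intro x
    refine ⟨1, ?_⟩
    rw [pow_one]
    exact Subtype.ext (by simpa using hNexp x x.2)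
  obtain ⟨t, ht⟩ := IsPGroup.iff_card.mp hNp
  have ht0 : t ≠ 0 := by
    rintro rfl
    rw [pow_zero] at ht
    exact hN1 (Subgroup.card_eq_one.mp ht)
  by_cases ht1 : t = 1
  · subst ht1
    rw [pow_one] at ht
    have hU : ∀ H : Subgroup G, Nat.card ↥H = p → H = N :=
      fun H hH => eq_of_card_prime hB p N ht H hH
    have hcq := cyclic_or_quat p N hU
    -- abelian unless quaternion of order 8 and Sylow
    have h3 : ∀ R : Subgroup G, IsPGroup p ↥R → N < R →
        IsMulCommutative ↥R ∨ Nat.card ↥R = p ^ (Nat.card G).factorization p := by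
      intro R hR hNR
      rcases hcq R hR with hc | ⟨hp2, n, ⟨e⟩⟩
      · left; infer_instance
      · subst hp2
        by_cases hn0 : n = 0
        · subst hn0
          left
          haveI : IsCyclic (QuaternionGroup (2 ^ 0)) := by
            rw [pow_zero]; exact QuaternionGroup.quaternionGroup_one_isCyclic
          haveI : IsCyclic ↥R := isCyclic_of_surjective e.symm e.symm.surjective
          infer_instance
        · right
          have hn1 : 1 ≤ n := Nat.one_le_iff_ne_zero.mpr hn0
          have hn2 : n < 2 := by
            by_contra hcon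
            exact (hstar rfl R n (by omega)).false e
          have hn : n = 1 := by omega
          subst hn
          have hRcard : Nat.card ↥R = 8 := by rw [card_of_quat R 1 e]; norm_num
          obtain ⟨P, hRP⟩ := hR.exists_le_sylow
          have hPcard : Nat.card ↥(P : Subgroup G) = 2 ^ (Nat.card G).factorization 2 :=
            P.card_eq_multiplicity
          rw [← hPcard]
          rcases hcq (P : Subgroup G) P.isPGroup' with hPc | ⟨-, m, ⟨e'⟩⟩
          · exfalso
            apply not_comm_of_quat R 1 le_rfl e
            have hPm : IsMulCommutative ↥(P : Subgroup G) := inferInstance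
            refine ⟨⟨fun a b => Subtype.ext ?_⟩⟩
            have := hPm.is_comm.comm (⟨a.1, hRP a.2⟩ : ↥(P : Subgroup G)) ⟨b.1, hRP b.2⟩
            have h' : (a : G) * (b : G) = (b : G) * (a : G) := congrArg Subtype.val this
            exact h'
          · have hm2 : m < 2 := by
              by_contra hcon
              exact (hstar rfl (P : Subgroup G) m (by omega)).false e'
            have hPc : Nat.card ↥(P : Subgroup G) = 4 * 2 ^ m := card_of_quat _ m e'
            have hle : Nat.card ↥R ≤ Nat.card ↥(P : Subgroup G) :=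
              Nat.le_of_dvd Nat.card_pos (Subgroup.card_dvd_of_le hRP)
            have hm : m = 0 ∨ m = 1 := by omega
            rcases hm with rfl | rfl
            · rw [hPc, hRcard] at hle; norm_num at hle
            · rw [hPc, hRcard]; norm_num
    have h1 : ∀ R : Subgroup G, IsPGroup p ↥R → N ≤ R → ∀ n ∈ N, ∀ u ∈ R, n * u = u * n := by
      intro R hR hNR n hn u hu
      by_cases hp2 : p = 2
      · subst hp2
        exact central_of_card_two N ht n hn u
      · rcases hcq R hR with hc | ⟨hp2', -⟩
        · have hRm : IsMulCommutative ↥R := inferInstance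
          have := hRm.is_comm.comm (⟨n, hNR hn⟩ : ↥R) ⟨u, hu⟩
          exact congrArg Subtype.val this
        · exact absurd hp2' hp2
    exact bstar_quot_of_card_prime hB p N ht h1
      (fun R hR hNR => exists_pow_eq_of_unique p N hU R hR hNR) h3
  · have ht2 : 2 ≤ t := by omega
    let P : Sylow p G := default
    have hP : (P : Subgroup G) = N :=
      (Cfsg.Agent.S3909.result hB N).2 p t ht2 ht ⟨hNab, hNexp⟩ P
    exact bstar_quot_of_sylow_eq hB p N P hP

end Cfsg.Agent.Lib.Helper22.BStar
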