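import Cfsg.Agent.Lib.Helper22.BStarF

/-!
helper22: a `BStar` group has no normal generalized quaternion subgroup of order at least 16.
-/

set_option autoImplicit false

namespace Cfsg.Agent.Lib.Helper22.BStar

open Subgroup QuaternionGroup

theorem quat_a_sq (n : ℕ) (i : ZMod (2 * n)) : (a i : QuaternionGroup n) ^ 2 = a (2 * i) := by
  rw [sq, a_mul_a]; congr 1; ring

theorem quat_a_pow_four (n : ℕ) (i : ZMod (2 * n)) : (a i : QuaternionGroup n) ^ 4 = a (4 * i) := by
  rw [show (4 : ℕ) = 2 * 2 from rfl, pow_mul, quat_a_sq, quat_a_sq]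
  congr 1; ring

theorem quat_a_n_ne_one (n : ℕ) [NeZero n] : (a (n : ZMod (2 * n)) : QuaternionGroup n) ≠ 1 := by
  rw [one_def]
  intro h
  have h' : (n : ZMod (2 * n)) = 0 := by injection h
  rw [ZMod.natCast_eq_zero_iff] at h'
  have hn : 0 < n := Nat.pos_of_ne_zero (NeZero.ne n)
  have := Nat.le_of_dvd hn h'
  omega

theorem quat_two_n (n : ℕ) : (2 : ZMod (2 * n)) * (n : ZMod (2 * n)) = 0 := by
  have : ((2 * n : ℕ) : ZMod (2 * n)) = 0 := ZMod.natCast_self _
  rw [← this]; push_cast; ring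

theorem quat_orderOf_a_half (n j : ℕ) [NeZero n] (h : 4 * j = n) :
    orderOf (a ((2 * j : ℕ) : ZMod (2 * n)) : QuaternionGroup n) = 4 := by
  haveI : Fact (Nat.Prime 2) := ⟨Nat.prime_two⟩
  have hn : ((4 * j : ℕ) : ZMod (2 * n)) = (n : ZMod (2 * n)) := by rw [h]
  have key := orderOf_eq_prime_pow (p := 2) (n := 1)
    (x := (a ((2 * j : ℕ) : ZMod (2 * n)) : QuaternionGroup n))
  have h1 : ¬ (a ((2 * j : ℕ) : ZMod (2 * n)) : QuaternionGroup n) ^ 2 ^ 1 = 1 := by
    rw [pow_one, quat_a_sq]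
    have : (2 : ZMod (2 * n)) * ((2 * j : ℕ) : ZMod (2 * n)) = (n : ZMod (2 * n)) := by
      rw [← hn]; push_cast; ring
    rw [this]
    exact quat_a_n_ne_one n
  have h2 : (a ((2 * j : ℕ) : ZMod (2 * n)) : QuaternionGroup n) ^ 2 ^ (1 + 1) = 1 := by
    rw [show 2 ^ (1 + 1) = 4 from rfl, quat_a_pow_four]
    have : (4 : ZMod (2 * n)) * ((2 * j : ℕ) : ZMod (2 * n)) = 2 * (n : ZMod (2 * n)) := by
      rw [← hn]; push_cast; ring
    rw [this, quat_two_n, a_zero]
  simpa using key h1 h2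

theorem quat_a_quarter_pow_four_ne (n j : ℕ) [NeZero n] (h : 4 * j = n) :
    (a ((j : ℕ) : ZMod (2 * n)) : QuaternionGroup n) ^ 4 ≠ 1 := by
  rw [quat_a_pow_four]
  have : (4 : ZMod (2 * n)) * ((j : ℕ) : ZMod (2 * n)) = (n : ZMod (2 * n)) := by
    rw [← h]; push_cast; ring
  rw [this]
  exact quat_a_n_ne_one n

theorem quat_a_quarter_sq (n j : ℕ) :
    (a ((j : ℕ) : ZMod (2 * n)) : QuaternionGroup n) * a ((j : ℕ) : ZMod (2 * n)) =
      a ((2 * j : ℕ) : ZMod (2 * n)) := by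
  rw [a_mul_a]; congr 1; push_cast; ring

variable {G : Type*} [Group G] [Finite G]

/-- a `BStar` group has no normal subgroup which is generalized quaternion of order `≥ 16` -/
theorem quat_normal_false (hB : BStar G) (P : Subgroup G) [hPn : P.Normal] (m : ℕ) (hm : 2 ≤ m)
    (e : ↥P ≃* QuaternionGroup (2 ^ m)) : False := by
  classical
  set n := 2 ^ m with hn
  set j := 2 ^ (m - 2) with hj
  have h4j : 4 * j = n := by
    rw [hj, hn, show (4 : ℕ) = 2 ^ 2 from rfl, ← pow_add]; congr 1; omega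
  haveI : NeZero n := ⟨by rw [hn]; positivity⟩
  set u : ↥P := e.symm (a ((j : ℕ) : ZMod (2 * n))) with hu
  set w : ↥P := e.symm (a ((2 * j : ℕ) : ZMod (2 * n))) with hw
  set v : ↥P := e.symm (xa 0) with hv
  have huw : u * u = w := by
    rw [hu, hw, ← map_mul, quat_a_quarter_sq]
  have hword : orderOf (w : G) = 4 := by
    rw [Subgroup.orderOf_coe, hw, MulEquiv.orderOf_eq, quat_orderOf_a_half n j h4j]
  have hvord : orderOf (v : G) = 4 := by
    rw [Subgroup.orderOf_coe, hv, MulEquiv.orderOf_eq, QuaternionGroup.orderOf_xa]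
  have hcard : Nat.card ↥(zpowers (w : G)) = Nat.card ↥(zpowers (v : G)) := by
    rw [Nat.card_zpowers, Nat.card_zpowers, hword, hvord]
  obtain ⟨g, hg⟩ := hB (zpowers (w : G)) (zpowers (v : G)) inferInstance inferInstance hcard
  have hmem : g * (w : G) * g⁻¹ ∈ zpowers (v : G) := by
    rw [hg]
    exact ⟨(w : G), mem_zpowers _, by simp [MulAut.conj_apply]⟩
  rw [← mem_powers_iff_mem_zpowers] at hmem
  obtain ⟨i, hi⟩ := (Submonoid.mem_powers_iff _ _).mp hmem
  -- the conjugate of u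
  set y : ↥P := ⟨g * (u : G) * g⁻¹, hPn.conj_mem _ u.2 g⟩ with hy
  have hyy : y * y = v ^ i := by
    apply Subtype.ext
    show g * (u : G) * g⁻¹ * (g * (u : G) * g⁻¹) = ((v ^ i : ↥P) : G)
    rw [Subgroup.coe_pow, hi]
    have : ((u * u : ↥P) : G) = (w : G) := by rw [huw]
    rw [Subgroup.coe_mul] at this
    rw [← this]; group
  have hey : e y * e y = (xa 0 : QuaternionGroup n) ^ i := by
    rw [← map_mul, hyy, map_pow, hv, MulEquiv.apply_symm_apply]
  have h4 : (e y) ^ 4 = 1 := quat_pow_four_of_sq_eq n (e y) i hey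
  have hy4 : y ^ 4 = 1 := by
    apply e.injective
    rw [map_pow, h4, map_one]
  have hu4G : (u : G) ^ 4 = 1 := by
    have h1 : ((y ^ 4 : ↥P) : G) = 1 := by rw [hy4]; rfl
    rw [Subgroup.coe_pow] at h1
    have h2 : (g * (u : G) * g⁻¹) ^ 4 = 1 := h1
    rw [conj_pow] at h2
    have : (u : G) ^ 4 = g⁻¹ * (g * (u : G) ^ 4 * g⁻¹) * g := by group
    rw [this, h2]; group
  have hu4 : u ^ 4 = 1 := by
    apply Subtype.ext
    rw [Subgroup.coe_pow, hu4G]; rfl
  apply quat_a_quarter_pow_four_ne n j h4j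
  have := congrArg e hu4
  rw [map_pow, hu, MulEquiv.apply_symm_apply, map_one] at this
  exact this

end Cfsg.Agent.Lib.Helper22.BStar
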