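import Cfsg.Agent.Lib.Helper22.BStarG
import Cfsg.Agent.Lib.Helper22.BStarH
import Cfsg.Agent.Lib.Helper1.MinNormal
import Cfsg.Agent.S3908

/-!
helper22: a finite solvable `BStar` group has no generalized quaternion subgroup of order `≥ 16`.
-/

set_option autoImplicit false

namespace Cfsg.Agent.Lib.Helper22.BStar

open Subgroup Cfsg.Agent.Lib.Helper1

universe u

section lemmas

variable {G : Type*} [Group G]

/-- the image of a quaternion subgroup modulo a normal subgroup of odd prime exponent -/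
theorem quat_image (N : Subgroup G) [N.Normal] (p : ℕ) (hp : p.Prime) (hp2 : p ≠ 2)
    (hNexp : ∀ x ∈ N, x ^ p = 1) (Q : Subgroup G) (k : ℕ)
    (e : ↥Q ≃* QuaternionGroup (2 ^ k)) :
    Nonempty (↥(Q.map (QuotientGroup.mk' N)) ≃* QuaternionGroup (2 ^ k)) := by
  set f : ↥Q →* G ⧸ N := (QuotientGroup.mk' N).comp Q.subtype with hf
  have hcard : Nat.card ↥Q = 2 ^ (k + 2) := by
    rw [card_of_quat Q k e, pow_add]; ring
  have hinj : Function.Injective f := by
    rw [injective_iff_map_eq_one]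
    intro x hx
    have hxN : (x : G) ∈ N := by
      have : (QuotientGroup.mk' N) (x : G) = 1 := hx
      rwa [QuotientGroup.mk'_apply, QuotientGroup.eq_one_iff] at this
    have h1 : x ^ p = 1 := Subtype.ext (by simpa using hNexp _ hxN)
    have h2 : x ^ 2 ^ (k + 2) = 1 := by rw [← hcard]; exact pow_card_eq_one'
    have hd1 : orderOf x ∣ p := orderOf_dvd_of_pow_eq_one h1
    have hd2 : orderOf x ∣ 2 ^ (k + 2) := orderOf_dvd_of_pow_eq_one h2
    have hcop : Nat.Coprime p (2 ^ (k + 2)) := by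
      apply Nat.Coprime.pow_right
      rw [Nat.coprime_primes hp Nat.prime_two]
      exact hp2
    have := Nat.eq_one_of_dvd_coprimes hcop hd1 hd2
    exact orderOf_eq_one_iff.mp this
  have hrange : f.range = Q.map (QuotientGroup.mk' N) := by
    rw [hf, ← MonoidHom.map_range, Subgroup.range_subtype]
  let e1 : ↥Q ≃* ↥f.range := MonoidHom.ofInjective hinj
  let e2 : ↥f.range ≃* ↥(Q.map (QuotientGroup.mk' N)) := MulEquiv.subgroupCongr hrange
  exact ⟨(e2.symm.trans e1.symm).trans e⟩

/-- a 2-group without elements of order four has exponent two -/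
theorem sq_eq_one_of_no_four (R : Subgroup G) (hR2 : IsPGroup 2 ↥R)
    (hno4 : ∀ x ∈ R, orderOf x ≠ 4) : ∀ x ∈ R, x ^ 2 = 1 := by
  intro x hx
  obtain ⟨k, hk⟩ := hR2 ⟨x, hx⟩
  have hk' : x ^ 2 ^ k = 1 := by
    have := congrArg Subtype.val hk
    simpa using this
  obtain ⟨i, -, hi⟩ := (Nat.dvd_prime_pow Nat.prime_two).mp (orderOf_dvd_of_pow_eq_one hk')
  by_cases hi1 : i ≤ 1
  · apply orderOf_dvd_iff_pow_eq_one.mp
    rw [hi]
    calc 2 ^ i ∣ 2 ^ 1 := pow_dvd_pow 2 hi1
      _ = 2 := by norm_num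
  · exfalso
    have hi2 : 2 ≤ i := by omega
    apply hno4 (x ^ 2 ^ (i - 2)) (R.pow_mem hx _)
    rw [orderOf_pow_of_dvd (pow_ne_zero _ (by norm_num))
      (by rw [hi]; exact pow_dvd_pow 2 (by omega)), hi]
    have : 2 ^ i = 2 ^ (i - 2) * 4 := by
      rw [show (4 : ℕ) = 2 ^ 2 from rfl, ← pow_add]; congr 1; omega
    rw [this, Nat.mul_div_cancel_left _ (pow_pos (by norm_num) _)]

/-- exponent two implies commutative -/
theorem comm_of_sq_eq_one (R : Subgroup G) (h : ∀ x ∈ R, x ^ 2 = 1) : IsMulCommutative ↥R := by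
  refine ⟨⟨fun x y => ?_⟩⟩
  have hinv : ∀ z : ↥R, z⁻¹ = z := by
    intro z
    apply inv_eq_of_mul_eq_one_right
    have := h z z.2
    apply Subtype.ext
    rw [Subgroup.coe_mul, ← sq, this]; rfl
  calc x * y = (x * y)⁻¹ := (hinv _).symm
    _ = y⁻¹ * x⁻¹ := mul_inv_rev x y
    _ = y * x := by rw [hinv, hinv]

/-- a normal subgroup of order `2 q ^ i` (`q` odd) yields a normal subgroup of order `q ^ i` -/
theorem exists_normal_odd [Finite G] (S : Subgroup G) [S.Normal] (q i : ℕ) [hq : Fact q.Prime]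
    (hq2 : q ≠ 2) (hS : Nat.card ↥S = 2 * q ^ i) :
    ∃ Q₁ : Subgroup G, Q₁.Normal ∧ Nat.card ↥Q₁ = q ^ i := by
  let Q₀ : Sylow q ↥S := default
  have hdvd1 : q ^ i ∣ Nat.card ↥(Q₀ : Subgroup ↥S) :=
    Q₀.pow_dvd_card_of_pow_dvd_card (by rw [hS]; exact dvd_mul_left _ _)
  have hdvd2 : Nat.card ↥(Q₀ : Subgroup ↥S) ∣ 2 * q ^ i := by
    rw [← hS]; exact Subgroup.card_subgroup_dvd_card _
  obtain ⟨a, ha⟩ := IsPGroup.iff_card.mp Q₀.isPGroup'
  have hodd : ¬ 2 ∣ Nat.card ↥(Q₀ : Subgroup ↥S) := by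
    rw [ha]
    intro h
    have := (Nat.prime_dvd_prime_iff_eq Nat.prime_two hq.out).mp
      (Nat.Prime.dvd_of_dvd_pow Nat.prime_two h)
    exact hq2 this.symm
  obtain ⟨c, hc⟩ := hdvd1
  have hqi : 0 < q ^ i := pow_pos hq.out.pos _
  have hc2 : c ∣ 2 := by
    rw [hc, mul_comm 2 (q ^ i)] at hdvd2
    exact (Nat.mul_dvd_mul_iff_left hqi).mp hdvd2
  have hc1 : c = 1 := by
    rcases (Nat.dvd_prime Nat.prime_two).mp hc2 with h | h
    · exact h
    · exfalso; apply hodd; rw [hc, h]; exact dvd_mul_left _ _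
  have hcardQ : Nat.card ↥(Q₀ : Subgroup ↥S) = q ^ i := by rw [hc, hc1, mul_one]
  have hidx : (Q₀ : Subgroup ↥S).index = 2 := by
    have := (Q₀ : Subgroup ↥S).card_mul_index
    rw [hcardQ, hS, mul_comm 2 (q ^ i)] at this
    exact Nat.eq_of_mul_eq_mul_left hqi this
  have hnorm : (Q₀ : Subgroup ↥S).Normal := Subgroup.normal_of_index_eq_two hidx
  haveI hchar : (Q₀ : Subgroup ↥S).Characteristic := Q₀.characteristic_of_normal hnorm
  refine ⟨(Q₀ : Subgroup ↥S).map S.subtype, inferInstance, ?_⟩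
  rw [Subgroup.card_map_of_injective S.subtype_injective, hcardQ]

end lemmas

/-- induction step -/
theorem no_big_quat_step (G : Type u) [Group G] [Finite G] [hsol : Group.IsSolvable G]
    (hB : BStar G)
    (IH : ∀ (H : Type u) [Group H] [Finite H], Nat.card H < Nat.card G → Group.IsSolvable H →
      BStar H → ∀ (Q : Subgroup H) (k : ℕ), 2 ≤ k → IsEmpty (↥Q ≃* QuaternionGroup (2 ^ k)))
    (Q : Subgroup G) (k : ℕ) (hk : 2 ≤ k) (e : ↥Q ≃* QuaternionGroup (2 ^ k)) : False := by
  classical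
  have hQcard : Nat.card ↥Q = 4 * 2 ^ k := card_of_quat Q k e
  have h2k : 4 ≤ 2 ^ k := by
    calc 4 = 2 ^ 2 := by norm_num
      _ ≤ 2 ^ k := Nat.pow_le_pow_right (by norm_num) hk
  have hGcard : 16 ≤ Nat.card G := by
    have := Nat.le_of_dvd Nat.card_pos (Subgroup.card_subgroup_dvd_card Q)
    omega
  by_cases hA : ∃ N₀ : Subgroup G, IsMinNormal N₀ ∧ ¬ IsPGroup 2 ↥N₀
  · -- a minimal normal subgroup of odd order: pass to the quotient
    obtain ⟨N₀, hmin, hnot2⟩ := hA
    haveI := hmin.1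
    obtain ⟨p, hp, hexp⟩ := hmin.exists_prime_pow_eq_one
    haveI : Fact p.Prime := ⟨hp⟩
    have hp2 : p ≠ 2 := by
      rintro rfl
      apply hnot2
      intro x
      refine ⟨1, ?_⟩
      rw [pow_one]
      exact Subtype.ext (by simpa using hexp x x.2)
    have hBq : BStar (G ⧸ N₀) :=
      bstar_quot_of_exponent hB p N₀ hmin.isMulCommutative hexp hmin.2.1 (fun h => absurd h hp2)
    have hcard : Nat.card (G ⧸ N₀) < Nat.card G := by
      rw [Subgroup.card_eq_card_quotient_mul_card_subgroup N₀]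
      have h1 : 1 < Nat.card ↥N₀ := (Subgroup.one_lt_card_iff_ne_bot (H := N₀)).mpr hmin.2.1
      have h2 : 0 < Nat.card (G ⧸ N₀) := Nat.card_pos
      nlinarith
    obtain ⟨e'⟩ := quat_image N₀ p hp hp2 hexp Q k e
    exact (IH (G ⧸ N₀) hcard inferInstance hBq _ k hk).false e'
  · -- all minimal normal subgroups are 2-groups
    push Not at hA
    have hQ2 : IsPGroup 2 ↥Q := IsPGroup.of_card (n := k + 2) (by rw [hQcard, pow_add]; ring)
    obtain ⟨P, hQP⟩ := hQ2.exists_le_sylow
    have hPnc : ¬ IsMulCommutative ↥(P : Subgroup G) := by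
      intro hPm
      apply not_comm_of_quat Q k (by omega) e
      refine ⟨⟨fun a b => Subtype.ext ?_⟩⟩
      have := hPm.is_comm.comm (⟨a.1, hQP a.2⟩ : ↥(P : Subgroup G)) ⟨b.1, hQP b.2⟩
      have h' : (a : G) * (b : G) = (b : G) * (a : G) := congrArg Subtype.val this
      exact h'
    obtain ⟨m, ⟨e'⟩⟩ : ∃ m : ℕ, Nonempty (↥(P : Subgroup G) ≃* QuaternionGroup (2 ^ m)) := by
      rcases (Cfsg.Agent.S3908.result hB).1 P with hc | hel | h
      · exact absurd (IsCyclic.isMulCommutative (α := ↥(P : Subgroup G))) hPnc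
      · exact absurd hel.1 hPnc
      · exact h
    have hPcard : Nat.card ↥(P : Subgroup G) = 4 * 2 ^ m := card_of_quat _ m e'
    have hm : 2 ≤ m := by
      have hle : Nat.card ↥Q ≤ Nat.card ↥(P : Subgroup G) :=
        Nat.le_of_dvd Nat.card_pos (Subgroup.card_dvd_of_le hQP)
      rw [hQcard, hPcard] at hle
      have h1 : 2 ^ k ≤ 2 ^ m := by omega
      have h2 : k ≤ m := (Nat.pow_le_pow_iff_right (by norm_num)).mp h1
      omega
    haveI : NeZero (2 ^ m) := ⟨by positivity⟩
    -- maximal normal 2-subgroup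
    obtain ⟨R, ⟨hRn, hR2⟩, hmax⟩ := (wellFounded_gt (α := Subgroup G)).has_min
      {H : Subgroup G | H.Normal ∧ IsPGroup 2 ↥H} ⟨⊥, inferInstance, IsPGroup.of_bot⟩
    haveI := hRn
    have hRP : R ≤ (P : Subgroup G) := hR2.le_sylow_of_normal P
    haveI : Nontrivial G := by
      rw [← Finite.one_lt_card_iff_nontrivial]; omega
    have hR1 : R ≠ ⊥ := by
      obtain ⟨N₀, hmin⟩ := exists_isMinNormal (G := G)
      intro hR
      apply hmax N₀ ⟨hmin.1, hA N₀ hmin⟩
      rw [hR]
      exact bot_lt_iff_ne_bot.mpr hmin.2.1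
    by_cases h4 : ∃ x ∈ R, orderOf x = 4
    · -- R contains every element of order four, hence P
      obtain ⟨x, hxR, hx4⟩ := h4
      have hall : ∀ a : G, orderOf a = 4 → a ∈ R := fun a ha =>
        (Cfsg.Agent.S3909.result hB R).1 a ⟨x, hxR, hx4.trans ha.symm⟩
      have hPR : (P : Subgroup G) ≤ R := by
        set H : Subgroup (QuaternionGroup (2 ^ m)) :=
          R.comap ((P : Subgroup G).subtype.comp e'.symm.toMonoidHom) with hH
        have hHtop : H = ⊤ := by
          apply quat_eq_top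
          intro i
          rw [hH, Subgroup.mem_comap]
          apply hall
          show orderOf ((e'.symm (QuaternionGroup.xa i) : ↥(P : Subgroup G)) : G) = 4
          rw [Subgroup.orderOf_coe, MulEquiv.orderOf_eq, QuaternionGroup.orderOf_xa]
        intro y hy
        have : e' ⟨y, hy⟩ ∈ H := by rw [hHtop]; exact Subgroup.mem_top _
        rw [hH, Subgroup.mem_comap] at this
        have h' : ((e'.symm (e' ⟨y, hy⟩) : ↥(P : Subgroup G)) : G) ∈ R := this
        rwa [MulEquiv.symm_apply_apply] at h'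
      have hPeq : (P : Subgroup G) = R := le_antisymm hPR hRP
      haveI : (P : Subgroup G).Normal := hPeq ▸ hRn
      exact quat_normal_false hB (P : Subgroup G) m hm e'
    · -- R has exponent two, so has order two
      push Not at h4
      have hsq := sq_eq_one_of_no_four R hR2 h4
      have hRab := comm_of_sq_eq_one R hsq
      obtain ⟨t, ht⟩ := IsPGroup.iff_card.mp hR2
      have ht0 : t ≠ 0 := by
        rintro rfl
        rw [pow_zero] at ht
        exact hR1 (Subgroup.card_eq_one.mp ht)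
      have ht1 : t = 1 := by
        by_contra hne
        have ht2 : 2 ≤ t := by omega
        haveI : Fact (Nat.Prime 2) := ⟨Nat.prime_two⟩
        have hPeq : (P : Subgroup G) = R :=
          (Cfsg.Agent.S3909.result hB R).2 2 t ht2 ht ⟨hRab, hsq⟩ P
        -- but P has an element of order four
        have hmem : ((e'.symm (QuaternionGroup.xa 0) : ↥(P : Subgroup G)) : G) ∈ R := by
          rw [← hPeq]; exact (e'.symm (QuaternionGroup.xa 0)).2
        apply h4 _ hmem
        rw [Subgroup.orderOf_coe, MulEquiv.orderOf_eq, QuaternionGroup.orderOf_xa]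
      subst ht1
      rw [pow_one] at ht
      -- the quotient by R
      have hcardGR : Nat.card G = Nat.card (G ⧸ R) * 2 := by
        rw [Subgroup.card_eq_card_quotient_mul_card_subgroup R, ht]
      haveI : Nontrivial (G ⧸ R) := by
        rw [← Finite.one_lt_card_iff_nontrivial]; omega
      obtain ⟨Sbar, hSmin⟩ := exists_isMinNormal (G := G ⧸ R)
      haveI := hSmin.1
      obtain ⟨q, hq, hqexp⟩ := hSmin.exists_prime_pow_eq_one
      haveI : Fact q.Prime := ⟨hq⟩
      have hSbarq : IsPGroup q ↥Sbar := by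
        intro x
        refine ⟨1, ?_⟩
        rw [pow_one]
        exact Subtype.ext (by simpa using hqexp x x.2)
      obtain ⟨i, hi⟩ := IsPGroup.iff_card.mp hSbarq
      set S : Subgroup G := Sbar.comap (QuotientGroup.mk' R) with hS
      have hScard : Nat.card ↥S = 2 * q ^ i := by
        rw [hS, card_comap_mk', ht, hi]
      have hRS : R ≤ S := le_comap_mk' R Sbar
      have hi0 : i ≠ 0 := by
        rintro rfl
        rw [pow_zero] at hi
        exact hSmin.2.1 (Subgroup.card_eq_one.mp hi)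
      by_cases hq2 : q = 2
      · subst hq2
        have hS2 : IsPGroup 2 ↥S := IsPGroup.of_card (n := i + 1) (by rw [hScard, pow_succ']; )
        apply hmax S ⟨inferInstance, hS2⟩
        refine lt_of_le_of_ne hRS ?_
        intro h
        have : Nat.card ↥R = Nat.card ↥S := by rw [← h]
        rw [ht, hScard] at this
        have h2 : 1 < 2 ^ i := Nat.one_lt_pow hi0 (by norm_num)
        omega
      · obtain ⟨Q₁, hQ₁n, hQ₁card⟩ := exists_normal_odd S q i hq2 hScard
        have hQ₁1 : Q₁ ≠ ⊥ := by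
          intro h
          rw [h, Subgroup.card_bot] at hQ₁card
          have h2 : 1 < q ^ i := Nat.one_lt_pow hi0 hq.one_lt
          omega
        obtain ⟨N₁, hN₁min, hN₁le⟩ := exists_isMinNormal_le Q₁ hQ₁n hQ₁1
        have hN₁2 : IsPGroup 2 ↥N₁ := hA N₁ hN₁min
        obtain ⟨s, hs⟩ := IsPGroup.iff_card.mp hN₁2
        have hs0 : s ≠ 0 := by
          rintro rfl
          rw [pow_zero] at hs
          exact hN₁min.2.1 (Subgroup.card_eq_one.mp hs)
        have hdvd : 2 ^ s ∣ q ^ i := by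
          rw [← hs, ← hQ₁card]; exact Subgroup.card_dvd_of_le hN₁le
        have h2q : 2 ∣ q ^ i := (dvd_pow_self 2 hs0).trans hdvd
        have := (Nat.prime_dvd_prime_iff_eq Nat.prime_two hq).mp
          (Nat.Prime.dvd_of_dvd_pow Nat.prime_two h2q)
        exact hq2 this.symm

/-- a finite solvable `BStar` group has no generalized quaternion subgroup of order `≥ 16` -/
theorem no_big_quat : ∀ (n : ℕ) (G : Type u) [Group G] [Finite G], Nat.card G ≤ n →
    Group.IsSolvable G → BStar G → ∀ (Q : Subgroup G) (k : ℕ), 2 ≤ k →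
      IsEmpty (↥Q ≃* QuaternionGroup (2 ^ k)) := by
  intro n
  induction n with
  | zero =>
    intro G _ _ hcard
    have : 0 < Nat.card G := Nat.card_pos
    omega
  | succ n ih =>
    intro G _ _ hcard hsol hB Q k hk
    refine ⟨fun e => ?_⟩
    haveI := hsol
    refine no_big_quat_step G hB ?_ Q k hk e
    intro H _ _ hlt hsolH hBH
    exact ih H (by omega) hsolH hBH

end Cfsg.Agent.Lib.Helper22.BStar
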