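import Cfsg.Agent.Lib.Helper22.BStarI

/-!
helper22: quotients of finite solvable `BStar` groups are `BStar`.
-/

set_option autoImplicit false

namespace Cfsg.Agent.Lib.Helper22.BStar

open Subgroup Cfsg.Agent.Lib.Helper1

universe u

/-- quotient by a minimal normal subgroup -/
theorem bstar_quot_minNormal (G : Type u) [Group G] [Finite G] [hsol : Group.IsSolvable G]
    (hB : BStar G) (N₀ : Subgroup G) [N₀.Normal] (hmin : IsMinNormal N₀) : BStar (G ⧸ N₀) := by
  obtain ⟨p, hp, hexp⟩ := hmin.exists_prime_pow_eq_one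
  haveI : Fact p.Prime := ⟨hp⟩
  exact bstar_quot_of_exponent hB p N₀ hmin.isMulCommutative hexp hmin.2.1
    (fun _ Q k hk => no_big_quat (Nat.card G) G le_rfl hsol hB Q k hk)

theorem bstar_quot_all : ∀ (n : ℕ) (G : Type u) [Group G] [Finite G], Nat.card G ≤ n →
    Group.IsSolvable G → BStar G → ∀ (M : Subgroup G) [M.Normal], BStar (G ⧸ M) := by
  intro n
  induction n with
  | zero =>
    intro G _ _ hcard
    have : 0 < Nat.card G := Nat.card_pos
    omega
  | succ n ih =>
    intro G _ _ hcard hsol hB M hM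
    haveI := hsol
    by_cases hM1 : M = ⊥
    · subst hM1
      exact hB.of_mulEquiv QuotientGroup.quotientBot.symm
    · obtain ⟨N₀, hmin, hle⟩ := exists_isMinNormal_le M hM hM1
      haveI := hmin.1
      have hBq : BStar (G ⧸ N₀) := bstar_quot_minNormal G hB N₀ hmin
      have hcardq : Nat.card (G ⧸ N₀) ≤ n := by
        have h0 := Subgroup.card_eq_card_quotient_mul_card_subgroup N₀
        have h1 : 1 < Nat.card ↥N₀ := (Subgroup.one_lt_card_iff_ne_bot (H := N₀)).mpr hmin.2.1
        have h2 : 0 < Nat.card (G ⧸ N₀) := Nat.card_pos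
        nlinarith
      have := ih (G ⧸ N₀) hcardq inferInstance hBq (M.map (QuotientGroup.mk' N₀))
      exact this.of_mulEquiv (QuotientGroup.quotientQuotientEquivQuotient N₀ M hle)

end Cfsg.Agent.Lib.Helper22.BStar
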