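/-
helper22: S0998 (3u) from the statement of S0997 (helper19's BT market): a non-cyclic simple group of order `p r q^b`
is `PSL₂(5)` or `PSL₂(7)`.  `s0998_of h997` is the EXACT statement of S0998.
-/
import Mathlib
import Cfsg.Agent.Lib.Helper13.PSL2
import Cfsg.Agent.Lib.Helper5.BRWSLPSL
import Cfsg.Agent.Lib.Helper18.TM4A
import Cfsg.Agent.S0494
import Cfsg.Agent.S0253

set_option autoImplicit false

namespace Cfsg.Agent.Lib.Helper22.BT998

open Cfsg

universe u

/-! ### arithmetic -/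

/-- comparing odd parts -/
theorem odd_part_eq {r c b m : ℕ} (hr : Odd r) (hc : Odd c) (h : r * 2 ^ b = 2 ^ m * c) : r = c := by
  have hr2 : Nat.Coprime r (2 ^ m) := (Nat.Coprime.pow_right m (Nat.coprime_two_right.mpr hr))
  have hc2 : Nat.Coprime c (2 ^ b) := (Nat.Coprime.pow_right b (Nat.coprime_two_right.mpr hc))
  have h1 : r ∣ c := by
    have : r ∣ 2 ^ m * c := by rw [← h]; exact dvd_mul_right _ _
    exact hr2.dvd_of_dvd_mul_left this
  have h2 : c ∣ r := by
    have : c ∣ r * 2 ^ b := by rw [h]; exact dvd_mul_left _ _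
    exact hc2.dvd_of_dvd_mul_right this
  exact Nat.dvd_antisymm h1 h2

theorem three_dvd_two_pow_add_one {k : ℕ} (hk : Odd k) : 3 ∣ 2 ^ k + 1 := by
  have h := Odd.nat_add_dvd_pow_add_pow 2 1 hk
  simpa using h

theorem three_dvd_two_pow_sub_one {k : ℕ} (hk : Even k) : 3 ∣ 2 ^ k - 1 := by
  obtain ⟨j, rfl⟩ := hk
  have h := Nat.sub_one_dvd_pow_sub_one 4 j
  have h4 : (2 : ℕ) ^ (j + j) = 4 ^ j := by
    rw [← two_mul, pow_mul]; norm_num
  rw [h4]
  simpa using h

/-- a prime dividing `r q^b` with `r` odd and ... : `q = 2` -/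
theorem q_eq_two {r q b : ℕ} (hq : q.Prime) (hr : Odd r) (h : 2 ∣ r * q ^ b) : q = 2 := by
  rcases (Nat.Prime.dvd_mul Nat.prime_two).mp h with h1 | h1
  · exact absurd (even_iff_two_dvd.mpr h1) (Nat.not_even_iff_odd.mpr hr)
  · have := Nat.Prime.dvd_of_dvd_pow Nat.prime_two h1
    exact ((Nat.prime_dvd_prime_iff_eq Nat.prime_two hq).mp this).symm

/-- `p = 2^m + 1`, `r = 2^(m-1) + 1` primes, `p ≥ 5`: `m = 2`. -/
theorem fermat_pair {m p r : ℕ} (hp : p.Prime) (hr : r.Prime) (hp5 : 5 ≤ p) (hpm : p = 2 ^ m + 1)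
    (hm1 : 1 ≤ m) (hrm : r = 2 ^ (m - 1) + 1) : m = 2 := by
  rcases Nat.even_or_odd m with hev | hodd
  · -- `m - 1` odd
    have hodd' : Odd (m - 1) := by
      obtain ⟨j, hj⟩ := hev
      exact ⟨j - 1, by omega⟩
    have h3 : 3 ∣ r := hrm ▸ three_dvd_two_pow_add_one hodd'
    have hr3 : r = 3 := ((Nat.prime_dvd_prime_iff_eq Nat.prime_three hr).mp h3).symm
    rw [hr3] at hrm
    have h2 : 2 ^ (m - 1) = 2 ^ 1 := by omega
    have := Nat.pow_right_injective (le_refl 2) h2
    omega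
  · have h3 : 3 ∣ p := hpm ▸ three_dvd_two_pow_add_one hodd
    have hp3 : p = 3 := ((Nat.prime_dvd_prime_iff_eq Nat.prime_three hp).mp h3).symm
    omega

/-- `p = 2^m - 1`, `r = 2^(m-1) - 1` primes, `p ≥ 5`: `m = 3`. -/
theorem mersenne_pair {m p r : ℕ} (hp : p.Prime) (hr : r.Prime) (hp5 : 5 ≤ p) (hpm : p = 2 ^ m - 1)
    (hrm : r = 2 ^ (m - 1) - 1) : m = 3 := by
  have hm1 : 1 ≤ m := by
    rcases Nat.eq_zero_or_pos m with h | h
    · rw [h] at hpm; simp at hpm; omega
    · exact h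
  rcases Nat.even_or_odd m with hev | hodd
  · have h3 : 3 ∣ p := hpm ▸ three_dvd_two_pow_sub_one hev
    have hp3 : p = 3 := ((Nat.prime_dvd_prime_iff_eq Nat.prime_three hp).mp h3).symm
    omega
  · have hev' : Even (m - 1) := by
      obtain ⟨j, hj⟩ := hodd
      exact ⟨j, by omega⟩
    have h3 : 3 ∣ r := hrm ▸ three_dvd_two_pow_sub_one hev'
    have hr3 : r = 3 := ((Nat.prime_dvd_prime_iff_eq Nat.prime_three hr).mp h3).symm
    rw [hr3] at hrm
    have h2 : 2 ^ (m - 1) = 2 ^ 2 := by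
      have : 1 ≤ 2 ^ (m - 1) := Nat.one_le_two_pow
      omega
    have := Nat.pow_right_injective (le_refl 2) h2
    omega

/-- `p = 2^m + 1`, `r = 2^m - 1` primes, `3 < p`: `m = 2`. -/
theorem twin_pair {m p r : ℕ} (hp : p.Prime) (hr : r.Prime) (hp3 : 3 < p) (hpm : p = 2 ^ m + 1)
    (hrm : r = 2 ^ m - 1) : m = 2 := by
  rcases Nat.even_or_odd m with hev | hodd
  · have h3 : 3 ∣ r := hrm ▸ three_dvd_two_pow_sub_one hev
    have hr3 : r = 3 := ((Nat.prime_dvd_prime_iff_eq Nat.prime_three hr).mp h3).symm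
    rw [hr3] at hrm
    have h2 : 2 ^ m = 2 ^ 2 := by
      have : 1 ≤ 2 ^ m := Nat.one_le_two_pow
      omega
    exact Nat.pow_right_injective (le_refl 2) h2
  · have h3 : 3 ∣ p := hpm ▸ three_dvd_two_pow_add_one hodd
    have hp3' : p = 3 := ((Nat.prime_dvd_prime_iff_eq Nat.prime_three hp).mp h3).symm
    omega

/-! ### the statement of S0997 and the deduction -/

/-- the statement of S0997 for groups in `Type u` -/
def Stmt997 : Prop :=
  ∀ {G : Type u} [Group G] [Finite G] [IsSimpleGroup G] (_ : ¬ IsCyclic G) (p q b g₀ : ℕ) (_ : p.Prime)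
    (_ : q.Prime) (_ : p ≠ q) (_ : Nat.card G = p * q ^ b * g₀) (_ : g₀ < p - 1),
    (∃ (m : ℕ) (F : Type) (_ : Field F) (_ : Fintype F), Fintype.card F = p ∧
      (p = 2 ^ m + 1 ∨ p = 2 ^ m - 1) ∧
        Nonempty (G ≃* Matrix.ProjectiveSpecialLinearGroup (Fin 2) F)) ∨
    (∃ (m : ℕ) (F : Type) (_ : Field F) (_ : Fintype F), Fintype.card F = 2 ^ m ∧ p = 2 ^ m + 1 ∧ 3 < p ∧
      Nonempty (G ≃* Matrix.ProjectiveSpecialLinearGroup (Fin 2) F))

/-- the conclusion of S0998 -/
def Concl998 (G : Type u) [Group G] : Prop :=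
  (∃ (F : Type) (_ : Field F) (_ : Fintype F), Fintype.card F = 5 ∧
    Nonempty (G ≃* Matrix.ProjectiveSpecialLinearGroup (Fin 2) F)) ∨
  (∃ (F : Type) (_ : Field F) (_ : Fintype F), Fintype.card F = 7 ∧
    Nonempty (G ≃* Matrix.ProjectiveSpecialLinearGroup (Fin 2) F))

/-- `2 ≠ 0` in a field with an odd prime number of elements -/
theorem two_ne_zero_of_card {F : Type} [Field F] [Fintype F] {p : ℕ} (hp : p.Prime) (hp2 : p ≠ 2)
    (hF : Fintype.card F = p) : (2 : F) ≠ 0 := by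
  intro h20
  have hd : ringChar F ∣ 2 := by
    have := (ringChar.spec F 2).mp (by exact_mod_cast h20)
    exact this
  have hrp : (ringChar F).Prime := CharP.char_is_prime F (ringChar F)
  have hr2 : ringChar F = 2 := (Nat.prime_dvd_prime_iff_eq hrp Nat.prime_two).mp hd
  have hev := FiniteField.even_card_iff_char_two.mp hr2
  rw [hF] at hev
  have : p = 2 :=
    ((Nat.Prime.eq_one_or_self_of_dvd hp 2 (Nat.dvd_of_mod_eq_zero hev)).resolve_left (by norm_num)).symm
  exact hp2 this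

variable {G : Type u} [Group G] [Finite G] [IsSimpleGroup G]

/-- the ordered case `r < p` -/
theorem core (h997 : Stmt997.{u}) (hG : ¬ IsCyclic G) (p q r b : ℕ) (hp : p.Prime) (hq : q.Prime)
    (hr : r.Prime) (hpq : p ≠ q) (hqr : q ≠ r) (hlt : r < p) (hcard : Nat.card G = p * r * q ^ b) :
    Concl998 G := by
  have hGpos : 0 < Nat.card G := Nat.card_pos
  by_cases hr2 : r = 2
  · -- `|G| = 2 * odd`
    exfalso
    have hpodd : Odd p := hp.odd_of_ne_two (by omega)
    have hqodd : Odd q := hq.odd_of_ne_two (by omega)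
    have hk : Odd (p * q ^ b) := hpodd.mul (hqodd.pow)
    have hX : Nat.card G = 2 * (p * q ^ b) := by rw [hcard, hr2]; ring
    obtain ⟨Y, hYn, hYi, hYc, -⟩ := Cfsg.Agent.Lib.Helper18.TwoMod4.exists_odd_index_two hk hX
    rcases hYn.eq_bot_or_eq_top with h | h
    · rw [h, Subgroup.card_bot] at hYc
      have hp2 := hp.two_le
      have : 1 ≤ q ^ b := Nat.one_le_pow _ _ hq.pos
      nlinarith
    · rw [h, Subgroup.index_top] at hYi
      omega
  · have hr3 : 3 ≤ r := by
      have := hr.two_le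
      omega
    have hrodd : Odd r := hr.odd_of_ne_two hr2
    have hpodd : Odd p := hp.odd_of_ne_two (by omega)
    have hp5 : 5 ≤ p := by
      obtain ⟨j, hj⟩ := hrodd
      obtain ⟨k, hk⟩ := hpodd
      omega
    have hg : r < p - 1 := by
      obtain ⟨j, hj⟩ := hrodd
      obtain ⟨k, hk⟩ := hpodd
      omega
    have hcard' : Nat.card G = p * q ^ b * r := by rw [hcard]; ring
    have hp0 : 0 < p := hp.pos
    rcases h997 hG p q b r hp hq hpq hcard' hg with
      ⟨m, F, iF, iFt, hF, hpm, ⟨e⟩⟩ | ⟨m, F, iF, iFt, hF, hpm, h3, ⟨e⟩⟩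
    · -- `PSL₂(p)`
      have h2F : (2 : F) ≠ 0 := two_ne_zero_of_card hp (by omega) hF
      have hc := Cfsg.Agent.Lib.Helper13.card_PSL2_mul_two (F := F) h2F
      rw [hF, ← Nat.card_congr e.toEquiv, hcard] at hc
      -- `2 r q^b = p² - 1`
      have h1 : r * q ^ b * 2 = p ^ 2 - 1 := by
        have : p * (r * q ^ b * 2) = p * (p ^ 2 - 1) := by rw [← hc]; ring
        exact Nat.eq_of_mul_eq_mul_left hp0 this
      rcases hpm with hpm | hpm
      · -- `p = 2^m + 1`
        have hm1 : 1 ≤ m := by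
          rcases Nat.eq_zero_or_pos m with h | h
          · rw [h] at hpm; simp at hpm; omega
          · exact h
        obtain ⟨m', rfl⟩ : ∃ m', m = m' + 1 := ⟨m - 1, by omega⟩
        have h2 : p ^ 2 - 1 = 2 ^ (m' + 1) * (2 ^ m' + 1) * 2 := by
          rw [hpm]
          have : (2 ^ (m' + 1) + 1) ^ 2 = 2 ^ (m' + 1) * (2 ^ m' + 1) * 2 + 1 := by ring
          omega
        rw [h2] at h1
        have h4 : r * q ^ b = 2 ^ (m' + 1) * (2 ^ m' + 1) := Nat.eq_of_mul_eq_mul_right (by norm_num) h1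
        have hq2 : q = 2 := q_eq_two hq hrodd (by rw [h4, pow_succ]; exact ⟨2 ^ m' * (2 ^ m' + 1), by ring⟩)
        rw [hq2] at h4
        have hm'1 : 1 ≤ m' := by
          rcases Nat.eq_zero_or_pos m' with h | h
          · rw [h] at hpm; norm_num at hpm; omega
          · exact h
        have hcodd : Odd (2 ^ m' + 1) := by
          refine Even.add_one ?_
          exact (Nat.even_pow.mpr ⟨even_two, by omega⟩)
        have hrc : r = 2 ^ m' + 1 := odd_part_eq hrodd hcodd h4
        have hm2 : m' + 1 = 2 := fermat_pair hp hr hp5 hpm (by omega) (by simpa using hrc)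
        have hp5' : p = 5 := by rw [hpm, hm2]; norm_num
        left
        exact ⟨F, iF, iFt, by rw [hF, hp5'], ⟨e⟩⟩
      · -- `p = 2^m - 1`
        have hm1 : 1 ≤ m := by
          rcases Nat.eq_zero_or_pos m with h | h
          · rw [h] at hpm; simp at hpm; omega
          · exact h
        obtain ⟨m', rfl⟩ : ∃ m', m = m' + 1 := ⟨m - 1, by omega⟩
        have hpow : 2 ≤ 2 ^ (m' + 1) := by
          calc 2 = 2 ^ 1 := by norm_num
            _ ≤ 2 ^ (m' + 1) := Nat.pow_le_pow_right (by norm_num) (by omega)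
        have hm'1 : 1 ≤ m' := by
          rcases Nat.eq_zero_or_pos m' with h | h
          · rw [h] at hpm; norm_num at hpm; omega
          · exact h
        have hpow' : 1 ≤ 2 ^ m' := Nat.one_le_two_pow
        have h2 : p ^ 2 - 1 = 2 ^ (m' + 1) * (2 ^ m' - 1) * 2 := by
          rw [hpm]
          obtain ⟨c, hc'⟩ : ∃ c, 2 ^ m' = c + 1 := ⟨2 ^ m' - 1, by omega⟩
          have e1 : 2 ^ (m' + 1) = 2 * c + 2 := by rw [pow_succ, hc']; ring
          rw [e1, hc']
          have e2 : 2 * c + 2 - 1 = 2 * c + 1 := by omega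
          have e3 : c + 1 - 1 = c := by omega
          rw [e2, e3]
          have : (2 * c + 1) ^ 2 = (2 * c + 2) * c * 2 + 1 := by ring
          omega
        rw [h2] at h1
        have h4 : r * q ^ b = 2 ^ (m' + 1) * (2 ^ m' - 1) := Nat.eq_of_mul_eq_mul_right (by norm_num) h1
        have hq2 : q = 2 := q_eq_two hq hrodd (by rw [h4, pow_succ]; exact ⟨2 ^ m' * (2 ^ m' - 1), by ring⟩)
        rw [hq2] at h4
        have hcodd : Odd (2 ^ m' - 1) := by
          have hev : Even (2 ^ m') := (Nat.even_pow.mpr ⟨even_two, by omega⟩)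
          exact Nat.Even.sub_odd hpow' hev odd_one
        have hrc : r = 2 ^ m' - 1 := odd_part_eq hrodd hcodd h4
        have hm3 : m' + 1 = 3 := mersenne_pair hp hr hp5 hpm (by simpa using hrc)
        have hp7 : p = 7 := by rw [hpm, hm3]; norm_num
        right
        exact ⟨F, iF, iFt, by rw [hF, hp7], ⟨e⟩⟩
    · -- `PSL₂(2^m)`, `p = 2^m + 1`
      obtain ⟨e'⟩ := Cfsg.Agent.Lib.Helper5.BRWSLPSL.sl2_equiv_psl2_of_char_two F m hF
      have hc := Cfsg.Agent.Lib.Helper13.card_SL2 (F := F)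
      rw [Nat.card_congr e'.toEquiv, ← Nat.card_congr e.toEquiv, hcard, hF] at hc
      have hpow : 4 ≤ 2 ^ m := by omega
      have h2 : (2 ^ m) ^ 2 - 1 = (2 ^ m - 1) * p := by
        rw [hpm]
        obtain ⟨c, hc'⟩ : ∃ c, 2 ^ m = c + 1 := ⟨2 ^ m - 1, by omega⟩
        rw [hc']
        have e3 : c + 1 - 1 = c := by omega
        rw [e3]
        have : (c + 1) ^ 2 = c * (c + 1 + 1) + 1 := by ring
        omega
      rw [h2] at hc
      have h4 : r * q ^ b = 2 ^ m * (2 ^ m - 1) := by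
        have : p * (r * q ^ b) = p * (2 ^ m * (2 ^ m - 1)) := by rw [← mul_assoc, hc]; ring
        exact Nat.eq_of_mul_eq_mul_left hp0 this
      have hm1 : 1 ≤ m := by
        rcases Nat.eq_zero_or_pos m with h | h
        · rw [h] at hpow; norm_num at hpow
        · exact h
      obtain ⟨m', rfl⟩ : ∃ m', m = m' + 1 := ⟨m - 1, by omega⟩
      have hq2 : q = 2 := q_eq_two hq hrodd (by rw [h4, pow_succ]; exact ⟨2 ^ m' * (2 ^ m' * 2 - 1), by ring⟩)
      rw [hq2] at h4
      have hcodd : Odd (2 ^ (m' + 1) - 1) := by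
        have hev : Even (2 ^ (m' + 1)) := (Nat.even_pow.mpr ⟨even_two, by omega⟩)
        exact Nat.Even.sub_odd (by omega) hev odd_one
      have hrc : r = 2 ^ (m' + 1) - 1 := odd_part_eq hrodd hcodd h4
      have hm2 : m' + 1 = 2 := twin_pair hp hr h3 hpm hrc
      -- `|G| = 60`
      have hr3' : r = 3 := by rw [hrc, hm2]; norm_num
      have hp5' : p = 5 := by rw [hpm, hm2]; norm_num
      have hb : 2 ^ b = 2 ^ 2 := by
        rw [hr3', hm2] at h4
        norm_num at h4
        omega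
      have h60 : Nat.card G = 60 := by
        rw [hcard, hp5', hr3', hq2, hb]
        norm_num
      obtain ⟨e1⟩ := Cfsg.Agent.S0494.result h60
      have : Fact (Nat.Prime 5) := ⟨by norm_num⟩
      obtain ⟨e2⟩ := Cfsg.Agent.S0253.result (F := ZMod 5) (ZMod.card 5)
      left
      exact ⟨ZMod 5, inferInstance, inferInstance, ZMod.card 5, ⟨e1.trans e2.symm⟩⟩

/-- **S0998 from S0997** (exact statement of S0998). -/
theorem s0998_of (h997 : Stmt997.{u}) (hG : ¬ IsCyclic G) (p q r b : ℕ) (hp : p.Prime) (hq : q.Prime)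
    (hr : r.Prime) (hpq : p ≠ q) (hpr : p ≠ r) (hqr : q ≠ r) (hG' : Nat.card G = p * r * q ^ b) :
    (∃ (F : Type) (_ : Field F) (_ : Fintype F), Fintype.card F = 5 ∧
      Nonempty (G ≃* Matrix.ProjectiveSpecialLinearGroup (Fin 2) F)) ∨
    (∃ (F : Type) (_ : Field F) (_ : Fintype F), Fintype.card F = 7 ∧
      Nonempty (G ≃* Matrix.ProjectiveSpecialLinearGroup (Fin 2) F)) := by
  rcases Nat.lt_or_gt_of_ne hpr with h | h
  · -- `p < r`: swap
    exact core h997 hG r q p b hr hq hp (fun h' => hqr h'.symm) hpq.symm h (by rw [hG']; ring)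
  · exact core h997 hG p q r b hp hq hr hpq hqr h hG'

end Cfsg.Agent.Lib.Helper22.BT998
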