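import Cfsg.Agent.Lib.Helper27.BlkAlgDefs2
import Cfsg.Agent.Lib.Helper6.FirstMain
import Cfsg.Agent.Lib.Helper6.SubsectionCount
import Cfsg.Agent.Lib.Lead.ConvAlg
import Cfsg.Agent.Lib.Helper24.TraceIdem

/-!
helper22: S4607 leaf B5b (planner helper27), part 1: generic rank transport, row sums over conjugacy
classes.
-/

set_option autoImplicit false

namespace Cfsg.Agent.Lib.Helper22.BlkAlgB5b

open Cfsg Cfsg.Agent.CharLib Cfsg.Agent.Lib.Helper6 Cfsg.Agent.Lib.Helper24
open Cfsg.Agent.Lib.Helper27.BlkAlg
open scoped ComplexConjugate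

universe u

/-! ## generic: the rank of a matrix intertwined with an operator on a coordinatised subspace -/

theorem finrank_map_eq_rank {k : Type*} [Field k] {m : Type*} [Fintype m] [DecidableEq m]
    {V : Type*} [AddCommGroup V] [Module k V] (Φ : (m → k) →ₗ[k] V) (hΦ : Function.Injective Φ)
    (T : V →ₗ[k] V) (A : Matrix m m k) (h : ∀ c, T (Φ c) = Φ (A.mulVec c)) :
    Module.finrank k ↥((LinearMap.range Φ).map T) = A.rank := by
  have h1 : (LinearMap.range Φ).map T = (LinearMap.range A.mulVecLin).map Φ := by
    rw [← LinearMap.range_comp, ← LinearMap.range_comp]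
    congr 1
    exact LinearMap.ext fun c => h c
  rw [h1, Matrix.rank]
  exact (Submodule.equivMapOfInjective Φ hΦ _).finrank_eq.symm


variable {G : Type u} [Group G] [Fintype G]

/-! ## row sums over a conjugacy class -/

section rowSum

variable {R : Type*} [AddCommMonoid R] [DecidableEq (ConjClasses G)]

/-- `∑_{h ∈ K} a (x h⁻¹)` -/
def rowSum (a : G → R) (x : G) (K : ConjClasses G) : R :=
  ∑ h : G, if ConjClasses.mk h = K then a (x * h⁻¹) else 0

theorem rowSum_conj {a : G → R} (ha : ∀ g h : G, a (h * g * h⁻¹) = a g) (t x : G)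
    (K : ConjClasses G) : rowSum a (t * x * t⁻¹) K = rowSum a x K := by
  unfold rowSum
  rw [← Equiv.sum_comp (MulAut.conj t).toEquiv]
  apply Finset.sum_congr rfl
  intro h _
  have h1 : ConjClasses.mk ((MulAut.conj t).toEquiv h) = ConjClasses.mk h := by
    rw [ConjClasses.mk_eq_mk_iff_isConj]
    exact (isConj_iff.mpr ⟨t, rfl⟩).symm
  have h2 : t * x * t⁻¹ * ((MulAut.conj t).toEquiv h)⁻¹ = t * (x * h⁻¹) * t⁻¹ := by
    simp only [MulEquiv.toEquiv_eq_coe, MulEquiv.coe_toEquiv, MulAut.conj_apply]
    group
  rw [h1, h2, ha]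

theorem rowSum_of_isConj {a : G → R} (ha : ∀ g h : G, a (h * g * h⁻¹) = a g) {x y : G}
    (hxy : IsConj x y) (K : ConjClasses G) : rowSum a x K = rowSum a y K := by
  obtain ⟨t, rfl⟩ := isConj_iff.mp hxy
  exact (rowSum_conj ha t x K).symm

theorem rowSum_out_mk {a : G → R} (ha : ∀ g h : G, a (h * g * h⁻¹) = a g) (x : G)
    (K : ConjClasses G) : rowSum a (Quotient.out (ConjClasses.mk x)) K = rowSum a x K := by
  apply rowSum_of_isConj ha
  rw [← ConjClasses.mk_eq_mk_iff_isConj]
  exact Quotient.out_eq _

end rowSum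

section rowSumMul

variable {R : Type*} [CommSemiring R] [Fintype (ConjClasses G)] [DecidableEq (ConjClasses G)]

/-- `∑_K (∑_{h ∈ K} a (x h⁻¹)) c_K = ∑_g a g * c (class of g⁻¹ x)` -/
theorem sum_rowSum_mul (a : G → R) (x : G) (c : ConjClasses G → R) :
    ∑ K : ConjClasses G, rowSum a x K * c K = ∑ g : G, a g * c (ConjClasses.mk (g⁻¹ * x)) := by
  unfold rowSum
  simp_rw [Finset.sum_mul]
  rw [Finset.sum_comm]
  have h1 : ∀ h : G, ∑ K : ConjClasses G, (if ConjClasses.mk h = K then a (x * h⁻¹) else 0) * c K
      = a (x * h⁻¹) * c (ConjClasses.mk h) := by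
    intro h
    rw [Finset.sum_eq_single (ConjClasses.mk h)]
    · rw [if_pos rfl]
    · intro K _ hK
      rw [if_neg (Ne.symm hK), zero_mul]
    · intro hh; exact absurd (Finset.mem_univ _) hh
  rw [Finset.sum_congr rfl (fun h _ => h1 h)]
  rw [← Equiv.sum_comp ((Equiv.inv G).trans (Equiv.mulRight x))]
  apply Finset.sum_congr rfl
  intro g _
  simp only [Equiv.trans_apply, Equiv.inv_apply, Equiv.coe_mulRight]
  rw [mul_inv_rev, inv_inv, mul_inv_cancel_left]

end rowSumMul

section complexSide

variable {G : Type u} [Group G] [Fintype G]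
variable [Fintype (ConjClasses G)] [DecidableEq (ConjClasses G)]

/-! ## the complex side: the matrix of `conv a ·` on class functions -/

/-- the matrix of `conv a ·` on class functions, in the basis of class indicator functions -/
noncomputable def classMat (a : G → ℂ) : Matrix (ConjClasses G) (ConjClasses G) ℂ :=
  fun L K => rowSum a (Quotient.out L) K

omit [Fintype (ConjClasses G)] in
theorem classMat_mk {a : G → ℂ} (ha : IsClassFunction G a) (x : G) (K : ConjClasses G) :
    classMat a (ConjClasses.mk x) K = rowSum a x K :=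
  rowSum_out_mk ha x K

theorem classMat_mulVec_mk {a : G → ℂ} (ha : IsClassFunction G a) (c : ConjClasses G → ℂ)
    (x : G) : (classMat a).mulVec c (ConjClasses.mk x) = conv a (c ∘ ConjClasses.mk) x := by
  unfold Matrix.mulVec dotProduct
  simp_rw [classMat_mk ha]
  rw [sum_rowSum_mul]
  rfl

/-- coordinates on class functions -/
def cfIncl : (ConjClasses G → ℂ) →ₗ[ℂ] (G → ℂ) := LinearMap.funLeft ℂ ℂ ConjClasses.mk

omit [Fintype G] [Fintype (ConjClasses G)] [DecidableEq (ConjClasses G)] in
theorem cfIncl_apply (c : ConjClasses G → ℂ) (x : G) : cfIncl c x = c (ConjClasses.mk x) := rfl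

omit [Fintype G] [Fintype (ConjClasses G)] [DecidableEq (ConjClasses G)] in
theorem cfIncl_injective : Function.Injective (cfIncl (G := G)) :=
  LinearMap.funLeft_injective_of_surjective ℂ ℂ _ ConjClasses.mk_surjective

omit [Fintype G] [Fintype (ConjClasses G)] [DecidableEq (ConjClasses G)] in
theorem cfIncl_isClassFunction (c : ConjClasses G → ℂ) : IsClassFunction G (cfIncl c) := by
  intro g h
  rw [cfIncl_apply, cfIncl_apply]
  congr 1
  rw [ConjClasses.mk_eq_mk_iff_isConj]
  exact (isConj_iff.mpr ⟨h, rfl⟩).symm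

omit [Fintype G] [Fintype (ConjClasses G)] [DecidableEq (ConjClasses G)] in
theorem mem_range_cfIncl (f : G → ℂ) :
    f ∈ LinearMap.range (cfIncl (G := G)) ↔ IsClassFunction G f := by
  constructor
  · rintro ⟨c, rfl⟩
    exact cfIncl_isClassFunction c
  · intro hf
    refine ⟨fun K => f (Quotient.out K), ?_⟩
    funext x
    rw [cfIncl_apply]
    have h1 : IsConj (Quotient.out (ConjClasses.mk x)) x := by
      rw [← ConjClasses.mk_eq_mk_iff_isConj]
      exact Quotient.out_eq _
    obtain ⟨t, ht⟩ := isConj_iff.mp h1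
    have h2 := hf (Quotient.out (ConjClasses.mk x)) t
    rw [ht] at h2
    exact h2.symm

/-- `conv a ·` as a linear map -/
def convL (a : G → ℂ) : (G → ℂ) →ₗ[ℂ] (G → ℂ) where
  toFun := fun f => conv a f
  map_add' := fun f g => conv_add_right a f g
  map_smul' := fun c f => conv_smul_right c a f

omit [Fintype (ConjClasses G)] [DecidableEq (ConjClasses G)] in
theorem convL_apply (a f : G → ℂ) : convL a f = conv a f := rfl

theorem convL_cfIncl {a : G → ℂ} (ha : IsClassFunction G a) (c : ConjClasses G → ℂ) :
    convL a (cfIncl c) = cfIncl ((classMat a).mulVec c) := by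
  funext x
  rw [cfIncl_apply, classMat_mulVec_mk ha, convL_apply]
  rfl

theorem classMat_mulVec {a : G → ℂ} (ha : IsClassFunction G a) (c : ConjClasses G → ℂ) :
    cfIncl ((classMat a).mulVec c) = conv a (cfIncl c) := (convL_cfIncl ha c).symm

theorem classMat_conv {a b : G → ℂ} (ha : IsClassFunction G a) (hb : IsClassFunction G b) :
    classMat (conv a b) = classMat a * classMat b := by
  apply Matrix.mulVec_injective
  funext c
  apply cfIncl_injective
  rw [← Matrix.mulVec_mulVec, classMat_mulVec (conv_isClassFunction ha hb), classMat_mulVec ha,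
    classMat_mulVec hb, conv_assoc]

theorem classMat_classInd_one : classMat (classInd (1 : G)) = 1 := by
  apply Matrix.mulVec_injective
  funext c
  apply cfIncl_injective
  rw [classMat_mulVec (classInd_isClassFunction 1), conv_classInd_one, Matrix.one_mulVec]

omit [Fintype (ConjClasses G)] in
theorem classMat_zero : classMat (0 : G → ℂ) = 0 := by
  ext L K
  simp [classMat, rowSum]

omit [Fintype (ConjClasses G)] in
theorem classMat_add (a b : G → ℂ) : classMat (a + b) = classMat a + classMat b := by
  ext L K
  simp only [classMat, rowSum, Matrix.add_apply, Pi.add_apply]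
  rw [← Finset.sum_add_distrib]
  apply Finset.sum_congr rfl
  intro h _
  split_ifs <;> simp

omit [Fintype (ConjClasses G)] in
theorem classMat_sum {ι : Type*} (s : Finset ι) (a : ι → G → ℂ) :
    classMat (∑ i ∈ s, a i) = ∑ i ∈ s, classMat (a i) := by
  classical
  induction s using Finset.induction_on with
  | empty => rw [Finset.sum_empty, Finset.sum_empty, classMat_zero]
  | insert i s hi ih => rw [Finset.sum_insert hi, Finset.sum_insert hi, classMat_add, ih]

/-- the rank of `classMat a` is the dimension of `conv a (class functions)` -/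
theorem rank_classMat {a : G → ℂ} (ha : IsClassFunction G a) :
    (classMat a).rank =
      Module.finrank ℂ ↥((LinearMap.range (cfIncl (G := G))).map (convL a)) :=
  (finrank_map_eq_rank cfIncl cfIncl_injective (convL a) (classMat a) (convL_cfIncl ha)).symm

end complexSide

section image

variable {G : Type u} [Group G] [Fintype G]

/-! ## the image of `conv e_B ·` on class functions -/

/-- precomposition with inversion -/
def invL : (G → ℂ) ≃ₗ[ℂ] (G → ℂ) := LinearEquiv.funCongrLeft ℂ ℂ (Equiv.inv G)

omit [Fintype G] in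
theorem invL_apply (f : G → ℂ) (g : G) : invL f g = f g⁻¹ := rfl

omit [Fintype G] in
theorem invL_invL (f : G → ℂ) : invL (invL f) = f := by
  funext g
  rw [invL_apply, invL_apply, inv_inv]

omit [Fintype G] in
theorem invL_isClassFunction {f : G → ℂ} (hf : IsClassFunction G f) :
    IsClassFunction G (invL f) := by
  intro g h
  rw [invL_apply, invL_apply]
  have h1 : (h * g * h⁻¹)⁻¹ = h * g⁻¹ * h⁻¹ := by group
  rw [h1, hf]

/-- `[a ∘ inv, χ] = χ(1)/|G| · ω_χ(a)` -/
theorem classInner_invL (a : G → ℂ) (χ : IrrCharacter G) :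
    classInner (invL a) (χ : G → ℂ) =
      (Nat.card G : ℂ)⁻¹ * ((χ : G → ℂ) 1 * omegaFun (χ : G → ℂ) a) := by
  obtain ⟨d, hdpos, hd⟩ := IsIrrCharacter.apply_one_pos χ.2
  have hd0 : (χ : G → ℂ) 1 ≠ 0 := by rw [hd]; exact Nat.cast_ne_zero.mpr hdpos.ne'
  unfold classInner omegaFun
  congr 1
  rw [mul_div_cancel₀ _ hd0, ← Equiv.sum_comp (Equiv.inv G)]
  apply Finset.sum_congr rfl
  intro g _
  rw [Equiv.inv_apply, invL_apply, inv_inv,
    ← IsCharacter.apply_inv (IsIrrCharacter.isCharacter χ.2), inv_inv]

/-- `ω_φ(χ ∘ inv) = |G| [φ = χ] / φ(1)` -/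
theorem omegaFun_invL_irr (φ χ : IrrCharacter G) :
    omegaFun (φ : G → ℂ) (invL (χ : G → ℂ)) =
      (Nat.card G : ℂ) * (if φ = χ then 1 else 0) / (φ : G → ℂ) 1 := by
  have hG0 : (Nat.card G : ℂ) ≠ 0 := Nat.cast_ne_zero.mpr Nat.card_pos.ne'
  have h1 := classInner_irr' φ χ
  unfold classInner at h1
  unfold omegaFun
  congr 1
  rw [← h1, ← mul_assoc, mul_inv_cancel₀ hG0, one_mul]
  apply Finset.sum_congr rfl
  intro g _
  rw [invL_apply, IsCharacter.apply_inv (IsIrrCharacter.isCharacter χ.2), mul_comm]

theorem conv_blockCoeff_invL_irr (B : Set (IrrCharacter G)) {χ : IrrCharacter G} (hχ : χ ∈ B) :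
    conv (blockCoeff B) (invL (χ : G → ℂ)) = invL (χ : G → ℂ) := by
  classical
  have hcl : IsClassFunction G (invL (χ : G → ℂ)) :=
    invL_isClassFunction (IsCharacter.isClassFunction (IsIrrCharacter.isCharacter χ.2))
  apply eq_of_omegaFun_eq (conv_isClassFunction (blockCoeff_isClassFunction B) hcl) hcl
  intro φ
  rw [omegaFun_conv φ (blockCoeff_isClassFunction B) hcl, omegaFun_blockCoeff]
  by_cases hφ : φ ∈ B
  · rw [if_pos hφ, one_mul]
  · rw [if_neg hφ, zero_mul, omegaFun_invL_irr]
    have hne : φ ≠ χ := fun h => hφ (h ▸ hχ)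
    rw [if_neg hne, mul_zero, zero_div]

variable [Fintype (ConjClasses G)] [DecidableEq (ConjClasses G)]

omit [Fintype (ConjClasses G)] [DecidableEq (ConjClasses G)] in
theorem map_convL_blockCoeff (B : Set (IrrCharacter G)) :
    (LinearMap.range (cfIncl (G := G))).map (convL (blockCoeff B)) =
      (blockSpan B).map (invL (G := G)).toLinearMap := by
  classical
  apply le_antisymm
  · rintro _ ⟨f, hf, rfl⟩
    have hfc : IsClassFunction G f := (mem_range_cfIncl f).mp hf
    have hac : IsClassFunction G (conv (blockCoeff B) f) :=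
      conv_isClassFunction (blockCoeff_isClassFunction B) hfc
    refine ⟨invL (conv (blockCoeff B) f), ?_, invL_invL _⟩
    apply mem_blockSpan_of_orthogonal (invL_isClassFunction hac)
    intro χ hχ
    rw [classInner_invL, omegaFun_conv χ (blockCoeff_isClassFunction B) hfc, omegaFun_blockCoeff,
      if_neg hχ, zero_mul, mul_zero, mul_zero]
  · rw [Submodule.map_le_iff_le_comap]
    unfold blockSpan
    rw [Submodule.span_le]
    rintro _ ⟨χ, rfl⟩
    refine ⟨invL ((χ : IrrCharacter G) : G → ℂ), ?_, ?_⟩
    · rw [SetLike.mem_coe, mem_range_cfIncl]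
      exact invL_isClassFunction
        (IsCharacter.isClassFunction (IsIrrCharacter.isCharacter (χ : IrrCharacter G).2))
    · exact conv_blockCoeff_invL_irr B χ.2

/-- the rank of the matrix of `conv e_B ·` on class functions is `k(B)` -/
theorem rank_classMat_blockCoeff (B : Set (IrrCharacter G)) :
    (classMat (blockCoeff B)).rank = Nat.card B := by
  rw [rank_classMat (blockCoeff_isClassFunction B), map_convL_blockCoeff,
    LinearEquiv.finrank_map_eq, finrank_blockSpan]

end image

section family

variable {G : Type u} [Group G] [Fintype G]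

/-! ## the block idempotents form a complete family of orthogonal idempotents for `conv` -/

theorem omegaFun_zero (χ : G → ℂ) : omegaFun χ (0 : G → ℂ) = 0 := by
  unfold omegaFun
  simp

theorem omegaFun_sum {ι : Type*} (s : Finset ι) (χ : G → ℂ) (a : ι → G → ℂ) :
    omegaFun χ (∑ i ∈ s, a i) = ∑ i ∈ s, omegaFun χ (a i) := by
  classical
  induction s using Finset.induction_on with
  | empty => rw [Finset.sum_empty, Finset.sum_empty, omegaFun_zero]
  | insert i s hi ih => rw [Finset.sum_insert hi, Finset.sum_insert hi, omegaFun_add, ih]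

omit [Fintype G] in
theorem isClassFunction_sum {ι : Type*} (s : Finset ι) (a : ι → G → ℂ)
    (ha : ∀ i ∈ s, IsClassFunction G (a i)) : IsClassFunction G (∑ i ∈ s, a i) := by
  intro g h
  rw [Finset.sum_apply, Finset.sum_apply]
  exact Finset.sum_congr rfl (fun i hi => ha i hi g h)

variable (M : Ideal AlgInt) [hprime : M.IsPrime]

theorem conv_blockCoeff_of_ne {B B' : Set (IrrCharacter G)} (hB : IsPBlock M B)
    (hB' : IsPBlock M B') (hne : B ≠ B') : conv (blockCoeff B) (blockCoeff B') = 0 := by
  classical
  apply eq_of_omegaFun_eq (conv_isClassFunction (blockCoeff_isClassFunction B)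
    (blockCoeff_isClassFunction B')) (fun g h => rfl)
  intro φ
  rw [omegaFun_conv φ (blockCoeff_isClassFunction B) (blockCoeff_isClassFunction B'),
    omegaFun_blockCoeff, omegaFun_blockCoeff, omegaFun_zero]
  by_cases h1 : φ ∈ B
  · by_cases h2 : φ ∈ B'
    · exact absurd (isPBlock_eq_of_mem hB hB' h1 h2) hne
    · rw [if_neg h2, mul_zero]
  · rw [if_neg h1, zero_mul]

theorem sum_blockCoeff [Fintype (IrrCharacter G)] :
    ∑ B ∈ blocks M G, blockCoeff B = classInd (1 : G) := by
  classical
  apply eq_of_omegaFun_eq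
    (isClassFunction_sum _ _ (fun B _ => blockCoeff_isClassFunction B))
    (classInd_isClassFunction 1)
  intro φ
  rw [omegaFun_sum, omegaFun_classInd, centralChar_one]
  simp_rw [omegaFun_blockCoeff]
  rw [Finset.sum_eq_single (blockOf M (φ : G → ℂ))]
  · rw [if_pos (mem_blockOf_self φ)]
  · intro B hB hne
    rw [if_neg]
    intro hφ
    exact hne (isPBlock_eq_of_mem ((mem_blocks M B).mp hB) ⟨φ, rfl⟩ hφ (mem_blockOf_self φ))
  · intro h
    exact absurd ((mem_blocks M _).mpr ⟨φ, rfl⟩) h

variable [Fintype (ConjClasses G)] [DecidableEq (ConjClasses G)]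

omit hprime in
theorem classMat_blockCoeff_idem (B : Set (IrrCharacter G)) :
    classMat (blockCoeff B) * classMat (blockCoeff B) = classMat (blockCoeff B) := by
  rw [← classMat_conv (blockCoeff_isClassFunction B) (blockCoeff_isClassFunction B),
    conv_blockCoeff_self]

theorem classMat_blockCoeff_orth {B B' : Set (IrrCharacter G)} (hB : IsPBlock M B)
    (hB' : IsPBlock M B') (hne : B ≠ B') :
    classMat (blockCoeff B) * classMat (blockCoeff B') = 0 := by
  rw [← classMat_conv (blockCoeff_isClassFunction B) (blockCoeff_isClassFunction B'),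
    conv_blockCoeff_of_ne M hB hB' hne, classMat_zero]

theorem sum_classMat_blockCoeff [Fintype (IrrCharacter G)] :
    ∑ B ∈ blocks M G, classMat (blockCoeff B) = 1 := by
  rw [← classMat_sum, sum_blockCoeff, classMat_classInd_one]

end family

section localMat

variable {G : Type u} [Group G] [Fintype G]
variable (M : Ideal AlgInt) [hmax : M.IsMaximal]
variable [Fintype (ConjClasses G)] [DecidableEq (ConjClasses G)]

/-! ## the matrices over the local ring -/

omit [Fintype (ConjClasses G)] in
theorem rowSum_mem_localSubring {a : G → ℂ} (ha : ∀ g, MemLocalRing M (a g)) (x : G)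
    (K : ConjClasses G) : rowSum a x K ∈ localSubring M := by
  have hprime : M.IsPrime := hmax.isPrime
  unfold rowSum
  apply Subring.sum_mem
  intro h _
  split_ifs
  · exact ha _
  · exact (localSubring M).zero_mem

/-- the matrix of `conv a ·` on class functions, over the local ring -/
noncomputable def classMatO (a : G → ℂ) (ha : ∀ g, MemLocalRing M (a g)) :
    Matrix (ConjClasses G) (ConjClasses G) (localSubring M) :=
  fun L K => ⟨classMat a L K, rowSum_mem_localSubring M ha _ K⟩

omit [Fintype (ConjClasses G)] in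
theorem classMatO_map_subtype (a : G → ℂ) (ha : ∀ g, MemLocalRing M (a g)) :
    (classMatO M a ha).map (localSubring M).subtype = classMat a := rfl

open Classical in
/-- the family of matrices over the local ring attached to the blocks -/
noncomputable def blockMatO (B : Set (IrrCharacter G)) :
    Matrix (ConjClasses G) (ConjClasses G) (localSubring M) :=
  if h : IsPBlock M B then
    classMatO M (blockCoeff B) (fun g => by
      have hprime : M.IsPrime := hmax.isPrime
      obtain ⟨χ₀, rfl⟩ := h
      exact memLocalRing_blockCoeff_blockOf χ₀ g)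
  else 0

omit [Fintype (ConjClasses G)] in
theorem blockMatO_map_subtype {B : Set (IrrCharacter G)} (hB : IsPBlock M B) :
    (blockMatO M B).map (localSubring M).subtype = classMat (blockCoeff B) := by
  unfold blockMatO
  rw [dif_pos hB]
  rfl

omit [Fintype G] in
theorem mapMatrix_subtype_injective :
    Function.Injective ((localSubring M).subtype.mapMatrix :
      Matrix (ConjClasses G) (ConjClasses G) (localSubring M) → _) :=
  Matrix.map_injective Subtype.val_injective

theorem mapMatrix_blockMatO {B : Set (IrrCharacter G)} (hB : IsPBlock M B) :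
    (localSubring M).subtype.mapMatrix (blockMatO M B) = classMat (blockCoeff B) :=
  blockMatO_map_subtype M hB

theorem blockMatO_idem {B : Set (IrrCharacter G)} (hB : IsPBlock M B) :
    blockMatO M B * blockMatO M B = blockMatO M B := by
  apply mapMatrix_subtype_injective M
  rw [map_mul, mapMatrix_blockMatO M hB, classMat_blockCoeff_idem]

theorem blockMatO_orth {B B' : Set (IrrCharacter G)} (hB : IsPBlock M B) (hB' : IsPBlock M B')
    (hne : B ≠ B') : blockMatO M B * blockMatO M B' = 0 := by
  have hprime : M.IsPrime := hmax.isPrime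
  apply mapMatrix_subtype_injective M
  rw [map_mul, mapMatrix_blockMatO M hB, mapMatrix_blockMatO M hB',
    classMat_blockCoeff_orth M hB hB' hne, map_zero]

theorem sum_blockMatO [Fintype (IrrCharacter G)] :
    ∑ B ∈ blocks M G, blockMatO M B = 1 := by
  have hprime : M.IsPrime := hmax.isPrime
  apply mapMatrix_subtype_injective M
  rw [map_sum, Finset.sum_congr rfl (fun B hB => mapMatrix_blockMatO M ((mem_blocks M B).mp hB)),
    sum_classMat_blockCoeff M, map_one]

end localMat

end Cfsg.Agent.Lib.Helper22.BlkAlgB5b
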