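/-
helper22: S5840 C3 rank-one, MOD sub-market (helper13), leaf M7 gen: the values e^(q+1) * fr^m (st e)^(q+1)
generate E additively (cardinality argument).
-/
import Mathlib
import Cfsg.Prelude.Def_Classical
import Cfsg.Prelude.Def_ClassicalGeometry
import Cfsg.Prelude.Def_GeometricClasses
import Cfsg.Agent.Lib.Helper5.SUMax
import Cfsg.Agent.Lib.Helper5.UForm
import Cfsg.Agent.Lib.Helper16.C3uDefs
import Cfsg.Agent.Lib.Helper13.C3qDefs
import Cfsg.Agent.Lib.Helper13.C3qMDefs
import Cfsg.Agent.Lib.Helper12.C3uF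
import Cfsg.Agent.Lib.Helper22.C3qMUlemma

set_option autoImplicit false
set_option linter.unusedSectionVars false
set_option linter.unusedVariables false

namespace Cfsg.Agent.Lib.Helper22.C3qModLeaf
open Cfsg Matrix Module Cfsg.Agent.Lib.Helper16.C3u Cfsg.Agent.Lib.Helper13.C3q

universe u
variable {F : Type u} [Field F] [Fintype F] {n q : ℕ} {E : Type u} [Field E] [Algebra F E]

/-- an additive subgroup of a finite field which is closed under multiplication, contains `1` and has more than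
`√|E|` elements is everything -/
theorem addSubgroup_eq_top_of_card [Finite E] (R : AddSubgroup E) (h1 : (1 : E) ∈ R)
    (hmul : ∀ x ∈ R, ∀ y ∈ R, x * y ∈ R) (hcard : Nat.card E < Nat.card R * Nat.card R) : R = ⊤ := by
  classical
  let _ : Fintype E := Fintype.ofFinite E
  have hpow : ∀ x ∈ R, ∀ k : ℕ, x ^ k ∈ R := by
    intro x hx k
    induction k with
    | zero => rw [pow_zero]; exact h1
    | succ k ih => rw [pow_succ]; exact hmul _ ih _ hx
  have hinv : ∀ x ∈ R, x⁻¹ ∈ R := by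
    intro x hx
    by_cases hx0 : x = 0
    · rw [hx0, _root_.inv_zero]; exact R.zero_mem
    · have h2 := FiniteField.pow_card_sub_one_eq_one x hx0
      have h3 : 2 ≤ Fintype.card E := Fintype.one_lt_card
      have h4 : x⁻¹ = x ^ (Fintype.card E - 2) := by
        apply inv_eq_of_mul_eq_one_right
        rw [← pow_succ', show Fintype.card E - 2 + 1 = Fintype.card E - 1 by omega]
        exact h2
      rw [h4]
      exact hpow x hx _
  by_contra hne
  obtain ⟨x, hx⟩ : ∃ x : E, x ∉ R := by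
    by_contra hcon
    push Not at hcon
    exact hne (eq_top_iff.mpr fun y _ => hcon y)
  have hinj : Function.Injective (fun p : R × R => (p.1 : E) + (p.2 : E) * x) := by
    rintro ⟨⟨r, hr⟩, ⟨s, hs⟩⟩ ⟨⟨r', hr'⟩, ⟨s', hs'⟩⟩ hp
    simp only at hp
    have hss : s = s' := by
      by_contra hss
      apply hx
      have h5 : x = (r' - r) * (s - s')⁻¹ := by
        have h6 : s - s' ≠ 0 := sub_ne_zero.mpr hss
        field_simp
        linear_combination hp
      rw [h5]
      exact hmul _ (R.sub_mem hr' hr) _ (hinv _ (R.sub_mem hs hs'))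
    subst hss
    have hrr : r = r' := by linear_combination hp
    subst hrr
    rfl
  have h7 := Nat.card_le_card_of_injective _ hinj
  rw [Nat.card_prod] at h7
  omega

/-- **M7** -/
theorem gen (S : KU n q F E) (hF : Fintype.card F = q ^ 2) (hn : 0 < n) [FiniteDimensional F E]
    (hr5 : finrank F E = 5) (m : ℕ) (hm : m = 1 ∨ m = 2) :
    AddSubgroup.closure {x : E | ∃ e : E, e ≠ 0 ∧
      x = e ^ (q + 1) * (fr F E ^ m) (S.st e ^ (q + 1))} = ⊤ := by
  classical
  have hfin : Finite E := Module.finite_of_finite F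
  let _ : Fintype E := Fintype.ofFinite E
  have hq : 2 ≤ q := by
    have h1 : 1 < Fintype.card F := Fintype.one_lt_card
    rw [hF] at h1
    by_contra hlt
    have : q = 0 ∨ q = 1 := by omega
    rcases this with rfl | rfl <;> simp at h1
  have hcardE : Nat.card E = q ^ 5 * q ^ 5 := by
    rw [Nat.card_eq_fintype_card, Module.card_eq_pow_finrank (K := F) (V := E), hr5, hF]
    ring
  -- the ring endomorphism `ψ = fr^m ∘ st`
  obtain ⟨ψ, hψ⟩ : ∃ ψ : E →+* E, ∀ x, ψ x = (fr F E ^ m) (S.st x) :=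
    ⟨((fr F E ^ m : E →ₐ[F] E) : E →+* E).comp (S.st : E →+* E), fun x => rfl⟩
  have hψψ : ∀ x, ψ (ψ x) = (fr F E ^ (2 * m)) x := by
    intro x
    rw [hψ, hψ, st_fr, S.st_st, two_mul, pow_add]
    rfl
  obtain ⟨T, hT⟩ : ∃ T : Set E, T = {x : E | ∃ e : E, e ≠ 0 ∧
      x = e ^ (q + 1) * (fr F E ^ m) (S.st e ^ (q + 1))} := ⟨_, rfl⟩
  rw [← hT]
  have hTmem : ∀ e : E, e ≠ 0 → (e * ψ e) ^ (q + 1) ∈ T := by
    intro e he
    rw [hT]
    refine ⟨e, he, ?_⟩
    rw [mul_pow, hψ, ← map_pow, ← map_pow]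
  have hT1 : (1 : E) ∈ T := by
    have h := hTmem 1 one_ne_zero
    rwa [map_one, mul_one, one_pow] at h
  have hTmul : ∀ x ∈ T, ∀ y ∈ T, x * y ∈ T := by
    intro x hx y hy
    rw [hT] at hx hy
    obtain ⟨e, he, rfl⟩ := hx
    obtain ⟨e', he', rfl⟩ := hy
    have h := hTmem (e * e') (mul_ne_zero he he')
    have h2 : (e * e' * ψ (e * e')) ^ (q + 1) =
        e ^ (q + 1) * (fr F E ^ m) (S.st e ^ (q + 1)) *
          (e' ^ (q + 1) * (fr F E ^ m) (S.st e' ^ (q + 1))) := by
      rw [map_mul, hψ, hψ, map_pow (fr F E ^ m), map_pow (fr F E ^ m)]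
      ring
    rwa [h2] at h
  obtain ⟨R, hR⟩ : ∃ R : AddSubgroup E, R = AddSubgroup.closure T := ⟨_, rfl⟩
  rw [← hR]
  have hTR : ∀ x ∈ T, x ∈ R := fun x hx => by rw [hR]; exact AddSubgroup.subset_closure hx
  have hRmul : ∀ x ∈ R, ∀ y ∈ R, x * y ∈ R := by
    have hstep : ∀ x ∈ T, ∀ y ∈ R, x * y ∈ R := by
      intro x hx y hy
      rw [hR] at hy
      induction hy using AddSubgroup.closure_induction with
      | mem y hy => exact hTR _ (hTmul x hx y hy)
      | zero => rw [mul_zero]; exact R.zero_mem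
      | add y z _ _ ihy ihz => rw [mul_add]; exact R.add_mem ihy ihz
      | neg y _ ih => rw [mul_neg]; exact R.neg_mem ih
    intro x hx y hy
    rw [hR] at hx
    induction hx using AddSubgroup.closure_induction with
    | mem x hx => exact hstep x hx y hy
    | zero => rw [zero_mul]; exact R.zero_mem
    | add x z _ _ ihx ihz => rw [add_mul]; exact R.add_mem ihx ihz
    | neg x _ ih => rw [neg_mul]; exact R.neg_mem ih
  apply addSubgroup_eq_top_of_card R (hTR 1 hT1) hRmul
  -- the counting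
  obtain ⟨χ, hχ⟩ : ∃ χ : Eˣ →* Eˣ, ∀ u : Eˣ, ((χ u : Eˣ) : E) = ((u : E) * ψ (u : E)) ^ (q + 1) :=
    ⟨(powMonoidHom (q + 1)).comp (MonoidHom.id Eˣ * Units.map (ψ : E →* E)), fun u => by
      simp [powMonoidHom_apply, MonoidHom.mul_apply]⟩
  obtain ⟨N, hN⟩ : ∃ N : ℕ, N = (q + 1) * (q ^ 2 - 1) := ⟨_, rfl⟩
  have hq2 : 1 ≤ q ^ 2 := Nat.one_le_pow _ _ (by omega)
  have hN0 : 0 < N := by
    rw [hN]
    have : 4 ≤ q ^ 2 := by nlinarith
    exact Nat.mul_pos (by omega) (by omega)
  have hker : ∀ u : Eˣ, χ u = 1 → u ^ N = 1 := by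
    intro u hu
    obtain ⟨k, hk⟩ : ∃ k : E, k = (u : E) ^ (q + 1) := ⟨_, rfl⟩
    have hk0 : k ≠ 0 := by rw [hk]; exact pow_ne_zero _ u.ne_zero
    have h1 : k * ψ k = 1 := by
      have h2 := hχ u
      rw [hu, Units.val_one, mul_pow, ← map_pow, ← hk] at h2
      exact h2.symm
    have h3 : ψ k * ψ (ψ k) = 1 := by rw [← map_mul, h1, map_one]
    have h4 : ψ (ψ k) = k := by
      have hψk : ψ k ≠ 0 := right_ne_zero_of_mul_eq_one h1
      have h5 : ψ k * ψ (ψ k) = ψ k * k := by rw [h3, mul_comm, h1]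
      exact mul_left_cancel₀ hψk h5
    rw [hψψ] at h4
    have h6 : (fr F E) k = k := by
      have h55 := fr_pow_finrank (F := F) (E := E)
      rw [hr5] at h55
      rcases hm with rfl | rfl
      · -- fr^2 k = k, so fr^6 k = k
        have e1 : (fr F E ^ 6) k = k := by
          have : (fr F E ^ 6) k = (fr F E ^ 2) ((fr F E ^ 2) ((fr F E ^ 2) k)) := by
            rw [show 6 = 2 + (2 + 2) by norm_num, pow_add, pow_add]; rfl
          rw [this, h4, h4, h4]
        have e2 : (fr F E ^ 6) k = (fr F E) k := by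
          rw [show 6 = 5 + 1 by norm_num, pow_add, h55, one_mul, pow_one]
        rw [← e2, e1]
      · -- fr^4 k = k, apply fr
        have e1 : (fr F E ^ 5) k = (fr F E) ((fr F E ^ (2 * 2)) k) := by
          rw [show 5 = 1 + 2 * 2 by norm_num, pow_add, pow_one]; rfl
        rw [h4, h55, AlgHom.one_apply] at e1
        exact e1.symm
    have h7 : k ^ (q ^ 2) = k := by
      have h8 := h6
      rw [FiniteField.coe_frobeniusAlgHom, hF] at h8
      exact h8
    have h9 : k ^ (q ^ 2 - 1) = 1 := by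
      have h10 : k ^ (q ^ 2 - 1) * k = 1 * k := by
        rw [← pow_succ, show q ^ 2 - 1 + 1 = q ^ 2 by omega, h7, one_mul]
      exact mul_right_cancel₀ hk0 h10
    apply Units.ext
    rw [Units.val_pow_eq_pow_val, Units.val_one, hN, pow_mul, ← hk, h9]
  have hkercard : Nat.card χ.ker ≤ N := by
    have h1 : Nat.card χ.ker ≤ Nat.card {u : Eˣ // u ^ N = 1} :=
      Nat.card_le_card_of_injective (fun u => ⟨u.1, hker u.1 (MonoidHom.mem_ker.mp u.2)⟩)
        (fun a b hab => Subtype.ext (congrArg (fun z : {u : Eˣ // u ^ N = 1} => z.1) hab))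
    have h2 : Nat.card {u : Eˣ // u ^ N = 1} = (Finset.univ.filter fun u : Eˣ => u ^ N = 1).card := by
      rw [Nat.card_eq_fintype_card, Fintype.card_subtype]
    rw [h2] at h1
    exact h1.trans (IsCyclic.card_pow_eq_one_le hN0)
  have hprod : Nat.card χ.ker * Nat.card χ.range = q ^ 5 * q ^ 5 - 1 := by
    rw [← Subgroup.index_ker, Subgroup.card_mul_index, Nat.card_units, hcardE]
  have hrange : Nat.card χ.range < Nat.card R := by
    have hmemR : ∀ y : χ.range, ((y : Eˣ) : E) ∈ R := by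
      rintro ⟨y, u, rfl⟩
      rw [hχ]
      exact hTR _ (hTmem _ u.ne_zero)
    have hinj : Function.Injective (fun y : χ.range => (⟨((y : Eˣ) : E), hmemR y⟩ : R)) := by
      intro a b hab
      apply Subtype.ext
      apply Units.ext
      exact congrArg Subtype.val hab
    have hnot : (0 : R) ∉ Set.range (fun y : χ.range => (⟨((y : Eˣ) : E), hmemR y⟩ : R)) := by
      rintro ⟨y, hy⟩
      have := congrArg Subtype.val hy
      exact (y : Eˣ).ne_zero this
    let _ : Fintype R := Fintype.ofFinite R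
    let _ : Fintype χ.range := Fintype.ofFinite χ.range
    rw [Nat.card_eq_fintype_card, Nat.card_eq_fintype_card]
    exact Fintype.card_lt_of_injective_of_notMem _ hinj hnot
  -- arithmetic
  rw [hcardE]
  obtain ⟨Q, hQ⟩ : ∃ Q : ℕ, Q = q ^ 5 := ⟨_, rfl⟩
  rw [← hQ] at hprod ⊢
  have hNQ : N ≤ Q := by
    rw [hN, hQ]
    have e1 : (q + 1) * (q ^ 2 - 1) ≤ (q + 1) * q ^ 2 := Nat.mul_le_mul_left _ (Nat.sub_le _ _)
    have e2 : q + 1 ≤ q ^ 3 := by nlinarith [Nat.pow_le_pow_left hq 3, sq_nonneg q]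
    calc (q + 1) * (q ^ 2 - 1) ≤ (q + 1) * q ^ 2 := e1
      _ ≤ q ^ 3 * q ^ 2 := Nat.mul_le_mul_right _ e2
      _ = q ^ 5 := by ring
  have hQ2 : 2 ≤ Q := by
    rw [hQ]
    calc 2 ≤ q := hq
      _ = q ^ 1 := (pow_one q).symm
      _ ≤ q ^ 5 := Nat.pow_le_pow_right (by omega) (by norm_num)
  by_contra hcon
  push Not at hcon
  have hC : Nat.card R ≤ Q := by
    by_contra hgt
    push Not at hgt
    have : Q * Q < Nat.card R * Nat.card R := Nat.mul_self_lt_mul_self hgt
    omega
  have hQQ : 1 ≤ Q * Q := by nlinarith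
  have hA : Nat.card χ.ker ≤ Q := hkercard.trans hNQ
  have hB : Nat.card χ.range + 1 ≤ Q := by omega
  have h1 : Nat.card χ.ker * Nat.card χ.range ≤ Q * Nat.card χ.range := Nat.mul_le_mul_right _ hA
  have h2 : Q * Nat.card χ.range + Q ≤ Q * Q := by nlinarith
  omega

end Cfsg.Agent.Lib.Helper22.C3qModLeaf
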