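import Mathlib
import Cfsg.Prelude.Def_Classical
import Cfsg.Prelude.Def_ClassicalGeometry
import Cfsg.Prelude.Def_GeometricClasses
import Cfsg.Agent.Lib.Helper5.SUMax
import Cfsg.Agent.Lib.Helper5.UForm
import Cfsg.Agent.Lib.Helper22.C3LDefs
import Cfsg.Agent.Lib.Helper22.C3LTool
import Cfsg.Agent.Lib.Helper16.C3uDefs
import Cfsg.Agent.Lib.Helper12.C3uF
import Cfsg.Agent.Lib.Helper12.C3uW0
import Cfsg.Agent.Lib.Helper26.C3uW1

/-!
S5840 / S5801 unitary C3 with `dim_E V = 2`, stage (A) (planner helper6): leaf FM `map_mul_of_fixed` (helper22).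
-/

set_option autoImplicit false
set_option linter.unusedSectionVars false
set_option linter.unusedVariables false

namespace Cfsg.Agent.Lib.Helper22.C3u2Leaf
open Cfsg Matrix Module Cfsg.Agent.Lib.Helper5.SpMax Cfsg.Agent.Lib.Helper5.SUMax
  Cfsg.Agent.Lib.Helper22.C3L Cfsg.Agent.Lib.Helper16.C3u

universe u
variable {F : Type u} [Field F] [Fintype F] {n q : ℕ} {E : Type u} [Field E] [Algebra F E]

/-- **FM**: an `F`-linear map `α : E → E` which is multiplicative against the fixed field of `st` is multiplicative -/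
theorem map_mul_of_fixed (S : KU n q F E) (hF : Fintype.card F = q ^ 2) (α : E →ₗ[F] E)
    (h : ∀ t c : E, S.st c = c → α (t * c) = α t * α c) : ∀ x y : E, α (x * y) = α x * α y := by
  obtain ⟨θ', hθ'⟩ := Cfsg.Agent.Lib.Helper12.C3uLeaf.exists_pow_ne (F := F) hF
  obtain ⟨θ, hθ⟩ : ∃ θ : E, θ = algebraMap F E θ' := ⟨_, rfl⟩
  have hstθ : S.st θ ≠ θ := by
    rw [hθ, S.st_alg]
    intro h0
    exact hθ' ((algebraMap F E).injective h0)
  have hne : θ - S.st θ ≠ 0 := sub_ne_zero.mpr (Ne.symm hstθ)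
  intro x y
  obtain ⟨d, hd⟩ : ∃ d : E, d = (y - S.st y) / (θ - S.st θ) := ⟨_, rfl⟩
  have hstd : S.st d = d := by
    rw [hd, map_div₀, map_sub, map_sub, S.st_st, S.st_st]
    rw [div_eq_div_iff (sub_ne_zero.mpr hstθ) hne]
    ring
  have hd2 : d * (θ - S.st θ) = y - S.st y := by rw [hd]; exact div_mul_cancel₀ _ hne
  obtain ⟨c, hc⟩ : ∃ c : E, c = y - θ * d := ⟨_, rfl⟩
  have hstc : S.st c = c := by
    rw [hc, map_sub, map_mul, hstd]
    linear_combination hd2
  have hy : y = c + θ' • d := by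
    rw [hc, Algebra.smul_def, ← hθ]; ring
  have hxy : x * y = x * c + θ' • (x * d) := by
    rw [hy, mul_add, mul_smul_comm]
  rw [hxy, map_add, map_smul, h x c hstc, h x d hstd, hy, map_add, map_smul, mul_add,
    mul_smul_comm]

end Cfsg.Agent.Lib.Helper22.C3u2Leaf
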