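import Mathlib
import Cfsg.Prelude.Def_Transfer

set_option autoImplicit false

/-!
CM-groups: finite groups in which the centralizer of every non-central element is a maximal
subgroup.  Part 1: the partition by double centralizers, and the case in which all these
centralizers are normal (`G/Z(G)` elementary abelian).
-/

namespace Cfsg.Agent.Lib.Helper22.CMGroup

variable {G : Type*} [Group G]

/-- The centralizer of every non-central element is a maximal subgroup. -/
def IsCM (G : Type*) [Group G] : Prop :=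
  ∀ x : G, x ∉ Subgroup.center G → IsCoatom (Subgroup.centralizer ({x} : Set G))

/-- `C_G(x)`. -/
abbrev cent (x : G) : Subgroup G := Subgroup.centralizer ({x} : Set G)

/-- `C_G(C_G(x)) = Z(C_G(x))`. -/
abbrev dcent (x : G) : Subgroup G := Subgroup.centralizer ((cent x : Subgroup G) : Set G)

theorem mem_cent {x y : G} : y ∈ cent x ↔ y * x = x * y :=
  Subgroup.mem_centralizer_singleton_iff

theorem mem_cent_comm {x y : G} : y ∈ cent x ↔ x ∈ cent y := by
  rw [mem_cent, mem_cent]; exact eq_comm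

theorem self_mem_cent (x : G) : x ∈ cent x := mem_cent.mpr rfl

theorem mem_dcent {x a : G} : a ∈ dcent x ↔ ∀ m ∈ cent x, m * a = a * m :=
  Subgroup.mem_centralizer_iff

theorem self_mem_dcent (x : G) : x ∈ dcent x := by
  rw [mem_dcent]
  intro m hm
  exact mem_cent.mp hm

theorem dcent_le_cent (x : G) : dcent x ≤ cent x := by
  intro a ha
  rw [mem_cent]
  exact ((mem_dcent.mp ha) x (self_mem_cent x)).symm

theorem center_le_cent (x : G) : Subgroup.center G ≤ cent x := by
  intro z hz
  rw [mem_cent]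
  exact ((Subgroup.mem_center_iff.mp hz) x).symm

theorem center_le_dcent (x : G) : Subgroup.center G ≤ dcent x := by
  intro z hz
  rw [mem_dcent]
  intro m _
  exact (Subgroup.mem_center_iff.mp hz) m

theorem cent_ne_top {x : G} (hx : x ∉ Subgroup.center G) : cent x ≠ ⊤ := by
  intro h
  rw [Subgroup.centralizer_eq_top_iff_subset] at h
  exact hx (h rfl)

theorem cent_eq_top {x : G} (hx : x ∈ Subgroup.center G) : cent x = ⊤ := by
  rw [Subgroup.centralizer_eq_top_iff_subset]
  rintro y rfl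
  exact hx

/-- (P1) A non-central element of `Z(C(x))` has the same centralizer as `x`. -/
theorem cent_eq_of_mem_dcent (h : IsCM G) {x a : G} (hx : x ∉ Subgroup.center G)
    (ha : a ∈ dcent x) (ha' : a ∉ Subgroup.center G) : cent a = cent x := by
  have hle : cent x ≤ cent a := by
    intro m hm
    rw [mem_cent]
    exact (mem_dcent.mp ha) m hm
  exact ((h x hx).le_iff_eq (cent_ne_top ha')).mp hle

theorem dcent_eq_of_cent_eq {x y : G} (h : cent x = cent y) : dcent x = dcent y := by
  unfold dcent; rw [h]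

/-- (P3) If `y` commutes with `x` then `Z(C(y)) ≤ C(x)`. -/
theorem dcent_le_cent_of_mem {x y : G} (hy : y ∈ cent x) : dcent y ≤ cent x := by
  intro a ha
  rw [mem_cent]
  exact ((mem_dcent.mp ha) x (mem_cent_comm.mp hy)).symm

/-- An element whose centralizer is `C(x)` lies in `Z(C(x))`. -/
theorem mem_dcent_of_cent_eq {x y : G} (h : cent y = cent x) : y ∈ dcent x := by
  rw [← dcent_eq_of_cent_eq h]; exact self_mem_dcent y

theorem mem_cent_conj {g x y : G} : y ∈ cent (g * x * g⁻¹) ↔ g⁻¹ * y * g ∈ cent x := by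
  rw [mem_cent, mem_cent]
  constructor
  · intro h
    have : g⁻¹ * (y * (g * x * g⁻¹)) * g = g⁻¹ * (g * x * g⁻¹ * y) * g := by rw [h]
    calc g⁻¹ * y * g * x = g⁻¹ * (y * (g * x * g⁻¹)) * g := by group
      _ = g⁻¹ * (g * x * g⁻¹ * y) * g := this
      _ = x * (g⁻¹ * y * g) := by group
  · intro h
    have : g * (g⁻¹ * y * g * x) * g⁻¹ = g * (x * (g⁻¹ * y * g)) * g⁻¹ := by rw [h]
    calc y * (g * x * g⁻¹) = g * (g⁻¹ * y * g * x) * g⁻¹ := by group
      _ = g * (x * (g⁻¹ * y * g)) * g⁻¹ := this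
      _ = g * x * g⁻¹ * y := by group

theorem mem_cent_conj' {g x y : G} : y ∈ cent (g⁻¹ * x * g) ↔ g * y * g⁻¹ ∈ cent x := by
  have := mem_cent_conj (g := g⁻¹) (x := x) (y := y)
  rwa [inv_inv] at this

theorem mem_dcent_conj {g x a : G} : a ∈ dcent (g * x * g⁻¹) ↔ g⁻¹ * a * g ∈ dcent x := by
  rw [mem_dcent, mem_dcent]
  constructor
  · intro h m hm
    have hm' : g * m * g⁻¹ ∈ cent (g * x * g⁻¹) := by
      rw [mem_cent_conj]
      have e : g⁻¹ * (g * m * g⁻¹) * g = m := by group
      rw [e]; exact hm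
    have := h _ hm'
    calc m * (g⁻¹ * a * g) = g⁻¹ * (g * m * g⁻¹ * a) * g := by group
      _ = g⁻¹ * (a * (g * m * g⁻¹)) * g := by rw [this]
      _ = g⁻¹ * a * g * m := by group
  · intro h m hm
    have := h _ (mem_cent_conj.mp hm)
    calc m * a = g * (g⁻¹ * m * g * (g⁻¹ * a * g)) * g⁻¹ := by group
      _ = g * (g⁻¹ * a * g * (g⁻¹ * m * g)) * g⁻¹ := by rw [this]
      _ = a * m := by group

theorem conj_not_mem_center {g x : G} (hx : x ∉ Subgroup.center G) :
    g * x * g⁻¹ ∉ Subgroup.center G := by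
  intro h
  apply hx
  have := (Subgroup.center G).normal_of_characteristic.conj_mem _ h g⁻¹
  simpa [mul_assoc] using this

/-! ### The case where every centralizer is normal -/

/-- A normal maximal subgroup has a quotient which is commutative of prime exponent. -/
theorem normal_coatom_quotient [Finite G] {M : Subgroup G} (hM : IsCoatom M) (hn : M.Normal) :
    ∃ p : ℕ, p.Prime ∧ M.index = p ∧ (∀ g : G, g ^ p ∈ M) ∧
      ∀ a b : G, a * b * (b * a)⁻¹ ∈ M := by
  classical
  haveI := hn
  haveI : Fintype (G ⧸ M) := Fintype.ofFinite _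
  have hnt : Nat.card (G ⧸ M) ≠ 1 := by
    intro h1
    have : M.index = 1 := h1
    exact hM.1 (Subgroup.index_eq_one.mp this)
  obtain ⟨p, hp, hpd⟩ := Nat.exists_prime_and_dvd hnt
  haveI : Fact p.Prime := ⟨hp⟩
  rw [Nat.card_eq_fintype_card] at hpd
  obtain ⟨q, hq⟩ := exists_prime_orderOf_dvd_card p hpd
  obtain ⟨g, rfl⟩ := QuotientGroup.mk_surjective q
  have hgM : g ∉ M := by
    intro hg
    have : (QuotientGroup.mk g : G ⧸ M) = 1 := (QuotientGroup.eq_one_iff g).mpr hg
    rw [this, orderOf_one] at hq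
    exact hp.one_lt.ne hq
  have htop : Subgroup.zpowers g ⊔ M = ⊤ := by
    have hlt : M < Subgroup.zpowers g ⊔ M := by
      refine lt_of_le_of_ne le_sup_right ?_
      intro h
      apply hgM
      rw [h]
      exact le_sup_left (a := Subgroup.zpowers g) (Subgroup.mem_zpowers g)
    exact hM.2 _ hlt
  -- every element of the quotient is a power of `mk g`
  have hpow : ∀ y : G, ∃ k : ℤ, (QuotientGroup.mk y : G ⧸ M) = (QuotientGroup.mk g : G ⧸ M) ^ k := by
    intro y
    have hy : y ∈ Subgroup.zpowers g ⊔ M := by rw [htop]; exact Subgroup.mem_top y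
    obtain ⟨a, ha, m, hm, rfl⟩ := Subgroup.mem_sup_of_normal_right.mp hy
    obtain ⟨k, rfl⟩ := Subgroup.mem_zpowers_iff.mp ha
    refine ⟨k, ?_⟩
    rw [QuotientGroup.mk_mul, (QuotientGroup.eq_one_iff m).mpr hm, mul_one, QuotientGroup.mk_zpow]
  have hgp : (QuotientGroup.mk g : G ⧸ M) ^ p = 1 := by
    rw [← hq]; exact pow_orderOf_eq_one _
  refine ⟨p, hp, ?_, ?_, ?_⟩
  · rw [Subgroup.index_eq_card, ← hq]
    symm
    apply orderOf_eq_card_of_forall_mem_zpowers
    intro q'
    obtain ⟨y, rfl⟩ := QuotientGroup.mk_surjective q'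
    obtain ⟨k, hk⟩ := hpow y
    exact Subgroup.mem_zpowers_iff.mpr ⟨k, hk.symm⟩
  · intro y
    obtain ⟨k, hk⟩ := hpow y
    rw [← QuotientGroup.eq_one_iff, QuotientGroup.mk_pow, hk, ← zpow_natCast, ← zpow_mul,
      mul_comm, zpow_mul, zpow_natCast, hgp, one_zpow]
  · intro a b
    obtain ⟨k, hk⟩ := hpow a
    obtain ⟨l, hl⟩ := hpow b
    rw [← QuotientGroup.eq_one_iff, QuotientGroup.mk_mul, QuotientGroup.mk_inv,
      QuotientGroup.mk_mul, QuotientGroup.mk_mul, hk, hl, ← zpow_add, ← zpow_add, add_comm,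
      mul_inv_cancel]

/-- If all centralizers of non-central elements are normal, commutators are central. -/
theorem commutator_mem_center [Finite G] (h : IsCM G)
    (hn : ∀ x : G, x ∉ Subgroup.center G → (cent x).Normal) (a b : G) :
    a * b * (b * a)⁻¹ ∈ Subgroup.center G := by
  rw [Subgroup.mem_center_iff]
  intro g
  by_cases hg : g ∈ Subgroup.center G
  · exact ((Subgroup.mem_center_iff.mp hg) _).symm
  · obtain ⟨p, -, -, -, hc⟩ := normal_coatom_quotient (h g hg) (hn g hg)
    exact (mem_cent.mp (hc a b)).symm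

/-- If all centralizers of non-central elements are normal, each element has prime order modulo
the centre. -/
theorem exists_prime_pow_mem_center [Finite G] (h : IsCM G)
    (hn : ∀ x : G, x ∉ Subgroup.center G → (cent x).Normal) {x : G}
    (hx : x ∉ Subgroup.center G) : ∃ p : ℕ, p.Prime ∧ x ^ p ∈ Subgroup.center G := by
  obtain ⟨p, hp, -, hpow, -⟩ := normal_coatom_quotient (h x hx) (hn x hx)
  refine ⟨p, hp, ?_⟩
  rw [Subgroup.mem_center_iff]
  intro g
  obtain ⟨z, hz⟩ : ∃ z : G, z = x * g * (g * x)⁻¹ := ⟨_, rfl⟩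
  have hzc : z ∈ Subgroup.center G := hz ▸ commutator_mem_center h hn x g
  have hzcomm : ∀ y : G, Commute z y := fun y => ((Subgroup.mem_center_iff.mp hzc) y).symm
  have e1 : x * g * x⁻¹ = z * g := by rw [hz]; group
  have hgp : g ^ p * x = x * g ^ p := mem_cent.mp (hpow g)
  have e2 : (x * g * x⁻¹) ^ p = g ^ p := by
    rw [conj_pow, ← hgp]; group
  have hzp : z ^ p = 1 := by
    rw [e1, (hzcomm g).mul_pow] at e2
    exact mul_eq_right.mp e2
  have e3 : g * x * g⁻¹ = z⁻¹ * x := by rw [hz]; group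
  have e4 : (g * x * g⁻¹) ^ p = x ^ p := by
    rw [e3, ((hzcomm x).inv_left).mul_pow, inv_pow, hzp, inv_one, one_mul]
  rw [conj_pow] at e4
  calc g * x ^ p = (g * x ^ p * g⁻¹) * g := by group
    _ = x ^ p * g := by rw [e4]

/-- **Case A.** If all centralizers of non-central elements are normal, `G/Z(G)` is elementary
abelian. -/
theorem elementaryAbelian_of_all_normal [Finite G] (hna : ¬ IsMulCommutative G) (h : IsCM G)
    (hn : ∀ x : G, x ∉ Subgroup.center G → (cent x).Normal) :
    ∃ p : ℕ, p.Prime ∧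
      Cfsg.IsElementaryAbelian p (⊤ : Subgroup (G ⧸ Subgroup.center G)) := by
  classical
  have hcomm : ∀ a b : G ⧸ Subgroup.center G, a * b = b * a := by
    intro a b
    obtain ⟨a, rfl⟩ := QuotientGroup.mk_surjective a
    obtain ⟨b, rfl⟩ := QuotientGroup.mk_surjective b
    have := commutator_mem_center h hn a b
    rw [← QuotientGroup.eq_one_iff, QuotientGroup.mk_mul, QuotientGroup.mk_inv] at this
    rw [← QuotientGroup.mk_mul, ← QuotientGroup.mk_mul]
    exact mul_inv_eq_one.mp this
  obtain ⟨x₀, hx₀⟩ : ∃ x₀ : G, x₀ ∉ Subgroup.center G := by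
    by_contra hcon
    push Not at hcon
    apply hna
    refine ⟨⟨fun a b => ?_⟩⟩
    exact ((Subgroup.mem_center_iff.mp (hcon b)) a)
  obtain ⟨p, hp, hpx⟩ := exists_prime_pow_mem_center h hn hx₀
  have hord : ∀ {y : G} {q : ℕ}, y ∉ Subgroup.center G → q.Prime → y ^ q ∈ Subgroup.center G →
      orderOf (QuotientGroup.mk y : G ⧸ Subgroup.center G) = q := by
    intro y q hy hq hyq
    have h1 : orderOf (QuotientGroup.mk y : G ⧸ Subgroup.center G) ∣ q := by
      rw [orderOf_dvd_iff_pow_eq_one, ← QuotientGroup.mk_pow, QuotientGroup.eq_one_iff]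
      exact hyq
    rcases (Nat.dvd_prime hq).mp h1 with h2 | h2
    · exfalso
      rw [orderOf_eq_one_iff, QuotientGroup.eq_one_iff] at h2
      exact hy h2
    · exact h2
  refine ⟨p, hp, ⟨⟨fun a b => Subtype.ext (hcomm a b)⟩⟩, ?_⟩
  intro a _
  obtain ⟨y, rfl⟩ := QuotientGroup.mk_surjective a
  by_cases hy : y ∈ Subgroup.center G
  · rw [(QuotientGroup.eq_one_iff y).mpr hy, one_pow]
  obtain ⟨q, hq, hqy⟩ := exists_prime_pow_mem_center h hn hy
  have ho₀ := hord hx₀ hp hpx
  have hoy := hord hy hq hqy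
  by_cases hpq : p = q
  · rw [hpq, ← QuotientGroup.mk_pow, QuotientGroup.eq_one_iff]; exact hqy
  exfalso
  have hcop : (orderOf (QuotientGroup.mk x₀ : G ⧸ Subgroup.center G)).Coprime
      (orderOf (QuotientGroup.mk y : G ⧸ Subgroup.center G)) := by
    rw [ho₀, hoy]; exact (Nat.coprime_primes hp hq).mpr hpq
  have hmul := (show Commute (QuotientGroup.mk x₀ : G ⧸ Subgroup.center G) (QuotientGroup.mk y)
    from hcomm _ _).orderOf_mul_eq_mul_orderOf_of_coprime hcop
  rw [ho₀, hoy, ← QuotientGroup.mk_mul] at hmul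
  have hxy : x₀ * y ∉ Subgroup.center G := by
    intro hc
    rw [(QuotientGroup.eq_one_iff _).mpr hc, orderOf_one] at hmul
    have := hp.one_lt
    have := hq.one_lt
    nlinarith
  obtain ⟨r, hr, hrxy⟩ := exists_prime_pow_mem_center h hn hxy
  rw [hord hxy hr hrxy] at hmul
  rw [hmul] at hr
  exact Nat.not_prime_mul hp.one_lt.ne' hq.one_lt.ne' hr

end Cfsg.Agent.Lib.Helper22.CMGroup
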