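import Mathlib
import Cfsg.Agent.Lib.Helper22.CMGroup1
import Cfsg.Agent.Lib.Helper1.Coprime

set_option autoImplicit false
open Pointwise

/-!
CM-groups, part 2: a non-abelian centralizer has prime exponent modulo the centre, and a
non-normal centralizer is abelian.
-/

namespace Cfsg.Agent.Lib.Helper22.CMGroup

variable {G : Type*} [Group G]

/-- Elements `a ∈ Z(C(x)) ∖ Z(G)` and `b ∈ C(x) ∖ Z(C(x))` have the same order modulo `Z(G)`. -/
theorem pow_mem_center_iff (h : IsCM G) {x a b : G} (hx : x ∉ Subgroup.center G)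
    (ha : a ∈ dcent x) (ha' : a ∉ Subgroup.center G) (hb : b ∈ cent x) (hb' : b ∉ dcent x)
    (k : ℕ) : a ^ k ∈ Subgroup.center G ↔ b ^ k ∈ Subgroup.center G := by
  have hbZ : b ∉ Subgroup.center G := fun hc => hb' (center_le_dcent x hc)
  have hcomm : Commute a b := ((mem_dcent.mp ha) b hb).symm
  have habZ : a * b ∉ Subgroup.center G := by
    intro hc
    apply hb'
    have : b = a⁻¹ * (a * b) := by group
    rw [this]
    exact (dcent x).mul_mem ((dcent x).inv_mem ha) (center_le_dcent x hc)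
  have hpow : (a * b) ^ k = a ^ k * b ^ k := hcomm.mul_pow k
  have habd : (a * b) ^ k ∈ dcent (a * b) := (dcent (a * b)).pow_mem (self_mem_dcent _) k
  have hax : cent a = cent x := cent_eq_of_mem_dcent h hx ha ha'
  constructor
  · intro hak
    by_contra hbk
    have h1 : b ^ k ∈ dcent (a * b) := by
      have : b ^ k = (a ^ k)⁻¹ * (a * b) ^ k := by rw [hpow]; group
      rw [this]
      exact (dcent (a * b)).mul_mem ((dcent (a * b)).inv_mem (center_le_dcent _ hak)) habd
    have h2 : cent (b ^ k) = cent (a * b) := cent_eq_of_mem_dcent h habZ h1 hbk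
    have h3 : cent (b ^ k) = cent b :=
      cent_eq_of_mem_dcent h hbZ ((dcent b).pow_mem (self_mem_dcent b) k) hbk
    have h4 : dcent (a * b) = dcent b := dcent_eq_of_cent_eq (h2.symm.trans h3)
    have h5 : a ∈ dcent b := by
      have : a = (a * b) * b⁻¹ := by group
      rw [this]
      exact (dcent b).mul_mem (h4 ▸ self_mem_dcent (a * b)) ((dcent b).inv_mem (self_mem_dcent b))
    have h6 : cent a = cent b := cent_eq_of_mem_dcent h hbZ h5 ha'
    apply hb'
    rw [← dcent_eq_of_cent_eq (h6.symm.trans hax)]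
    exact self_mem_dcent b
  · intro hbk
    by_contra hak
    have h1 : a ^ k ∈ dcent (a * b) := by
      have : a ^ k = (a * b) ^ k * (b ^ k)⁻¹ := by rw [hpow]; group
      rw [this]
      exact (dcent (a * b)).mul_mem habd ((dcent (a * b)).inv_mem (center_le_dcent _ hbk))
    have h2 : cent (a ^ k) = cent (a * b) := cent_eq_of_mem_dcent h habZ h1 hak
    have h3 : cent (a ^ k) = cent x :=
      cent_eq_of_mem_dcent h hx ((dcent x).pow_mem ha k) hak
    have h4 : dcent (a * b) = dcent x := dcent_eq_of_cent_eq (h2.symm.trans h3)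
    apply hb'
    have : b = a⁻¹ * (a * b) := by group
    rw [this]
    exact (dcent x).mul_mem ((dcent x).inv_mem ha) (h4 ▸ self_mem_dcent (a * b))

/-- (P4) A non-abelian centralizer has prime exponent modulo the centre. -/
theorem exists_prime_exponent [Finite G] (h : IsCM G) {x : G} (hx : x ∉ Subgroup.center G)
    (hnab : ∃ b ∈ cent x, b ∉ dcent x) :
    ∃ p : ℕ, p.Prime ∧ ∀ m ∈ cent x, m ^ p ∈ Subgroup.center G := by
  obtain ⟨b, hb, hb'⟩ := hnab
  obtain ⟨n, hn⟩ : ∃ n : ℕ, n = orderOf (QuotientGroup.mk x : G ⧸ Subgroup.center G) := ⟨_, rfl⟩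
  have hdvd : ∀ k : ℕ, n ∣ k ↔ x ^ k ∈ Subgroup.center G := by
    intro k
    rw [hn, orderOf_dvd_iff_pow_eq_one, ← QuotientGroup.mk_pow, QuotientGroup.eq_one_iff]
  have hn1 : n ≠ 1 := by
    intro h1
    have := (hdvd 1).mp (by rw [h1])
    rw [pow_one] at this
    exact hx this
  have hn0 : 0 < n := by rw [hn]; exact orderOf_pos _
  have hp : (n.minFac).Prime := Nat.minFac_prime hn1
  have hpn : n.minFac ∣ n := Nat.minFac_dvd n
  have hxp : x ^ n.minFac ∈ Subgroup.center G := by
    by_contra hcon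
    obtain ⟨k, hk⟩ := hpn
    have hk0 : 0 < k := by
      rcases Nat.eq_zero_or_pos k with h0 | h0
      · rw [h0, mul_zero] at hk; omega
      · exact h0
    have h1 : (x ^ n.minFac) ^ k ∈ Subgroup.center G := by
      rw [← pow_mul, ← hk]; exact (hdvd n).mp dvd_rfl
    have h2 : b ^ k ∈ Subgroup.center G :=
      (pow_mem_center_iff h hx ((dcent x).pow_mem (self_mem_dcent x) _) hcon hb hb' k).mp h1
    have h3 : x ^ k ∈ Subgroup.center G :=
      (pow_mem_center_iff h hx (self_mem_dcent x) hx hb hb' k).mpr h2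
    have h4 : n ∣ k := (hdvd k).mpr h3
    have h5 : n ≤ k := Nat.le_of_dvd hk0 h4
    have h6 : 2 ≤ n.minFac := hp.two_le
    nlinarith
  refine ⟨n.minFac, hp, ?_⟩
  intro m hm
  have hbp : b ^ n.minFac ∈ Subgroup.center G :=
    (pow_mem_center_iff h hx (self_mem_dcent x) hx hb hb' _).mp hxp
  by_cases hmZ : m ∈ Subgroup.center G
  · exact (Subgroup.center G).pow_mem hmZ _
  by_cases hmA : m ∈ dcent x
  · exact (pow_mem_center_iff h hx hmA hmZ hb hb' _).mpr hbp
  · exact (pow_mem_center_iff h hx (self_mem_dcent x) hx hm hmA _).mp hxp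

/-! ### General lemmas on groups which are `p`-groups modulo the centre -/

/-- (N1) If `G/Z(G)` is a `p`-group, every maximal subgroup of `G` is normal. -/
theorem coatom_normal_of_pgroup_mod_center [Finite G] {p : ℕ} [Fact p.Prime]
    (hP : IsPGroup p (G ⧸ Subgroup.center G)) {M : Subgroup G} (hM : IsCoatom M) : M.Normal := by
  haveI : Group.IsNilpotent (G ⧸ Subgroup.center G) := hP.isNilpotent
  haveI : Group.IsNilpotent G :=
    Subgroup.isNilpotent_of_ker_le_center (QuotientGroup.mk' (Subgroup.center G))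
      (by rw [QuotientGroup.ker_mk'])
  have h1 : M < Subgroup.normalizer (M : Set G) :=
    Group.normalizerCondition_of_isNilpotent M (lt_top_iff_ne_top.mpr hM.1)
  rw [← Subgroup.normalizer_eq_top_iff]
  exact hM.2 _ h1

/-- A subgroup of prime exponent modulo the centre maps to a `p`-subgroup of `G/Z(G)`. -/
theorem isPGroup_map_of_exponent {p : ℕ} {M : Subgroup G}
    (hMp : ∀ m ∈ M, m ^ p ∈ Subgroup.center G) :
    IsPGroup p ↥(M.map (QuotientGroup.mk' (Subgroup.center G))) := by
  rintro ⟨q, hq⟩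
  obtain ⟨m, hm, rfl⟩ := hq
  refine ⟨1, ?_⟩
  apply Subtype.ext
  rw [pow_one, Subgroup.coe_pow, Subgroup.coe_one]
  change (QuotientGroup.mk m : G ⧸ Subgroup.center G) ^ p = 1
  rw [← QuotientGroup.mk_pow, QuotientGroup.eq_one_iff]
  exact hMp m hm

theorem isPGroup_of_top {p : ℕ} {H : Type*} [Group H] (h : IsPGroup p ↥(⊤ : Subgroup H)) :
    IsPGroup p H := by
  intro g
  obtain ⟨k, hk⟩ := h ⟨g, Subgroup.mem_top g⟩
  exact ⟨k, congrArg Subtype.val hk⟩

/-- (N5) Two distinct maximal subgroups of prime exponent `p` modulo the centre, one of them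
normal: then `G/Z(G)` is a `p`-group. -/
theorem isPGroup_quotient_of_two_coatoms {p : ℕ} [Fact p.Prime] {M M' : Subgroup G}
    (hM : IsCoatom M) (hM' : IsCoatom M') (hne : M' ≠ M)
    (hMp : ∀ m ∈ M, m ^ p ∈ Subgroup.center G) (hM'p : ∀ m ∈ M', m ^ p ∈ Subgroup.center G)
    (hn' : M'.Normal) : IsPGroup p (G ⧸ Subgroup.center G) := by
  have hsup : M ⊔ M' = ⊤ := by
    apply hM.2
    refine lt_of_le_of_ne le_sup_left ?_
    intro he
    have hle : M' ≤ M := by rw [he]; exact le_sup_right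
    exact hne ((hM'.le_iff_eq hM.1).mp hle).symm
  haveI : (M'.map (QuotientGroup.mk' (Subgroup.center G))).Normal :=
    hn'.map _ (QuotientGroup.mk'_surjective _)
  have h1 := IsPGroup.to_sup_of_normal_right (isPGroup_map_of_exponent hMp)
    (isPGroup_map_of_exponent hM'p)
  rw [← Subgroup.map_sup, hsup, ← MonoidHom.range_eq_map,
    MonoidHom.range_eq_top.mpr (QuotientGroup.mk'_surjective _)] at h1
  exact isPGroup_of_top h1

/-- (N3) Two non-normal maximal subgroups containing the centre and of prime exponent `p`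
modulo the centre are conjugate. -/
theorem exists_conj_of_coatoms [Finite G] {p : ℕ} [Fact p.Prime] {M M' : Subgroup G}
    (hM : IsCoatom M) (hM' : IsCoatom M') (hZ : Subgroup.center G ≤ M)
    (hZ' : Subgroup.center G ≤ M')
    (hMp : ∀ m ∈ M, m ^ p ∈ Subgroup.center G) (hM'p : ∀ m ∈ M', m ^ p ∈ Subgroup.center G)
    (hnn : ¬ M.Normal) (hnn' : ¬ M'.Normal) :
    ∃ g : G, ∀ m : G, m ∈ M' ↔ g⁻¹ * m * g ∈ M := by
  have key : ∀ {L : Subgroup G}, IsCoatom L → Subgroup.center G ≤ L →
      (∀ m ∈ L, m ^ p ∈ Subgroup.center G) → ¬ L.Normal →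
      ∃ P : Sylow p (G ⧸ Subgroup.center G),
        (P : Subgroup (G ⧸ Subgroup.center G)).comap (QuotientGroup.mk' (Subgroup.center G)) = L := by
    intro L hL hZL hLp hLnn
    obtain ⟨P, hP⟩ := (isPGroup_map_of_exponent hLp).exists_le_sylow
    refine ⟨P, ?_⟩
    have hle : L ≤ (P : Subgroup (G ⧸ Subgroup.center G)).comap
        (QuotientGroup.mk' (Subgroup.center G)) := by
      intro m hm
      exact hP (Subgroup.mem_map_of_mem _ hm)
    rcases (hL.le_iff).mp hle with htop | heq
    · exfalso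
      apply hLnn
      have hPtop : (P : Subgroup (G ⧸ Subgroup.center G)) = ⊤ := by
        rw [← Subgroup.map_comap_eq_self_of_surjective (QuotientGroup.mk'_surjective _)
          (P : Subgroup (G ⧸ Subgroup.center G)), htop, ← MonoidHom.range_eq_map,
          MonoidHom.range_eq_top.mpr (QuotientGroup.mk'_surjective _)]
      have h1 : IsPGroup p ↥(⊤ : Subgroup (G ⧸ Subgroup.center G)) := hPtop ▸ P.isPGroup'
      exact coatom_normal_of_pgroup_mod_center (isPGroup_of_top h1) hL
    · exact heq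
  obtain ⟨P, hP⟩ := key hM hZ hMp hnn
  obtain ⟨P', hP'⟩ := key hM' hZ' hM'p hnn'
  obtain ⟨q, hq⟩ := MulAction.exists_smul_eq (G ⧸ Subgroup.center G) P P'
  obtain ⟨g, rfl⟩ := QuotientGroup.mk_surjective q
  refine ⟨g, fun m => ?_⟩
  rw [← hP', ← hP, Subgroup.mem_comap, Subgroup.mem_comap, ← hq, Sylow.coe_subgroup_smul,
    Subgroup.mem_pointwise_smul_iff_inv_smul_mem]
  simp [MulAut.smul_def]

/-- A subgroup of prime exponent modulo the centre is nilpotent. -/
theorem isNilpotent_of_exponent [Finite G] {p : ℕ} [Fact p.Prime] {K : Subgroup G}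
    (hKp : ∀ m ∈ K, m ^ p ∈ Subgroup.center G) : Group.IsNilpotent ↥K := by
  let f : ↥K →* G ⧸ Subgroup.center G := (QuotientGroup.mk' (Subgroup.center G)).comp K.subtype
  have hP : IsPGroup p ↥f.range := by
    rintro ⟨q, hq⟩
    obtain ⟨k, rfl⟩ := hq
    refine ⟨1, ?_⟩
    apply Subtype.ext
    rw [pow_one, Subgroup.coe_pow, Subgroup.coe_one]
    change (QuotientGroup.mk (k : G) : G ⧸ Subgroup.center G) ^ p = 1
    rw [← QuotientGroup.mk_pow, QuotientGroup.eq_one_iff]
    exact hKp k k.2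
  haveI : Group.IsNilpotent ↥f.range := hP.isNilpotent
  apply Subgroup.isNilpotent_of_ker_le_center f.rangeRestrict
  intro k hk
  rw [MonoidHom.mem_ker] at hk
  have h1 : (QuotientGroup.mk (k : G) : G ⧸ Subgroup.center G) = 1 :=
    congrArg Subtype.val hk
  rw [QuotientGroup.eq_one_iff] at h1
  rw [Subgroup.mem_center_iff]
  intro m
  apply Subtype.ext
  exact (Subgroup.mem_center_iff.mp h1) m

/-- (N2) Normalizers grow in nilpotent subgroups. -/
theorem exists_mem_normalizer_of_nilpotent {H K : Subgroup G} (hK : Group.IsNilpotent ↥K)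
    (hHK : H ≤ K) (hne : H ≠ K) :
    ∃ u ∈ K, u ∉ H ∧ u ∈ Subgroup.normalizer (H : Set G) := by
  have hlt : H.subgroupOf K < ⊤ := by
    rw [lt_top_iff_ne_top]
    intro h
    rw [Subgroup.subgroupOf_eq_top] at h
    exact hne (le_antisymm hHK h)
  have h1 := Group.normalizerCondition_of_isNilpotent (H.subgroupOf K) hlt
  obtain ⟨u, hu, hu'⟩ := SetLike.exists_of_lt h1
  refine ⟨u, u.2, fun hc => hu' (Subgroup.mem_subgroupOf.mpr hc), ?_⟩
  rw [Subgroup.mem_normalizer_iff] at hu ⊢
  intro d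
  by_cases hd : d ∈ K
  · have := hu ⟨d, hd⟩
    rw [Subgroup.mem_subgroupOf, Subgroup.mem_subgroupOf] at this
    simpa using this
  · constructor
    · intro hdH; exact absurd (hHK hdH) hd
    · intro hdH
      exfalso
      apply hd
      have h2 := hHK hdH
      have : d = (u : G)⁻¹ * ((u : G) * d * (u : G)⁻¹) * (u : G) := by group
      rw [this]
      exact K.mul_mem (K.mul_mem (K.inv_mem u.2) h2) u.2

/-- (N4) In a subgroup `M` of prime exponent modulo the centre which is not abelian there is a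
non-central element of `M` which is central modulo `Z(M)`. -/
theorem exists_second_center [Finite G] {p : ℕ} [Fact p.Prime] {M : Subgroup G}
    (hMp : ∀ m ∈ M, m ^ p ∈ Subgroup.center G)
    (hnab : ∃ y₀ ∈ M, y₀ ∉ Subgroup.centralizer (M : Set G)) :
    ∃ y ∈ M, y ∉ Subgroup.centralizer (M : Set G) ∧
      ∀ m ∈ M, y * m * y⁻¹ * m⁻¹ ∈ Subgroup.centralizer (M : Set G) := by
  have hcen : ∀ c : ↥M, c ∈ Subgroup.center ↥M ↔ (c : G) ∈ Subgroup.centralizer (M : Set G) := by
    intro c
    rw [Subgroup.mem_center_iff, Subgroup.mem_centralizer_iff]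
    constructor
    · intro hc m hm
      exact congrArg Subtype.val (hc ⟨m, hm⟩)
    · intro hc m
      exact Subtype.ext (hc m m.2)
  have hP : IsPGroup p (↥M ⧸ Subgroup.center ↥M) := by
    intro q
    obtain ⟨m, rfl⟩ := QuotientGroup.mk_surjective q
    refine ⟨1, ?_⟩
    rw [pow_one, ← QuotientGroup.mk_pow, QuotientGroup.eq_one_iff, hcen]
    rw [Subgroup.coe_pow]
    intro g _
    exact (Subgroup.mem_center_iff.mp (hMp m m.2)) g
  obtain ⟨y₀, hy₀, hy₀'⟩ := hnab
  haveI : Nontrivial (↥M ⧸ Subgroup.center ↥M) := by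
    refine ⟨⟨QuotientGroup.mk ⟨y₀, hy₀⟩, 1, ?_⟩⟩
    intro h1
    rw [QuotientGroup.eq_one_iff, hcen] at h1
    exact hy₀' h1
  have h1 := hP.bot_lt_center
  obtain ⟨q, hq, hq'⟩ := SetLike.exists_of_lt h1
  obtain ⟨y, rfl⟩ := QuotientGroup.mk_surjective q
  refine ⟨y, y.2, ?_, ?_⟩
  · intro hc
    apply hq'
    rw [Subgroup.mem_bot, QuotientGroup.eq_one_iff, hcen]
    exact hc
  · intro m hm
    have h2 := (Subgroup.mem_center_iff.mp hq) (QuotientGroup.mk ⟨m, hm⟩)
    have h3 : (QuotientGroup.mk (y * ⟨m, hm⟩ * y⁻¹ * (⟨m, hm⟩ : ↥M)⁻¹) :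
        ↥M ⧸ Subgroup.center ↥M) = 1 := by
      rw [QuotientGroup.mk_mul, QuotientGroup.mk_mul, QuotientGroup.mk_mul, QuotientGroup.mk_inv,
        QuotientGroup.mk_inv, ← h2]
      group
    rw [QuotientGroup.eq_one_iff, hcen] at h3
    simpa using h3

end Cfsg.Agent.Lib.Helper22.CMGroup
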