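import Mathlib
import Cfsg.Agent.Lib.Helper22.CMGroup1
import Cfsg.Agent.Lib.Helper22.CMGroup2
import Cfsg.Agent.Lib.Helper1.Coprime

set_option autoImplicit false
open Pointwise

/-!
CM-groups, part 3: a non-normal centralizer of a non-central element is abelian.
-/

namespace Cfsg.Agent.Lib.Helper22.CMGroup

variable {G : Type*} [Group G]

/-- If `m ∈ C(x) ∖ Z(C(x))` then `C(m) ≠ C(x)`, and `C(m)` is not abelian (`x ∉ Z(C(m))`). -/
theorem cent_ne_of_not_mem_dcent (h : IsCM G) {x m : G} (hx : x ∉ Subgroup.center G)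
    (hm : m ∈ cent x) (hm' : m ∉ dcent x) :
    cent m ≠ cent x ∧ x ∈ cent m ∧ x ∉ dcent m := by
  have hmZ : m ∉ Subgroup.center G := fun hc => hm' (center_le_dcent x hc)
  have h1 : cent m ≠ cent x := fun he => hm' (mem_dcent_of_cent_eq he)
  refine ⟨h1, mem_cent_comm.mp hm, ?_⟩
  intro hc
  exact h1 (cent_eq_of_mem_dcent h hmZ hc hx).symm

/-- The prime attached to two non-abelian centralizers sharing a non-central element is the
same. -/
theorem prime_eq_of_common {p q : ℕ} (hp : p.Prime) (hq : q.Prime) {y : G}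
    (hy : y ∉ Subgroup.center G) (hyp : y ^ p ∈ Subgroup.center G)
    (hyq : y ^ q ∈ Subgroup.center G) : p = q := by
  have h1 : orderOf (QuotientGroup.mk y : G ⧸ Subgroup.center G) ∣ p := by
    rw [orderOf_dvd_iff_pow_eq_one, ← QuotientGroup.mk_pow, QuotientGroup.eq_one_iff]; exact hyp
  have h2 : orderOf (QuotientGroup.mk y : G ⧸ Subgroup.center G) ∣ q := by
    rw [orderOf_dvd_iff_pow_eq_one, ← QuotientGroup.mk_pow, QuotientGroup.eq_one_iff]; exact hyq
  have h3 : orderOf (QuotientGroup.mk y : G ⧸ Subgroup.center G) ≠ 1 := by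
    intro h
    rw [orderOf_eq_one_iff, QuotientGroup.eq_one_iff] at h
    exact hy h
  rcases (Nat.dvd_prime hp).mp h1 with h4 | h4
  · exact absurd h4 h3
  rcases (Nat.dvd_prime hq).mp h2 with h5 | h5
  · exact absurd h5 h3
  · rw [← h4, h5]

/-- **A non-normal centralizer of a non-central element is abelian.** -/
theorem cent_le_dcent_of_not_normal [Finite G] (h : IsCM G) {x : G}
    (hx : x ∉ Subgroup.center G) (hnn : ¬ (cent x).Normal) : cent x ≤ dcent x := by
  by_contra hcon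
  obtain ⟨y₀, hy₀, hy₀'⟩ := SetLike.not_le_iff_exists.mp hcon
  obtain ⟨p, hp, hMp⟩ := exists_prime_exponent h hx ⟨y₀, hy₀, hy₀'⟩
  haveI : Fact p.Prime := ⟨hp⟩
  -- an element of the second centre
  obtain ⟨y, hyM, hyA, hyc⟩ := exists_second_center hMp ⟨y₀, hy₀, hy₀'⟩
  have hyZ : y ∉ Subgroup.center G := fun hc => hyA (center_le_dcent x hc)
  obtain ⟨hne, hxy, hxy'⟩ := cent_ne_of_not_mem_dcent h hx hyM hyA
  obtain ⟨q, hq, hMyq⟩ := exists_prime_exponent h hyZ ⟨x, hxy, hxy'⟩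
  have hqp : q = p := prime_eq_of_common hq hp hyZ (hMyq y (self_mem_cent y)) (hMp y hyM)
  rw [hqp] at hMyq
  -- the intersection `D`
  obtain ⟨D, hD⟩ : ∃ D : Subgroup G, D = cent x ⊓ cent y := ⟨_, rfl⟩
  have hDM : D ≤ cent x := by rw [hD]; exact inf_le_left
  have hDMy : D ≤ cent y := by rw [hD]; exact inf_le_right
  have hAD : dcent x ≤ D := by
    rw [hD]
    refine le_inf (dcent_le_cent x) ?_
    intro a ha
    rw [mem_cent]
    exact ((mem_dcent.mp ha) y hyM).symm
  -- `C(x)` normalizes `D`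
  have hMN : cent x ≤ Subgroup.normalizer (D : Set G) := by
    intro m hm
    apply Cfsg.Agent.Lib.Helper1.mem_normalizer_of_forall_conj_mem
    intro d hd
    rw [hD]
    have hdM : d ∈ cent x := hDM hd
    have hmdm : m * d * m⁻¹ ∈ cent x :=
      (cent x).mul_mem ((cent x).mul_mem hm hdM) ((cent x).inv_mem hm)
    refine ⟨hmdm, ?_⟩
    show m * d * m⁻¹ ∈ cent y
    rw [mem_cent]
    -- `φ = y m y⁻¹ m⁻¹` is central in `C(x)`
    have hφ := hyc m hm
    have hφc : ∀ w ∈ cent x, w * (y * m * y⁻¹ * m⁻¹) = (y * m * y⁻¹ * m⁻¹) * w :=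
      fun w hw => (mem_dcent.mp hφ) w hw
    have hyd : d * y = y * d := mem_cent.mp (hDMy hd)
    have e1 : y * (m * d * m⁻¹) * y⁻¹ =
        (y * m * y⁻¹ * m⁻¹) * (m * d * m⁻¹) * (y * m * y⁻¹ * m⁻¹)⁻¹ := by
      have : y * d * y⁻¹ = d := by rw [← hyd]; group
      calc y * (m * d * m⁻¹) * y⁻¹ = (y * m * y⁻¹) * (y * d * y⁻¹) * (y * m * y⁻¹)⁻¹ := by group
        _ = (y * m * y⁻¹) * d * (y * m * y⁻¹)⁻¹ := by rw [this]
        _ = _ := by group
    have e2 : (y * m * y⁻¹ * m⁻¹) * (m * d * m⁻¹) * (y * m * y⁻¹ * m⁻¹)⁻¹ = m * d * m⁻¹ := by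
      rw [← hφc _ hmdm]; group
    calc m * d * m⁻¹ * y = (y * (m * d * m⁻¹) * y⁻¹) * y := by rw [e1, e2]
      _ = y * (m * d * m⁻¹) := by group
  -- an element of `C(y)` outside `D` normalizing `D`
  have hDne : D ≠ cent y := by
    intro he
    have hle : cent y ≤ cent x := he ▸ hDM
    exact hne (((h y hyZ).le_iff_eq (cent_ne_top hx)).mp hle).symm
  obtain ⟨u, huMy, huD, huN⟩ :=
    exists_mem_normalizer_of_nilpotent (isNilpotent_of_exponent hMyq) hDMy hDne
  have huM : u ∉ cent x := fun hc => huD (hD ▸ ⟨hc, huMy⟩)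
  have hDn : D.Normal := by
    rw [← Subgroup.normalizer_eq_top_iff]
    apply (h x hx).2
    refine lt_of_le_of_ne hMN ?_
    intro he
    apply huM
    show u ∈ Subgroup.centralizer {x}
    rw [he]
    exact huN
  -- `C(x) ≤ D`
  have hMD : cent x ≤ D := by
    intro m hm
    by_cases hmA : m ∈ dcent x
    · exact hAD hmA
    have hmZ : m ∉ Subgroup.center G := fun hc => hmA (center_le_dcent x hc)
    obtain ⟨hne', hxm, hxm'⟩ := cent_ne_of_not_mem_dcent h hx hm hmA
    obtain ⟨r, hr, hMmr⟩ := exists_prime_exponent h hmZ ⟨x, hxm, hxm'⟩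
    have hrp : r = p := prime_eq_of_common hr hp hmZ (hMmr m (self_mem_cent m)) (hMp m hm)
    rw [hrp] at hMmr
    have hnn' : ¬ (cent m).Normal := by
      intro hn'
      apply hnn
      exact coatom_normal_of_pgroup_mod_center
        (isPGroup_quotient_of_two_coatoms (h x hx) (h m hmZ) hne' hMp hMmr hn') (h x hx)
    obtain ⟨g, hg⟩ := exists_conj_of_coatoms (h x hx) (h m hmZ) (center_le_cent x)
      (center_le_cent m) hMp hMmr hnn hnn'
    have hcm : cent m = cent (g * x * g⁻¹) := by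
      ext z
      rw [hg z, mem_cent_conj]
    have h1 : m ∈ dcent (g * x * g⁻¹) := mem_dcent_of_cent_eq hcm
    rw [mem_dcent_conj] at h1
    have h2 := hDn.conj_mem _ (hAD h1) g
    have e : g * (g⁻¹ * m * g) * g⁻¹ = m := by group
    rwa [e] at h2
  -- contradiction
  have hle : cent x ≤ cent y := hMD.trans hDMy
  exact hne (((h x hx).le_iff_eq (cent_ne_top hyZ)).mp hle)

end Cfsg.Agent.Lib.Helper22.CMGroup
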