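import Mathlib
import Cfsg.Prelude.Def_Solvable
import Cfsg.Agent.Lib.Helper22.CMGroup1
import Cfsg.Agent.Lib.Helper22.CMGroup2
import Cfsg.Agent.Lib.Helper22.CMGroup3
import Cfsg.Agent.Lib.Helper1.Basic
import Cfsg.Agent.Lib.Helper1.Coprime
import Cfsg.Agent.Lib.Helper1.Commutator
import Cfsg.Agent.Lib.Lead.FrobConj

set_option autoImplicit false
open Pointwise

/-!
CM-groups, part 4: if some centralizer of a non-central element is not normal, `G/Z(G)` is a
Frobenius group of order `p^a q` all of whose proper subgroups are abelian.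
-/

namespace Cfsg.Agent.Lib.Helper22.CMGroup

open Cfsg.Agent.Lib.Helper1

universe u

variable {G : Type u} [Group G]

/-- The image of a maximal subgroup containing the kernel is maximal. -/
theorem isCoatom_map_mk {N : Subgroup G} [N.Normal] {M : Subgroup G} (hM : IsCoatom M)
    (hNM : N ≤ M) : IsCoatom (M.map (QuotientGroup.mk' N)) := by
  have hker : (QuotientGroup.mk' N).ker ≤ M := by rw [QuotientGroup.ker_mk']; exact hNM
  have hsurj := QuotientGroup.mk'_surjective N
  constructor
  · intro h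
    apply hM.1
    rw [← Subgroup.comap_map_eq_self hker, h, Subgroup.comap_top]
  · intro B hB
    have h1 : M ≤ B.comap (QuotientGroup.mk' N) := by
      intro m hm
      exact hB.le (Subgroup.mem_map_of_mem _ hm)
    rcases (hM.le_iff).mp h1 with h2 | h2
    · rw [← Subgroup.map_comap_eq_self_of_surjective hsurj B, h2, ← MonoidHom.range_eq_map,
        MonoidHom.range_eq_top.mpr hsurj]
    · exfalso
      apply hB.ne
      rw [← Subgroup.map_comap_eq_self_of_surjective hsurj B, h2]

/-- A subgroup of prime order lies in every subgroup meeting it non-trivially. -/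
theorem le_of_prime_card {Q : Type*} [Group Q] {A B : Subgroup Q} (hA : (Nat.card A).Prime)
    {a : Q} (haA : a ∈ A) (haB : a ∈ B) (ha : a ≠ 1) : A ≤ B := by
  haveI : Finite A := Nat.finite_of_card_ne_zero hA.ne_zero
  have h1 : Nat.card ↥(A ⊓ B) ∣ Nat.card A := Subgroup.card_dvd_of_le inf_le_left
  rcases (Nat.dvd_prime hA).mp h1 with h2 | h2
  · exfalso
    rw [Subgroup.card_eq_one] at h2
    have : a ∈ A ⊓ B := ⟨haA, haB⟩
    rw [h2, Subgroup.mem_bot] at this
    exact ha this
  · have h3 : A ⊓ B = A := Subgroup.eq_of_le_of_card_ge inf_le_left h2.ge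
    rw [← h3]
    exact inf_le_right

/-- Membership in a conjugate of the image of `C(x)`. -/
theorem mem_conj_map_iff {x : G} (g c : G) :
    (QuotientGroup.mk c : G ⧸ Subgroup.center G) ∈
      MulAut.conj (QuotientGroup.mk g : G ⧸ Subgroup.center G) •
        (cent x).map (QuotientGroup.mk' (Subgroup.center G)) ↔ g⁻¹ * c * g ∈ cent x := by
  rw [mem_conj_smul_iff]
  have hker : (QuotientGroup.mk' (Subgroup.center G)).ker ≤ cent x := by
    rw [QuotientGroup.ker_mk']; exact center_le_cent x
  have e : (QuotientGroup.mk g : G ⧸ Subgroup.center G)⁻¹ * QuotientGroup.mk c * QuotientGroup.mk g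
      = QuotientGroup.mk' (Subgroup.center G) (g⁻¹ * c * g) := by
    simp
  rw [e, ← Subgroup.mem_comap, Subgroup.comap_map_eq_self hker]

variable [Finite G]

/-- If `C(x)` is not normal, its image in `G/Z(G)` is a Frobenius complement. -/
theorem isFrobeniusComplement_map (h : IsCM G) {x : G} (hx : x ∉ Subgroup.center G)
    (hnn : ¬ (cent x).Normal) :
    Cfsg.IsFrobeniusComplement ((cent x).map (QuotientGroup.mk' (Subgroup.center G))) := by
  have hab := cent_le_dcent_of_not_normal h hx hnn
  have hco := isCoatom_map_mk (h x hx) (center_le_cent x)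
  refine ⟨?_, hco.1, ?_⟩
  · intro hbot
    have : QuotientGroup.mk' (Subgroup.center G) x ∈
        (cent x).map (QuotientGroup.mk' (Subgroup.center G)) :=
      Subgroup.mem_map_of_mem _ (self_mem_cent x)
    rw [hbot, Subgroup.mem_bot] at this
    exact hx ((QuotientGroup.eq_one_iff x).mp this)
  · intro q hq
    obtain ⟨g, rfl⟩ := QuotientGroup.mk_surjective q
    have hgM : g ∉ cent x := fun hc => hq (Subgroup.mem_map_of_mem _ hc)
    rw [eq_bot_iff]
    rintro r ⟨hr1, hr2⟩
    obtain ⟨m, hm, rfl⟩ := hr1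
    rw [Subgroup.mem_bot]
    change (QuotientGroup.mk m : G ⧸ Subgroup.center G) = 1
    rw [QuotientGroup.eq_one_iff]
    by_contra hmZ
    have hr2' : g⁻¹ * m * g ∈ cent x := (mem_conj_map_iff g m).mp hr2
    have h1 : cent m = cent x := cent_eq_of_mem_dcent h hx (hab hm) hmZ
    have hmZ' : g⁻¹ * m * g ∉ Subgroup.center G := by
      have := conj_not_mem_center (g := g⁻¹) hmZ
      rwa [inv_inv] at this
    have h2 : cent (g⁻¹ * m * g) = cent x := cent_eq_of_mem_dcent h hx (hab hr2') hmZ'
    -- `g` normalizes `C(x)`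
    apply hgM
    have hN : g⁻¹ ∈ Subgroup.normalizer ((cent x : Subgroup G) : Set G) := by
      apply mem_normalizer_of_forall_conj_mem
      intro z hz
      rw [inv_inv, ← h2, mem_cent_conj']
      have e : g * (g⁻¹ * z * g) * g⁻¹ = z := by group
      rw [e, h1]
      exact hz
    have hN' : Subgroup.normalizer ((cent x : Subgroup G) : Set G) = cent x := by
      rcases ((h x hx).le_iff).mp (Subgroup.le_normalizer (H := cent x)) with h3 | h3
      · exact absurd (Subgroup.normalizer_eq_top_iff.mp h3) hnn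
      · exact h3
    rw [hN'] at hN
    have := (cent x).inv_mem hN
    rwa [inv_inv] at this

/-- **Case B.** If some centralizer of a non-central element is not normal, then `G/Z(G)` is
non-abelian, all its proper subgroups are abelian, it has order `p^a q`, and its subgroups of
order `p^a` are normal. -/
theorem frobenius_case (h : IsCM G) {x : G} (hx : x ∉ Subgroup.center G)
    (hnn : ¬ (cent x).Normal) :
    ¬ IsMulCommutative (G ⧸ Subgroup.center G) ∧
    (∀ H : Subgroup (G ⧸ Subgroup.center G), H ≠ ⊤ → IsMulCommutative ↥H) ∧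
    ∃ p q a : ℕ, p.Prime ∧ q.Prime ∧ p ≠ q ∧ Nat.card (G ⧸ Subgroup.center G) = p ^ a * q ∧
      ∀ P : Subgroup (G ⧸ Subgroup.center G), Nat.card ↥P = p ^ a → P.Normal := by
  classical
  have hab := cent_le_dcent_of_not_normal h hx hnn
  have hF := isFrobeniusComplement_map h hx hnn
  obtain ⟨Mb, hMb⟩ : ∃ Mb : Subgroup (G ⧸ Subgroup.center G),
      Mb = (cent x).map (QuotientGroup.mk' (Subgroup.center G)) := ⟨_, rfl⟩
  rw [← hMb] at hF
  have hMco : IsCoatom Mb := hMb ▸ isCoatom_map_mk (h x hx) (center_le_cent x)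
  obtain ⟨Kb, hKb, hKbn, hcompl, hKbne, -⟩ := Cfsg.Agent.CharLib.frob_setup Mb hF
  haveI := hKbn
  have hsurj := QuotientGroup.mk'_surjective (Subgroup.center G)
  -- elements of `C(x)` commute
  have hMcomm : ∀ a ∈ cent x, ∀ b ∈ cent x, a * b = b * a := fun a ha b hb =>
    (mem_dcent.mp (hab hb)) a ha
  -- description of the elements outside the kernel
  have hout : ∀ c : G, (QuotientGroup.mk c : G ⧸ Subgroup.center G) ∉ Kb →
      c ∉ Subgroup.center G ∧ ∃ g : G, g⁻¹ * c * g ∈ cent x := by
    intro c hc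
    have hc' : (QuotientGroup.mk c : G ⧸ Subgroup.center G) ∉ Cfsg.frobeniusKernel Mb := by
      rw [← hKb]; exact hc
    unfold Cfsg.frobeniusKernel at hc'
    rw [Set.mem_ofPred_eq] at hc'
    push Not at hc'
    obtain ⟨h1, q, hq⟩ := hc'
    obtain ⟨g, rfl⟩ := QuotientGroup.mk_surjective q
    refine ⟨fun hz => h1 ((QuotientGroup.eq_one_iff c).mpr hz), g, ?_⟩
    rw [hMb] at hq
    exact (mem_conj_map_iff g c).mp hq
  have hin : ∀ k : G, (QuotientGroup.mk k : G ⧸ Subgroup.center G) ∈ Kb → ∀ g : G,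
      g⁻¹ * k * g ∈ cent x → k ∈ Subgroup.center G := by
    intro k hk g hg
    have hk' : (QuotientGroup.mk k : G ⧸ Subgroup.center G) ∈ Cfsg.frobeniusKernel Mb := by
      rw [← hKb]; exact hk
    rcases hk' with h1 | h1
    · exact (QuotientGroup.eq_one_iff k).mp h1
    · exfalso
      apply h1 (QuotientGroup.mk g)
      rw [hMb]
      exact (mem_conj_map_iff g k).mpr hg
  -- the preimage of the kernel
  obtain ⟨K, hK⟩ : ∃ K : Subgroup G, K = Kb.comap (QuotientGroup.mk' (Subgroup.center G)) :=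
    ⟨_, rfl⟩
  have hKmem : ∀ k : G, k ∈ K ↔ (QuotientGroup.mk k : G ⧸ Subgroup.center G) ∈ Kb := by
    intro k; rw [hK]; rfl
  have hKn : K.Normal := hK ▸ hKbn.comap _
  have hKtop : K ≠ ⊤ := by
    intro htop
    apply hF.1
    rw [eq_bot_iff]
    intro r hr
    obtain ⟨c, rfl⟩ := QuotientGroup.mk_surjective r
    have hcK : (QuotientGroup.mk c : G ⧸ Subgroup.center G) ∈ Kb :=
      (hKmem c).mp (htop ▸ Subgroup.mem_top c)
    have : (QuotientGroup.mk c : G ⧸ Subgroup.center G) ∈ Kb ⊓ Mb := ⟨hcK, hr⟩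
    rwa [hcompl.disjoint.eq_bot] at this
  -- centralizers of non-central elements of `K` equal `K`
  have hcentK : ∀ k ∈ K, k ∉ Subgroup.center G → cent k = K := by
    intro k hk hkZ
    have hle : cent k ≤ K := by
      intro c hc
      by_contra hcK
      rw [hKmem] at hcK
      obtain ⟨hcZ, g, hg⟩ := hout c hcK
      have hcZ' : g⁻¹ * c * g ∉ Subgroup.center G := by
        have := conj_not_mem_center (g := g⁻¹) hcZ
        rwa [inv_inv] at this
      have h2 : cent (g⁻¹ * c * g) = cent x := cent_eq_of_mem_dcent h hx (hab hg) hcZ'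
      apply hkZ
      apply hin k ((hKmem k).mp hk) g
      rw [← h2, mem_cent_conj']
      have e : g * (g⁻¹ * k * g) * g⁻¹ = k := by group
      rw [e]
      exact mem_cent_comm.mp hc
    rcases ((h k hkZ).le_iff).mp hle with h3 | h3
    · exact absurd h3 hKtop
    · exact h3.symm
  obtain ⟨k₀, hk₀, hk₀Z⟩ : ∃ k₀ ∈ K, k₀ ∉ Subgroup.center G := by
    obtain ⟨⟨r, hr⟩, hr0⟩ := Subgroup.ne_bot_iff_exists_ne_one.mp hKbne
    have hr1 : r ≠ 1 := fun h1 => hr0 (Subtype.ext h1)
    obtain ⟨k₀, rfl⟩ := QuotientGroup.mk_surjective r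
    exact ⟨k₀, (hKmem k₀).mpr hr, fun hz => hr1 ((QuotientGroup.eq_one_iff k₀).mpr hz)⟩
  have hKco : IsCoatom K := hcentK k₀ hk₀ hk₀Z ▸ h k₀ hk₀Z
  have hKcomm : ∀ a ∈ K, ∀ b ∈ K, a * b = b * a := by
    intro a ha b hb
    by_cases haZ : a ∈ Subgroup.center G
    · exact ((Subgroup.mem_center_iff.mp haZ) b).symm
    · have : b ∈ cent a := by rw [hcentK a ha haZ]; exact hb
      exact (mem_cent.mp this).symm
  have hKbcomm : ∀ a ∈ Kb, ∀ b ∈ Kb, a * b = b * a := by
    intro a ha b hb
    obtain ⟨a, rfl⟩ := QuotientGroup.mk_surjective a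
    obtain ⟨b, rfl⟩ := QuotientGroup.mk_surjective b
    rw [← QuotientGroup.mk_mul, ← QuotientGroup.mk_mul,
      hKcomm a ((hKmem a).mpr ha) b ((hKmem b).mpr hb)]
  -- the complement has prime order
  obtain ⟨q, hq, hKidx, -, -⟩ := normal_coatom_quotient hKco hKn
  have hMbcard : Nat.card Mb = q := by
    rw [← hcompl.symm.index_eq_card, ← hKidx, hK, Subgroup.index_comap_of_surjective _ hsurj]
  refine ⟨?_, ?_, ?_⟩
  · -- not commutative
    intro hcomm
    obtain ⟨r, hr⟩ : ∃ r : G ⧸ Subgroup.center G, r ∉ Mb := by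
      by_contra hcon
      push Not at hcon
      exact hF.2.1 (eq_top_iff.mpr fun r _ => hcon r)
    have h1 := hF.2.2 r hr
    apply hF.1
    rw [eq_bot_iff, ← h1]
    intro s hs
    refine ⟨hs, (mem_conj_smul_iff Mb r s).mpr ?_⟩
    have : r⁻¹ * s * r = s := by
      rw [mul_assoc, hcomm.is_comm.comm s r, ← mul_assoc, inv_mul_cancel, one_mul]
    rw [this]
    exact hs
  · -- proper subgroups are abelian
    intro H hH
    by_cases hHK : H ≤ Kb
    · exact ⟨⟨fun a b => Subtype.ext (hKbcomm a (hHK a.2) b (hHK b.2))⟩⟩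
    obtain ⟨r, hrH, hrK⟩ := SetLike.not_le_iff_exists.mp hHK
    obtain ⟨c, rfl⟩ := QuotientGroup.mk_surjective r
    obtain ⟨hcZ, g, hg⟩ := hout c hrK
    -- the conjugate `H' = g⁻¹ H g` contains `Mb`
    have hMbH : ∀ s ∈ Mb, (QuotientGroup.mk g : G ⧸ Subgroup.center G) * s *
        (QuotientGroup.mk g : G ⧸ Subgroup.center G)⁻¹ ∈ H := by
      obtain ⟨H', hH'⟩ : ∃ H' : Subgroup (G ⧸ Subgroup.center G),
          H' = MulAut.conj (QuotientGroup.mk g : G ⧸ Subgroup.center G)⁻¹ • H := ⟨_, rfl⟩
      have hmemH' : ∀ s, s ∈ H' ↔ (QuotientGroup.mk g : G ⧸ Subgroup.center G) * s *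
          (QuotientGroup.mk g : G ⧸ Subgroup.center G)⁻¹ ∈ H := by
        intro s
        rw [hH', mem_conj_smul_iff, inv_inv]
      have h1 : (QuotientGroup.mk (g⁻¹ * c * g) : G ⧸ Subgroup.center G) ∈ H' := by
        rw [hmemH']
        have : (QuotientGroup.mk g : G ⧸ Subgroup.center G) * QuotientGroup.mk (g⁻¹ * c * g) *
            (QuotientGroup.mk g : G ⧸ Subgroup.center G)⁻¹ = QuotientGroup.mk c := by
          rw [QuotientGroup.mk_mul, QuotientGroup.mk_mul, QuotientGroup.mk_inv]; group
        rw [this]; exact hrH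
      have h2 : (QuotientGroup.mk (g⁻¹ * c * g) : G ⧸ Subgroup.center G) ∈ Mb := by
        rw [hMb]; exact Subgroup.mem_map_of_mem _ hg
      have h3 : (QuotientGroup.mk (g⁻¹ * c * g) : G ⧸ Subgroup.center G) ≠ 1 := by
        intro h1'
        rw [QuotientGroup.eq_one_iff] at h1'
        have := conj_not_mem_center (g := g⁻¹) hcZ
        rw [inv_inv] at this
        exact this h1'
      have h4 : Mb ≤ H' := le_of_prime_card (hMbcard ▸ hq) h2 h1 h3
      intro s hs
      exact (hmemH' s).mp (h4 hs)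
    -- hence `H` is the conjugate of `Mb`
    have hHeq : ∀ t ∈ H, (QuotientGroup.mk g : G ⧸ Subgroup.center G)⁻¹ * t *
        (QuotientGroup.mk g : G ⧸ Subgroup.center G) ∈ Mb := by
      obtain ⟨H', hH'⟩ : ∃ H' : Subgroup (G ⧸ Subgroup.center G),
          H' = MulAut.conj (QuotientGroup.mk g : G ⧸ Subgroup.center G)⁻¹ • H := ⟨_, rfl⟩
      have hmemH' : ∀ s, s ∈ H' ↔ (QuotientGroup.mk g : G ⧸ Subgroup.center G) * s *
          (QuotientGroup.mk g : G ⧸ Subgroup.center G)⁻¹ ∈ H := by
        intro s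
        rw [hH', mem_conj_smul_iff, inv_inv]
      have hle : Mb ≤ H' := fun s hs => (hmemH' s).mpr (hMbH s hs)
      have hH'top : H' ≠ ⊤ := by
        intro htop
        apply hH
        rw [eq_top_iff]
        intro t _
        have : (QuotientGroup.mk g : G ⧸ Subgroup.center G)⁻¹ * t *
            (QuotientGroup.mk g : G ⧸ Subgroup.center G) ∈ H' := htop ▸ Subgroup.mem_top _
        rw [hmemH'] at this
        have e : (QuotientGroup.mk g : G ⧸ Subgroup.center G) *
            ((QuotientGroup.mk g : G ⧸ Subgroup.center G)⁻¹ * t *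
            (QuotientGroup.mk g : G ⧸ Subgroup.center G)) *
            (QuotientGroup.mk g : G ⧸ Subgroup.center G)⁻¹ = t := by group
        rwa [e] at this
      have hH'eq : H' = Mb := (hMco.le_iff_eq hH'top).mp hle
      intro t ht
      rw [← hH'eq, hmemH']
      have e : (QuotientGroup.mk g : G ⧸ Subgroup.center G) *
          ((QuotientGroup.mk g : G ⧸ Subgroup.center G)⁻¹ * t *
          (QuotientGroup.mk g : G ⧸ Subgroup.center G)) *
          (QuotientGroup.mk g : G ⧸ Subgroup.center G)⁻¹ = t := by group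
      rw [e]; exact ht
    have hMbcomm : ∀ a ∈ Mb, ∀ b ∈ Mb, a * b = b * a := by
      intro a ha b hb
      rw [hMb] at ha hb
      obtain ⟨a, ha, rfl⟩ := ha
      obtain ⟨b, hb, rfl⟩ := hb
      rw [← map_mul, ← map_mul, hMcomm a ha b hb]
    refine ⟨⟨fun a b => Subtype.ext ?_⟩⟩
    have h1 := hMbcomm _ (hHeq a a.2) _ (hHeq b b.2)
    have e1 : ∀ s t : G ⧸ Subgroup.center G,
        (QuotientGroup.mk g : G ⧸ Subgroup.center G)⁻¹ * s *
        (QuotientGroup.mk g : G ⧸ Subgroup.center G) *
        ((QuotientGroup.mk g : G ⧸ Subgroup.center G)⁻¹ * t *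
        (QuotientGroup.mk g : G ⧸ Subgroup.center G)) =
        (QuotientGroup.mk g : G ⧸ Subgroup.center G)⁻¹ * (s * t) *
        (QuotientGroup.mk g : G ⧸ Subgroup.center G) := by
      intro s t; group
    rw [e1, e1] at h1
    have h2 := mul_left_cancel (mul_right_cancel h1)
    exact h2
  · -- the order
    have hKbcard1 : Nat.card Kb ≠ 1 := by
      intro h1
      exact hKbne (Subgroup.card_eq_one.mp h1)
    obtain ⟨p, hp, hpd⟩ := Nat.exists_prime_and_dvd hKbcard1
    haveI : Fact p.Prime := ⟨hp⟩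
    obtain ⟨S⟩ : Nonempty (Sylow p ↥Kb) := inferInstance
    have hSn : (S : Subgroup ↥Kb).Normal := by
      refine ⟨fun n hn g => ?_⟩
      have : g * n * g⁻¹ = n := by
        apply Subtype.ext
        have := hKbcomm g g.2 n n.2
        simp only [Subgroup.coe_mul, Subgroup.coe_inv]
        rw [this, mul_assoc, mul_inv_cancel, mul_one]
      rw [this]; exact hn
    haveI hSc : (S : Subgroup ↥Kb).Characteristic := S.characteristic_of_normal hSn
    obtain ⟨Pb, hPb⟩ : ∃ Pb : Subgroup (G ⧸ Subgroup.center G),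
        Pb = (S : Subgroup ↥Kb).map Kb.subtype := ⟨_, rfl⟩
    have hPbn : Pb.Normal := by
      rw [← Subgroup.normalizer_eq_top_iff, eq_top_iff, hPb]
      refine le_trans ?_ (normalizer_le_normalizer_map_subtype_of_characteristic Kb
        (S : Subgroup ↥Kb))
      rw [Subgroup.normalizer_eq_top_iff.mpr hKbn]
    haveI := hPbn
    obtain ⟨a, ha⟩ : ∃ a : ℕ, a = (Nat.card Kb).factorization p := ⟨_, rfl⟩
    have hPbcard : Nat.card Pb = p ^ a := by
      rw [hPb, Subgroup.card_map_of_injective Kb.subtype_injective, ha]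
      exact S.card_eq_multiplicity
    have ha0 : 0 < a := by
      rw [ha]
      exact hp.factorization_pos_of_dvd Nat.card_pos.ne' hpd
    have hPbK : Pb ≤ Kb := by rw [hPb]; exact Subgroup.map_subtype_le _
    have hdisj : Disjoint Pb Mb := by
      rw [disjoint_iff, eq_bot_iff, ← hcompl.disjoint.eq_bot]
      exact inf_le_inf_right Mb hPbK
    have hsup : Pb ⊔ Mb = ⊤ := by
      apply hMco.2
      refine lt_of_le_of_ne le_sup_right ?_
      intro he
      have hle : Pb ≤ Mb := by rw [he]; exact le_sup_left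
      have hbot : Pb = ⊥ := by
        rw [eq_bot_iff, ← hdisj.eq_bot]
        exact le_inf le_rfl hle
      rw [hbot, Subgroup.card_bot] at hPbcard
      have := Nat.one_lt_pow ha0.ne' hp.one_lt
      omega
    have hcard : Nat.card (G ⧸ Subgroup.center G) = p ^ a * q := by
      have hnorm : Mb ≤ Subgroup.normalizer (Pb : Set (G ⧸ Subgroup.center G)) := by
        rw [Subgroup.normalizer_eq_top_iff.mpr hPbn]; exact le_top
      have h1 := (isComplIn_sup hnorm hdisj).card_mul_card
      rw [hsup, Subgroup.card_top, hPbcard, hMbcard] at h1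
      exact h1.symm
    have hpq : p ≠ q := by
      intro he
      apply hnn
      have h1 : Nat.card (G ⧸ Subgroup.center G) = p ^ (a + 1) := by
        rw [hcard, ← he, pow_succ]
      exact coatom_normal_of_pgroup_mod_center (IsPGroup.of_card h1) (h x hx)
    refine ⟨p, q, a, hp, hq, hpq, hcard, ?_⟩
    intro P hP
    have hfac : (Nat.card (G ⧸ Subgroup.center G)).factorization p = a := by
      rw [hcard, Nat.factorization_mul (pow_pos hp.pos a).ne' hq.ne_zero,
        hp.factorization_pow, Finsupp.add_apply, Finsupp.single_eq_same,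
        Nat.factorization_eq_zero_of_not_dvd, add_zero]
      intro hd
      exact hpq ((Nat.prime_dvd_prime_iff_eq hp hq).mp hd)
    let S1 : Sylow p (G ⧸ Subgroup.center G) := Sylow.ofCard Pb (by rw [hPbcard, hfac])
    let S2 : Sylow p (G ⧸ Subgroup.center G) := Sylow.ofCard P (by rw [hP, hfac])
    obtain ⟨r, hr⟩ := MulAction.exists_smul_eq (G ⧸ Subgroup.center G) S1 S2
    have h1 : (S2 : Subgroup (G ⧸ Subgroup.center G)) = P := Sylow.coe_ofCard _ _
    have h2 : (S1 : Subgroup (G ⧸ Subgroup.center G)) = Pb := Sylow.coe_ofCard _ _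
    have h3 : P = Pb := by
      rw [← h1, ← hr, Sylow.coe_subgroup_smul, h2]
      ext s
      rw [mem_conj_smul_iff]
      constructor
      · intro hs
        have := hPbn.conj_mem _ hs r
        have e : r * (r⁻¹ * s * r) * r⁻¹ = s := by group
        rwa [e] at this
      · intro hs
        have := hPbn.conj_mem _ hs r⁻¹
        rwa [inv_inv] at this
    rw [h3]
    exact hPbn

end Cfsg.Agent.Lib.Helper22.CMGroup
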