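import Cfsg.Agent.Lib.Helper22.CTPROPa
import Cfsg.Agent.Lib.Helper13.CTXCONJ

/-! Curtis–Tits (S1164 / S3712), leaf PROP (helper22): all edges are good, EXACT statement of the interface
`notes/S1164_leaves.lean`. -/

set_option autoImplicit false

namespace Cfsg.Agent.Lib.Helper22.CTPROP

open Cfsg Cfsg.Lie Matrix
open Cfsg.Agent.Lib.Helper7
open Cfsg.Agent.Lib.Helper11.StPres
open Cfsg.Agent.Lib.Helper11.CT

section
variable {D : ChevalleyDatum} (hD : D ∈ [chevD4, chevF4, chevE6, chevE7, chevE8])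
variable {K : Type*} [Field K]
variable (par dep : List ℕ) (htree : (rsD D).treeOK par dep = true)

include hD htree in
theorem goodE_all (mask0 : ℕ) (cert : List (ℕ × ℕ × ℕ)) (hcert : (rsD D).certOK par mask0 cert = true) :
    ∀ r < D.nroots, ∀ k < D.rank, GoodE D K par dep k r :=
  CTPROPa.goodE_all_of_R2A hD par dep htree
    (fun i j k hk r hr t ht u v h => Cfsg.Agent.Lib.Helper4.CTR2A.nn_conj hD i j k hk r hr t ht u v h)
    (fun i j r hr => Cfsg.Agent.Lib.Helper13.CTXCONJ.X_eq_conj_of hD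
      (fun i j k hk r hr t ht u v h => Cfsg.Agent.Lib.Helper4.CTR2A.nn_conj hD i j k hk r hr t ht u v h)
      i j r hr)
    mask0 cert hcert

end

end Cfsg.Agent.Lib.Helper22.CTPROP
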