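import Cfsg.Agent.Lib.Helper22.CTPROPOf
import Cfsg.Agent.Lib.Helper20.CTCHKB
import Cfsg.Agent.Lib.Helper24.CTTOR1
import Cfsg.Agent.Lib.Helper18.CTTREE
import Cfsg.Agent.Lib.Helper4.CTR2A
import Cfsg.Agent.Lib.Helper5.CTTOR2

/-! Curtis–Tits (S1164 / S3712), leaf PROP (helper22): `goodE_all` with only the two leaves of R2A that are still
open (`nn_conj`, `X_eq_conj`) as explicit hypotheses; everything else from the modules on main. -/

set_option autoImplicit false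

namespace Cfsg.Agent.Lib.Helper22.CTPROPa

open Cfsg Cfsg.Lie Matrix
open Cfsg.Agent.Lib.Helper7
open Cfsg.Agent.Lib.Helper11.StPres
open Cfsg.Agent.Lib.Helper11.CT

section
variable {D : ChevalleyDatum} (hD : D ∈ [chevD4, chevF4, chevE6, chevE7, chevE8])
variable {K : Type*} [Field K]
variable (par dep : List ℕ) (htree : (rsD D).treeOK par dep = true)

include hD htree in
theorem goodE_all_of_R2A
    (hconj : ∀ (i j k : ℕ), (k = i ∨ k = j) → ∀ (r : ℕ), D.InRankTwoSub i j r → ∀ (t : K), t ≠ 0 →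
      ∀ (u v : K),
      wordGL D (mem7 hD) K (D.nWord (D.simple k) t) * xGL D (mem7 hD) K r u *
        (wordGL D (mem7 hD) K (D.nWord (D.simple k) t))⁻¹ = xGL D (mem7 hD) K (D.reflectRoot k r) v →
      nn D K k t * X D K r u * (nn D K k t)⁻¹ = X D K (D.reflectRoot k r) v)
    (hXc : ∀ i j r : ℕ, D.InRankTwoSub i j r →
      ∃ L : List ℕ, (∀ l ∈ L, l = i ∨ l = j) ∧ ∃ l, (l = i ∨ l = j) ∧ ∃ c : K, c ≠ 0 ∧
        ∀ t : K, X D K r t = nW D K L * X D K (D.simple l) (c * t) * (nW D K L)⁻¹)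
    (mask0 : ℕ) (cert : List (ℕ × ℕ × ℕ)) (hcert : (rsD D).certOK par mask0 cert = true) :
    ∀ r < D.nroots, ∀ k < D.rank, GoodE D K par dep k r := by
  have hrefl : Cfsg.Agent.Lib.Helper5.CTTOR2.R2Reflect D :=
    fun i j k r hk hr => Cfsg.Agent.Lib.Helper4.CTR2A.r2_reflect hD i j k r hk hr
  have hconj' : Cfsg.Agent.Lib.Helper5.CTTOR2.NnConj D hD K := hconj
  have horth : Cfsg.Agent.Lib.Helper5.CTTOR2.NnCommOrth D K :=
    fun k i hk hi h t u => Cfsg.Agent.Lib.Helper24.CTTOR1.nn_comm_X_of_orth hD k i hk hi h t u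
  have hNS : NS D K ≤ Subgroup.normalizer (HS D K : Set (D.CurtisTitsGroup K)) :=
    Cfsg.Agent.Lib.Helper5.CTTOR2.NS_le_normalizer_HS_of hD hconj' hrefl
  exact CTPROPOf.goodE_all_of hD par dep Cfsg.Agent.Lib.Helper20.CTCHKB.PathGood (fun _ _ _ _ _ h => h)
    Cfsg.Agent.Lib.Helper20.CTCHKB.certOK_sound
    hrefl
    (fun i j k hk r hr t ht u v h => hconj i j k hk r hr t ht u v h)
    hXc
    (fun k hk => Cfsg.Agent.Lib.Helper24.CTTOR1.nn_sq_mem_HS hD k hk)
    horth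
    (fun j k hj hk hjk => Cfsg.Agent.Lib.Helper5.CTTOR2.braid_mod_HS_of hD hNS hconj' hrefl horth j k hj hk hjk)
    (fun r h t => Cfsg.Agent.Lib.Helper18.CTTREE.y_of_phi2 par dep r h t)
    (fun r hr h t => Cfsg.Agent.Lib.Helper18.CTTREE.y_step par dep htree r hr h t)
    (fun h hh' r hr => Cfsg.Agent.Lib.Helper18.CTTREE.HS_conj_y_of hD par dep htree hXc
      (fun k u hu i j r hr hk =>
        Cfsg.Agent.Lib.Helper5.CTTOR2.hh_conj_X_of hD hconj' hrefl k u hu i j r hr hk)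
      hNS h hh' r hr)
    mask0 cert hcert

end

end Cfsg.Agent.Lib.Helper22.CTPROPa
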