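import Mathlib
import Cfsg.Agent.Lib.Helper22.ClsSetA

/-! Helper22 library (S4184): a centreless group whose non-trivial class sizes are of two coprime "types"
`m_B ∣ n` or `m_A ∣ n`, all dividing `m_A m_B` properly, has order `m_A m_B`. -/

set_option autoImplicit false

namespace Cfsg.Agent.Lib.Helper22.ClsSet

open Subgroup

section twotype

variable {G : Type*} [Group G]

/-- the two-type hypothesis on the class sizes -/
structure TwoType (G : Type*) [Group G] (mA mB : ℕ) : Prop where
  cop : Nat.Coprime mA mB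
  dvd : ∀ g : G, idx g ∣ mA * mB
  type : ∀ g : G, idx g ≠ 1 → mB ∣ idx g ∨ mA ∣ idx g
  lt : ∀ g : G, ¬ (mA * mB ∣ idx g)
  centre : Subgroup.center G = ⊥
  pos : mA * mB ≠ 0

variable {mA mB : ℕ}

theorem TwoType.symm (h : TwoType G mA mB) : TwoType G mB mA :=
  ⟨h.cop.symm, fun g => by rw [mul_comm]; exact h.dvd g, fun g hg => (h.type g hg).symm,
    fun g => by rw [mul_comm]; exact h.lt g, h.centre, by rw [mul_comm]; exact h.pos⟩

theorem TwoType.idx_ne_one (h : TwoType G mA mB) {g : G} (hg : g ≠ 1) : idx g ≠ 1 := by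
  intro h1
  have := (idx_eq_one_iff g).1 h1
  rw [h.centre, Subgroup.mem_bot] at this
  exact hg this

theorem TwoType.type_of_ne_one (h : TwoType G mA mB) {g : G} (hg : g ≠ 1) :
    mB ∣ idx g ∨ mA ∣ idx g := h.type g (h.idx_ne_one hg)

theorem TwoType.not_both (h : TwoType G mA mB) (g : G) (h1 : mB ∣ idx g) (h2 : mA ∣ idx g) : False :=
  h.lt g (Nat.Coprime.mul_dvd_of_dvd_of_dvd h.cop h2 h1)

theorem TwoType.typeA_of_mem_zpowers (h : TwoType G mA mB) {x y : G} (hx : mB ∣ idx x)
    (hy : y ∈ Subgroup.zpowers x) (hy1 : y ≠ 1) : mB ∣ idx y := by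
  rcases h.type_of_ne_one hy1 with h1 | h1
  · exact h1
  · exact (h.not_both x hx (h1.trans (idx_dvd_of_mem_zpowers hy))).elim

theorem TwoType.no_commute (h : TwoType G mA mB) {x y : G} (hc : Commute x y)
    (hcop : (orderOf x).Coprime (orderOf y)) (hx : mB ∣ idx x) (hy : mA ∣ idx y) : False :=
  h.not_both (x * y) (hx.trans (idx_dvd_mul_left_of_coprime hc hcop))
    (hy.trans (idx_dvd_mul_right_of_coprime hc hcop))

variable [Finite G]

/-- the `s`-part of the centralizer of a type-`B` element when `s ∤ m_B` -/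
theorem TwoType.factorization_cent (h : TwoType G mA mB) (s : ℕ) [hs : Fact s.Prime] (hsB : ¬ s ∣ mB)
    {g : G} (hg : mA ∣ idx g) :
    (Nat.card (Subgroup.centralizer ({g} : Set G))).factorization s + (mA * mB).factorization s =
      (Nat.card G).factorization s := by
  have hN := h.pos
  have hA0 : mA ≠ 0 := fun h0 => hN (by rw [h0, zero_mul])
  have hB0 : mB ≠ 0 := fun h0 => hN (by rw [h0, mul_zero])
  have hi0 := idx_ne_zero g
  have hc0 : Nat.card (Subgroup.centralizer ({g} : Set G)) ≠ 0 := Nat.card_pos.ne'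
  have h1 : (idx g).factorization s = (mA * mB).factorization s := by
    apply le_antisymm
    · exact (Nat.factorization_le_iff_dvd hi0 hN).2 (h.dvd g) s
    · rw [Nat.factorization_mul hA0 hB0, Finsupp.add_apply,
        Nat.factorization_eq_zero_of_not_dvd hsB, add_zero]
      exact (Nat.factorization_le_iff_dvd hA0 hi0).2 hg s
  rw [← card_cent_mul_idx g, Nat.factorization_mul hc0 hi0, Finsupp.add_apply, h1]

/-- the one-sided contradiction -/
theorem TwoType.false_of_sylow (h : TwoType G mA mB) (s : ℕ) [hs : Fact s.Prime] (hsB : ¬ s ∣ mB)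
    (hgt : (mA * mB).factorization s < (Nat.card G).factorization s)
    (hcard : mA * mB ∣ Nat.card G)
    (S : Sylow s G) (z : G) (hzS : z ∈ S) (hzc : ∀ t ∈ S, t * z = z * t) (hz1 : z ≠ 1)
    (hzA : mB ∣ idx z) (hB : ∃ y : G, y ≠ 1 ∧ mA ∣ idx y) : False := by
  have hN := h.pos
  have hsp : s.Prime := hs.out
  set γ := (Nat.card G).factorization s with hγ
  set μ := (mA * mB).factorization s with hμ
  -- a type-B element of prime order
  obtain ⟨y₀, hy₀1, hy₀B⟩ := hB
  have hord0 : orderOf y₀ ≠ 1 := fun h1 => hy₀1 (orderOf_eq_one_iff.1 h1)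
  obtain ⟨t, htp, htd⟩ := Nat.exists_prime_and_dvd hord0
  have hy₀fin : orderOf y₀ ≠ 0 := (orderOf_pos y₀).ne'
  obtain ⟨y, hyt, hy1, hyB⟩ : ∃ y : G, orderOf y = t ∧ y ≠ 1 ∧ mA ∣ idx y := by
    refine ⟨y₀ ^ (orderOf y₀ / t), orderOf_pow_orderOf_div hy₀fin htd, ?_, ?_⟩
    · intro h1
      have := orderOf_pow_orderOf_div hy₀fin htd
      rw [h1, orderOf_one] at this
      exact htp.one_lt.ne this
    · apply h.symm.typeA_of_mem_zpowers hy₀B (Subgroup.npow_mem_zpowers _ _)
      intro h1
      have := orderOf_pow_orderOf_div hy₀fin htd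
      rw [h1, orderOf_one] at this
      exact htp.one_lt.ne this
  -- a type-B element of order s
  obtain ⟨w, hws, hw1, hwB⟩ : ∃ w : G, orderOf w = s ∧ w ≠ 1 ∧ mA ∣ idx w := by
    by_cases hts : t = s
    · exact ⟨y, hts ▸ hyt, hy1, hyB⟩
    · have h1 := h.factorization_cent s hsB hyB
      have h2 : 0 < (Nat.card (Subgroup.centralizer ({y} : Set G))).factorization s := by omega
      have h3 : s ∣ Nat.card (Subgroup.centralizer ({y} : Set G)) :=
        Nat.dvd_of_factorization_pos h2.ne'
      obtain ⟨w', hw'⟩ := exists_prime_orderOf_dvd_card' s h3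
      have hw : orderOf (w' : G) = s := by rw [Subgroup.orderOf_coe, hw']
      have hw1 : (w' : G) ≠ 1 := by
        intro h1
        rw [h1, orderOf_one] at hw
        exact hsp.one_lt.ne hw
      refine ⟨w', hw, hw1, ?_⟩
      rcases h.type_of_ne_one hw1 with h4 | h4
      · exfalso
        have hc : Commute (w' : G) y := ((mem_cent_singleton y w').1 w'.2).symm
        refine h.no_commute hc ?_ h4 hyB
        rw [hw, hyt]
        exact (Nat.coprime_primes hsp htp).2 (Ne.symm hts)
      · exact h4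
  -- the centralizer of w
  have hδ := h.factorization_cent s hsB hwB
  -- no elements of prime order other than s in C(w)
  have hkey : ∀ c : G, Commute w c → ∀ u : ℕ, u.Prime → orderOf c = u → u ≠ s → False := by
    intro c hwc u hup hcu hus
    have hc1 : c ≠ 1 := by
      intro h1
      rw [h1, orderOf_one] at hcu
      exact hup.one_lt.ne hcu
    have hcop : (orderOf w).Coprime (orderOf c) := by
      rw [hws, hcu]
      exact (Nat.coprime_primes hsp hup).2 (Ne.symm hus)
    have hcB : mA ∣ idx c := by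
      rcases h.type_of_ne_one hc1 with h4 | h4
      · exact (h.no_commute hwc.symm hcop.symm h4 hwB).elim
      · exact h4
    have hwcB : mA ∣ idx (w * c) := hwB.trans (idx_dvd_mul_left_of_coprime hwc hcop)
    have hδ' := h.factorization_cent s hsB hwcB
    -- a Sylow subgroup of D = C(wc) containing w
    set D := Subgroup.centralizer ({w * c} : Set G) with hD
    have hwD : w ∈ D := by
      rw [hD, mem_cent_singleton]
      rw [mul_assoc, ← hwc.eq]
    have hDw : D ≤ Subgroup.centralizer ({w} : Set G) :=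
      cent_le_of_mem_zpowers (mem_zpowers_mul_of_coprime hwc hcop)
    have hDc : D ≤ Subgroup.centralizer ({c} : Set G) := by
      have := cent_le_of_mem_zpowers (mem_zpowers_mul_of_coprime hwc.symm hcop.symm)
      rw [← hwc.eq] at this
      exact this
    have hzp : IsPGroup s (Subgroup.zpowers (⟨w, hwD⟩ : D)) := by
      apply IsPGroup.of_card (n := 1)
      rw [Nat.card_zpowers, pow_one, ← Subgroup.orderOf_coe]
      exact hws
    obtain ⟨Q, hQ⟩ := hzp.exists_le_sylow
    set W₁ : Subgroup G := (Q : Subgroup D).map D.subtype with hW₁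
    have hW₁p : IsPGroup s W₁ := Q.2.map D.subtype
    have hW₁card : Nat.card W₁ = s ^ (Nat.card D).factorization s := by
      rw [hW₁, Subgroup.card_map_of_injective D.subtype_injective, Q.card_eq_multiplicity]
    have hwW₁ : w ∈ W₁ := by
      rw [hW₁, Subgroup.mem_map]
      exact ⟨⟨w, hwD⟩, hQ (Subgroup.mem_zpowers _), rfl⟩
    have hW₁D : W₁ ≤ D := by
      rw [hW₁]
      rintro _ ⟨d, -, rfl⟩
      exact d.2
    obtain ⟨S₁, hS₁⟩ := hW₁p.exists_le_sylow
    obtain ⟨g, hg⟩ := MulAction.exists_smul_eq G S S₁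
    -- the transported central element
    have hmem : ∀ x : G, x ∈ S₁ ↔ ∃ x' ∈ S, g * x' * g⁻¹ = x := by
      intro x
      rw [← hg]
      show x ∈ ((g • S : Sylow s G) : Subgroup G) ↔ _
      rw [Sylow.coe_subgroup_smul, Subgroup.mem_smul_pointwise_iff_exists]
      constructor
      · rintro ⟨x', hx', rfl⟩
        exact ⟨x', hx', by rw [MulAut.smul_def, MulAut.conj_apply]⟩
      · rintro ⟨x', hx', rfl⟩
        exact ⟨x', hx', by rw [MulAut.smul_def, MulAut.conj_apply]⟩
    set z₁ := g * z * g⁻¹ with hz₁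
    have hz₁S : z₁ ∈ S₁ := (hmem z₁).2 ⟨z, hzS, rfl⟩
    have hz₁c : ∀ x ∈ S₁, x * z₁ = z₁ * x := by
      intro x hx
      obtain ⟨x', hx', rfl⟩ := (hmem x).1 hx
      rw [hz₁]
      calc g * x' * g⁻¹ * (g * z * g⁻¹) = g * (x' * z) * g⁻¹ := by group
        _ = g * (z * x') * g⁻¹ := by rw [hzc x' hx']
        _ = g * z * g⁻¹ * (g * x' * g⁻¹) := by group
    have hz₁1 : z₁ ≠ 1 := by
      intro h1
      apply hz1
      have : z = g⁻¹ * z₁ * g := by rw [hz₁]; group
      rw [this, h1]
      group
    have hz₁A : mB ∣ idx z₁ := by rw [hz₁, idx_conj]; exact hzA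
    -- S₁ ⊓ C(w) = W₁
    set T := (S₁ : Subgroup G) ⊓ Subgroup.centralizer ({w} : Set G) with hT
    have hTp : IsPGroup s T := S₁.2.to_le inf_le_left
    obtain ⟨j, hj⟩ := IsPGroup.iff_card.1 hTp
    have hTdvd : Nat.card T ∣ Nat.card (Subgroup.centralizer ({w} : Set G)) :=
      Subgroup.card_dvd_of_le inf_le_right
    have hjle : j ≤ (Nat.card (Subgroup.centralizer ({w} : Set G))).factorization s := by
      rw [hj] at hTdvd
      have := (Nat.factorization_le_iff_dvd (pow_ne_zero j hsp.ne_zero) Nat.card_pos.ne').2 hTdvd s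
      rw [Nat.factorization_pow, Finsupp.smul_apply, hsp.factorization_self, smul_eq_mul, mul_one] at this
      exact this
    have hW₁T : W₁ ≤ T := le_inf hS₁ (hW₁D.trans hDw)
    have hTW : W₁ = T := by
      apply Subgroup.eq_of_le_of_card_ge hW₁T
      rw [hj, hW₁card]
      apply Nat.pow_le_pow_right hsp.pos
      omega
    have hz₁T : z₁ ∈ T :=
      Subgroup.mem_inf.2 ⟨hz₁S, (mem_cent_singleton w z₁).2 (hz₁c w (hS₁ hwW₁))⟩
    have hz₁c' : Commute z₁ c := by
      have h5 : z₁ ∈ Subgroup.centralizer ({c} : Set G) := hDc (hW₁D (hTW ▸ hz₁T))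
      exact ((mem_cent_singleton c z₁).1 h5).symm
    -- orders coprime
    have hz₁ord : (orderOf z₁).Coprime (orderOf c) := by
      obtain ⟨k, hk⟩ := S₁.2 ⟨z₁, hz₁S⟩
      have h6 : z₁ ^ s ^ k = 1 := by
        have := congrArg Subtype.val hk
        simpa using this
      have h7 : orderOf z₁ ∣ s ^ k := orderOf_dvd_of_pow_eq_one h6
      rw [hcu]
      apply Nat.Coprime.coprime_dvd_left h7
      apply Nat.Coprime.pow_left
      exact (Nat.coprime_primes hsp hup).2 (Ne.symm hus)
    exact h.no_commute hz₁c' hz₁ord hz₁A hcB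
  -- C(w) is an s-group
  set H := Subgroup.centralizer ({w} : Set G) with hH
  have hHs : ∀ u : ℕ, u.Prime → u ∣ Nat.card H → u = s := by
    intro u hup hu
    by_contra hus
    haveI : Fact u.Prime := ⟨hup⟩
    obtain ⟨c', hc'⟩ := exists_prime_orderOf_dvd_card' u hu
    have hc : orderOf (c' : G) = u := by rw [Subgroup.orderOf_coe, hc']
    have hcomm : Commute w (c' : G) := (mem_cent_singleton w c').1 c'.2
    exact hkey c' hcomm u hup hc hus
  have hHcard : Nat.card H = s ^ (Nat.card H).factorization s := by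
    have h1 := Nat.eq_prime_pow_of_unique_prime_dvd (n := Nat.card H) (p := s) Nat.card_pos.ne'
      (fun {d} hd hdvd => hHs d hd hdvd)
    have h2 : (Nat.card H).factorization s = (Nat.card H).primeFactorsList.length := by
      conv_lhs => rw [h1]
      rw [Nat.factorization_pow, Finsupp.smul_apply, hsp.factorization_self, smul_eq_mul, mul_one]
    rw [h2]
    exact h1
  -- the final count
  obtain ⟨k, hk⟩ := hcard
  have hk0 : k ≠ 0 := by
    rintro rfl
    rw [mul_zero] at hk
    exact Nat.card_pos.ne' hk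
  obtain ⟨e, he⟩ := h.dvd w
  have hiw := idx_ne_zero w
  have hHk : Nat.card H = e * k := by
    have h1 := card_cent_mul_idx w
    rw [hk, he] at h1
    have h2 : Nat.card H * idx w = (e * k) * idx w := by
      rw [← hH] at h1
      rw [h1]
      ring
    exact Nat.eq_of_mul_eq_mul_right (Nat.pos_of_ne_zero hiw) h2
  have hkfac : k.factorization s + μ = γ := by
    rw [hγ, hk, Nat.factorization_mul hN hk0, Finsupp.add_apply]
    omega
  have hHfac : (Nat.card H).factorization s = k.factorization s := by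
    omega
  have hdvdk : s ^ k.factorization s ∣ k := Nat.ordProj_dvd k s
  rw [hHfac] at hHcard
  obtain ⟨k', hk'⟩ := hdvdk
  have he1 : e * k' = 1 := by
    have h1 : s ^ k.factorization s * 1 = s ^ k.factorization s * (e * k') := by
      rw [mul_one]
      conv_lhs => rw [← hHcard, hHk, hk']
      ring
    exact (Nat.eq_of_mul_eq_mul_left (pow_pos hsp.pos _) h1).symm
  have he' : e = 1 := Nat.eq_one_of_mul_eq_one_right he1
  apply h.lt w
  rw [he, he', mul_one]

/-- the order of a two-type group -/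
theorem TwoType.card_eq (h : TwoType G mA mB) (hA : ∃ g : G, g ≠ 1 ∧ mB ∣ idx g)
    (hB : ∃ g : G, g ≠ 1 ∧ mA ∣ idx g) : Nat.card G = mA * mB := by
  have hN := h.pos
  have hcard : mA * mB ∣ Nat.card G := by
    obtain ⟨g, -, hg⟩ := hA
    obtain ⟨g', -, hg'⟩ := hB
    have h1 : idx g ∣ Nat.card G := Subgroup.index_dvd_card _
    have h2 : idx g' ∣ Nat.card G := Subgroup.index_dvd_card _
    exact Nat.Coprime.mul_dvd_of_dvd_of_dvd h.cop (hg'.trans h2) (hg.trans h1)
  obtain ⟨k, hk⟩ := hcard
  by_cases hk1 : k = 1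
  · rw [hk, hk1, mul_one]
  exfalso
  have hk0 : k ≠ 0 := by
    rintro rfl
    rw [mul_zero] at hk
    exact Nat.card_pos.ne' hk
  obtain ⟨s, hsp, hsk⟩ := Nat.exists_prime_and_dvd hk1
  haveI : Fact s.Prime := ⟨hsp⟩
  have hgt : (mA * mB).factorization s < (Nat.card G).factorization s := by
    rw [hk, Nat.factorization_mul hN hk0, Finsupp.add_apply]
    have := hsp.factorization_pos_of_dvd hk0 hsk
    omega
  obtain ⟨S⟩ := Sylow.nonempty (p := s) (G := G)
  have hScard := S.card_eq_multiplicity
  haveI : Nontrivial S := by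
    rw [← Finite.one_lt_card_iff_nontrivial, hScard]
    apply Nat.one_lt_pow _ hsp.one_lt
    omega
  haveI := S.2.center_nontrivial
  obtain ⟨⟨z, hz⟩, hz1⟩ := exists_ne (1 : Subgroup.center S)
  have hzc : ∀ t ∈ S, t * (z : G) = (z : G) * t := by
    intro t ht
    have := Subgroup.mem_center_iff.1 hz ⟨t, ht⟩
    exact congrArg Subtype.val this
  have hz1' : (z : G) ≠ 1 := by
    intro h1
    apply hz1
    apply Subtype.ext
    apply Subtype.ext
    exact h1
  have hnd : ¬ s ∣ idx (z : G) := by
    intro hd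
    have hle : (S : Subgroup G) ≤ Subgroup.centralizer ({(z : G)} : Set G) := by
      intro t ht
      rw [mem_cent_singleton]
      exact (hzc t ht).symm
    exact S.not_dvd_index (hd.trans (Subgroup.index_dvd_of_le hle))
  rcases h.type_of_ne_one hz1' with hzA | hzB
  · have hsB : ¬ s ∣ mB := fun hd => hnd (hd.trans hzA)
    exact h.false_of_sylow s hsB hgt ⟨k, hk⟩ S z z.2 hzc hz1' hzA hB
  · have hsA : ¬ s ∣ mA := fun hd => hnd (hd.trans hzB)
    refine h.symm.false_of_sylow s hsA ?_ ⟨k, by rw [hk]; ring⟩ S z z.2 hzc hz1' hzB hA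
    rw [mul_comm]
    exact hgt

end twotype

end Cfsg.Agent.Lib.Helper22.ClsSet
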