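import Mathlib
import Cfsg.Agent.Lib.Helper22.ClsSetB

/-! Helper22 library (S4184): the class sizes of a group with disconnected prime graph are of two types. -/

set_option autoImplicit false

namespace Cfsg.Agent.Lib.Helper22.ClsSet

open Subgroup

section parts

/-- the `P`-part of `n` -/
noncomputable def part (n : ℕ) (P : ℕ → Prop) [DecidablePred P] : ℕ :=
  (n.factorization.filter P).prod (· ^ ·)

theorem part_factorization (n : ℕ) (P : ℕ → Prop) [DecidablePred P] :
    (part n P).factorization = n.factorization.filter P := by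
  unfold part
  apply Nat.prod_pow_factorization_eq_self
  intro p hp
  rw [Finsupp.support_filter, Finset.mem_filter, Nat.support_factorization] at hp
  exact Nat.prime_of_mem_primeFactors hp.1

theorem part_ne_zero (n : ℕ) (P : ℕ → Prop) [DecidablePred P] : part n P ≠ 0 := by
  unfold part
  rw [Finsupp.prod_ne_zero_iff]
  intro p hp
  rw [Finsupp.support_filter, Finset.mem_filter, Nat.support_factorization] at hp
  exact pow_ne_zero _ (Nat.prime_of_mem_primeFactors hp.1).ne_zero

theorem part_mul_part (n : ℕ) (hn : n ≠ 0) (P : ℕ → Prop) [DecidablePred P] :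
    part n P * part n (fun p => ¬ P p) = n := by
  apply Nat.eq_of_factorization_eq (mul_ne_zero (part_ne_zero n P) (part_ne_zero n _)) hn
  intro p
  rw [Nat.factorization_mul (part_ne_zero n P) (part_ne_zero n _), part_factorization,
    part_factorization, Finsupp.filter_add_filter_not]

theorem part_coprime (n : ℕ) (P : ℕ → Prop) [DecidablePred P] :
    Nat.Coprime (part n P) (part n (fun p => ¬ P p)) := by
  apply Nat.coprime_of_dvd
  intro p hp h1 h2
  have h3 := (hp.dvd_iff_one_le_factorization (part_ne_zero n P)).1 h1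
  have h4 := (hp.dvd_iff_one_le_factorization (part_ne_zero n _)).1 h2
  rw [part_factorization, Finsupp.filter_apply] at h3 h4
  by_cases hP : P p
  · rw [if_neg (not_not.2 hP)] at h4
    omega
  · rw [if_neg hP] at h3
    omega

theorem dvd_part_of_prime (n : ℕ) (hn : n ≠ 0) (P : ℕ → Prop) [DecidablePred P] (p : ℕ) (hp : p.Prime)
    (hpn : p ∣ n) (hP : P p) : p ∣ part n P := by
  rw [hp.dvd_iff_one_le_factorization (part_ne_zero n P), part_factorization, Finsupp.filter_apply,
    if_pos hP]
  exact (hp.dvd_iff_one_le_factorization hn).1 hpn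

/-- if no prime satisfying `P` divides `c` and `n = c * i` then the `P`-part of `n` divides `i` -/
theorem part_dvd (n c i : ℕ) (hn : n ≠ 0) (hci : c * i = n) (P : ℕ → Prop) [DecidablePred P]
    (hc : ∀ p, p.Prime → p ∣ c → ¬ P p) : part n P ∣ i := by
  have hc0 : c ≠ 0 := by
    rintro rfl
    rw [zero_mul] at hci
    exact hn hci.symm
  have hi0 : i ≠ 0 := by
    rintro rfl
    rw [mul_zero] at hci
    exact hn hci.symm
  rw [← Nat.factorization_prime_le_iff_dvd (part_ne_zero n P) hi0]
  intro p hp
  rw [part_factorization, Finsupp.filter_apply]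
  split_ifs with hP
  · have h1 : c.factorization p = 0 := by
      apply Nat.factorization_eq_zero_of_not_dvd
      intro hd
      exact hc p hp hd hP
    rw [← hci, Nat.factorization_mul hc0 hi0, Finsupp.add_apply, h1, zero_add]
  · exact Nat.zero_le _

end parts

section disc

variable {M : Type*} [Group M] [Finite M]

/-- an element some power of which has prime order `u`, where `u` is not joined to any prime satisfying `P`:
the `P`-part of the order divides its class size -/
theorem part_dvd_idx (P : ℕ → Prop) [DecidablePred P] (x : M) (u : ℕ) (hu : u.Prime)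
    (hux : u ∣ orderOf x) (hPu : ¬ P u)
    (hno : ∀ b : ℕ, b.Prime → P b → b ∣ Nat.card M → ¬ ∃ y : M, orderOf y = u * b) :
    part (Nat.card M) P ∣ idx x := by
  have hn : Nat.card M ≠ 0 := Nat.card_pos.ne'
  apply part_dvd (Nat.card M) (Nat.card (Subgroup.centralizer ({x} : Set M))) (idx x) hn
    (card_cent_mul_idx x) P
  intro b hb hbc hPb
  have hxfin : orderOf x ≠ 0 := (orderOf_pos x).ne'
  set x' := x ^ (orderOf x / u) with hx'
  have hx'u : orderOf x' = u := orderOf_pow_orderOf_div hxfin hux
  have hle : Subgroup.centralizer ({x} : Set M) ≤ Subgroup.centralizer ({x'} : Set M) :=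
    cent_le_of_mem_zpowers (Subgroup.npow_mem_zpowers _ _)
  have hbc' : b ∣ Nat.card (Subgroup.centralizer ({x'} : Set M)) :=
    hbc.trans (Subgroup.card_dvd_of_le hle)
  haveI : Fact b.Prime := ⟨hb⟩
  obtain ⟨y', hy'⟩ := exists_prime_orderOf_dvd_card' b hbc'
  have hy : orderOf (y' : M) = b := by rw [Subgroup.orderOf_coe, hy']
  have hcomm : Commute x' (y' : M) := (mem_cent_singleton x' y').1 y'.2
  have hub : u ≠ b := by
    rintro rfl
    exact hPu hPb
  have hcop : (orderOf x').Coprime (orderOf (y' : M)) := by
    rw [hx'u, hy]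
    exact (Nat.coprime_primes hu hb).2 hub
  have hbM : b ∣ Nat.card M := hbc'.trans (Subgroup.card_subgroup_dvd_card _)
  apply hno b hb hPb hbM
  refine ⟨x' * y', ?_⟩
  rw [hcomm.orderOf_mul_eq_mul_orderOf_of_coprime hcop, hx'u, hy]

theorem not_card_dvd_idx (hM : Nontrivial M) (x : M) : ¬ Nat.card M ∣ idx x := by
  intro hd
  obtain ⟨j, hj⟩ := hd
  have h1 := card_cent_mul_idx x
  have hn : Nat.card M ≠ 0 := Nat.card_pos.ne'
  have h2 : Nat.card M * (Nat.card (Subgroup.centralizer ({x} : Set M)) * j) = Nat.card M * 1 := by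
    conv_rhs => rw [mul_one, ← h1, hj]
    ring
  have h3 := Nat.eq_of_mul_eq_mul_left (Nat.pos_of_ne_zero hn) h2
  have h4 : Nat.card (Subgroup.centralizer ({x} : Set M)) = 1 := Nat.eq_one_of_mul_eq_one_right h3
  have h5 : Subgroup.centralizer ({x} : Set M) = ⊥ := Subgroup.card_eq_one.1 h4
  have hx : x ∈ Subgroup.centralizer ({x} : Set M) := (mem_cent_singleton x x).2 rfl
  rw [h5, Subgroup.mem_bot] at hx
  have h6 : idx x = 1 := by rw [hx]; exact idx_one
  have h7 : Nat.card M = 1 := by
    rw [h6] at hj
    exact Nat.eq_one_of_mul_eq_one_right hj.symm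
  have := Finite.one_lt_card_iff_nontrivial.2 hM
  omega

end disc

end Cfsg.Agent.Lib.Helper22.ClsSet
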