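/-
helper22: S4481 leaf FUS (planner helper6, `notes/S4481_leaves.lean`), `_of` form: fusion of the powers of an element
`σ` of order `2^(n-1)` of a dihedral Sylow 2-subgroup, over the statements DIH (`hdih`) and CARD2 (`hcard2`).
-/
import Mathlib
import Cfsg.Agent.Lib.Helper22.BOFALLINV

set_option autoImplicit false
set_option linter.unusedSectionVars false
set_option linter.unusedVariables false

namespace Cfsg.Agent.Lib.Helper22.DIHFUSof

open scoped Pointwise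

variable {G : Type*} [Group G]

/-- an element mapping `σ` into `⟨σ⟩` normalizes `⟨σ⟩` -/
theorem mem_normalizer_zpowers [Finite G] (h σ : G) (hh : h * σ * h⁻¹ ∈ Subgroup.zpowers σ) :
    h ∈ Subgroup.normalizer (Subgroup.zpowers σ : Set G) := by
  apply Subgroup.mem_normalizer_fintype
  intro z hz
  obtain ⟨j, rfl⟩ := Subgroup.mem_zpowers_iff.mp hz
  rw [SetLike.mem_coe, ← conj_zpow]
  exact Subgroup.zpow_mem _ hh j

/-- `N(⟨σ⟩) = C(⟨σ⟩) P` for a Sylow 2-subgroup `P ≤ N(⟨σ⟩)`, `σ` a 2-element -/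
theorem exists_mul_of_mem_normalizer [Finite G] (m : ℕ) (P : Sylow 2 G) (σ : G)
    (hσo : orderOf σ = 2 ^ m)
    (hPN : (P : Subgroup G) ≤ Subgroup.normalizer (Subgroup.zpowers σ : Set G)) (h : G)
    (hh : h ∈ Subgroup.normalizer (Subgroup.zpowers σ : Set G)) :
    ∃ c ∈ Subgroup.centralizer (Subgroup.zpowers σ : Set G), ∃ x ∈ (P : Subgroup G), h = c * x := by
  classical
  set Z := Subgroup.zpowers σ with hZ
  set N₀ := Subgroup.normalizer (Z : Set G) with hN₀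
  let f := Z.normalizerMonoidHom
  -- the index of the kernel is a power of two
  have hcardZ : Nat.card Z = 2 ^ m := by rw [hZ, Nat.card_zpowers, hσo]
  have hKidx : ∃ e, f.ker.index ∣ 2 ^ e := by
    have h1 : f.ker.index = Nat.card f.range := Subgroup.index_ker f
    have h2 : Nat.card f.range ∣ Nat.card (MulAut Z) := Subgroup.card_subgroup_dvd_card _
    have hcyc : IsCyclic Z := by rw [hZ]; infer_instance
    have h3 : Nat.card (MulAut Z) = Nat.totient (2 ^ m) := by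
      rw [IsCyclic.card_mulAut Z, hcardZ]
    rcases Nat.eq_zero_or_pos m with h0 | h0
    · refine ⟨0, ?_⟩
      rw [h1]
      refine h2.trans ?_
      rw [h3, h0, pow_zero, Nat.totient_one]
    · refine ⟨m - 1, ?_⟩
      rw [h1]
      refine h2.trans ?_
      rw [h3, Nat.totient_prime_pow Nat.prime_two h0]
      simp
  obtain ⟨e, hKe⟩ := hKidx
  -- the index of `P` in `N₀` is odd
  let P₁ : Subgroup N₀ := (P : Subgroup G).subgroupOf N₀
  have hP₁ : ¬ 2 ∣ P₁.index := by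
    intro hdvd
    have h1 : P₁.index ∣ (P : Subgroup G).index := Subgroup.relIndex_dvd_index_of_le hPN
    exact P.not_dvd_index (hdvd.trans h1)
  have htop : f.ker ⊔ P₁ = ⊤ := by
    rw [← Subgroup.index_eq_one]
    have h1 : (f.ker ⊔ P₁).index ∣ f.ker.index := Subgroup.index_dvd_of_le le_sup_left
    have h2 : (f.ker ⊔ P₁).index ∣ P₁.index := Subgroup.index_dvd_of_le le_sup_right
    obtain ⟨i, _, hi⟩ := (Nat.dvd_prime_pow Nat.prime_two).mp (h1.trans hKe)
    rcases Nat.eq_zero_or_pos i with h0 | h0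
    · rw [hi, h0, pow_zero]
    · exfalso
      apply hP₁
      refine Dvd.dvd.trans ?_ h2
      rw [hi]
      exact dvd_pow_self 2 h0.ne'
  have hmem : (⟨h, hh⟩ : N₀) ∈ f.ker ⊔ P₁ := by rw [htop]; exact Subgroup.mem_top _
  have hmem' : (⟨h, hh⟩ : N₀) ∈ ((f.ker ⊔ P₁ : Subgroup N₀) : Set N₀) := hmem
  rw [Subgroup.normal_mul] at hmem'
  obtain ⟨c, hc, x, hx, hcx⟩ := Set.mem_mul.mp hmem'
  refine ⟨(c : G), ?_, (x : G), ?_, ?_⟩
  · have hc' : c ∈ f.ker := hc
    rw [Subgroup.normalizerMonoidHom_ker, Subgroup.mem_subgroupOf] at hc'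
    exact hc'
  · exact Subgroup.mem_subgroupOf.mp hx
  · have := congrArg Subtype.val hcx
    simpa using this.symm

/-- Sylow's theorem in a centralizer -/
theorem exists_conj_mem_zpowers [Finite G] (m : ℕ) (σ v y : G) (hσo : orderOf σ = 2 ^ m)
    (hyo : orderOf y = 2 ^ m) (hσv : σ * v = v * σ) (hyv : y * v = v * y)
    (hfac : (Nat.card (Subgroup.centralizer ({v} : Set G))).factorization 2 = m) :
    ∃ c ∈ Subgroup.centralizer ({v} : Set G), c * y * c⁻¹ ∈ Subgroup.zpowers σ := by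
  classical
  set C := Subgroup.centralizer ({v} : Set G) with hC
  have hσC : σ ∈ C := Subgroup.mem_centralizer_singleton_iff.mpr hσv
  have hyC : y ∈ C := Subgroup.mem_centralizer_singleton_iff.mpr hyv
  let σ' : C := ⟨σ, hσC⟩
  let y' : C := ⟨y, hyC⟩
  have hcard : Nat.card (Subgroup.zpowers σ') = 2 ^ (Nat.card C).factorization 2 := by
    rw [Nat.card_zpowers, Subgroup.orderOf_mk, hσo, hfac]
  let Q : Sylow 2 C := Sylow.ofCard (Subgroup.zpowers σ') hcard
  have hpg : IsPGroup 2 (Subgroup.zpowers y') := by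
    apply IsPGroup.of_card (n := m)
    rw [Nat.card_zpowers, Subgroup.orderOf_mk, hyo]
  obtain ⟨Q', hQ'⟩ := hpg.exists_le_sylow
  obtain ⟨c, hc⟩ := MulAction.exists_smul_eq C Q' Q
  have hyQ' : y' ∈ (Q' : Subgroup C) := hQ' (Subgroup.mem_zpowers y')
  have h1 : c * y' * c⁻¹ ∈ MulAut.conj c • (Q' : Subgroup C) :=
    Subgroup.smul_mem_pointwise_smul y' (MulAut.conj c) (Q' : Subgroup C) hyQ'
  have h2 : c * y' * c⁻¹ ∈ ((c • Q' : Sylow 2 C) : Subgroup C) := h1
  rw [hc] at h2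
  have h3 : c * y' * c⁻¹ ∈ Subgroup.zpowers σ' := h2
  obtain ⟨j, hj⟩ := Subgroup.mem_zpowers_iff.mp h3
  refine ⟨(c : G), c.2, ?_⟩
  rw [Subgroup.mem_zpowers_iff]
  refine ⟨j, ?_⟩
  have := congrArg Subtype.val hj
  simpa using this

/-- the involution among the powers of `σ` -/
theorem orderOf_pow_eq_two_iff (n : ℕ) (hn : 3 ≤ n) (σ : G) (hσo : orderOf σ = 2 ^ (n - 1)) (k : ℕ)
    (hk : k < 2 ^ (n - 1)) : orderOf (σ ^ k) = 2 ↔ k = 2 ^ (n - 2) := by
  obtain ⟨m, rfl⟩ : ∃ m, n = m + 2 := ⟨n - 2, by omega⟩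
  have e1 : m + 2 - 1 = m + 1 := by omega
  have e2 : m + 2 - 2 = m := by omega
  constructor
  · intro h2
    have h3 := Cfsg.Agent.Lib.Helper22.BOFALLINV.rot_invol (m + 2) hn σ hσo (k : ℤ)
      (by rw [zpow_natCast]; exact h2)
    rw [zpow_natCast] at h3
    have hlt : 2 ^ (m + 2 - 2) < orderOf σ := by
      rw [hσo, e1, e2]
      exact Nat.pow_lt_pow_right (by norm_num) (by omega)
    exact pow_injOn_Iio_orderOf (by rw [Set.mem_Iio, hσo]; exact hk) (by rw [Set.mem_Iio]; exact hlt) h3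
  · intro hk2
    rw [hk2, e2, orderOf_pow' _ (by positivity), hσo, e1, pow_succ]
    rw [Nat.gcd_eq_right (Dvd.intro _ rfl)]
    exact Nat.mul_div_cancel_left 2 (by positivity)

/-- **FUS**, over DIH and CARD2 -/
theorem fusion_pow_of [Finite G] (n : ℕ) (hn : 3 ≤ n) (P : Sylow 2 G) (σ : G)
    (hσ : σ ∈ (P : Subgroup G)) (hσo : orderOf σ = 2 ^ (n - 1))
    (hdih : ∀ x ∈ (P : Subgroup G), x ∉ Subgroup.zpowers σ → x * σ * x⁻¹ = σ⁻¹)
    (hcard2 : ∀ k : ℕ, 0 < k → k < 2 ^ (n - 1) →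
      (Nat.card (Subgroup.centralizer ({σ ^ k} : Set G))).factorization 2 =
        if k = 2 ^ (n - 2) then n else n - 1)
    (k l : ℕ) (hk0 : 0 < k) (hk : k < 2 ^ (n - 1)) (hl0 : 0 < l)
    (hl : l < 2 ^ (n - 1)) (hc : IsConj (σ ^ k) (σ ^ l)) : l = k ∨ l + k = 2 ^ (n - 1) := by
  obtain ⟨g, hg⟩ := isConj_iff.mp hc
  have hord : orderOf (σ ^ k) = orderOf (σ ^ l) := by
    rw [← hg]
    exact SemiconjBy.orderOf_eq g (show SemiconjBy g (σ ^ k) (g * σ ^ k * g⁻¹) by
      unfold SemiconjBy; group)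
  by_cases hl2 : l = 2 ^ (n - 2)
  · left
    have h1 := (orderOf_pow_eq_two_iff n hn σ hσo l hl).mpr hl2
    rw [← hord] at h1
    rw [hl2]
    exact ((orderOf_pow_eq_two_iff n hn σ hσo k hk).mp h1).symm
  -- the main case
  have hfac : (Nat.card (Subgroup.centralizer ({σ ^ l} : Set G))).factorization 2 = n - 1 := by
    rw [hcard2 l hl0 hl, if_neg hl2]
  have hyo : orderOf (g * σ * g⁻¹) = 2 ^ (n - 1) := by
    rw [← hσo]
    exact (SemiconjBy.orderOf_eq g (show SemiconjBy g σ (g * σ * g⁻¹) by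
      unfold SemiconjBy; group)).symm
  have hσv : σ * σ ^ l = σ ^ l * σ := (Commute.self_pow σ l).eq
  have hyv : g * σ * g⁻¹ * σ ^ l = σ ^ l * (g * σ * g⁻¹) := by
    rw [← hg]
    have : σ * σ ^ k = σ ^ k * σ := (Commute.self_pow σ k).eq
    calc g * σ * g⁻¹ * (g * σ ^ k * g⁻¹) = g * (σ * σ ^ k) * g⁻¹ := by group
      _ = g * (σ ^ k * σ) * g⁻¹ := by rw [this]
      _ = g * σ ^ k * g⁻¹ * (g * σ * g⁻¹) := by group
  obtain ⟨c, hcC, hcy⟩ := exists_conj_mem_zpowers (n - 1) σ (σ ^ l) (g * σ * g⁻¹) hσo hyo hσv hyv hfac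
  have hcv : c * σ ^ l = σ ^ l * c := Subgroup.mem_centralizer_singleton_iff.mp hcC
  -- `h = c g` normalizes `⟨σ⟩` and maps `σ^k` to `σ^l`
  have hhσ : (c * g) * σ * (c * g)⁻¹ ∈ Subgroup.zpowers σ := by
    have : (c * g) * σ * (c * g)⁻¹ = c * (g * σ * g⁻¹) * c⁻¹ := by group
    rw [this]
    exact hcy
  have hhN := mem_normalizer_zpowers (c * g) σ hhσ
  have hhu : (c * g) * σ ^ k * (c * g)⁻¹ = σ ^ l := by
    calc (c * g) * σ ^ k * (c * g)⁻¹ = c * (g * σ ^ k * g⁻¹) * c⁻¹ := by group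
      _ = c * σ ^ l * c⁻¹ := by rw [hg]
      _ = σ ^ l := by rw [hcv, mul_inv_cancel_right]
  -- `P` normalizes `⟨σ⟩`
  have hPN : (P : Subgroup G) ≤ Subgroup.normalizer (Subgroup.zpowers σ : Set G) := by
    intro x hx
    apply mem_normalizer_zpowers
    by_cases hxZ : x ∈ Subgroup.zpowers σ
    · exact Subgroup.mul_mem _ (Subgroup.mul_mem _ hxZ (Subgroup.mem_zpowers σ))
        (Subgroup.inv_mem _ hxZ)
    · rw [hdih x hx hxZ]
      exact Subgroup.inv_mem _ (Subgroup.mem_zpowers σ)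
  obtain ⟨c', hc', x, hx, hcx⟩ :=
    exists_mul_of_mem_normalizer (n - 1) P σ hσo hPN (c * g) hhN
  -- `c g` acts on `σ` like `x`
  have hact : (c * g) * σ * (c * g)⁻¹ = x * σ * x⁻¹ := by
    have hxσ : x * σ * x⁻¹ ∈ (Subgroup.zpowers σ : Set G) := by
      have := hPN hx
      rw [Subgroup.mem_normalizer_iff] at this
      exact (this σ).mp (Subgroup.mem_zpowers σ)
    have hcomm : x * σ * x⁻¹ * c' = c' * (x * σ * x⁻¹) :=
      (Subgroup.mem_centralizer_iff.mp hc') _ hxσ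
    rw [hcx]
    calc c' * x * σ * (c' * x)⁻¹ = c' * (x * σ * x⁻¹) * c'⁻¹ := by group
      _ = x * σ * x⁻¹ := by rw [← hcomm, mul_inv_cancel_right]
  have hpow : σ ^ l = (x * σ * x⁻¹) ^ k := by
    rw [← hact, conj_pow, hhu]
  by_cases hxZ : x ∈ Subgroup.zpowers σ
  · left
    have hxσ : x * σ * x⁻¹ = σ := by
      obtain ⟨j, rfl⟩ := Subgroup.mem_zpowers_iff.mp hxZ
      rw [(Commute.zpow_self σ j).eq, mul_inv_cancel_right]
    rw [hxσ] at hpow
    exact pow_injOn_Iio_orderOf (by rw [Set.mem_Iio, hσo]; exact hl)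
      (by rw [Set.mem_Iio, hσo]; exact hk) hpow
  · right
    rw [hdih x hx hxZ, inv_pow] at hpow
    have h1 : σ ^ (l + k) = 1 := by
      rw [pow_add, hpow, inv_mul_cancel]
    have h2 : 2 ^ (n - 1) ∣ l + k := by
      rw [← hσo]
      exact orderOf_dvd_of_pow_eq_one h1
    obtain ⟨t, ht⟩ := h2
    have ht1 : t = 1 := by
      have hlt : 2 ^ (n - 1) * t < 2 ^ (n - 1) * 2 := by omega
      have hpos : 0 < 2 ^ (n - 1) * t := by omega
      have h3 : t < 2 := Nat.lt_of_mul_lt_mul_left hlt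
      have h4 : 0 < t := Nat.pos_of_mul_pos_left hpos   -- may need adjusting
      omega
    rw [ht, ht1, mul_one]

end Cfsg.Agent.Lib.Helper22.DIHFUSof
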