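/-
helper22: S4481 leaf FUS (planner helper6, `notes/S4481_leaves.lean`): fusion of the powers of `σ`; exact wrapper of
`Helper22.DIHFUSof.fusion_pow_of` over helper29's DIH and helper12's CARD2.
-/
import Mathlib
import Cfsg.Prelude.Def_Blocks
import Cfsg.Agent.Lib.Helper6.DihBlkDefs
import Cfsg.Agent.Lib.Lead.BrLeo12
import Cfsg.Agent.S0514
import Cfsg.Agent.Lib.Helper29.DIHDIH
import Cfsg.Agent.Lib.Helper12.DIHCARD2
import Cfsg.Agent.Lib.Helper22.DIHFUSof

set_option autoImplicit false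

namespace Cfsg.Agent.Lib.Helper22.DIHFUS

open Cfsg Cfsg.Agent.CharLib
open Cfsg.Agent.Lib.Helper6.DihBlk
open scoped ComplexConjugate

section group_part

set_option linter.unusedSectionVars false

variable {G : Type*} [Group G] [Finite G]

/-- **FUS** fusion of the powers of `σ`. -/
theorem fusion_pow (n : ℕ) (hn : 3 ≤ n) (P : Sylow 2 G)
    (hP : Nonempty ((P : Subgroup G) ≃* DihedralGroup (2 ^ (n - 1)))) (σ : G) (hσ : σ ∈ (P : Subgroup G))
    (hσo : orderOf σ = 2 ^ (n - 1)) (k l : ℕ) (hk0 : 0 < k) (hk : k < 2 ^ (n - 1)) (hl0 : 0 < l)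
    (hl : l < 2 ^ (n - 1)) (hc : IsConj (σ ^ k) (σ ^ l)) : l = k ∨ l + k = 2 ^ (n - 1) :=
  Cfsg.Agent.Lib.Helper22.DIHFUSof.fusion_pow_of n hn P σ hσ hσo
    (Cfsg.Agent.Lib.Helper29.DIHDIH.dih_struct n hn (P : Subgroup G) hP σ hσ hσo).2.1
    (fun k' hk0' hk' =>
      Cfsg.Agent.Lib.Helper12.DIHCARD2.factorization_centralizer_pow n hn P hP σ hσ hσo k' hk0' hk')
    k l hk0 hk hl0 hl hc

end group_part

end Cfsg.Agent.Lib.Helper22.DIHFUS
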