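import Mathlib
import Cfsg.Agent.Lib.Helper1.Coprime

namespace Cfsg.Agent.Lib.Helper22.EppoLeaf

open Subgroup

/-- a prime dividing a prime-power order forces the order to be a power of that prime -/
theorem orderOf_eq_pow_of_dvd {G : Type*} [Group G] {x : G} {p : ℕ} (hp : p.Prime)
    (hx : IsPrimePow (orderOf x)) (hd : p ∣ orderOf x) : ∃ k : ℕ, orderOf x = p ^ k := by
  obtain ⟨t, k, ht, hk, htk⟩ := hx
  have htp : Nat.Prime t := ht.nat_prime
  rw [← htk] at hd
  have := (Nat.prime_dvd_prime_iff_eq hp htp).mp (hp.dvd_of_dvd_pow hd)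
  exact ⟨k, by rw [← htk, this]⟩

theorem mem_normalizer_inf {G : Type*} [Group G] {A B : Subgroup G} {w : G}
    (hA : w ∈ normalizer (A : Set G)) (hB : w ∈ normalizer (B : Set G)) :
    w ∈ normalizer ((A ⊓ B : Subgroup G) : Set G) := by
  rw [mem_normalizer_iff] at hA hB ⊢
  intro x
  rw [mem_inf, mem_inf, hA x, hB x]

theorem exists_lift {G : Type*} [Group G] [Finite G] (N : Subgroup G) [N.Normal]
    (h : ∀ x : G, x ∉ N → IsPrimePow (orderOf x)) (p q r : ℕ) [Fact p.Prime] [Fact q.Prime]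
    [Fact r.Prime]
    (R : Sylow r N) (S Qb : Subgroup (G ⧸ N)) (hQS : Qb ≤ S)
    (hSn : S ≤ Subgroup.normalizer (Qb : Set (G ⧸ N))) (hQq : IsPGroup q Qb)
    (hne : ∃ s ∈ S, s ∉ Qb) (hQ1 : Qb ≠ ⊥) (hS : ∀ s ∈ S, s ∉ Qb → p ∣ orderOf s) :
    ∃ (Q : Subgroup G) (y : G), IsPGroup q Q ∧ ¬ Q ≤ N ∧
      Q ≤ Subgroup.normalizer ((((R : Subgroup N).map N.subtype : Subgroup G)) : Set G) ∧
      y ∈ Subgroup.normalizer ((((R : Subgroup N).map N.subtype : Subgroup G)) : Set G) ∧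
      y ∈ Subgroup.normalizer (Q : Set G) ∧ y ∉ N ∧ ∃ k : ℕ, orderOf y = p ^ k := by
  classical
  have hp : p.Prime := Fact.out
  have hq : q.Prime := Fact.out
  set π : G →* G ⧸ N := QuotientGroup.mk' N with hπ
  have hπsurj : Function.Surjective π := QuotientGroup.mk'_surjective N
  have hπN : ∀ g : G, π g = 1 ↔ g ∈ N := fun g => QuotientGroup.eq_one_iff g
  set RG : Subgroup G := (R : Subgroup N).map N.subtype with hRG
  set NR : Subgroup G := normalizer (RG : Set G) with hNR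
  set Qh : Subgroup G := Qb.comap π with hQh
  set Sh : Subgroup G := S.comap π with hSh
  -- (A) Frattini in N
  have hA : ∀ g : G, ∃ n ∈ N, n⁻¹ * g ∈ NR := by
    intro g
    have hg : g ∈ normalizer (N : Set G) := by
      rw [Subgroup.normalizer_eq_top]; exact mem_top g
    exact Cfsg.Agent.Lib.Helper1.frattini_sylow N R g hg
  have hπn : ∀ n ∈ N, ∀ g : G, π (n⁻¹ * g) = π g := by
    intro n hn g
    rw [map_mul, map_inv, (hπN n).mpr hn, inv_one, one_mul]
  set T : Subgroup G := Qh ⊓ NR with hT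
  obtain ⟨Q0⟩ : Nonempty (Sylow q T) := inferInstance
  set Q : Subgroup G := (Q0 : Subgroup T).map T.subtype with hQ
  have hQT : Q ≤ T := by
    rw [hQ]; exact map_subtype_le _
  have hQpg : IsPGroup q Q := Q0.isPGroup'.map _
  -- (2)
  have hQN : ¬ Q ≤ N := by
    intro hQN
    obtain ⟨⟨xb, hxb⟩, hxb1⟩ := (Subgroup.ne_bot_iff_exists_ne_one).mp hQ1
    have hxb1' : xb ≠ 1 := fun e => hxb1 (Subtype.ext e)
    obtain ⟨x, rfl⟩ := hπsurj xb
    obtain ⟨n, hn, hx'⟩ := hA x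
    set x' := n⁻¹ * x with hx'def
    have hπx' : π x' = π x := hπn n hn x
    have hx'Qh : x' ∈ Qh := by
      rw [hQh, mem_comap, hπx']; exact hxb
    have hx'T : x' ∈ T := ⟨hx'Qh, hx'⟩
    have hx'N : x' ∉ N := by
      intro hmem
      apply hxb1'
      rw [← hπx']; exact (hπN x').mpr hmem
    have hpp := h x' hx'N
    -- order of π x' is a nontrivial power of q
    obtain ⟨j, hj⟩ := (IsPGroup.iff_orderOf.mp hQq) ⟨π x', by rw [hπx']; exact hxb⟩
    rw [Subgroup.orderOf_mk] at hj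
    have hj0 : j ≠ 0 := by
      rintro rfl
      rw [pow_zero, orderOf_eq_one_iff] at hj
      exact hxb1' (by rw [← hπx']; exact hj)
    have hqd : q ∣ orderOf x' := by
      have h1 : orderOf (π x') ∣ orderOf x' := orderOf_map_dvd π x'
      rw [hj] at h1
      exact (dvd_pow_self q hj0).trans h1
    obtain ⟨k, hk⟩ := orderOf_eq_pow_of_dvd hq hpp hqd
    -- zpowers of x' in T is a q-group
    have hz : IsPGroup q (zpowers (⟨x', hx'T⟩ : T)) := by
      rw [IsPGroup.iff_card, Nat.card_zpowers]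
      exact ⟨k, by rw [Subgroup.orderOf_mk, hk]⟩
    obtain ⟨Q1, hQ1le⟩ := hz.exists_le_sylow
    obtain ⟨g, hg⟩ := MulAction.exists_smul_eq T Q1 Q0
    have hmem : g * (⟨x', hx'T⟩ : T) * g⁻¹ ∈ (Q0 : Subgroup T) := by
      rw [← hg, Sylow.smul_def, Sylow.pointwise_smul_def]
      have := Subgroup.smul_mem_pointwise_smul (⟨x', hx'T⟩ : T) (MulAut.conj g) (Q1 : Subgroup T)
        (hQ1le (mem_zpowers _))
      rwa [MulAut.smul_def, MulAut.conj_apply] at this
    have hmemN : (g : G) * x' * (g : G)⁻¹ ∈ N := by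
      apply hQN
      rw [hQ]
      exact ⟨_, hmem, rfl⟩
    apply hx'N
    have := (inferInstance : N.Normal).conj_mem _ hmemN (g : G)⁻¹
    simpa [mul_assoc] using this
  -- (3)
  obtain ⟨sb, hsbS, hsbQ⟩ := hne
  obtain ⟨s, rfl⟩ := hπsurj sb
  obtain ⟨n, hn, hγ⟩ := hA s
  set γ := n⁻¹ * s with hγdef
  have hπγ : π γ = π s := hπn n hn s
  have hShQh : Sh ≤ normalizer (Qh : Set G) := by
    intro w hw
    rw [hSh, mem_comap] at hw
    have := hSn hw
    rw [mem_normalizer_iff] at this ⊢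
    intro x
    rw [hQh, mem_comap, mem_comap, this (π x)]
    simp
  have hγT : γ ∈ normalizer (T : Set G) := by
    apply mem_normalizer_inf
    · apply hShQh
      rw [hSh, mem_comap, hπγ]; exact hsbS
    · exact le_normalizer hγ
  obtain ⟨k, hkT, hy⟩ := Cfsg.Agent.Lib.Helper1.frattini_sylow T Q0 γ hγT
  set y := k⁻¹ * γ with hydef
  have hkQb : π k ∈ Qb := hkT.1
  have hπy : π y = (π k)⁻¹ * π s := by
    rw [hydef, map_mul, map_inv, hπγ]
  have hπyS : π y ∈ S := by
    rw [hπy]; exact S.mul_mem (S.inv_mem (hQS hkQb)) hsbS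
  have hπyQ : π y ∉ Qb := by
    intro hmem
    apply hsbQ
    have : π s = π k * π y := by rw [hπy]; group
    rw [this]; exact Qb.mul_mem hkQb hmem
  have hyN : y ∉ N := by
    intro hmem
    apply hπyQ
    rw [(hπN y).mpr hmem]; exact Qb.one_mem
  have hpd : p ∣ orderOf y := (hS _ hπyS hπyQ).trans (orderOf_map_dvd π y)
  refine ⟨Q, y, hQpg, hQN, hQT.trans inf_le_right, ?_, hy, hyN,
    orderOf_eq_pow_of_dvd hp (h y hyN) hpd⟩
  exact NR.mul_mem (NR.inv_mem hkT.2) hγ

end Cfsg.Agent.Lib.Helper22.EppoLeaf
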