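import Mathlib

set_option autoImplicit false

namespace Cfsg.Agent.Lib.Helper22.ExtraEig

open scoped commutatorElement

section Calc

variable {G : Type*} [Group G]

theorem comm_mul_left_of_central {a b c : G} (h : ⁅b, c⁆ ∈ Subgroup.center G) :
    ⁅a * b, c⁆ = ⁅a, c⁆ * ⁅b, c⁆ := by
  have hz := Subgroup.mem_center_iff.mp h
  calc ⁅a * b, c⁆ = a * ⁅b, c⁆ * c * a⁻¹ * c⁻¹ := by
        simp only [commutatorElement_def]; group
    _ = ⁅b, c⁆ * a * c * a⁻¹ * c⁻¹ := by rw [hz a]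
    _ = ⁅b, c⁆ * ⁅a, c⁆ := by simp only [commutatorElement_def]; group
    _ = ⁅a, c⁆ * ⁅b, c⁆ := (hz _).symm

theorem comm_mul_right_of_central {a b c : G} (h : ⁅a, c⁆ ∈ Subgroup.center G) :
    ⁅a, b * c⁆ = ⁅a, b⁆ * ⁅a, c⁆ := by
  have hz := Subgroup.mem_center_iff.mp h
  calc ⁅a, b * c⁆ = a * b * a⁻¹ * (b⁻¹ * (b * ⁅a, c⁆)) * b⁻¹ := by
        simp only [commutatorElement_def]; group
    _ = a * b * a⁻¹ * (b⁻¹ * (⁅a, c⁆ * b)) * b⁻¹ := by rw [hz b]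
    _ = ⁅a, b⁆ * (b * ⁅a, c⁆) * b⁻¹ := by rw [hz b]; simp only [commutatorElement_def]; group
    _ = ⁅a, b⁆ * (⁅a, c⁆ * b) * b⁻¹ := by rw [hz b]
    _ = ⁅a, b⁆ * ⁅a, c⁆ := by group

theorem comm_inv_left_of_central {a c : G} (h : ⁅a, c⁆ ∈ Subgroup.center G) :
    ⁅a⁻¹, c⁆ = ⁅a, c⁆⁻¹ := by
  have h1 := comm_mul_left_of_central (a := a⁻¹) h
  rw [inv_mul_cancel, commutatorElement_one_left] at h1
  exact eq_inv_of_mul_eq_one_left h1.symm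

theorem comm_inv_right_of_central {a c : G} (h : ⁅a, c⁆ ∈ Subgroup.center G) :
    ⁅a, c⁻¹⁆ = ⁅a, c⁆⁻¹ := by
  have h' : ⁅c, a⁆ ∈ Subgroup.center G := by
    rw [← commutatorElement_inv]; exact inv_mem h
  rw [← commutatorElement_inv c⁻¹ a, comm_inv_left_of_central h', commutatorElement_inv,
    commutatorElement_inv]

theorem comm_conj_of_central {a b : G} (g : G) (h : ⁅a, b⁆ ∈ Subgroup.center G) :
    ⁅g * a * g⁻¹, g * b * g⁻¹⁆ = ⁅a, b⁆ := by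
  have hz := Subgroup.mem_center_iff.mp h
  rw [← conjugate_commutatorElement, hz g, mul_inv_cancel_right]

end Calc


section Coprime

variable {G : Type*} [Group G]

theorem conj_pow_mem (Q : Subgroup G) (g : G) (hg : ∀ q ∈ Q, g * q * g⁻¹ ∈ Q) (j : ℕ) :
    ∀ q ∈ Q, g ^ j * q * (g ^ j)⁻¹ ∈ Q := by
  induction j with
  | zero => intro q hq; simpa using hq
  | succ j ih =>
    intro q hq
    have := ih _ (hg q hq)
    have e : g ^ (j + 1) * q * (g ^ (j + 1))⁻¹ = g ^ j * (g * q * g⁻¹) * (g ^ j)⁻¹ := by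
      rw [pow_succ]; group
    rw [e]; exact this

theorem eq_one_of_pow_coprime {x : G} {m n : ℕ} (hm : x ^ m = 1) (hn : x ^ n = 1)
    (h : Nat.Coprime m n) : x = 1 := by
  have h1 := orderOf_dvd_of_pow_eq_one hm
  have h2 := orderOf_dvd_of_pow_eq_one hn
  have h3 : orderOf x ∣ 1 := by
    have := Nat.dvd_gcd h1 h2
    rwa [h] at this
  exact orderOf_eq_one_iff.mp (Nat.dvd_one.mp h3)

theorem comm_self_conj_eq_one (Q : Subgroup G) (g : G) (r ϖ : ℕ)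
    (hQ : ∀ a ∈ Q, ∀ b ∈ Q, ⁅a, b⁆ ∈ Subgroup.center G)
    (hQr : ∀ a ∈ Q, ∀ b ∈ Q, ⁅a, b⁆ ^ r = 1)
    (hg : ∀ q ∈ Q, g * q * g⁻¹ ∈ Q)
    (hgϖ : g ^ ϖ = 1) (hcop : Nat.Coprime ϖ r)
    (x : G) (hx : x ∈ Q)
    (hcomm : ∀ j : ℕ, Commute (g ^ j * x * (g ^ j)⁻¹ * x⁻¹)
      (g ^ (j + 1) * x * (g ^ (j + 1))⁻¹ * x⁻¹)) :
    ⁅x, g * x * g⁻¹⁆ = 1 := by
  set X : ℕ → G := fun j => g ^ j * x * (g ^ j)⁻¹ with hX
  have hXQ : ∀ j, X j ∈ Q := fun j => conj_pow_mem Q g hg j x hx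
  have hX0 : X 0 = x := by simp [hX]
  have hX1 : X 1 = g * x * g⁻¹ := by simp [hX]
  have hXs : ∀ j, X (j + 1) = g ^ j * X 1 * (g ^ j)⁻¹ := by
    intro j; simp only [hX, pow_succ, pow_one]; group
  set f : ℕ → G := fun j => ⁅x, X j⁆ with hf
  have hstep : ∀ j, f (j + 1) = f 1 * f j := by
    intro j
    have h1 : ⁅X j * x⁻¹, X (j + 1) * x⁻¹⁆ = 1 :=
      commutatorElement_eq_one_iff_commute.mpr (hcomm j)
    have hxi : x⁻¹ ∈ Q := inv_mem hx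
    have hA := hXQ j
    have hB := hXQ (j + 1)
    have e1 : ⁅X j * x⁻¹, X (j + 1) * x⁻¹⁆
        = ⁅X j, X (j + 1) * x⁻¹⁆ * ⁅x⁻¹, X (j + 1) * x⁻¹⁆ :=
      comm_mul_left_of_central (hQ _ hxi _ (mul_mem hB hxi))
    have e2 : ⁅X j, X (j + 1) * x⁻¹⁆ = ⁅X j, X (j + 1)⁆ * ⁅X j, x⁻¹⁆ :=
      comm_mul_right_of_central (hQ _ hA _ hxi)
    have e3 : ⁅x⁻¹, X (j + 1) * x⁻¹⁆ = ⁅x⁻¹, X (j + 1)⁆ * ⁅x⁻¹, x⁻¹⁆ :=
      comm_mul_right_of_central (hQ _ hxi _ hxi)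
    have e4 : ⁅X j, x⁻¹⁆ = ⁅X j, x⁆⁻¹ := comm_inv_right_of_central (hQ _ hA _ hx)
    have e5 : ⁅x⁻¹, X (j + 1)⁆ = ⁅x, X (j + 1)⁆⁻¹ := comm_inv_left_of_central (hQ _ hx _ hB)
    have e6 : ⁅x⁻¹, x⁻¹⁆ = 1 := commutatorElement_self _
    have e7 : ⁅X j, X (j + 1)⁆ = ⁅x, X 1⁆ := by
      rw [hXs j]
      have : X j = g ^ j * x * (g ^ j)⁻¹ := rfl
      rw [this]
      exact comm_conj_of_central (g ^ j) (hQ _ hx _ (hXQ 1))
    have e8 : ⁅X j, x⁆⁻¹ = ⁅x, X j⁆ := commutatorElement_inv _ _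
    rw [e1, e2, e3, e4, e5, e6, e7, e8, mul_one] at h1
    exact (mul_inv_eq_one.mp h1).symm
  have hfpow : ∀ j, f j = (f 1) ^ j := by
    intro j
    induction j with
    | zero =>
      simp only [hf, hX0, pow_zero]
      exact commutatorElement_self _
    | succ j ih => rw [hstep, ih, pow_succ']
  have hfϖ : f ϖ = 1 := by
    have : X ϖ = x := by simp [hX, hgϖ]
    simp only [hf, this]
    exact commutatorElement_self _
  have h1 : (f 1) ^ ϖ = 1 := by rw [← hfpow, hfϖ]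
  have h2 : (f 1) ^ r = 1 := hQr _ hx _ (hXQ 1)
  have h3 : f 1 = 1 := eq_one_of_pow_coprime h1 h2 hcop
  simpa only [hf, hX1] using h3

/-- polarisation -/
theorem commute_of_comm_self_conj (Q : Subgroup G) (g : G)
    (hQ : ∀ a ∈ Q, ∀ b ∈ Q, ⁅a, b⁆ ∈ Subgroup.center G)
    (hg : ∀ q ∈ Q, g * q * g⁻¹ ∈ Q)
    (hself : ∀ x ∈ Q, ⁅x, g * x * g⁻¹⁆ = 1)
    (x y : G) (hx : x ∈ Q) (hy : y ∈ Q) :
    Commute (x * (g * (g * x * g⁻¹) * g⁻¹)⁻¹) (g * y * g⁻¹) := by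
  set x' := g * x * g⁻¹ with hx'
  set y' := g * y * g⁻¹ with hy'
  set x'' := g * x' * g⁻¹ with hx''
  have hx'Q : x' ∈ Q := hg x hx
  have hy'Q : y' ∈ Q := hg y hy
  have hx''Q : x'' ∈ Q := hg x' hx'Q
  have h1 : ⁅x * y, x' * y'⁆ = 1 := by
    have := hself (x * y) (mul_mem hx hy)
    have e : g * (x * y) * g⁻¹ = x' * y' := by simp only [hx', hy']; group
    rwa [e] at this
  have e1 : ⁅x * y, x' * y'⁆ = ⁅x, x' * y'⁆ * ⁅y, x' * y'⁆ :=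
    comm_mul_left_of_central (hQ _ hy _ (mul_mem hx'Q hy'Q))
  have e2 : ⁅x, x' * y'⁆ = ⁅x, x'⁆ * ⁅x, y'⁆ := comm_mul_right_of_central (hQ _ hx _ hy'Q)
  have e3 : ⁅y, x' * y'⁆ = ⁅y, x'⁆ * ⁅y, y'⁆ := comm_mul_right_of_central (hQ _ hy _ hy'Q)
  have e4 : ⁅x, x'⁆ = 1 := hself x hx
  have e5 : ⁅y, y'⁆ = 1 := hself y hy
  rw [e1, e2, e3, e4, e5, one_mul, mul_one] at h1
  -- h1 : ⁅x, y'⁆ * ⁅y, x'⁆ = 1
  have h2 : ⁅x, y'⁆ = ⁅x', y⁆ := by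
    rw [← commutatorElement_inv y x']
    exact eq_inv_of_mul_eq_one_left h1
  have h3 : ⁅x', y⁆ = ⁅x'', y'⁆ := (comm_conj_of_central g (hQ _ hx'Q _ hy)).symm
  rw [← commutatorElement_eq_one_iff_commute]
  have e6 : ⁅x * x''⁻¹, y'⁆ = ⁅x, y'⁆ * ⁅x''⁻¹, y'⁆ :=
    comm_mul_left_of_central (hQ _ (inv_mem hx''Q) _ hy'Q)
  have e7 : ⁅x''⁻¹, y'⁆ = ⁅x'', y'⁆⁻¹ := comm_inv_left_of_central (hQ _ hx''Q _ hy'Q)
  rw [e6, e7, h2, h3, mul_inv_cancel]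

/-- closure under products of the set of elements acting trivially modulo a central subgroup -/
theorem comm_mem_of_mul (Q S : Subgroup G) (hS : S ≤ Subgroup.center G) (h h' : G)
    (hh'Q : ∀ q ∈ Q, h' * q * h'⁻¹ ∈ Q)
    (hh : ∀ x ∈ Q, ⁅h, x⁆ ∈ S) (hh' : ∀ x ∈ Q, ⁅h', x⁆ ∈ S) :
    ∀ x ∈ Q, ⁅h * h', x⁆ ∈ S := by
  intro x hx
  have h1 : ⁅h * h', x⁆ = ⁅h, x⁆ * ⁅h', x⁆ := comm_mul_left_of_central (hS (hh' x hx))
  rw [h1]
  exact mul_mem (hh x hx) (hh' x hx)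

theorem comm_mem_of_pow (Q S : Subgroup G) (hS : S ≤ Subgroup.center G) (h : G)
    (hhQ : ∀ q ∈ Q, h * q * h⁻¹ ∈ Q)
    (hh : ∀ x ∈ Q, ⁅h, x⁆ ∈ S) (m : ℕ) :
    ∀ x ∈ Q, ⁅h ^ m, x⁆ ∈ S := by
  induction m with
  | zero =>
    intro x _
    rw [pow_zero, commutatorElement_one_left]
    exact one_mem S
  | succ m ih =>
    rw [pow_succ]
    exact comm_mem_of_mul Q S hS (h ^ m) h hhQ ih hh

end Coprime


section Nilp

theorem exists_iterate_comm_eq_one {G : Type*} [Group G] (H : Subgroup G)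
    [hH : Group.IsNilpotent H] (g y : G) (hg : g ∈ H) (hy : y ∈ H) :
    ∃ k : ℕ, (fun z => ⁅g, z⁆)^[k] y = 1 := by
  obtain ⟨n, hn⟩ := (Subgroup.isNilpotent_iff_lowerCentralSeries H).mp hH
  refine ⟨n, ?_⟩
  have key : ∀ k, (fun z => ⁅g, z⁆)^[k] y ∈ H.lowerCentralSeries k := by
    intro k
    induction k with
    | zero => simpa using hy
    | succ k ih =>
      rw [Function.iterate_succ_apply', ← commutatorElement_inv]
      apply inv_mem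
      exact Subgroup.commutator_mem_commutator ih hg
  have := key n
  rw [hn] at this
  exact Subgroup.mem_bot.mp this

/-- In a nilpotent subgroup `H`, given a subgroup `T` stable under `⁅g, ·⁆` and `y` with
`⁅g, y⁆ ∉ T`, some iterate `x` has `⁅g, x⁆ ∉ T` but `⁅g, ⁅g, x⁆⁆ ∈ T`. -/
theorem exists_iterate_last {G : Type*} [Group G] (H : Subgroup G)
    [hH : Group.IsNilpotent H] (T : Subgroup G)
    (g y : G) (hg : g ∈ H) (hyH : y ∈ H) (hT : ∀ z ∈ T, ⁅g, z⁆ ∈ T) (hy : ⁅g, y⁆ ∉ T) :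
    ∃ k : ℕ, ⁅g, (fun z => ⁅g, z⁆)^[k] y⁆ ∉ T ∧ ⁅g, ⁅g, (fun z => ⁅g, z⁆)^[k] y⁆⁆ ∈ T := by
  classical
  obtain ⟨n, hn⟩ := exists_iterate_comm_eq_one H g y hg hyH
  have hex : ∃ k, (fun z => ⁅g, z⁆)^[k] y ∈ T := ⟨n, by rw [hn]; exact one_mem T⟩
  have hk1 : (fun z => ⁅g, z⁆)^[Nat.find hex] y ∈ T := Nat.find_spec hex
  have hmin : ∀ m, m < Nat.find hex → (fun z => ⁅g, z⁆)^[m] y ∉ T := fun m hm => Nat.find_min hex hm
  generalize Nat.find hex = k at hk1 hmin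
  have hk2 : 2 ≤ k := by
    by_contra hlt
    rw [not_le] at hlt
    interval_cases k
    · simp only [Function.iterate_zero, id_eq] at hk1
      exact hy (hT y hk1)
    · simp only [Function.iterate_one] at hk1
      exact hy hk1
  refine ⟨k - 2, ?_, ?_⟩
  · have : ⁅g, (fun z => ⁅g, z⁆)^[k - 2] y⁆ = (fun z => ⁅g, z⁆)^[k - 1] y := by
      rw [← Function.iterate_succ_apply' (fun z => ⁅g, z⁆)]
      congr 1
      omega
    rw [this]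
    exact hmin _ (by omega)
  · have : ⁅g, ⁅g, (fun z => ⁅g, z⁆)^[k - 2] y⁆⁆ = (fun z => ⁅g, z⁆)^[k] y := by
      rw [← Function.iterate_succ_apply' (fun z => ⁅g, z⁆),
        ← Function.iterate_succ_apply' (fun z => ⁅g, z⁆)]
      congr 1
      omega
    rw [this]
    exact hk1

theorem iterate_comm_mem {G : Type*} [Group G] (R : Subgroup G) (g : G)
    (hg : ∀ x ∈ R, g * x * g⁻¹ ∈ R) (y : G) (hy : y ∈ R) (k : ℕ) :
    (fun z => ⁅g, z⁆)^[k] y ∈ R := by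
  induction k with
  | zero => simpa using hy
  | succ k ih =>
    rw [Function.iterate_succ_apply']
    rw [commutatorElement_def]
    exact mul_mem (hg _ ih) (inv_mem ih)

end Nilp

end Cfsg.Agent.Lib.Helper22.ExtraEig
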