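import Mathlib

set_option autoImplicit false

namespace Cfsg.Agent.Lib.Helper22.ExtraEig

open Module Polynomial

variable {F V : Type*} [Field F] [AddCommGroup V] [Module F V] [FiniteDimensional F V]

/-- an injective endomorphism mapping `A` into `B` bounds dimensions. -/
theorem finrank_le_of_mapsTo {y : End F V} (hy : Function.Injective y) {A B : Submodule F V}
    (h : ∀ v ∈ A, y v ∈ B) : finrank F A ≤ finrank F B := by
  have h1 : A.map y ≤ B := by
    rintro _ ⟨v, hv, rfl⟩
    exact h v hv
  calc finrank F A = finrank F (A.map y) :=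
        LinearEquiv.finrank_eq (Submodule.equivMapOfInjective y hy A)
    _ ≤ finrank F B := Submodule.finrank_mono h1

theorem sum_finrank_eq_of_iSupIndep {ι : Type*} (P : ι → Submodule F V) (hP : iSupIndep P)
    (s : Finset ι) :
    ∑ i ∈ s, finrank F (P i) = finrank F (⨆ i ∈ s, P i : Submodule F V) := by
  classical
  induction s using Finset.induction_on with
  | empty =>
    have : (⨆ i ∈ (∅ : Finset ι), P i : Submodule F V) = ⊥ := by simp
    rw [this]; simp
  | insert i s hi ih =>
    rw [Finset.sum_insert hi, ih, Finset.iSup_insert]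
    have hd : Disjoint (P i) (⨆ j ∈ s, P j) := by
      have := hP.disjoint_biSup (x := i) (y := (s : Set ι)) (by simpa using hi)
      simpa using this
    have := Submodule.finrank_sup_add_finrank_inf_eq (P i) (⨆ j ∈ s, P j)
    rw [hd.eq_bot, finrank_bot, add_zero] at this
    exact this.symm

theorem sum_finrank_le_of_iSupIndep {ι : Type*} (P : ι → Submodule F V) (hP : iSupIndep P)
    (s : Finset ι) (U : Submodule F V) (hU : ∀ i ∈ s, P i ≤ U) :
    ∑ i ∈ s, finrank F (P i) ≤ finrank F U := by
  rw [sum_finrank_eq_of_iSupIndep P hP]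
  exact Submodule.finrank_mono (iSup₂_le hU)

theorem sum_finrank_inf_eigenspace_le (f : End F V) (U : Submodule F V) (s : Finset F) :
    ∑ μ ∈ s, finrank F (U ⊓ f.eigenspace μ : Submodule F V) ≤ finrank F U := by
  apply sum_finrank_le_of_iSupIndep (fun μ => U ⊓ f.eigenspace μ)
  · exact (Module.End.eigenspaces_iSupIndep f).mono (fun μ => inf_le_right)
  · intro μ _
    exact inf_le_left

theorem sum_finrank_eigenspace_le (f : End F V) (s : Finset F) :
    ∑ μ ∈ s, finrank F (f.eigenspace μ) ≤ finrank F V := by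
  have := sum_finrank_le_of_iSupIndep (fun μ => f.eigenspace μ)
    (Module.End.eigenspaces_iSupIndep f) s ⊤ (fun _ _ => le_top)
  simpa using this

theorem finrank_biSup_le {ι : Type*} (P : ι → Submodule F V) (s : Finset ι) :
    finrank F (⨆ i ∈ s, P i : Submodule F V) ≤ ∑ i ∈ s, finrank F (P i) := by
  classical
  induction s using Finset.induction_on with
  | empty =>
    have : (⨆ i ∈ (∅ : Finset ι), P i : Submodule F V) = ⊥ := by simp
    rw [this]; simp
  | insert i s hi ih =>
    rw [Finset.sum_insert hi, Finset.iSup_insert]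
    exact (Submodule.finrank_add_le_finrank_add_finrank _ _).trans (Nat.add_le_add_left ih _)


theorem ker_aeval_X_sub_C (a : End F V) (μ : F) :
    LinearMap.ker (aeval a (X - C μ)) = a.eigenspace μ := by
  ext v
  simp [Module.End.mem_eigenspace_iff, sub_eq_zero]

theorem ker_aeval_prod_eq_iSup (a : End F V) (s : Finset F) :
    LinearMap.ker (aeval a (∏ μ ∈ s, (X - C μ))) = ⨆ μ ∈ s, a.eigenspace μ := by
  classical
  induction s using Finset.induction_on with
  | empty =>
    simp only [Finset.prod_empty, map_one, Finset.notMem_empty, not_false_eq_true, iSup_neg,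
      iSup_bot]
    exact LinearMap.ker_id
  | insert μ₀ s hμ₀ ih =>
    rw [Finset.prod_insert hμ₀, Finset.iSup_insert]
    have hcop : IsCoprime (X - C μ₀) (∏ μ ∈ s, (X - C μ) : F[X]) := by
      apply IsCoprime.prod_right
      intro μ hμ
      apply Polynomial.isCoprime_X_sub_C_of_isUnit_sub
      have : μ₀ ≠ μ := fun h => hμ₀ (h ▸ hμ)
      exact (sub_ne_zero.mpr this).isUnit
    rw [← Polynomial.sup_ker_aeval_eq_ker_aeval_mul_of_coprime a hcop, ih, ker_aeval_X_sub_C]

theorem iSup_eigenspace_eq_top_of_pow_eq_one (a : End F V) (r : ℕ) (ζ : F)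
    (hζ : IsPrimitiveRoot ζ r) (hr : 0 < r) (har : a ^ r = 1) :
    (⨆ μ : F, a.eigenspace μ) = ⊤ := by
  classical
  have h1 : (X ^ r - 1 : F[X]) = ∏ μ ∈ nthRootsFinset r (1 : F), (X - C μ) :=
    X_pow_sub_one_eq_prod hr hζ
  have h2 : aeval a (∏ μ ∈ nthRootsFinset r (1 : F), (X - C μ)) = 0 := by
    rw [← h1]
    simp [har]
  have h3 := ker_aeval_prod_eq_iSup a (nthRootsFinset r (1 : F))
  rw [h2, LinearMap.ker_zero] at h3
  rw [eq_top_iff, h3]
  exact iSup₂_le (fun μ _ => le_iSup (fun μ => a.eigenspace μ) μ)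


/-- decomposition of an invariant subspace along the eigenspaces of a diagonalisable map -/
theorem finrank_le_sum_inf_eigenspace [Fintype F] (a : End F V)
    (htop : (⨆ μ : F, a.eigenspace μ) = ⊤)
    (p : Submodule F V) (hp : ∀ v ∈ p, a v ∈ p) :
    finrank F p ≤ ∑ μ : F, finrank F (p ⊓ a.eigenspace μ : Submodule F V) := by
  have h1 : p = ⨆ μ : F, p ⊓ a.eigenspace μ := by
    have h := Submodule.inf_iSup_genEigenspace (f := a) hp 1
    have h2 : (⨆ μ : F, a.genEigenspace μ 1) = ⊤ := htop
    rw [h2, inf_top_eq] at h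
    exact h
  have h3 : (⨆ μ : F, p ⊓ a.eigenspace μ) = ⨆ μ ∈ (Finset.univ : Finset F), p ⊓ a.eigenspace μ := by
    simp
  calc finrank F p = finrank F (⨆ μ ∈ (Finset.univ : Finset F), p ⊓ a.eigenspace μ : Submodule F V) := by
        rw [← h3, ← h1]
    _ ≤ _ := finrank_biSup_le (fun μ => p ⊓ a.eigenspace μ) Finset.univ

/-- relative shifting lemma -/
theorem mul_finrank_inf_eigenspace_le (f y : End F V) (hy : Function.Injective y)
    (U : Submodule F V) (hyU : ∀ v ∈ U, y v ∈ U) (κ : F) (r : ℕ) (hκ : IsPrimitiveRoot κ r)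
    (hshift : ∀ v ∈ U, ∀ γ : F, f v = γ • v → f (y v) = (κ * γ) • y v)
    (c : F) (hc : c ≠ 0) :
    r * finrank F (U ⊓ f.eigenspace c : Submodule F V) ≤ finrank F U := by
  classical
  have hstep : ∀ γ : F, finrank F (U ⊓ f.eigenspace γ : Submodule F V)
      ≤ finrank F (U ⊓ f.eigenspace (κ * γ) : Submodule F V) := by
    intro γ
    apply finrank_le_of_mapsTo hy
    rintro v ⟨hvU, hv⟩
    refine ⟨hyU v hvU, ?_⟩
    rw [SetLike.mem_coe, Module.End.mem_eigenspace_iff] at hv ⊢
    exact hshift v hvU γ hv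
  have hk : ∀ k : ℕ, finrank F (U ⊓ f.eigenspace c : Submodule F V)
      ≤ finrank F (U ⊓ f.eigenspace (κ ^ k * c) : Submodule F V) := by
    intro k
    induction k with
    | zero => rw [pow_zero, one_mul]
    | succ k ih =>
      refine ih.trans ?_
      have := hstep (κ ^ k * c)
      rwa [← mul_assoc, ← pow_succ'] at this
  have hinj : Set.InjOn (fun k : ℕ => κ ^ k * c) (Finset.range r) := by
    intro i hi j hj hij
    simp only [Finset.coe_range, Set.mem_Iio] at hi hj
    exact hκ.pow_inj hi hj (mul_right_cancel₀ hc hij)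
  calc r * finrank F (U ⊓ f.eigenspace c : Submodule F V)
      = ∑ _k ∈ Finset.range r, finrank F (U ⊓ f.eigenspace c : Submodule F V) := by simp
    _ ≤ ∑ k ∈ Finset.range r, finrank F (U ⊓ f.eigenspace (κ ^ k * c) : Submodule F V) :=
        Finset.sum_le_sum (fun k _ => hk k)
    _ = ∑ μ ∈ (Finset.range r).image (fun k : ℕ => κ ^ k * c),
          finrank F (U ⊓ f.eigenspace μ : Submodule F V) := by
        rw [Finset.sum_image hinj]
    _ ≤ finrank F U := sum_finrank_inf_eigenspace_le f U _

theorem mul_finrank_eigenspace_le (f y : End F V) (hy : Function.Injective y)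
    (κ : F) (r : ℕ) (hκ : IsPrimitiveRoot κ r)
    (hshift : ∀ v, ∀ γ : F, f v = γ • v → f (y v) = (κ * γ) • y v)
    (c : F) (hc : c ≠ 0) :
    r * finrank F (f.eigenspace c) ≤ finrank F V := by
  have := mul_finrank_inf_eigenspace_le f y hy ⊤ (fun _ _ => Submodule.mem_top) κ r hκ
    (fun v _ γ h => hshift v γ h) c hc
  rw [top_inf_eq, finrank_top] at this
  exact this


/-- basic bound: if `g x = u x g` then `W ∩ xW` lies in the fixed space of `u`. -/
theorem two_mul_finrank_eigenspace_le (g x u : End F V) (hx : Function.Injective x)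
    (hrel : g * x = u * x * g) (c : F) (hc : c ≠ 0) :
    2 * finrank F (g.eigenspace c) ≤ finrank F V + finrank F (u.eigenspace 1) := by
  set W := g.eigenspace c with hW
  have h1 : finrank F (W.map x) = finrank F W :=
    (LinearEquiv.finrank_eq (Submodule.equivMapOfInjective x hx W)).symm
  have h2 : W ⊓ W.map x ≤ u.eigenspace 1 := by
    rintro v ⟨hvW, w, hwW, rfl⟩
    rw [SetLike.mem_coe, hW, Module.End.mem_eigenspace_iff] at hvW hwW
    rw [Module.End.mem_eigenspace_iff, one_smul]
    have h3 : g (x w) = u (x (g w)) := by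
      have := LinearMap.congr_fun hrel w
      simpa [Module.End.mul_apply] using this
    rw [hvW, hwW, map_smul, map_smul] at h3
    exact (smul_right_injective V hc h3).symm
  have h4 := Submodule.finrank_sup_add_finrank_inf_eq W (W.map x)
  have h5 : finrank F (W ⊔ W.map x : Submodule F V) ≤ finrank F V := Submodule.finrank_le _
  have h6 : finrank F (W ⊓ W.map x : Submodule F V) ≤ finrank F (u.eigenspace 1) :=
    Submodule.finrank_mono h2
  omega

/-- if `W` is more than half of `V` then `W ∩ xW ≠ 0`. -/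
theorem exists_common_vector (g x : End F V) (hx : Function.Injective x) (c : F)
    (h : finrank F V < 2 * finrank F (g.eigenspace c)) :
    ∃ v w : V, v ≠ 0 ∧ g v = c • v ∧ g w = c • w ∧ x w = v := by
  set W := g.eigenspace c with hW
  have h1 : finrank F (W.map x) = finrank F W :=
    (LinearEquiv.finrank_eq (Submodule.equivMapOfInjective x hx W)).symm
  have h4 := Submodule.finrank_sup_add_finrank_inf_eq W (W.map x)
  have h5 : finrank F (W ⊔ W.map x : Submodule F V) ≤ finrank F V := Submodule.finrank_le _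
  have h6 : 0 < finrank F (W ⊓ W.map x : Submodule F V) := by omega
  have h7 : (W ⊓ W.map x : Submodule F V) ≠ ⊥ := by
    intro h8
    rw [h8, finrank_bot] at h6
    exact lt_irrefl _ h6
  obtain ⟨v, hv, hv0⟩ := Submodule.exists_mem_ne_zero_of_ne_bot h7
  obtain ⟨hvW, w, hwW, rfl⟩ := hv
  rw [SetLike.mem_coe, hW, Module.End.mem_eigenspace_iff] at hvW hwW
  exact ⟨x w, w, hv0, hvW, hwW, rfl⟩

/-- `h x h⁻¹ x⁻¹` fixes `v = x w` when `v, w` are eigenvectors of `h` for the same nonzero
eigenvalue. -/
theorem commutator_fixes (h h' x x' : End F V) (hh : h' * h = 1) (hxx : x' * x = 1)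
    (c : F) (hc : c ≠ 0) (v w : V) (hv : h v = c • v) (hw : h w = c • w) (hxw : x w = v) :
    (h * x * h' * x') v = v := by
  have e1 : x' v = w := by
    rw [← hxw]
    have := LinearMap.congr_fun hxx w
    simpa [Module.End.mul_apply] using this
  have e2 : h' w = c⁻¹ • w := by
    have := LinearMap.congr_fun hh w
    simp only [Module.End.mul_apply, Module.End.one_apply] at this
    rw [hw, map_smul] at this
    calc h' w = c⁻¹ • (c • h' w) := by rw [smul_smul, inv_mul_cancel₀ hc, one_smul]
      _ = c⁻¹ • w := by rw [this]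
  simp only [Module.End.mul_apply]
  rw [e1, e2, map_smul, hxw, map_smul, hv, smul_smul, inv_mul_cancel₀ hc, one_smul]

theorem pow_apply_eigenvector (g : End F V) (c : F) (v : V) (hv : g v = c • v) (k : ℕ) :
    (g ^ k) v = c ^ k • v := by
  induction k with
  | zero => simp
  | succ k ih =>
    rw [pow_succ, Module.End.mul_apply, hv, map_smul, ih, smul_smul, pow_succ, mul_comm]


theorem eigenspace_eq_bot_of_pow_ne (a : End F V) (r : ℕ) (har : a ^ r = 1) (μ : F)
    (hμ : μ ^ r ≠ 1) : a.eigenspace μ = ⊥ := by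
  rw [eq_bot_iff]
  intro v hv
  rw [Module.End.mem_eigenspace_iff] at hv
  have h1 := pow_apply_eigenvector a μ v hv r
  rw [har, Module.End.one_apply] at h1
  have h2 : (1 - μ ^ r) • v = 0 := by rw [sub_smul, one_smul, ← h1, sub_self]
  rcases smul_eq_zero.mp h2 with h3 | h3
  · exact absurd (sub_eq_zero.mp h3).symm hμ
  · simpa using h3

/-- if `y^r = 1` and `x` shifts the eigenspaces of `y` by a primitive root then
`dim V = r * dim ker (y - 1)`. -/
theorem finrank_eq_mul_of_shift [Fintype F] (y x : End F V) (hx : Function.Injective x)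
    (r : ℕ) (hr : 0 < r) (κ : F) (hκ : IsPrimitiveRoot κ r) (hyr : y ^ r = 1)
    (hshift : ∀ v, ∀ γ : F, y v = γ • v → y (x v) = (κ * γ) • x v) :
    finrank F V = r * finrank F (y.eigenspace 1) := by
  classical
  have : NeZero r := ⟨hr.ne'⟩
  apply le_antisymm
  · have htop := iSup_eigenspace_eq_top_of_pow_eq_one y r κ hκ hr hyr
    have h1 := finrank_le_sum_inf_eigenspace y htop ⊤ (fun _ _ => Submodule.mem_top)
    rw [finrank_top] at h1
    have hstep : ∀ γ : F, finrank F (y.eigenspace γ) ≤ finrank F (y.eigenspace (κ * γ)) := by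
      intro γ
      apply finrank_le_of_mapsTo hx
      intro v hv
      rw [Module.End.mem_eigenspace_iff] at hv ⊢
      exact hshift v γ hv
    have hk : ∀ (k : ℕ) (γ : F), finrank F (y.eigenspace γ)
        ≤ finrank F (y.eigenspace (κ ^ k * γ)) := by
      intro k γ
      induction k with
      | zero => rw [pow_zero, one_mul]
      | succ k ih =>
        refine ih.trans ?_
        have := hstep (κ ^ k * γ)
        rwa [← mul_assoc, ← pow_succ'] at this
    have hterm : ∀ μ : F, finrank F (⊤ ⊓ y.eigenspace μ : Submodule F V)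
        ≤ if μ ∈ nthRootsFinset r (1 : F) then finrank F (y.eigenspace 1) else 0 := by
      intro μ
      rw [top_inf_eq]
      split_ifs with hμ
      · rw [mem_nthRootsFinset hr] at hμ
        obtain ⟨i, hi, rfl⟩ := hκ.eq_pow_of_pow_eq_one hμ
        have := hk (r - i) (κ ^ i)
        rwa [← pow_add, Nat.sub_add_cancel hi.le, hκ.pow_eq_one] at this
      · rw [mem_nthRootsFinset hr] at hμ
        rw [eigenspace_eq_bot_of_pow_ne y r hyr μ hμ, finrank_bot]
    calc finrank F V ≤ ∑ μ : F, finrank F (⊤ ⊓ y.eigenspace μ : Submodule F V) := h1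
      _ ≤ ∑ μ : F, (if μ ∈ nthRootsFinset r (1 : F) then finrank F (y.eigenspace 1) else 0) :=
          Finset.sum_le_sum (fun μ _ => hterm μ)
      _ = r * finrank F (y.eigenspace 1) := by
          rw [Finset.sum_ite_mem, Finset.univ_inter, Finset.sum_const, hκ.card_nthRootsFinset,
            smul_eq_mul]
  · exact mul_finrank_eigenspace_le y x hx κ r hκ hshift 1 one_ne_zero

theorem sum_comp_le_mul_sum {ι β : Type*} [Fintype β] [DecidableEq β] (s : Finset ι)
    (v : ι → β) (φ : β → ℕ) (m : ℕ)
    (hfib : ∀ b, (s.filter (fun k => v k = b)).card ≤ m) :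
    ∑ k ∈ s, φ (v k) ≤ m * ∑ b : β, φ b := by
  rw [← Finset.sum_fiberwise s v (fun k => φ (v k)), Finset.mul_sum]
  apply Finset.sum_le_sum
  intro b _
  calc ∑ k ∈ s with v k = b, φ (v k) = ∑ k ∈ s with v k = b, φ b :=
        Finset.sum_congr rfl (by intro k hk; rw [(Finset.mem_filter.mp hk).2])
    _ = (s.filter (fun k => v k = b)).card * φ b := by simp
    _ ≤ m * φ b := Nat.mul_le_mul_right _ (hfib b)

theorem two_mul_sum_range_add (k : ℕ) : 2 * (∑ i ∈ Finset.range k, i) + k = k * k := by
  induction k with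
  | zero => simp
  | succ k ih =>
    rw [Finset.sum_range_succ]
    nlinarith

theorem tri_fiber (r : ℕ) (hr : r.Prime) (m k j : ℕ) (hk : k < r) (hj : j < r)
    (h : (∑ i ∈ Finset.range k, i + m * k) % r = (∑ i ∈ Finset.range j, i + m * j) % r)
    (hkj : k ≠ j) :
    ((k : ZMod r) + j + 2 * m - 1 = 0) := by
  have := Fact.mk hr
  have h1 : (((∑ i ∈ Finset.range k, i + m * k : ℕ)) : ZMod r)
      = ((∑ i ∈ Finset.range j, i + m * j : ℕ) : ZMod r) :=
    (ZMod.natCast_eq_natCast_iff' _ _ _).mpr h
  have hk2 : (2 : ZMod r) * ((∑ i ∈ Finset.range k, i : ℕ) : ZMod r) + k = k * k := by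
    exact_mod_cast congrArg (Nat.cast (R := ZMod r)) (two_mul_sum_range_add k)
  have hj2 : (2 : ZMod r) * ((∑ i ∈ Finset.range j, i : ℕ) : ZMod r) + j = j * j := by
    exact_mod_cast congrArg (Nat.cast (R := ZMod r)) (two_mul_sum_range_add j)
  push_cast at h1
  have h2 : ((k : ZMod r) - j) * ((k : ZMod r) + j + 2 * m - 1) = 0 := by
    have : (2 : ZMod r) * (((∑ i ∈ Finset.range k, (i : ZMod r))) + m * k)
        = 2 * (((∑ i ∈ Finset.range j, (i : ZMod r))) + m * j) := by rw [h1]
    push_cast at hk2 hj2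
    linear_combination this - hk2 + hj2
  rcases mul_eq_zero.mp h2 with h3 | h3
  · exfalso
    apply hkj
    have : (k : ZMod r) = (j : ZMod r) := sub_eq_zero.mp h3
    have := (ZMod.natCast_eq_natCast_iff' _ _ _).mp this
    rwa [Nat.mod_eq_of_lt hk, Nat.mod_eq_of_lt hj] at this
  · exact h3

theorem tri_fiber_card (r : ℕ) (hr : r.Prime) (m e : ℕ) :
    ((Finset.range r).filter
      (fun k => (∑ i ∈ Finset.range k, i + m * k) % r = e)).card ≤ 2 := by
  have := Fact.mk hr
  by_contra hcon
  rw [not_le, Finset.two_lt_card] at hcon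
  obtain ⟨k₁, h1, k₂, h2, k₃, h3, h12, h13, h23⟩ := hcon
  rw [Finset.mem_filter, Finset.mem_range] at h1 h2 h3
  have e2 := tri_fiber r hr m k₁ k₂ h1.1 h2.1 (h1.2.trans h2.2.symm) h12
  have e3 := tri_fiber r hr m k₁ k₃ h1.1 h3.1 (h1.2.trans h3.2.symm) h13
  apply h23
  have : (k₂ : ZMod r) = (k₃ : ZMod r) := by linear_combination e2 - e3
  have := (ZMod.natCast_eq_natCast_iff' _ _ _).mp this
  rwa [Nat.mod_eq_of_lt h2.1, Nat.mod_eq_of_lt h3.1] at this


/-- the main bound in the case `ϖ = r`: relations `g a = a g`, `x a = κ a x`, `g x = a x g`. -/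
theorem hard_case_bound [Fintype F] (g a x : End F V) (hx : Function.Injective x)
    (r : ℕ) (hr : r.Prime) (ζ : F) (hζ : IsPrimitiveRoot ζ r)
    (har : a ^ r = 1) (hga : g * a = a * g) (κ : F) (hκr : κ ^ r = 1)
    (hxa : x * a = κ • (a * x)) (hgx : g * x = a * x * g)
    (hβ : κ = 1 → r * finrank F (a.eigenspace 1) ≤ finrank F V)
    (c : F) (hc : c ≠ 0) :
    r * finrank F (g.eigenspace c) ≤ 2 * finrank F V := by
  classical
  have hr0 : 0 < r := hr.pos
  have : NeZero r := ⟨hr0.ne'⟩
  have htop := iSup_eigenspace_eq_top_of_pow_eq_one a r ζ hζ hr0 har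
  -- `x a^k = κ^k a^k x`
  have hxak : ∀ k : ℕ, x * a ^ k = κ ^ k • (a ^ k * x) := by
    intro k
    induction k with
    | zero => simp
    | succ k ih =>
      calc x * a ^ (k + 1) = (x * a ^ k) * a := by rw [pow_succ, mul_assoc]
        _ = κ ^ k • (a ^ k * (x * a)) := by rw [ih, smul_mul_assoc, mul_assoc]
        _ = κ ^ (k + 1) • (a ^ (k + 1) * x) := by
            rw [hxa, mul_smul_comm, smul_smul, ← mul_assoc, ← pow_succ, ← pow_succ]
  set t : ℕ → ℕ := fun k => ∑ i ∈ Finset.range k, i with ht
  set cc : ℕ → F := fun k => c * κ ^ t k with hcc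
  set W : ℕ → Submodule F V := fun k => LinearMap.ker (g - cc k • a ^ k) with hW
  have memW : ∀ k v, v ∈ W k ↔ g v = cc k • (a ^ k) v := by
    intro k v
    simp only [hW, LinearMap.mem_ker, LinearMap.sub_apply, LinearMap.smul_apply, sub_eq_zero]
  have hcc_succ : ∀ k, cc (k + 1) = cc k * κ ^ k := by
    intro k
    simp only [hcc, ht, Finset.sum_range_succ, pow_add, mul_assoc]
  have hW0 : g.eigenspace c = W 0 := by
    ext v
    rw [memW, Module.End.mem_eigenspace_iff]
    simp [hcc, ht]
  have hWstep : ∀ k, finrank F (W k) ≤ finrank F (W (k + 1)) := by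
    intro k
    apply finrank_le_of_mapsTo hx
    intro v hv
    rw [memW] at hv ⊢
    have e1 : g (x v) = a (x (g v)) := by
      have := LinearMap.congr_fun hgx v
      simpa [Module.End.mul_apply] using this
    have e2 : x ((a ^ k) v) = κ ^ k • (a ^ k) (x v) := by
      have := LinearMap.congr_fun (hxak k) v
      simpa [Module.End.mul_apply] using this
    rw [e1, hv, map_smul, e2, map_smul, map_smul, smul_smul, hcc_succ, pow_succ',
      Module.End.mul_apply]
  have hd : ∀ k, finrank F (g.eigenspace c) ≤ finrank F (W k) := by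
    intro k
    induction k with
    | zero => rw [hW0]
    | succ k ih => exact ih.trans (hWstep k)
  have hWinv : ∀ k, ∀ v ∈ W k, a v ∈ W k := by
    intro k v hv
    rw [memW] at hv ⊢
    have e1 : g (a v) = a (g v) := by
      have := LinearMap.congr_fun hga v
      simpa [Module.End.mul_apply] using this
    have e2 : (a ^ k) (a v) = a ((a ^ k) v) := by
      rw [← Module.End.mul_apply, ← Module.End.mul_apply, ← pow_succ, ← pow_succ']
    rw [e1, hv, map_smul, e2]
  -- joint eigenspaces
  set J : F → F → Submodule F V := fun μ γ => a.eigenspace μ ⊓ g.eigenspace γ with hJ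
  have hWk_le : ∀ k, finrank F (W k) ≤ ∑ μ : F, finrank F (J μ (cc k * μ ^ k)) := by
    intro k
    refine (finrank_le_sum_inf_eigenspace a htop (W k) (hWinv k)).trans ?_
    apply Finset.sum_le_sum
    intro μ _
    apply Submodule.finrank_mono
    rintro v ⟨hvW, hva⟩
    refine ⟨hva, ?_⟩
    rw [SetLike.mem_coe, memW] at hvW
    rw [SetLike.mem_coe, Module.End.mem_eigenspace_iff] at hva ⊢
    rw [hvW, pow_apply_eigenvector a μ v hva k, smul_smul]
  have hJsum : ∀ μ : F, ∑ γ : F, finrank F (J μ γ) ≤ finrank F (a.eigenspace μ) := by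
    intro μ
    exact sum_finrank_inf_eigenspace_le g (a.eigenspace μ) Finset.univ
  have htotal : r * finrank F (g.eigenspace c)
      ≤ ∑ μ : F, ∑ k ∈ Finset.range r, finrank F (J μ (cc k * μ ^ k)) := by
    calc r * finrank F (g.eigenspace c)
        = ∑ _k ∈ Finset.range r, finrank F (g.eigenspace c) := by simp
      _ ≤ ∑ k ∈ Finset.range r, ∑ μ : F, finrank F (J μ (cc k * μ ^ k)) :=
          Finset.sum_le_sum (fun k _ => (hd k).trans (hWk_le k))
      _ = _ := Finset.sum_comm
  have hsumE : ∑ μ : F, finrank F (a.eigenspace μ) ≤ finrank F V :=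
    sum_finrank_eigenspace_le a Finset.univ
  have hbot : ∀ μ : F, μ ^ r ≠ 1 → ∀ γ, finrank F (J μ γ) = 0 := by
    intro μ hμ γ
    have : J μ γ = ⊥ := by
      rw [hJ]
      simp only
      rw [eigenspace_eq_bot_of_pow_ne a r har μ hμ, bot_inf_eq]
    rw [this, finrank_bot]
  have hprim : ∀ μ : F, μ ^ r = 1 → μ ≠ 1 → IsPrimitiveRoot μ r := by
    intro μ h1 h2
    have := Fact.mk hr
    rw [IsPrimitiveRoot.iff_orderOf]
    exact orderOf_eq_prime h1 h2
  by_cases hκ1 : κ = 1
  · -- commuting case
    have hcck : ∀ k, cc k = c := by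
      intro k
      simp [hcc, hκ1]
    have hper : ∀ μ : F, ∑ k ∈ Finset.range r, finrank F (J μ (cc k * μ ^ k))
        ≤ finrank F (a.eigenspace μ) + (if μ = 1 then r * finrank F (a.eigenspace 1) else 0) := by
      intro μ
      by_cases hμ1 : μ = 1
      · subst hμ1
        rw [if_pos rfl]
        have : ∀ k ∈ Finset.range r, finrank F (J 1 (cc k * 1 ^ k))
            ≤ finrank F (a.eigenspace 1) := by
          intro k _
          exact Submodule.finrank_mono inf_le_left
        calc _ ≤ ∑ _k ∈ Finset.range r, finrank F (a.eigenspace 1) := Finset.sum_le_sum this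
          _ = r * finrank F (a.eigenspace 1) := by simp
          _ ≤ _ := Nat.le_add_left _ _
      · rw [if_neg hμ1, add_zero]
        by_cases hμr : μ ^ r = 1
        · have hμp : IsPrimitiveRoot μ r := hprim μ hμr hμ1
          have hfib : ∀ γ : F, ((Finset.range r).filter
              (fun k => cc k * μ ^ k = γ)).card ≤ 1 := by
            intro γ
            rw [Finset.card_le_one]
            intro i hi j hj
            rw [Finset.mem_filter, Finset.mem_range] at hi hj
            have h1 : cc i * μ ^ i = cc j * μ ^ j := hi.2.trans hj.2.symm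
            rw [hcck, hcck] at h1
            exact hμp.pow_inj hi.1 hj.1 (mul_left_cancel₀ hc h1)
          have := sum_comp_le_mul_sum (Finset.range r) (fun k => cc k * μ ^ k)
            (fun γ => finrank F (J μ γ)) 1 hfib
          rw [one_mul] at this
          exact this.trans (hJsum μ)
        · rw [Finset.sum_eq_zero (fun k _ => hbot μ hμr _)]
          exact Nat.zero_le _
    have h1 := hβ hκ1
    calc r * finrank F (g.eigenspace c)
        ≤ ∑ μ : F, ∑ k ∈ Finset.range r, finrank F (J μ (cc k * μ ^ k)) := htotal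
      _ ≤ ∑ μ : F, (finrank F (a.eigenspace μ)
            + (if μ = 1 then r * finrank F (a.eigenspace 1) else 0)) :=
          Finset.sum_le_sum (fun μ _ => hper μ)
      _ = ∑ μ : F, finrank F (a.eigenspace μ) + r * finrank F (a.eigenspace 1) := by
          rw [Finset.sum_add_distrib, Finset.sum_ite_eq' Finset.univ (1 : F)]
          simp
      _ ≤ 2 * finrank F V := by omega
  · -- non-commuting case
    have hκp : IsPrimitiveRoot κ r := hprim κ hκr hκ1
    have hper : ∀ μ : F, ∑ k ∈ Finset.range r, finrank F (J μ (cc k * μ ^ k))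
        ≤ 2 * finrank F (a.eigenspace μ) := by
      intro μ
      by_cases hμr : μ ^ r = 1
      · obtain ⟨m, _, rfl⟩ := hκp.eq_pow_of_pow_eq_one hμr
        have hval : ∀ k, cc k * (κ ^ m) ^ k = c * κ ^ (t k + m * k) := by
          intro k
          simp only [hcc]
          rw [pow_add, pow_mul, mul_assoc]
        have hfib : ∀ γ : F, ((Finset.range r).filter
            (fun k => cc k * (κ ^ m) ^ k = γ)).card ≤ 2 := by
          intro γ
          by_cases hne : ((Finset.range r).filter (fun k => cc k * (κ ^ m) ^ k = γ)).Nonempty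
          · obtain ⟨k₀, hk₀⟩ := hne
            rw [Finset.mem_filter] at hk₀
            refine (Finset.card_le_card ?_).trans
              (tri_fiber_card r hr m ((t k₀ + m * k₀) % r))
            intro k hk
            rw [Finset.mem_filter] at hk ⊢
            refine ⟨hk.1, ?_⟩
            have h1 : cc k * (κ ^ m) ^ k = cc k₀ * (κ ^ m) ^ k₀ := hk.2.trans hk₀.2.symm
            rw [hval, hval] at h1
            have h2 := mul_left_cancel₀ hc h1
            rw [← pow_mod_orderOf κ (t k + m * k), ← pow_mod_orderOf κ (t k₀ + m * k₀),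
              ← hκp.eq_orderOf] at h2
            exact hκp.pow_inj (Nat.mod_lt _ hr0) (Nat.mod_lt _ hr0) h2
          · rw [Finset.not_nonempty_iff_eq_empty] at hne
            rw [hne]
            simp
        have := sum_comp_le_mul_sum (Finset.range r) (fun k => cc k * (κ ^ m) ^ k)
          (fun γ => finrank F (J (κ ^ m) γ)) 2 hfib
        exact this.trans (Nat.mul_le_mul_left 2 (hJsum (κ ^ m)))
      · rw [Finset.sum_eq_zero (fun k _ => hbot μ hμr _)]
        exact Nat.zero_le _
    calc r * finrank F (g.eigenspace c)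
        ≤ ∑ μ : F, ∑ k ∈ Finset.range r, finrank F (J μ (cc k * μ ^ k)) := htotal
      _ ≤ ∑ μ : F, 2 * finrank F (a.eigenspace μ) := Finset.sum_le_sum (fun μ _ => hper μ)
      _ = 2 * ∑ μ : F, finrank F (a.eigenspace μ) := by rw [Finset.mul_sum]
      _ ≤ 2 * finrank F V := Nat.mul_le_mul_left 2 hsumE

end Cfsg.Agent.Lib.Helper22.ExtraEig
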