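import Cfsg.Prelude.Def_GeometricClasses
import Cfsg.Agent.Lib.Helper22.ExtraEigLin
import Cfsg.Agent.Lib.Helper22.ExtraEigGrp

set_option autoImplicit false

namespace Cfsg.Agent.Lib.Helper22.ExtraEig

open scoped commutatorElement
open Module

variable {F : Type*} [Field F] {n : ℕ}

/-- the linear map of an invertible matrix, as a monoid hom -/
noncomputable def L : Matrix.GeneralLinearGroup (Fin n) F →* Module.End F (Fin n → F) where
  toFun g := Matrix.toLin' (g : Matrix (Fin n) (Fin n) F)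
  map_one' := by
    simp only [Units.val_one, Matrix.toLin'_one]
    rfl
  map_mul' g h := by
    simp only [Units.val_mul, Matrix.toLin'_mul]
    rfl

theorem L_apply (g : Matrix.GeneralLinearGroup (Fin n) F) :
    L g = Matrix.toLin' (g : Matrix (Fin n) (Fin n) F) := rfl

theorem L_inv_mul (g : Matrix.GeneralLinearGroup (Fin n) F) : L g⁻¹ * L g = 1 := by
  rw [← map_mul, inv_mul_cancel, map_one]

theorem L_mul_inv (g : Matrix.GeneralLinearGroup (Fin n) F) : L g * L g⁻¹ = 1 := by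
  rw [← map_mul, mul_inv_cancel, map_one]

theorem L_injective (g : Matrix.GeneralLinearGroup (Fin n) F) : Function.Injective (L g) := by
  intro v w h
  have := congrArg (L g⁻¹) h
  rw [← Module.End.mul_apply, ← Module.End.mul_apply, L_inv_mul] at this
  simpa using this

theorem L_scalar (s : Matrix.GeneralLinearGroup (Fin n) F) (c : F)
    (hs : (s : Matrix (Fin n) (Fin n) F) = c • (1 : Matrix (Fin n) (Fin n) F)) :
    L s = c • (1 : Module.End F (Fin n → F)) := by
  rw [L_apply, hs, map_smul, Matrix.toLin'_one]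
  rfl

theorem scalars_le_center :
    Cfsg.Geo.scalars (Fin n) F ≤ Subgroup.center (Matrix.GeneralLinearGroup (Fin n) F) := by
  intro s hs
  rw [Cfsg.Geo.mem_scalars_iff] at hs
  obtain ⟨c, hc⟩ := hs
  rw [Subgroup.mem_center_iff]
  intro g
  apply Units.ext
  simp [hc]

theorem finrank_fin_fun : finrank F (Fin n → F) = n := by simp


theorem smul_one_eq_iff [NeZero n] (κ κ' : F) :
    κ • (1 : Module.End F (Fin n → F)) = κ' • 1 ↔ κ = κ' := by
  constructor
  · intro h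
    have h1 := LinearMap.congr_fun h (fun _ => (1 : F))
    have h2 := congrFun h1 (0 : Fin n)
    simpa using h2
  · rintro rfl; rfl

/-- the hypotheses on `R` in usable form -/
structure Setup (R : Subgroup (Matrix.GeneralLinearGroup (Fin n) F)) (r : ℕ) : Prop where
  hr : r.Prime
  comm_R : ∀ x ∈ R, ∀ y ∈ R, ⁅x, y⁆ ∈ Cfsg.Geo.scalars (Fin n) F ∧ ⁅x, y⁆ ^ r = 1
  cent : ∀ u : Matrix.GeneralLinearGroup (Fin n) F, (∀ x ∈ R, u * x = x * u) →
    u ∈ Cfsg.Geo.scalars (Fin n) F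

theorem mem_scalars_of_commute (R : Subgroup (Matrix.GeneralLinearGroup (Fin n) F))
    (hirr : Cfsg.Geo.ActsAbsolutelyIrreducibly (Cfsg.Geo.matrixSet R))
    (u : Matrix.GeneralLinearGroup (Fin n) F) (hu : ∀ x ∈ R, u * x = x * u) :
    u ∈ Cfsg.Geo.scalars (Fin n) F := by
  obtain ⟨c, hc⟩ := hirr.2 (u : Matrix (Fin n) (Fin n) F) (by
    rintro s ⟨x, hx, rfl⟩
    have := congrArg (fun g : Matrix.GeneralLinearGroup (Fin n) F =>
      (g : Matrix (Fin n) (Fin n) F)) (hu x hx)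
    simpa using this)
  rw [Cfsg.Geo.mem_scalars_iff]
  by_cases hc0 : c = 0
  · refine ⟨1, ?_⟩
    have h0 : (u : Matrix (Fin n) (Fin n) F) = 0 := by rw [hc, hc0, zero_smul]
    have h1 : (1 : Matrix (Fin n) (Fin n) F) = 0 := by
      have := u.mul_inv
      rw [h0, zero_mul] at this
      exact this.symm
    rw [h0, h1, smul_zero]
  · exact ⟨Units.mk0 c hc0, by simpa using hc⟩

theorem Setup.of_hyps {r : ℕ} (R : Subgroup (Matrix.GeneralLinearGroup (Fin n) F))
    (hr : r.Prime) (hZ : Nat.card (Subgroup.center R) = r)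
    (hext : commutator R = Subgroup.center R)
    (hirr : Cfsg.Geo.ActsAbsolutelyIrreducibly (Cfsg.Geo.matrixSet R)) : Setup R r := by
  refine ⟨hr, ?_, mem_scalars_of_commute R hirr⟩
  intro x hx y hy
  have hz : ⁅(⟨x, hx⟩ : R), ⟨y, hy⟩⁆ ∈ Subgroup.center R := by
    rw [← hext, commutator_def]
    exact Subgroup.commutator_mem_commutator (Subgroup.mem_top _) (Subgroup.mem_top _)
  have hcoe : ((⁅(⟨x, hx⟩ : R), ⟨y, hy⟩⁆ : R) : Matrix.GeneralLinearGroup (Fin n) F) = ⁅x, y⁆ := by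
    simp [commutatorElement_def]
  constructor
  · apply mem_scalars_of_commute R hirr
    intro w hw
    have := Subgroup.mem_center_iff.mp hz ⟨w, hw⟩
    have h2 := congrArg (fun t : R => (t : Matrix.GeneralLinearGroup (Fin n) F)) this
    simp only [Subgroup.coe_mul, hcoe] at h2
    exact h2.symm
  · have h1 : (⟨_, hz⟩ : Subgroup.center R) ^ r = 1 := by
      rw [← hZ]
      exact pow_card_eq_one'
    have h2 := congrArg (fun t : Subgroup.center R =>
      ((t : R) : Matrix.GeneralLinearGroup (Fin n) F)) h1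
    simp only [Subgroup.coe_pow, hcoe, Subgroup.coe_one] at h2
    exact h2


section Facts

variable {R : Subgroup (Matrix.GeneralLinearGroup (Fin n) F)} {r : ℕ}

theorem comm_eq_of_central {G : Type*} [Group G] {x y s t : G}
    (hs : s ∈ Subgroup.center G) (ht : t ∈ Subgroup.center G) :
    ⁅x * s, y * t⁆ = ⁅x, y⁆ := by
  have hs' := Subgroup.mem_center_iff.mp hs
  have ht' := Subgroup.mem_center_iff.mp ht
  have h1 : ∀ w : G, ⁅s, w⁆ = 1 := fun w =>
    commutatorElement_eq_one_iff_commute.mpr (hs' w).symm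
  have h2 : ∀ w : G, ⁅w, t⁆ = 1 := fun w =>
    commutatorElement_eq_one_iff_commute.mpr (ht' w)
  rw [comm_mul_left_of_central (by rw [h1]; exact one_mem _), h1, mul_one,
    comm_mul_right_of_central (by rw [h2]; exact one_mem _), h2, mul_one]

/-- commutators of elements of `R ⊔ scalars` are scalars of order dividing `r` -/
theorem Setup.comm_Q (hS : Setup R r) :
    ∀ a ∈ R ⊔ Cfsg.Geo.scalars (Fin n) F, ∀ b ∈ R ⊔ Cfsg.Geo.scalars (Fin n) F,
      ⁅a, b⁆ ∈ Cfsg.Geo.scalars (Fin n) F ∧ ⁅a, b⁆ ^ r = 1 := by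
  intro a ha b hb
  rw [Subgroup.mem_sup_of_normal_right] at ha hb
  obtain ⟨x, hx, s, hs, rfl⟩ := ha
  obtain ⟨y, hy, t, ht, rfl⟩ := hb
  rw [comm_eq_of_central (scalars_le_center hs) (scalars_le_center ht)]
  exact hS.comm_R x hx y hy

theorem Setup.comm_Q_center (hS : Setup R r) :
    ∀ a ∈ R ⊔ Cfsg.Geo.scalars (Fin n) F, ∀ b ∈ R ⊔ Cfsg.Geo.scalars (Fin n) F,
      ⁅a, b⁆ ∈ Subgroup.center (Matrix.GeneralLinearGroup (Fin n) F) :=
  fun a ha b hb => scalars_le_center (hS.comm_Q a ha b hb).1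

theorem exists_scalar (s : Matrix.GeneralLinearGroup (Fin n) F)
    (hs : s ∈ Cfsg.Geo.scalars (Fin n) F) :
    ∃ κ : F, κ ≠ 0 ∧ L s = κ • (1 : Module.End F (Fin n → F)) := by
  rw [Cfsg.Geo.mem_scalars_iff] at hs
  obtain ⟨c, hc⟩ := hs
  exact ⟨c, c.ne_zero, L_scalar s c hc⟩

theorem L_eq_one_iff (s : Matrix.GeneralLinearGroup (Fin n) F) : L s = 1 ↔ s = 1 := by
  constructor
  · intro h
    apply Units.ext
    rw [L_apply] at h
    have : Matrix.toLin' (s : Matrix (Fin n) (Fin n) F) = Matrix.toLin' 1 := by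
      rw [h, Matrix.toLin'_one]; rfl
    simpa using Matrix.toLin'.injective this
  · rintro rfl; exact map_one _

theorem L_comm_rel (a b : Matrix.GeneralLinearGroup (Fin n) F) (κ : F)
    (hκ : L ⁅a, b⁆ = κ • (1 : Module.End F (Fin n → F))) :
    L a * L b = κ • (L b * L a) := by
  have h1 : a * b = ⁅a, b⁆ * b * a := by rw [commutatorElement_def]; group
  rw [← map_mul, h1, map_mul, map_mul, hκ, smul_mul_assoc, one_mul, smul_mul_assoc]

/-- a scalar of order dividing the prime `r`, not `1`, is a primitive `r`-th root of unity -/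
theorem scalar_prim [NeZero n] (hr : r.Prime) (s : Matrix.GeneralLinearGroup (Fin n) F) (κ : F)
    (hκ : L s = κ • (1 : Module.End F (Fin n → F))) (hsr : s ^ r = 1) (hs1 : s ≠ 1) :
    IsPrimitiveRoot κ r := by
  have := Fact.mk hr
  have h1 : κ ^ r = 1 := by
    have h2 : L (s ^ r) = (κ ^ r) • (1 : Module.End F (Fin n → F)) := by
      rw [map_pow, hκ, smul_pow, one_pow]
    rw [hsr, map_one] at h2
    have h3 : (1 : F) • (1 : Module.End F (Fin n → F)) = (κ ^ r) • 1 := by rw [one_smul]; exact h2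
    exact ((smul_one_eq_iff _ _).mp h3).symm
  have h2 : κ ≠ 1 := by
    rintro rfl
    rw [one_smul] at hκ
    exact hs1 ((L_eq_one_iff s).mp hκ)
  rw [IsPrimitiveRoot.iff_orderOf]
  exact orderOf_eq_prime h1 h2

/-- Lemma E: a non-scalar element of `R ⊔ scalars` has small fixed space -/
theorem Setup.lemmaE [NeZero n] (hS : Setup R r) (u : Matrix.GeneralLinearGroup (Fin n) F)
    (huQ : u ∈ R ⊔ Cfsg.Geo.scalars (Fin n) F) (hu : u ∉ Cfsg.Geo.scalars (Fin n) F) :
    r * finrank F (Module.End.eigenspace (L u) 1) ≤ n := by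
  have hex : ∃ y ∈ R, u * y ≠ y * u := by
    by_contra hcon
    push Not at hcon
    exact hu (hS.cent u hcon)
  obtain ⟨y, hy, hne⟩ := hex
  have hyQ : y ∈ R ⊔ Cfsg.Geo.scalars (Fin n) F := Subgroup.mem_sup_left hy
  obtain ⟨hs, hsr⟩ := hS.comm_Q u huQ y hyQ
  obtain ⟨κ, _, hκ⟩ := exists_scalar _ hs
  have hs1 : ⁅u, y⁆ ≠ 1 := by
    intro h
    exact hne (commutatorElement_eq_one_iff_commute.mp h).eq
  have hprim := scalar_prim hS.hr _ κ hκ hsr hs1
  have hrel := L_comm_rel u y κ hκ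
  have := mul_finrank_eigenspace_le (L u) (L y) (L_injective y) κ r hprim (by
    intro v γ hv
    have h1 := LinearMap.congr_fun hrel v
    simp only [Module.End.mul_apply, LinearMap.smul_apply] at h1
    rw [h1, hv, map_smul, smul_smul]) 1 one_ne_zero
  rwa [finrank_fin_fun] at this


theorem eigenspace_zero_finrank (g : Matrix.GeneralLinearGroup (Fin n) F) :
    finrank F (Module.End.eigenspace (L g) 0) = 0 := by
  rw [Module.End.eigenspace_zero, LinearMap.ker_eq_bot.mpr (L_injective g), finrank_bot]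

theorem eigenspace_smul_one_eq_bot (κ : F) (hκ : κ ≠ 1) :
    Module.End.eigenspace (κ • (1 : Module.End F (Fin n → F))) 1 = ⊥ := by
  rw [eq_bot_iff]
  intro v hv
  rw [Module.End.mem_eigenspace_iff, one_smul, LinearMap.smul_apply, Module.End.one_apply] at hv
  have h2 : (κ - 1) • v = 0 := by rw [sub_smul, one_smul, hv, sub_self]
  rcases smul_eq_zero.mp h2 with h3 | h3
  · exact absurd (sub_eq_zero.mp h3) hκ
  · simpa using h3

theorem L_rel_comm (g x : Matrix.GeneralLinearGroup (Fin n) F) :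
    L g * L x = L ⁅g, x⁆ * L x * L g := by
  rw [← map_mul, ← map_mul, ← map_mul]
  congr 1
  rw [commutatorElement_def]
  group

/-- Case A: some commutator `⁅g, x⁆` is a nontrivial scalar -/
theorem caseA [NeZero n] (g x : Matrix.GeneralLinearGroup (Fin n) F)
    (hs : ⁅g, x⁆ ∈ Cfsg.Geo.scalars (Fin n) F) (hs1 : ⁅g, x⁆ ≠ 1) (c : F) (hc : c ≠ 0) :
    2 * finrank F (Module.End.eigenspace (L g) c) ≤ n := by
  obtain ⟨κ, _, hκ⟩ := exists_scalar _ hs
  have hκ1 : κ ≠ 1 := by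
    rintro rfl
    rw [one_smul] at hκ
    exact hs1 ((L_eq_one_iff _).mp hκ)
  have h := two_mul_finrank_eigenspace_le (L g) (L x) (L ⁅g, x⁆) (L_injective x)
    (L_rel_comm g x) c hc
  rw [hκ, eigenspace_smul_one_eq_bot κ hκ1, finrank_bot, add_zero, finrank_fin_fun] at h
  exact h

/-- Case B: some commutator `⁅g, x⁆` is a non-scalar element of `R ⊔ scalars` -/
theorem Setup.caseB [NeZero n] (hS : Setup R r) (g x : Matrix.GeneralLinearGroup (Fin n) F)
    (huQ : ⁅g, x⁆ ∈ R ⊔ Cfsg.Geo.scalars (Fin n) F)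
    (hu : ⁅g, x⁆ ∉ Cfsg.Geo.scalars (Fin n) F) (c : F) (hc : c ≠ 0) :
    2 * r * finrank F (Module.End.eigenspace (L g) c) ≤ (r + 1) * n := by
  have h := two_mul_finrank_eigenspace_le (L g) (L x) (L ⁅g, x⁆) (L_injective x)
    (L_rel_comm g x) c hc
  rw [finrank_fin_fun] at h
  have h2 := hS.lemmaE _ huQ hu
  nlinarith

/-- the general bound `2 r d ≤ (r + 1) n` -/
theorem Setup.general_bound [NeZero n] (hS : Setup R r)
    (g : Matrix.GeneralLinearGroup (Fin n) F)
    (hgQ : ∀ q ∈ R ⊔ Cfsg.Geo.scalars (Fin n) F, g * q * g⁻¹ ∈ R ⊔ Cfsg.Geo.scalars (Fin n) F)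
    (hns : g ∉ Cfsg.Geo.scalars (Fin n) F) (c : F) :
    2 * r * finrank F (Module.End.eigenspace (L g) c) ≤ (r + 1) * n := by
  by_cases hc : c = 0
  · subst hc
    rw [eigenspace_zero_finrank]
    simp
  have hex : ∃ x ∈ R, g * x ≠ x * g := by
    by_contra hcon
    push Not at hcon
    exact hns (hS.cent g hcon)
  obtain ⟨x, hx, hne⟩ := hex
  have hxQ : x ∈ R ⊔ Cfsg.Geo.scalars (Fin n) F := Subgroup.mem_sup_left hx
  have huQ : ⁅g, x⁆ ∈ R ⊔ Cfsg.Geo.scalars (Fin n) F := by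
    rw [commutatorElement_def]
    exact mul_mem (hgQ x hxQ) (inv_mem hxQ)
  have hu1 : ⁅g, x⁆ ≠ 1 := fun h => hne (commutatorElement_eq_one_iff_commute.mp h).eq
  by_cases hu : ⁅g, x⁆ ∈ Cfsg.Geo.scalars (Fin n) F
  · have := caseA g x hu hu1 c hc
    nlinarith
  · exact hS.caseB g x huQ hu c hc


theorem L_inv_fix (b : Matrix.GeneralLinearGroup (Fin n) F) (v : Fin n → F) (h : L b v = v) :
    L b⁻¹ v = v := by
  have := LinearMap.congr_fun (L_inv_mul b) v
  simp only [Module.End.mul_apply, Module.End.one_apply] at this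
  rwa [h] at this

/-- two elements of `R ⊔ scalars` with a common nonzero fixed vector commute -/
theorem Setup.commute_of_common_fixed [NeZero n] (hS : Setup R r)
    (b b' : Matrix.GeneralLinearGroup (Fin n) F)
    (hb : b ∈ R ⊔ Cfsg.Geo.scalars (Fin n) F) (hb' : b' ∈ R ⊔ Cfsg.Geo.scalars (Fin n) F)
    (v : Fin n → F) (hv0 : v ≠ 0) (hbv : L b v = v) (hb'v : L b' v = v) : Commute b b' := by
  obtain ⟨hs, _⟩ := hS.comm_Q b hb b' hb'
  obtain ⟨κ, _, hκ⟩ := exists_scalar _ hs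
  have h1 : L ⁅b, b'⁆ v = v := by
    rw [commutatorElement_def, map_mul, map_mul, map_mul]
    simp only [Module.End.mul_apply]
    rw [L_inv_fix b' v hb'v, L_inv_fix b v hbv, hb'v, hbv]
  rw [hκ, LinearMap.smul_apply, Module.End.one_apply] at h1
  have h2 : (κ - 1) • v = 0 := by rw [sub_smul, one_smul, h1, sub_self]
  have hκ1 : κ = 1 := by
    rcases smul_eq_zero.mp h2 with h3 | h3
    · exact sub_eq_zero.mp h3
    · exact absurd h3 hv0
  rw [hκ1, one_smul] at hκ
  exact commutatorElement_eq_one_iff_commute.mp ((L_eq_one_iff _).mp hκ)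

/-- odd prime order coprime to `r`: eigenspaces have dimension at most `n / 2` -/
theorem Setup.coprime_bound [NeZero n] (hS : Setup R r)
    (g : Matrix.GeneralLinearGroup (Fin n) F) (ϖ : ℕ)
    (hgQ : ∀ q ∈ R ⊔ Cfsg.Geo.scalars (Fin n) F, g * q * g⁻¹ ∈ R ⊔ Cfsg.Geo.scalars (Fin n) F)
    (hgQ' : ∀ q ∈ R ⊔ Cfsg.Geo.scalars (Fin n) F, g⁻¹ * q * g ∈ R ⊔ Cfsg.Geo.scalars (Fin n) F)
    (hns : g ∉ Cfsg.Geo.scalars (Fin n) F) (hgϖ : g ^ ϖ = 1) (hodd : Odd ϖ)
    (hcop : Nat.Coprime ϖ r) (c : F) :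
    2 * finrank F (Module.End.eigenspace (L g) c) ≤ n := by
  by_contra hcon
  rw [not_le] at hcon
  have hc : c ≠ 0 := by
    rintro rfl
    rw [eigenspace_zero_finrank] at hcon
    omega
  set Q := R ⊔ Cfsg.Geo.scalars (Fin n) F with hQ
  have hnoA : ∀ x, ⁅g, x⁆ ∈ Cfsg.Geo.scalars (Fin n) F → ⁅g, x⁆ = 1 := by
    intro x hs
    by_contra h1
    have := caseA g x hs h1 c hc
    omega
  have hcomm : ∀ x ∈ Q, ∀ j : ℕ, Commute (g ^ j * x * (g ^ j)⁻¹ * x⁻¹)
      (g ^ (j + 1) * x * (g ^ (j + 1))⁻¹ * x⁻¹) := by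
    intro x hx j
    obtain ⟨v, w, hv0, hv, hw, hxw⟩ := exists_common_vector (L g) (L x) (L_injective x) c
      (by rwa [finrank_fin_fun])
    have hfix : ∀ j : ℕ, L (g ^ j * x * (g ^ j)⁻¹ * x⁻¹) v = v := by
      intro j
      have := commutator_fixes (L (g ^ j)) (L (g ^ j)⁻¹) (L x) (L x⁻¹) (L_inv_mul _)
        (L_inv_mul _) (c ^ j) (pow_ne_zero _ hc) v w
        (by rw [map_pow]; exact pow_apply_eigenvector (L g) c v hv j)
        (by rw [map_pow]; exact pow_apply_eigenvector (L g) c w hw j) hxw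
      rw [map_mul, map_mul, map_mul]
      exact this
    exact hS.commute_of_common_fixed _ _
      (mul_mem (conj_pow_mem Q g hgQ j x hx) (inv_mem hx))
      (mul_mem (conj_pow_mem Q g hgQ (j + 1) x hx) (inv_mem hx)) v hv0 (hfix j) (hfix (j + 1))
  have hself : ∀ x ∈ Q, ⁅x, g * x * g⁻¹⁆ = 1 := fun x hx =>
    comm_self_conj_eq_one Q g r ϖ hS.comm_Q_center (fun a ha b hb => (hS.comm_Q a ha b hb).2)
      hgQ hgϖ hcop x hx (hcomm x hx)
  have hpol := commute_of_comm_self_conj Q g hS.comm_Q_center hgQ hself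
  have hg2 : ∀ x ∈ Q, ⁅g * g, x⁆ ∈ Cfsg.Geo.scalars (Fin n) F := by
    intro x hx
    have ht : x * (g * (g * x * g⁻¹) * g⁻¹)⁻¹ ∈ Cfsg.Geo.scalars (Fin n) F := by
      apply hS.cent
      intro y hy
      have hyQ : y ∈ Q := Subgroup.mem_sup_left hy
      have := hpol x (g⁻¹ * y * g) hx (hgQ' y hyQ)
      have e : g * (g⁻¹ * y * g) * g⁻¹ = y := by group
      rw [e] at this
      exact this.eq
    have e : ⁅g * g, x⁆ = (x * (g * (g * x * g⁻¹) * g⁻¹)⁻¹)⁻¹ := by
      simp only [commutatorElement_def, mul_inv_rev, inv_inv, mul_assoc]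
    rw [e]
    exact inv_mem ht
  have hg2Q : ∀ q ∈ Q, (g * g) * q * (g * g)⁻¹ ∈ Q := by
    intro q hq
    have := hgQ _ (hgQ q hq)
    have e : (g * g) * q * (g * g)⁻¹ = g * (g * q * g⁻¹) * g⁻¹ := by group
    rw [e]
    exact this
  obtain ⟨m, hm⟩ := hodd
  have hgpow : (g * g) ^ (m + 1) = g := by
    rw [← pow_two, ← pow_mul]
    have : 2 * (m + 1) = ϖ + 1 := by omega
    rw [this, pow_succ, hgϖ, one_mul]
  have hgS : ∀ x ∈ Q, ⁅g, x⁆ ∈ Cfsg.Geo.scalars (Fin n) F := by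
    have := comm_mem_of_pow Q (Cfsg.Geo.scalars (Fin n) F) scalars_le_center (g * g) hg2Q hg2
      (m + 1)
    rwa [hgpow] at this
  apply hns
  apply hS.cent
  intro x hx
  have := hnoA x (hgS x (Subgroup.mem_sup_left hx))
  exact (commutatorElement_eq_one_iff_commute.mp this).eq


theorem L_inj {a b : Matrix.GeneralLinearGroup (Fin n) F} (h : L a = L b) : a = b := by
  apply Units.ext
  rw [L_apply, L_apply] at h
  exact Matrix.toLin'.injective h

theorem Setup.exists_central_prim [NeZero n] (hS : Setup R r)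
    (hZ : Nat.card (Subgroup.center R) = r) :
    ∃ z₀ ∈ R, ∃ ζ : F, IsPrimitiveRoot ζ r ∧ L z₀ = ζ • (1 : Module.End F (Fin n → F)) := by
  have hr2 : 1 < Nat.card (Subgroup.center R) := by rw [hZ]; exact hS.hr.one_lt
  have hfin : Finite (Subgroup.center R) := Nat.finite_of_card_ne_zero (by omega)
  have hnt : Nontrivial (Subgroup.center R) := Finite.one_lt_card_iff_nontrivial.mp hr2
  obtain ⟨z, hz⟩ := exists_ne (1 : Subgroup.center R)
  refine ⟨((z : R) : Matrix.GeneralLinearGroup (Fin n) F), (z : R).2, ?_⟩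
  have hzS : ((z : R) : Matrix.GeneralLinearGroup (Fin n) F) ∈ Cfsg.Geo.scalars (Fin n) F := by
    apply hS.cent
    intro w hw
    have := Subgroup.mem_center_iff.mp z.2 ⟨w, hw⟩
    have h2 := congrArg (fun t : R => (t : Matrix.GeneralLinearGroup (Fin n) F)) this
    simp only [Subgroup.coe_mul] at h2
    exact h2.symm
  obtain ⟨ζ, _, hζ⟩ := exists_scalar _ hzS
  refine ⟨ζ, ?_, hζ⟩
  apply scalar_prim hS.hr _ ζ hζ
  · have h1 : z ^ r = 1 := by
      rw [← hZ]
      exact pow_card_eq_one'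
    have h2 := congrArg (fun t : Subgroup.center R =>
      ((t : R) : Matrix.GeneralLinearGroup (Fin n) F)) h1
    simpa using h2
  · intro h
    apply hz
    apply Subtype.ext
    apply Subtype.ext
    simpa using h

theorem pow_eq_one_of_exponent (hr : r.Prime) (hr2 : r ≠ 2) (hR : IsPGroup r R)
    (hexp : Monoid.exponent R = r ∨ Monoid.exponent R = 4) :
    ∀ x ∈ R, x ^ r = 1 := by
  intro x hx
  rcases hexp with h | h
  · have h1 := Monoid.pow_exponent_eq_one (⟨x, hx⟩ : R)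
    rw [h] at h1
    have h2 := congrArg (fun t : R => (t : Matrix.GeneralLinearGroup (Fin n) F)) h1
    simpa using h2
  · have h4 : (⟨x, hx⟩ : R) ^ 4 = 1 := by
      rw [← h]
      exact Monoid.pow_exponent_eq_one _
    obtain ⟨k, hk⟩ := hR ⟨x, hx⟩
    have hcop : Nat.Coprime 4 (r ^ k) := by
      apply Nat.Coprime.pow_right
      have : Nat.Coprime 2 r := (Nat.coprime_primes Nat.prime_two hr).mpr (Ne.symm hr2)
      exact Nat.Coprime.pow_left 2 this
    have h1 := eq_one_of_pow_coprime h4 hk hcop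
    have h2 := congrArg (fun t : R => (t : Matrix.GeneralLinearGroup (Fin n) F)) h1
    simp only [Subgroup.coe_one] at h2
    rw [h2, one_pow]

theorem scalar_pow_eq_one [NeZero n] (s : Matrix.GeneralLinearGroup (Fin n) F) (σ : F)
    (hσ : L s = σ • (1 : Module.End F (Fin n → F))) (hsr : s ^ r = 1) : σ ^ r = 1 := by
  have h2 : L (s ^ r) = (σ ^ r) • (1 : Module.End F (Fin n → F)) := by
    rw [map_pow, hσ, smul_pow, one_pow]
  rw [hsr, map_one] at h2
  have h3 : (1 : F) • (1 : Module.End F (Fin n → F)) = (σ ^ r) • 1 := by rw [one_smul]; exact h2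
  exact ((smul_one_eq_iff _ _).mp h3).symm

/-- an element normalising `R ⊔ scalars` normalises `R` when `R` has exponent `r` -/
theorem Setup.conj_mem_R [NeZero n] (hS : Setup R r) (hpow : ∀ x ∈ R, x ^ r = 1)
    (z₀ : Matrix.GeneralLinearGroup (Fin n) F) (ζ : F) (hz₀ : z₀ ∈ R)
    (hζ : IsPrimitiveRoot ζ r) (hz₀L : L z₀ = ζ • (1 : Module.End F (Fin n → F)))
    (g' : Matrix.GeneralLinearGroup (Fin n) F)
    (hg' : ∀ q ∈ R ⊔ Cfsg.Geo.scalars (Fin n) F,
      g' * q * g'⁻¹ ∈ R ⊔ Cfsg.Geo.scalars (Fin n) F) :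
    ∀ x ∈ R, g' * x * g'⁻¹ ∈ R := by
  have : NeZero r := ⟨hS.hr.ne_zero⟩
  intro x hx
  have h0 := hg' x (Subgroup.mem_sup_left hx)
  rw [Subgroup.mem_sup_of_normal_right] at h0
  obtain ⟨y, hy, s, hs, hys⟩ := h0
  have hsc := Subgroup.mem_center_iff.mp (scalars_le_center hs)
  have hcomm : Commute y s := hsc y
  have h1 : (y * s) ^ r = y ^ r * s ^ r := hcomm.mul_pow r
  have h2 : (g' * x * g'⁻¹) ^ r = 1 := by
    rw [conj_pow, hpow x hx]
    group
  rw [← hys, h1, hpow y hy, one_mul] at h2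
  obtain ⟨σ, _, hσ⟩ := exists_scalar s hs
  have hσr : σ ^ r = 1 := scalar_pow_eq_one s σ hσ h2
  obtain ⟨i, _, rfl⟩ := hζ.eq_pow_of_pow_eq_one hσr
  have hsz : s = z₀ ^ i := by
    apply L_inj
    rw [hσ, map_pow, hz₀L, smul_pow, one_pow]
  rw [← hys, hsz]
  exact mul_mem hy (pow_mem hz₀ i)


/-- strong form of Case A when the scalar has order `r` -/
theorem caseA_strong [NeZero n] (hr : r.Prime) (g x : Matrix.GeneralLinearGroup (Fin n) F)
    (hs : ⁅g, x⁆ ∈ Cfsg.Geo.scalars (Fin n) F) (hs1 : ⁅g, x⁆ ≠ 1) (hsr : ⁅g, x⁆ ^ r = 1)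
    (c : F) (hc : c ≠ 0) :
    r * finrank F (Module.End.eigenspace (L g) c) ≤ n := by
  obtain ⟨κ, _, hκ⟩ := exists_scalar _ hs
  have hprim := scalar_prim hr _ κ hκ hsr hs1
  have hrel := L_comm_rel g x κ hκ
  have := mul_finrank_eigenspace_le (L g) (L x) (L_injective x) κ r hprim (by
    intro v γ hv
    have h1 := LinearMap.congr_fun hrel v
    simp only [Module.End.mul_apply, LinearMap.smul_apply] at h1
    rw [h1, hv, map_smul, smul_smul]) c hc
  rwa [finrank_fin_fun] at this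

/-- the case `ϖ = r` -/
theorem Setup.eq_prime_bound [NeZero n] [Fintype F] (hS : Setup R r) (hR : IsPGroup r R)
    (hZ : Nat.card (Subgroup.center R) = r) (hpow : ∀ x ∈ R, x ^ r = 1)
    (g : Matrix.GeneralLinearGroup (Fin n) F)
    (hgQ : ∀ q ∈ R ⊔ Cfsg.Geo.scalars (Fin n) F, g * q * g⁻¹ ∈ R ⊔ Cfsg.Geo.scalars (Fin n) F)
    (hgQ' : ∀ q ∈ R ⊔ Cfsg.Geo.scalars (Fin n) F, g⁻¹ * q * g ∈ R ⊔ Cfsg.Geo.scalars (Fin n) F)
    (hns : g ∉ Cfsg.Geo.scalars (Fin n) F) (hgr : g ^ r = 1) (c : F) :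
    r * finrank F (Module.End.eigenspace (L g) c) ≤ 2 * n := by
  have hrF := Fact.mk hS.hr
  by_cases hc : c = 0
  · subst hc
    rw [eigenspace_zero_finrank]
    simp
  obtain ⟨z₀, hz₀, ζ, hζ, hz₀L⟩ := hS.exists_central_prim hZ
  have hgR : ∀ x ∈ R, g * x * g⁻¹ ∈ R := hS.conj_mem_R hpow z₀ ζ hz₀ hζ hz₀L g hgQ
  have hgR' : ∀ x ∈ R, g⁻¹ * x * g ∈ R := by
    have := hS.conj_mem_R hpow z₀ ζ hz₀ hζ hz₀L g⁻¹ (by
      intro q hq
      rw [inv_inv]
      exact hgQ' q hq)
    intro x hx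
    have h := this x hx
    rwa [inv_inv] at h
  -- Case A
  by_cases hA : ∃ x ∈ R, ⁅g, x⁆ ∈ Cfsg.Geo.scalars (Fin n) F ∧ ⁅g, x⁆ ≠ 1
  · obtain ⟨x, hx, hs, hs1⟩ := hA
    have hsR : ⁅g, x⁆ ∈ R := by
      rw [commutatorElement_def]
      exact mul_mem (hgR x hx) (inv_mem hx)
    have := caseA_strong hS.hr g x hs hs1 (hpow _ hsR) c hc
    omega
  push Not at hA
  -- some commutator is not scalar
  have hex : ∃ y ∈ R, ⁅g, y⁆ ∉ Cfsg.Geo.scalars (Fin n) F := by
    by_contra hcon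
    push Not at hcon
    apply hns
    apply hS.cent
    intro x hx
    exact (commutatorElement_eq_one_iff_commute.mp (hA x hx (hcon x hx))).eq
  obtain ⟨y₀, hy₀, hy₀S⟩ := hex
  -- the nilpotent group generated by R and g
  set H : Subgroup (Matrix.GeneralLinearGroup (Fin n) F) := R ⊔ Subgroup.zpowers g with hH
  have hgN : Subgroup.zpowers g ≤ Subgroup.normalizer (R : Set _) := by
    rw [Subgroup.zpowers_le, Subgroup.mem_normalizer_iff]
    intro h
    constructor
    · exact hgR h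
    · intro hh
      have := hgR' _ hh
      have e : g⁻¹ * (g * h * g⁻¹) * g = h := by group
      rwa [e] at this
  have hzp : IsPGroup r (Subgroup.zpowers g) := by
    rintro ⟨h, hh⟩
    refine ⟨1, ?_⟩
    obtain ⟨i, rfl⟩ := Subgroup.mem_zpowers_iff.mp hh
    apply Subtype.ext
    simp only [pow_one, Subgroup.coe_pow, Subgroup.coe_one]
    rw [← zpow_natCast, ← zpow_mul, mul_comm, zpow_mul, zpow_natCast, hgr, one_zpow]
  have hHp : IsPGroup r H := IsPGroup.to_sup_of_normal_left' hR hzp hgN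
  have hHnil : Group.IsNilpotent H := hHp.isNilpotent
  have hgH : g ∈ H := Subgroup.mem_sup_right (Subgroup.mem_zpowers g)
  have hy₀H : y₀ ∈ H := Subgroup.mem_sup_left hy₀
  obtain ⟨k, hk1, hk2⟩ := exists_iterate_last H (Cfsg.Geo.scalars (Fin n) F) g y₀ hgH hy₀H (by
    intro z hz
    have := Subgroup.mem_center_iff.mp (scalars_le_center hz)
    have h1 : ⁅g, z⁆ = 1 := commutatorElement_eq_one_iff_commute.mpr (this g)
    rw [h1]
    exact one_mem _) hy₀S
  have hxR := iterate_comm_mem R g hgR y₀ hy₀ k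
  set x := (fun z => ⁅g, z⁆)^[k] y₀ with hx
  set a := ⁅g, x⁆ with ha
  have haR : a ∈ R := by
    rw [ha, commutatorElement_def]
    exact mul_mem (hgR x hxR) (inv_mem hxR)
  have hga : ⁅g, a⁆ = 1 := hA a haR hk2
  obtain ⟨hs, hsr⟩ := hS.comm_R x hxR a haR
  obtain ⟨κ, _, hκ⟩ := exists_scalar _ hs
  have hκr : κ ^ r = 1 := scalar_pow_eq_one _ κ hκ hsr
  have haQ : a ∈ R ⊔ Cfsg.Geo.scalars (Fin n) F := Subgroup.mem_sup_left haR
  have := hard_case_bound (L g) (L a) (L x) (L_injective x) r hS.hr ζ hζ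
    (by rw [← map_pow, hpow a haR, map_one])
    (by
      rw [← map_mul, ← map_mul]
      congr 1
      exact (commutatorElement_eq_one_iff_commute.mp hga).eq)
    κ hκr (L_comm_rel x a κ hκ) (L_rel_comm g x)
    (by
      intro _
      have := hS.lemmaE a haQ hk1
      rwa [finrank_fin_fun])
    c hc
  rwa [finrank_fin_fun] at this

/-- `r` divides `n` -/
theorem Setup.dvd_dim [NeZero n] [Fintype F] (hS : Setup R r)
    (hpow : ∀ x ∈ R, x ^ r = 1) (hnc : ∃ y ∈ R, y ∉ Cfsg.Geo.scalars (Fin n) F) : r ∣ n := by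
  obtain ⟨y, hy, hyS⟩ := hnc
  have hex : ∃ x ∈ R, y * x ≠ x * y := by
    by_contra hcon
    push Not at hcon
    exact hyS (hS.cent y hcon)
  obtain ⟨x, hx, hne⟩ := hex
  obtain ⟨hs, hsr⟩ := hS.comm_R y hy x hx
  obtain ⟨κ, _, hκ⟩ := exists_scalar _ hs
  have hs1 : ⁅y, x⁆ ≠ 1 := fun h => hne (commutatorElement_eq_one_iff_commute.mp h).eq
  have hprim := scalar_prim hS.hr _ κ hκ hsr hs1
  have hrel := L_comm_rel y x κ hκ
  have := finrank_eq_mul_of_shift (L y) (L x) (L_injective x) r hS.hr.pos κ hprim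
    (by rw [← map_pow, hpow y hy, map_one]) (by
    intro v γ hv
    have h1 := LinearMap.congr_fun hrel v
    simp only [Module.End.mul_apply, LinearMap.smul_apply] at h1
    rw [h1, hv, map_smul, smul_smul])
  rw [finrank_fin_fun] at this
  exact ⟨_, this⟩

end Facts

end Cfsg.Agent.Lib.Helper22.ExtraEig
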