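import Mathlib
import Cfsg.Agent.Lib.Helper26.F2Defs

/-! helper22: S3390 market "F2", leaf F2-NORM `exists_swap` (twin; used by my F2-DICH). -/

set_option autoImplicit false

namespace Cfsg.Agent.Lib.Helper22.F2NORM

open Cfsg.Agent.Lib.Helper26.F2 MulAction Subgroup

variable {G : Type*} [Group G] [Finite G] {Ω : Type*} [Finite Ω] [MulAction G Ω]

/-- normalizers grow in a 2-subgroup: a proper subgroup `K` of `P` is normalized by some element of
`P` outside `K` -/
theorem exists_normalizing {G : Type*} [Group G] [Finite G] (P : Subgroup G) (hP : IsPGroup 2 P)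
    (K : Subgroup G) (hKP : K ≤ P) (hne : K ≠ P) :
    ∃ y ∈ P, y ∉ K ∧ (∀ k ∈ K, y * k * y⁻¹ ∈ K) ∧ ∀ k ∈ K, y⁻¹ * k * y ∈ K := by
  have : Fact (Nat.Prime 2) := ⟨Nat.prime_two⟩
  have hnil : Group.IsNilpotent ↥P := hP.isNilpotent
  have hlt : K.subgroupOf P < ⊤ := by
    rw [lt_top_iff_ne_top, Ne, Subgroup.subgroupOf_eq_top]
    exact fun h => hne (le_antisymm hKP h)
  have hnc := Group.normalizerCondition_of_isNilpotent (G := ↥P) (K.subgroupOf P) hlt
  obtain ⟨y, hyN, hyK⟩ := SetLike.exists_of_lt hnc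
  have hyN' := Subgroup.inv_mem _ hyN
  rw [Subgroup.mem_normalizer_iff] at hyN hyN'
  refine ⟨y, y.2, fun h => hyK (by rw [Subgroup.mem_subgroupOf]; exact h), ?_, ?_⟩
  · intro k hk
    have := (hyN ⟨k, hKP hk⟩).mp (by rw [Subgroup.mem_subgroupOf]; exact hk)
    rw [Subgroup.mem_subgroupOf] at this
    simpa using this
  · intro k hk
    have := (hyN' ⟨k, hKP hk⟩).mp (by rw [Subgroup.mem_subgroupOf]; exact hk)
    rw [Subgroup.mem_subgroupOf] at this
    simpa using this

/-- **F2-NORM** (Step 1) if `1 < T = P_α < P` then `T` fixes exactly one more point `β`, `P_β = T`,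
and some `y ∈ P` swaps `α` and `β`. -/
theorem exists_swap (hfix3 : Fix3 G Ω) (P : Subgroup G) (hP : IsPGroup 2 P) (α : Ω)
    (hT : P ⊓ stabilizer G α ≠ ⊥) (hnot : ¬ P ≤ stabilizer G α) :
    ∃ β : Ω, β ≠ α ∧ P ⊓ stabilizer G β = P ⊓ stabilizer G α ∧
      ∃ y ∈ P, y • α = β ∧ y • β = α := by
  have hne : P ⊓ stabilizer G α ≠ P := fun h => hnot (h ▸ inf_le_right)
  obtain ⟨y, hyP, hyT, hconj, hconj'⟩ :=
    exists_normalizing P hP (P ⊓ stabilizer G α) inf_le_left hne
  have hyα : y • α ≠ α := fun h => hyT ⟨hyP, mem_stabilizer_iff.mpr h⟩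
  -- T fixes β := y • α
  have hTβ : ∀ t ∈ P ⊓ stabilizer G α, t • y • α = y • α := by
    intro t ht
    have h1 := mem_stabilizer_iff.mp (hconj' t ht).2
    rw [mul_smul, mul_smul, inv_smul_eq_iff] at h1
    exact h1
  have hPβ : P ⊓ stabilizer G (y • α) = P ⊓ stabilizer G α := by
    apply le_antisymm
    · rintro g ⟨hgP, hgβ⟩
      have hgβ' := mem_stabilizer_iff.mp hgβ
      have h1 : y⁻¹ * g * y ∈ P ⊓ stabilizer G α := by
        refine ⟨P.mul_mem (P.mul_mem (P.inv_mem hyP) hgP) hyP, mem_stabilizer_iff.mpr ?_⟩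
        rw [mul_smul, mul_smul, hgβ', inv_smul_smul]
      have := hconj _ h1
      convert this using 1
      group
    · intro t ht
      exact ⟨ht.1, mem_stabilizer_iff.mpr (hTβ t ht)⟩
  refine ⟨y • α, hyα, hPβ, y, hyP, rfl, ?_⟩
  -- y • β = α
  obtain ⟨t, htT, ht1⟩ := (Subgroup.bot_or_exists_ne_one _).resolve_left hT
  have htα : t • α = α := mem_stabilizer_iff.mp htT.2
  have htβ : t • y • α = y • α := hTβ t htT
  have htyβ : t • y • y • α = y • y • α := by
    have h1 := hconj' t htT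
    have h2 := hTβ _ h1
    rw [mul_smul, mul_smul] at h2
    exact smul_left_cancel y⁻¹ (by rw [h2, inv_smul_smul])
  by_contra hyy
  have hyyβ : y • y • α ≠ y • α := by
    intro h
    exact hyα (smul_left_cancel y h)
  exact hfix3 t ht1 α (y • α) (y • y • α) (Ne.symm hyα) (Ne.symm hyy) (Ne.symm hyyβ) htα htβ htyβ

end Cfsg.Agent.Lib.Helper22.F2NORM
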