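import Mathlib
import Cfsg.Agent.Lib.Helper26.F2Defs
import Cfsg.Agent.Lib.Helper22.F2NORM

/-! helper22: S3390 market "F2", leaf F2-DICH `card_two_or_relIndex_two` (over my F2-NORM twin). -/

set_option autoImplicit false

namespace Cfsg.Agent.Lib.Helper22.F2DICH

open Cfsg.Agent.Lib.Helper26.F2 MulAction Subgroup

variable {G : Type*} [Group G] [Finite G] {Ω : Type*} [Finite Ω] [MulAction G Ω]

/-- **F2-DICH** (Steps 1+3a) `|T| = 2` or `T` has index 2 in `P`. -/
theorem card_two_or_relIndex_two (hfix3 : Fix3 G Ω) (P : Subgroup G) (hP : IsPGroup 2 P) (α : Ω)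
    (hT : P ⊓ stabilizer G α ≠ ⊥) (hnot : ¬ P ≤ stabilizer G α) :
    Nat.card ↥(P ⊓ stabilizer G α) = 2 ∨ (P ⊓ stabilizer G α).relIndex P = 2 := by
  obtain ⟨β, hβα, hPβ, y, hyP, hyα, hyβ⟩ :=
    Cfsg.Agent.Lib.Helper22.F2NORM.exists_swap hfix3 P hP α hT hnot
  set T : Subgroup G := P ⊓ stabilizer G α with hTdef
  obtain ⟨t, htT, ht1⟩ := (Subgroup.bot_or_exists_ne_one _).resolve_left hT
  have htα : t • α = α := mem_stabilizer_iff.mp htT.2
  have htβ : t • β = β := by
    have : t ∈ P ⊓ stabilizer G β := hPβ ▸ htT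
    exact mem_stabilizer_iff.mp this.2
  -- points fixed by t are α or β
  have hfixt : ∀ ω : Ω, t • ω = ω → ω = α ∨ ω = β := by
    intro ω hω
    by_contra hcon
    rw [not_or] at hcon
    exact hfix3 t ht1 α β ω (Ne.symm hβα) (Ne.symm hcon.1) (Ne.symm hcon.2) htα htβ hω
  have hmemT : ∀ g : G, g ∈ T ↔ g ∈ P ∧ g • α = α := fun g => by
    rw [hTdef, Subgroup.mem_inf, mem_stabilizer_iff]
  have hmemT' : ∀ g : G, g ∈ T ↔ g ∈ P ∧ g • β = β := fun g => by
    rw [← hPβ, Subgroup.mem_inf, mem_stabilizer_iff]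
  -- M = N_P(T)
  set M : Subgroup G := P ⊓ normalizer (T : Set G) with hMdef
  have hTM : T ≤ M := fun g hg => ⟨hg.1, le_normalizer hg⟩
  have hMP : M ≤ P := inf_le_left
  -- elements of M map α into {α, β}
  have hMα : ∀ m ∈ M, m • α = α ∨ m • α = β := by
    intro m hm
    apply hfixt
    have h1 : m⁻¹ * t * m ∈ T := by
      have hm' := Subgroup.inv_mem _ hm.2
      have := (Subgroup.mem_normalizer_iff.mp hm') t
      simpa using this.mp htT
    have h2 := ((hmemT _).mp h1).2
    rw [mul_smul, mul_smul, inv_smul_eq_iff] at h2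
    exact h2
  have hMβ : ∀ m ∈ M, m • β = α ∨ m • β = β := by
    intro m hm
    apply hfixt
    have h1 : m⁻¹ * t * m ∈ T := by
      have hm' := Subgroup.inv_mem _ hm.2
      have := (Subgroup.mem_normalizer_iff.mp hm') t
      simpa using this.mp htT
    have h2 := ((hmemT' _).mp h1).2
    rw [mul_smul, mul_smul, inv_smul_eq_iff] at h2
    exact h2
  -- y ∈ M
  have hyinv : y⁻¹ • α = β := by rw [inv_smul_eq_iff, hyβ]
  have hyinvβ : y⁻¹ • β = α := by rw [inv_smul_eq_iff, hyα]
  have hyM : y ∈ M := by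
    refine Subgroup.mem_inf.mpr ⟨hyP, ?_⟩
    rw [Subgroup.mem_normalizer_iff]
    intro h
    constructor
    · intro hh
      rw [hmemT'] 
      refine ⟨P.mul_mem (P.mul_mem hyP hh.1) (P.inv_mem hyP), ?_⟩
      rw [mul_smul, mul_smul, hyinvβ, ((hmemT h).mp hh).2, hyα]
    · intro hh
      rw [hmemT]
      have hhP : h ∈ P := by
        have := P.mul_mem (P.mul_mem (P.inv_mem hyP) hh.1) hyP
        convert this using 1
        group
      refine ⟨hhP, ?_⟩
      have h2 := ((hmemT' _).mp hh).2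
      rw [mul_smul, mul_smul, hyinvβ] at h2
      have h3 : h • α = y⁻¹ • β := by rw [← h2, inv_smul_smul]
      rw [h3, hyinvβ]
  -- T has index 2 in M
  have hidxM : T.relIndex M = 2 := by
    rw [Subgroup.relIndex, Subgroup.index_eq_two_iff]
    refine ⟨⟨y, hyM⟩, fun b => ?_⟩
    simp only [Subgroup.mem_subgroupOf, Subgroup.coe_mul]
    rcases hMα b b.2 with hb | hb
    · right
      refine ⟨(hmemT _).mpr ⟨hMP b.2, hb⟩, fun h => ?_⟩
      have h2 := ((hmemT _).mp h).2
      rw [mul_smul, hyα] at h2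
      have hbβ : (b : G) • β = β := ((hmemT' _).mp ((hmemT _).mpr ⟨hMP b.2, hb⟩)).2
      exact hβα (hbβ.symm.trans h2)
    · left
      have hbβ : (b : G) • β = α := by
        rcases hMβ b b.2 with h | h
        · exact h
        · exact absurd (smul_left_cancel (b : G) (hb.trans h.symm)) (Ne.symm hβα)
      refine ⟨(hmemT _).mpr ⟨P.mul_mem (hMP b.2) hyP, ?_⟩, fun h => ?_⟩
      · rw [mul_smul, hyα, hbβ]
      · have h2 := ((hmemT _).mp h).2
        exact hβα (hb.symm.trans h2)
  by_cases hMeq : M = P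
  · right
    rw [← hMeq]
    exact hidxM
  · left
    obtain ⟨z, hzP, hzM, hzconj, hzconj'⟩ :=
      Cfsg.Agent.Lib.Helper22.F2NORM.exists_normalizing P hP M hMP hMeq
    -- z • α ≠ α, β
    have hzα : z • α ≠ α := fun h => hzM (hTM ((hmemT z).mpr ⟨hzP, h⟩))
    have hzβ : z • α ≠ β := by
      intro hz
      apply hzM
      refine Subgroup.mem_inf.mpr ⟨hzP, ?_⟩
      rw [Subgroup.mem_normalizer_iff]
      intro h
      have hzinvβ : z⁻¹ • β = α := by rw [inv_smul_eq_iff, hz]
      constructor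
      · intro hh
        rw [hmemT']
        refine ⟨P.mul_mem (P.mul_mem hzP hh.1) (P.inv_mem hzP), ?_⟩
        rw [mul_smul, mul_smul, hzinvβ, ((hmemT h).mp hh).2, hz]
      · intro hh
        rw [hmemT]
        have hhP : h ∈ P := by
          have := P.mul_mem (P.mul_mem (P.inv_mem hzP) hh.1) hzP
          convert this using 1
          group
        refine ⟨hhP, ?_⟩
        have h2 := ((hmemT' _).mp hh).2
        rw [mul_smul, mul_smul, hzinvβ] at h2
        have h3 : h • α = z⁻¹ • β := by rw [← h2, inv_smul_smul]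
        rw [h3, hzinvβ]
    -- T' = P ⊓ stab (z • α) is a conjugate of T inside M
    set T' : Subgroup G := P ⊓ stabilizer G (z • α) with hT'def
    have hmemT'' : ∀ g : G, g ∈ T' ↔ z⁻¹ * g * z ∈ T := by
      intro g
      rw [hT'def, Subgroup.mem_inf, mem_stabilizer_iff, hmemT]
      constructor
      · rintro ⟨hgP, hg⟩
        refine ⟨P.mul_mem (P.mul_mem (P.inv_mem hzP) hgP) hzP, ?_⟩
        rw [mul_smul, mul_smul, hg, inv_smul_smul]
      · rintro ⟨hgP, hg⟩
        refine ⟨?_, ?_⟩
        · have := P.mul_mem (P.mul_mem hzP hgP) (P.inv_mem hzP)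
          convert this using 1
          group
        · rw [mul_smul, mul_smul, inv_smul_eq_iff] at hg
          exact hg
    have hT'M : T' ≤ M := by
      intro g hg
      have := hzconj _ (hTM ((hmemT'' g).mp hg))
      convert this using 1
      group
    have hcardT' : Nat.card ↥T' = Nat.card ↥T := by
      refine Nat.card_congr ⟨fun g => ⟨z⁻¹ * g * z, (hmemT'' g).mp g.2⟩,
        fun g => ⟨z * g * z⁻¹, (hmemT'' _).mpr (by convert g.2 using 1; group)⟩, ?_, ?_⟩
      · intro g; apply Subtype.ext; simp only; group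
      · intro g; apply Subtype.ext; simp only; group
    -- cardinalities
    have h1 := relIndex_mul_card_inf M T
    have h2 := relIndex_mul_card_inf M T'
    rw [inf_eq_right.mpr hTM, hidxM] at h1
    rw [inf_eq_right.mpr hT'M, hcardT', ← h1] at h2
    have hTpos : 0 < Nat.card ↥T := Nat.card_pos
    have hidxM' : T'.relIndex M = 2 := Nat.eq_of_mul_eq_mul_right hTpos h2
    -- T ⊓ T' = ⊥ by Fix3
    have hbot : T ⊓ T' = ⊥ := by
      by_contra hne
      obtain ⟨g, hg, hg1⟩ := (Subgroup.bot_or_exists_ne_one _).resolve_left hne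
      have hgα : g • α = α := ((hmemT g).mp hg.1).2
      have hgβ : g • β = β := ((hmemT' g).mp hg.1).2
      have hgz : g • z • α = z • α := mem_stabilizer_iff.mp hg.2.2
      exact hfix3 g hg1 α β (z • α) (Ne.symm hβα) (Ne.symm hzα) (Ne.symm hzβ) hgα hgβ hgz
    have h4 : (T ⊓ T').relIndex M ≤ T.relIndex M * T'.relIndex M := Subgroup.relIndex_inf_le
    rw [hbot, Subgroup.relIndex_bot_left, hidxM, hidxM', ← h1] at h4
    have hTge : 1 < Nat.card ↥T := (Subgroup.one_lt_card_iff_ne_bot T).mpr hT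
    omega

end Cfsg.Agent.Lib.Helper22.F2DICH
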