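import Mathlib

/-!
# S4642 leaf (AXB): Thompson's `A × B` lemma, ambient form, all primes
-/

set_option autoImplicit false
set_option linter.unusedSectionVars false

namespace Cfsg.Agent.Lib.Helper22.FPTAXB

universe u

open scoped commutatorElement

section aux
variable {X : Type u} [Group X]

theorem map_conj_eq_of_mem_normalizer {H : Subgroup X} {a : X}
    (ha : a ∈ Subgroup.normalizer (H : Set X)) : H.map (MulAut.conj a).toMonoidHom = H := by
  ext x
  constructor
  · rintro ⟨h, hh, rfl⟩
    exact (Subgroup.mem_normalizer_iff.mp ha h).mp hh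
  · intro hx
    refine ⟨a⁻¹ * x * a, ?_, ?_⟩
    · apply (Subgroup.mem_normalizer_iff.mp ha (a⁻¹ * x * a)).mpr
      have : a * (a⁻¹ * x * a) * a⁻¹ = x := by group
      rw [this]; exact hx
    · show a * (a⁻¹ * x * a) * a⁻¹ = x
      group

theorem mem_normalizer_of_map_conj_eq {H : Subgroup X} {a : X}
    (h : H.map (MulAut.conj a).toMonoidHom = H) : a ∈ Subgroup.normalizer (H : Set X) := by
  rw [Subgroup.mem_normalizer_iff]
  intro x
  constructor
  · intro hx
    rw [← h]
    exact ⟨x, hx, rfl⟩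
  · intro hx
    rw [← h] at hx
    obtain ⟨y, hy, hyx⟩ := hx
    have : y = x := by
      have h1 : a * y * a⁻¹ = a * x * a⁻¹ := hyx
      have h2 : y = a⁻¹ * (a * y * a⁻¹) * a := by group
      rw [h2, h1]; group
    rw [← this]; exact hy

theorem mem_normalizer_commutator {H K : Subgroup X} {a : X}
    (hH : a ∈ Subgroup.normalizer (H : Set X)) (hK : a ∈ Subgroup.normalizer (K : Set X)) :
    a ∈ Subgroup.normalizer ((⁅H, K⁆ : Subgroup X) : Set X) := by
  apply mem_normalizer_of_map_conj_eq
  rw [Subgroup.map_commutator, map_conj_eq_of_mem_normalizer hH, map_conj_eq_of_mem_normalizer hK]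

theorem mem_normalizer_of_commute {K : Subgroup X} {a : X} (h : ∀ b ∈ K, a * b = b * a) :
    a ∈ Subgroup.normalizer (K : Set X) := by
  rw [Subgroup.mem_normalizer_iff]
  intro x
  constructor
  · intro hx
    have : a * x * a⁻¹ = x := by rw [h x hx]; group
    rw [this]; exact hx
  · intro hx
    have h1 := h _ hx
    have h2 : x = a * x * a⁻¹ := by
      calc x = a⁻¹ * ((a * x * a⁻¹) * a) := by group
        _ = a⁻¹ * (a * (a * x * a⁻¹)) := by rw [h1]
        _ = a * x * a⁻¹ := by group
    rw [h2]; exact hx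

theorem commutator_le_left_of_le_normalizer {P B : Subgroup X}
    (hBP : B ≤ Subgroup.normalizer (P : Set X)) : ⁅P, B⁆ ≤ P := by
  rw [Subgroup.commutator_le]
  intro x hx b hb
  have h1 : b * x⁻¹ * b⁻¹ ∈ P := (Subgroup.mem_normalizer_iff.mp (hBP hb) x⁻¹).mp (P.inv_mem hx)
  have : ⁅x, b⁆ = x * (b * x⁻¹ * b⁻¹) := by rw [commutatorElement_def]; group
  rw [this]
  exact P.mul_mem hx h1

end aux

section coprime
variable {X : Type u} [Group X] [Finite X] {p : ℕ} [hpp : Fact p.Prime]

/-- coprime action: if `B` (a `p'`-group) centralizes `[P, B]` (`P` a `p`-group) then it centralizes `P` -/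
theorem le_centralizer_of_commutator_le (P B : Subgroup X) (hP : IsPGroup p P)
    (hB : ¬ p ∣ Nat.card B) (hBP : B ≤ Subgroup.normalizer (P : Set X))
    (h : ⁅P, B⁆ ≤ Subgroup.centralizer (B : Set X)) :
    P ≤ Subgroup.centralizer (B : Set X) := by
  intro x hx
  rw [Subgroup.mem_centralizer_iff]
  intro b hb
  obtain ⟨c, hc⟩ : ∃ c, c = x⁻¹ * b * x * b⁻¹ := ⟨_, rfl⟩
  have hcPB : c ∈ ⁅P, B⁆ := by
    have : c = ⁅x⁻¹, b⁆ := by rw [hc, commutatorElement_def]; group
    rw [this]
    exact Subgroup.commutator_mem_commutator (P.inv_mem hx) hb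
  have hcb : b * c = c * b := (Subgroup.mem_centralizer_iff.mp (h hcPB)) b hb
  have hconj : b * x * b⁻¹ = x * c := by rw [hc]; group
  have hpow : ∀ n : ℕ, b ^ n * x * (b ^ n)⁻¹ = x * c ^ n := by
    intro n
    induction n with
    | zero => simp
    | succ n ih =>
      have hcbn : b * c ^ n = c ^ n * b := by
        exact (Commute.pow_right (show Commute b c from hcb) n).eq
      calc b ^ (n + 1) * x * (b ^ (n + 1))⁻¹
          = b * (b ^ n * x * (b ^ n)⁻¹) * b⁻¹ := by rw [pow_succ']; group
        _ = b * (x * c ^ n) * b⁻¹ := by rw [ih]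
        _ = (b * x * b⁻¹) * (b * c ^ n) * b⁻¹ := by group
        _ = (x * c) * (c ^ n * b) * b⁻¹ := by rw [hconj, hcbn]
        _ = x * c ^ (n + 1) := by rw [pow_succ']; group
  have hcn : c ^ orderOf b = 1 := by
    have := hpow (orderOf b)
    rw [pow_orderOf_eq_one] at this
    simpa using this.symm
  have hcP : c ∈ P := by
    have h1 : b * x * b⁻¹ ∈ P := (Subgroup.mem_normalizer_iff.mp (hBP hb) x).mp hx
    have : c = x⁻¹ * (b * x * b⁻¹) := by rw [hc]; group
    rw [this]
    exact P.mul_mem (P.inv_mem hx) h1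
  obtain ⟨k, hk⟩ := (IsPGroup.iff_orderOf.mp hP) ⟨c, hcP⟩
  rw [Subgroup.orderOf_mk] at hk
  have hdvd : orderOf c ∣ Nat.card B := by
    refine dvd_trans (orderOf_dvd_of_pow_eq_one hcn) ?_
    have := orderOf_dvd_natCard (⟨b, hb⟩ : B)
    rwa [Subgroup.orderOf_mk] at this
  have hk0 : k = 0 := by
    by_contra hk0
    apply hB
    refine dvd_trans ?_ hdvd
    rw [hk]
    exact dvd_pow_self p hk0
  rw [hk0, pow_zero, orderOf_eq_one_iff] at hk
  rw [hk, mul_one] at hconj
  calc b * x = (b * x * b⁻¹) * b := by group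
    _ = x * b := by rw [hconj]

/-- a `p`-group `A` normalizing a nontrivial `p`-group `P` has `[P, A] ≠ P` -/
theorem eq_bot_of_commutator_eq (P A : Subgroup X) (hP : IsPGroup p P) (hA : IsPGroup p A)
    (hAP : A ≤ Subgroup.normalizer (P : Set X)) (h : ⁅P, A⁆ = P) : P = ⊥ := by
  have hH : IsPGroup p (A ⊔ P : Subgroup X) := IsPGroup.to_sup_of_normal_right' hA hP hAP
  have hnil : Group.IsNilpotent (A ⊔ P : Subgroup X) := hH.isNilpotent
  obtain ⟨n, hn⟩ := (Subgroup.isNilpotent_iff_lowerCentralSeries (A ⊔ P)).mp hnil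
  have key : ∀ n : ℕ, P ≤ (A ⊔ P : Subgroup X).lowerCentralSeries n := by
    intro n
    induction n with
    | zero => exact le_sup_right
    | succ n ih =>
      rw [Subgroup.lowerCentralSeries_succ]
      calc P = ⁅P, A⁆ := h.symm
        _ ≤ ⁅(A ⊔ P : Subgroup X).lowerCentralSeries n, A ⊔ P⁆ := Subgroup.commutator_mono ih le_sup_left
  have := key n
  rw [hn] at this
  exact le_bot_iff.mp this

/-- **(AXB)**, with the cardinality made explicit for the induction -/
theorem axb_aux (A B : Subgroup X) (hA : IsPGroup p A) (hB : ¬ p ∣ Nat.card B)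
    (hAB : ∀ a ∈ A, ∀ b ∈ B, a * b = b * a) :
    ∀ (n : ℕ) (P : Subgroup X), Nat.card P = n → IsPGroup p P →
      A ≤ Subgroup.normalizer (P : Set X) → B ≤ Subgroup.normalizer (P : Set X) →
      P ⊓ Subgroup.centralizer (A : Set X) ≤ Subgroup.centralizer (B : Set X) →
      P ≤ Subgroup.centralizer (B : Set X) := by
  intro n
  induction n using Nat.strong_induction_on with
  | _ n ih =>
    intro P hPn hP hAP hBP hC
    have hAnB : ∀ a ∈ A, a ∈ Subgroup.normalizer (B : Set X) :=
      fun a ha => mem_normalizer_of_commute (fun b hb => hAB a ha b hb)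
    have hBnA : ∀ b ∈ B, b ∈ Subgroup.normalizer (A : Set X) :=
      fun b hb => mem_normalizer_of_commute (fun a ha => (hAB a ha b hb).symm)
    have hlt : ∀ P₁ : Subgroup X, P₁ ≤ P → P₁ ≠ P → Nat.card P₁ < n := by
      intro P₁ hle hne
      rw [← hPn]
      by_contra hcon
      exact hne (Subgroup.eq_of_le_of_card_ge hle (not_lt.mp hcon))
    by_cases h1 : ⁅P, B⁆ = P
    · -- `P = [P, B]`
      by_cases h2 : ⁅P, A⁆ = P
      · have := eq_bot_of_commutator_eq P A hP hA hAP h2
        rw [this]; exact bot_le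
      · have hPA : ⁅P, A⁆ ≤ P := commutator_le_left_of_le_normalizer hAP
        have hcent : ⁅P, A⁆ ≤ Subgroup.centralizer (B : Set X) := by
          refine ih _ (hlt _ hPA h2) ⁅P, A⁆ rfl (hP.to_le hPA) ?_ ?_ ?_
          · intro a ha
            exact mem_normalizer_commutator (hAP ha) (Subgroup.le_normalizer ha)
          · intro b hb
            exact mem_normalizer_commutator (hBP hb) (hBnA b hb)
          · exact le_trans (inf_le_inf_right _ hPA) hC
        have e1 : ⁅⁅P, A⁆, B⁆ = ⊥ := Subgroup.commutator_eq_bot_iff_le_centralizer.mpr hcent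
        have e2 : ⁅⁅A, B⁆, P⁆ = ⊥ := by
          have : ⁅A, B⁆ = ⊥ := by
            rw [Subgroup.commutator_eq_bot_iff_le_centralizer]
            intro a ha
            rw [Subgroup.mem_centralizer_iff]
            intro b hb
            exact (hAB a ha b hb).symm
          rw [this]
          exact Subgroup.commutator_bot_left P
        have e3 : ⁅⁅B, P⁆, A⁆ = ⊥ := Subgroup.commutator_commutator_eq_bot_of_rotate e1 e2
        rw [Subgroup.commutator_comm B P, h1, Subgroup.commutator_eq_bot_iff_le_centralizer] at e3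
        exact le_trans (le_inf le_rfl e3) hC
    · -- `[P, B] < P`
      have hPB : ⁅P, B⁆ ≤ P := commutator_le_left_of_le_normalizer hBP
      have hcent : ⁅P, B⁆ ≤ Subgroup.centralizer (B : Set X) := by
        refine ih _ (hlt _ hPB h1) ⁅P, B⁆ rfl (hP.to_le hPB) ?_ ?_ ?_
        · intro a ha
          exact mem_normalizer_commutator (hAP ha) (hAnB a ha)
        · intro b hb
          exact mem_normalizer_commutator (hBP hb) (Subgroup.le_normalizer hb)
        · exact le_trans (inf_le_inf_right _ hPB) hC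
      exact le_centralizer_of_commutator_le P B hP hB hBP hcent

end coprime

variable {p : ℕ} [hpp : Fact p.Prime]

/-- **(AXB)** Thompson's `A × B` lemma, ambient form. -/
theorem axb_lemma {X : Type u} [Group X] [Finite X] (A B P : Subgroup X) (hA : IsPGroup p A)
    (hB : ¬ p ∣ Nat.card B) (hP : IsPGroup p P)
    (hAB : ∀ a ∈ A, ∀ b ∈ B, a * b = b * a)
    (hAP : A ≤ Subgroup.normalizer (P : Set X)) (hBP : B ≤ Subgroup.normalizer (P : Set X))
    (hC : P ⊓ Subgroup.centralizer (A : Set X) ≤ Subgroup.centralizer (B : Set X)) :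
    P ≤ Subgroup.centralizer (B : Set X) :=
  axb_aux A B hA hB hAB _ P rfl hP hAP hBP hC

end Cfsg.Agent.Lib.Helper22.FPTAXB
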