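import Mathlib

/-!
# S4642 leaf (LIFT): coprime lifting of centralizers `C_{G/K}(RK/K) = C_G(R)K/K`
-/

set_option autoImplicit false
set_option linter.unusedSectionVars false

namespace Cfsg.Agent.Lib.Helper22.FPTLIFT

universe u

/-- explicit form: an element whose image centralizes the image of the `p`-group `R` modulo the normal
`p'`-subgroup `K` is congruent modulo `K` to an element centralizing `R`. -/
theorem exists_centralizing_rep {G : Type u} [Group G] {p : ℕ} [hpp : Fact p.Prime]
    (K : Subgroup G) [hKn : K.Normal] (hKp : ¬ p ∣ Nat.card K)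
    (R : Subgroup G) (hR : IsPGroup p R) (g : G)
    (hg : (QuotientGroup.mk' K g) ∈
      Subgroup.centralizer ((R.map (QuotientGroup.mk' K) : Subgroup (G ⧸ K)) : Set (G ⧸ K))) :
    ∃ n ∈ Subgroup.centralizer (R : Set G), QuotientGroup.mk' K n = QuotientGroup.mk' K g := by
  classical
  -- the coset `gK` with the conjugation action of `R`
  let T := {n : G // QuotientGroup.mk' K n = QuotientGroup.mk' K g}
  have hclosed : ∀ (r : R) (n : T), QuotientGroup.mk' K ((r : G) * n.1 * (r : G)⁻¹) =
      QuotientGroup.mk' K g := by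
    intro r n
    have h1 : QuotientGroup.mk' K (r : G) ∈ (R.map (QuotientGroup.mk' K) : Subgroup (G ⧸ K)) :=
      Subgroup.mem_map_of_mem _ r.2
    have h2 := (Subgroup.mem_centralizer_iff.mp hg) _ h1
    rw [map_mul, map_mul, map_inv, n.2, h2]
    group
  let _inst : MulAction R T :=
    { smul := fun r n => ⟨(r : G) * n.1 * (r : G)⁻¹, hclosed r n⟩
      one_smul := fun n => Subtype.ext (by
        show ((1 : R) : G) * n.1 * ((1 : R) : G)⁻¹ = n.1
        simp)
      mul_smul := fun r s n => Subtype.ext (by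
        show ((r * s : R) : G) * n.1 * ((r * s : R) : G)⁻¹ = (r : G) * ((s : G) * n.1 * (s : G)⁻¹) * (r : G)⁻¹
        simp only [Subgroup.coe_mul]
        group) }
  have hsmul : ∀ (r : R) (n : T), ((r • n : T) : G) = (r : G) * n.1 * (r : G)⁻¹ := fun _ _ => rfl
  -- `|gK| = |K|`
  have hcard : Nat.card T = Nat.card K := by
    refine Nat.card_congr ?_
    refine
      { toFun := fun n => ⟨g⁻¹ * n.1, ?_⟩
        invFun := fun k => ⟨g * k.1, ?_⟩
        left_inv := fun n => Subtype.ext (by simp)
        right_inv := fun k => Subtype.ext (by simp) }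
    · have h : (QuotientGroup.mk n.1 : G ⧸ K) = QuotientGroup.mk g := n.2
      exact QuotientGroup.eq.mp h.symm
    · show (QuotientGroup.mk (g * k.1) : G ⧸ K) = QuotientGroup.mk g
      rw [eq_comm, QuotientGroup.eq]
      simp
  obtain ⟨n, hn⟩ := hR.nonempty_fixed_point_of_prime_not_dvd_card T (by rw [hcard]; exact hKp)
  refine ⟨n.1, ?_, n.2⟩
  rw [Subgroup.mem_centralizer_iff]
  intro r hr
  have := congrArg Subtype.val (hn ⟨r, hr⟩)
  rw [hsmul] at this
  simp only at this
  calc r * n.1 = (r * n.1 * r⁻¹) * r := by group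
    _ = n.1 * r := by rw [this]

variable {G : Type u} [Group G] [Fintype G] {p : ℕ} [hpp : Fact p.Prime]

/-- **(LIFT)** Coprime lifting of centralizers: `C_{G/K}(RK/K) = C_G(R)K/K` for a `p`-subgroup `R` and
a normal `p'`-subgroup `K`. -/
theorem centralizer_map_mk (K : Subgroup G) [hKn : K.Normal] (hKp : ¬ p ∣ Nat.card K)
    (R : Subgroup G) (hR : IsPGroup p R) :
    Subgroup.centralizer ((R.map (QuotientGroup.mk' K) : Subgroup (G ⧸ K)) : Set (G ⧸ K)) =
      (Subgroup.centralizer (R : Set G)).map (QuotientGroup.mk' K) := by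
  apply le_antisymm
  · intro q hq
    obtain ⟨g, rfl⟩ := QuotientGroup.mk'_surjective K q
    obtain ⟨n, hn, hng⟩ := exists_centralizing_rep K hKp R hR g hq
    exact ⟨n, hn, hng⟩
  · rintro _ ⟨c, hc, rfl⟩
    rw [Subgroup.mem_centralizer_iff]
    rintro _ ⟨r, hr, rfl⟩
    rw [← map_mul, ← map_mul, (Subgroup.mem_centralizer_iff.mp hc) r hr]

end Cfsg.Agent.Lib.Helper22.FPTLIFT
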