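import Mathlib
import Cfsg.Agent.Lib.Helper22.FPTLIFT
import Cfsg.Agent.Lib.Helper22.FPTAXB

/-!
# S4642 leaf (GT1): in the `p`-constrained situation a `p'`-element of `C_G(R)` centralizing `Q₀` lies in `K`
-/

set_option autoImplicit false
set_option linter.unusedSectionVars false
set_option linter.unusedVariables false

namespace Cfsg.Agent.Lib.Helper22.FPTGT1

universe u

open Cfsg.Agent.Lib.Helper22.FPTLIFT Cfsg.Agent.Lib.Helper22.FPTAXB

variable {G : Type u} [Group G] [Fintype G] {p : ℕ} [hpp : Fact p.Prime]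

/-- **(GT1)** In the `p`-constrained situation, a `p'`-element of `C_G(R)` centralizing a `p`-subgroup
`Q₀` with `C_L(R) ≤ K Q₀` lies in `K`. -/
theorem mem_of_pRegular_centralizes (K L Q : Subgroup G) [hKn : K.Normal] [hLn : L.Normal]
    (hKp : ¬ p ∣ Nat.card K) (hKL : K ≤ L) (hLK : ∃ a : ℕ, K.relIndex L = p ^ a)
    (hQL : Q ≤ L) (hQp : IsPGroup p Q) (hQS : ¬ p ∣ Q.relIndex L)
    (hCQ : Subgroup.centralizer (Q : Set G) ≤ L)
    (R : Subgroup G) (hR : IsPGroup p R) (Q₀ : Subgroup G) (hQ₀ : IsPGroup p Q₀)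
    (hLR : L ⊓ Subgroup.centralizer (R : Set G) ≤ K ⊔ Q₀)
    (x : G) (hxR : x ∈ Subgroup.centralizer (R : Set G))
    (hxQ : x ∈ Subgroup.centralizer (Q₀ : Set G)) (hx : ¬ p ∣ orderOf x) : x ∈ K := by
  classical
  obtain ⟨a, ha⟩ := hLK
  -- notation
  obtain ⟨mk, hmk⟩ : ∃ mk : G →* G ⧸ K, mk = QuotientGroup.mk' K := ⟨_, rfl⟩
  have hmk_surj : Function.Surjective mk := hmk ▸ QuotientGroup.mk'_surjective K
  have hmk_eq : ∀ u v : G, mk u = mk v ↔ u⁻¹ * v ∈ K := by
    intro u v; rw [hmk]; exact QuotientGroup.eq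
  have hmk_one : ∀ u : G, mk u = 1 ↔ u ∈ K := by
    intro u; rw [hmk]; exact QuotientGroup.eq_one_iff u
  -- `L̄` is a normal `p`-subgroup
  have hLbar_n : (L.map mk).Normal := hLn.map mk hmk_surj
  have hLbar_p : IsPGroup p (L.map mk) := by
    rintro ⟨_, y, hy, rfl⟩
    refine ⟨a, ?_⟩
    apply Subtype.ext
    rw [Subgroup.coe_pow, Subgroup.coe_one]
    show mk y ^ p ^ a = 1
    rw [← map_pow, hmk_one]
    have h1 : (K.subgroupOf L).index = p ^ a := ha
    have h2 := Subgroup.pow_index_mem (K.subgroupOf L) (⟨y, hy⟩ : L)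
    rw [h1, Subgroup.mem_subgroupOf] at h2
    simpa using h2
  -- `B = ⟨x̄⟩` is a `p'`-group
  have hB : ¬ p ∣ Nat.card (Subgroup.zpowers (mk x)) := by
    rw [Nat.card_zpowers]
    intro h
    exact hx (dvd_trans h (orderOf_map_dvd mk x))
  -- `x̄` commutes with `R̄` and `Q̄₀`
  have hcomm_of : ∀ (S : Subgroup G), x ∈ Subgroup.centralizer (S : Set G) →
      ∀ q ∈ S.map mk, ∀ b ∈ Subgroup.zpowers (mk x), q * b = b * q := by
    intro S hxS q hq b hb
    obtain ⟨s, hs, rfl⟩ := hq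
    obtain ⟨k, rfl⟩ := Subgroup.mem_zpowers_iff.mp hb
    have h1 : Commute (mk s) (mk x) := by
      show mk s * mk x = mk x * mk s
      rw [← map_mul, ← map_mul, (Subgroup.mem_centralizer_iff.mp hxS) s hs]
    exact (h1.zpow_right k).eq
  -- the hypothesis of the `A × B` lemma
  have hC : (L.map mk) ⊓ Subgroup.centralizer ((R.map mk : Subgroup (G ⧸ K)) : Set (G ⧸ K)) ≤
      Subgroup.centralizer ((Subgroup.zpowers (mk x) : Subgroup (G ⧸ K)) : Set (G ⧸ K)) := by
    rintro q ⟨hqL, hqC⟩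
    obtain ⟨l, hl, rfl⟩ := hqL
    have hqC' : QuotientGroup.mk' K l ∈ Subgroup.centralizer
        ((R.map (QuotientGroup.mk' K) : Subgroup (G ⧸ K)) : Set (G ⧸ K)) := by
      rw [← hmk]; exact hqC
    obtain ⟨n, hn, hnl⟩ := exists_centralizing_rep K hKp R hR l hqC'
    rw [← hmk] at hnl
    have hnL : n ∈ L := by
      have h1 : n⁻¹ * l ∈ K := (hmk_eq n l).mp hnl
      have h2 : n = l * (n⁻¹ * l)⁻¹ := by group
      rw [h2]
      exact L.mul_mem hl (L.inv_mem (hKL h1))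
    have hnKQ : n ∈ K ⊔ Q₀ := hLR ⟨hnL, hn⟩
    have hq0 : mk n ∈ Q₀.map mk := by
      have h1 : mk n ∈ (K ⊔ Q₀).map mk := Subgroup.mem_map_of_mem mk hnKQ
      rw [Subgroup.map_sup] at h1
      have h2 : K.map mk = ⊥ := by
        rw [eq_bot_iff]
        rintro _ ⟨k, hk, rfl⟩
        rw [Subgroup.mem_bot, hmk_one]
        exact hk
      rwa [h2, bot_sup_eq] at h1
    rw [← hnl, Subgroup.mem_centralizer_iff]
    intro b hb
    exact (hcomm_of Q₀ hxQ _ hq0 b hb).symm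
  have hmain : L.map mk ≤
      Subgroup.centralizer ((Subgroup.zpowers (mk x) : Subgroup (G ⧸ K)) : Set (G ⧸ K)) := by
    refine axb_lemma (R.map mk) (Subgroup.zpowers (mk x)) (L.map mk) (hR.map mk) hB hLbar_p
      (hcomm_of R hxR) ?_ ?_ hC
    · rw [Subgroup.normalizer_eq_top]; exact le_top
    · rw [Subgroup.normalizer_eq_top]; exact le_top
  -- `x̄` centralizes `Q̄`, so `x̄ ∈ L̄`
  have hxQbar : QuotientGroup.mk' K x ∈ Subgroup.centralizer
      ((Q.map (QuotientGroup.mk' K) : Subgroup (G ⧸ K)) : Set (G ⧸ K)) := by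
    rw [← hmk, Subgroup.mem_centralizer_iff]
    rintro _ ⟨q, hq, rfl⟩
    have h1 : mk q ∈ L.map mk := Subgroup.mem_map_of_mem mk (hQL hq)
    have h2 := (Subgroup.mem_centralizer_iff.mp (hmain h1)) (mk x) (Subgroup.mem_zpowers _)
    exact h2.symm
  obtain ⟨c, hc, hcx⟩ := exists_centralizing_rep K hKp Q hQp x hxQbar
  rw [← hmk] at hcx
  have hxL : mk x ∈ L.map mk := by
    rw [← hcx]
    exact Subgroup.mem_map_of_mem mk (hCQ hc)
  -- `x̄` is a `p`-element of order prime to `p`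
  obtain ⟨k, hk⟩ := hLbar_p ⟨mk x, hxL⟩
  have hk' : mk x ^ p ^ k = 1 := by
    have := congrArg Subtype.val hk
    simpa using this
  have h1 : orderOf (mk x) ∣ p ^ k := orderOf_dvd_of_pow_eq_one hk'
  have h2 : orderOf (mk x) ∣ orderOf x := orderOf_map_dvd mk x
  have h3 : orderOf (mk x) = 1 := by
    obtain ⟨j, _, hj⟩ := (Nat.dvd_prime_pow hpp.out).mp h1
    rcases Nat.eq_zero_or_pos j with rfl | hjpos
    · simpa using hj
    · exfalso
      apply hx
      refine dvd_trans ?_ h2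
      rw [hj]
      exact dvd_pow_self p hjpos.ne'
  rw [orderOf_eq_one_iff, hmk_one] at h3
  exact h3

end Cfsg.Agent.Lib.Helper22.FPTGT1
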