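import Cfsg.Agent.Lib.Helper17.FrCDefs
import Cfsg.Agent.Lib.Helper15.FrCS
import Cfsg.Agent.Lib.Helper1.FrCTools
import Cfsg.Agent.Lib.Helper6.FrCD2

/-!
helper22: CORE13 (S5679 + S5696) leaf L1d `vt_not_small_five` of notes/S5679_core_leaves.lean, exact signature.
`p = 5`: a non-`B` unit vector of a coordinate 3-space is `(±1,±1,±2)` up to order, so some coordinate has square `1`
and `x ≠ ± e_i`; `Small` for `(-r_{e_i})(-r_x)` contradicts `order_pair` (D2, helper6).
-/

set_option autoImplicit false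
set_option linter.unusedSectionVars false
set_option linter.unusedVariables false

namespace Cfsg.Agent.Lib.Helper22.FrCLeaf

open Module QuadraticMap Matrix Cfsg.Agent.Lib.Helper25.CD Cfsg.Agent.Lib.Helper25.Spin
  Cfsg.Agent.Lib.Helper5.NSMax Cfsg.Agent.Lib.Helper5.PairMax Cfsg.Agent.Lib.Helper17.OC2
  Cfsg.Agent.Lib.Helper29.FrStd Cfsg.Agent.Lib.Helper11.Mono Cfsg.Agent.Lib.Helper17.FrC

variable {κ : Type} [Fintype κ] [DecidableEq κ] {F : Type*} [Field F] [Fintype F]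
  {c : F} {M : Subgroup ↥(Cfsg.isometryGroup F ⇑(stdQ κ F c))}

/-- the dot square of a vector of a coordinate 3-space -/
lemma dot_self_VT3 {i j k : κ} (hij : i ≠ j) (hik : i ≠ k) (hjk : j ≠ k) {x : κ → F}
    (hx : x ∈ VT ({i, j, k} : Finset κ)) : x ⬝ᵥ x = x i ^ 2 + x j ^ 2 + x k ^ 2 := by
  classical
  unfold dotProduct
  rw [← Finset.sum_subset (Finset.subset_univ ({i, j, k} : Finset κ))]
  · rw [Finset.sum_insert (by simp [hij, hik]), Finset.sum_insert (by simp [hjk]),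
      Finset.sum_singleton]
    ring
  · intro l _ hl
    rw [hx l hl, mul_zero]

/-- in the field with 5 elements every square is `0`, `1` or `-1` -/
lemma sq_cases_five (h5 : Fintype.card F = 5) (t : F) : t ^ 2 = 0 ∨ t ^ 2 = 1 ∨ t ^ 2 = -1 := by
  have hp : t ^ 5 = t := by rw [← h5]; exact FiniteField.pow_card t
  by_cases h0 : t = 0
  · left; rw [h0]; ring
  · right
    have h1 : (t ^ 2 - 1) * (t ^ 2 + 1) = 0 := by
      have : t * ((t ^ 2 - 1) * (t ^ 2 + 1)) = 0 := by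
        have e : t * ((t ^ 2 - 1) * (t ^ 2 + 1)) = t ^ 5 - t := by ring
        rw [e, hp, sub_self]
      exact (mul_eq_zero.mp this).resolve_left h0
    rcases mul_eq_zero.mp h1 with h | h
    · left; exact sub_eq_zero.mp h
    · right; exact eq_neg_of_add_eq_zero_left h

/-- the arithmetic of three squares with sum `1` over the field with 5 elements -/
lemma arith_five (h2 : (2 : F) ≠ 0) (h3 : (3 : F) ≠ 0) {a b d : F}
    (ha : a = 0 ∨ a = 1 ∨ a = -1) (hb : b = 0 ∨ b = 1 ∨ b = -1) (hd : d = 0 ∨ d = 1 ∨ d = -1)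
    (hs : a + b + d = 1) :
    (a = 1 ∧ b = 0 ∧ d = 0) ∨ (a = 0 ∧ b = 1 ∧ d = 0) ∨ (a = 0 ∧ b = 0 ∧ d = 1) ∨
      (a = 1 ∧ b = 1) ∨ (a = 1 ∧ d = 1) ∨ (b = 1 ∧ d = 1) := by
  have h4 : (4 : F) ≠ 0 := by
    have : (4 : F) = 2 * 2 := by norm_num
    rw [this]; exact mul_ne_zero h2 h2
  rcases ha with rfl | rfl | rfl <;> rcases hb with rfl | rfl | rfl <;>
    rcases hd with rfl | rfl | rfl <;> first
    | (left; exact ⟨rfl, rfl, rfl⟩)
    | (right; left; exact ⟨rfl, rfl, rfl⟩)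
    | (right; right; left; exact ⟨rfl, rfl, rfl⟩)
    | (right; right; right; left; exact ⟨rfl, rfl⟩)
    | (right; right; right; right; left; exact ⟨rfl, rfl⟩)
    | (right; right; right; right; right; exact ⟨rfl, rfl⟩)
    | (exfalso; apply one_ne_zero (α := F); linear_combination -hs)
    | (exfalso; apply one_ne_zero (α := F); linear_combination hs)
    | (exfalso; apply h2; linear_combination hs)
    | (exfalso; apply h2; linear_combination -hs)
    | (exfalso; apply h3; linear_combination -hs)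
    | (exfalso; apply h3; linear_combination hs)
    | (exfalso; apply h4; linear_combination -hs)

/-- a vector with a single non-zero coordinate, of square `1`, is `± e_i` -/
lemma isB_of_single {i : κ} {x : κ → F} (h1 : x i ^ 2 = 1) (h0 : ∀ l, l ≠ i → x l = 0) : IsB x := by
  left
  refine ⟨i, ?_⟩
  have h2 : (x i - 1) * (x i + 1) = 0 := by linear_combination h1
  rcases mul_eq_zero.mp h2 with h | h
  · left
    funext l
    by_cases hl : l = i
    · rw [hl, Cfsg.Agent.Lib.Helper1.FrCLeaf.e_apply_same]; exact sub_eq_zero.mp h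
    · rw [h0 l hl, Cfsg.Agent.Lib.Helper1.FrCLeaf.e_apply_ne hl]
  · right
    funext l
    by_cases hl : l = i
    · rw [hl, Pi.neg_apply, Cfsg.Agent.Lib.Helper1.FrCLeaf.e_apply_same]
      exact eq_neg_of_add_eq_zero_left h
    · rw [h0 l hl, Pi.neg_apply, Cfsg.Agent.Lib.Helper1.FrCLeaf.e_apply_ne hl, neg_zero]

/-- the common end: a root `x` of `VT T` with a coordinate of square `1` and a second non-zero coordinate contradicts
`Small` (`p ≥ 5`). -/
lemma not_small_of_sq_one (h : Ctx c M) (h5 : 5 ≤ Fintype.card F) {T : Finset κ}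
    {x : κ → F} (hx : Rt c M x) (hxT : x ∈ VT T) {m l : κ} (hm : m ∈ T) (hxm : x m ^ 2 = 1)
    (hlm : l ≠ m) (hxl : x l ≠ 0)
    (hSm : Small c {y : κ → F | Rt c M y ∧ y ∈ VT T} (VT T)) : False := by
  have hem : (e m : κ → F) ∈ VT T := Cfsg.Agent.Lib.Helper1.FrCLeaf.e_mem_VT hm
  have hre : Rt c M (e m) := Cfsg.Agent.Lib.Helper15.FrCLeaf.rt_e h m
  have hg : negRefl (stdQ κ F c) (e m) * negRefl (stdQ κ F c) x ∈
      Subgroup.closure ((negRefl (stdQ κ F c)) '' {y : κ → F | Rt c M y ∧ y ∈ VT T}) :=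
    Subgroup.mul_mem _ (Subgroup.subset_closure ⟨e m, ⟨hre, hem⟩, rfl⟩)
      (Subgroup.subset_closure ⟨x, ⟨hx, hxT⟩, rfl⟩)
  obtain ⟨k, hk1, hk5, hkp, hfix⟩ := hSm _ hg
  have h1 := (Cfsg.Agent.Lib.Helper6.FrCLeaf.order_pair h.hc h.prime h5 hre.1 hx.1 hk1 hk5 hkp
    (hfix _ hem) (hfix _ hxT)).2
  rw [Cfsg.Agent.Lib.Helper1.FrCLeaf.dot_e_left] at h1
  rcases h1 hxm with h2 | h2
  · apply hxl
    rw [h2, Cfsg.Agent.Lib.Helper1.FrCLeaf.e_apply_ne hlm]
  · apply hxl
    rw [h2, Pi.neg_apply, Cfsg.Agent.Lib.Helper1.FrCLeaf.e_apply_ne hlm, neg_zero]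

/-- L1d (`p = 5`). -/
theorem vt_not_small_five (h : Ctx c M) (h5 : Fintype.card F = 5) {T : Finset κ} (hT : T.card = 3)
    {x : κ → F} (hx : Rt c M x) (hxT : x ∈ VT T) (hB : ¬ IsB x) :
    ¬ Small c {y : κ → F | Rt c M y ∧ y ∈ VT T} (VT T) := by
  classical
  intro hSm
  obtain ⟨i, j, k, hij, hik, hjk, rfl⟩ := Finset.card_eq_three.mp hT
  have hch : CharP F 5 := by
    have : Fact (Fintype.card F).Prime := ⟨h.prime⟩
    have := charP_of_card_eq_prime (R := F) (p := Fintype.card F) rfl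
    rwa [h5] at this
  have hn : ∀ n : ℕ, 0 < n → n < 5 → ((n : ℕ) : F) ≠ 0 := by
    intro n hn0 hn5 hz
    rw [CharP.cast_eq_zero_iff F 5] at hz
    have := Nat.le_of_dvd hn0 hz
    omega
  have h2 : (2 : F) ≠ 0 := by simpa using hn 2 (by norm_num) (by norm_num)
  have h3 : (3 : F) ≠ 0 := by simpa using hn 3 (by norm_num) (by norm_num)
  have hxx := dot_self_VT3 hij hik hjk hxT
  rw [hx.1] at hxx
  have h5' : 5 ≤ Fintype.card F := by omega
  have hmi : i ∈ ({i, j, k} : Finset κ) := by simp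
  have hmj : j ∈ ({i, j, k} : Finset κ) := by simp
  have hmk : k ∈ ({i, j, k} : Finset κ) := by simp
  have sq0 : ∀ t : F, t ^ 2 = 0 → t = 0 := fun t ht => by simpa using ht
  have sq1 : ∀ t : F, t ^ 2 = 1 → t ≠ 0 := fun t ht h0 => by
    rw [h0] at ht; simp at ht
  rcases arith_five h2 h3 (sq_cases_five h5 (x i)) (sq_cases_five h5 (x j))
    (sq_cases_five h5 (x k)) hxx.symm with
    ⟨h1, h0, h0'⟩ | ⟨h0, h1, h0'⟩ | ⟨h0, h0', h1⟩ | ⟨h1, h1'⟩ | ⟨h1, h1'⟩ | ⟨h1, h1'⟩
  · apply hB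
    apply isB_of_single h1
    intro l hl
    by_cases hlj : l = j
    · rw [hlj]; exact sq0 _ h0
    · by_cases hlk : l = k
      · rw [hlk]; exact sq0 _ h0'
      · exact hxT l (by simp [hl, hlj, hlk])
  · apply hB
    apply isB_of_single h1
    intro l hl
    by_cases hli : l = i
    · rw [hli]; exact sq0 _ h0
    · by_cases hlk : l = k
      · rw [hlk]; exact sq0 _ h0'
      · exact hxT l (by simp [hl, hli, hlk])
  · apply hB
    apply isB_of_single h1
    intro l hl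
    by_cases hli : l = i
    · rw [hli]; exact sq0 _ h0
    · by_cases hlj : l = j
      · rw [hlj]; exact sq0 _ h0'
      · exact hxT l (by simp [hl, hli, hlj])
  · exact not_small_of_sq_one h h5' hx hxT hmi h1 hij.symm (sq1 _ h1') hSm
  · exact not_small_of_sq_one h h5' hx hxT hmi h1 hik.symm (sq1 _ h1') hSm
  · exact not_small_of_sq_one h h5' hx hxT hmj h1 hjk.symm (sq1 _ h1') hSm

end Cfsg.Agent.Lib.Helper22.FrCLeaf
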