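/-
Helper lemmas (helper22): the norm technique for Frobenius groups acting on abelian groups.

If `F = K ⋊ H` is a Frobenius group (kernel `K`, complement `H`) acting on a commutative group `V`
such that `v ↦ v ^ |K|` is injective on `V` and `K` acts nontrivially, then some `H`-norm
`∏_{h ∈ H} h • v` is nontrivial.
-/
import Mathlib
import Cfsg.Agent.Lib.Helper2.FrobeniusClass

set_option autoImplicit false

namespace Cfsg.Agent.Lib.Helper22.FrobNorm

open Cfsg.Agent.Lib.Helper2

universe u v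

variable {F : Type u} [Group F] {V : Type v} [CommGroup V]

/-- the general norm lemma -/
theorem exists_norm_ne_one [Finite F] (φ : F →* MulAut V) (K H : Subgroup F) [hKn : K.Normal]
    (hKH : K ⊓ H = ⊥) (hKH' : K ⊔ H = ⊤)
    (hfpf : ∀ h ∈ H, h ≠ 1 → ∀ k ∈ K, h * k = k * h → k = 1)
    (hcop : ∀ v : V, v ^ Nat.card K = 1 → v = 1)
    (hact : ∃ k ∈ K, ∃ v : V, φ k v ≠ v)
    (s : Finset F) (hs : ∀ x, x ∈ s ↔ x ∈ H) : ∃ v : V, ∏ x ∈ s, φ x v ≠ 1 := by
  classical
  by_contra hall
  push Not at hall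
  haveI : Fintype F := Fintype.ofFinite F
  -- norms over `H`
  have hPH : ∀ v : V, ∏ x : H, φ x v = 1 := by
    intro v
    rw [← hall v]
    exact (Finset.prod_subtype s hs (fun x => φ x v)).symm
  have hφmul : ∀ x y : F, ∀ v : V, φ (x * y) v = φ x (φ y v) := by
    intro x y v
    rw [map_mul]; rfl
  have hφone : ∀ v : V, φ 1 v = v := by
    intro v
    rw [map_one]; rfl
  have hφprod : ∀ (x : F) {ι : Type u} [Fintype ι] (f : ι → V), φ x (∏ i, f i) = ∏ i, φ x (f i) := by
    intro x ι _ f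
    exact map_prod (φ x) f Finset.univ
  -- the product over all of `F` is trivial
  have hfrob := frob_card K H hKH hKH'
  have hPF : ∀ v : V, ∏ x : F, φ x v = 1 := by
    intro v
    have hbij : Function.Bijective (fun p : H × K => ((p.1 : F) * (p.2 : F))) := by
      have hinj : Function.Injective (fun p : H × K => ((p.1 : F) * (p.2 : F))) := by
        rintro ⟨h₁, k₁⟩ ⟨h₂, k₂⟩ e
        simp only at e
        have h1 : (h₂ : F)⁻¹ * (h₁ : F) = (k₂ : F) * (k₁ : F)⁻¹ := by
          have : (h₁ : F) = (h₂ : F) * (k₂ : F) * (k₁ : F)⁻¹ := by rw [← e]; group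
          rw [this]; group
        have h2 : (h₂ : F)⁻¹ * (h₁ : F) ∈ K ⊓ H :=
          ⟨h1 ▸ K.mul_mem k₂.2 (K.inv_mem k₁.2), H.mul_mem (H.inv_mem h₂.2) h₁.2⟩
        rw [hKH, Subgroup.mem_bot] at h2
        have h3 : (h₁ : F) = (h₂ : F) := by
          have : (h₁ : F) = (h₂ : F) * ((h₂ : F)⁻¹ * (h₁ : F)) := by group
          rw [this, h2, mul_one]
        have h4 : (k₁ : F) = (k₂ : F) := by
          rw [h3] at e
          exact mul_left_cancel e
        exact Prod.ext (Subtype.ext h3) (Subtype.ext h4)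
      apply hinj.bijective_of_nat_card_le
      rw [Nat.card_prod, mul_comm, hfrob]
    rw [← hbij.prod_comp (fun x : F => φ x v), Fintype.prod_prod_type]
    have : ∀ h : H, ∏ k : K, φ ((h : F) * (k : F)) v = φ (h : F) (∏ k : K, φ (k : F) v) := by
      intro h
      rw [hφprod]
      exact Finset.prod_congr rfl (fun k _ => hφmul _ _ _)
    simp_rw [this]
    exact hPH _
  -- the key identity `v ^ |K| = N_K(v)`
  have hfpf' := hfpf
  have hbij := frobMap_bijective K H hKH hKH' hfpf
  have hkey : ∀ v : V, v ^ (Fintype.card K) = ∏ x : K, φ x v := by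
    intro v
    have h1 := hPF v
    rw [← Fintype.prod_subtype_mul_prod_subtype (fun x : F => x ∈ K) (fun x => φ x v)] at h1
    rw [← hbij.prod_comp (fun x : {x : F // x ∉ K} => φ x v), Fintype.prod_prod_type] at h1
    have h3 : ∀ k : K, ∏ h : {h : H // h ≠ 1},
        φ ((frobMap K H hKH (k, h) : {x : F // x ∉ K}) : F) v = v⁻¹ := by
      intro k
      have e1 : ∀ h : H, φ ((k : F) * (h : F) * (k : F)⁻¹) v = φ k (φ h (φ (k : F)⁻¹ v)) := by
        intro h; rw [hφmul, hφmul]
      have e2 : ∏ h : H, φ ((k : F) * (h : F) * (k : F)⁻¹) v = 1 := by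
        simp_rw [e1]
        rw [← hφprod, hPH]
        exact map_one (φ k)
      rw [Fintype.prod_eq_mul_prod_compl (1 : H)] at e2
      simp only [Subgroup.coe_one, mul_one, mul_inv_cancel] at e2
      rw [hφone v] at e2
      have e4 : ∏ h ∈ ({1}ᶜ : Finset H), φ ((k : F) * (h : F) * (k : F)⁻¹) v =
          ∏ h : {h : H // h ≠ 1}, φ ((k : F) * ((h : H) : F) * (k : F)⁻¹) v :=
        Finset.prod_subtype _ (by simp) _
      rw [e4] at e2
      exact eq_inv_of_mul_eq_one_right e2
    simp_rw [h3] at h1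
    rw [Finset.prod_const, Finset.card_univ] at h1
    have h4 : ∏ x : {x : F // x ∈ K}, φ x v = ∏ x : K, φ x v := rfl
    rw [h4, inv_pow] at h1
    exact (mul_inv_eq_one.1 h1).symm
  -- `K` acts trivially
  obtain ⟨k₀, hk₀, v, hv⟩ := hact
  apply hv
  have hNK : ∏ x : K, φ x (φ k₀ v) = ∏ x : K, φ x v := by
    have : ∀ x : K, φ (x : F) (φ k₀ v) = φ ((x * ⟨k₀, hk₀⟩ : K) : F) v := by
      intro x; rw [Subgroup.coe_mul, hφmul]
    simp_rw [this]
    exact Fintype.prod_equiv (Equiv.mulRight ⟨k₀, hk₀⟩) _ _ (fun x => rfl)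
  have h5 : (φ k₀ v * v⁻¹) ^ (Fintype.card K) = 1 := by
    rw [mul_pow, inv_pow, hkey, hkey, hNK, mul_inv_cancel]
  have h6 := hcop _ (by rw [Nat.card_eq_fintype_card]; exact h5)
  exact mul_inv_eq_one.1 h6

end Cfsg.Agent.Lib.Helper22.FrobNorm
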