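import Mathlib

/-! Arithmetic of the weighted partition count behind `k(GL_n(q)) ≤ q^n`.
`cW q a` is the number of monic polynomials of degree `a` with nonzero constant term,
`bW q k s m` the weighted number of partitions of `m` with part sizes in `[s, s+k)`;
main result `bW_le : bW q (k+1) 1 n ≤ q ^ n`. -/

set_option autoImplicit false

namespace Cfsg.Agent.Lib.Helper22.GLCls

open Finset

/-- number of monic polynomials of degree `a` with nonzero constant term over a field with `q`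
elements -/
def cW (q : ℤ) (a : ℕ) : ℤ := if a = 0 then 1 else q ^ a - q ^ (a - 1)

theorem cW_zero (q : ℤ) : cW q 0 = 1 := by simp [cW]

theorem cW_succ (q : ℤ) (a : ℕ) :
    cW q (a + 1) = q * cW q a - (if a = 0 then 1 else 0) := by
  unfold cW
  rcases a with _ | a
  · simp
  · simp [pow_succ]; ring

theorem cW_nonneg {q : ℤ} (hq : 1 ≤ q) (a : ℕ) : 0 ≤ cW q a := by
  unfold cW
  split_ifs with h
  · exact zero_le_one
  · obtain ⟨b, rfl⟩ := Nat.exists_eq_succ_of_ne_zero h
    have h1 : q ^ (b + 1) - q ^ (b + 1 - 1) = q ^ b * (q - 1) := by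
      simp [pow_succ]; ring
    rw [h1]
    exact mul_nonneg (pow_nonneg (by omega) _) (by omega)

/-- weighted count of partitions of `m` with part sizes in `[s, s+k)` -/
def bW (q : ℤ) : ℕ → ℕ → ℕ → ℤ
  | 0, _, m => if m = 0 then 1 else 0
  | (k + 1), s, m => ∑ a ∈ range (m / s + 1), cW q a * bW q k (s + 1) (m - a * s)

theorem bW_zero (q : ℤ) (s m : ℕ) : bW q 0 s m = if m = 0 then 1 else 0 := rfl

theorem bW_succ (q : ℤ) (k s m : ℕ) :
    bW q (k + 1) s m = ∑ a ∈ range (m / s + 1), cW q a * bW q k (s + 1) (m - a * s) := rfl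

theorem bW_nonneg {q : ℤ} (hq : 1 ≤ q) (k s m : ℕ) : 0 ≤ bW q k s m := by
  induction k generalizing s m with
  | zero => rw [bW_zero]; split_ifs <;> norm_num
  | succ k ih =>
    rw [bW_succ]
    exact Finset.sum_nonneg fun a _ => mul_nonneg (cW_nonneg hq a) (ih _ _)

/-- the basic recursion `b_s(m) - q b_s(m-s) = b_{s+1}(m) - b_{s+1}(m-s)` -/
theorem bW_rec (q : ℤ) (k s m : ℕ) (hs : 1 ≤ s) (hsm : s ≤ m) :
    bW q (k + 1) s m - q * bW q (k + 1) s (m - s)
      = bW q k (s + 1) m - bW q k (s + 1) (m - s) := by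
  rw [bW_succ, bW_succ]
  have h1 : m / s = (m - s) / s + 1 := by
    conv_lhs => rw [← Nat.sub_add_cancel hsm]
    exact Nat.add_div_right _ (by omega)
  rw [h1, Finset.sum_range_succ', Finset.mul_sum, cW_zero, Nat.zero_mul, Nat.sub_zero, one_mul]
  have h2 : ∀ a ∈ range ((m - s) / s + 1),
      cW q (a + 1) * bW q k (s + 1) (m - (a + 1) * s)
        - q * (cW q a * bW q k (s + 1) (m - s - a * s))
        = - ((if a = 0 then 1 else 0) * bW q k (s + 1) (m - (a + 1) * s)) := by
    intro a _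
    have e1 : m - s - a * s = m - (a + 1) * s := by
      rw [Nat.sub_sub, Nat.add_mul, Nat.one_mul, Nat.add_comm]
    rw [e1, cW_succ]
    ring
  have h3 : ∑ a ∈ range ((m - s) / s + 1), cW q (a + 1) * bW q k (s + 1) (m - (a + 1) * s)
      - ∑ a ∈ range ((m - s) / s + 1), q * (cW q a * bW q k (s + 1) (m - s - a * s))
      = - bW q k (s + 1) (m - s) := by
    rw [← Finset.sum_sub_distrib, Finset.sum_congr rfl h2, Finset.sum_neg_distrib,
      Finset.sum_range_succ']
    simp
  linarith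

theorem bW_succ_of_lt (q : ℤ) (k s m : ℕ) (hsm : m < s) :
    bW q (k + 1) s m = bW q k (s + 1) m := by
  rw [bW_succ, Nat.div_eq_of_lt hsm]
  simp [cW_zero]

/-- shift of a sequence -/
def sh (s : ℕ) (f : ℕ → ℤ) (m : ℕ) : ℤ := if s ≤ m then f (m - s) else 0

/-- the recursion in shift form, valid for all `m` -/
theorem bW_rec' (q : ℤ) (k s m : ℕ) (hs : 1 ≤ s) :
    bW q (k + 1) s m - q * sh s (bW q (k + 1) s) m
      = bW q k (s + 1) m - sh s (bW q k (s + 1)) m := by
  unfold sh
  by_cases hsm : s ≤ m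
  · rw [if_pos hsm, if_pos hsm]
    exact bW_rec q k s m hs hsm
  · rw [if_neg hsm, if_neg hsm, bW_succ_of_lt q k s m (by omega)]
    ring

/-- multiplication of the generating function by `1/(1 - q t)` -/
def Tq (q : ℤ) (f : ℕ → ℤ) (m : ℕ) : ℤ := ∑ j ∈ range (m + 1), q ^ (m - j) * f j

theorem Tq_zero (q : ℤ) (f : ℕ → ℤ) : Tq q f 0 = f 0 := by simp [Tq]

theorem Tq_succ (q : ℤ) (f : ℕ → ℤ) (m : ℕ) : Tq q f (m + 1) = q * Tq q f m + f (m + 1) := by
  unfold Tq
  rw [Finset.sum_range_succ _ (m + 1), Finset.mul_sum]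
  simp only [Nat.sub_self, pow_zero, one_mul, add_left_inj]
  refine Finset.sum_congr rfl fun j hj => ?_
  have : j ≤ m := Nat.lt_succ_iff.mp (Finset.mem_range.mp hj)
  rw [Nat.succ_sub this, pow_succ]
  ring

theorem Tq_sub (q : ℤ) (f g : ℕ → ℤ) (m : ℕ) :
    Tq q (fun j => f j - g j) m = Tq q f m - Tq q g m := by
  unfold Tq
  rw [← Finset.sum_sub_distrib]
  exact Finset.sum_congr rfl fun j _ => by ring

theorem Tq_mul (q c : ℤ) (f : ℕ → ℤ) (m : ℕ) :
    Tq q (fun j => c * f j) m = c * Tq q f m := by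
  unfold Tq
  rw [Finset.mul_sum]
  exact Finset.sum_congr rfl fun j _ => by ring

theorem Tq_sh (q : ℤ) (s : ℕ) (f : ℕ → ℤ) (m : ℕ) :
    Tq q (sh s f) m = sh s (Tq q f) m := by
  induction m with
  | zero =>
    rw [Tq_zero]
    unfold sh
    by_cases h : s ≤ 0
    · rw [if_pos h, if_pos h, Nat.zero_sub, Tq_zero]
    · rw [if_neg h, if_neg h]
  | succ m ih =>
    rw [Tq_succ, ih]
    unfold sh
    by_cases h1 : s ≤ m
    · have h2 : s ≤ m + 1 := by omega
      rw [if_pos h1, if_pos h2, if_pos h2, Nat.succ_sub h1, Tq_succ]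
    · by_cases h2 : s ≤ m + 1
      · have h3 : m + 1 - s = 0 := by omega
        rw [if_neg h1, if_pos h2, if_pos h2, h3, Tq_zero]
        ring
      · rw [if_neg h1, if_neg h2, if_neg h2]
        ring

theorem Tq_nonneg {q : ℤ} (hq : 1 ≤ q) (f : ℕ → ℤ) (hf : ∀ j, 0 ≤ f j) (m : ℕ) :
    0 ≤ Tq q f m :=
  Finset.sum_nonneg fun j _ => mul_nonneg (pow_nonneg (by omega) _) (hf j)

theorem Tq_congr (q : ℤ) (f g : ℕ → ℤ) (h : ∀ j, f j = g j) (m : ℕ) : Tq q f m = Tq q g m := by
  have : f = g := funext h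
  rw [this]

/-- `W - q · sh_1 W = b` -/
theorem Tq_sub_sh_one (q : ℤ) (f : ℕ → ℤ) (m : ℕ) :
    Tq q f m - q * sh 1 (Tq q f) m = f m := by
  unfold sh
  rcases m with _ | m
  · simp [Tq_zero]
  · rw [if_pos (by omega), Tq_succ]
    simp

/-- the recursion for `W = Tq b` -/
theorem W_rec (q : ℤ) (k s m : ℕ) (hs : 1 ≤ s) :
    Tq q (bW q (k + 1) s) m - q * sh s (Tq q (bW q (k + 1) s)) m
      = Tq q (bW q k (s + 1)) m - sh s (Tq q (bW q k (s + 1))) m := by
  rw [← Tq_sh, ← Tq_sh, ← Tq_mul, ← Tq_sub, ← Tq_sub]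
  exact Tq_congr q _ _ (fun j => bW_rec' q k s j hs) m

theorem Tq_bW_zero (q : ℤ) (s m : ℕ) : Tq q (bW q 0 s) m = q ^ m := by
  induction m with
  | zero => rw [Tq_zero, bW_zero]; simp
  | succ m ih => rw [Tq_succ, ih, bW_zero]; simp [pow_succ]; ring

/-- key inequality, by induction on the number of admissible part sizes -/
theorem W_le {q : ℤ} (hq : 1 ≤ q) (k r n : ℕ) (hr : 1 ≤ r) :
    Tq q (bW q k (r + 1)) n - sh r (Tq q (bW q k (r + 1))) n ≤ q ^ n := by
  induction k generalizing r with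
  | zero =>
    have h1 : 0 ≤ sh r (Tq q (bW q 0 (r + 1))) n := by
      unfold sh
      split_ifs
      · exact Tq_nonneg hq _ (fun j => bW_nonneg hq _ _ _) _
      · exact le_refl _
    rw [Tq_bW_zero]
    linarith
  | succ k ih =>
    have h1 := W_rec q k (r + 1) n (by omega)
    have h2 := ih (r + 1) (by omega)
    -- q * sh (r+1) W n - sh r W n = - sh r b n ≤ 0
    have h3 : q * sh (r + 1) (Tq q (bW q (k + 1) (r + 1))) n
        - sh r (Tq q (bW q (k + 1) (r + 1))) n ≤ 0 := by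
      unfold sh
      by_cases hrn : r ≤ n
      · rw [if_pos hrn]
        have h4 := Tq_sub_sh_one q (bW q (k + 1) (r + 1)) (n - r)
        have h5 := bW_nonneg hq (k + 1) (r + 1) (n - r)
        unfold sh at h4
        by_cases h6 : r + 1 ≤ n
        · rw [if_pos h6]
          rw [if_pos (by omega)] at h4
          have e : n - r - 1 = n - (r + 1) := by omega
          rw [e] at h4
          linarith
        · rw [if_neg h6]
          rw [if_neg (by omega)] at h4
          linarith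
      · rw [if_neg hrn, if_neg (by omega)]
        simp
    linarith

/-- **Main inequality**: the weighted number of partitions of `n` (all part sizes) is at most
`q ^ n`. -/
theorem bW_le {q : ℤ} (hq : 1 ≤ q) (k n : ℕ) : bW q (k + 1) 1 n ≤ q ^ n := by
  have h1 := W_rec q k 1 n (le_refl 1)
  have h2 := Tq_sub_sh_one q (bW q (k + 1) 1) n
  have h3 := W_le hq k 1 n (le_refl 1)
  linarith

end Cfsg.Agent.Lib.Helper22.GLCls
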