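import Mathlib
import Cfsg.Agent.Lib.Helper22.GLClsA

/-! Counting monic polynomials with nonzero constant term over a finite field. -/

set_option autoImplicit false

namespace Cfsg.Agent.Lib.Helper22.GLCls

open Polynomial Finset

variable {F : Type*} [Field F] [Fintype F]

/-- number of vectors in `F^(b+1)` with nonzero first coordinate -/
theorem card_filter_head_ne_zero [DecidableEq F] (b : ℕ) :
    (univ.filter (fun v : Fin (b + 1) → F => v 0 ≠ 0)).card
      = Fintype.card F ^ (b + 1) - Fintype.card F ^ b := by
  have h1 : (univ.filter (fun v : Fin (b + 1) → F => v 0 ≠ 0)).card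
      + (univ.filter (fun v : Fin (b + 1) → F => ¬ (v 0 ≠ 0))).card
      = Fintype.card F ^ (b + 1) := by
    rw [Finset.card_filter_add_card_filter_not, Finset.card_univ, Fintype.card_fun, Fintype.card_fin]
  have h2 : (univ.filter (fun v : Fin (b + 1) → F => ¬ (v 0 ≠ 0))).card = Fintype.card F ^ b := by
    have : Fintype.card (Fin b → F) = Fintype.card F ^ b := by
      rw [Fintype.card_fun, Fintype.card_fin]
    rw [← this, ← Finset.card_univ]
    symm
    refine Finset.card_bij (fun w _ => Fin.cons 0 w) ?_ ?_ ?_
    · intro w _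
      simp
    · intro w _ w' _ h
      exact Fin.cons_right_injective (α := fun _ => F) 0 h
    · intro v hv
      refine ⟨Fin.tail v, Finset.mem_univ _, ?_⟩
      have hv0 : v 0 = 0 := by simpa using hv
      rw [← hv0]
      exact Fin.cons_self_tail v
  omega

theorem cW_card_eq (b : ℕ) :
    cW (Fintype.card F : ℤ) (b + 1) = ((Fintype.card F ^ (b + 1) - Fintype.card F ^ b : ℕ) : ℤ) := by
  unfold cW
  rw [if_neg (by omega)]
  have : Fintype.card F ^ b ≤ Fintype.card F ^ (b + 1) :=
    Nat.pow_le_pow_right Fintype.card_pos (by omega)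
  push_cast [this]
  simp

/-- two monic polynomials of the same degree with the same low coefficients are equal -/
theorem monic_ext_of_coeff_lt {p p' : F[X]} {a : ℕ} (hp : p.Monic) (hp' : p'.Monic)
    (hd : p.natDegree = a) (hd' : p'.natDegree = a)
    (h : ∀ i, i < a → p.coeff i = p'.coeff i) : p = p' := by
  ext i
  rcases lt_trichotomy i a with hi | hi | hi
  · exact h i hi
  · rw [hi]
    have h1 : p.coeff a = 1 := by rw [← hd]; exact hp.coeff_natDegree
    have h2 : p'.coeff a = 1 := by rw [← hd']; exact hp'.coeff_natDegree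
    rw [h1, h2]
  · rw [coeff_eq_zero_of_natDegree_lt (by omega), coeff_eq_zero_of_natDegree_lt (by omega)]

/-- a finite set of monic polynomials of degree `a` with nonzero constant term has at most
`cW q a` elements -/
theorem card_le_cW (a : ℕ) (T : Finset F[X])
    (hT : ∀ p ∈ T, p.Monic ∧ p.natDegree = a ∧ p.coeff 0 ≠ 0) :
    (T.card : ℤ) ≤ cW (Fintype.card F : ℤ) a := by
  classical
  rcases a with _ | b
  · rw [cW_zero]
    have : T ⊆ {1} := by
      intro p hp
      obtain ⟨h1, h2, -⟩ := hT p hp
      rw [Finset.mem_singleton]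
      exact h1.natDegree_eq_zero.mp h2
    have := Finset.card_le_card this
    simp at this
    exact_mod_cast this
  · rw [cW_card_eq, ← card_filter_head_ne_zero]
    norm_cast
    refine Finset.card_le_card_of_injOn (fun p (i : Fin (b + 1)) => p.coeff i) ?_ ?_
    · intro p hp
      obtain ⟨-, -, h3⟩ := hT p hp
      simpa using h3
    · intro p hp p' hp' h
      obtain ⟨h1, h2, -⟩ := hT p hp
      obtain ⟨h1', h2', -⟩ := hT p' hp'
      refine monic_ext_of_coeff_lt h1 h1' h2 h2' fun i hi => ?_
      exact congrFun h ⟨i, hi⟩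

/-- the monic polynomial of degree `n` with prescribed low coefficients -/
noncomputable def polyOf (n : ℕ) (v : Fin n → F) : F[X] :=
  X ^ n + ∑ i : Fin n, monomial (i : ℕ) (v i)

theorem polyOf_lowdeg (n : ℕ) (v : Fin n → F) :
    (∑ i : Fin n, monomial (i : ℕ) (v i)).degree < n := by
  refine lt_of_le_of_lt (degree_sum_le _ _) ?_
  refine (Finset.sup_lt_iff (WithBot.bot_lt_coe n)).mpr ?_
  intro i _
  exact lt_of_le_of_lt (degree_monomial_le _ _) (WithBot.coe_lt_coe.mpr i.2)

theorem polyOf_monic (n : ℕ) (v : Fin n → F) : (polyOf n v).Monic :=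
  monic_X_pow_add (polyOf_lowdeg n v)

theorem polyOf_natDegree (n : ℕ) (v : Fin n → F) : (polyOf n v).natDegree = n := by
  unfold polyOf
  rw [natDegree_add_eq_left_of_degree_lt]
  · simp
  · simpa using polyOf_lowdeg n v

theorem polyOf_coeff (n : ℕ) (v : Fin n → F) (i : Fin n) : (polyOf n v).coeff i = v i := by
  unfold polyOf
  rw [coeff_add, coeff_X_pow, if_neg (by omega), zero_add, finset_sum_coeff]
  rw [Finset.sum_eq_single i]
  · simp
  · intro j _ hj
    rw [coeff_monomial, if_neg]
    exact fun h => hj (Fin.ext h)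
  · intro h; exact absurd (Finset.mem_univ i) h

theorem polyOf_injective (n : ℕ) : Function.Injective (polyOf (F := F) n) := by
  intro v w h
  funext i
  rw [← polyOf_coeff n v i, ← polyOf_coeff n w i, h]

end Cfsg.Agent.Lib.Helper22.GLCls
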