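import Mathlib

/-! Primary decomposition data of the `F[X]`-module attached to a square matrix, and conjugacy of
matrices with the same data. -/

set_option autoImplicit false

namespace Cfsg.Agent.Lib.Helper22.GLCls

open Polynomial Module Finset

universe u

variable {F : Type u} [Field F]

/-- the cyclic module `F[X]/(g^j)` attached to a label `(g, j)` -/
abbrev NN (y : F[X] × ℕ) : Type u := F[X] ⧸ (F[X] ∙ (y.1 ^ y.2))

/-- a bijection between two finite families with the same fibre cardinalities -/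
theorem exists_equiv_of_card_fiber_eq {ι ι' Y : Type*} [Fintype ι] [Fintype ι'] [DecidableEq Y]
    (f : ι → Y) (f' : ι' → Y)
    (h : ∀ y, (univ.filter (fun i => f i = y)).card = (univ.filter (fun i => f' i = y)).card) :
    ∃ σ : ι ≃ ι', ∀ i, f' (σ i) = f i := by
  have h1 : ∀ y, Nonempty ({x // f x = y} ≃ {x // f' x = y}) := by
    intro y
    refine ⟨Fintype.equivOfCardEq ?_⟩
    rw [Fintype.card_subtype, Fintype.card_subtype]
    exact h y
  have eqv : ∀ y, {x // f x = y} ≃ {x // f' x = y} := fun y => (h1 y).some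
  refine ⟨(Equiv.sigmaFiberEquiv f).symm.trans
    ((Equiv.sigmaCongrRight eqv).trans (Equiv.sigmaFiberEquiv f')), ?_⟩
  intro i
  simp only [Equiv.trans_apply]
  have : (Equiv.sigmaFiberEquiv f).symm i = ⟨f i, ⟨i, rfl⟩⟩ := rfl
  rw [this]
  simp only [Equiv.sigmaCongrRight_apply, Equiv.sigmaFiberEquiv_apply]
  exact (eqv (f i) ⟨i, rfl⟩).2

/-- decomposition data of a square matrix -/
structure Dec (n : ℕ) (A : Matrix (Fin n) (Fin n) F) where
  ι : Type u
  fin : Fintype ι
  lab : ι → F[X] × ℕ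
  monic : ∀ i, (lab i).1.Monic
  irr : ∀ i, Irreducible (lab i).1
  pos : ∀ i, 1 ≤ (lab i).2
  iso : AEval' (Matrix.toLin' A) ≃ₗ[F[X]] (∀ i, NN (lab i))

attribute [instance] Dec.fin

/-- drop the trivial factors of a product of modules -/
noncomputable def piDropEquiv {R : Type*} [Semiring R] {ι : Type*} (M : ι → Type*)
    [∀ i, AddCommMonoid (M i)] [∀ i, Module R (M i)] (P : ι → Prop) [DecidablePred P]
    (h : ∀ i, ¬ P i → Subsingleton (M i)) :
    (∀ i, M i) ≃ₗ[R] (∀ i : {i // P i}, M i.1) where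
  toFun f := fun i => f i.1
  invFun g := fun i => if hi : P i then g ⟨i, hi⟩ else 0
  map_add' _ _ := rfl
  map_smul' _ _ := rfl
  left_inv f := by
    funext i
    by_cases hi : P i
    · simp [hi]
    · haveI := h i hi
      exact Subsingleton.elim _ _
  right_inv g := by
    funext i
    simp [i.2]

theorem span_pow_eq_of_associated {p p' : F[X]} (h : Associated p p') (e : ℕ) :
    (F[X] ∙ (p ^ e) : Submodule F[X] F[X]) = F[X] ∙ (p' ^ e) := by
  have h2 : Associated (p ^ e) (p' ^ e) := h.pow_pow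
  exact (Ideal.span_singleton_eq_span_singleton (α := F[X])).mpr h2

/-- every square matrix has decomposition data -/
theorem exists_dec (n : ℕ) (A : Matrix (Fin n) (Fin n) F) : Nonempty (Dec n A) := by
  classical
  set φ : (Fin n → F) →ₗ[F] (Fin n → F) := Matrix.toLin' A with hφ
  have hT : Module.IsTorsion F[X] (Module.AEval' φ) :=
    Module.AEval.isTorsion_of_finiteDimensional F (Fin n → F) φ
  obtain ⟨ι, _, p, hp, e, ⟨E⟩⟩ := Module.equiv_directSum_of_isTorsion hT
  let E1 : Module.AEval' φ ≃ₗ[F[X]] (∀ i, F[X] ⧸ F[X] ∙ p i ^ e i) :=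
    E.trans (DirectSum.linearEquivFunOnFintype F[X] ι _)
  let p' : ι → F[X] := fun i => normalize (p i)
  have hp0 : ∀ i, p i ≠ 0 := fun i => (hp i).ne_zero
  have hmon : ∀ i, (p' i).Monic := fun i => monic_normalize (hp0 i)
  have hirr : ∀ i, Irreducible (p' i) := fun i =>
    (normalize_associated (p i)).symm.irreducible (hp i)
  let E2 : (∀ i, F[X] ⧸ F[X] ∙ p i ^ e i) ≃ₗ[F[X]] (∀ i, NN (p' i, e i)) :=
    LinearEquiv.piCongrRight fun i =>
      Submodule.quotEquivOfEq _ _
        (span_pow_eq_of_associated (normalize_associated (p i)).symm (e i))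
  have hsub : ∀ i, ¬ (e i ≠ 0) → Subsingleton (NN (p' i, e i)) := by
    intro i hi
    have hi' : e i = 0 := not_not.mp hi
    have : (F[X] ∙ ((p' i, e i).1 ^ (p' i, e i).2) : Submodule F[X] F[X]) = ⊤ := by
      simp only [hi', pow_zero]
      exact Ideal.span_singleton_one
    exact Submodule.Quotient.subsingleton_iff.mpr this
  let E3 := piDropEquiv (R := F[X]) (fun i => NN (p' i, e i)) (fun i => e i ≠ 0) hsub
  exact ⟨{
    ι := {i // e i ≠ 0}
    fin := inferInstance
    lab := fun i => (p' i.1, e i.1)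
    monic := fun i => hmon i.1
    irr := fun i => hirr i.1
    pos := fun i => Nat.one_le_iff_ne_zero.mpr i.2
    iso := (E1.trans E2).trans E3 }⟩

theorem finrank_NN (y : F[X] × ℕ) (hy : y.1.Monic) :
    Module.finrank F (NN y) = y.2 * y.1.natDegree := by
  have h1 : Module.finrank F (F[X] ⧸ Ideal.span {y.1 ^ y.2}) = (y.1 ^ y.2).natDegree :=
    finrank_quotient_span_eq_natDegree
  rw [hy.natDegree_pow] at h1
  exact h1

theorem Dec.sum_eq {n : ℕ} {A : Matrix (Fin n) (Fin n) F} (d : Dec n A) :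
    ∑ i, (d.lab i).2 * (d.lab i).1.natDegree = n := by
  classical
  have h1 : Module.finrank F (AEval' (Matrix.toLin' A)) = n := by
    rw [← (AEval'.of (Matrix.toLin' A)).finrank_eq, Module.finrank_fin_fun]
  have h2 : Module.finrank F (AEval' (Matrix.toLin' A))
      = Module.finrank F (∀ i, NN (d.lab i)) :=
    (d.iso.restrictScalars F).finrank_eq
  haveI : ∀ i, Module.Finite F (NN (d.lab i)) := fun i =>
    ((d.monic i).pow (d.lab i).2).finite_quotient
  rw [Module.finrank_pi_fintype] at h2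
  rw [h1] at h2
  refine Eq.trans ?_ h2.symm
  exact Finset.sum_congr rfl fun i _ => (finrank_NN (d.lab i) (d.monic i)).symm

theorem Dec.coeff_zero_ne {n : ℕ} {A : Matrix (Fin n) (Fin n) F} (d : Dec n A)
    (hA : Function.Injective (Matrix.toLin' A)) (i : d.ι) : (d.lab i).1.coeff 0 ≠ 0 := by
  classical
  intro h0
  have hX : (d.lab i).1 = X := by
    have h1 : X ∣ (d.lab i).1 := X_dvd_iff.mpr h0
    have h2 : Associated X (d.lab i).1 := irreducible_X.associated_of_dvd (d.irr i) h1
    exact (eq_of_monic_of_associated monic_X (d.monic i) h2).symm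
  have hj1 : 1 ≤ (d.lab i).2 := d.pos i
  let a : NN (d.lab i) := Submodule.Quotient.mk (X ^ ((d.lab i).2 - 1))
  have ha0 : a ≠ 0 := by
    intro h
    rw [Submodule.Quotient.mk_eq_zero, Submodule.mem_span_singleton] at h
    obtain ⟨c, hc⟩ := h
    rw [hX, smul_eq_mul] at hc
    have hdvd : (X : F[X]) ^ (d.lab i).2 ∣ X ^ ((d.lab i).2 - 1) := ⟨c, by rw [← hc]; ring⟩
    rw [pow_dvd_pow_iff X_ne_zero not_isUnit_X] at hdvd
    omega
  have haX : (X : F[X]) • a = 0 := by
    change (X : F[X]) • (Submodule.Quotient.mk (X ^ ((d.lab i).2 - 1)) : NN (d.lab i)) = 0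
    rw [← Submodule.Quotient.mk_smul, Submodule.Quotient.mk_eq_zero, Submodule.mem_span_singleton]
    refine ⟨1, ?_⟩
    rw [hX, smul_eq_mul, smul_eq_mul, one_mul, ← pow_succ']
    congr 1
    omega
  let w : ∀ k, NN (d.lab k) := Pi.single i a
  have hw0 : w ≠ 0 := by
    intro h
    have := congrFun h i
    simp only [w, Pi.single_eq_same, Pi.zero_apply] at this
    exact ha0 this
  have hwX : (X : F[X]) • w = 0 := by
    funext k
    by_cases hk : k = i
    · subst hk
      simp only [w, Pi.smul_apply, Pi.single_eq_same, Pi.zero_apply]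
      exact haX
    · simp only [w, Pi.smul_apply, Pi.single_eq_of_ne hk, smul_zero, Pi.zero_apply]
  set z := d.iso.symm w with hz
  have hz0 : z ≠ 0 := by
    intro h
    apply hw0
    have := congrArg d.iso h
    simpa [hz] using this
  have hzX : (X : F[X]) • z = 0 := by
    rw [hz, ← map_smul, hwX, map_zero]
  have h3 := AEval'.of_symm_X_smul (Matrix.toLin' A) z
  rw [hzX, map_zero] at h3
  have h4 : (AEval'.of (Matrix.toLin' A)).symm z = 0 := by
    apply hA
    rw [← h3, map_zero]
  apply hz0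
  simpa using h4

/-- matrices whose modules are isomorphic are similar -/
theorem conj_of_iso {n : ℕ} {A A' : Matrix (Fin n) (Fin n) F}
    (ψ : AEval' (Matrix.toLin' A) ≃ₗ[F[X]] AEval' (Matrix.toLin' A')) :
    ∃ P : Matrix (Fin n) (Fin n) F, IsUnit P.det ∧ P * A = A' * P := by
  classical
  let L : (Fin n → F) ≃ₗ[F] (Fin n → F) :=
    (AEval'.of (Matrix.toLin' A)).trans
      ((ψ.restrictScalars F).trans (AEval'.of (Matrix.toLin' A')).symm)
  have hL : ∀ v, L (Matrix.toLin' A v) = Matrix.toLin' A' (L v) := by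
    intro v
    change (AEval'.of (Matrix.toLin' A')).symm (ψ (AEval'.of (Matrix.toLin' A) (Matrix.toLin' A v)))
      = Matrix.toLin' A' ((AEval'.of (Matrix.toLin' A')).symm (ψ (AEval'.of (Matrix.toLin' A) v)))
    rw [← AEval'.X_smul_of, map_smul, AEval'.of_symm_X_smul]
  refine ⟨LinearMap.toMatrix' L.toLinearMap, ?_, ?_⟩
  · have h1 : LinearMap.toMatrix' L.toLinearMap * LinearMap.toMatrix' L.symm.toLinearMap = 1 := by
      rw [← LinearMap.toMatrix'_comp]
      have : L.toLinearMap ∘ₗ L.symm.toLinearMap = LinearMap.id := by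
        ext v; simp
      rw [this, LinearMap.toMatrix'_id]
    exact Matrix.isUnit_det_of_right_inverse h1
  · have h2 : L.toLinearMap ∘ₗ Matrix.toLin' A = Matrix.toLin' A' ∘ₗ L.toLinearMap := by
      apply LinearMap.ext
      intro v
      exact hL v
    have h3 := congrArg LinearMap.toMatrix' h2
    rw [LinearMap.toMatrix'_comp, LinearMap.toMatrix'_comp, LinearMap.toMatrix'_toLin',
      LinearMap.toMatrix'_toLin'] at h3
    exact h3

theorem conj_of_equiv {n : ℕ} {A A' : Matrix (Fin n) (Fin n) F} (d : Dec n A) (d' : Dec n A')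
    (σ : d.ι ≃ d'.ι) (hσ : ∀ i, d'.lab (σ i) = d.lab i) :
    ∃ P : Matrix (Fin n) (Fin n) F, IsUnit P.det ∧ P * A = A' * P := by
  classical
  let e1 : (∀ i, NN (d.lab i)) ≃ₗ[F[X]] (∀ i, NN (d'.lab (σ i))) :=
    LinearEquiv.piCongrRight fun i =>
      Submodule.quotEquivOfEq _ _ (by rw [hσ i])
  let e2 : (∀ i, NN (d'.lab (σ i))) ≃ₗ[F[X]] (∀ i', NN (d'.lab i')) :=
    LinearEquiv.piCongrLeft F[X] (fun i' => NN (d'.lab i')) σ
  exact conj_of_iso (((d.iso.trans e1).trans e2).trans d'.iso.symm)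

end Cfsg.Agent.Lib.Helper22.GLCls
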