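import Mathlib
import Cfsg.Agent.Lib.Helper22.GLClsC

/-! The tuple invariant `(E_j)` of a decomposition: `E_j` = product of the irreducible labels of
exponent `j`.  Equal tuples give similar matrices. -/

set_option autoImplicit false

namespace Cfsg.Agent.Lib.Helper22.GLCls

open Polynomial Module Finset

universe u

variable {F : Type u} [Field F] {n : ℕ} {A A' : Matrix (Fin n) (Fin n) F}

/-- multiset of irreducible labels of exponent `j` -/
noncomputable def Dec.facs (d : Dec n A) (j : ℕ) : Multiset F[X] :=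
  (univ.filter (fun i => (d.lab i).2 = j)).val.map (fun i => (d.lab i).1)

/-- the tuple invariant -/
noncomputable def Dec.tup (d : Dec n A) (j : ℕ) : F[X] :=
  ∏ i ∈ univ.filter (fun i => (d.lab i).2 = j), (d.lab i).1

theorem Dec.tup_eq_prod (d : Dec n A) (j : ℕ) : d.tup j = (d.facs j).prod := by
  unfold Dec.tup Dec.facs
  rw [Finset.prod_eq_multiset_prod]

theorem Dec.normalizedFactors_tup [DecidableEq F] (d : Dec n A) (j : ℕ) :
    UniqueFactorizationMonoid.normalizedFactors (d.tup j) = d.facs j := by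
  rw [d.tup_eq_prod, UniqueFactorizationMonoid.normalizedFactors_prod_eq]
  · unfold Dec.facs
    rw [Multiset.map_map]
    refine Multiset.map_congr rfl fun i _ => ?_
    exact (d.monic i).normalize_eq_self
  · intro a ha
    unfold Dec.facs at ha
    obtain ⟨i, -, rfl⟩ := Multiset.mem_map.mp ha
    exact d.irr i

theorem Dec.count_facs [DecidableEq F[X]] (d : Dec n A) (g : F[X]) (j : ℕ) :
    (d.facs j).count g = (univ.filter (fun i => d.lab i = (g, j))).card := by
  unfold Dec.facs
  rw [Multiset.count_map]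
  rw [← Finset.filter_val, Finset.filter_filter, Finset.card_val]
  congr 1
  ext i
  simp only [Finset.mem_filter, Finset.mem_univ, true_and]
  constructor
  · rintro ⟨h1, h2⟩
    exact Prod.ext h2.symm h1
  · intro h
    rw [h]
    exact ⟨rfl, rfl⟩

/-- equal tuples give similar matrices -/
theorem conj_of_tup_eq (d : Dec n A) (d' : Dec n A') (h : d.tup = d'.tup) :
    ∃ P : Matrix (Fin n) (Fin n) F, IsUnit P.det ∧ P * A = A' * P := by
  classical
  have h1 : ∀ y : F[X] × ℕ, (univ.filter (fun i => d.lab i = y)).card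
      = (univ.filter (fun i => d'.lab i = y)).card := by
    rintro ⟨g, j⟩
    rw [← d.count_facs, ← d'.count_facs, ← d.normalizedFactors_tup, ← d'.normalizedFactors_tup, h]
  obtain ⟨σ, hσ⟩ := exists_equiv_of_card_fiber_eq d.lab d'.lab h1
  exact conj_of_equiv d d' σ hσ

theorem Dec.tup_monic (d : Dec n A) (j : ℕ) : (d.tup j).Monic :=
  monic_prod_of_monic _ _ fun i _ => d.monic i

theorem Dec.tup_coeff_zero_ne (d : Dec n A) (hA : Function.Injective (Matrix.toLin' A)) (j : ℕ) :
    (d.tup j).coeff 0 ≠ 0 := by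
  unfold Dec.tup
  rw [coeff_zero_eq_eval_zero, eval_prod, Finset.prod_ne_zero_iff]
  intro i _
  rw [← coeff_zero_eq_eval_zero]
  exact d.coeff_zero_ne hA i

theorem Dec.tup_natDegree (d : Dec n A) (j : ℕ) :
    (d.tup j).natDegree = ∑ i ∈ univ.filter (fun i => (d.lab i).2 = j), (d.lab i).1.natDegree :=
  natDegree_prod_of_monic _ _ fun i _ => d.monic i

theorem Dec.exp_le (d : Dec n A) (i : d.ι) : (d.lab i).2 ≤ n := by
  have h1 := d.sum_eq
  have h2 : (d.lab i).2 * (d.lab i).1.natDegree ≤ ∑ i, (d.lab i).2 * (d.lab i).1.natDegree :=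
    Finset.single_le_sum (f := fun i => (d.lab i).2 * (d.lab i).1.natDegree)
      (fun _ _ => Nat.zero_le _) (Finset.mem_univ i)
  have h3 : 1 ≤ (d.lab i).1.natDegree := (d.irr i).natDegree_pos
  calc (d.lab i).2 = (d.lab i).2 * 1 := (Nat.mul_one _).symm
    _ ≤ (d.lab i).2 * (d.lab i).1.natDegree := Nat.mul_le_mul_left _ h3
    _ ≤ n := by rw [h1] at h2; exact h2

theorem Dec.tup_eq_one (d : Dec n A) (j : ℕ) (hj : j ∉ Finset.Ico 1 (n + 1)) : d.tup j = 1 := by
  unfold Dec.tup
  rw [Finset.filter_eq_empty_iff.mpr, Finset.prod_empty]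
  intro i _ hi
  apply hj
  rw [Finset.mem_Ico, ← hi]
  exact ⟨d.pos i, Nat.lt_succ_of_le (d.exp_le i)⟩

theorem Dec.sum_tup (d : Dec n A) :
    ∑ j ∈ Finset.Ico 1 (n + 1), j * (d.tup j).natDegree = n := by
  have h1 : ∀ j ∈ Finset.Ico 1 (n + 1), j * (d.tup j).natDegree
      = ∑ i ∈ univ.filter (fun i => (d.lab i).2 = j), (d.lab i).2 * (d.lab i).1.natDegree := by
    intro j _
    rw [d.tup_natDegree, Finset.mul_sum]
    refine Finset.sum_congr rfl fun i hi => ?_
    rw [(Finset.mem_filter.mp hi).2]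
  rw [Finset.sum_congr rfl h1]
  rw [Finset.sum_fiberwise_of_maps_to (g := fun i => (d.lab i).2)
    (f := fun i => (d.lab i).2 * (d.lab i).1.natDegree)]
  · exact d.sum_eq
  · intro i _
    rw [Finset.mem_Ico]
    exact ⟨d.pos i, Nat.lt_succ_of_le (d.exp_le i)⟩

end Cfsg.Agent.Lib.Helper22.GLCls
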