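import Mathlib
import Cfsg.Agent.Lib.Helper22.GLClsB

/-! Counting tuples of monic polynomials with nonzero constant terms and prescribed weighted
degree: at most `bW q k s m` of them. -/

set_option autoImplicit false

namespace Cfsg.Agent.Lib.Helper22.GLCls

open Polynomial Finset

variable {F : Type*} [Field F] [Fintype F]

theorem card_le_bW (k : ℕ) : ∀ (s m : ℕ) (_ : 1 ≤ s) (S : Finset (ℕ → F[X])),
    (∀ E ∈ S, (∀ j, (E j).Monic ∧ (E j).coeff 0 ≠ 0) ∧
        ∑ j ∈ Finset.Ico s (s + k), j * (E j).natDegree = m) →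
    (∀ E ∈ S, ∀ E' ∈ S, (∀ j ∈ Finset.Ico s (s + k), E j = E' j) → E = E') →
    (S.card : ℤ) ≤ bW (Fintype.card F : ℤ) k s m := by
  classical
  have hq : (1 : ℤ) ≤ (Fintype.card F : ℤ) := by exact_mod_cast Fintype.card_pos
  induction k with
  | zero =>
    intro s m hs S h1 h2
    rcases S.eq_empty_or_nonempty with rfl | ⟨E0, hE0⟩
    · simpa using bW_nonneg hq 0 s m
    · have hm : m = 0 := by
        have := (h1 E0 hE0).2
        simpa using this.symm
      have hc : S.card ≤ 1 := by
        rw [Finset.card_le_one]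
        intro E hE E' hE'
        exact h2 E hE E' hE' (by simp)
      rw [bW_zero, if_pos hm]
      exact_mod_cast hc
  | succ k ih =>
    intro s m hs S h1 h2
    set q : ℤ := (Fintype.card F : ℤ) with hqdef
    -- fibres over the value at `s`
    set T : Finset F[X] := S.image (fun E => E s) with hT
    have hcard : S.card = ∑ P ∈ T, (S.filter (fun E => E s = P)).card :=
      Finset.card_eq_sum_card_image (fun E => E s) S
    have hsplit : ∀ E : ℕ → F[X], ∑ j ∈ Finset.Ico s (s + (k + 1)), j * (E j).natDegree
        = s * (E s).natDegree + ∑ j ∈ Finset.Ico (s + 1) (s + 1 + k), j * (E j).natDegree := by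
      intro E
      rw [Finset.sum_eq_sum_Ico_succ_bot (by omega)]
      have : s + (k + 1) = s + 1 + k := by omega
      rw [this]
    have hfib : ∀ P ∈ T, P.natDegree * s ≤ m ∧
        ((S.filter (fun E => E s = P)).card : ℤ) ≤ bW q k (s + 1) (m - P.natDegree * s) := by
      intro P hP
      obtain ⟨E0, hE0, rfl⟩ := Finset.mem_image.mp hP
      have hle : (E0 s).natDegree * s ≤ m := by
        have := (h1 E0 hE0).2
        rw [hsplit] at this
        rw [Nat.mul_comm]
        omega
      refine ⟨hle, ?_⟩
      apply ih (s + 1) (m - (E0 s).natDegree * s) (by omega)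
      · intro E hE
        obtain ⟨hES, hEs⟩ := Finset.mem_filter.mp hE
        refine ⟨(h1 E hES).1, ?_⟩
        have := (h1 E hES).2
        rw [hsplit, hEs] at this
        rw [Nat.mul_comm] at this
        omega
      · intro E hE E' hE' hagree
        obtain ⟨hES, hEs⟩ := Finset.mem_filter.mp hE
        obtain ⟨hES', hEs'⟩ := Finset.mem_filter.mp hE'
        apply h2 E hES E' hES'
        intro j hj
        rw [Finset.mem_Ico] at hj
        by_cases hjs : j = s
        · rw [hjs, hEs, hEs']
        · apply hagree j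
          rw [Finset.mem_Ico]
          omega
    have hdeg : ∀ P ∈ T, P.natDegree ∈ Finset.range (m / s + 1) := by
      intro P hP
      rw [Finset.mem_range, Nat.lt_succ_iff, Nat.le_div_iff_mul_le (by omega)]
      exact (hfib P hP).1
    have hTa : ∀ a : ℕ, ((T.filter (fun P => P.natDegree = a)).card : ℤ) ≤ cW q a := by
      intro a
      apply card_le_cW
      intro P hP
      obtain ⟨hPT, hPa⟩ := Finset.mem_filter.mp hP
      obtain ⟨E0, hE0, rfl⟩ := Finset.mem_image.mp hPT
      exact ⟨((h1 E0 hE0).1 s).1, hPa, ((h1 E0 hE0).1 s).2⟩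
    calc (S.card : ℤ) = ∑ P ∈ T, ((S.filter (fun E => E s = P)).card : ℤ) := by
          rw [hcard]; push_cast; rfl
      _ ≤ ∑ P ∈ T, bW q k (s + 1) (m - P.natDegree * s) :=
          Finset.sum_le_sum fun P hP => (hfib P hP).2
      _ = ∑ a ∈ Finset.range (m / s + 1), ∑ P ∈ T.filter (fun P => P.natDegree = a),
            bW q k (s + 1) (m - P.natDegree * s) :=
          (Finset.sum_fiberwise_of_maps_to hdeg _).symm
      _ = ∑ a ∈ Finset.range (m / s + 1),
            ((T.filter (fun P => P.natDegree = a)).card : ℤ) * bW q k (s + 1) (m - a * s) := by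
          refine Finset.sum_congr rfl fun a _ => ?_
          rw [Finset.sum_congr rfl (g := fun _ => bW q k (s + 1) (m - a * s))]
          · rw [Finset.sum_const, nsmul_eq_mul]
          · intro P hP
            rw [(Finset.mem_filter.mp hP).2]
      _ ≤ ∑ a ∈ Finset.range (m / s + 1), cW q a * bW q k (s + 1) (m - a * s) :=
          Finset.sum_le_sum fun a _ =>
            mul_le_mul_of_nonneg_right (hTa a) (bW_nonneg hq _ _ _)
      _ = bW q (k + 1) s m := (bW_succ q k s m).symm

end Cfsg.Agent.Lib.Helper22.GLCls
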