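import Mathlib
import Cfsg.Agent.Lib.Helper22.GLClsD
import Cfsg.Agent.Lib.Helper22.GLClsE
import Cfsg.Agent.Lib.Helper15.SemisimpleCount

/-! `q^n - q^(n-1) ≤ k(GL_n(q)) ≤ q^n`. -/

set_option autoImplicit false

namespace Cfsg.Agent.Lib.Helper22.GLCls

open Polynomial Module Finset

universe u

variable {F : Type u} [Field F]

theorem toLin'_injective_of_unit {n : ℕ} (g : (Matrix (Fin n) (Fin n) F)ˣ) :
    Function.Injective (Matrix.toLin' (g : Matrix (Fin n) (Fin n) F)) := by
  intro v w h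
  have h1 := congrArg (Matrix.toLin' ((g⁻¹ : (Matrix (Fin n) (Fin n) F)ˣ) : Matrix (Fin n) (Fin n) F)) h
  simp only [← LinearMap.comp_apply, ← Matrix.toLin'_mul, Units.inv_mul, Matrix.toLin'_one,
    LinearMap.id_apply] at h1
  exact h1

/-- the tuple invariant of a conjugacy class -/
noncomputable def clsTup (n : ℕ) (c : ConjClasses (Matrix.GeneralLinearGroup (Fin n) F)) :
    ℕ → F[X] :=
  (Classical.choice (exists_dec n ((Quotient.out c : Matrix.GeneralLinearGroup (Fin n) F) :
    Matrix (Fin n) (Fin n) F))).tup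

theorem clsTup_injective (n : ℕ) : Function.Injective (clsTup (F := F) n) := by
  intro c c' h
  obtain ⟨P, hP, hPA⟩ := conj_of_tup_eq _ _ h
  have hu : IsUnit P := (Matrix.isUnit_iff_isUnit_det P).mpr hP
  obtain ⟨Pu, rfl⟩ := hu
  have h1 : Pu * Quotient.out c = Quotient.out c' * Pu := by
    apply Units.ext
    simpa using hPA
  have h2 : IsConj (Quotient.out c) (Quotient.out c') := by
    rw [isConj_iff]
    exact ⟨Pu, by rw [h1, mul_assoc, mul_inv_cancel, mul_one]⟩
  have h3 := ConjClasses.mk_eq_mk_iff_isConj.mpr h2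
  have e1 : ConjClasses.mk (Quotient.out c) = c := Quotient.out_eq c
  have e2 : ConjClasses.mk (Quotient.out c') = c' := Quotient.out_eq c'
  rw [e1, e2] at h3
  exact h3

variable [Fintype F]

theorem card_conjClasses_le (n : ℕ) (hn : 1 ≤ n) :
    Nat.card (ConjClasses (Matrix.GeneralLinearGroup (Fin n) F)) ≤ Fintype.card F ^ n := by
  classical
  haveI : Fintype (ConjClasses (Matrix.GeneralLinearGroup (Fin n) F)) := Fintype.ofFinite _
  set S : Finset (ℕ → F[X]) := Finset.univ.image (clsTup (F := F) n) with hS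
  have hcard : S.card = Nat.card (ConjClasses (Matrix.GeneralLinearGroup (Fin n) F)) := by
    rw [hS, Finset.card_image_of_injective _ (clsTup_injective n), Finset.card_univ,
      Nat.card_eq_fintype_card]
  have hq : (1 : ℤ) ≤ (Fintype.card F : ℤ) := by exact_mod_cast Fintype.card_pos
  have h1 : (S.card : ℤ) ≤ bW (Fintype.card F : ℤ) n 1 n := by
    apply card_le_bW n 1 n (le_refl 1) S
    · intro E hE
      obtain ⟨c, -, rfl⟩ := Finset.mem_image.mp hE
      refine ⟨fun j => ⟨Dec.tup_monic _ j,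
        Dec.tup_coeff_zero_ne _ (toLin'_injective_of_unit _) j⟩, ?_⟩
      rw [Nat.add_comm 1 n]
      exact Dec.sum_tup _
    · intro E hE E' hE' hag
      obtain ⟨c, -, rfl⟩ := Finset.mem_image.mp hE
      obtain ⟨c', -, rfl⟩ := Finset.mem_image.mp hE'
      funext j
      by_cases hj : j ∈ Finset.Ico 1 (n + 1)
      · exact hag j (by rwa [Nat.add_comm 1 n])
      · unfold clsTup
        rw [Dec.tup_eq_one _ j hj, Dec.tup_eq_one _ j hj]
  obtain ⟨k, rfl⟩ : ∃ k, n = k + 1 := ⟨n - 1, by omega⟩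
  have h2 := bW_le hq k (k + 1)
  have h3 : (S.card : ℤ) ≤ ((Fintype.card F ^ (k + 1) : ℕ) : ℤ) := by
    push_cast
    exact le_trans h1 h2
  rw [← hcard]
  exact_mod_cast h3

theorem exists_unit_of_charpoly (n : ℕ) (χ : F[X]) (hmon : χ.Monic) (hdeg : χ.natDegree = n)
    (h0 : χ.coeff 0 ≠ 0) :
    ∃ g : Matrix.GeneralLinearGroup (Fin n) F, (g : Matrix (Fin n) (Fin n) F).charpoly = χ := by
  obtain ⟨M, hM, N, hN, hMN⟩ :=
    Cfsg.Agent.Lib.Helper15.SemisimpleCount.exists_matrix_of_charpoly n χ hmon hdeg h0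
  have hN0 : N ≠ 0 := by
    rintro rfl
    exact hN (by simp)
  obtain ⟨N', rfl⟩ := Nat.exists_eq_succ_of_ne_zero hN0
  have h1 : M * M ^ N' = 1 := by rw [← pow_succ', hMN]
  have h2 : M ^ N' * M = 1 := by rw [← pow_succ, hMN]
  exact ⟨⟨M, M ^ N', h1, h2⟩, hM⟩

theorem le_card_conjClasses (n : ℕ) (hn : 1 ≤ n) :
    Fintype.card F ^ n - Fintype.card F ^ (n - 1)
      ≤ Nat.card (ConjClasses (Matrix.GeneralLinearGroup (Fin n) F)) := by
  classical
  obtain ⟨b, rfl⟩ : ∃ b, n = b + 1 := ⟨n - 1, by omega⟩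
  haveI : Fintype (ConjClasses (Matrix.GeneralLinearGroup (Fin (b + 1)) F)) := Fintype.ofFinite _
  rw [Nat.add_sub_cancel, ← card_filter_head_ne_zero (F := F) b, Nat.card_eq_fintype_card,
    ← Finset.card_univ]
  have hex : ∀ v : Fin (b + 1) → F, v 0 ≠ 0 →
      ∃ g : Matrix.GeneralLinearGroup (Fin (b + 1)) F,
        (g : Matrix (Fin (b + 1)) (Fin (b + 1)) F).charpoly = polyOf (b + 1) v := by
    intro v hv
    apply exists_unit_of_charpoly (b + 1) _ (polyOf_monic _ v) (polyOf_natDegree _ v)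
    have := polyOf_coeff (b + 1) v 0
    simp only [Fin.val_zero] at this
    rw [this]
    exact hv
  let f : (Fin (b + 1) → F) → ConjClasses (Matrix.GeneralLinearGroup (Fin (b + 1)) F) :=
    fun v => if hv : v 0 ≠ 0 then ConjClasses.mk (hex v hv).choose else ConjClasses.mk 1
  refine Finset.card_le_card_of_injOn f (fun _ _ => Finset.mem_univ _) ?_
  intro v hv w hw hvw
  have hv' : v 0 ≠ 0 := by simpa using hv
  have hw' : w 0 ≠ 0 := by simpa using hw
  simp only [f, dif_pos hv', dif_pos hw'] at hvw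
  rw [ConjClasses.mk_eq_mk_iff_isConj, isConj_iff] at hvw
  obtain ⟨c, hc⟩ := hvw
  apply polyOf_injective (b + 1)
  rw [← (hex v hv').choose_spec, ← (hex w hw').choose_spec, ← hc]
  simp only [Units.val_mul]
  rw [Matrix.coe_units_inv, Matrix.charpoly_units_conj]

end Cfsg.Agent.Lib.Helper22.GLCls
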