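import Mathlib
import Cfsg.Prelude.Def_ClassicalGeometry
import Cfsg.Prelude.Def_GeometricClasses
import Cfsg.Agent.Lib.Helper5.SpMax
import Cfsg.Agent.Lib.Helper22.C3Defs
import Cfsg.Agent.Lib.Helper22.C3Tool
import Cfsg.Agent.Lib.Helper23.C3E

/-!
S5804 conjunct (6) (`GU_3(q).2 < Sp_6(q)`, q odd), helper22: the existence lemma E1 of the S5665 tower for
J-invariant, f-nondegenerate, proper subspaces (valid for every `m`), and its four shapes.
-/

set_option autoImplicit false
set_option linter.unusedVariables false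
set_option linter.unusedSimpArgs false

namespace Cfsg.Agent.Lib.Helper22.GU3Leaf
open Cfsg Matrix Cfsg.Agent.Lib.Helper5 Cfsg.Agent.Lib.Helper5.SpMax Cfsg.Agent.Lib.Helper22.C3
  Cfsg.Agent.Lib.Helper22.C3Leaf Cfsg.Agent.Lib.Helper23.C3Leaf

variable {F : Type*} [Field F] {m : ℕ}

local notation "𝕍" => (Fin m ⊕ Fin m → F)
local notation "𝕄" => Matrix (Fin m ⊕ Fin m) (Fin m ⊕ Fin m) F

/-- E1 (general): a J-invariant, f-nondegenerate, proper subspace has a non-singular vector in its perp -/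
theorem exists_nonsing_perp_nd (S : CS m F) (h2 : (2 : F) ≠ 0) (W : Submodule F 𝕍)
    (hJ : ∀ w ∈ W, S.J *ᵥ w ∈ W)
    (hnd : ∀ w ∈ W, (∀ w' ∈ W, sympForm m F w w' = 0) → w = 0)
    (hW : W ≠ ⊤) : ∃ v : 𝕍, S.N v ≠ 0 ∧ ∀ w ∈ W, sympForm m F v w = 0 := by
  set B : LinearMap.BilinForm F 𝕍 := Bform m F with hB
  set X := LinearMap.BilinForm.orthogonal B W with hX
  have hXfr : Module.finrank F X = 2 * m - Module.finrank F W := by
    rw [hX, LinearMap.BilinForm.finrank_orthogonal Bform_nondegenerate, finrank_V]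
  have hXmem : ∀ v ∈ X, ∀ w ∈ W, sympForm m F w v = 0 := fun v hv w hw => hv w hw
  by_contra hcon
  push Not at hcon
  -- `N` vanishes on `X`
  have hN : ∀ v ∈ X, S.N v = 0 := by
    intro v hv
    by_contra hv0
    obtain ⟨w, hw, hvw⟩ := hcon v hv0
    apply hvw
    rw [sympForm_swap, hXmem v hv w hw, neg_zero]
  -- polarise
  have hpol : ∀ u ∈ X, ∀ u' ∈ X, sympForm m F u (S.J *ᵥ u') = 0 := by
    intro u hu u' hu'
    have h := N_add S u u'
    rw [hN u hu, hN u' hu', hN (u + u') (X.add_mem hu hu'), zero_add, zero_add] at h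
    exact (mul_eq_zero.mp h.symm).resolve_left h2
  -- `X` is `J`-invariant
  have hJX : ∀ u ∈ X, S.J *ᵥ u ∈ X := by
    intro u hu w hw
    change sympForm m F w (S.J *ᵥ u) = 0
    rw [form_J_symm, sympForm_swap, hXmem u hu _ (hJ w hw), neg_zero]
  -- `X` is totally isotropic
  have hiso : ∀ u ∈ X, ∀ u' ∈ X, sympForm m F u u' = 0 := by
    intro u hu u' hu'
    have h := hpol u hu _ (hJX u' hu')
    rw [S.JJ, sympForm_smul_right] at h
    exact (mul_eq_zero.mp h).resolve_left S.δ_ne_zero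
  -- `W = X^⊥`
  have hWX : W ≤ LinearMap.BilinForm.orthogonal B X := by
    intro w hw u hu
    change sympForm m F u w = 0
    rw [sympForm_swap, hXmem u hu w hw, neg_zero]
  have hWle : Module.finrank F W ≤ 2 * m := by
    have := Submodule.finrank_le W
    rwa [finrank_V] at this
  have hWeq : W = LinearMap.BilinForm.orthogonal B X := by
    apply Submodule.eq_of_le_of_finrank_le hWX
    rw [LinearMap.BilinForm.finrank_orthogonal Bform_nondegenerate, finrank_V, hXfr]
    omega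
  -- so `X ≤ W`, and `X = ⊥`
  have hX0 : ∀ u ∈ X, u = 0 := by
    intro u hu
    have huW : u ∈ W := by
      rw [hWeq]
      intro u' hu'
      exact hiso u' hu' u hu
    apply hnd u huW
    intro w' hw'
    rw [sympForm_swap, hXmem u hu w' hw', neg_zero]
  have hXbot : X = ⊥ := by
    rw [eq_bot_iff]
    intro u hu
    rw [Submodule.mem_bot]
    exact hX0 u hu
  rw [hXbot, finrank_bot] at hXfr
  apply hW
  apply Submodule.eq_top_of_finrank_eq
  rw [finrank_V]
  omega

/-- a span of at most four vectors is proper when `3 ≤ m` -/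
lemma span_ne_top_of_card {s : Finset 𝕍} {k : ℕ} (hs : s.card ≤ k) (hk : k < 2 * m) :
    Submodule.span F (s : Set 𝕍) ≠ ⊤ := by
  intro h
  have h1 := finrank_span_finset_le_card (R := F) s
  unfold Set.finrank at h1
  rw [h, finrank_top, finrank_V] at h1
  omega

theorem exists_nonsing3 (S : CS m F) (hm : 1 ≤ m) (h2 : (2 : F) ≠ 0) : ∃ v : 𝕍, S.N v ≠ 0 := by
  obtain ⟨v, hv, -⟩ := exists_nonsing_perp_nd S h2 ⊥
    (fun w hw => by rw [(Submodule.mem_bot F).mp hw, Matrix.mulVec_zero]; exact Submodule.zero_mem _)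
    (fun w hw _ => (Submodule.mem_bot F).mp hw)
    (by
      intro h
      have h1 : Module.finrank F (⊥ : Submodule F 𝕍) = 0 := finrank_bot F 𝕍
      rw [h, finrank_top, finrank_V] at h1
      omega)
  exact ⟨v, hv⟩

theorem exists_perp_line3 (S : CS m F) (hm : 2 ≤ m) (h2 : (2 : F) ≠ 0) (x : 𝕍) (hx : S.N x ≠ 0) :
    ∃ y : 𝕍, S.N y ≠ 0 ∧ sympForm m F y x = 0 ∧ sympForm m F y (S.J *ᵥ x) = 0 := by
  classical
  have hNx : sympForm m F x (S.J *ᵥ x) = S.N x := rfl
  obtain ⟨y, hy, hperp⟩ := exists_nonsing_perp_nd S h2 (Submodule.span F {x, S.J *ᵥ x})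
    (by
      intro w hw
      obtain ⟨a, b, rfl⟩ := Submodule.mem_span_pair.mp hw
      rw [Matrix.mulVec_add, Matrix.mulVec_smul, Matrix.mulVec_smul, S.JJ, smul_smul]
      apply Submodule.mem_span_pair.mpr
      exact ⟨b * S.δ, a, by rw [add_comm]⟩)
    (by
      intro w hw hperp
      obtain ⟨a, b, rfl⟩ := Submodule.mem_span_pair.mp hw
      have e1 := hperp x (Submodule.subset_span (Set.mem_insert _ _))
      have e2 := hperp (S.J *ᵥ x) (Submodule.subset_span (Set.mem_insert_of_mem _ rfl))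
      simp only [sympForm_add_left, sympForm_smul_left, sympForm_self, S.form_J_self, hNx,
        S.form_JJ] at e1 e2
      have hb : b = 0 := by
        have : b * S.N x = 0 := by linear_combination -e1
        exact (mul_eq_zero.mp this).resolve_right hx
      have ha : a = 0 := by
        rw [hb] at e2
        have : a * S.N x = 0 := by linear_combination e2
        exact (mul_eq_zero.mp this).resolve_right hx
      rw [ha, hb, zero_smul, zero_smul, add_zero])
    (by
      have h := span_ne_top_of_card (m := m) (s := ({x, S.J *ᵥ x} : Finset 𝕍)) (k := 2)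
        Finset.card_le_two (by omega)
      simpa using h)
  exact ⟨y, hy, hperp _ (Submodule.subset_span (Set.mem_insert _ _)),
    hperp _ (Submodule.subset_span (Set.mem_insert_of_mem _ rfl))⟩

/-- membership in a sum of two planes -/
lemma mem_sup_pair {a b c d w : 𝕍} :
    w ∈ Submodule.span F {a, b} ⊔ Submodule.span F {c, d} ↔
      ∃ p q r t : F, w = p • a + q • b + r • c + t • d := by
  constructor
  · intro h
    obtain ⟨w₁, h₁, w₂, h₂, rfl⟩ := Submodule.mem_sup.mp h
    obtain ⟨p, q, rfl⟩ := Submodule.mem_span_pair.mp h₁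
    obtain ⟨r, t, rfl⟩ := Submodule.mem_span_pair.mp h₂
    exact ⟨p, q, r, t, by abel⟩
  · rintro ⟨p, q, r, t, rfl⟩
    rw [add_assoc]
    exact Submodule.add_mem_sup (Submodule.mem_span_pair.mpr ⟨p, q, rfl⟩)
      (Submodule.mem_span_pair.mpr ⟨r, t, rfl⟩)

lemma sup_pair_ne_top (hm : 3 ≤ m) (a b c d : 𝕍) :
    Submodule.span F {a, b} ⊔ Submodule.span F {c, d} ≠ ⊤ := by
  classical
  intro h
  have h1 : Module.finrank F (Submodule.span F {a, b} : Submodule F 𝕍) ≤ 2 := by
    have h := finrank_span_finset_le_card (R := F) ({a, b} : Finset 𝕍)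
    unfold Set.finrank at h
    have h' : ((({a, b} : Finset 𝕍)) : Set 𝕍) = {a, b} := by simp
    rw [h'] at h
    exact h.trans Finset.card_le_two
  have h2 : Module.finrank F (Submodule.span F {c, d} : Submodule F 𝕍) ≤ 2 := by
    have h := finrank_span_finset_le_card (R := F) ({c, d} : Finset 𝕍)
    unfold Set.finrank at h
    have h' : ((({c, d} : Finset 𝕍)) : Set 𝕍) = {c, d} := by simp
    rw [h'] at h
    exact h.trans Finset.card_le_two
  have h3 := Submodule.finrank_add_le_finrank_add_finrank (Submodule.span F {a, b})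
    (Submodule.span F {c, d})
  rw [h, finrank_top, finrank_V] at h3
  omega

theorem exists_perp_pair3 (S : CS m F) (hm : 3 ≤ m) (h2 : (2 : F) ≠ 0) (x u : 𝕍) (hx : S.N x ≠ 0)
    (hu : S.N u ≠ 0) (hux : sympForm m F u x = 0) (huJx : sympForm m F u (S.J *ᵥ x) = 0) :
    ∃ y : 𝕍, S.N y ≠ 0 ∧ sympForm m F y x = 0 ∧ sympForm m F y (S.J *ᵥ x) = 0 ∧
      sympForm m F y u = 0 ∧ sympForm m F y (S.J *ᵥ u) = 0 := by
  have hNx : sympForm m F x (S.J *ᵥ x) = S.N x := rfl
  have hNu : sympForm m F u (S.J *ᵥ u) = S.N u := rfl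
  have hxu : sympForm m F x u = 0 := by rw [sympForm_swap, hux, neg_zero]
  have hxJu : sympForm m F x (S.J *ᵥ u) = 0 := by rw [form_J_symm, huJx]
  obtain ⟨y, hy, hperp⟩ := exists_nonsing_perp_nd S h2
    (Submodule.span F {x, S.J *ᵥ x} ⊔ Submodule.span F {u, S.J *ᵥ u})
    (by
      intro w hw
      obtain ⟨p, q, r, t, rfl⟩ := mem_sup_pair.mp hw
      apply mem_sup_pair.mpr
      refine ⟨q * S.δ, p, t * S.δ, r, ?_⟩
      simp only [Matrix.mulVec_add, Matrix.mulVec_smul, S.JJ, smul_smul]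
      abel)
    (by
      intro w hw hperp
      obtain ⟨p, q, r, t, rfl⟩ := mem_sup_pair.mp hw
      have e1 := hperp x (mem_sup_pair.mpr ⟨1, 0, 0, 0, by simp⟩)
      have e2 := hperp (S.J *ᵥ x) (mem_sup_pair.mpr ⟨0, 1, 0, 0, by simp⟩)
      have e3 := hperp u (mem_sup_pair.mpr ⟨0, 0, 1, 0, by simp⟩)
      have e4 := hperp (S.J *ᵥ u) (mem_sup_pair.mpr ⟨0, 0, 0, 1, by simp⟩)
      simp only [sympForm_add_left, sympForm_smul_left, sympForm_self, S.form_J_self, hNx, hNu,
        S.form_JJ, S.skew, hux, huJx, hxu, hxJu] at e1 e2 e3 e4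
      have hq : q = 0 := by
        have : q * S.N x = 0 := by linear_combination -e1
        exact (mul_eq_zero.mp this).resolve_right hx
      have hp : p = 0 := by
        have : p * S.N x = 0 := by linear_combination e2
        exact (mul_eq_zero.mp this).resolve_right hx
      have ht : t = 0 := by
        have : t * S.N u = 0 := by linear_combination -e3
        exact (mul_eq_zero.mp this).resolve_right hu
      have hr : r = 0 := by
        have : r * S.N u = 0 := by linear_combination e4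
        exact (mul_eq_zero.mp this).resolve_right hu
      rw [hp, hq, hr, ht]
      simp)
    (sup_pair_ne_top hm _ _ _ _)
  exact ⟨y, hy, hperp _ (mem_sup_pair.mpr ⟨1, 0, 0, 0, by simp⟩),
    hperp _ (mem_sup_pair.mpr ⟨0, 1, 0, 0, by simp⟩),
    hperp _ (mem_sup_pair.mpr ⟨0, 0, 1, 0, by simp⟩),
    hperp _ (mem_sup_pair.mpr ⟨0, 0, 0, 1, by simp⟩)⟩

theorem exists_perp_hyp3 (S : CS m F) (hm : 3 ≤ m) (h2 : (2 : F) ≠ 0) (x₀ y₀ : 𝕍)
    (h₀ : sympForm m F x₀ y₀ = 1) (hN : ∀ u ∈ Submodule.span F {x₀, y₀}, S.N u = 0) :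
    ∃ v₁ : 𝕍, S.N v₁ ≠ 0 ∧ sympForm m F v₁ x₀ = 0 ∧ sympForm m F v₁ y₀ = 0 ∧
      sympForm m F v₁ (S.J *ᵥ x₀) = 0 ∧ sympForm m F v₁ (S.J *ᵥ y₀) = 0 := by
  have hx₀ : sympForm m F x₀ (S.J *ᵥ x₀) = 0 := hN x₀ (Submodule.subset_span (Set.mem_insert _ _))
  have hy₀ : sympForm m F y₀ (S.J *ᵥ y₀) = 0 :=
    hN y₀ (Submodule.subset_span (Set.mem_insert_of_mem _ rfl))
  have hyJx : sympForm m F y₀ (S.J *ᵥ x₀) = sympForm m F x₀ (S.J *ᵥ y₀) := by
    rw [sympForm_swap, S.skew, neg_neg]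
  have hxy₀ : sympForm m F x₀ (S.J *ᵥ y₀) = 0 := by
    have h := hN (x₀ + y₀) (Submodule.add_mem _ (Submodule.subset_span (Set.mem_insert _ _))
      (Submodule.subset_span (Set.mem_insert_of_mem _ rfl)))
    unfold CS.N at h
    rw [Matrix.mulVec_add] at h
    simp only [sympForm_add_left, sympForm_add_right, hx₀, hy₀, hyJx] at h
    have h3 : (2 : F) * sympForm m F x₀ (S.J *ᵥ y₀) = 0 := by linear_combination h
    rcases mul_eq_zero.mp h3 with h4 | h4
    · exact absurd h4 h2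
    · exact h4
  have hyJx0 : sympForm m F y₀ (S.J *ᵥ x₀) = 0 := by rw [hyJx, hxy₀]
  have hyx : sympForm m F y₀ x₀ = -1 := by rw [sympForm_swap, h₀]
  have hδ := S.δ_ne_zero
  obtain ⟨y, hy, hperp⟩ := exists_nonsing_perp_nd S h2
    (Submodule.span F {x₀, y₀} ⊔ Submodule.span F {S.J *ᵥ x₀, S.J *ᵥ y₀})
    (by
      intro w hw
      obtain ⟨p, q, r, t, rfl⟩ := mem_sup_pair.mp hw
      apply mem_sup_pair.mpr
      refine ⟨r * S.δ, t * S.δ, p, q, ?_⟩
      simp only [Matrix.mulVec_add, Matrix.mulVec_smul, S.JJ, smul_smul]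
      abel)
    (by
      intro w hw hperp
      obtain ⟨p, q, r, t, rfl⟩ := mem_sup_pair.mp hw
      have e1 := hperp x₀ (mem_sup_pair.mpr ⟨1, 0, 0, 0, by simp⟩)
      have e2 := hperp y₀ (mem_sup_pair.mpr ⟨0, 1, 0, 0, by simp⟩)
      have e3 := hperp (S.J *ᵥ x₀) (mem_sup_pair.mpr ⟨0, 0, 1, 0, by simp⟩)
      have e4 := hperp (S.J *ᵥ y₀) (mem_sup_pair.mpr ⟨0, 0, 0, 1, by simp⟩)
      simp only [sympForm_add_left, sympForm_smul_left, sympForm_self, S.form_JJ, S.skew, h₀, hyx,
        hx₀, hy₀, hxy₀, hyJx0] at e1 e2 e3 e4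
      have hq : q = 0 := by linear_combination -e1
      have hp : p = 0 := by linear_combination e2
      have ht : t = 0 := by
        have : S.δ * t = 0 := by linear_combination e3
        exact (mul_eq_zero.mp this).resolve_left hδ
      have hr : r = 0 := by
        have : S.δ * r = 0 := by linear_combination -e4
        exact (mul_eq_zero.mp this).resolve_left hδ
      rw [hp, hq, hr, ht]
      simp)
    (sup_pair_ne_top hm _ _ _ _)
  exact ⟨y, hy, hperp _ (mem_sup_pair.mpr ⟨1, 0, 0, 0, by simp⟩),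
    hperp _ (mem_sup_pair.mpr ⟨0, 1, 0, 0, by simp⟩),
    hperp _ (mem_sup_pair.mpr ⟨0, 0, 1, 0, by simp⟩),
    hperp _ (mem_sup_pair.mpr ⟨0, 0, 0, 1, by simp⟩)⟩

end Cfsg.Agent.Lib.Helper22.GU3Leaf
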