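import Mathlib
import Cfsg.Prelude.Def_ClassicalGeometry
import Cfsg.Prelude.Def_GeometricClasses
import Cfsg.Agent.Lib.Helper22.C3Tool
import Cfsg.Agent.Lib.Helper12.C3Acore
import Cfsg.Agent.Lib.Helper23.C3E
import Cfsg.Agent.Lib.Helper6.C3P
import Cfsg.Agent.Lib.Helper6.C3L0
import Cfsg.Agent.S5665
import Cfsg.Agent.Lib.Helper22.GU3E1
import Cfsg.Agent.Lib.Helper20.GU3E3
import Cfsg.Agent.Lib.Helper20.GU3B
import Cfsg.Agent.Lib.Helper19.GU3G
import Cfsg.Agent.Lib.Helper19.GU3G2
import Cfsg.Agent.Lib.Helper7.GU3CI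

/-!
S5804 conjunct (6), helper22: `GU_m(q).2 < Sp_{2m}(q)`, q odd, for `3 ≤ m` (assembly of the GU3 market,
notes/S5804_GU3_leaves.lean; the glue is the body of `Cfsg.Agent.S5665.result`).
-/

set_option autoImplicit false
open Cfsg

namespace Cfsg.Agent.Lib.Helper22.GU3Main
open Matrix Cfsg.Agent.Lib.Helper5 Cfsg.Agent.Lib.Helper5.SpMax Cfsg.Agent.Lib.Helper22.C3
  Cfsg.Agent.Lib.Helper22.C3Leaf Cfsg.Agent.Lib.Helper22.GU3Leaf
open Cfsg.Agent.Lib.Helper20.GU3Leaf (exists_sing_of3 exists_plane_of_singular_plane_of3)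
open Cfsg.Agent.Lib.Helper19.GU3Leaf (nonsing_mem_Sset_of3 le_of_nonsing_mem_Sset)
open Cfsg.Agent.Lib.Helper7.GU3Leaf (exists_line_not_invariant_of3)

/-- **ASSEMBLY** (helper22): S5665 (`GU_m(q).2 < Sp_{2m}(q)`, q odd) with `3 ≤ m` = conjunct (6) of S5804 at m = 3. -/
theorem gu_max3 {F : Type*} [Field F] [Fintype F] (m : ℕ) (hm : 3 ≤ m) (hodd : Odd (Fintype.card F)) (K : Subalgebra F (Matrix (Fin m ⊕ Fin m) (Fin m ⊕ Fin m) F)) (hK : Cfsg.Geo.IsFieldSubalgebra 2 K) (hac : Cfsg.Geo.IsAdjointClosedFor (Cfsg.sympForm m F) K) (hnsa : ¬ Cfsg.Geo.IsSelfAdjointFor (Cfsg.sympForm m F) K) : Cfsg.Geo.IsMaximalIn (Cfsg.spGL m F) (Cfsg.Geo.subalgebraNormalizer K ⊓ Cfsg.spGL m F) := by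
  classical
  obtain ⟨S, hS⟩ := Cfsg.Agent.Lib.Helper6.C3Leaf.exists_CS hodd K hK hac hnsa
  have h2 : (2 : F) ≠ 0 := by
    intro h
    have hch : ringChar F = 2 := by
      have : ringChar F ∣ 2 := by
        apply (ringChar.spec F 2).mp
        exact_mod_cast h
      rcases (Nat.dvd_prime Nat.prime_two).mp this with h1 | h1
      · exact absurd h1 (CharP.ringChar_ne_one)
      · exact h1
    have h3 : (2 : ℕ) ∣ Fintype.card F := by
      obtain ⟨n, hp, hn⟩ := FiniteField.card F (ringChar F)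
      rw [hn, hch]
      exact dvd_pow_self 2 n.ne_zero
    exact (Nat.not_even_iff_odd.mpr hodd) (even_iff_two_dvd.mpr h3)
  refine ⟨?_, ?_⟩
  · -- proper
    refine lt_of_le_of_ne inf_le_right ?_
    intro heq
    have h0 : 0 < m := by omega
    set v : Fin m ⊕ Fin m → F := Pi.single (Sum.inl ⟨0, h0⟩) 1 with hv
    have hv0 : v ≠ 0 := by
      intro h
      have := congrFun h (Sum.inl ⟨0, h0⟩)
      simp [hv] at this
    have h1 : tvc v 1 ∈ Cfsg.Geo.subalgebraNormalizer K ⊓ Cfsg.spGL m F := by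
      rw [heq]; exact tvc_mem v 1
    exact Cfsg.Agent.Lib.Helper6.C3Leaf.tvc_not_comm S h2 v hv0 ((hS _).mp h1.1)
  · intro M hHM hMS
    by_cases hMH : M ≤ Cfsg.Geo.subalgebraNormalizer K ⊓ Cfsg.spGL m F
    · left; exact le_antisymm hMH hHM
    · right
      obtain ⟨g, hgM, hgH⟩ := SetLike.not_le_iff_exists.mp hMH
      have hg : g ∈ spGL m F := hMS hgM
      have hgJ : ¬ ((g : Matrix (Fin m ⊕ Fin m) (Fin m ⊕ Fin m) F) * S.J = S.J * (g : Matrix (Fin m ⊕ Fin m) (Fin m ⊕ Fin m) F) ∨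
          (g : Matrix (Fin m ⊕ Fin m) (Fin m ⊕ Fin m) F) * S.J = -(S.J * (g : Matrix (Fin m ⊕ Fin m) (Fin m ⊕ Fin m) F))) :=
        fun h => hgH ⟨(hS g).mpr h, hg⟩
      have hM : ∀ g ∈ spGL m F, (g : Matrix (Fin m ⊕ Fin m) (Fin m ⊕ Fin m) F) * S.J
          = S.J * (g : Matrix (Fin m ⊕ Fin m) (Fin m ⊕ Fin m) F) → g ∈ M :=
        fun g hg h => hHM ⟨(hS g).mpr (Or.inl h), hg⟩
      obtain ⟨v, hv, hvJ⟩ := exists_line_not_invariant_of3 S h2 (exists_nonsing3 S (by omega) h2)
        (fun x hx => exists_perp_line3 S (by omega) h2 x hx) g hg hgJ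
      -- the plane
      obtain ⟨x₀, hx₀⟩ : ∃ x₀ : Fin m ⊕ Fin m → F,
          x₀ = (g : Matrix (Fin m ⊕ Fin m) (Fin m ⊕ Fin m) F) *ᵥ v := ⟨_, rfl⟩
      obtain ⟨y₀, hy₀⟩ : ∃ y₀ : Fin m ⊕ Fin m → F,
          y₀ = (g : Matrix (Fin m ⊕ Fin m) (Fin m ⊕ Fin m) F) *ᵥ ((S.N v)⁻¹ • (S.J *ᵥ v)) := ⟨_, rfl⟩
      have h₀ : sympForm m F x₀ y₀ = 1 := by
        rw [hx₀, hy₀, mem_spGL.mp hg]; exact S.form_self_scaled hv
      have hz : zpl x₀ y₀ h₀ ∈ M := by
        have : g * S.zK v hv * g⁻¹ = zpl x₀ y₀ h₀ := by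
          subst hx₀ hy₀
          exact conj_zpl hg _ _ _
        rw [← this]
        exact M.mul_mem (M.mul_mem hgM (hM _ (S.zK_mem v hv) (zK_comm S v hv))) (M.inv_mem hgM)
      have hgJv : (g : Matrix (Fin m ⊕ Fin m) (Fin m ⊕ Fin m) F) *ᵥ (S.J *ᵥ v) = S.N v • y₀ := by
        rw [hy₀, Matrix.mulVec_smul, smul_smul, mul_inv_cancel₀ hv, one_smul]
      have hspan : Submodule.span F {x₀, y₀} = Submodule.span F
          {(g : Matrix (Fin m ⊕ Fin m) (Fin m ⊕ Fin m) F) *ᵥ v,
           (g : Matrix (Fin m ⊕ Fin m) (Fin m ⊕ Fin m) F) *ᵥ (S.J *ᵥ v)} := by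
        rw [← hx₀, hgJv]
        apply le_antisymm
        · rw [Submodule.span_le, Set.insert_subset_iff, Set.singleton_subset_iff]
          refine ⟨Submodule.subset_span (Set.mem_insert _ _), ?_⟩
          have h3 : y₀ = (S.N v)⁻¹ • (S.N v • y₀) := by
            rw [smul_smul, inv_mul_cancel₀ hv, one_smul]
          have h4 : S.N v • y₀ ∈ Submodule.span F {x₀, S.N v • y₀} :=
            Submodule.subset_span (Set.mem_insert_of_mem _ rfl)
          have h5 := Submodule.smul_mem _ (S.N v)⁻¹ h4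
          rwa [← h3] at h5
        · rw [Submodule.span_le, Set.insert_subset_iff, Set.singleton_subset_iff]
          exact ⟨Submodule.subset_span (Set.mem_insert _ _),
            Submodule.smul_mem _ _ (Submodule.subset_span (Set.mem_insert_of_mem _ rfl))⟩
      -- get a plane involution in M to which A applies
      have hA : ∃ (x y : Fin m ⊕ Fin m → F) (hxy : sympForm m F x y = 1), zpl x y hxy ∈ M ∧ S.N x ≠ 0 ∧
          S.J *ᵥ x ∉ Submodule.span F {x, y} := by
        by_cases hN : ∀ u ∈ Submodule.span F {x₀, y₀}, S.N u = 0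
        · exact exists_plane_of_singular_plane_of3 S h2 M hMS hM x₀ y₀ h₀ hz hN
            (exists_perp_hyp3 S hm h2 x₀ y₀ h₀ hN)
        · push Not at hN
          obtain ⟨x, hxP, hx⟩ := hN
          have hx0 : x ≠ 0 := by
            rintro rfl
            apply hx
            unfold CS.N
            exact sympForm_zero_left _
          obtain ⟨y, hxy, hzeq, hsp⟩ := Cfsg.Agent.S5665.exists_rebase x₀ y₀ x h₀ hxP hx0
          refine ⟨x, y, hxy, hzeq ▸ hz, hx, ?_⟩
          intro hJx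
          -- then the plane is J-invariant
          apply hvJ
          rw [← hspan, ← hx₀, ← hsp]
          have hx₀P : x₀ ∈ Submodule.span F {x, y} := by
            rw [hsp]; exact Submodule.subset_span (Set.mem_insert _ _)
          -- span {x, y} = span {x, J x}
          have hind : Submodule.span F {x, S.J *ᵥ x} = Submodule.span F {x, y} := by
            obtain ⟨a, b, hab⟩ := Submodule.mem_span_pair.mp hJx
            have hb : b ≠ 0 := by
              rintro rfl
              have h3 : S.act (-a) 1 x = 0 := by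
                unfold CS.act
                rw [← hab]; simp
              have := (act_eq_zero S hx0 h3).2
              exact one_ne_zero this
            apply le_antisymm
            · rw [Submodule.span_le, Set.insert_subset_iff, Set.singleton_subset_iff]
              exact ⟨Submodule.subset_span (Set.mem_insert _ _), hJx⟩
            · rw [Submodule.span_le, Set.insert_subset_iff, Set.singleton_subset_iff]
              refine ⟨Submodule.subset_span (Set.mem_insert _ _), ?_⟩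
              · apply Submodule.mem_span_pair.mpr
                refine ⟨-(b⁻¹ * a), b⁻¹, ?_⟩
                rw [← hab]
                ext i
                simp only [Pi.add_apply, Pi.smul_apply, smul_eq_mul]
                field_simp
                ring
          rw [← hind] at hx₀P ⊢
          obtain ⟨a, b, hab⟩ := Submodule.mem_span_pair.mp hx₀P
          apply Submodule.mem_span_pair.mpr
          refine ⟨b * S.δ, a, ?_⟩
          rw [← hab, Matrix.mulVec_add, Matrix.mulVec_smul, Matrix.mulVec_smul, S.JJ]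
          ext i
          simp only [Pi.add_apply, Pi.smul_apply, smul_eq_mul]
          ring
      obtain ⟨x, y, hxy, hzM, hx, hJx⟩ := hA
      have hE1p := fun x u hx hu hux huJx => exists_perp_pair3 S hm h2 x u hx hu hux huJx
      have hE2 := fun n : F => Cfsg.Agent.Lib.Helper23.C3Leaf.exists_norm S n
      have hE3 := fun x w hx hw hwx hwJx => exists_sing_of3 S h2 hE1p x w hx hw hwx hwJx
      have hxS : x ∈ Sset M :=
        Cfsg.Agent.Lib.Helper12.C3Leaf.mem_Sset_of_plane_core S h2 hE3 M hMS hM x y hxy hzM hx hJx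
      exact le_antisymm hMS (le_of_nonsing_mem_Sset S h2 M hMS
        (nonsing_mem_Sset_of3 S h2 hE1p hE2 hE3 M hMS hM x hx hxS))

end Cfsg.Agent.Lib.Helper22.GU3Main
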