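import Mathlib

set_option autoImplicit false

namespace Cfsg.Agent.Lib.Helper22.Gagola

/-- Dihedral trick: `E` a fixed-point-free additive automorphism of a finite elementary abelian
2-group, `T` an additive map with `T E = E⁻¹ T`.  Then every fixed point of `T` is of the form
`w + T w`. -/
theorem dihedral_free {A : Type*} [AddCommGroup A] [Finite A] (h2 : ∀ a : A, a + a = 0)
    (E Einv T : A →+ A) (hE1 : ∀ a, Einv (E a) = a) (hE2 : ∀ a, E (Einv a) = a)
    (hfpf : ∀ a, E a = a → a = 0) (hrel : ∀ a, T (E a) = Einv (T a))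
    (z : A) (hz : T z = z) : ∃ w : A, z = w + T w := by
  have hneg : ∀ a : A, -a = a := fun a => neg_eq_of_add_eq_zero_left (h2 a)
  -- f a = a + E a is injective
  have hf_inj : Function.Injective (fun a : A => a + E a) := by
    intro a b hab
    simp only at hab
    have h1 : E (a - b) = a - b := by
      rw [map_sub]
      have : E a - E b = b - a := by
        have h3 : a + E a - (b + E b) = 0 := by rw [hab]; abel
        have : E a - E b = -(a - b) := by
          have h4 : (a + E a - (b + E b)) = (a - b) + (E a - E b) := by abel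
          rw [h4] at h3
          exact (neg_eq_of_add_eq_zero_right h3).symm
        rw [this]; abel
      rw [this, ← hneg (b - a)]; abel
    have := hfpf _ h1
    exact sub_eq_zero.mp this
  have hf'_inj : Function.Injective (fun a : A => a + Einv a) := by
    intro a b hab
    simp only at hab
    have h1 : Einv (a - b) = a - b := by
      rw [map_sub]
      have h3 : a + Einv a - (b + Einv b) = 0 := by rw [hab]; abel
      have h4 : (a + Einv a - (b + Einv b)) = (a - b) + (Einv a - Einv b) := by abel
      rw [h4] at h3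
      have : Einv a - Einv b = -(a - b) := (neg_eq_of_add_eq_zero_right h3).symm
      rw [this, hneg]
    have h5 : E (a - b) = a - b := by
      conv_lhs => rw [← h1]
      exact hE2 _
    exact sub_eq_zero.mp (hfpf _ h5)
  have hf_surj : Function.Surjective (fun a : A => a + E a) :=
    Finite.surjective_of_injective hf_inj
  obtain ⟨w, hw⟩ := hf_surj z
  simp only at hw
  refine ⟨w, ?_⟩
  set w' := T w with hw'
  have hw'2 : w' + Einv w' = z := by
    rw [hw', ← hrel, ← map_add, hw, hz]
  -- u = w + w' + z
  have hEw : E w = z + w := by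
    have : E w = z - w := by rw [← hw]; abel
    rw [this, sub_eq_add_neg, hneg]
  have hEinvw' : Einv w' = z + w' := by
    have : Einv w' = z - w' := by rw [← hw'2]; abel
    rw [this, sub_eq_add_neg, hneg]
  have hEinvw : Einv w = Einv z + w := by
    have h3 : Einv (w + E w) = Einv z := by rw [hw]
    rw [map_add, hE1] at h3
    have : Einv w = Einv z - w := by rw [← h3]; abel
    rw [this, sub_eq_add_neg, hneg]
  have hEw'' : E w' = E z + w' := by
    have h3 : E (w' + Einv w') = E z := by rw [hw'2]
    rw [map_add, hE2] at h3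
    have : E w' = E z - w' := by rw [← h3]; abel
    rw [this, sub_eq_add_neg, hneg]
  have hu : (w + w' + z) + E (w + w' + z) = 0 := by
    apply hf'_inj
    simp only
    rw [map_zero, add_zero, map_add Einv, hE1]
    simp only [map_add]
    rw [hEw, hEinvw', hEinvw, hEw'']
    have key : ∀ a b c d e : A, (a + b + c) + (c + a + (d + b) + d) + ((e + a) + (c + b) + e + (a + b + c)) = 0 := by
      intro a b c d e
      have : (a + b + c) + (c + a + (d + b) + d) + ((e + a) + (c + b) + e + (a + b + c))
          = (a + a) + (a + a) + (b + b) + (b + b) + (c + c) + (c + c) + (d + d) + (e + e) := by abel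
      rw [this]; simp [h2]
    exact key w w' z (E z) (Einv z)
  have hu0 : w + w' + z = 0 := by
    apply hf_inj
    simp only
    rw [hu, map_zero, add_zero]
  have : w + w' = -z := eq_neg_of_add_eq_zero_left hu0
  rw [this, hneg]

/-- Multiplicative version of `dihedral_free`, for a group with commutativity as a hypothesis. -/
theorem dihedral_free_mul {A : Type*} [Group A] [Finite A] (hcomm : ∀ a b : A, a * b = b * a)
    (h2 : ∀ a : A, a * a = 1)
    (E Einv T : A → A) (hEmul : ∀ a b, E (a * b) = E a * E b)
    (hEinvmul : ∀ a b, Einv (a * b) = Einv a * Einv b) (hTmul : ∀ a b, T (a * b) = T a * T b)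
    (hE1 : ∀ a, Einv (E a) = a) (hE2 : ∀ a, E (Einv a) = a)
    (hfpf : ∀ a, E a = a → a = 1) (hrel : ∀ a, T (E a) = Einv (T a))
    (z : A) (hz : T z = z) : ∃ w : A, z = w * T w := by
  letI : CommGroup A := { (inferInstance : Group A) with mul_comm := hcomm }
  let E' : Additive A →+ Additive A :=
    AddMonoidHom.mk' (fun a => Additive.ofMul (E a.toMul)) (fun a b => by
      show Additive.ofMul (E (a.toMul * b.toMul)) = _
      rw [hEmul]; rfl)
  let Einv' : Additive A →+ Additive A :=
    AddMonoidHom.mk' (fun a => Additive.ofMul (Einv a.toMul)) (fun a b => by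
      show Additive.ofMul (Einv (a.toMul * b.toMul)) = _
      rw [hEinvmul]; rfl)
  let T' : Additive A →+ Additive A :=
    AddMonoidHom.mk' (fun a => Additive.ofMul (T a.toMul)) (fun a b => by
      show Additive.ofMul (T (a.toMul * b.toMul)) = _
      rw [hTmul]; rfl)
  obtain ⟨w, hw⟩ := dihedral_free (A := Additive A)
    (fun a => by
      show Additive.ofMul (a.toMul * a.toMul) = Additive.ofMul 1
      rw [h2])
    E' Einv' T'
    (fun a => by
      show Additive.ofMul (Einv (E a.toMul)) = a
      rw [hE1]; rfl)
    (fun a => by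
      show Additive.ofMul (E (Einv a.toMul)) = a
      rw [hE2]; rfl)
    (fun a ha => by
      have h1 : Additive.ofMul (E a.toMul) = a := ha
      have h3 : E a.toMul = a.toMul := congrArg Additive.toMul h1
      have := hfpf _ h3
      show a = Additive.ofMul 1
      rw [← this]; rfl)
    (fun a => by
      show Additive.ofMul (T (E a.toMul)) = Additive.ofMul (Einv (T a.toMul))
      rw [hrel])
    (Additive.ofMul z)
    (by
      show Additive.ofMul (T z) = Additive.ofMul z
      rw [hz])
  refine ⟨w.toMul, ?_⟩
  have := congrArg Additive.toMul hw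
  exact this

/-- Camina property from centralizer orders: if `|C_G(x)| = |C_{G/N}(xN)|` then every element of
the coset `xN` is conjugate to `x`. -/
theorem camina_of_card {G : Type*} [Group G] [Finite G] (N : Subgroup G) [N.Normal] (x : G)
    (hcard : Nat.card (Subgroup.centralizer ({x} : Set G)) =
      Nat.card (Subgroup.centralizer ({(x : G ⧸ N)} : Set (G ⧸ N))))
    (n : G) (hn : n ∈ N) : ∃ y : G, y * x * y⁻¹ = x * n := by
  classical
  set π : G →* G ⧸ N := QuotientGroup.mk' N with hπ
  have hπs : Function.Surjective π := QuotientGroup.mk'_surjective N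
  set Cb : Subgroup (G ⧸ N) := Subgroup.centralizer ({(x : G ⧸ N)} : Set (G ⧸ N)) with hCb
  set D : Subgroup G := Cb.comap π with hD
  set C : Subgroup G := Subgroup.centralizer ({x} : Set G) with hC
  have hCD : C ≤ D := by
    intro y hy
    rw [hC, Subgroup.mem_centralizer_singleton_iff] at hy
    rw [hD, Subgroup.mem_comap, hCb, Subgroup.mem_centralizer_singleton_iff]
    have : π (y * x) = π (x * y) := by rw [hy]
    simpa [hπ] using this
  -- cardinality of D
  have hcardD : Nat.card D = Nat.card N * Nat.card Cb := by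
    have h1 : D.index = Cb.index := Subgroup.index_comap_of_surjective Cb hπs
    have h2 := Subgroup.card_mul_index D
    have h3 := Subgroup.card_mul_index Cb
    have h4 := Subgroup.card_eq_card_quotient_mul_card_subgroup N
    have hpos : 0 < Cb.index := Nat.pos_of_ne_zero Subgroup.index_ne_zero_of_finite
    have : Nat.card D * Cb.index = (Nat.card N * Nat.card Cb) * Cb.index := by
      rw [← h1, h2, h4, ← h3, h1]; ring
    exact Nat.eq_of_mul_eq_mul_right hpos this
  -- the map D → N
  have hmem : ∀ y : D, x⁻¹ * (y : G) * x * (y : G)⁻¹ ∈ N := by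
    intro y
    have hy : π (y : G) * π x = π x * π (y : G) := by
      have h0 : (y : G) ∈ Cb.comap π := y.2
      rw [Subgroup.mem_comap] at h0
      exact Subgroup.mem_centralizer_singleton_iff.1 h0
    rw [← QuotientGroup.eq_one_iff]
    have h1 : ((x⁻¹ * (y : G) * x * (y : G)⁻¹ : G) : G ⧸ N)
        = (π x)⁻¹ * (π y * π x) * (π y)⁻¹ := by
      simp [hπ, mul_assoc]
    rw [h1, hy]
    group
  let ψ : D → N := fun y => ⟨x⁻¹ * (y : G) * x * (y : G)⁻¹, hmem y⟩
  have hψ : ∀ y y' : D, ψ y = ψ y' ↔ (y⁻¹ * y' : D) ∈ C.subgroupOf D := by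
    intro y y'
    rw [Subgroup.mem_subgroupOf, hC, Subgroup.mem_centralizer_singleton_iff]
    simp only [ψ, Subtype.mk.injEq, Subgroup.coe_mul, Subgroup.coe_inv]
    constructor
    · intro h
      have h2 : (y : G) * x * (y : G)⁻¹ = (y' : G) * x * (y' : G)⁻¹ := by
        have := congrArg (fun t => x * t) h
        simpa [mul_assoc] using this
      calc (y : G)⁻¹ * (y' : G) * x = (y : G)⁻¹ * ((y' : G) * x * (y' : G)⁻¹) * (y' : G) := by group
        _ = (y : G)⁻¹ * ((y : G) * x * (y : G)⁻¹) * (y' : G) := by rw [h2]
        _ = x * ((y : G)⁻¹ * (y' : G)) := by group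
    · intro h
      have h2 : (y' : G) * x * (y' : G)⁻¹ = (y : G) * x * (y : G)⁻¹ := by
        calc (y' : G) * x * (y' : G)⁻¹ = (y : G) * ((y : G)⁻¹ * (y' : G) * x) * (y' : G)⁻¹ := by group
          _ = (y : G) * (x * ((y : G)⁻¹ * (y' : G))) * (y' : G)⁻¹ := by rw [h]
          _ = (y : G) * x * (y : G)⁻¹ := by group
      calc x⁻¹ * (y : G) * x * (y : G)⁻¹ = x⁻¹ * ((y : G) * x * (y : G)⁻¹) := by group
        _ = x⁻¹ * ((y' : G) * x * (y' : G)⁻¹) := by rw [h2]
        _ = x⁻¹ * (y' : G) * x * (y' : G)⁻¹ := by group
  let ψq : D ⧸ C.subgroupOf D → N := fun q => Quotient.liftOn' q ψ (by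
    intro a b hab
    rw [QuotientGroup.leftRel_apply] at hab
    exact (hψ a b).2 hab)
  have hψq_inj : Function.Injective ψq := by
    intro q q'
    refine Quotient.inductionOn₂' q q' ?_
    intro a b hab
    have : ψ a = ψ b := hab
    exact QuotientGroup.eq.2 ((hψ a b).1 this)
  have hcardq : Nat.card (D ⧸ C.subgroupOf D) = Nat.card N := by
    have h1 := Subgroup.card_eq_card_quotient_mul_card_subgroup (C.subgroupOf D)
    have h2 : Nat.card (C.subgroupOf D) = Nat.card C :=
      Nat.card_congr (Subgroup.subgroupOfEquivOfLe hCD).toEquiv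
    rw [h2, hcardD, hcard] at h1
    have hpos : 0 < Nat.card Cb := Nat.card_pos
    exact (Nat.eq_of_mul_eq_mul_right hpos h1).symm
  have hbij := hψq_inj.bijective_of_nat_card_le (le_of_eq hcardq.symm)
  obtain ⟨q, hq⟩ := hbij.2 ⟨n, hn⟩
  induction q using Quotient.inductionOn' with
  | h y =>
    have h1 : ψ y = ⟨n, hn⟩ := hq
    have h2 : x⁻¹ * (y : G) * x * (y : G)⁻¹ = n := congrArg Subtype.val h1
    refine ⟨(y : G), ?_⟩
    rw [← h2]; group

end Cfsg.Agent.Lib.Helper22.Gagola
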