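import Mathlib
import Cfsg.Prelude.Def_Solvable
import Cfsg.Agent.Lib.Helper22.GagolaA
import Cfsg.Agent.Lib.Helper11.InvolOdd
import Cfsg.Agent.Lib.Helper25.BaerSuzuki

set_option autoImplicit false

namespace Cfsg.Agent.Lib.Helper22.Gagola

variable {G : Type*} [Group G] [Finite G] {p : ℕ} [hp : Fact p.Prime]

/-- `C_G(N) = N` when `N = O_p(G)` is abelian and nontrivial with centralizers of nonidentity
elements `p`-groups. -/
theorem centralizer_eq (N : Subgroup G) [N.Normal] (hN1 : N ≠ ⊥)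
    (hab : ∀ a ∈ N, ∀ b ∈ N, a * b = b * a)
    (hcent : ∀ x ∈ N, x ≠ 1 → ∃ P : Sylow p G, Subgroup.centralizer ({x} : Set G) = P)
    (hcore : N = Cfsg.pCore p G) : Subgroup.centralizer (N : Set G) = N := by
  apply le_antisymm
  · obtain ⟨⟨x, hxN'⟩, hx1⟩ := (Subgroup.ne_bot_iff_exists_ne_one).1 hN1
    have hx1' : x ≠ 1 := fun h => hx1 (Subtype.ext h)
    obtain ⟨P, hP⟩ := hcent x hxN' hx1'
    have hle : Subgroup.centralizer (N : Set G) ≤ Subgroup.centralizer ({(x : G)} : Set G) :=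
      Subgroup.centralizer_le (by simpa using hxN')
    have hpg : IsPGroup p (Subgroup.centralizer (N : Set G)) := by
      rw [hP] at hle
      exact P.isPGroup'.to_le hle
    have hnorm : (Subgroup.centralizer (N : Set G)).Normal := Subgroup.normal_centralizer
    conv_rhs => rw [hcore]
    unfold Cfsg.pCore
    exact le_sSup ⟨hnorm, hpg⟩
  · intro n hn
    rw [Subgroup.mem_centralizer_iff]
    intro m hm
    exact hab m hm n hn

/-- Elements of a `p`-group with `p` odd have no nontrivial square roots of one. -/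
theorem eq_one_of_sq_of_odd (N : Subgroup G) (hp2 : p ≠ 2) (hNp : IsPGroup p N) (n : G)
    (hn : n ∈ N) (hnn : n * n = 1) : n = 1 := by
  obtain ⟨k, hk⟩ := (IsPGroup.iff_orderOf.1 hNp) ⟨n, hn⟩
  have h1 : orderOf n = p ^ k := by
    rw [← hk]; exact (Subgroup.orderOf_mk n hn).symm
  have h2 : orderOf n ∣ 2 := orderOf_dvd_of_pow_eq_one (by rw [pow_two]; exact hnn)
  rcases Nat.eq_zero_or_pos k with hk0 | hk0
  · rw [hk0, pow_zero] at h1
    exact orderOf_eq_one_iff.1 h1
  · exfalso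
    have h3 : p ∣ 2 := by
      have : p ∣ p ^ k := dvd_pow_self p (Nat.pos_iff_ne_zero.1 hk0)
      rw [← h1] at this
      exact this.trans h2
    exact hp2 ((Nat.prime_dvd_prime_iff_eq hp.out Nat.prime_two).1 h3)

/-- The odd case: a complement acting semiregularly. -/
theorem exists_compl_of_odd (N : Subgroup G) [hNn : N.Normal] (hp2 : p ≠ 2) (hNp : IsPGroup p N)
    (hN1 : N ≠ ⊥)
    (hab : ∀ a ∈ N, ∀ b ∈ N, a * b = b * a)
    (htrans : ∀ x ∈ N, ∀ y ∈ N, x ≠ 1 → y ≠ 1 → ∃ g : G, g * x * g⁻¹ = y)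
    (hcent : ∀ x ∈ N, x ≠ 1 → ∃ P : Sylow p G, Subgroup.centralizer ({x} : Set G) = P)
    (hcam : ∀ x : G, x ∉ N → ∀ n ∈ N, ∃ y : G, y * x * y⁻¹ = x * n)
    (hcN : Subgroup.centralizer (N : Set G) = N) :
    ∃ H : Subgroup G, (∀ g : G, ∃ n ∈ N, ∃ h ∈ H, g = n * h) ∧ (∀ g, g ∈ N → g ∈ H → g = 1) ∧
      (∀ h ∈ H, h ≠ 1 → ∀ n ∈ N, h * n * h⁻¹ = n → n = 1) := by
  classical
  have hsq := eq_one_of_sq_of_odd N hp2 hNp
  obtain ⟨⟨x, hxN⟩, hx1⟩ := (Subgroup.ne_bot_iff_exists_ne_one).1 hN1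
  have hx1' : x ≠ 1 := fun h => hx1 (Subtype.ext h)
  obtain ⟨g, hg⟩ := htrans x hxN x⁻¹ (N.inv_mem hxN) hx1' (inv_ne_one.2 hx1')
  -- g has even order
  have hgx : g * x = x⁻¹ * g := by rw [← hg]; group
  have hgx' : g * x⁻¹ = x * g := by
    have : g * x⁻¹ * g⁻¹ = x := by
      have h1 : g * x⁻¹ * g⁻¹ = (g * x * g⁻¹)⁻¹ := by group
      rw [h1, hg, inv_inv]
    exact mul_inv_eq_iff_eq_mul.1 this
  have hg2 : Commute (g ^ 2) x := by
    unfold Commute SemiconjBy
    rw [pow_two, mul_assoc, hgx, ← mul_assoc, hgx', mul_assoc]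
  have hgeven : 2 ∣ orderOf g := by
    by_contra hne
    have hodd' : Odd (orderOf g) := Nat.odd_iff.2 (Nat.two_dvd_ne_zero.1 hne)
    obtain ⟨k, hk⟩ := hodd'
    have hgk : (g ^ 2) ^ (k + 1) = g := by
      rw [← pow_mul]
      have : 2 * (k + 1) = orderOf g + 1 := by omega
      rw [this, pow_succ, pow_orderOf_eq_one, one_mul]
    have hc : Commute g x := by
      have := hg2.pow_left (k + 1)
      rwa [hgk] at this
    have hxx : x = x⁻¹ := by
      have h1 : g * x * g⁻¹ = x := by rw [hc.eq]; group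
      rw [← hg]; exact h1.symm
    apply hx1'
    apply hsq x hxN
    calc x * x = x * x⁻¹ := by rw [← hxx]
      _ = 1 := mul_inv_cancel x
  set t := g ^ (orderOf g / 2) with ht
  have ht2 : orderOf t = 2 := orderOf_pow_orderOf_div (orderOf_pos g).ne' hgeven
  have htt : t * t = 1 := by
    have := pow_orderOf_eq_one t
    rwa [ht2, pow_two] at this
  have htinv : t⁻¹ = t := inv_eq_of_mul_eq_one_left htt
  have ht1 : t ≠ 1 := by
    intro h
    rw [h, orderOf_one] at ht2
    omega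
  -- t inverts N
  have hinv : ∀ n ∈ N, t * n * t⁻¹ = n⁻¹ := by
    intro n hn
    have hcn : t * n * t⁻¹ ∈ N := hNn.conj_mem n hn t
    have hm1 : n * (t * n * t⁻¹) = 1 := by
      by_contra hne
      have hmN : n * (t * n * t⁻¹) ∈ N := N.mul_mem hn hcn
      obtain ⟨P, hP⟩ := hcent _ hmN hne
      have htm : t ∈ Subgroup.centralizer ({n * (t * n * t⁻¹)} : Set G) := by
        rw [Subgroup.mem_centralizer_singleton_iff]
        have h1 : t * (n * (t * n * t⁻¹)) = (t * n * t⁻¹) * n * t := by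
          rw [htinv]
          calc t * (n * (t * n * t)) = t * n * t * n * t := by group
            _ = t * n * t * n * t := rfl
        rw [h1, hab _ hcn _ hn]
      rw [hP] at htm
      obtain ⟨k, hk⟩ := (IsPGroup.iff_orderOf.1 P.isPGroup') ⟨t, htm⟩
      have h1 : orderOf t = p ^ k := by
        rw [← hk]; exact (Subgroup.orderOf_mk t htm).symm
      rw [ht2] at h1
      rcases Nat.eq_zero_or_pos k with hk0 | hk0
      · rw [hk0, pow_zero] at h1; omega
      · have : p ∣ 2 := by rw [h1]; exact dvd_pow_self p (Nat.pos_iff_ne_zero.1 hk0)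
        exact hp2 ((Nat.prime_dvd_prime_iff_eq hp.out Nat.prime_two).1 this)
    exact (eq_inv_of_mul_eq_one_right hm1)
  have hcover : ∀ y : G, ∃ n ∈ N, ∃ h ∈ Subgroup.centralizer ({t} : Set G), y = n * h := by
    -- G = N * C(t)
    intro y
    set c := y * t * y⁻¹ * t⁻¹ with hc
    have hcN' : c ∈ N := by
      rw [← hcN, Subgroup.mem_centralizer_iff]
      intro n hn
      -- c n c⁻¹ = n
      have hyn : y⁻¹ * n * y ∈ N := by
        have := hNn.conj_mem n hn y⁻¹
        simpa using this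
      have h1 : t * (y⁻¹ * n * y) * t⁻¹ = (y⁻¹ * n * y)⁻¹ := hinv _ hyn
      have h2 : t⁻¹ * n * t = n⁻¹ := by
        have := hinv n hn
        rw [htinv] at this ⊢
        exact this
      have h3 : c * n * c⁻¹ = n := by
        calc c * n * c⁻¹ = y * (t * (y⁻¹ * (t⁻¹ * n * t) * y) * t⁻¹) * y⁻¹ := by
              rw [hc]; group
          _ = y * (t * (y⁻¹ * n⁻¹ * y) * t⁻¹) * y⁻¹ := by rw [h2]
          _ = y * (t * (y⁻¹ * n * y)⁻¹ * t⁻¹) * y⁻¹ := by
              congr 3; group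
          _ = y * ((t * (y⁻¹ * n * y) * t⁻¹)⁻¹) * y⁻¹ := by
              congr 2; group
          _ = y * ((y⁻¹ * n * y)⁻¹)⁻¹ * y⁻¹ := by rw [h1]
          _ = n := by group
      calc n * c = (c * n * c⁻¹) * c := by rw [h3]
        _ = c * n := by group
    -- square root of c in N
    have hcop : (Nat.card N).Coprime 2 := by
      obtain ⟨k, hk⟩ := hNp.exists_card_eq
      rw [hk]
      apply Nat.Coprime.pow_left
      exact (Nat.coprime_primes hp.out Nat.prime_two).2 hp2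
    obtain ⟨⟨m, hmN⟩, hm⟩ := (powCoprime hcop).surjective ⟨c, hcN'⟩
    have hm2 : m * m = c := by
      have := congrArg Subtype.val hm
      simpa [powCoprime, pow_two] using this
    refine ⟨m, hmN, m⁻¹ * y, ?_, by group⟩
    rw [Subgroup.mem_centralizer_singleton_iff]
    have hmt : t * m * t⁻¹ = m⁻¹ := hinv m hmN
    have hyt : y * t = c * t * y := by rw [hc]; group
    calc m⁻¹ * y * t = m⁻¹ * (y * t) := by group
      _ = m⁻¹ * (c * t * y) := by rw [hyt]
      _ = m⁻¹ * (m * m) * t * y := by rw [hm2]; group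
      _ = m * t * y := by group
      _ = (t * m * t⁻¹)⁻¹ * t * y := by rw [hmt, inv_inv]
      _ = t * (m⁻¹ * y) := by group
  have hdisj : ∀ n, n ∈ N → n ∈ Subgroup.centralizer ({t} : Set G) → n = 1 := by
    intro n hnN hnH
    rw [Subgroup.mem_centralizer_singleton_iff] at hnH
    have h1 : t * n * t⁻¹ = n⁻¹ := hinv n hnN
    have h2 : t * n * t⁻¹ = n := by rw [← hnH]; group
    apply hsq n hnN
    have : n = n⁻¹ := h2.symm.trans h1
    calc n * n = n * n⁻¹ := by rw [← this]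
      _ = 1 := mul_inv_cancel n
  refine ⟨Subgroup.centralizer ({t} : Set G), hcover, hdisj, ?_⟩
  intro h hh hh1 n hn hfix
  have hhN : h ∉ N := fun hN' => hh1 (hdisj h hN' hh)
  have hφmem : ∀ m : N, h⁻¹ * (m : G) * h * (m : G)⁻¹ ∈ N := by
    intro m
    have h1 : h⁻¹ * (m : G) * h ∈ N := by
      have := hNn.conj_mem (m : G) m.2 h⁻¹
      simpa using this
    exact N.mul_mem h1 (N.inv_mem m.2)
  let φ : N → N := fun m => ⟨h⁻¹ * (m : G) * h * (m : G)⁻¹, hφmem m⟩
  have hφsurj : Function.Surjective φ := by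
    rintro ⟨n', hn'⟩
    obtain ⟨y, hy⟩ := hcam h hhN n' hn'
    obtain ⟨m, hm, k, hk, rfl⟩ := hcover y
    obtain ⟨h', hh'def⟩ : ∃ h' : G, h' = k * h * k⁻¹ := ⟨_, rfl⟩
    have hh' : h' ∈ Subgroup.centralizer ({t} : Set G) := by
      rw [hh'def]
      exact Subgroup.mul_mem _ (Subgroup.mul_mem _ hk hh) (Subgroup.inv_mem _ hk)
    have hy' : m * h' * m⁻¹ = h * n' := by rw [← hy, hh'def]; group
    have hmem : h'⁻¹ * h ∈ N := by
      have h1 : h'⁻¹ * m * h' ∈ N := by
        have := hNn.conj_mem m hm h'⁻¹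
        simpa using this
      have h2 : h'⁻¹ * h = (h'⁻¹ * m * h') * m⁻¹ * n'⁻¹ := by
        have h3 : h = m * h' * m⁻¹ * n'⁻¹ := by rw [hy']; group
        calc h'⁻¹ * h = h'⁻¹ * (m * h' * m⁻¹ * n'⁻¹) := by rw [← h3]
          _ = (h'⁻¹ * m * h') * m⁻¹ * n'⁻¹ := by group
      rw [h2]
      exact N.mul_mem (N.mul_mem h1 (N.inv_mem hm)) (N.inv_mem hn')
    have hmemH : h'⁻¹ * h ∈ Subgroup.centralizer ({t} : Set G) :=
      Subgroup.mul_mem _ (Subgroup.inv_mem _ hh') hh
    have heq : h' = h := by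
      have := hdisj _ hmem hmemH
      exact (inv_mul_eq_one.1 this)
    rw [heq] at hy'
    refine ⟨⟨m, hm⟩, ?_⟩
    apply Subtype.ext
    show h⁻¹ * m * h * m⁻¹ = n'
    have : m * h * m⁻¹ = h * n' := hy'
    calc h⁻¹ * m * h * m⁻¹ = h⁻¹ * (m * h * m⁻¹) := by group
      _ = h⁻¹ * (h * n') := by rw [this]
      _ = n' := by group
  have hφinj : Function.Injective φ := Finite.injective_iff_surjective.2 hφsurj
  have h1 : φ ⟨n, hn⟩ = φ 1 := by
    apply Subtype.ext
    show h⁻¹ * n * h * n⁻¹ = h⁻¹ * (1 : G) * h * (1 : G)⁻¹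
    have : h⁻¹ * n * h = n := by
      calc h⁻¹ * n * h = h⁻¹ * (h * n * h⁻¹) * h := by rw [hfix]
        _ = n := by group
    rw [this]; group
  have := hφinj h1
  exact congrArg Subtype.val this

/-- The even case: `N` has odd index. -/
theorem not_two_dvd_index (N : Subgroup G) [hNn : N.Normal] (hNp : IsPGroup 2 N)
    (hab : ∀ a ∈ N, ∀ b ∈ N, a * b = b * a)
    (hexp : ∀ a ∈ N, a * a = 1)
    (hcent : ∀ x ∈ N, x ≠ 1 → ∃ P : Sylow 2 G, Subgroup.centralizer ({x} : Set G) = P)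
    (hcam : ∀ x : G, x ∉ N → ∀ n ∈ N, ∃ y : G, y * x * y⁻¹ = x * n)
    (hcN : Subgroup.centralizer (N : Set G) = N)
    (hcore : N = Cfsg.pCore 2 G) : ¬ 2 ∣ N.index := by
  classical
  intro hdvd
  rw [Subgroup.index_eq_card] at hdvd
  haveI : Fact (Nat.Prime 2) := ⟨Nat.prime_two⟩
  obtain ⟨tb, htb⟩ := exists_prime_orderOf_dvd_card' (G := G ⧸ N) 2 hdvd
  have hmk : ∀ a : G, (QuotientGroup.mk' N a = 1) ↔ a ∈ N := fun a => QuotientGroup.eq_one_iff a
  -- O_2(G/N) = 1
  have hO : ∀ M : Subgroup (G ⧸ N), M.Normal → IsPGroup 2 M → tb ∉ M := by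
    intro M hMn hMp htM
    have hcomap : IsPGroup 2 (M.comap (QuotientGroup.mk' N)) :=
      hMp.comap_of_ker_isPGroup _ (by rw [QuotientGroup.ker_mk']; exact hNp)
    have hn : (M.comap (QuotientGroup.mk' N)).Normal := hMn.comap _
    have hle : M.comap (QuotientGroup.mk' N) ≤ N := by
      conv_rhs => rw [hcore]
      exact le_sSup ⟨hn, hcomap⟩
    obtain ⟨g, rfl⟩ := QuotientGroup.mk'_surjective N tb
    have h1 : g ∈ N := hle htM
    have h2 : (QuotientGroup.mk' N g) = 1 := (hmk g).2 h1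
    rw [h2, orderOf_one] at htb; omega
  obtain ⟨hb, hb1, hbodd, hbinv⟩ := Cfsg.Agent.Lib.Helper11.exists_inverted_odd_of_baerSuzuki
    (fun X hX h => Cfsg.Agent.Lib.Helper25.baer_suzuki X hX h) tb htb hO
  obtain ⟨g, hg⟩ := QuotientGroup.mk'_surjective N tb
  obtain ⟨y0, hy0⟩ := QuotientGroup.mk'_surjective N hb
  obtain ⟨a, c, hc, hac⟩ := Nat.exists_eq_two_pow_mul_odd (orderOf_pos y0).ne'
  set y := y0 ^ (2 ^ a) with hy
  have hyc : y ^ c = 1 := by
    rw [hy, ← pow_mul, ← hac, pow_orderOf_eq_one]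
  have hyodd : Odd (orderOf y) := by
    have : orderOf y ∣ c := orderOf_dvd_of_pow_eq_one hyc
    exact Odd.of_dvd_nat hc this
  have hπy : QuotientGroup.mk' N y = hb ^ (2 ^ a) := by rw [hy, map_pow, hy0]
  have hb'1 : hb ^ (2 ^ a) ≠ 1 := by
    intro h
    have h1 : orderOf hb ∣ 2 ^ a := orderOf_dvd_of_pow_eq_one h
    obtain ⟨j, _, hj⟩ := (Nat.dvd_prime_pow Nat.prime_two).1 h1
    rcases Nat.eq_zero_or_pos j with hj0 | hj0
    · rw [hj0, pow_zero] at hj
      exact hb1 (orderOf_eq_one_iff.1 hj)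
    · rw [hj] at hbodd
      have : Even (2 ^ j) := (Nat.even_pow.2 ⟨even_two, (Nat.pos_iff_ne_zero.1 hj0)⟩)
      exact (Nat.not_even_iff_odd.2 hbodd) this
  have hyN : y ∉ N := by
    intro h
    rw [← hmk, hπy] at h
    exact hb'1 h
  have hgN : g ∉ N := by
    intro h
    rw [← hmk, hg] at h
    rw [h, orderOf_one] at htb; omega
  have hggN : g * g ∈ N := by
    rw [← hmk, map_mul, hg, ← pow_two, ← htb, pow_orderOf_eq_one]
  have hrelN : g * y * g⁻¹ * y ∈ N := by
    rw [← hmk, map_mul, map_mul, map_mul, map_inv, hg, hπy]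
    have : tb * hb ^ (2 ^ a) * tb⁻¹ = (hb ^ (2 ^ a))⁻¹ := by
      rw [← conj_pow, hbinv, inv_pow]
    rw [this, inv_mul_cancel]
  -- y acts fixed point freely on N
  have hfpf : ∀ n ∈ N, y * n * y⁻¹ = n → n = 1 := by
    intro n hn hfix
    by_contra hn1
    obtain ⟨P, hP⟩ := hcent n hn hn1
    have hyP : y ∈ Subgroup.centralizer ({n} : Set G) := by
      rw [Subgroup.mem_centralizer_singleton_iff]
      calc y * n = (y * n * y⁻¹) * y := by group
        _ = n * y := by rw [hfix]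
    rw [hP] at hyP
    obtain ⟨k, hk⟩ := (IsPGroup.iff_orderOf.1 P.isPGroup') ⟨y, hyP⟩
    have h1 : orderOf y = 2 ^ k := by
      rw [← hk]; exact (Subgroup.orderOf_mk y hyP).symm
    rcases Nat.eq_zero_or_pos k with hk0 | hk0
    · rw [hk0, pow_zero] at h1
      have : y = 1 := orderOf_eq_one_iff.1 h1
      exact hyN (this ▸ N.one_mem)
    · rw [h1] at hyodd
      have : Even (2 ^ k) := (Nat.even_pow.2 ⟨even_two, (Nat.pos_iff_ne_zero.1 hk0)⟩)
      exact (Nat.not_even_iff_odd.2 hyodd) this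
  -- maps on N
  have hconj : ∀ (u : G) (n : N), u * (n : G) * u⁻¹ ∈ N := fun u n => hNn.conj_mem n n.2 u
  let E : N → N := fun n => ⟨y * n * y⁻¹, hconj y n⟩
  let Einv : N → N := fun n => ⟨y⁻¹ * n * y, by simpa using hconj y⁻¹ n⟩
  let T : N → N := fun n => ⟨g * n * g⁻¹, hconj g n⟩
  obtain ⟨w, hw⟩ := dihedral_free_mul (A := N)
    (fun a b => Subtype.ext (hab a a.2 b b.2))
    (fun a => Subtype.ext (hexp a a.2))
    E Einv T
    (fun a b => by
      apply Subtype.ext
      show y * ((a : G) * (b : G)) * y⁻¹ = (y * a * y⁻¹) * (y * b * y⁻¹)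
      group)
    (fun a b => by
      apply Subtype.ext
      show y⁻¹ * ((a : G) * (b : G)) * y = (y⁻¹ * a * y) * (y⁻¹ * b * y)
      group)
    (fun a b => by
      apply Subtype.ext
      show g * ((a : G) * (b : G)) * g⁻¹ = (g * a * g⁻¹) * (g * b * g⁻¹)
      group)
    (fun a => by
      apply Subtype.ext
      show y⁻¹ * (y * (a : G) * y⁻¹) * y = a
      group)
    (fun a => by
      apply Subtype.ext
      show y * (y⁻¹ * (a : G) * y) * y⁻¹ = a
      group)
    (fun a ha => by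
      have h1 : y * (a : G) * y⁻¹ = a := congrArg Subtype.val ha
      exact Subtype.ext (hfpf a a.2 h1))
    (fun a => by
      apply Subtype.ext
      show g * (y * (a : G) * y⁻¹) * g⁻¹ = y⁻¹ * (g * a * g⁻¹) * y
      -- g y g⁻¹ = m y⁻¹ with m ∈ N
      set m := g * y * g⁻¹ * y with hm
      have hgy : g * y * g⁻¹ = m * y⁻¹ := by rw [hm]; group
      have hcm : m * (y⁻¹ * (g * a * g⁻¹) * y) = (y⁻¹ * (g * a * g⁻¹) * y) * m := by
        apply hab _ hrelN
        have := hconj y⁻¹ ⟨g * a * g⁻¹, hconj g a⟩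
        simpa using this
      calc g * (y * (a : G) * y⁻¹) * g⁻¹ = (g * y * g⁻¹) * (g * a * g⁻¹) * (g * y * g⁻¹)⁻¹ := by group
        _ = (m * y⁻¹) * (g * a * g⁻¹) * (m * y⁻¹)⁻¹ := by rw [hgy]
        _ = (m * (y⁻¹ * (g * a * g⁻¹) * y)) * m⁻¹ := by group
        _ = ((y⁻¹ * (g * a * g⁻¹) * y) * m) * m⁻¹ := by rw [hcm]
        _ = y⁻¹ * (g * a * g⁻¹) * y := by group)
    ⟨g * g, hggN⟩
    (by
      apply Subtype.ext
      show g * (g * g) * g⁻¹ = g * g
      group)
  have hw' : g * g = (w : G) * (g * w * g⁻¹) := congrArg Subtype.val hw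
  -- the involution u = w * g
  set u := (w : G) * g with hu
  have huu : u * u = 1 := by
    have h1 : u * u = ((w : G) * (g * w * g⁻¹)) * (g * g) := by rw [hu]; group
    rw [h1, ← hw']
    exact hexp _ hggN
  have huN : u ∉ N := by
    intro h
    apply hgN
    have : g = (w : G)⁻¹ * u := by rw [hu]; group
    rw [this]
    exact N.mul_mem (N.inv_mem w.2) h
  have huinv : u⁻¹ = u := inv_eq_of_mul_eq_one_left huu
  have hucent : u ∈ Subgroup.centralizer (N : Set G) := by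
    rw [Subgroup.mem_centralizer_iff]
    intro n hn
    obtain ⟨x, hx⟩ := hcam u huN n hn
    have h1 : (u * n) * (u * n) = 1 := by
      rw [← hx]
      calc x * u * x⁻¹ * (x * u * x⁻¹) = x * (u * u) * x⁻¹ := by group
        _ = 1 := by rw [huu]; group
    have hnn : n * n = 1 := hexp n hn
    -- u n u n = 1 → n u = u n
    have h2 : u * n * u = n⁻¹ := by
      have : u * n * u * n = 1 := by rw [← h1]; group
      exact eq_inv_of_mul_eq_one_left this
    have hninv : n⁻¹ = n := inv_eq_of_mul_eq_one_left hnn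
    rw [hninv] at h2
    calc n * u = (u * n * u) * u := by rw [h2]
      _ = u * n * (u * u) := by group
      _ = u * n := by rw [huu, mul_one]
  rw [hcN] at hucent
  exact huN hucent

end Cfsg.Agent.Lib.Helper22.Gagola
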