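import Mathlib
import Cfsg.Prelude.Def_Solvable
import Cfsg.Agent.Lib.Helper22.GagolaB

set_option autoImplicit false

namespace Cfsg.Agent.Lib.Helper22.Gagola

open scoped Pointwise

variable {G : Type*} [Group G]

theorem mem_conj_smul_iff' (H : Subgroup G) (g x : G) :
    x ∈ MulAut.conj g • H ↔ g⁻¹ * x * g ∈ H := by
  rw [Subgroup.mem_pointwise_smul_iff_inv_smul_mem, MulAut.smul_def, ← map_inv,
    MulAut.conj_apply, inv_inv]

/-- An internal semidirect product with semiregular, transitive action is a doubly transitive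
Frobenius group. -/
theorem frobenius_of_compl [Finite G] (N H : Subgroup G) [hNn : N.Normal] (hN1 : N ≠ ⊥)
    (hab : ∀ a ∈ N, ∀ b ∈ N, a * b = b * a)
    (hcover : ∀ g : G, ∃ n ∈ N, ∃ h ∈ H, g = n * h) (hdisj : ∀ g, g ∈ N → g ∈ H → g = 1)
    (hsemi : ∀ h ∈ H, h ≠ 1 → ∀ n ∈ N, h * n * h⁻¹ = n → n = 1)
    (htrans : ∀ x ∈ N, ∀ y ∈ N, x ≠ 1 → y ≠ 1 → ∃ g : G, g * x * g⁻¹ = y)
    (hG : 2 < Nat.card G) :
    Cfsg.IsFrobeniusComplement H ∧ Cfsg.frobeniusKernel H = (N : Set G) ∧
      Nat.card H + 1 = Nat.card N := by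
  classical
  obtain ⟨⟨x0, hx0N⟩, hx0⟩ := (Subgroup.ne_bot_iff_exists_ne_one).1 hN1
  have hx01 : x0 ≠ 1 := fun h => hx0 (Subtype.ext h)
  -- commuting version of semiregularity
  have hsemi' : ∀ h ∈ H, ∀ n ∈ N, n ≠ 1 → h * n * h⁻¹ = n → h = 1 := by
    intro h hh n hn hn1 hfix
    by_contra hh1
    exact hn1 (hsemi h hh hh1 n hn hfix)
  -- cardinality
  have hcard : Nat.card H + 1 = Nat.card N := by
    have hmem : ∀ h : H, (h : G) * x0 * (h : G)⁻¹ ∈ N := fun h => hNn.conj_mem x0 hx0N h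
    have hne : ∀ h : H, (⟨(h : G) * x0 * (h : G)⁻¹, hmem h⟩ : N) ≠ 1 := by
      intro h heq
      have h1 : (h : G) * x0 * (h : G)⁻¹ = 1 := congrArg Subtype.val heq
      apply hx01
      calc x0 = (h : G)⁻¹ * ((h : G) * x0 * (h : G)⁻¹) * (h : G) := by group
        _ = 1 := by rw [h1]; group
    let f : H → {n : N // n ≠ 1} := fun h => ⟨⟨(h : G) * x0 * (h : G)⁻¹, hmem h⟩, hne h⟩
    have hfinj : Function.Injective f := by
      intro h h' hhh
      have h1 : (h : G) * x0 * (h : G)⁻¹ = (h' : G) * x0 * (h' : G)⁻¹ := by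
        have := congrArg (fun t : {n : N // n ≠ 1} => ((t : N) : G)) hhh
        exact this
      have h2 : ((h' : G)⁻¹ * (h : G)) * x0 * ((h' : G)⁻¹ * (h : G))⁻¹ = x0 := by
        calc ((h' : G)⁻¹ * (h : G)) * x0 * ((h' : G)⁻¹ * (h : G))⁻¹
            = (h' : G)⁻¹ * ((h : G) * x0 * (h : G)⁻¹) * (h' : G) := by group
          _ = (h' : G)⁻¹ * ((h' : G) * x0 * (h' : G)⁻¹) * (h' : G) := by rw [h1]
          _ = x0 := by group
      have h3 := hsemi' _ (H.mul_mem (H.inv_mem h'.2) h.2) x0 hx0N hx01 h2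
      apply Subtype.ext
      exact (inv_mul_eq_one.1 h3).symm
    have hfsurj : Function.Surjective f := by
      rintro ⟨⟨n, hn⟩, hn1⟩
      have hn1' : n ≠ 1 := fun h => hn1 (Subtype.ext h)
      obtain ⟨g, hg⟩ := htrans x0 hx0N n hn hx01 hn1'
      obtain ⟨m, hm, h, hh, rfl⟩ := hcover g
      refine ⟨⟨h, hh⟩, ?_⟩
      apply Subtype.ext
      apply Subtype.ext
      show h * x0 * h⁻¹ = n
      have hc : h * x0 * h⁻¹ ∈ N := hNn.conj_mem x0 hx0N h
      rw [← hg]
      calc h * x0 * h⁻¹ = (h * x0 * h⁻¹) * m * m⁻¹ := by group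
        _ = m * (h * x0 * h⁻¹) * m⁻¹ := by rw [hab _ hc _ hm]
        _ = m * h * x0 * (m * h)⁻¹ := by group
    have h1 : Nat.card H = Nat.card {n : N // n ≠ 1} :=
      Nat.card_congr (Equiv.ofBijective f ⟨hfinj, hfsurj⟩)
    have h2 : Nat.card (Option {n : N // n ≠ 1}) = Nat.card N :=
      Nat.card_congr (Equiv.optionSubtypeNe (1 : N))
    rw [Finite.card_option] at h2
    rw [h1, h2]
  refine ⟨⟨?_, ?_, ?_⟩, ?_, hcard⟩
  · -- H ≠ ⊥
    intro hbot
    have hNtop : N = ⊤ := by
      rw [eq_top_iff]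
      intro g _
      obtain ⟨n, hn, h, hh, rfl⟩ := hcover g
      rw [hbot, Subgroup.mem_bot] at hh
      rw [hh, mul_one]; exact hn
    have h1 : Nat.card H = 1 := by rw [hbot]; exact Subgroup.card_bot
    have h2 : Nat.card N = Nat.card G := by rw [hNtop]; exact Subgroup.card_top
    omega
  · -- H ≠ ⊤
    intro htop
    apply hx01
    apply hdisj x0 hx0N
    rw [htop]; trivial
  · -- TI
    intro g hgH
    rw [eq_bot_iff]
    intro k hk
    rw [Subgroup.mem_inf, mem_conj_smul_iff'] at hk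
    obtain ⟨hkH, hk2⟩ := hk
    rw [Subgroup.mem_bot]
    obtain ⟨n, hn, h, hh, rfl⟩ := hcover g
    have hn1 : n ≠ 1 := by
      intro h1
      apply hgH
      rw [h1, one_mul]; exact hh
    have hk3 : n⁻¹ * k * n ∈ H := by
      have : n⁻¹ * k * n = h * ((n * h)⁻¹ * k * (n * h)) * h⁻¹ := by group
      rw [this]
      exact H.mul_mem (H.mul_mem hh hk2) (H.inv_mem hh)
    have hk4 : k⁻¹ * (n⁻¹ * k * n) ∈ N := by
      have h1 : k⁻¹ * n⁻¹ * k ∈ N := by
        have := hNn.conj_mem n⁻¹ (N.inv_mem hn) k⁻¹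
        simpa using this
      have : k⁻¹ * (n⁻¹ * k * n) = (k⁻¹ * n⁻¹ * k) * n := by group
      rw [this]
      exact N.mul_mem h1 hn
    have hk5 : k⁻¹ * (n⁻¹ * k * n) = 1 :=
      hdisj _ hk4 (H.mul_mem (H.inv_mem hkH) hk3)
    have hk6 : k * n * k⁻¹ = n := by
      have h1 : n⁻¹ * k * n = k := by
        have := inv_mul_eq_one.1 hk5
        exact this.symm
      calc k * n * k⁻¹ = n * (n⁻¹ * k * n) * k⁻¹ := by group
        _ = n * k * k⁻¹ := by rw [h1]
        _ = n := by group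
    exact hsemi' k hkH n hn hn1 hk6
  · -- kernel
    ext x
    simp only [Cfsg.frobeniusKernel, Set.mem_setOf_eq, SetLike.mem_coe, mem_conj_smul_iff']
    constructor
    · rintro (rfl | hx)
      · exact N.one_mem
      · obtain ⟨n, hn, h, hh, rfl⟩ := hcover x
        by_cases hh1 : h = 1
        · rw [hh1, mul_one]; exact hn
        · exfalso
          have hφmem : ∀ m : N, (m : G) * h * (m : G)⁻¹ * h⁻¹ ∈ N := by
            intro m
            have h1 : h * (m : G)⁻¹ * h⁻¹ ∈ N := hNn.conj_mem _ (N.inv_mem m.2) h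
            have : (m : G) * h * (m : G)⁻¹ * h⁻¹ = (m : G) * (h * (m : G)⁻¹ * h⁻¹) := by group
            rw [this]
            exact N.mul_mem m.2 h1
          let φ : N → N := fun m => ⟨(m : G) * h * (m : G)⁻¹ * h⁻¹, hφmem m⟩
          have hφinj : Function.Injective φ := by
            intro m m' hmm
            have h1 : (m : G) * h * (m : G)⁻¹ * h⁻¹ = (m' : G) * h * (m' : G)⁻¹ * h⁻¹ :=
              congrArg Subtype.val hmm
            have h2 : (m : G) * h * (m : G)⁻¹ = (m' : G) * h * (m' : G)⁻¹ :=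
              mul_right_cancel h1
            have h3 : h * ((m' : G)⁻¹ * (m : G)) * h⁻¹ = (m' : G)⁻¹ * (m : G) := by
              calc h * ((m' : G)⁻¹ * (m : G)) * h⁻¹
                  = (m' : G)⁻¹ * ((m' : G) * h * (m' : G)⁻¹) * (m : G) * h⁻¹ := by group
                _ = (m' : G)⁻¹ * ((m : G) * h * (m : G)⁻¹) * (m : G) * h⁻¹ := by rw [h2]
                _ = (m' : G)⁻¹ * (m : G) := by group
            have h4 := hsemi h hh hh1 _ (N.mul_mem (N.inv_mem m'.2) m.2) h3
            apply Subtype.ext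
            exact (inv_mul_eq_one.1 h4).symm
          have hφsurj : Function.Surjective φ := Finite.injective_iff_surjective.1 hφinj
          obtain ⟨m, hm⟩ := hφsurj ⟨n, hn⟩
          have h1 : (m : G) * h * (m : G)⁻¹ * h⁻¹ = n := congrArg Subtype.val hm
          apply hx (m : G)
          have : (m : G)⁻¹ * (n * h) * (m : G) = h := by
            rw [← h1]; group
          rw [this]; exact hh
    · intro hxN
      by_cases hx1 : x = 1
      · left; exact hx1
      · right
        intro g hg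
        have h1 : g⁻¹ * x * g ∈ N := by
          have := hNn.conj_mem x hxN g⁻¹
          simpa using this
        have h2 := hdisj _ h1 hg
        apply hx1
        calc x = g * (g⁻¹ * x * g) * g⁻¹ := by group
          _ = 1 := by rw [h2]; group

end Cfsg.Agent.Lib.Helper22.Gagola
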