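/-
helper22: the Gaschütz–Yen theorem (p odd, p-solvable, Aut transitive on subgroups of order p
implies p-length at most 1).  Elementary proof: with `O_{p'} = 1`, all elements of order `p` lie in
`E = Ω₁(Z(O_p))`; `C(E) = O_p` (p odd); `K/O_p = O_{p'}(X/O_p)` has `C_E(K) = 1` by transitivity;
a Hall `p'`-subgroup `Q` of `K` has `N(Q) ∩ O_p = 1` and `X = O_p N(Q)` (Frattini), so `N(Q)` would
contain an element of order `p` outside `O_p`.
-/
import Mathlib
import Cfsg.Prelude.Def_Local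
import Cfsg.Prelude.Def_CaseTheorems
import Cfsg.Agent.S0120
import Cfsg.Agent.Lib.Helper12.HallHigman
import Cfsg.Agent.Lib.Helper12.Cores
import Cfsg.Agent.Lib.Helper24.PSolvable
import Cfsg.Agent.Lib.Helper16.PReduced
import Cfsg.Agent.Lib.Helper1.Coprime
import Cfsg.Agent.Lib.Helper1.PLenSeries

set_option autoImplicit false
open Cfsg
open scoped Pointwise

namespace Cfsg.Agent.Lib.Helper22.GY

universe u

variable {X : Type u} [Group X]

/-- elements of order dividing `p` in the centre of `O_p(X)`. -/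
def omegaZ (p : ℕ) (X : Type u) [Group X] : Subgroup X where
  carrier := {z | z ∈ Cfsg.pCore p X ∧ z ^ p = 1 ∧ ∀ x ∈ Cfsg.pCore p X, x * z = z * x}
  one_mem' := ⟨one_mem _, one_pow _, fun x _ => by rw [mul_one, one_mul]⟩
  mul_mem' := by
    rintro a b ⟨ha, hap, hac⟩ ⟨hb, hbp, hbc⟩
    refine ⟨mul_mem ha hb, ?_, ?_⟩
    · have hcomm : Commute a b := (hac b hb).symm
      rw [hcomm.mul_pow, hap, hbp, one_mul]
    · intro x hx
      rw [← mul_assoc, hac x hx, mul_assoc, hbc x hx, mul_assoc]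
  inv_mem' := by
    rintro a ⟨ha, hap, hac⟩
    refine ⟨inv_mem ha, by rw [inv_pow, hap, inv_one], ?_⟩
    intro x hx
    have := hac x hx
    calc x * a⁻¹ = a⁻¹ * (a * x) * a⁻¹ := by group
      _ = a⁻¹ * (x * a) * a⁻¹ := by rw [this]
      _ = a⁻¹ * x := by group

theorem mem_omegaZ {p : ℕ} {z : X} : z ∈ omegaZ p X ↔
    z ∈ Cfsg.pCore p X ∧ z ^ p = 1 ∧ ∀ x ∈ Cfsg.pCore p X, x * z = z * x := Iff.rfl

theorem pCore_map_aut (p : ℕ) (a : MulAut X) : (Cfsg.pCore p X).map a.toMonoidHom = Cfsg.pCore p X :=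
  Cfsg.Agent.Lib.Helper12.pCore_map_equiv' p a

theorem aut_mem_pCore (p : ℕ) (a : MulAut X) {x : X} (hx : x ∈ Cfsg.pCore p X) :
    a x ∈ Cfsg.pCore p X := by
  rw [← pCore_map_aut p a]
  exact ⟨x, hx, rfl⟩

theorem aut_mem_omegaZ (p : ℕ) (a : MulAut X) {z : X} (hz : z ∈ omegaZ p X) : a z ∈ omegaZ p X := by
  obtain ⟨h1, h2, h3⟩ := hz
  refine ⟨aut_mem_pCore p a h1, by rw [← map_pow, h2, map_one], ?_⟩
  intro x hx
  have hx' : a⁻¹ x ∈ Cfsg.pCore p X := aut_mem_pCore p a⁻¹ hx
  have := h3 _ hx'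
  have h4 : a (a⁻¹ x * z) = a (z * a⁻¹ x) := by rw [this]
  rw [map_mul, map_mul] at h4
  have h5 : a (a⁻¹ x) = x := by simp
  rwa [h5] at h4


/-- a nontrivial `p`-subgroup of a finite group contains an element of order `p`. -/
theorem exists_orderOf_eq_of_isPGroup {G : Type*} [Group G] [Finite G] {p : ℕ} [hp : Fact p.Prime]
    (H : Subgroup G) (hH : IsPGroup p H) (hne : H ≠ ⊥) : ∃ h ∈ H, orderOf h = p := by
  haveI : Nontrivial H := (Subgroup.nontrivial_iff_ne_bot H).mpr hne
  obtain ⟨k, hk⟩ := IsPGroup.iff_card.mp hH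
  have hk0 : k ≠ 0 := by
    rintro rfl
    have h1 : 1 < Nat.card H := Finite.one_lt_card
    rw [hk, pow_zero] at h1
    exact lt_irrefl _ h1
  have hdvd : p ∣ Nat.card H := by
    rw [hk]; exact dvd_pow_self p hk0
  obtain ⟨z, hz⟩ := exists_prime_orderOf_dvd_card' p hdvd
  exact ⟨(z : G), z.2, by rw [Subgroup.orderOf_coe]; exact hz⟩

variable [Finite X] {p : ℕ} [hp : Fact p.Prime]

theorem omegaZ_le_pCore : omegaZ p X ≤ Cfsg.pCore p X := fun _ hz => hz.1

theorem exists_orderOf_eq_mem_omegaZ (hP : Cfsg.pCore p X ≠ ⊥) :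
    ∃ e ∈ omegaZ p X, orderOf e = p := by
  set P := Cfsg.pCore p X with hPdef
  have hPp : IsPGroup p P := Cfsg.Agent.Lib.Helper12.pCore_isPGroup' p
  haveI : Nontrivial P := (Subgroup.nontrivial_iff_ne_bot P).mpr hP
  haveI : Nontrivial (Subgroup.center P) := hPp.center_nontrivial
  have hZp : IsPGroup p (Subgroup.center P) := hPp.to_subgroup _
  have hZne : Subgroup.center P ≠ ⊥ := (Subgroup.nontrivial_iff_ne_bot _).mp inferInstance
  obtain ⟨z, hz, hzo⟩ := exists_orderOf_eq_of_isPGroup (Subgroup.center P) hZp hZne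
  refine ⟨(z : X), ⟨z.2, ?_, ?_⟩, by rw [Subgroup.orderOf_coe]; exact hzo⟩
  · have : z ^ p = 1 := by rw [← hzo]; exact pow_orderOf_eq_one z
    have h2 := congrArg (Subtype.val) this
    simpa using h2
  · intro x hx
    have h1 := Subgroup.mem_center_iff.mp hz ⟨x, hx⟩
    have h2 := congrArg (Subtype.val) h1
    simpa using h2

/-- under transitivity on subgroups of order `p`, an `Aut`-invariant subgroup containing an element
of order `p` contains all of them. -/
theorem mem_of_orderOf_eq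
    (htrans : ∀ U V : Subgroup X, Nat.card U = p → Nat.card V = p →
      ∃ a : MulAut X, U.map a.toMonoidHom = V)
    (D : Subgroup X) (hD : ∀ a : MulAut X, ∀ d ∈ D, a d ∈ D)
    {d : X} (hd : d ∈ D) (hdo : orderOf d = p) {x : X} (hx : orderOf x = p) : x ∈ D := by
  have h1 : Nat.card (Subgroup.zpowers d) = p := by rw [Nat.card_zpowers, hdo]
  have h2 : Nat.card (Subgroup.zpowers x) = p := by rw [Nat.card_zpowers, hx]
  obtain ⟨a, ha⟩ := htrans _ _ h1 h2
  have h3 : x ∈ (Subgroup.zpowers d).map a.toMonoidHom := by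
    rw [ha]; exact Subgroup.mem_zpowers x
  obtain ⟨u, hu, rfl⟩ := h3
  have h4 : u ∈ D := (Subgroup.zpowers_le.mpr hd) hu
  exact hD a u h4


/-- `C_X(E) ≤ O_p(X)` for `E = Ω₁(Z(O_p(X)))`, when `p` is odd, `X` is `p`-solvable with
`O_{p'}(X) = 1` and every element of order `p` of `O_p(X)` lies in `E`. -/
theorem centralizer_omegaZ_le (hp2 : p ≠ 2) (hsol : Cfsg.IsPSolvable p X)
    (hO : Cfsg.pPrimeCore p X = ⊥)
    (hall : ∀ x : X, orderOf x = p → x ∈ omegaZ p X) :
    Subgroup.centralizer (omegaZ p X : Set X) ≤ Cfsg.pCore p X := by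
  set P := Cfsg.pCore p X with hPdef
  set E := omegaZ p X with hEdef
  have hPp : IsPGroup p P := Cfsg.Agent.Lib.Helper12.pCore_isPGroup' p
  have hEn : E.Normal := by
    constructor
    intro z hz g
    have := aut_mem_omegaZ p (MulAut.conj g) hz
    simpa [MulAut.conj_apply] using this
  have hCn : (Subgroup.centralizer (E : Set X)).Normal := inferInstance
  -- p'-elements of C are trivial
  have hp' : ∀ g ∈ Subgroup.centralizer (E : Set X), (orderOf g).Coprime p → g = 1 := by
    intro g hg hcop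
    set α : MulAut P := MulAut.conjNormal g with hα
    have hαord : (orderOf α).Coprime p := by
      have h1 : orderOf α ∣ orderOf g := by
        rw [hα]; exact orderOf_map_dvd (MulAut.conjNormal (H := P)) g
      exact Nat.Coprime.coprime_dvd_left h1 hcop
    have hfix : ∀ x : P, x ^ p = 1 → α x = x := by
      intro x hx
      have hxX : (x : X) ^ p = 1 := by
        have := congrArg Subtype.val hx
        simpa using this
      have hxE : (x : X) ∈ E := by
        by_cases h1 : (x : X) = 1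
        · rw [h1]; exact one_mem _
        · exact hall _ (orderOf_eq_prime hxX h1)
      have hcomm := Subgroup.mem_centralizer_iff.mp hg _ hxE
      apply Subtype.ext
      rw [hα, MulAut.conjNormal_apply]
      rw [← hcomm]; group
    have hα1 : α = 1 := Cfsg.Agent.S0120.result hp2 hPp α hαord hfix
    have hgC : g ∈ Subgroup.centralizer (P : Set X) := by
      rw [Subgroup.mem_centralizer_iff]
      intro x hx
      have h1 : α ⟨x, hx⟩ = ⟨x, hx⟩ := by rw [hα1]; rfl
      have h2 := congrArg Subtype.val h1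
      rw [hα, MulAut.conjNormal_apply] at h2
      simp only at h2
      calc x * g = (g * x * g⁻¹) * g := by rw [h2]
        _ = g * x := by group
    have hgP : g ∈ P := Cfsg.Agent.Lib.Helper12.centralizer_pCore_le_pCore p hsol hO hgC
    obtain ⟨k, hk⟩ := hPp ⟨g, hgP⟩
    have hk' : g ^ p ^ k = 1 := by
      have := congrArg Subtype.val hk
      simpa using this
    have h3 : orderOf g ∣ p ^ k := orderOf_dvd_of_pow_eq_one hk'
    have h4 : (orderOf g).Coprime (p ^ k) := Nat.Coprime.pow_right k hcop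
    exact orderOf_eq_one_iff.mp (Nat.Coprime.eq_one_of_dvd h4 h3)
  have hCp : IsPGroup p (Subgroup.centralizer (E : Set X)) := by
    rintro ⟨g, hg⟩
    have ho : orderOf g ≠ 0 := (orderOf_pos g).ne'
    obtain ⟨k, m, hm, hkm⟩ := Nat.exists_eq_pow_mul_and_not_dvd ho p hp.out.ne_one
    refine ⟨k, ?_⟩
    apply Subtype.ext
    simp only [Subgroup.coe_pow, Subgroup.coe_one]
    apply hp' _ (pow_mem hg _)
    have h1 : orderOf (g ^ p ^ k) ∣ m := by
      apply orderOf_dvd_of_pow_eq_one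
      rw [← pow_mul, ← hkm, pow_orderOf_eq_one]
    have h2 : m.Coprime p := ((Nat.Prime.coprime_iff_not_dvd hp.out).mpr hm).symm
    exact Nat.Coprime.coprime_dvd_left h1 h2
  exact Cfsg.Agent.Lib.Helper12.le_pCore' p _ hCn hCp


/-- the core of Gaschütz–Yen: with `O_{p'}(X) = 1`, `X / O_p(X)` is a `p'`-group. -/
theorem coprime_index_pCore (hp2 : p ≠ 2) (hsol : Cfsg.IsPSolvable p X)
    (hO : Cfsg.pPrimeCore p X = ⊥)
    (htrans : ∀ U V : Subgroup X, Nat.card U = p → Nat.card V = p →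
      ∃ a : MulAut X, U.map a.toMonoidHom = V) :
    (Cfsg.pCore p X).index.Coprime p := by
  by_contra hnc
  have hdvd : p ∣ (Cfsg.pCore p X).index := by
    by_contra h
    exact hnc ((Nat.Prime.coprime_iff_not_dvd hp.out).mpr h).symm
  set P := Cfsg.pCore p X with hPdef
  set E := omegaZ p X with hEdef
  have hPn : P.Normal := inferInstance
  have hPp : IsPGroup p P := Cfsg.Agent.Lib.Helper12.pCore_isPGroup' p
  have hXnt : Nontrivial X := by
    by_contra h
    rw [not_nontrivial_iff_subsingleton] at h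
    have : P.index = 1 := by
      rw [Subgroup.index_eq_one]
      exact Subsingleton.elim _ _
    rw [this] at hdvd
    exact hp.out.one_lt.ne' (Nat.dvd_one.mp hdvd)
  have hPne : P ≠ ⊥ := Cfsg.Agent.Lib.Helper24.pCore_ne_bot_of_isPSolvable p hsol hO
  obtain ⟨e, heE, heo⟩ := exists_orderOf_eq_mem_omegaZ (X := X) (p := p) hPne
  have hEinv : ∀ a : MulAut X, ∀ d ∈ E, a d ∈ E := fun a d hd => aut_mem_omegaZ p a hd
  have hall : ∀ x : X, orderOf x = p → x ∈ E := fun x hx =>
    mem_of_orderOf_eq htrans E hEinv heE heo hx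
  have hEP : E ≤ P := omegaZ_le_pCore
  have hCE : Subgroup.centralizer (E : Set X) ≤ P := centralizer_omegaZ_le hp2 hsol hO hall
  -- the quotient Y = X / P
  have hsolY : Cfsg.IsPSolvable p (X ⧸ P) :=
    Cfsg.Agent.Lib.Helper24.isPSolvable_of_surjective p (QuotientGroup.mk' P)
      (QuotientGroup.mk'_surjective P) hsol
  have hYcard : Nat.card (X ⧸ P) = P.index := (Subgroup.index_eq_card P).symm
  have hYnt : Nontrivial (X ⧸ P) := by
    rw [← Finite.one_lt_card_iff_nontrivial, hYcard]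
    exact lt_of_lt_of_le hp.out.one_lt (Nat.le_of_dvd (Nat.pos_of_ne_zero (Subgroup.index_ne_zero_of_finite)) hdvd)
  have hOpY : Cfsg.pCore p (X ⧸ P) = ⊥ := by
    rw [Cfsg.Agent.Lib.Helper16.pCore_quotient_eq_bot_iff]
    intro D hD hDp
    apply Cfsg.Agent.Lib.Helper12.le_pCore' p D hD
    rintro ⟨d, hd⟩
    obtain ⟨k, hk⟩ := hDp d hd
    obtain ⟨j, hj⟩ := hPp ⟨_, hk⟩
    refine ⟨k + j, ?_⟩
    apply Subtype.ext
    have := congrArg Subtype.val hj
    simp only [Subgroup.coe_pow, Subgroup.coe_one] at this ⊢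
    rw [pow_add, pow_mul]
    exact this
  set Kb := Cfsg.pPrimeCore p (X ⧸ P) with hKbdef
  have hKbne : Kb ≠ ⊥ := by
    obtain ⟨N, hN, hN1, hN2⟩ := Cfsg.Agent.Lib.Helper24.exists_normal_of_isPSolvable p hsolY
    rcases hN2 with hpg | hc
    · exfalso
      have := Cfsg.Agent.Lib.Helper12.le_pCore' p N hN hpg
      rw [hOpY, le_bot_iff] at this
      exact hN1 this
    · intro hbot
      have := Cfsg.Agent.Lib.Helper12.le_pPrimeCore p N hN hc
      rw [← hKbdef, hbot, le_bot_iff] at this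
      exact hN1 this
  have hKbcop : (Nat.card Kb).Coprime p := Cfsg.Agent.Lib.Helper12.pPrimeCore_coprime p
  have hKbn : Kb.Normal := inferInstance
  set K := Kb.comap (QuotientGroup.mk' P) with hKdef
  have hKn : K.Normal := inferInstance
  have hPK : P ≤ K := by
    intro x hx
    rw [hKdef, Subgroup.mem_comap]
    have : (QuotientGroup.mk' P) x = 1 := by
      rw [QuotientGroup.mk'_apply, QuotientGroup.eq_one_iff]; exact hx
    rw [this]; exact one_mem _
  have hKmap : K.map (QuotientGroup.mk' P) = Kb :=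
    Subgroup.map_comap_eq_self_of_surjective (QuotientGroup.mk'_surjective P) Kb
  have hKinv : ∀ a : MulAut X, ∀ x ∈ K, a x ∈ K := by
    intro a x hx
    have hPa : P.map (a : X →* X) = P := pCore_map_aut p a
    set ab : (X ⧸ P) ≃* (X ⧸ P) := QuotientGroup.congr P P a hPa with hab
    have h1 : Kb.map ab.toMonoidHom = Kb := Cfsg.Agent.Lib.Helper12.pPrimeCore_map_equiv p ab
    rw [hKdef, Subgroup.mem_comap] at hx ⊢
    have h2 : (QuotientGroup.mk' P) (a x) = ab ((QuotientGroup.mk' P) x) := by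
      rw [hab]; simp [QuotientGroup.congr_mk]
    rw [h2, ← h1]
    exact ⟨_, hx, rfl⟩
  have hrel : P.relIndex K = Nat.card Kb := by
    have h1 := Subgroup.relIndex_ker (QuotientGroup.mk' P) (K := K)
    rw [QuotientGroup.ker_mk', hKmap] at h1
    exact h1
  -- C_E(K) = 1
  set D := E ⊓ Subgroup.centralizer (K : Set X) with hDdef
  have hDinv : ∀ a : MulAut X, ∀ d ∈ D, a d ∈ D := by
    intro a d hd
    rw [hDdef, Subgroup.mem_inf] at hd ⊢
    refine ⟨hEinv a d hd.1, ?_⟩
    rw [Subgroup.mem_centralizer_iff]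
    intro x hx
    have hx' : a⁻¹ x ∈ K := hKinv a⁻¹ x hx
    have h1 := Subgroup.mem_centralizer_iff.mp hd.2 _ hx'
    have h2 : a (a⁻¹ x * d) = a (d * a⁻¹ x) := by rw [h1]
    rw [map_mul, map_mul] at h2
    have h3 : a (a⁻¹ x) = x := by simp
    rwa [h3] at h2
  have hDbot : D = ⊥ := by
    by_contra hDne
    have hDp : IsPGroup p D := hPp.to_le (le_trans inf_le_left hEP)
    obtain ⟨d, hdD, hdo⟩ := exists_orderOf_eq_of_isPGroup D hDp hDne
    have hED : E ≤ D := by
      intro z hz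
      by_cases h1 : z = 1
      · rw [h1]; exact one_mem _
      · exact mem_of_orderOf_eq htrans D hDinv hdD hdo (orderOf_eq_prime hz.2.1 h1)
    have hKC : K ≤ Subgroup.centralizer (E : Set X) := by
      intro x hx
      rw [Subgroup.mem_centralizer_iff]
      intro z hz
      exact (Subgroup.mem_centralizer_iff.mp (hED hz).2 x hx).symm
    have hKP : K ≤ P := le_trans hKC hCE
    apply hKbne
    rw [← hKmap, eq_bot_iff]
    rintro _ ⟨x, hx, rfl⟩
    rw [Subgroup.mem_bot, QuotientGroup.mk'_apply, QuotientGroup.eq_one_iff]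
    exact hKP hx
  -- a complement Q of P in K
  obtain ⟨a0, ha0⟩ := IsPGroup.iff_card.mp hPp
  have hcop1 : Nat.Coprime (Nat.card P) (P.relIndex K) := by
    rw [hrel, ha0]
    exact Nat.Coprime.pow_left a0 hKbcop.symm
  have hKnormP : K ≤ Subgroup.normalizer (P : Set X) := by
    rw [Subgroup.normalizer_eq_top]; exact le_top
  obtain ⟨Q, hQ⟩ := Cfsg.Agent.Lib.Helper1.internal_sz_exists hPK hKnormP hcop1
  have hQK : Q ≤ K := hQ.2.1
  have hdisj : Disjoint P Q := hQ.2.2.1
  have hcardQ : Nat.card Q = P.relIndex K := by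
    have h1 := hQ.card_mul_card
    have h2 : Nat.card P * P.relIndex K = Nat.card K := by
      have h4 := Subgroup.card_mul_index (P.subgroupOf K)
      rw [Cfsg.Agent.Lib.Helper1.card_subgroupOf_of_le hPK] at h4
      exact h4
    have h3 : 0 < Nat.card P := Nat.card_pos
    exact Nat.eq_of_mul_eq_mul_left h3 (h1.trans h2.symm)
  have hcopPQ : Nat.Coprime (Nat.card P) (Nat.card Q) := by rw [hcardQ]; exact hcop1
  have hPsolv : Group.IsSolvable P := by
    haveI : Group.IsNilpotent P := hPp.isNilpotent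
    infer_instance
  set N := Subgroup.normalizer (Q : Set X) with hNdef
  -- Frattini
  have hfrat : ∀ g : X, ∃ k ∈ P, ∃ n ∈ N, g = k * n := by
    intro g
    have hQ' : Cfsg.Agent.Lib.Helper1.IsComplIn P (MulAut.conj g • Q) K := by
      refine ⟨hPK, ?_, ?_, ?_⟩
      · intro x hx
        rw [Cfsg.Agent.Lib.Helper1.mem_conj_smul_iff] at hx
        have h1 := hQK hx
        have h2 := hKn.conj_mem _ h1 g
        have h3 : g * (g⁻¹ * x * g) * g⁻¹ = x := by group
        rwa [h3] at h2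
      · rw [Subgroup.disjoint_def]
        intro x hxP hxQ
        rw [Cfsg.Agent.Lib.Helper1.mem_conj_smul_iff] at hxQ
        have h1 : g⁻¹ * x * g ∈ P := by
          have := hPn.conj_mem x hxP g⁻¹
          simpa using this
        have h2 := Subgroup.disjoint_def.mp hdisj h1 hxQ
        have h3 : x = g * (g⁻¹ * x * g) * g⁻¹ := by group
        rw [h3, h2]; group
      · intro γ hγ
        have h1 : g⁻¹ * γ * g ∈ K := by
          have := hKn.conj_mem γ hγ g⁻¹
          simpa using this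
        obtain ⟨k, hk, q, hq, hkq⟩ := hQ.2.2.2 _ h1
        refine ⟨g * k * g⁻¹, hPn.conj_mem k hk g, g * q * g⁻¹, ?_, ?_⟩
        · rw [Cfsg.Agent.Lib.Helper1.mem_conj_smul_iff]
          have : g⁻¹ * (g * q * g⁻¹) * g = q := by group
          rw [this]; exact hq
        · have : g * k * g⁻¹ * (g * q * g⁻¹) = g * (k * q) * g⁻¹ := by group
          rw [this, hkq]; group
    obtain ⟨k, hk, hkQ⟩ := Cfsg.Agent.Lib.Helper1.internal_sz_conj hKnormP hQ hQ' hcopPQ (Or.inl hPsolv)
    have hkg : k * g ∈ N := by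
      rw [hNdef, Subgroup.mem_normalizer_iff_map_conj_eq]
      have h1 : MulAut.conj (k * g) • Q = Q := by
        rw [map_mul, mul_smul]; exact hkQ
      exact h1
    exact ⟨k⁻¹, inv_mem hk, k * g, hkg, by group⟩
  -- N ⊓ P = ⊥
  have hNP : N ⊓ P = ⊥ := by
    by_contra hne
    have hRp : IsPGroup p (N ⊓ P : Subgroup X) := hPp.to_le inf_le_right
    obtain ⟨y, hy, hyo⟩ := exists_orderOf_eq_of_isPGroup (N ⊓ P) hRp hne
    have hyE : y ∈ E := hall y hyo
    have hyD : y ∈ D := by
      rw [hDdef, Subgroup.mem_inf]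
      refine ⟨hyE, ?_⟩
      rw [Subgroup.mem_centralizer_iff]
      intro κ hκ
      obtain ⟨k, hk, q, hq, rfl⟩ := hQ.2.2.2 κ hκ
      have h1 : k * y = y * k := hyE.2.2 k hk
      have h2 : q * y = y * q := by
        have hyN : y ∈ N := hy.1
        have h3 : y * q * y⁻¹ ∈ Q := (Subgroup.mem_normalizer_iff.mp hyN q).mp hq
        have h4 : y * q * y⁻¹ * q⁻¹ ∈ Q := mul_mem h3 (inv_mem hq)
        have h5 : y * q * y⁻¹ * q⁻¹ ∈ P := by
          have h6 : q * y⁻¹ * q⁻¹ ∈ P := hPn.conj_mem _ (inv_mem hy.2) q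
          have h7 : y * q * y⁻¹ * q⁻¹ = y * (q * y⁻¹ * q⁻¹) := by group
          rw [h7]; exact mul_mem hy.2 h6
        have h8 := Subgroup.disjoint_def.mp hdisj h5 h4
        calc q * y = (y * q * y⁻¹ * q⁻¹)⁻¹ * (y * q) := by group
          _ = y * q := by rw [h8]; group
      calc k * q * y = k * (q * y) := by group
        _ = k * (y * q) := by rw [h2]
        _ = (k * y) * q := by group
        _ = (y * k) * q := by rw [h1]
        _ = y * (k * q) := by group
    rw [hDbot, Subgroup.mem_bot] at hyD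
    rw [hyD, orderOf_one] at hyo
    exact hp.out.one_lt.ne' hyo.symm
  -- card N = index P
  have hcompl : Subgroup.IsComplement' P N := by
    apply Subgroup.isComplement'_of_disjoint_and_mul_eq_univ
    · rw [disjoint_iff, inf_comm]; exact hNP
    · rw [Set.eq_univ_iff_forall]
      intro g
      obtain ⟨k, hk, n, hn, rfl⟩ := hfrat g
      exact Set.mul_mem_mul hk hn
  have hcardN : Nat.card N = P.index := by
    have h1 := hcompl.card_mul
    have h2 := Subgroup.card_mul_index P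
    have h3 : 0 < Nat.card P := Nat.card_pos
    exact Nat.eq_of_mul_eq_mul_left h3 (h1.trans h2.symm)
  have hdvdN : p ∣ Nat.card N := by rw [hcardN]; exact hdvd
  obtain ⟨y, hy⟩ := exists_prime_orderOf_dvd_card' p hdvdN
  have hyo : orderOf (y : X) = p := by rw [Subgroup.orderOf_coe]; exact hy
  have hyP : (y : X) ∈ P := hEP (hall _ hyo)
  have hybot : (y : X) ∈ N ⊓ P := ⟨y.2, hyP⟩
  rw [hNP, Subgroup.mem_bot] at hybot
  rw [hybot, orderOf_one] at hyo
  exact hp.out.one_lt.ne' hyo.symm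


section Quot

variable {G : Type u} [Group G] [Finite G]

omit [Finite X] in
/-- lifting a subgroup of order `p` of `G / O_{p'}(G)` to a subgroup of order `p` of `G`. -/
theorem exists_lift (U : Subgroup (G ⧸ Cfsg.pPrimeCore p G)) (hU : Nat.card U = p) :
    ∃ h : G, orderOf h = p ∧
      (Subgroup.zpowers h).map (QuotientGroup.mk' (Cfsg.pPrimeCore p G)) = U := by
  have hOcop : (Nat.card (Cfsg.pPrimeCore p G)).Coprime p :=
    Cfsg.Agent.Lib.Helper12.pPrimeCore_coprime p
  have hUnt : Nontrivial U := by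
    rw [← Finite.one_lt_card_iff_nontrivial, hU]; exact hp.out.one_lt
  obtain ⟨x, hx1⟩ := exists_ne (1 : U)
  have hxb1 : (x : G ⧸ Cfsg.pPrimeCore p G) ≠ 1 := fun h => hx1 (Subtype.ext h)
  have hxbo : orderOf (x : G ⧸ Cfsg.pPrimeCore p G) = p := by
    have h1 := Subgroup.orderOf_dvd_natCard U x.2
    rw [hU] at h1
    rcases (Nat.dvd_prime hp.out).mp h1 with h2 | h2
    · exact absurd (orderOf_eq_one_iff.mp h2) hxb1
    · exact h2
  obtain ⟨g, hg⟩ := QuotientGroup.mk_surjective (x : G ⧸ Cfsg.pPrimeCore p G)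
  have ho : orderOf g ≠ 0 := (orderOf_pos g).ne'
  obtain ⟨a, m, hm, ham⟩ := Nat.exists_eq_pow_mul_and_not_dvd ho p hp.out.ne_one
  set h := g ^ m with hh
  have hmk : (QuotientGroup.mk' (Cfsg.pPrimeCore p G)) h = (x : G ⧸ Cfsg.pPrimeCore p G) ^ m := by
    rw [hh, map_pow, QuotientGroup.mk'_apply, hg]
  have hmcop : (orderOf (x : G ⧸ Cfsg.pPrimeCore p G)).Coprime m := by
    rw [hxbo]; exact (Nat.Prime.coprime_iff_not_dvd hp.out).mpr hm
  have hmko : orderOf ((QuotientGroup.mk' (Cfsg.pPrimeCore p G)) h) = p := by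
    rw [hmk, Nat.Coprime.orderOf_pow hmcop, hxbo]
  have hpa : h ^ p ^ a = 1 := by
    rw [hh, ← pow_mul, mul_comm, ← ham, pow_orderOf_eq_one]
  have hhpO : h ^ p ∈ Cfsg.pPrimeCore p G := by
    have h1 := pow_orderOf_eq_one ((QuotientGroup.mk' (Cfsg.pPrimeCore p G)) h)
    rw [hmko, ← map_pow, QuotientGroup.mk'_apply, QuotientGroup.eq_one_iff] at h1
    exact h1
  have hhp : h ^ p = 1 := by
    have h1 : orderOf (h ^ p) ∣ p ^ a := by
      apply orderOf_dvd_of_pow_eq_one
      rw [← pow_mul, mul_comm, pow_mul, hpa, one_pow]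
    have h2 : orderOf (h ^ p) ∣ Nat.card (Cfsg.pPrimeCore p G) :=
      Subgroup.orderOf_dvd_natCard _ hhpO
    have h3 : (Nat.card (Cfsg.pPrimeCore p G)).Coprime (p ^ a) := Nat.Coprime.pow_right a hOcop
    have h4 := Nat.dvd_gcd h2 h1
    rw [Nat.Coprime.gcd_eq_one h3] at h4
    exact orderOf_eq_one_iff.mp (Nat.dvd_one.mp h4)
  have hh1 : h ≠ 1 := by
    intro h1
    rw [h1, map_one, orderOf_one] at hmko
    exact hp.out.one_lt.ne' hmko.symm
  refine ⟨h, orderOf_eq_prime hhp hh1, ?_⟩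
  rw [MonoidHom.map_zpowers]
  apply Subgroup.eq_of_le_of_card_ge
  · rw [Subgroup.zpowers_le, hmk]
    exact pow_mem x.2 m
  · rw [Nat.card_zpowers, hmko, hU]

omit [Finite X] in
/-- transitivity on subgroups of order `p` passes to `G / O_{p'}(G)`. -/
theorem trans_quotient
    (htrans : ∀ U V : Subgroup G, Nat.card U = p → Nat.card V = p →
      ∃ a : MulAut G, U.map a.toMonoidHom = V) :
    ∀ U V : Subgroup (G ⧸ Cfsg.pPrimeCore p G), Nat.card U = p → Nat.card V = p →
      ∃ a : MulAut (G ⧸ Cfsg.pPrimeCore p G), U.map a.toMonoidHom = V := by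
  intro U V hU hV
  obtain ⟨u, huo, huU⟩ := exists_lift U hU
  obtain ⟨v, hvo, hvV⟩ := exists_lift V hV
  have h1 : Nat.card (Subgroup.zpowers u) = p := by rw [Nat.card_zpowers, huo]
  have h2 : Nat.card (Subgroup.zpowers v) = p := by rw [Nat.card_zpowers, hvo]
  obtain ⟨a, ha⟩ := htrans _ _ h1 h2
  have hOa : (Cfsg.pPrimeCore p G).map (a : G →* G) = Cfsg.pPrimeCore p G :=
    Cfsg.Agent.Lib.Helper12.pPrimeCore_map_equiv p a
  refine ⟨QuotientGroup.congr (Cfsg.pPrimeCore p G) (Cfsg.pPrimeCore p G) a hOa, ?_⟩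
  rw [← huU, ← hvV, ← ha, Subgroup.map_map, Subgroup.map_map]
  congr 1

/-- **Gaschütz–Yen.** -/
theorem gaschutz_yen (hp2 : p ≠ 2) (hG : Cfsg.IsPSolvable p G)
    (htrans : ∀ U V : Subgroup G, Nat.card U = p → Nat.card V = p →
      ∃ a : MulAut G, U.map a.toMonoidHom = V) : Cfsg.PLengthLE p 1 G := by
  set O := Cfsg.pPrimeCore p G with hOdef
  have hX : Cfsg.IsPSolvable p (G ⧸ O) :=
    Cfsg.Agent.Lib.Helper24.isPSolvable_of_surjective p (QuotientGroup.mk' O)
      (QuotientGroup.mk'_surjective O) hG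
  have hOX : Cfsg.pPrimeCore p (G ⧸ O) = ⊥ :=
    Cfsg.Agent.Lib.Helper24.pPrimeCore_quotient_eq_bot' p
  have hcop := coprime_index_pCore hp2 hX hOX (trans_quotient htrans)
  -- p-length of X = G / O
  have hlX : Cfsg.PLengthLE p 1 (G ⧸ O) := by
    have h1 : Cfsg.PLengthLE p 1 (Cfsg.pCore p (G ⧸ O)) :=
      Cfsg.Agent.Lib.Helper1.PLen.pLengthLE_one_of_isPGroup p
        (Cfsg.Agent.Lib.Helper12.pCore_isPGroup' p)
    have h2 : Cfsg.PLengthLE p 0 ((G ⧸ O) ⧸ Cfsg.pCore p (G ⧸ O)) := by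
      apply Cfsg.Agent.Lib.Helper1.PLen.pLengthLE_zero_of_coprime
      rw [← Subgroup.index_eq_card]
      exact hcop
    have h3 := Cfsg.Agent.Lib.Helper1.PLen.pLengthLE_of_extension p (Cfsg.pCore p (G ⧸ O)) h1 h2
    simpa using h3
  have h0 : Cfsg.PLengthLE p 0 O :=
    Cfsg.Agent.Lib.Helper1.PLen.pLengthLE_zero_of_coprime p
      (Cfsg.Agent.Lib.Helper12.pPrimeCore_coprime p)
  have h4 := Cfsg.Agent.Lib.Helper1.PLen.pLengthLE_of_extension p O h0 hlX
  simpa using h4

end Quot

end Cfsg.Agent.Lib.Helper22.GY
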