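import Cfsg.Agent.Lib.Helper25.InvAutDefs

/-!
helper22: S3928 (planner helper25), leaf C: no collision of `JJ a` modulo the centre.
-/

set_option autoImplicit false

namespace Cfsg.Agent.Lib.Helper22.IAC

open Cfsg.Agent.Lib.Helper25.InvAut

theorem eq_of_inv_mul_mem_center {H : Type*} [Group H] [Finite H] {a x x' : H}
    (hx : x ∈ JJ a) (hx' : x' ∈ JJ a) (hz : x⁻¹ * x' ∈ Subgroup.center H) : x = x' := by
  obtain ⟨hxo, hxa⟩ := hx
  obtain ⟨hxo', hxa'⟩ := hx'
  set z := x⁻¹ * x' with hzdef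
  have hzc : ∀ g : H, g * z = z * g := fun g => Subgroup.mem_center_iff.mp hz g
  have hx'eq : x' = x * z := by rw [hzdef]; group
  have hzz : z * z = 1 := by
    have h1 : a * (x * z) * a⁻¹ = (x * z)⁻¹ := by rw [← hx'eq]; exact hxa'
    have h2 : a * (x * z) * a⁻¹ = (a * x * a⁻¹) * z := by
      calc a * (x * z) * a⁻¹ = a * x * (z * a⁻¹) := by group
        _ = a * x * (a⁻¹ * z) := by rw [hzc a⁻¹]
        _ = (a * x * a⁻¹) * z := by group
    rw [h2, hxa, mul_inv_rev] at h1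
    -- x⁻¹ * z = z⁻¹ * x⁻¹
    have h3 : z⁻¹ * x⁻¹ = x⁻¹ * z⁻¹ := by
      have := hzc x
      calc z⁻¹ * x⁻¹ = (x * z)⁻¹ := by group
        _ = (z * x)⁻¹ := by rw [this]
        _ = x⁻¹ * z⁻¹ := by group
    rw [h3] at h1
    have h4 : z = z⁻¹ := mul_left_cancel h1
    calc z * z = z * z⁻¹ := by rw [← h4]
      _ = 1 := mul_inv_cancel z
  have hcomm : Commute x z := (hzc x)
  have hpow : x' ^ (orderOf x) = z ^ (orderOf x) := by
    rw [hx'eq, hcomm.mul_pow, pow_orderOf_eq_one, one_mul]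
  have h5 : z ^ (orderOf x * orderOf x') = 1 := by
    rw [pow_mul, ← hpow, ← pow_mul, mul_comm, pow_mul, pow_orderOf_eq_one, one_pow]
  have h6 : z ^ 2 = 1 := by rw [pow_two]; exact hzz
  have hd1 : orderOf z ∣ orderOf x * orderOf x' := orderOf_dvd_of_pow_eq_one h5
  have hd2 : orderOf z ∣ 2 := orderOf_dvd_of_pow_eq_one h6
  have hodd : Odd (orderOf x * orderOf x') := hxo.mul hxo'
  have hcop : Nat.Coprime (orderOf x * orderOf x') 2 := hodd.coprime_two_right
  have h7 : orderOf z ∣ 1 := by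
    have := Nat.dvd_gcd hd1 hd2
    rwa [hcop.gcd_eq_one] at this
  have hz1 : z = 1 := orderOf_eq_one_iff.mp (Nat.dvd_one.mp h7)
  rw [hx'eq, hz1, mul_one]

end Cfsg.Agent.Lib.Helper22.IAC
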