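import Cfsg.Agent.Lib.Helper25.InvAutDefs

/-!
helper22: S3928 (planner helper25), leaf D: `|C_H(a)| ≤ |J|! |Z(H)|`.
-/

set_option autoImplicit false

namespace Cfsg.Agent.Lib.Helper22.IAD

open Cfsg.Agent.Lib.Helper25.InvAut

theorem conj_mem_JJ {H : Type*} [Group H] {a c x : H} (hc : c * a = a * c) (hx : x ∈ JJ a) :
    c * x * c⁻¹ ∈ JJ a := by
  obtain ⟨hxo, hxa⟩ := hx
  refine ⟨?_, ?_⟩
  · have : orderOf (c * x * c⁻¹) = orderOf x := by
      have := orderOf_injective (MulAut.conj c).toMonoidHom (MulAut.conj c).injective x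
      simpa [MulAut.conj_apply] using this
    rw [this]
    exact hxo
  · have hc' : a * c = c * a := hc.symm
    have hci : a * c⁻¹ = c⁻¹ * a := by
      calc a * c⁻¹ = c⁻¹ * (c * a) * c⁻¹ := by group
        _ = c⁻¹ * (a * c) * c⁻¹ := by rw [hc]
        _ = c⁻¹ * a := by group
    calc a * (c * x * c⁻¹) * a⁻¹ = (a * c) * x * (c⁻¹ * a⁻¹) := by group
      _ = (c * a) * x * (a⁻¹ * c⁻¹) := by
          rw [hc']
          have : c⁻¹ * a⁻¹ = a⁻¹ * c⁻¹ := by
            calc c⁻¹ * a⁻¹ = (a * c)⁻¹ := by group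
              _ = (c * a)⁻¹ := by rw [hc']
              _ = a⁻¹ * c⁻¹ := by group
          rw [this]
      _ = c * (a * x * a⁻¹) * c⁻¹ := by group
      _ = c * x⁻¹ * c⁻¹ := by rw [hxa]
      _ = (c * x * c⁻¹)⁻¹ := by group

/-- LEAF D: `C_H(a)` acts on `J` by conjugation with kernel `Z(H)` (as `H = ⟨a, J⟩`). -/
theorem card_centralizer_le {H : Type*} [Group H] [Finite H] {a : H}
    (hgen : Subgroup.closure (insert a (JJ a)) = ⊤) :
    Nat.card (Subgroup.centralizer ({a} : Set H)) ≤
      (Nat.card (JJ a)).factorial * Nat.card (Subgroup.center H) := by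
  classical
  set C := Subgroup.centralizer ({a} : Set H) with hC
  have hCa : ∀ c : C, (c : H) * a = a * c := by
    intro c
    have := Subgroup.mem_centralizer_singleton_iff.mp c.2
    exact this
  let act : MulAction C (JJ a) :=
    { smul := fun c x => ⟨(c : H) * x * (c : H)⁻¹, conj_mem_JJ (hCa c) x.2⟩
      one_smul := by
        intro x
        apply Subtype.ext
        show ((1 : C) : H) * x * ((1 : C) : H)⁻¹ = x
        simp
      mul_smul := by
        intro c c' x
        apply Subtype.ext
        show ((c * c' : C) : H) * x * ((c * c' : C) : H)⁻¹ = (c : H) * ((c' : H) * x * (c' : H)⁻¹) * (c : H)⁻¹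
        rw [Subgroup.coe_mul]
        group }
  have hsmul : ∀ (c : C) (x : JJ a), ((c • x : JJ a) : H) = (c : H) * x * (c : H)⁻¹ := fun _ _ => rfl
  set ρ : C →* Equiv.Perm (JJ a) := MulAction.toPermHom C (JJ a) with hρ
  -- the kernel lies in the centre
  have hker : ∀ c : C, c ∈ ρ.ker → (c : H) ∈ Subgroup.center H := by
    intro c hc
    rw [MonoidHom.mem_ker] at hc
    have hfix : ∀ x ∈ JJ a, (c : H) * x = x * (c : H) := by
      intro x hx
      have h1 : ρ c ⟨x, hx⟩ = ⟨x, hx⟩ := by rw [hc]; rfl
      have h2 : ((ρ c ⟨x, hx⟩ : JJ a) : H) = (c : H) * x * (c : H)⁻¹ := rfl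
      rw [h1] at h2
      simp only at h2
      calc (c : H) * x = ((c : H) * x * (c : H)⁻¹) * (c : H) := by group
        _ = x * (c : H) := by rw [← h2]
    have hle : Subgroup.closure (insert a (JJ a)) ≤ Subgroup.centralizer ({(c : H)} : Set H) := by
      rw [Subgroup.closure_le]
      intro y hy
      rw [SetLike.mem_coe, Subgroup.mem_centralizer_singleton_iff]
      rcases hy with rfl | hy
      · exact (hCa c).symm
      · exact (hfix y hy).symm
    rw [hgen] at hle
    rw [Subgroup.mem_center_iff]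
    intro g
    have := hle (Subgroup.mem_top g)
    rw [Subgroup.mem_centralizer_singleton_iff] at this
    exact this
  have h1 : Nat.card ρ.ker ≤ Nat.card (Subgroup.center H) := by
    let f : ρ.ker → Subgroup.center H := fun c => ⟨((c : C) : H), hker c.1 c.2⟩
    apply Nat.card_le_card_of_injective f
    intro c c' hcc
    apply Subtype.ext
    apply Subtype.ext
    exact congrArg (fun z : Subgroup.center H => (z : H)) hcc
  have h2 : Nat.card ρ.range ≤ (Nat.card (JJ a)).factorial := by
    rw [← Nat.card_perm]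
    exact Nat.card_le_card_of_injective (fun x : ρ.range => (x : Equiv.Perm (JJ a)))
      Subtype.val_injective
  have h3 : Nat.card C = Nat.card ρ.ker * Nat.card ρ.range := by
    rw [← Subgroup.index_ker, Subgroup.card_mul_index]
  rw [h3, mul_comm]
  exact Nat.mul_le_mul h2 h1

end Cfsg.Agent.Lib.Helper22.IAD
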