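import Cfsg.Agent.Lib.Helper25.InvAutDefs

/-!
helper22: S3928 (planner helper25), leaf H0: a subgroup generated by `r` commuting elements of exponent `e` has at most
`e ^ r` elements.
-/

set_option autoImplicit false

namespace Cfsg.Agent.Lib.Helper22.IAH0

open Cfsg.Agent.Lib.Helper25.InvAut

/-- one step: adjoining an element `s` with `s ^ e = 1` commuting with the generators. -/
theorem closure_insert_finite_card {K : Type*} [Group K] (s : K) (T : Set K)
    (hs : ∀ t ∈ T, s * t = t * s) (e : ℕ) (he : 0 < e) (hse : s ^ e = 1)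
    [Finite (Subgroup.closure T)] :
    Finite (Subgroup.closure (insert s T)) ∧
      Nat.card (Subgroup.closure (insert s T)) ≤ e * Nat.card (Subgroup.closure T) := by
  classical
  -- `s` commutes with the closure
  have hcl : ∀ g ∈ Subgroup.closure T, s * g = g * s := by
    intro g hg
    have hle : Subgroup.closure T ≤ Subgroup.centralizer ({s} : Set K) := by
      rw [Subgroup.closure_le]
      intro t ht
      rw [SetLike.mem_coe, Subgroup.mem_centralizer_singleton_iff]
      exact (hs t ht).symm
    have := hle hg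
    rw [Subgroup.mem_centralizer_singleton_iff] at this
    exact this.symm
  have hclz : ∀ (i : ℤ), ∀ g ∈ Subgroup.closure T, s ^ i * g = g * s ^ i := by
    intro i g hg
    have : Commute s g := hcl g hg
    exact (this.zpow_left i)
  -- normal form
  have hform : ∀ x ∈ Subgroup.closure (insert s T), ∃ (i : ℤ) (g : K), g ∈ Subgroup.closure T ∧
      x = s ^ i * g := by
    intro x hx
    induction hx using Subgroup.closure_induction with
    | mem y hy =>
      rcases hy with rfl | hy
      · exact ⟨1, 1, Subgroup.one_mem _, by simp⟩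
      · exact ⟨0, y, Subgroup.subset_closure hy, by simp⟩
    | one => exact ⟨0, 1, Subgroup.one_mem _, by simp⟩
    | mul x y _ _ hx hy =>
      obtain ⟨i, g, hg, rfl⟩ := hx
      obtain ⟨j, g', hg', rfl⟩ := hy
      refine ⟨i + j, g * g', Subgroup.mul_mem _ hg hg', ?_⟩
      calc s ^ i * g * (s ^ j * g') = s ^ i * (g * s ^ j) * g' := by group
        _ = s ^ i * (s ^ j * g) * g' := by rw [hclz j g hg]
        _ = s ^ (i + j) * (g * g') := by rw [zpow_add]; group
    | inv x _ hx =>
      obtain ⟨i, g, hg, rfl⟩ := hx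
      refine ⟨-i, g⁻¹, Subgroup.inv_mem _ hg, ?_⟩
      calc (s ^ i * g)⁻¹ = g⁻¹ * s ^ (-i) := by group
        _ = s ^ (-i) * g⁻¹ := (hclz (-i) g⁻¹ (Subgroup.inv_mem _ hg)).symm
  -- the surjection
  have hmem : ∀ (i : Fin e) (g : Subgroup.closure T),
      s ^ (i : ℕ) * (g : K) ∈ Subgroup.closure (insert s T) := by
    intro i g
    apply Subgroup.mul_mem
    · exact Subgroup.pow_mem _ (Subgroup.subset_closure (Set.mem_insert s T)) _
    · exact (Subgroup.closure_mono (Set.subset_insert s T)) g.2
  let f : Fin e × Subgroup.closure T → Subgroup.closure (insert s T) :=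
    fun q => ⟨s ^ (q.1 : ℕ) * (q.2 : K), hmem q.1 q.2⟩
  have hsurj : Function.Surjective f := by
    rintro ⟨x, hx⟩
    obtain ⟨i, g, hg, rfl⟩ := hform x hx
    have hmod : s ^ i = s ^ (i % (e : ℤ)) := zpow_eq_zpow_emod' i hse
    have he' : (0 : ℤ) < (e : ℤ) := by exact_mod_cast he
    have h0 : 0 ≤ i % (e : ℤ) := Int.emod_nonneg _ he'.ne'
    have h1 : i % (e : ℤ) < e := Int.emod_lt_of_pos _ he'
    have h2 : (i % (e : ℤ)).toNat < e := by
      have : ((i % (e : ℤ)).toNat : ℤ) < e := by rw [Int.toNat_of_nonneg h0]; exact h1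
      exact_mod_cast this
    refine ⟨(⟨(i % (e : ℤ)).toNat, h2⟩, ⟨g, hg⟩), ?_⟩
    apply Subtype.ext
    show s ^ ((i % (e : ℤ)).toNat) * g = s ^ i * g
    rw [hmod]
    congr 1
    rw [← zpow_natCast, Int.toNat_of_nonneg h0]
  have hfin : Finite (Subgroup.closure (insert s T)) := Finite.of_surjective f hsurj
  refine ⟨hfin, ?_⟩
  have := Nat.card_le_card_of_surjective f hsurj
  rw [Nat.card_prod, Nat.card_fin] at this
  exact this

theorem card_closure_le_pow_aux {K : Type*} [Group K] (S : Finset K)
    (hcomm : ∀ s ∈ S, ∀ t ∈ S, s * t = t * s) (e : ℕ) (he : 0 < e)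
    (hexp : ∀ s ∈ S, s ^ e = 1) :
    Finite (Subgroup.closure (S : Set K)) ∧
      Nat.card (Subgroup.closure (S : Set K)) ≤ e ^ S.card := by
  classical
  induction S using Finset.induction_on with
  | empty =>
    simp only [Finset.coe_empty, Subgroup.closure_empty, Finset.card_empty, pow_zero]
    exact ⟨inferInstance, by simp⟩
  | insert s S hs ih =>
    have hcomm' : ∀ s' ∈ S, ∀ t ∈ S, s' * t = t * s' := fun s' hs' t ht =>
      hcomm s' (Finset.mem_insert_of_mem hs') t (Finset.mem_insert_of_mem ht)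
    have hexp' : ∀ s' ∈ S, s' ^ e = 1 := fun s' hs' => hexp s' (Finset.mem_insert_of_mem hs')
    obtain ⟨hfin, hcard⟩ := ih hcomm' hexp'
    have hsT : ∀ t ∈ (S : Set K), s * t = t * s := fun t ht =>
      hcomm s (Finset.mem_insert_self s S) t (Finset.mem_insert_of_mem ht)
    have hse : s ^ e = 1 := hexp s (Finset.mem_insert_self s S)
    obtain ⟨hfin', hcard'⟩ := closure_insert_finite_card s (S : Set K) hsT e he hse
    rw [Finset.coe_insert, Finset.card_insert_of_notMem hs]
    refine ⟨hfin', le_trans hcard' ?_⟩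
    rw [pow_succ, mul_comm]
    exact Nat.mul_le_mul_right _ hcard

/-- LEAF H0 (generic): a subgroup generated by `r` commuting elements of exponent `e`. -/
theorem card_closure_le_pow {K : Type*} [Group K] (S : Finset K)
    (hcomm : ∀ s ∈ S, ∀ t ∈ S, s * t = t * s) (e : ℕ) (he : 0 < e)
    (hexp : ∀ s ∈ S, s ^ e = 1) :
    Nat.card (Subgroup.closure (S : Set K)) ≤ e ^ S.card :=
  (card_closure_le_pow_aux S hcomm e he hexp).2

end Cfsg.Agent.Lib.Helper22.IAH0
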