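import Cfsg.Agent.Lib.Helper25.InvAutDefs
import Cfsg.Agent.Lib.Helper22.IAH0

/-!
helper22: S3928 (planner helper25), leaf H: an abelian minimal normal subgroup `N` of a pair with trivial centre has
`|N| ≤ (max 2 |J|) ^ |H : N|`.
-/

set_option autoImplicit false

namespace Cfsg.Agent.Lib.Helper22.IAH

open Cfsg.Agent.Lib.Helper25.InvAut

/-- the elements of an abelian subgroup killed by `p` -/
def torsionSub {H : Type*} [Group H] (N : Subgroup H) (hab : ∀ x ∈ N, ∀ y ∈ N, x * y = y * x)
    (p : ℕ) : Subgroup H where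
  carrier := {u | u ∈ N ∧ u ^ p = 1}
  mul_mem' := by
    rintro u u' ⟨hu, hup⟩ ⟨hu', hup'⟩
    refine ⟨N.mul_mem hu hu', ?_⟩
    have hc : Commute u u' := hab u hu u' hu'
    rw [hc.mul_pow, hup, hup', one_mul]
  one_mem' := ⟨N.one_mem, one_pow p⟩
  inv_mem' := by
    rintro u ⟨hu, hup⟩
    exact ⟨N.inv_mem hu, by rw [inv_pow, hup, inv_one]⟩

theorem mem_torsionSub {H : Type*} [Group H] (N : Subgroup H)
    (hab : ∀ x ∈ N, ∀ y ∈ N, x * y = y * x) (p : ℕ) (u : H) :
    u ∈ torsionSub N hab p ↔ u ∈ N ∧ u ^ p = 1 := Iff.rfl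

theorem torsionSub_normal {H : Type*} [Group H] (N : Subgroup H) [N.Normal]
    (hab : ∀ x ∈ N, ∀ y ∈ N, x * y = y * x) (p : ℕ) : (torsionSub N hab p).Normal := by
  constructor
  rintro u ⟨hu, hup⟩ g
  refine ⟨Subgroup.Normal.conj_mem inferInstance u hu g, ?_⟩
  rw [conj_pow, hup, mul_one, mul_inv_cancel]

/-- an abelian minimal normal subgroup has prime exponent -/
theorem exists_prime_exponent {H : Type*} [Group H] [Finite H] (N : Subgroup H) [N.Normal]
    (hN1 : N ≠ ⊥) (hmin : ∀ M : Subgroup H, M.Normal → M ≤ N → M = ⊥ ∨ M = N)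
    (hab : ∀ x ∈ N, ∀ y ∈ N, x * y = y * x) :
    ∃ p : ℕ, p.Prime ∧ ∀ u ∈ N, u ^ p = 1 := by
  obtain ⟨v, hvN, hv1⟩ : ∃ v ∈ N, v ≠ 1 := by
    by_contra hcon
    push Not at hcon
    apply hN1
    rw [Subgroup.eq_bot_iff_forall]
    exact hcon
  have ho : orderOf v ≠ 1 := fun h => hv1 (orderOf_eq_one_iff.mp h)
  obtain ⟨p, hp, hpd⟩ := Nat.exists_prime_and_dvd ho
  refine ⟨p, hp, ?_⟩
  obtain ⟨k, hk⟩ := hpd
  -- `v ^ k` has order `p`
  have hvk : (v ^ k) ^ p = 1 := by
    rw [← pow_mul, mul_comm, ← hk, pow_orderOf_eq_one]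
  have hvk1 : v ^ k ≠ 1 := by
    intro h1
    have hd : orderOf v ∣ k := orderOf_dvd_of_pow_eq_one h1
    have hpos : 0 < orderOf v := orderOf_pos v
    have hkpos : 0 < k := by
      rcases Nat.eq_zero_or_pos k with h0 | h0
      · rw [h0, mul_zero] at hk
        omega
      · exact h0
    have hle : orderOf v ≤ k := Nat.le_of_dvd hkpos hd
    have : k * 2 ≤ p * k := by
      rw [mul_comm p k]
      exact Nat.mul_le_mul_left k hp.two_le
    rw [← hk] at this
    omega
  have hnorm := torsionSub_normal N hab p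
  have hle : torsionSub N hab p ≤ N := fun u hu => hu.1
  rcases hmin _ hnorm hle with h0 | h0
  · exfalso
    have : v ^ k ∈ torsionSub N hab p := ⟨N.pow_mem hvN k, hvk⟩
    rw [h0, Subgroup.mem_bot] at this
    exact hvk1 this
  · intro u hu
    have : u ∈ torsionSub N hab p := by rw [h0]; exact hu
    exact this.2

/-- in the odd case `p ≤ |J|` -/
theorem prime_le_card_JJ {H : Type*} [Group H] [Finite H] {a : H}
    (h : IsPair a) (hZ : Subgroup.center H = ⊥) (N : Subgroup H) [N.Normal] (hN1 : N ≠ ⊥)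
    (p : ℕ) (hp : p.Prime) (hodd : Odd p)
    (hexp : ∀ u ∈ N, u ^ p = 1) : p ≤ Nat.card (JJ a) := by
  classical
  -- `a` does not centralize `N`
  have hex : ∃ v ∈ N, a * v * a⁻¹ ≠ v := by
    by_contra hcon
    push Not at hcon
    apply hN1
    have haC : a ∈ Subgroup.centralizer (N : Set H) := by
      rw [Subgroup.mem_centralizer_iff]
      intro v hv
      have := hcon v hv
      calc v * a = (a * v * a⁻¹) * a := by rw [this]
        _ = a * v := by group
    have hle : Subgroup.normalClosure ({a} : Set H) ≤ Subgroup.centralizer (N : Set H) :=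
      Subgroup.normalClosure_le_normal (by
        intro y hy
        rw [Set.mem_singleton_iff] at hy
        rw [hy]
        exact haC)
    rw [h.gen] at hle
    rw [Subgroup.eq_bot_iff_forall]
    intro n hn
    have hc : n ∈ Subgroup.center H := by
      rw [Subgroup.mem_center_iff]
      intro g
      have := hle (Subgroup.mem_top g)
      rw [Subgroup.mem_centralizer_iff] at this
      exact (this n hn).symm
    rw [hZ, Subgroup.mem_bot] at hc
    exact hc
  obtain ⟨v, hvN, hva⟩ := hex
  have hav : a * v * a⁻¹ ∈ N := Subgroup.Normal.conj_mem inferInstance v hvN a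
  set w := v * (a * v * a⁻¹)⁻¹ with hw
  have hwN : w ∈ N := N.mul_mem hvN (N.inv_mem hav)
  have hw1 : w ≠ 1 := by
    intro h1
    apply hva
    have : v = a * v * a⁻¹ := by
      calc v = w * (a * v * a⁻¹) := by rw [hw]; group
        _ = a * v * a⁻¹ := by rw [h1, one_mul]
    exact this.symm
  have hainv : a⁻¹ = a := by
    calc a⁻¹ = a⁻¹ * (a * a) := by rw [h.sq, mul_one]
      _ = a := by group
  have hwa : a * w * a⁻¹ = w⁻¹ := by
    have e1 : a * w * a⁻¹ = (a * v * a⁻¹) * (a * (a * v * a⁻¹) * a⁻¹)⁻¹ := by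
      rw [hw]; group
    have e2 : a * (a * v * a⁻¹) * a⁻¹ = v := by
      calc a * (a * v * a⁻¹) * a⁻¹ = (a * a) * v * (a⁻¹ * a⁻¹) := by group
        _ = v := by rw [hainv, h.sq]; group
    rw [e1, e2]
    -- `(a v a⁻¹) v⁻¹ = (v (a v a⁻¹)⁻¹)⁻¹`
    rw [hw, mul_inv_rev, inv_inv]
  have hwp : w ^ p = 1 := hexp w hwN
  have hwo : orderOf w = p := by
    have : Fact p.Prime := ⟨hp⟩
    exact orderOf_eq_prime hwp hw1
  have hsub : ((Subgroup.zpowers w : Subgroup H) : Set H) ⊆ JJ a := by
    intro y hy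
    rw [SetLike.mem_coe, Subgroup.mem_zpowers_iff] at hy
    obtain ⟨k, rfl⟩ := hy
    refine ⟨?_, ?_⟩
    · have hd : orderOf (w ^ k) ∣ orderOf w :=
        orderOf_dvd_of_mem_zpowers (Subgroup.zpow_mem_zpowers w k)
      rw [hwo] at hd
      exact Odd.of_dvd_nat hodd hd
    · have : a * w ^ k * a⁻¹ = (a * w * a⁻¹) ^ k := by
        simp
      rw [this, hwa, inv_zpow]
  have hcard : Nat.card (Subgroup.zpowers w) = p := by rw [Nat.card_zpowers, hwo]
  rw [← hcard]
  exact Nat.card_mono (Set.toFinite _) hsub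

/-- LEAF H (abelian minimal normal subgroup). -/
theorem card_le_of_minimal_normal_abelian {H : Type*} [Group H] [Finite H] {a : H}
    (h : IsPair a) (hZ : Subgroup.center H = ⊥) (N : Subgroup H) [N.Normal] (hN1 : N ≠ ⊥)
    (hmin : ∀ M : Subgroup H, M.Normal → M ≤ N → M = ⊥ ∨ M = N)
    (hab : ∀ x ∈ N, ∀ y ∈ N, x * y = y * x) :
    Nat.card N ≤ (max 2 (Nat.card (JJ a))) ^ N.index := by
  classical
  obtain ⟨p, hp, hexp⟩ := exists_prime_exponent N hN1 hmin hab
  have hple : p ≤ max 2 (Nat.card (JJ a)) := by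
    rcases hp.eq_two_or_odd' with h2 | hodd
    · rw [h2]; exact le_max_left _ _
    · exact le_trans (prime_le_card_JJ h hZ N hN1 p hp hodd hexp) (le_max_right _ _)
  obtain ⟨v, hvN, hv1⟩ : ∃ v ∈ N, v ≠ 1 := by
    by_contra hcon
    push Not at hcon
    apply hN1
    rw [Subgroup.eq_bot_iff_forall]
    exact hcon
  -- the conjugates of `v`
  have : Fintype (H ⧸ N) := Fintype.ofFinite _
  set S : Finset H := Finset.univ.image (fun q : H ⧸ N => q.out * v * q.out⁻¹) with hS
  have hSN : ∀ s ∈ S, s ∈ N := by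
    intro s hs
    rw [hS, Finset.mem_image] at hs
    obtain ⟨q, -, rfl⟩ := hs
    exact Subgroup.Normal.conj_mem inferInstance v hvN _
  have hScard : S.card ≤ N.index := by
    calc S.card ≤ (Finset.univ : Finset (H ⧸ N)).card := Finset.card_image_le
      _ = N.index := by
        rw [Finset.card_univ, Subgroup.index, Nat.card_eq_fintype_card]
  -- every conjugate of `v` lies in `S`
  have hconj : ∀ g : H, g * v * g⁻¹ ∈ S := by
    intro g
    rw [hS, Finset.mem_image]
    refine ⟨(g : H ⧸ N), Finset.mem_univ _, ?_⟩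
    have hout : (g : H ⧸ N).out⁻¹ * g ∈ N := by
      have : ((g : H ⧸ N).out : H ⧸ N) = (g : H ⧸ N) := QuotientGroup.out_eq' _
      exact QuotientGroup.eq.mp this
    set n := (g : H ⧸ N).out⁻¹ * g with hn
    have hg : g = (g : H ⧸ N).out * n := by rw [hn]; group
    have hnv : n * v * n⁻¹ = v := by
      have := hab n hout v hvN
      calc n * v * n⁻¹ = v * n * n⁻¹ := by rw [this]
        _ = v := by group
    calc (g : H ⧸ N).out * v * (g : H ⧸ N).out⁻¹
        = (g : H ⧸ N).out * (n * v * n⁻¹) * (g : H ⧸ N).out⁻¹ := by rw [hnv]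
      _ = ((g : H ⧸ N).out * n) * v * ((g : H ⧸ N).out * n)⁻¹ := by group
      _ = g * v * g⁻¹ := by rw [← hg]
  -- `N` is the closure of `S`
  have hcl : Subgroup.closure (S : Set H) = N := by
    have hnormal : (Subgroup.closure (S : Set H)).Normal := by
      constructor
      intro x hx g
      induction hx using Subgroup.closure_induction with
      | mem y hy =>
        apply Subgroup.subset_closure
        rw [Finset.mem_coe, hS, Finset.mem_image] at hy
        obtain ⟨q, -, rfl⟩ := hy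
        have := hconj (g * q.out)
        rw [Finset.mem_coe]
        convert this using 1
        group
      | one => simp
      | mul x y _ _ hx hy =>
        have : g * (x * y) * g⁻¹ = (g * x * g⁻¹) * (g * y * g⁻¹) := by group
        rw [this]
        exact Subgroup.mul_mem _ hx hy
      | inv x _ hx =>
        have : g * x⁻¹ * g⁻¹ = (g * x * g⁻¹)⁻¹ := by group
        rw [this]
        exact Subgroup.inv_mem _ hx
    have hle : Subgroup.closure (S : Set H) ≤ N := by
      rw [Subgroup.closure_le]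
      intro s hs
      exact hSN s hs
    rcases hmin _ hnormal hle with h0 | h0
    · exfalso
      have hv : v ∈ Subgroup.closure (S : Set H) := by
        apply Subgroup.subset_closure
        have := hconj 1
        simpa using this
      rw [h0, Subgroup.mem_bot] at hv
      exact hv1 hv
    · exact h0
  have hH0 := Cfsg.Agent.Lib.Helper22.IAH0.card_closure_le_pow S
    (fun s hs t ht => hab s (hSN s hs) t (hSN t ht)) p hp.pos (fun s hs => hexp s (hSN s hs))
  rw [hcl] at hH0
  calc Nat.card N ≤ p ^ S.card := hH0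
    _ ≤ p ^ N.index := Nat.pow_le_pow_right hp.pos hScard
    _ ≤ (max 2 (Nat.card (JJ a))) ^ N.index := Nat.pow_le_pow_left hple _

end Cfsg.Agent.Lib.Helper22.IAH
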