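/-
helper22: leaf A (`isBestOffenderOn_map_pi_of_maxEA`) of helper18's S2942 market "JSUB"
(`notes/S2942_leaves.lean`): elementary abelian version of my `FFAbD.msr_le_of_max_abelian` and
`FFAbF.isBestOffenderOn_map_pi_of_max`.
-/
import Mathlib
import Cfsg.Agent.Lib.Helper22.FFAbF
import Cfsg.Agent.Lib.Helper27.Thompson
import Cfsg.Prelude.Def_JComponents
import Cfsg.Agent.Lib.Helper18.JSubDefs

set_option autoImplicit false
set_option linter.unusedSectionVars false
set_option linter.style.haveILetI false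

namespace Cfsg.Agent.Lib.Helper22.JSubLeaf

open Subgroup
open scoped commutatorElement
open Cfsg.Agent.Lib.Helper8.Bridge Cfsg.Agent.Lib.Helper8.FFOff Cfsg.Agent.Lib.Helper22.FFAb
open Cfsg.Agent.Lib.Helper18.JSub

section L7
variable {X : Type*} [Group X] [Finite X]

/-- elementwise commutativity of an elementary abelian subgroup -/
theorem ea_comm {p : ℕ} {A : Subgroup X} (hA : Cfsg.IsElementaryAbelian p A) :
    ∀ a ∈ A, ∀ b ∈ A, a * b = b * a := by
  intro a ha b hb
  have h := (isMulCommutative_iff.mp hA.1) ⟨a, ha⟩ ⟨b, hb⟩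
  exact congrArg Subtype.val h

/-- an elementary abelian subgroup of largest order in `T'` has largest measure on any elementary
abelian `W ≤ T'` among its subgroups -/
theorem msr_le_of_max_ea {p : ℕ} {W T' A : Subgroup X} (hW : Cfsg.IsElementaryAbelian p W)
    (hWT : W ≤ T') (hA : A ∈ Cfsg.Agent.Lib.Helper27.maxEAIn p T') {D : Subgroup X} (hD : D ≤ A) :
    msr W D ≤ msr W A := by
  obtain ⟨hAT, hAea, hmax⟩ := hA
  have hWc := ea_comm hW
  have hAc := ea_comm hAea
  set CD : Subgroup X := W ⊓ centralizer (D : Set X) with hCD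
  have h1 : CD ≤ normalizer (D : Set X) := inf_le_right.trans (centralizer_le_normalizer (D : Set X))
  have h2 := Cfsg.Agent.Lib.Helper4.card_sup_mul_card_inf CD D h1
  have hDCD : D ≤ centralizer (CD : Set X) := le_centralizer_iff.mp inf_le_right
  have hcen : CD ⊔ D ≤ centralizer ((CD ⊔ D : Subgroup X) : Set X) := by
    refine sup_le ?_ ?_
    · intro x hx
      rw [mem_centralizer_sup_iff]
      refine ⟨?_, hx.2⟩
      rw [mem_centralizer_iff]
      intro y hy
      exact hWc y hy.1 x hx.1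
    · intro d hd
      rw [mem_centralizer_sup_iff]
      refine ⟨hDCD hd, ?_⟩
      rw [mem_centralizer_iff]
      intro y hy
      exact hAc y (hD hy) d (hD hd)
  have hab : ∀ a ∈ CD ⊔ D, ∀ b ∈ CD ⊔ D, a * b = b * a := by
    intro a ha b hb
    exact (mem_centralizer_iff.mp (hcen hb)) a ha
  have hle : CD ⊔ D ≤ T' := sup_le (inf_le_left.trans hWT) (hD.trans hAT)
  -- `CD ⊔ D` has exponent `p`
  have hexp : ∀ x ∈ CD ⊔ D, x ^ p = 1 := by
    let E : Subgroup X :=
      { carrier := {x | x ∈ CD ⊔ D ∧ x ^ p = 1}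
        mul_mem' := by
          rintro x y ⟨hx, hx2⟩ ⟨hy, hy2⟩
          refine ⟨mul_mem hx hy, ?_⟩
          have hc : Commute x y := hab x hx y hy
          rw [hc.mul_pow, hx2, hy2, one_mul]
        one_mem' := ⟨one_mem _, one_pow _⟩
        inv_mem' := by
          rintro x ⟨hx, hx2⟩
          exact ⟨inv_mem hx, by rw [inv_pow, hx2, inv_one]⟩ }
    have hE : CD ⊔ D ≤ E := by
      refine sup_le ?_ ?_
      · intro x hx
        exact ⟨(le_sup_left : CD ≤ CD ⊔ D) hx, hW.2 x hx.1⟩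
      · intro x hx
        exact ⟨(le_sup_right : D ≤ CD ⊔ D) hx, hAea.2 x (hD hx)⟩
    intro x hx
    exact (hE hx).2
  have hea : Cfsg.IsElementaryAbelian p (CD ⊔ D) := by
    refine ⟨isMulCommutative_iff.mpr ?_, hexp⟩
    rintro ⟨a, ha⟩ ⟨b, hb⟩
    exact Subtype.ext (hab a ha b hb)
  have h3 := hmax _ hle hea
  have h4 : CD ⊓ D ≤ W ⊓ centralizer (A : Set X) := by
    intro x hx
    refine ⟨hx.1.1, ?_⟩
    show x ∈ centralizer (A : Set X)
    rw [mem_centralizer_iff]
    intro y hy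
    exact hAc y hy x (hD hx.2)
  have h5 : Nat.card ↥(CD ⊓ D) ≤ Nat.card ↥(W ⊓ centralizer (A : Set X)) := card_le_of_le h4
  unfold Cfsg.Agent.Lib.Helper22.FFAb.msr
  calc Nat.card D * Nat.card ↥(W ⊓ centralizer (D : Set X))
      = Nat.card ↥(CD ⊔ D) * Nat.card ↥(CD ⊓ D) := by rw [h2, mul_comm]
    _ ≤ Nat.card A * Nat.card ↥(W ⊓ centralizer (A : Set X)) := Nat.mul_le_mul h3 h5

end L7

section X
universe u
variable {X : Type u} [Group X] [Finite X] [Group.IsSolvable X]
  (hF : Cfsg.fittingSubgroup X = Cfsg.pCore 2 X) (T : Sylow 2 X)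

/-- LEAF A -/
theorem isBestOffenderOn_map_pi_of_maxEA {A : Subgroup X}
    (hA : A ∈ Cfsg.Agent.Lib.Helper27.maxEAIn 2 (T : Subgroup X)) :
    Cfsg.IsBestOffenderOn 2 (V' (Wm hF T)) (A.map (pi (Wm hF T))) := by
  have hAT : A ≤ (T : Subgroup X) := hA.1
  have hAc := ea_comm hA.2.1
  have hAb : AbBest (Wm hF T) A :=
    ⟨hAc, fun D hD => msr_le_of_max_ea (Wm_isElementaryAbelian hF T) (Wm_le_sylow hF T) hA hD⟩
  have hAb' := abBest_map_pi (Wm hF T) hAb
  have hp : IsPGroup 2 ↥(A.map (pi (Wm hF T))) := by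
    have h1 : IsPGroup 2 A := T.isPGroup'.to_le hAT
    exact h1.map (pi (Wm hF T))
  have hsq := abBest_sq_eq_one (range_le_normalizer_V' hF T) (range_pi_inf_centralizer (Wm hF T))
    (ffSetting_offGen hF T) _ (A.map (pi (Wm hF T))) rfl (Subgroup.map_le_range _ _) hp hAb'
  refine ⟨fun B hB => hAb'.2 B hB, ?_, ?_⟩
  · have h0 : ⁅A.map (pi (Wm hF T)), A.map (pi (Wm hF T))⁆ = ⊥ := by
      rw [commutator_eq_bot_iff_le_centralizer]
      intro a ha
      rw [mem_centralizer_iff]
      intro b hb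
      exact hAb'.1 b hb a ha
    rw [h0]
    exact bot_le
  · intro a ha
    rw [hsq a ha]
    exact one_mem _

end X

end Cfsg.Agent.Lib.Helper22.JSubLeaf
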