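/-
helper22: leaf B (`map_pi_YT_eq_offGen`) of helper18's S2942 market "JSUB" (`notes/S2942_leaves.lean`):
port of my `FFAbF.map_pi_normalClosure_eq_offGen` to the elementary abelian Thompson subgroup.
-/
import Mathlib
import Cfsg.Agent.Lib.Helper22.FFAbF
import Cfsg.Agent.Lib.Helper27.Thompson
import Cfsg.Prelude.Def_JComponents
import Cfsg.Agent.Lib.Helper18.JSubDefs

set_option autoImplicit false
set_option linter.unusedSectionVars false
set_option linter.style.haveILetI false

namespace Cfsg.Agent.Lib.Helper22.JSubLeaf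

open Subgroup
open scoped commutatorElement
open Cfsg.Agent.Lib.Helper8.Bridge Cfsg.Agent.Lib.Helper8.FFOff Cfsg.Agent.Lib.Helper22.FFAb
open Cfsg.Agent.Lib.Helper18.JSub

section X
universe u
variable {X : Type u} [Group X] [Finite X] [Group.IsSolvable X]
  (hF : Cfsg.fittingSubgroup X = Cfsg.pCore 2 X) (T : Sylow 2 X)

/-- LEAF B -/
theorem map_pi_YT_eq_offGen
    (hA : ∀ A : Subgroup X, A ∈ Cfsg.Agent.Lib.Helper27.maxEAIn 2 (T : Subgroup X) →
      Cfsg.IsBestOffenderOn 2 (V' (Wm hF T)) (A.map (pi (Wm hF T)))) :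
    (YT T).map (pi (Wm hF T)) = offGen (V' (Wm hF T)) ((YT T).map (pi (Wm hF T))) := by
  have hYn : (YT T).Normal := normalClosure_normal
  set H1 := (YT T).map (pi (Wm hF T)) with hH1
  apply le_antisymm _ (offGen_le _ _)
  rw [hH1, Subgroup.map_le_iff_le_comap]
  have hnorm : ((offGen (V' (Wm hF T)) H1).comap (pi (Wm hF T))).Normal := by
    constructor
    intro x hx g
    show pi (Wm hF T) (g * x * g⁻¹) ∈ offGen (V' (Wm hF T)) H1
    rw [map_mul, map_mul, map_inv]
    have hrV : pi (Wm hF T) g ∈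
        normalizer ((V' (Wm hF T) : Subgroup (Gam (Wm hF T))) : Set (Gam (Wm hF T))) := by
      rw [normalizer_eq_top]; exact mem_top _
    have hrR : H1.map (cj (pi (Wm hF T) g)) ≤ H1 := by
      rintro _ ⟨_, ⟨y, hy, rfl⟩, rfl⟩
      refine ⟨g * y * g⁻¹, hYn.conj_mem y hy g, ?_⟩
      rw [map_mul, map_mul, map_inv]
      rfl
    apply offGen_map_cj_le' hrV hrR
    exact ⟨_, hx, rfl⟩
  apply normalClosure_le_normal
  show JT T ≤ (offGen (V' (Wm hF T)) H1).comap (pi (Wm hF T))
  have hJ : JT T = sSup (Cfsg.Agent.Lib.Helper27.maxEAIn 2 (T : Subgroup X)) :=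
    Cfsg.Agent.Lib.Helper27.thompsonSubgroupOf_eq 2 (T : Subgroup X)
  rw [hJ]
  apply sSup_le
  intro A' hA'
  rw [← Subgroup.map_le_iff_le_comap]
  apply le_offGen
  · apply Subgroup.map_mono
    have h1 : A' ≤ JT T := by rw [hJ]; exact le_sSup hA'
    exact h1.trans subset_normalClosure
  · exact hA A' hA'

end X

end Cfsg.Agent.Lib.Helper22.JSubLeaf
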