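import Mathlib
import Cfsg.Agent.Lib.Helper8.ThNilpD
import Cfsg.Agent.Lib.Helper8.GlauThomp
import Cfsg.Agent.Lib.Helper12.Cores

/-!
# Kegel's theorem (helper22)

A finite group admitting a *splitting* endomorphism `φ` of prime period `p`
(`φ^p = id` and `g φ(g) ⋯ φ^{p-1}(g) = 1` for all `g`) is nilpotent.

The proof is by induction: Thompson's theorem (helper8) covers the fixed-point-free case `p ∤ |G|`,
the Glauberman–Thompson normal `p`-complement theorem (helper8) reduces the case `O_p(G) = 1`, and the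
key lemma `central_of_split` (an operator-sum computation) shows that a stable abelian normal
subgroup whose automizer has order prime to it is central.
-/

set_option autoImplicit false
open scoped Pointwise
universe u

namespace Cfsg.Agent.Lib.Helper22.Kegel

open Cfsg.Agent.Lib.Helper8.ThNilp

section cprod
variable {G : Type*} [Group G]

/-- partial products `g φ(g) ⋯ φ^{n-1}(g)` -/
def cprod (φ : G →* G) (n : ℕ) (g : G) : G := ((List.range n).map (fun i => φ^[i] g)).prod

theorem cprod_zero (φ : G →* G) (g : G) : cprod φ 0 g = 1 := by simp [cprod]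

theorem cprod_succ (φ : G →* G) (n : ℕ) (g : G) : cprod φ (n + 1) g = cprod φ n g * φ^[n] g := by
  simp [cprod, List.range_succ]

theorem cprod_one_arg (φ : G →* G) (n : ℕ) : cprod φ n 1 = 1 := by
  induction n with
  | zero => exact cprod_zero φ 1
  | succ n ih => rw [cprod_succ, ih, one_mul, iterate_map_one]

theorem cprod_add (φ : G →* G) (m n : ℕ) (g : G) :
    cprod φ (m + n) g = cprod φ m g * φ^[m] (cprod φ n g) := by
  induction n with
  | zero => rw [add_zero, cprod_zero, iterate_map_one, mul_one]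
  | succ n ih =>
    rw [← add_assoc, cprod_succ, ih, cprod_succ, iterate_map_mul, mul_assoc,
      ← Function.iterate_add_apply]

theorem cprod_one (φ : G →* G) (g : G) : cprod φ 1 g = g := by
  rw [cprod_succ, cprod_zero, one_mul]; rfl

/-- `φ` is a splitting endomorphism of period `p`. -/
def IsSplit (p : ℕ) (φ : G →* G) : Prop := (∀ g, φ^[p] g = g) ∧ ∀ g, cprod φ p g = 1

theorem IsSplit.iter_mul {p : ℕ} {φ : G →* G} (h : IsSplit p φ) (t : ℕ) (g : G) :
    φ^[p * t] g = g := by
  induction t with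
  | zero => rfl
  | succ t ih => rw [mul_add, mul_one, Function.iterate_add_apply, h.1, ih]

theorem IsSplit.cprod_mul {p : ℕ} {φ : G →* G} (h : IsSplit p φ) (t : ℕ) (g : G) :
    cprod φ (p * t) g = 1 := by
  induction t with
  | zero => exact cprod_zero φ g
  | succ t ih => rw [mul_add, mul_one, cprod_add, ih, h.2, iterate_map_one, mul_one]

/-- `cprod (i * m)` is a function of `cprod i`. -/
theorem cprod_mul_eq (φ : G →* G) (i m : ℕ) (g : G) :
    cprod φ (i * m) g = ((List.range m).map (fun s => φ^[i * s] (cprod φ i g))).prod := by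
  induction m with
  | zero => simp [cprod]
  | succ m ih =>
    rw [mul_add, mul_one, cprod_add, ih, List.range_succ, List.map_append, List.prod_append]
    simp

theorem IsSplit.cprod_injective {p : ℕ} (hp : p.Prime) {φ : G →* G} (h : IsSplit p φ) (i : ℕ)
    (hi0 : 0 < i) (hip : i < p) : Function.Injective (cprod φ i) := by
  have hcop : Nat.Coprime i p := by
    rw [Nat.coprime_comm, hp.coprime_iff_not_dvd]
    intro hd
    have := Nat.le_of_dvd hi0 hd
    omega
  obtain ⟨m, -, hm⟩ := Nat.exists_mul_mod_eq_one_of_coprime hcop hp.one_lt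
  have hdm := Nat.div_add_mod (i * m) p
  rw [hm] at hdm
  have key : ∀ g, cprod φ (i * m) g = g := by
    intro g
    rw [← hdm, cprod_add, h.cprod_mul, one_mul, h.iter_mul, cprod_one]
  intro a b hab
  have h1 := cprod_mul_eq φ i m a
  have h2 := cprod_mul_eq φ i m b
  rw [key] at h1 h2
  rw [h1, h2, hab]

theorem IsSplit.pow_eq_one_of_fixed {p : ℕ} {φ : G →* G} (h : IsSplit p φ) (g : G) (hg : φ g = g) :
    g ^ p = 1 := by
  have h1 : ∀ n, cprod φ n g = g ^ n := by
    intro n
    induction n with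
    | zero => rw [cprod_zero, pow_zero]
    | succ n ih => rw [cprod_succ, ih, Function.iterate_fixed hg, pow_succ]
  rw [← h1, h.2]

end cprod

theorem pow_rho_mul {A : Type*} [AddCommGroup A] {Q : Type*} [Group Q] (ψ : Q →* Q)
    (ρ : Q →* AddMonoid.End A) (F : AddMonoid.End A)
    (hcompat : ∀ q, F * ρ q = ρ (ψ q) * F) :
    ∀ i q, (ρ q * F) ^ i = ρ (cprod ψ i q) * F ^ i := by
  have h1 : ∀ i q, F ^ i * ρ q = ρ (ψ^[i] q) * F ^ i := by
    intro i
    induction i with
    | zero => intro q; simp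
    | succ i ih =>
      intro q
      rw [pow_succ, mul_assoc, hcompat, ← mul_assoc, ih, Function.iterate_succ_apply, mul_assoc]
  intro i
  induction i with
  | zero => intro q; simp [cprod_zero]
  | succ i ih =>
    intro q
    rw [pow_succ, ih, mul_assoc, ← mul_assoc (F ^ i), h1, mul_assoc, ← pow_succ, ← mul_assoc,
      ← map_mul, ← cprod_succ]

/-- The operator computation: a split group of operators of order prime to the module acts
trivially. -/
theorem abstract_key {A : Type*} [AddCommGroup A] {Q : Type*} [Group Q] [Fintype Q] (p : ℕ)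
    (hp : p.Prime) (ψ : Q →* Q) (hψ : IsSplit p ψ)
    (ρ : Q →* AddMonoid.End A) (F : AddMonoid.End A)
    (hcompat : ∀ q, F * ρ q = ρ (ψ q) * F)
    (hnorm : ∀ q, ∑ i ∈ Finset.range p, (ρ q * F) ^ i = 0)
    (hcop : ∀ a : A, Fintype.card Q • a = 0 → a = 0) :
    ∀ q a, ρ q a = a := by
  have h2 := pow_rho_mul ψ ρ F hcompat
  obtain ⟨n, rfl⟩ : ∃ n, p = n + 1 := ⟨p - 1, by have := hp.pos; omega⟩
  set S : AddMonoid.End A := ∑ q, ρ q with hS
  have h3 : ∀ i, i < n → ∑ q, ρ (cprod ψ (i + 1) q) = S := by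
    intro i hi
    have hinj := hψ.cprod_injective hp (i + 1) (Nat.succ_pos i) (by omega)
    have hbij : Function.Bijective (cprod ψ (i + 1)) := Finite.injective_iff_bijective.1 hinj
    exact hbij.sum_comp (fun q => ρ q)
  have h4 : ∑ q, ∑ i ∈ Finset.range (n + 1), (ρ q * F) ^ i = 0 :=
    Finset.sum_eq_zero (fun q _ => hnorm q)
  rw [Finset.sum_comm] at h4
  simp only [h2, ← Finset.sum_mul] at h4
  rw [Finset.sum_range_succ'] at h4
  have h5 : ∑ i ∈ Finset.range n, (∑ q, ρ (cprod ψ (i + 1) q)) * F ^ (i + 1) =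
      S * ∑ i ∈ Finset.range n, F ^ (i + 1) := by
    rw [Finset.mul_sum]
    apply Finset.sum_congr rfl
    intro i hi
    rw [h3 i (Finset.mem_range.1 hi)]
  rw [h5] at h4
  have h6 := hnorm 1
  simp only [map_one, one_mul] at h6
  rw [Finset.sum_range_succ', pow_zero] at h6
  have h7 : ∑ i ∈ Finset.range n, F ^ (i + 1) = -1 := eq_neg_of_add_eq_zero_left h6
  rw [h7] at h4
  simp only [cprod_zero, map_one, pow_zero, mul_one, Finset.sum_const, Finset.card_univ,
    mul_neg] at h4
  have h8 : S = (Fintype.card Q : AddMonoid.End A) := by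
    have := eq_neg_of_add_eq_zero_right h4
    rw [nsmul_eq_mul, mul_one] at this
    rw [this, neg_neg]
  have h9 : ∀ q, ρ q * S = S := by
    intro q
    rw [hS, Finset.mul_sum]
    simp only [← map_mul]
    exact (Group.mulLeft_bijective q).sum_comp (fun q' => ρ q')
  intro q a
  have h10 : ρ q (Fintype.card Q • a) = Fintype.card Q • a := by
    have := congrArg (fun T : AddMonoid.End A => T a) (h9 q)
    simp only [h8] at this
    simpa using this
  rw [map_nsmul] at h10
  have h11 : Fintype.card Q • (ρ q a - a) = 0 := by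
    rw [smul_sub, h10, sub_self]
  exact sub_eq_zero.1 (hcop _ h11)

section quot
variable {G : Type*} [Group G]

theorem cprod_resEnd (φ : G →* G) (H : Subgroup G) (hH : ∀ h ∈ H, φ h ∈ H) (n : ℕ) (h : H) :
    ((cprod (resEnd φ H hH) n h : H) : G) = cprod φ n h := by
  induction n with
  | zero => rw [cprod_zero, cprod_zero]; rfl
  | succ n ih => rw [cprod_succ, cprod_succ, Subgroup.coe_mul, ih, resEnd_iter]

theorem cprod_quotEnd (φ : G →* G) (N : Subgroup G) [N.Normal] (hN : ∀ n ∈ N, φ n ∈ N) (n : ℕ)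
    (g : G) : cprod (quotEnd φ N hN) n (g : G ⧸ N) = ((cprod φ n g : G) : G ⧸ N) := by
  induction n with
  | zero => rw [cprod_zero, cprod_zero]; rfl
  | succ n ih => rw [cprod_succ, cprod_succ, ih, quotEnd_iter]; rfl

theorem IsSplit.resEnd {p : ℕ} {φ : G →* G} (h : IsSplit p φ) (H : Subgroup G)
    (hH : ∀ h ∈ H, φ h ∈ H) : IsSplit p (resEnd φ H hH) := by
  refine ⟨fun x => Subtype.ext ?_, fun x => Subtype.ext ?_⟩
  · rw [resEnd_iter, h.1]
  · rw [cprod_resEnd, h.2]; rfl

theorem IsSplit.quotEnd {p : ℕ} {φ : G →* G} (h : IsSplit p φ) (N : Subgroup G) [N.Normal]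
    (hN : ∀ n ∈ N, φ n ∈ N) : IsSplit p (quotEnd φ N hN) := by
  refine ⟨fun x => ?_, fun x => ?_⟩
  · obtain ⟨g, rfl⟩ := QuotientGroup.mk_surjective x
    rw [quotEnd_iter, h.1]
  · obtain ⟨g, rfl⟩ := QuotientGroup.mk_surjective x
    rw [cprod_quotEnd, h.2]; rfl

end quot

section key
variable {G : Type*} [Group G] [Finite G]

/-- Quotient form of the operator computation. -/
theorem abstract_key' {A : Type*} [AddCommGroup A] (p : ℕ) (hp : p.Prime) (φ : G →* G)
    (hφ : IsSplit p φ) (C : Subgroup G) [C.Normal] (hC : ∀ c ∈ C, φ c ∈ C)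
    (ρ₀ : G →* AddMonoid.End A) (hker : ∀ c ∈ C, ρ₀ c = 1) (F : AddMonoid.End A)
    (hcompat : ∀ g, F * ρ₀ g = ρ₀ (φ g) * F)
    (hnorm : ∀ g, ∑ i ∈ Finset.range p, (ρ₀ g * F) ^ i = 0)
    (hcop : ∀ a : A, C.index • a = 0 → a = 0) :
    ∀ g a, ρ₀ g a = a := by
  classical
  letI : Fintype (G ⧸ C) := Fintype.ofFinite _
  let ρ : G ⧸ C →* AddMonoid.End A := QuotientGroup.lift C ρ₀ (fun c hc => hker c hc)
  have hρ : ∀ g : G, ρ (g : G ⧸ C) = ρ₀ g := fun g => rfl
  have h := abstract_key p hp (quotEnd φ C hC) (hφ.quotEnd C hC) ρ F ?_ ?_ ?_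
  · intro g a
    rw [← hρ]
    exact h _ a
  · intro q
    obtain ⟨g, rfl⟩ := QuotientGroup.mk_surjective q
    rw [quotEnd_mk, hρ, hρ]
    exact hcompat g
  · intro q
    obtain ⟨g, rfl⟩ := QuotientGroup.mk_surjective q
    rw [hρ]
    exact hnorm g
  · intro a ha
    apply hcop
    rw [Subgroup.index_eq_card, Nat.card_eq_fintype_card]
    exact ha


/-- **Key lemma.** A stable abelian normal subgroup whose automizer has order prime to it is
central, when the group admits a splitting endomorphism. -/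
theorem central_of_split (p : ℕ) (hp : p.Prime) (φ : G →* G) (hφ : IsSplit p φ)
    (V : Subgroup G) [V.Normal] (hVab : ∀ x ∈ V, ∀ y ∈ V, x * y = y * x)
    (hVφ : ∀ v ∈ V, φ v ∈ V)
    (hcop : (Nat.card V).Coprime (Subgroup.centralizer (V : Set G)).index) :
    V ≤ Subgroup.center G := by
  classical
  have hbij : Function.Bijective φ := bijective_of_iter φ hp.pos hφ.1
  letI : CommGroup V := { (inferInstance : Group V) with
    mul_comm := fun a b => Subtype.ext (hVab a a.2 b b.2) }
  let ρ₀ : G →* AddMonoid.End (Additive V) :=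
    { toFun := fun g => MonoidHom.toAdditive (MulAut.conjNormal g : MulAut V).toMonoidHom
      map_one' := by
        apply AddMonoidHom.ext
        intro a
        show Additive.ofMul ((MulAut.conjNormal (1 : G) : MulAut V) (Additive.toMul a)) = a
        rw [map_one]; rfl
      map_mul' := by
        intro g h
        apply AddMonoidHom.ext
        intro a
        show Additive.ofMul ((MulAut.conjNormal (g * h) : MulAut V) (Additive.toMul a)) =
          Additive.ofMul ((MulAut.conjNormal g : MulAut V)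
            ((MulAut.conjNormal h : MulAut V) (Additive.toMul a)))
        rw [map_mul]; rfl }
  have hρ₀ : ∀ (g : G) (a : Additive V),
      (((ρ₀ g a).toMul : V) : G) = g * ((a.toMul : V) : G) * g⁻¹ := fun g a => rfl
  let F : AddMonoid.End (Additive V) := MonoidHom.toAdditive (resEnd φ V hVφ)
  have hF : ∀ a : Additive V, (((F a).toMul : V) : G) = φ ((a.toMul : V) : G) := fun a => rfl
  have hFpow : ∀ (i : ℕ) (a : Additive V),
      ((((F ^ i) a).toMul : V) : G) = φ^[i] ((a.toMul : V) : G) := by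
    intro i
    induction i with
    | zero => intro a; rfl
    | succ i ih =>
      intro a
      rw [pow_succ']
      show φ ((((F ^ i) a).toMul : V) : G) = _
      rw [ih, Function.iterate_succ_apply']
  have hext : ∀ a b : Additive V, (((a.toMul : V) : G) = ((b.toMul : V) : G)) → a = b := by
    intro a b h
    exact Subtype.ext h
  -- the centralizer is stable
  have hC : ∀ c ∈ Subgroup.centralizer (V : Set G), φ c ∈ Subgroup.centralizer (V : Set G) := by
    intro c hc
    rw [Subgroup.mem_centralizer_iff] at hc ⊢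
    intro v hv
    have hsurj : ∃ v' ∈ V, φ v' = v := by
      have hinj : Function.Injective (resEnd φ V hVφ) := by
        intro a b hab
        apply Subtype.ext
        exact hbij.1 (congrArg Subtype.val hab)
      obtain ⟨v', hv'⟩ := (Finite.injective_iff_surjective.1 hinj) ⟨v, hv⟩
      exact ⟨v'.1, v'.2, congrArg Subtype.val hv'⟩
    obtain ⟨v', hv', rfl⟩ := hsurj
    rw [← map_mul, ← map_mul, hc v' hv']
  have hker : ∀ c ∈ Subgroup.centralizer (V : Set G), ρ₀ c = 1 := by
    intro c hc
    apply AddMonoidHom.ext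
    intro a
    apply hext
    show c * ((a.toMul : V) : G) * c⁻¹ = ((a.toMul : V) : G)
    rw [Subgroup.mem_centralizer_iff] at hc
    rw [← hc _ (a.toMul : V).2, mul_assoc, mul_inv_cancel, mul_one]
  have hcompat : ∀ g, F * ρ₀ g = ρ₀ (φ g) * F := by
    intro g
    apply AddMonoidHom.ext
    intro a
    apply hext
    show φ (g * ((a.toMul : V) : G) * g⁻¹) = φ g * φ ((a.toMul : V) : G) * (φ g)⁻¹
    rw [map_mul, map_mul, map_inv]
  have hnorm : ∀ g, ∑ i ∈ Finset.range p, (ρ₀ g * F) ^ i = 0 := by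
    intro g
    apply AddMonoidHom.ext
    intro a
    have hpow := pow_rho_mul φ ρ₀ F hcompat
    have hterm : ∀ i : ℕ, (((((ρ₀ g * F) ^ i) a).toMul : V) : G) =
        cprod φ i g * φ^[i] ((a.toMul : V) : G) * (cprod φ i g)⁻¹ := by
      intro i
      rw [hpow]
      show cprod φ i g * ((((F ^ i) a).toMul : V) : G) * (cprod φ i g)⁻¹ = _
      rw [hFpow]
    have hpart : ∀ n : ℕ, (((((∑ i ∈ Finset.range n, (ρ₀ g * F) ^ i) a).toMul : V)) : G) =
        cprod φ n (((a.toMul : V) : G) * g) * (cprod φ n g)⁻¹ := by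
      intro n
      induction n with
      | zero =>
        rw [Finset.sum_range_zero, cprod_zero, cprod_zero, inv_one, mul_one]
        rfl
      | succ n ih =>
        rw [Finset.sum_range_succ]
        show ((((∑ i ∈ Finset.range n, (ρ₀ g * F) ^ i) a).toMul : V) : G) *
          (((((ρ₀ g * F) ^ n) a).toMul : V) : G) = _
        rw [ih, hterm, cprod_succ, cprod_succ, iterate_map_mul]
        group
    apply hext
    refine (hpart p).trans ?_
    rw [hφ.2, hφ.2, inv_one, mul_one]
    rfl
  have hcop' : ∀ a : Additive V, (Subgroup.centralizer (V : Set G)).index • a = 0 → a = 0 := by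
    intro a ha
    have h1 : (a.toMul : V) ^ (Subgroup.centralizer (V : Set G)).index = 1 := ha
    have h2 : (a.toMul : V) ^ Nat.card V = 1 := pow_card_eq_one'
    have h3 := orderOf_dvd_of_pow_eq_one h1
    have h4 := orderOf_dvd_of_pow_eq_one h2
    have h5 : orderOf (a.toMul : V) = 1 := Nat.eq_one_of_dvd_coprimes hcop h4 h3
    exact orderOf_eq_one_iff.1 h5
  have hmain := abstract_key' p hp φ hφ (Subgroup.centralizer (V : Set G)) hC ρ₀ hker F hcompat
    hnorm hcop'
  intro v hv
  rw [Subgroup.mem_center_iff]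
  intro g
  have h1 := hρ₀ g (Additive.ofMul ⟨v, hv⟩)
  rw [hmain] at h1
  have h2 : v = g * v * g⁻¹ := h1
  calc g * v = g * v * g⁻¹ * g := by group
    _ = v * g := by rw [← h2]

end key

section main
variable {G : Type u} [Group G] [Finite G]

/-- the centralizer of a stable subgroup is stable -/
theorem centralizer_stable (φ : G →* G) (hbij : Function.Bijective φ) (H : Subgroup G)
    (hH : ∀ h ∈ H, φ h ∈ H) :
    ∀ c ∈ Subgroup.centralizer (H : Set G), φ c ∈ Subgroup.centralizer (H : Set G) := by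
  intro c hc
  rw [Subgroup.mem_centralizer_iff] at hc ⊢
  intro v hv
  have hsurj : ∃ v' ∈ H, φ v' = v := by
    have hinj : Function.Injective (resEnd φ H hH) := by
      intro a b hab
      apply Subtype.ext
      exact hbij.1 (congrArg Subtype.val hab)
    obtain ⟨v', hv'⟩ := (Finite.injective_iff_surjective.1 hinj) ⟨v, hv⟩
    exact ⟨v'.1, v'.2, congrArg Subtype.val hv'⟩
  obtain ⟨v', hv', rfl⟩ := hsurj
  rw [← map_mul, ← map_mul, hc v' hv']

/-- a stable Sylow `p`-subgroup for an endomorphism of period `p` -/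
theorem exists_stable_sylow' (φ : G →* G) (p : ℕ) [Fact p.Prime] (hiter : ∀ g, φ^[p] g = g) :
    ∃ P : Sylow p G, ∀ g ∈ P, φ g ∈ P := by
  have hp : p.Prime := Fact.out
  have hbij : Function.Bijective φ := bijective_of_iter φ hp.pos hiter
  let e : MulAut G := MulEquiv.ofBijective φ hbij
  have he : ∀ g, e g = φ g := fun g => rfl
  have hep : e ^ p = 1 := by
    apply MulEquiv.ext
    intro g
    have h1 : ∀ k : ℕ, (e ^ k) g = φ^[k] g := by
      intro k
      induction k with
      | zero => rfl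
      | succ k ih => rw [pow_succ', MulAut.mul_apply, ih, he, Function.iterate_succ_apply']
    rw [h1, hiter]; rfl
  have hZ : IsPGroup p (Subgroup.zpowers e) := by
    rintro ⟨β, hβ⟩
    refine ⟨1, ?_⟩
    obtain ⟨k, rfl⟩ := Subgroup.mem_zpowers_iff.1 hβ
    apply Subtype.ext
    show (e ^ k) ^ p ^ 1 = 1
    rw [pow_one, ← zpow_natCast, ← zpow_mul, mul_comm, zpow_mul, zpow_natCast, hep, one_zpow]
  obtain ⟨P, hP⟩ := hZ.nonempty_fixed_point_of_prime_not_dvd_card (Sylow p G) (not_dvd_card_sylow p G)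
  have h1 : (⟨e, Subgroup.mem_zpowers e⟩ : Subgroup.zpowers e) • P = P := hP _
  refine ⟨P, fun g hg => ?_⟩
  have h2 : e • g ∈ e • (P : Subgroup G) := Subgroup.smul_mem_pointwise_smul g e _ hg
  have h3 : (e • (P : Subgroup G)) = ((e • P : Sylow p G) : Subgroup G) := rfl
  have h4 : (e • P : Sylow p G) = P := h1
  rw [h3, h4] at h2
  exact h2

/-- `Z(H)` as a subgroup of `G` -/
def zsub (H : Subgroup G) : Subgroup G := H ⊓ Subgroup.centralizer (H : Set G)

theorem zsub_comm (H : Subgroup G) : ∀ x ∈ zsub H, ∀ y ∈ zsub H, x * y = y * x := by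
  intro x hx y hy
  exact (Subgroup.mem_centralizer_iff.1 hy.2 x hx.1)

theorem zsub_normal (H : Subgroup G) [H.Normal] : (zsub H).Normal := by
  unfold zsub
  infer_instance

theorem zsub_stable (φ : G →* G) (hbij : Function.Bijective φ) (H : Subgroup G)
    (hH : ∀ h ∈ H, φ h ∈ H) : ∀ z ∈ zsub H, φ z ∈ zsub H := by
  intro z hz
  exact ⟨hH z hz.1, centralizer_stable φ hbij H hH z hz.2⟩

theorem zsub_ne_bot (H : Subgroup G) (hH : H ≠ ⊥) (hnil : Group.IsNilpotent H) : zsub H ≠ ⊥ := by
  have : Nontrivial H := (Subgroup.nontrivial_iff_ne_bot H).2 hH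
  have h0 : Subgroup.center H ≠ ⊥ := Group.IsNilpotent.center_ne_bot (↥H)
  have h1 : Nontrivial (Subgroup.center H) := (Subgroup.nontrivial_iff_ne_bot _).2 h0
  obtain ⟨z, hz⟩ := exists_ne (1 : Subgroup.center H)
  intro hb
  apply hz
  have hmem : ((z : H) : G) ∈ zsub H := by
    refine Subgroup.mem_inf.2 ⟨(z : H).2, ?_⟩
    rw [Subgroup.mem_centralizer_iff]
    intro h hh
    have := (Subgroup.mem_center_iff.1 z.2) ⟨h, hh⟩
    exact congrArg Subtype.val this
  rw [hb, Subgroup.mem_bot] at hmem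
  apply Subtype.ext
  apply Subtype.ext
  exact hmem

theorem le_centralizer_zsub (H : Subgroup G) : H ≤ Subgroup.centralizer (zsub H : Set G) := by
  intro h hh
  rw [Subgroup.mem_centralizer_iff]
  intro z hz
  exact (Subgroup.mem_centralizer_iff.1 hz.2 h hh).symm


/-- final step: a stable abelian normal subgroup with coprime automizer finishes the induction -/
theorem finish_split (φ : G →* G) {p : ℕ} (hp : p.Prime) (hφ : IsSplit p φ)
    (IHquot : ∀ (N : Subgroup G) [N.Normal], N ≠ ⊥ → (∀ h ∈ N, φ h ∈ N) →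
      Group.IsNilpotent (G ⧸ N))
    (V : Subgroup G) [V.Normal] (hV1 : V ≠ ⊥) (hVab : ∀ x ∈ V, ∀ y ∈ V, x * y = y * x)
    (hVφ : ∀ v ∈ V, φ v ∈ V)
    (hcop : (Nat.card V).Coprime (Subgroup.centralizer (V : Set G)).index) :
    Group.IsNilpotent G := by
  have hc := central_of_split p hp φ hφ V hVab hVφ hcop
  haveI := IHquot V hV1 hVφ
  exact Subgroup.isNilpotent_of_ker_le_center (QuotientGroup.mk' V)
    (by rw [QuotientGroup.ker_mk']; exact hc)

theorem isNilpotent_step_split (φ : G →* G) {p : ℕ} (hp : p.Prime) (hφ : IsSplit p φ)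
    (IHsub : ∀ H : Subgroup G, H ≠ ⊤ → (∀ h ∈ H, φ h ∈ H) → Group.IsNilpotent ↥H)
    (IHquot : ∀ (N : Subgroup G) [N.Normal], N ≠ ⊥ → (∀ h ∈ N, φ h ∈ N) →
      Group.IsNilpotent (G ⧸ N)) :
    Group.IsNilpotent G := by
  have hbij : Function.Bijective φ := bijective_of_iter φ hp.pos hφ.1
  -- `p = 2`: inversion is an endomorphism
  by_cases hp2 : p = 2
  · subst hp2
    have hinv : ∀ g, φ g = g⁻¹ := by
      intro g
      have h1 := hφ.2 g
      rw [cprod_succ, cprod_succ, cprod_zero, one_mul] at h1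
      exact (eq_inv_of_mul_eq_one_right h1)
    have hcomm : ∀ a b : G, a * b = b * a := by
      intro a b
      have h1 := hinv (a⁻¹ * b⁻¹)
      rw [map_mul, hinv, hinv, inv_inv, inv_inv, mul_inv_rev, inv_inv, inv_inv] at h1
      exact h1
    letI : CommGroup G := { (inferInstance : Group G) with mul_comm := hcomm }
    exact CommGroup.isNilpotent
  by_cases hdvd : p ∣ Nat.card G
  swap
  · -- fixed-point-free: Thompson
    apply isNilpotent_of_fpf φ hp hφ.1
    intro g hg
    have h1 := hφ.pow_eq_one_of_fixed g hg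
    have h2 : orderOf g ∣ p := orderOf_dvd_of_pow_eq_one h1
    have h3 : orderOf g ∣ Nat.card G := orderOf_dvd_natCard g
    rcases (Nat.dvd_prime hp).1 h2 with h4 | h4
    · exact orderOf_eq_one_iff.1 h4
    · exact absurd (h4 ▸ h3) hdvd
  have : Fact p.Prime := ⟨hp⟩
  let e : G ≃* G := MulEquiv.ofBijective φ hbij
  have he : ∀ g, e g = φ g := fun g => rfl
  -- `O_p(G)`
  have hOchar : (Cfsg.pCore p G).Characteristic := Cfsg.Agent.Lib.Helper12.pCore_characteristic' p
  have hOn : (Cfsg.pCore p G).Normal := inferInstance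
  have hOst : ∀ g ∈ Cfsg.pCore p G, φ g ∈ Cfsg.pCore p G := by
    intro g hg
    have h1 := hOchar.fixed e.symm
    rw [← h1, Subgroup.mem_comap]
    show e.symm (e g) ∈ _
    rw [MulEquiv.symm_apply_apply]
    exact hg
  have hOp : IsPGroup p (Cfsg.pCore p G) := Cfsg.Agent.Lib.Helper12.pCore_isPGroup' p
  by_cases hO : Cfsg.pCore p G = ⊥
  · -- `O_p(G) = 1`: Glauberman–Thompson
    obtain ⟨P, hPst⟩ := exists_stable_sylow' φ p hφ.1
    have hPmap : (P : Subgroup G).map e.toMonoidHom = (P : Subgroup G) := by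
      apply Subgroup.eq_of_le_of_card_ge
      · rintro _ ⟨h, hh, rfl⟩
        exact hPst h hh
      · exact (Subgroup.card_map_of_injective (f := e.toMonoidHom) e.injective).ge
    obtain ⟨W, hW⟩ : ∃ W, W = Cfsg.centerThompsonAOf (P : Subgroup G) := ⟨_, rfl⟩
    have hWw : W = Cfsg.Agent.Lib.Helper27.wSub Cfsg.Agent.Lib.Helper27.AbSub (P : Subgroup G) := by
      rw [hW, Cfsg.Agent.Lib.Helper27.centerThompsonAOf_eq]
    have hWmap : W.map e.toMonoidHom = W := by
      rw [hWw, ← Cfsg.Agent.Lib.Helper27.wSub_map Cfsg.Agent.Lib.Helper27.goodClass_abSub e, hPmap]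
    have hWst : ∀ w ∈ W, φ w ∈ W := by
      intro w hw
      rw [← hWmap]
      exact ⟨w, hw, rfl⟩
    have hWne : W ≠ ⊥ := by rw [hW]; exact centerThompsonAOf_ne_bot P hdvd
    have hWP : W ≤ (P : Subgroup G) := by
      rw [hW]
      unfold Cfsg.centerThompsonAOf Cfsg.thompsonSubgroupAOf
      intro x hx
      obtain ⟨y, -, rfl⟩ := hx.1
      exact y.2
    have hNst : ∀ g ∈ Subgroup.normalizer (W : Set G), φ g ∈ Subgroup.normalizer (W : Set G) := by
      intro g hg
      apply Subgroup.mem_normalizer_fintype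
      intro w hw
      obtain ⟨w', hw', rfl⟩ : ∃ w' ∈ W, φ w' = w := by
        have : w ∈ W.map e.toMonoidHom := by rw [hWmap]; exact hw
        obtain ⟨w', hw', h⟩ := this
        exact ⟨w', hw', h⟩
      rw [← map_mul, ← map_inv, ← map_mul]
      exact hWst _ ((Subgroup.mem_normalizer_iff.mp hg w').mp hw')
    have hN : Subgroup.normalizer (W : Set G) ≠ ⊤ := by
      intro hN
      have hWn : W.Normal := Subgroup.normalizer_eq_top_iff.mp hN
      have h1 : W ≤ Cfsg.pCore p G :=
        Cfsg.Agent.Lib.Helper12.le_pCore' p W hWn (P.2.to_le hWP)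
      rw [hO] at h1
      exact hWne (le_bot_iff.1 h1)
    have hNnil : Group.IsNilpotent ↥(Subgroup.normalizer (W : Set G)) := IHsub _ hN hNst
    have hNpc : Cfsg.HasNormalPComplement p ↥(Subgroup.normalizer (W : Set G)) :=
      hasNormalPComplement_of_isNilpotent p hNnil
    rw [hW] at hNpc
    obtain ⟨P', K, hKn, hKc⟩ := Cfsg.Agent.Lib.Helper8.GT.glauberman_thompson hp2 P hNpc
    have := hKn
    have hKcop : (Nat.card K).Coprime p :=
      Cfsg.Agent.Lib.Helper12.coprime_card_of_isComplement' P' K hKc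
    have hKst : ∀ k ∈ K, φ k ∈ K := by
      intro k hk
      apply Cfsg.Agent.Lib.Helper29.mem_normal_complement_of_coprime P' K hKc
      have h1 : orderOf (φ k) = orderOf k := orderOf_injective φ hbij.1 k
      rw [h1]
      exact Nat.Coprime.coprime_dvd_left (Subgroup.orderOf_dvd_natCard K hk) hKcop
    have hKtop : K ≠ ⊤ := by
      intro htop
      have h1 := hKc.card_mul_card
      rw [htop, Subgroup.card_top] at h1
      have h2 : Nat.card (P' : Subgroup G) = 1 := by
        have hpos : 0 < Nat.card G := Nat.card_pos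
        exact Nat.eq_of_mul_eq_mul_left hpos (by rw [h1, mul_one])
      have h3 : (P' : Subgroup G) ≠ ⊥ := P'.ne_bot_of_dvd_card hdvd
      exact h3 (Subgroup.card_eq_one.mp h2)
    obtain ⟨k, hk⟩ := IsPGroup.iff_card.mp P'.2
    by_cases hK1 : K = ⊥
    · -- `G` is a `p`-group
      have h1 := hKc.card_mul_card
      rw [hK1, Subgroup.card_bot, one_mul, hk] at h1
      exact (IsPGroup.of_card h1.symm).isNilpotent
    have hKnil : Group.IsNilpotent ↥K := IHsub K hKtop hKst
    haveI := zsub_normal K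
    refine finish_split φ hp hφ IHquot (zsub K) (zsub_ne_bot K hK1 hKnil) (zsub_comm K)
      (zsub_stable φ hbij K hKst) ?_
    have h1 : Nat.card (zsub K) ∣ Nat.card K := Subgroup.card_dvd_of_le inf_le_left
    have h2 : (Subgroup.centralizer (zsub K : Set G)).index ∣ K.index :=
      Subgroup.index_dvd_of_le (le_centralizer_zsub K)
    have h3 : K.index = p ^ k := by rw [hKc.symm.index_eq_card, hk]
    rw [h3] at h2
    exact Nat.Coprime.coprime_dvd_left h1 (Nat.Coprime.coprime_dvd_right h2
      (Nat.Coprime.pow_right k hKcop))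
  · -- `O_p(G) ≠ 1`
    haveI hq : Group.IsNilpotent (G ⧸ Cfsg.pCore p G) := IHquot _ hO hOst
    have hidx : ¬ p ∣ (Cfsg.pCore p G).index := by
      intro hd
      rw [Subgroup.index_eq_card] at hd
      obtain ⟨S⟩ : Nonempty (Sylow p (G ⧸ Cfsg.pCore p G)) := inferInstance
      have hSn : (S : Subgroup (G ⧸ Cfsg.pCore p G)).Normal := inferInstance
      have hS1 : (S : Subgroup (G ⧸ Cfsg.pCore p G)) ≠ ⊥ := S.ne_bot_of_dvd_card hd
      set T : Subgroup G := (S : Subgroup (G ⧸ Cfsg.pCore p G)).comap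
        (QuotientGroup.mk' (Cfsg.pCore p G)) with hT
      have hTn : T.Normal := hSn.comap _
      have hTp : IsPGroup p T := by
        rintro ⟨t, ht⟩
        obtain ⟨a, ha⟩ := S.2 ⟨_, ht⟩
        have h1 : t ^ p ^ a ∈ Cfsg.pCore p G := by
          rw [← QuotientGroup.eq_one_iff, QuotientGroup.mk_pow]
          exact congrArg Subtype.val ha
        obtain ⟨b, hb⟩ := hOp ⟨_, h1⟩
        refine ⟨a + b, Subtype.ext ?_⟩
        have h2 : (t ^ p ^ a) ^ p ^ b = 1 := congrArg Subtype.val hb
        show t ^ p ^ (a + b) = 1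
        rw [pow_add, pow_mul, h2]
      have hTO : T ≤ Cfsg.pCore p G := Cfsg.Agent.Lib.Helper12.le_pCore' p T hTn hTp
      apply hS1
      rw [Subgroup.eq_bot_iff_forall]
      intro s hs
      obtain ⟨t, rfl⟩ := QuotientGroup.mk_surjective s
      have ht : t ∈ T := hs
      exact (QuotientGroup.eq_one_iff t).2 (hTO ht)
    haveI := zsub_normal (Cfsg.pCore p G)
    refine finish_split φ hp hφ IHquot (zsub (Cfsg.pCore p G))
      (zsub_ne_bot _ hO hOp.isNilpotent) (zsub_comm _) (zsub_stable φ hbij _ hOst) ?_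
    have h1 : IsPGroup p (zsub (Cfsg.pCore p G)) := hOp.to_le inf_le_left
    obtain ⟨a, ha⟩ := IsPGroup.iff_card.mp h1
    have h2 : (Subgroup.centralizer (zsub (Cfsg.pCore p G) : Set G)).index ∣
        (Cfsg.pCore p G).index := Subgroup.index_dvd_of_le (le_centralizer_zsub _)
    rw [ha]
    apply Nat.Coprime.pow_left
    rw [hp.coprime_iff_not_dvd]
    exact fun h => hidx (h.trans h2)

theorem isNilpotent_of_split_aux : ∀ (n : ℕ) (G : Type u) [Group G] [Finite G], Nat.card G = n →
    ∀ (φ : G →* G) (p : ℕ), p.Prime → IsSplit p φ → Group.IsNilpotent G := by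
  intro n
  induction n using Nat.strong_induction_on with
  | _ n IH =>
  intro G _ _ hcard φ p hp hφ
  have IHsub : ∀ H : Subgroup G, H ≠ ⊤ → (∀ h ∈ H, φ h ∈ H) → Group.IsNilpotent ↥H := by
    intro H hH hst
    have hlt : Nat.card ↥H < n := by
      rw [← hcard]
      exact lt_of_le_of_ne (Subgroup.card_le_card_group H)
        (fun h => hH ((Subgroup.card_eq_iff_eq_top H).mp h))
    exact IH _ hlt ↥H rfl (resEnd φ H hst) p hp (hφ.resEnd H hst)
  have IHquot : ∀ (N : Subgroup G) [N.Normal], N ≠ ⊥ → (∀ h ∈ N, φ h ∈ N) →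
      Group.IsNilpotent (G ⧸ N) := by
    intro N _ hN hst
    have hlt : Nat.card (G ⧸ N) < n := by
      rw [← hcard, Subgroup.card_eq_card_quotient_mul_card_subgroup N]
      have h1 : 1 < Nat.card N := (Subgroup.one_lt_card_iff_ne_bot N).mpr hN
      have h2 : 0 < Nat.card (G ⧸ N) := Nat.card_pos
      nlinarith
    exact IH _ hlt (G ⧸ N) rfl (quotEnd φ N hst) p hp (hφ.quotEnd N hst)
  exact isNilpotent_step_split φ hp hφ IHsub IHquot

/-- **Kegel's theorem**: a finite group with a splitting endomorphism of prime period is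
nilpotent. -/
theorem isNilpotent_of_split {G : Type u} [Group G] [Finite G] (φ : G →* G) {p : ℕ} (hp : p.Prime)
    (hφ : IsSplit p φ) : Group.IsNilpotent G :=
  isNilpotent_of_split_aux _ G rfl φ p hp hφ

end main

end Cfsg.Agent.Lib.Helper22.Kegel
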