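import Mathlib
import Cfsg.Agent.Lib.Helper21.LSBasic

/-!
# S5286 leaf (FP): a finite subgroup of `FreeGroup Y ⋊ Γ` fixes a vertex of the Cayley tree
-/

set_option autoImplicit false
universe u
open Cfsg
open Cfsg.Agent.Lib.Helper21.LS

namespace Cfsg.Agent.Lib.Helper22.LSFP

section
variable {Γ : Type*} {Y : Type*} [Group Γ] [MulAction Γ Y]

theorem isReduced_map_lsmul (γ : Γ) {L : List (Y × Bool)} (h : FreeGroup.IsReduced L) :
    FreeGroup.IsReduced (L.map (lsmul γ)) := by
  unfold FreeGroup.IsReduced at *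
  refine List.isChain_map_of_isChain (lsmul γ) ?_ h
  intro a b hab h1
  exact hab (smul_left_cancel γ h1)

theorem toWord_actHom [DecidableEq Y] (γ : Γ) (v : FreeGroup Y) :
    (actHom Γ Y γ v).toWord = v.toWord.map (lsmul γ) := by
  conv_lhs => rw [← FreeGroup.mk_toWord (x := v), actHom_mk]
  rw [FreeGroup.toWord_mk]
  exact (isReduced_map_lsmul γ FreeGroup.isReduced_toWord).reduce_eq

theorem norm_actHom [DecidableEq Y] (γ : Γ) (v : FreeGroup Y) :
    (actHom Γ Y γ v).norm = v.norm := by
  simp [FreeGroup.norm, toWord_actHom]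

theorem isReduced_invRev [DecidableEq Y] {L : List (Y × Bool)} (h : FreeGroup.IsReduced L) :
    FreeGroup.IsReduced (FreeGroup.invRev L) := by
  rw [FreeGroup.isReduced_iff_reduce_eq, FreeGroup.reduce_invRev, h.reduce_eq]

theorem norm_mk_of_isReduced [DecidableEq Y] {L : List (Y × Bool)} (h : FreeGroup.IsReduced L) :
    (FreeGroup.mk L).norm = L.length := by
  rw [FreeGroup.norm, FreeGroup.toWord_mk, h.reduce_eq]

/-- two reduced words split as a common prefix followed by tails which do not cancel -/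
theorem exists_decomp [DecidableEq Y] : ∀ (u v : List (Y × Bool)), FreeGroup.IsReduced u →
    FreeGroup.IsReduced v →
    ∃ g u' v', u = g ++ u' ∧ v = g ++ v' ∧ FreeGroup.IsReduced (FreeGroup.invRev u' ++ v') := by
  intro u
  induction u with
  | nil =>
    intro v _ hv
    exact ⟨[], [], v, rfl, rfl, by simpa using hv⟩
  | cons a u1 ih =>
    intro v hu hv
    cases v with
    | nil =>
      exact ⟨[], a :: u1, [], rfl, rfl, by simpa using isReduced_invRev hu⟩
    | cons a' v1 =>
      by_cases haa : a = a'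
      · subst haa
        have hu1 : FreeGroup.IsReduced u1 := hu.infix ⟨[a], [], by simp⟩
        have hv1 : FreeGroup.IsReduced v1 := hv.infix ⟨[a], [], by simp⟩
        obtain ⟨g, u', v', h1, h2, h3⟩ := ih v1 hu1 hv1
        exact ⟨a :: g, u', v', by simp [h1], by simp [h2], h3⟩
      · refine ⟨[], a :: u1, a' :: v1, rfl, rfl, ?_⟩
        have h1 : FreeGroup.IsReduced (FreeGroup.invRev u1 ++ [(a.1, !a.2)]) := by
          have := isReduced_invRev hu
          rwa [FreeGroup.invRev_cons] at this
        have h2 : FreeGroup.IsReduced ([(a.1, !a.2)] ++ a' :: v1) := by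
          show FreeGroup.IsReduced ((a.1, !a.2) :: a' :: v1)
          rw [FreeGroup.isReduced_cons_cons]
          refine ⟨?_, hv⟩
          intro h
          simp only at h
          by_contra hne
          apply haa
          have : a.2 = a'.2 := by
            simp only at hne
            cases ha : a.2 <;> cases ha' : a'.2 <;> simp_all
          exact Prod.ext h this
        have := FreeGroup.IsReduced.append_overlap h1 h2 (by simp)
        rw [FreeGroup.invRev_cons]
        simpa [FreeGroup.invRev] using this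

theorem inv_mk_mul_mk (g u' v' : List (Y × Bool)) :
    (FreeGroup.mk (g ++ u'))⁻¹ * FreeGroup.mk (g ++ v') = FreeGroup.mk (FreeGroup.invRev u' ++ v') := by
  rw [← FreeGroup.mul_mk, ← FreeGroup.mul_mk, ← FreeGroup.mul_mk, ← FreeGroup.inv_mk]
  group

/-- the point at distance `s` from `1` on the geodesic `[1, b]` is close to every `c` which is close to
both `1` and `b` -/
theorem norm_take_le [DecidableEq Y] (b c : List (Y × Bool)) (hb : FreeGroup.IsReduced b)
    (hc : FreeGroup.IsReduced c) (s r : ℕ) (hbr : b.length = r) (hs : s ≤ r)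
    (hcr : c.length ≤ r) (hd : ((FreeGroup.mk b)⁻¹ * FreeGroup.mk c).norm ≤ r) :
    ((FreeGroup.mk (b.take s))⁻¹ * FreeGroup.mk c).norm ≤ max (r - s) s := by
  obtain ⟨g, b', c', rfl, rfl, hR⟩ := exists_decomp b c hb hc
  rw [inv_mk_mul_mk, norm_mk_of_isReduced hR] at hd
  simp only [List.length_append, FreeGroup.invRev_length] at hd hbr hcr
  rcases le_or_gt s g.length with hsg | hsg
  · rw [List.take_append_of_le_length hsg]
    have h1 : (FreeGroup.mk (g.take s))⁻¹ * FreeGroup.mk (g ++ c') =
        FreeGroup.mk (g.drop s ++ c') := by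
      conv_lhs => rw [← List.take_append_drop s g, List.append_assoc]
      have := inv_mk_mul_mk (g.take s) [] (g.drop s ++ c')
      simpa using this
    rw [h1]
    refine le_trans FreeGroup.norm_mk_le ?_
    simp only [List.length_append, List.length_drop]
    refine le_trans ?_ (le_max_left _ _)
    omega
  · have htake : (g ++ b').take s = g ++ b'.take (s - g.length) := by
      rw [List.take_append, List.take_of_length_le hsg.le]
    rw [htake, inv_mk_mul_mk]
    refine le_trans FreeGroup.norm_mk_le ?_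
    simp only [List.length_append, FreeGroup.invRev_length, List.length_take]
    refine le_trans ?_ (le_max_right _ _)
    omega

/-- a vertex within `⌈r/2⌉` of both ends of a geodesic of length `r` is one of its (at most two) midpoints -/
theorem eq_take_of_close [DecidableEq Y] (b w : List (Y × Bool)) (hb : FreeGroup.IsReduced b)
    (hw : FreeGroup.IsReduced w) (r : ℕ) (hbr : b.length = r)
    (hwr : w.length ≤ r - r / 2) (hd : ((FreeGroup.mk b)⁻¹ * FreeGroup.mk w).norm ≤ r - r / 2) :
    ∃ k, r / 2 ≤ k ∧ k ≤ r - r / 2 ∧ w = b.take k := by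
  obtain ⟨g, b', w', rfl, rfl, hR⟩ := exists_decomp b w hb hw
  rw [inv_mk_mul_mk, norm_mk_of_isReduced hR] at hd
  simp only [List.length_append, FreeGroup.invRev_length] at hd hbr hwr
  have hw0 : w'.length = 0 := by omega
  have hw' : w' = [] := List.length_eq_zero_iff.mp hw0
  subst hw'
  refine ⟨g.length, by omega, by omega, ?_⟩
  simp

theorem vact_inv_mul (h : FreeGroup Y ⋊[actHom Γ Y] Γ) (u v : FreeGroup Y) :
    (vact h u)⁻¹ * vact h v = actHom Γ Y h.right (u⁻¹ * v) := by
  simp only [vact, mul_inv_rev, map_mul, map_inv]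
  group

theorem vact_left (h k : FreeGroup Y ⋊[actHom Γ Y] Γ) : vact h k.left = (h * k).left := by
  simp [vact]

theorem vact_injective (h : FreeGroup Y ⋊[actHom Γ Y] Γ) : Function.Injective (vact h) := by
  intro u v huv
  simp only [vact, mul_right_inj] at huv
  exact (actHom Γ Y h.right).injective huv

theorem mk_singleton_ne_one (a : Y × Bool) : FreeGroup.mk [a] ≠ 1 := by
  classical
  intro h
  have := congrArg FreeGroup.toWord h
  rw [FreeGroup.toWord_mk, (FreeGroup.IsReduced.singleton).reduce_eq] at this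
  simp at this

theorem mk_pair_ne_one (a a' : Y × Bool) (h2 : a.2 = a'.2) : FreeGroup.mk [a, a'] ≠ 1 := by
  classical
  intro h
  have hred : FreeGroup.IsReduced [a, a'] := by
    rw [FreeGroup.isReduced_cons_cons]
    exact ⟨fun _ => h2, FreeGroup.IsReduced.singleton⟩
  have := congrArg FreeGroup.toWord h
  rw [FreeGroup.toWord_mk, hred.reduce_eq] at this
  simp at this

end

/-- **(FP)** a finite subgroup of `FreeGroup Y ⋊ Γ` fixes a vertex of the Cayley tree, and that vertex is a
prefix of `h.left` for some `h ∈ H`. -/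
theorem exists_fixed_vertex {Γ : Type*} {Y : Type*} [Group Γ] [MulAction Γ Y]
    (H : Subgroup (FreeGroup Y ⋊[actHom Γ Y] Γ)) [Finite H] :
    ∃ (L L' : List (Y × Bool)), FreeGroup.IsReduced (L ++ L') ∧
      (∃ h ∈ H, h.left = FreeGroup.mk (L ++ L')) ∧
      ∀ h ∈ H, vact h (FreeGroup.mk L) = FreeGroup.mk L := by
  classical
  obtain ⟨h₀, hmax⟩ := Finite.exists_max
    (fun h : H => (h : FreeGroup Y ⋊[actHom Γ Y] Γ).left.norm)
  have hmax' : ∀ k ∈ H, k.left.norm ≤ (h₀ : FreeGroup Y ⋊[actHom Γ Y] Γ).left.norm :=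
    fun k hk => hmax ⟨k, hk⟩
  obtain ⟨b, hbdef⟩ : ∃ b, b = (h₀ : FreeGroup Y ⋊[actHom Γ Y] Γ).left.toWord := ⟨_, rfl⟩
  have hbred : FreeGroup.IsReduced b := hbdef ▸ FreeGroup.isReduced_toWord
  have hbmk : FreeGroup.mk b = (h₀ : FreeGroup Y ⋊[actHom Γ Y] Γ).left := by
    rw [hbdef, FreeGroup.mk_toWord]
  obtain ⟨r, hr⟩ : ∃ r, b.length = r := ⟨_, rfl⟩
  have hrnorm : (h₀ : FreeGroup Y ⋊[actHom Γ Y] Γ).left.norm = r := by
    rw [← hr, hbdef, FreeGroup.norm]
  -- the diameter of the orbit of `1` is `r`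
  have hdiam : ∀ h ∈ H, ∀ k ∈ H, ((h.left)⁻¹ * k.left).norm ≤ r := by
    intro h hh k hk
    have h1 : (h.left)⁻¹ * k.left = actHom Γ Y h.right ((h⁻¹ * k).left) := by
      have e1 : vact h (1 : FreeGroup Y) = h.left := vact_one_left h
      have e2 : vact h ((h⁻¹ * k).left) = k.left := by
        rw [vact_left]; simp
      rw [← e1, ← e2, vact_inv_mul]; simp
    rw [h1, norm_actHom, ← hrnorm]
    exact hmax' _ (H.mul_mem (H.inv_mem hh) hk)
  -- Claim A
  have hA : ∀ s, (s = r / 2 ∨ s = r - r / 2) → ∀ k ∈ H,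
      ((FreeGroup.mk (b.take s))⁻¹ * k.left).norm ≤ r - r / 2 := by
    intro s hs k hk
    have h1 := norm_take_le b k.left.toWord hbred FreeGroup.isReduced_toWord s r hr
      (by rcases hs with rfl | rfl <;> omega)
      (by
        have := hmax' k hk
        rw [hrnorm] at this
        exact this)
      (by
        rw [FreeGroup.mk_toWord, hbmk]
        exact hdiam _ h₀.2 k hk)
    rw [FreeGroup.mk_toWord] at h1
    refine le_trans h1 ?_
    rcases hs with rfl | rfl
    · exact max_le le_rfl (by omega)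
    · exact max_le (by omega) le_rfl
  -- Claim B
  have hB : ∀ s, (s = r / 2 ∨ s = r - r / 2) → ∀ h ∈ H,
      ∃ k, r / 2 ≤ k ∧ k ≤ r - r / 2 ∧ vact h (FreeGroup.mk (b.take s)) = FreeGroup.mk (b.take k) := by
    intro s hs h hh
    obtain ⟨w, hw⟩ : ∃ w, w = vact h (FreeGroup.mk (b.take s)) := ⟨_, rfl⟩
    have hn1 : w.norm ≤ r - r / 2 := by
      have e : w⁻¹ * (h * h⁻¹).left = actHom Γ Y h.right ((FreeGroup.mk (b.take s))⁻¹ * (h⁻¹).left) := by
        rw [hw, ← vact_left, vact_inv_mul]
      have e' : w⁻¹ * (h * h⁻¹).left = w⁻¹ := by simp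
      have := hA s hs h⁻¹ (H.inv_mem hh)
      rw [← norm_actHom h.right, ← e, e', FreeGroup.norm_inv_eq] at this
      exact this
    have hn2 : ((FreeGroup.mk b)⁻¹ * w).norm ≤ r - r / 2 := by
      have e : w⁻¹ * (h * (h⁻¹ * h₀)).left =
          actHom Γ Y h.right ((FreeGroup.mk (b.take s))⁻¹ * (h⁻¹ * (h₀ : FreeGroup Y ⋊[actHom Γ Y] Γ)).left) := by
        rw [hw, ← vact_left, vact_inv_mul]
      have e' : w⁻¹ * (h * (h⁻¹ * (h₀ : FreeGroup Y ⋊[actHom Γ Y] Γ))).left = w⁻¹ * FreeGroup.mk b := by
        rw [hbmk]; simp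
      have := hA s hs (h⁻¹ * h₀) (H.mul_mem (H.inv_mem hh) h₀.2)
      rw [← norm_actHom h.right, ← e, e'] at this
      have e'' : (FreeGroup.mk b)⁻¹ * w = (w⁻¹ * FreeGroup.mk b)⁻¹ := by group
      rw [e'', FreeGroup.norm_inv_eq]
      exact this
    obtain ⟨k, hk1, hk2, hk3⟩ := eq_take_of_close b w.toWord hbred FreeGroup.isReduced_toWord r hr
      hn1 (by rw [FreeGroup.mk_toWord]; exact hn2)
    refine ⟨k, hk1, hk2, ?_⟩
    rw [← hw, ← FreeGroup.mk_toWord (x := w), hk3]
  refine ⟨b.take (r / 2), b.drop (r / 2), ?_, ⟨h₀, h₀.2, ?_⟩, ?_⟩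
  · rw [List.take_append_drop]; exact hbred
  · rw [List.take_append_drop]; exact hbmk.symm
  · intro h hh
    obtain ⟨k, hk1, hk2, hk3⟩ := hB (r / 2) (Or.inl rfl) h hh
    rcases Nat.lt_or_ge (r / 2) k with hlt | hge
    · exfalso
      -- `r` is odd, `k = r / 2 + 1 = r - r / 2`
      have hk : k = r / 2 + 1 := by omega
      have hk' : r - r / 2 = r / 2 + 1 := by omega
      have hlen : r / 2 < b.length := by omega
      have htk : b.take (r / 2 + 1) = b.take (r / 2) ++ [b[r / 2]] := by
        rw [List.take_succ_eq_append_getElem hlen]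
      obtain ⟨k2, hk21, hk22, hk23⟩ := hB (r - r / 2) (Or.inr rfl) h hh
      have hstep : vact h (FreeGroup.mk (b.take (r / 2 + 1))) =
          vact h (FreeGroup.mk (b.take (r / 2))) * FreeGroup.mk [lsmul h.right b[r / 2]] := by
        rw [htk, ← FreeGroup.mul_mk]
        simp only [vact, map_mul, actHom_mk, List.map_cons, List.map_nil, mul_assoc]
      rw [hk'] at hk23
      rw [hstep, hk3, hk, htk, ← FreeGroup.mul_mk] at hk23
      rcases Nat.lt_or_ge (r / 2) k2 with hlt2 | hge2
      · have hk2' : k2 = r / 2 + 1 := by omega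
        rw [hk2', htk, ← FreeGroup.mul_mk] at hk23
        have : FreeGroup.mk [lsmul h.right b[r / 2]] = 1 := by
          have := hk23
          rw [mul_eq_left] at this
          exact this
        exact mk_singleton_ne_one _ this
      · have hk2' : k2 = r / 2 := by omega
        rw [hk2', mul_assoc, mul_eq_left, FreeGroup.mul_mk] at hk23
        exact mk_pair_ne_one b[r / 2] (lsmul h.right b[r / 2]) rfl hk23
    · have hk : k = r / 2 := by omega
      rw [hk3, hk]

end Cfsg.Agent.Lib.Helper22.LSFP
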