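/-
helper22: S4017 leaf MIX-ODDX, exact form.
Rank at least 3: a subgroup of odd order contains all the cores `O(C_G(t))`, `t ∈ Q \ 1`.
(S1279 + S1285; the centralizers are proper of even order, hence `{2,p}`-groups, hence solvable
by S0144, and their cores are `p`-groups.)
-/
import Mathlib
import Cfsg.Prelude.Def_Local
import Cfsg.Agent.Lib.Helper26.MixDefs
import Cfsg.Agent.Lib.Helper9.MIXSTRUCTa
import Cfsg.Agent.Lib.Helper2.MIXCORELE
import Cfsg.Agent.Lib.Helper22.MIXODDXOf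
import Cfsg.Agent.S0144

set_option autoImplicit false

namespace Cfsg.Agent.Lib.Helper22.MIXODDX

open Cfsg Cfsg.Agent.Lib.Helper26.Mix

universe u

variable {G : Type u} [Group G] [Finite G] {p a : ℕ} {Q : Subgroup G} {g : G}

/-- the primes dividing `|C_G(t)|` are `2` and `p` -/
theorem primes_centralizer (c : Ctx G p a Q g) (t : G) (ht : t ∈ Q) (ht1 : t ≠ 1) :
    ∀ s : ℕ, s.Prime → s ∣ Nat.card ↥(Subgroup.centralizer ({t} : Set G)) → s = 2 ∨ s = p := by
  have hCne := Cfsg.Agent.Lib.Helper9.MIXSTRUCTa.centralizer_ne_top c t ht ht1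
  have hQC : Q ≤ Subgroup.centralizer ({t} : Set G) := by
    intro u hu
    rw [Subgroup.mem_centralizer_singleton_iff]
    exact c.hQab u hu t ht
  have h2C : 2 ∣ Nat.card ↥(Subgroup.centralizer ({t} : Set G)) := by
    have h1 : Nat.card Q ∣ Nat.card ↥(Subgroup.centralizer ({t} : Set G)) :=
      Subgroup.card_dvd_of_le hQC
    rw [c.hQcard] at h1
    exact (dvd_pow_self 2 (by have := c.ha; omega)).trans h1
  exact c.hstar _ hCne h2C

/-- an odd number all of whose prime divisors are `2` or `p` is a power of `p` -/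
theorem eq_pow_of_odd {p m : ℕ} (hm0 : m ≠ 0) (hodd : ¬ 2 ∣ m)
    (h : ∀ s : ℕ, s.Prime → s ∣ m → s = 2 ∨ s = p) : ∃ k : ℕ, m = p ^ k := by
  refine ⟨_, Nat.eq_prime_pow_of_unique_prime_dvd hm0 ?_⟩
  intro d hd hdm
  rcases h d hd hdm with h2 | hp
  · subst h2
    exact absurd hdm hodd
  · exact hp

/-- SOLV (own copy): `C_G(t)` is solvable. -/
theorem cent_solvable' (c : Ctx G p a Q g) (t : G) (ht : t ∈ Q) (ht1 : t ≠ 1) :
    Group.IsSolvable ↥(Subgroup.centralizer ({t} : Set G)) := by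
  have hprimes := primes_centralizer c t ht ht1
  set n := Nat.card ↥(Subgroup.centralizer ({t} : Set G)) with hn
  have hn0 : n ≠ 0 := Nat.card_pos.ne'
  have hsplit : ordProj[2] n * ordCompl[2] n = n := Nat.ordProj_mul_ordCompl_eq_self n 2
  have hm0 : ordCompl[2] n ≠ 0 := (Nat.ordCompl_pos 2 hn0).ne'
  have hodd : ¬ 2 ∣ ordCompl[2] n := Nat.not_dvd_ordCompl Nat.prime_two hn0
  obtain ⟨k, hk⟩ := eq_pow_of_odd (p := p) hm0 hodd (by
    intro s hs hsm
    exact hprimes s hs (hsm.trans (Nat.ordCompl_dvd n 2)))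
  refine Cfsg.Agent.S0144.result 2 p (n.factorization 2) k Nat.prime_two c.hp ?_
  rw [← hk]
  exact hsplit.symm

/-- STRUCT.1 (own copy): the core of `C_G(t)` is a `p`-group. -/
theorem core_isPGroup (c : Ctx G p a Q g) (t : G) (ht : t ∈ Q) (ht1 : t ≠ 1) :
    IsPGroup p ↥(centralizerPPrimeCore 2 t) := by
  haveI : Fact p.Prime := ⟨c.hp⟩
  have hprimes := primes_centralizer c t ht ht1
  obtain ⟨hle, _, hodd⟩ := Cfsg.Agent.Lib.Helper2.MIXCORELE.core_basic t
  have hdvd : Nat.card ↥(centralizerPPrimeCore 2 t) ∣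
      Nat.card ↥(Subgroup.centralizer ({t} : Set G)) := Subgroup.card_dvd_of_le hle
  obtain ⟨k, hk⟩ := eq_pow_of_odd (p := p) (m := Nat.card ↥(centralizerPPrimeCore 2 t))
    Nat.card_pos.ne' (by
      intro h2
      rcases hodd with ⟨j, hj⟩
      omega) (by
      intro s hs hsm
      exact hprimes s hs (hsm.trans hdvd))
  exact IsPGroup.of_card hk

/-- ODDX : rank `≥ 3`: a subgroup of odd order contains all `θ(t)`. -/
theorem exists_odd_closure (c : Ctx G p a Q g) (ha3 : 3 ≤ a) :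
    ∃ X : Subgroup G, Odd (Nat.card X) ∧
      ∀ t ∈ Q, t ≠ 1 → centralizerPPrimeCore 2 t ≤ X :=
  Cfsg.Agent.Lib.Helper22.MIXODDXOf.exists_odd_closure_of c ha3
    (fun t ht ht1 => cent_solvable' c t ht ht1) (fun t ht ht1 => core_isPGroup c t ht ht1)

end Cfsg.Agent.Lib.Helper22.MIXODDX
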