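/-
helper22: S4017 leaf MIX-ODDX in `_of` form (SOLV and STRUCT.1 as hypotheses).
Rank at least 3: a subgroup of odd order contains all the cores.
-/
import Mathlib
import Cfsg.Prelude.Def_Local
import Cfsg.Agent.Lib.Helper26.MixDefs
import Cfsg.Agent.S1279
import Cfsg.Agent.S1285

set_option autoImplicit false

namespace Cfsg.Agent.Lib.Helper22.MIXODDXOf

open Cfsg Cfsg.Agent.Lib.Helper26.Mix

universe u

variable {G : Type u} [Group G] [Finite G] {p a : ℕ} {Q : Subgroup G} {g : G}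

/-- `Q` is elementary abelian in the prelude sense. -/
theorem elemAb (c : Ctx G p a Q g) : Cfsg.IsElementaryAbelian 2 Q := by
  refine ⟨⟨⟨?_⟩⟩, ?_⟩
  · intro x y
    exact Subtype.ext (c.hQab x.1 x.2 y.1 y.2)
  · intro u hu
    rw [pow_two]
    exact c.hQexp u hu

/-- ODDX with SOLV and STRUCT.1 as hypotheses. -/
theorem exists_odd_closure_of (c : Ctx G p a Q g) (ha3 : 3 ≤ a)
    (hsolv : ∀ t ∈ Q, t ≠ 1 → Group.IsSolvable ↥(Subgroup.centralizer ({t} : Set G)))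
    (hpg : ∀ t ∈ Q, t ≠ 1 → IsPGroup p ↥(centralizerPPrimeCore 2 t)) :
    ∃ X : Subgroup G, Odd (Nat.card X) ∧
      ∀ t ∈ Q, t ≠ 1 → centralizerPPrimeCore 2 t ≤ X := by
  haveI : Fact (Nat.Prime 2) := ⟨Nat.prime_two⟩
  haveI : Fact p.Prime := ⟨c.hp⟩
  have hA : Cfsg.IsElementaryAbelian 2 Q := elemAb c
  have hA3 : 2 ^ 3 ≤ Nat.card ↥Q := by
    rw [c.hQcard]
    exact Nat.pow_le_pow_right (by norm_num) ha3
  have hA2 : 2 ^ 2 ≤ Nat.card ↥Q := by
    rw [c.hQcard]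
    exact Nat.pow_le_pow_right (by norm_num) c.ha
  have h1 : Cfsg.IsSolvableSignalizerFunctor 2 Q (fun t => Cfsg.centralizerPPrimeCore 2 t) :=
    Cfsg.Agent.S1279.result 2 Q hA hA2 hsolv
  have h2 : Cfsg.IsCompleteSignalizerFunctor 2 Q (fun t => Cfsg.centralizerPPrimeCore 2 t) :=
    Cfsg.Agent.S1285.result 2 Q hA hA3 _ h1 p hpg
  obtain ⟨_, X, _, hX2, hX⟩ := h2
  refine ⟨X, ?_, ?_⟩
  · exact Nat.odd_iff.mpr (Nat.two_dvd_ne_zero.mp hX2)
  · intro t ht ht1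
    have := hX t ht ht1
    simp only at this
    rw [← this]
    exact inf_le_left

end Cfsg.Agent.Lib.Helper22.MIXODDXOf
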