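/-
helper22: S4017 leaf MIX-RANK3, exact form.
Rank at least 3: `W = ⨆ θ(t)` has odd order (ODDX), is normalized by `N_G(Q)` (CORECONJ), so `g`
centralizes it (GCENT), hence `Q` centralizes all the cores (FIXED).
-/
import Mathlib
import Cfsg.Prelude.Def_Local
import Cfsg.Agent.Lib.Helper26.MixDefs
import Cfsg.Agent.Lib.Helper2.MIXCORECONJ
import Cfsg.Agent.Lib.Helper23.MIXGCENT
import Cfsg.Agent.Lib.Helper12.MIXFIXED
import Cfsg.Agent.Lib.Helper22.MIXODDX

set_option autoImplicit false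

namespace Cfsg.Agent.Lib.Helper22.MIXRANK3

open Cfsg Cfsg.Agent.Lib.Helper26.Mix

universe u

variable {G : Type u} [Group G] [Finite G] {p a : ℕ} {Q : Subgroup G} {g : G}

/-- the join of the cores -/
def bigW (Q : Subgroup G) : Subgroup G :=
  ⨆ t : {t : G // t ∈ Q ∧ t ≠ 1}, centralizerPPrimeCore 2 (t : G)

omit [Finite G] in
theorem core_le_bigW (t : G) (ht : t ∈ Q) (ht1 : t ≠ 1) :
    centralizerPPrimeCore 2 t ≤ bigW Q :=
  le_iSup (fun t : {t : G // t ∈ Q ∧ t ≠ 1} => centralizerPPrimeCore 2 (t : G)) ⟨t, ht, ht1⟩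

/-- conjugation by an element of `N_G(Q)` maps `W` into `W` -/
theorem map_conj_bigW_le (x : G) (hx : x ∈ Subgroup.normalizer (Q : Set G)) :
    (bigW Q).map (MulAut.conj x).toMonoidHom ≤ bigW Q := by
  unfold bigW
  rw [Subgroup.map_iSup]
  refine iSup_le ?_
  rintro ⟨t, ht, ht1⟩
  rw [← Cfsg.Agent.Lib.Helper2.MIXCORECONJ.core_conj x t]
  refine core_le_bigW (Q := Q) (x * t * x⁻¹) ?_ ?_
  · exact (Subgroup.mem_normalizer_iff.mp hx t).mp ht
  · intro h
    apply ht1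
    have : x * t * x⁻¹ = x * 1 * x⁻¹ := by rw [h]; group
    exact mul_left_cancel (mul_right_cancel this)

theorem conj_mem_bigW (x : G) (hx : x ∈ Subgroup.normalizer (Q : Set G)) (w : G)
    (hw : w ∈ bigW Q) : x * w * x⁻¹ ∈ bigW Q := by
  apply map_conj_bigW_le x hx
  exact ⟨w, hw, rfl⟩

/-- `N_G(Q)` normalizes `W` -/
theorem normalizer_le_normalizer_bigW :
    Subgroup.normalizer (Q : Set G) ≤ Subgroup.normalizer (bigW Q : Set G) := by
  intro x hx
  rw [Subgroup.mem_normalizer_iff]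
  intro w
  constructor
  · exact conj_mem_bigW x hx w
  · intro hw
    have hx' : x⁻¹ ∈ Subgroup.normalizer (Q : Set G) := inv_mem hx
    have := conj_mem_bigW x⁻¹ hx' _ hw
    have h2 : x⁻¹ * (x * w * x⁻¹) * x⁻¹⁻¹ = w := by group
    rw [h2] at this
    exact this

/-- RANK3 : assembly. -/
theorem comm_of_rank3 (c : Ctx G p a Q g) (hsimple : Simple G) (ha3 : 3 ≤ a) : Comm G Q := by
  obtain ⟨X, hXodd, hX⟩ := Cfsg.Agent.Lib.Helper22.MIXODDX.exists_odd_closure c ha3
  have hWX : bigW Q ≤ X := by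
    unfold bigW
    refine iSup_le ?_
    rintro ⟨t, ht, ht1⟩
    exact hX t ht ht1
  have hWodd : Odd (Nat.card ↥(bigW Q)) := by
    have hdvd : Nat.card ↥(bigW Q) ∣ Nat.card ↥X := Subgroup.card_dvd_of_le hWX
    exact Odd.of_dvd_nat hXodd hdvd
  have hWQ : Q ≤ Subgroup.normalizer (bigW Q : Set G) :=
    Subgroup.le_normalizer.trans normalizer_le_normalizer_bigW
  have hWg : g ∈ Subgroup.normalizer (bigW Q : Set G) := normalizer_le_normalizer_bigW c.hgN
  have hcent := Cfsg.Agent.Lib.Helper23.MIXGCENT.g_centralizes c hsimple (bigW Q) hWodd hWQ hWg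
  refine Cfsg.Agent.Lib.Helper12.MIXFIXED.comm_of_fixed c ?_
  intro t ht ht1 w hw
  exact hcent w (core_le_bigW t ht ht1 hw)

end Cfsg.Agent.Lib.Helper22.MIXRANK3
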