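import Mathlib

/-!
Generic counting lemmas (helper22) for Miller's theorem on the number of elements of order `p^s * m`:
* `card_modEq_card_fixed`: hands-on fixed point congruence for a `p`-group action given by a function;
* `card_orderOf_mul_eq`: elements of order `A * B` (coprime) correspond to commuting pairs;
* `card_zpowers_eq`: number of generators of a cyclic subgroup;
* `card_eq_totient_mul_card_image`: a set of pairs `(x, a)`, `x` of order `k`, closed under replacing `x`
  by another generator of `zpowers x`, has `φ k` times as many elements as its image under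
  `(x, a) ↦ (zpowers x, a)`.
-/

set_option autoImplicit false

namespace Cfsg.Agent.Lib.Helper22.Miller

/-- Fixed point congruence for an action given by a bare function. -/
theorem card_modEq_card_fixed {A : Type*} [Group A] [Finite A] {p : ℕ} [Fact p.Prime]
    (hA : IsPGroup p A) {α : Type*} (act : A → α → α) (h1 : ∀ x, act 1 x = x)
    (hmul : ∀ a b x, act (a * b) x = act a (act b x))
    (S : Set α) (hS : S.Finite) (hinv : ∀ a, ∀ x ∈ S, act a x ∈ S) :
    Nat.card S ≡ Nat.card {x : α // x ∈ S ∧ ∀ a, act a x = x} [MOD p] := by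
  classical
  let _ : MulAction A α := { smul := act, one_smul := h1, mul_smul := hmul }
  let S' : SubMulAction A α := { carrier := S, smul_mem' := fun a x hx => hinv a x hx }
  have : Finite S' := hS
  have key := hA.card_modEq_card_fixedPoints S'
  have e : MulAction.fixedPoints A S' ≃ {x : α // x ∈ S ∧ ∀ a, act a x = x} :=
    { toFun := fun x => ⟨x.1.1, x.1.2, fun a => by
        have := x.2 a
        exact congrArg Subtype.val this⟩
      invFun := fun x => ⟨⟨x.1, x.2.1⟩, fun a => Subtype.ext (x.2.2 a)⟩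
      left_inv := fun x => rfl
      right_inv := fun x => rfl }
  rw [← Nat.card_congr e]
  exact key



/-- CRT idempotent exponents. -/
theorem exists_crt_exponents (A B : ℕ) (hAB : Nat.Coprime A B) :
    ∃ e₁ e₂ : ℕ, B ∣ e₁ ∧ A ∣ e₂ ∧ e₁ + e₂ ≡ 1 [MOD A * B] := by
  obtain ⟨e₁, h1, h2⟩ := Nat.chineseRemainder hAB 1 0
  obtain ⟨e₂, h3, h4⟩ := Nat.chineseRemainder hAB 0 1
  refine ⟨e₁, e₂, (Nat.modEq_zero_iff_dvd).mp h2, (Nat.modEq_zero_iff_dvd).mp h3, ?_⟩
  rw [← Nat.modEq_and_modEq_iff_modEq_mul hAB]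
  constructor
  · have := Nat.ModEq.add h1 h3
    simpa using this
  · have := Nat.ModEq.add h2 h4
    simpa using this

theorem eq_of_dvd_of_mul_eq {a b A B : ℕ} (hA : 0 < A) (hB : 0 < B) (ha : a ∣ A) (hb : b ∣ B)
    (h : a * b = A * B) : a = A ∧ b = B := by
  obtain ⟨c, rfl⟩ := ha
  obtain ⟨d, rfl⟩ := hb
  have ha0 : 0 < a := by
    rcases Nat.eq_zero_or_pos a with h0 | h0
    · simp [h0] at hA
    · exact h0
  have hb0 : 0 < b := by
    rcases Nat.eq_zero_or_pos b with h0 | h0
    · simp [h0] at hB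
    · exact h0
  have h1 : a * b * 1 = a * b * (c * d) := by
    rw [mul_one]
    calc a * b = a * c * (b * d) := h
      _ = a * b * (c * d) := by ring
  have h2 : c * d = 1 := (Nat.eq_of_mul_eq_mul_left (Nat.mul_pos ha0 hb0) h1).symm
  have hc : c = 1 := Nat.eq_one_of_mul_eq_one_right h2
  have hd : d = 1 := Nat.eq_one_of_mul_eq_one_left h2
  simp [hc, hd]

/-- Parts of an element of order `A * B`. -/
theorem orderOf_parts {G : Type*} [Group G] {A B e₁ e₂ : ℕ} (hA : 0 < A) (hB : 0 < B)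
    (hAB : A.Coprime B) (h2 : B ∣ e₁) (h3 : A ∣ e₂) (h5 : e₁ + e₂ ≡ 1 [MOD A * B])
    (x : G) (hx : orderOf x = A * B) :
    orderOf (x ^ e₁) = A ∧ orderOf (x ^ e₂) = B ∧ x ^ e₁ * x ^ e₂ = x := by
  have hxx : x ^ e₁ * x ^ e₂ = x := by
    rw [← pow_add]
    have : x ^ (e₁ + e₂) = x ^ 1 := by
      rw [pow_eq_pow_iff_modEq, hx]; exact h5
    rw [this, pow_one]
  have ha : orderOf (x ^ e₁) ∣ A := by
    apply orderOf_dvd_of_pow_eq_one
    obtain ⟨k, rfl⟩ := h2
    rw [← pow_mul, show B * k * A = (A * B) * k by ring, pow_mul, ← hx, pow_orderOf_eq_one, one_pow]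
  have hb : orderOf (x ^ e₂) ∣ B := by
    apply orderOf_dvd_of_pow_eq_one
    obtain ⟨k, rfl⟩ := h3
    rw [← pow_mul, show A * k * B = (A * B) * k by ring, pow_mul, ← hx, pow_orderOf_eq_one, one_pow]
  have hcomm : Commute (x ^ e₁) (x ^ e₂) := (Commute.refl x).pow_pow _ _
  have hcop : (orderOf (x ^ e₁)).Coprime (orderOf (x ^ e₂)) :=
    Nat.Coprime.coprime_dvd_left ha (Nat.Coprime.coprime_dvd_right hb hAB)
  have hmul := hcomm.orderOf_mul_eq_mul_orderOf_of_coprime hcop
  rw [hxx, hx] at hmul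
  obtain ⟨h6, h7⟩ := eq_of_dvd_of_mul_eq hA hB ha hb hmul.symm
  exact ⟨h6, h7, hxx⟩

/-- Elements of order `A * B` (`A`, `B` coprime) correspond to commuting pairs of elements of orders
`A` and `B`. -/
theorem card_orderOf_mul_eq {G : Type*} [Group G] (A B : ℕ) (hA : 0 < A) (hB : 0 < B)
    (hAB : A.Coprime B) :
    Nat.card {g : G // orderOf g = A * B} =
      Nat.card {q : G × G // orderOf q.1 = A ∧ orderOf q.2 = B ∧ Commute q.1 q.2} := by
  obtain ⟨e₁, e₂, h2, h3, h5⟩ := exists_crt_exponents A B hAB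
  symm
  apply Nat.card_congr
  refine
    { toFun := fun q => ⟨q.1.1 * q.1.2, ?_⟩
      invFun := fun x => ⟨(x.1 ^ e₁, x.1 ^ e₂), ?_⟩
      left_inv := ?_
      right_inv := ?_ }
  · obtain ⟨⟨y, z⟩, hy, hz, hc⟩ := q
    simp only at hy hz hc ⊢
    rw [hc.orderOf_mul_eq_mul_orderOf_of_coprime (by rw [hy, hz]; exact hAB), hy, hz]
  · obtain ⟨h6, h7, _⟩ := orderOf_parts hA hB hAB h2 h3 h5 x.1 x.2
    exact ⟨h6, h7, (Commute.refl x.1).pow_pow _ _⟩
  · rintro ⟨⟨y, z⟩, hy, hz, hc⟩
    simp only at hy hz hc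
    apply Subtype.ext
    have hy1 : y ^ A = 1 := by rw [← hy]; exact pow_orderOf_eq_one y
    have hz1 : z ^ B = 1 := by rw [← hz]; exact pow_orderOf_eq_one z
    have hyB : y ^ e₂ = 1 := by
      obtain ⟨k, rfl⟩ := h3; rw [pow_mul, hy1, one_pow]
    have hzA : z ^ e₁ = 1 := by
      obtain ⟨k, rfl⟩ := h2; rw [pow_mul, hz1, one_pow]
    have hy2 : y ^ e₁ = y := by
      have h8 : e₁ + e₂ ≡ 1 [MOD A] := h5.of_dvd (Dvd.intro _ rfl)
      have : y ^ (e₁ + e₂) = y ^ 1 := by
        rw [pow_eq_pow_iff_modEq, hy]; exact h8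
      rw [pow_add, hyB, mul_one, pow_one] at this
      exact this
    have hz2 : z ^ e₂ = z := by
      have h8 : e₁ + e₂ ≡ 1 [MOD B] := h5.of_dvd (Dvd.intro_left _ rfl)
      have : z ^ (e₁ + e₂) = z ^ 1 := by
        rw [pow_eq_pow_iff_modEq, hz]; exact h8
      rw [pow_add, hzA, one_mul, pow_one] at this
      exact this
    show ((y * z) ^ e₁, (y * z) ^ e₂) = (y, z)
    rw [hc.mul_pow, hc.mul_pow, hy2, hzA, hyB, hz2, mul_one, one_mul]
  · intro x
    apply Subtype.ext
    exact (orderOf_parts hA hB hAB h2 h3 h5 x.1 x.2).2.2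


/-- Number of generators of a cyclic subgroup. -/
theorem card_zpowers_eq {G : Type*} [Group G] [Finite G] (x₀ : G) :
    Nat.card {x : G // Subgroup.zpowers x = Subgroup.zpowers x₀} = (orderOf x₀).totient := by
  classical
  have : Fintype (Subgroup.zpowers x₀) := Fintype.ofFinite _
  have hcard : Fintype.card (Subgroup.zpowers x₀) = orderOf x₀ := by
    rw [← Nat.card_eq_fintype_card, Nat.card_zpowers]
  have h1 := IsCyclic.card_orderOf_eq_totient (α := Subgroup.zpowers x₀) (d := orderOf x₀)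
    (by rw [hcard])
  rw [← h1, ← Fintype.card_subtype, ← Nat.card_eq_fintype_card]
  apply Nat.card_congr
  refine
    { toFun := fun x => ⟨⟨x.1, by
        have h := Subgroup.mem_zpowers x.1
        have h2 := x.2
        rw [h2] at h
        exact h⟩, ?_⟩
      invFun := fun y => ⟨y.1.1, ?_⟩
      left_inv := fun x => rfl
      right_inv := fun y => rfl }
  · rw [Subgroup.orderOf_mk, ← Nat.card_zpowers, x.2, Nat.card_zpowers]
  · have h2 : orderOf (y.1 : G) = orderOf x₀ := by rw [Subgroup.orderOf_coe]; exact y.2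
    apply Subgroup.eq_of_le_of_card_ge
    · rw [Subgroup.zpowers_le]; exact y.1.2
    · rw [Nat.card_zpowers, Nat.card_zpowers, h2]

theorem card_eq_totient_mul_card_image {G α : Type*} [Group G] [Finite G] [Finite α] (k : ℕ)
    (S : Set (G × α)) (hord : ∀ q ∈ S, orderOf q.1 = k)
    (hcl : ∀ q ∈ S, ∀ y : G, Subgroup.zpowers y = Subgroup.zpowers q.1 → (y, q.2) ∈ S) :
    Nat.card S =
      k.totient * Nat.card ((fun q : G × α => (Subgroup.zpowers q.1, q.2)) '' S) := by
  classical
  set F : S → ((fun q : G × α => (Subgroup.zpowers q.1, q.2)) '' S) :=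
    fun q => ⟨(Subgroup.zpowers q.1.1, q.1.2), Set.mem_image_of_mem _ q.2⟩ with hF
  have : Fintype ((fun q : G × α => (Subgroup.zpowers q.1, q.2)) '' S) := Fintype.ofFinite _
  rw [Nat.card_congr (Equiv.sigmaFiberEquiv F).symm, Nat.card_sigma]
  have hfib : ∀ t : ((fun q : G × α => (Subgroup.zpowers q.1, q.2)) '' S),
      Nat.card {q : S // F q = t} = k.totient := by
    rintro ⟨t, q₀, hq₀, rfl⟩
    rw [← hord q₀ hq₀, ← card_zpowers_eq q₀.1]
    apply Nat.card_congr
    refine
      { toFun := fun q => ⟨q.1.1.1, ?_⟩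
        invFun := fun y => ⟨⟨(y.1, q₀.2), hcl q₀ hq₀ y.1 y.2⟩, ?_⟩
        left_inv := ?_
        right_inv := fun y => rfl }
    · have := congrArg (fun z => z.1.1) q.2
      exact this
    · apply Subtype.ext
      show (Subgroup.zpowers y.1, q₀.2) = (Subgroup.zpowers q₀.1, q₀.2)
      rw [y.2]
    · rintro ⟨⟨⟨y, a⟩, hq⟩, hq'⟩
      have h2 := congrArg (fun z => z.1.2) hq'
      simp only [hF] at h2
      apply Subtype.ext
      apply Subtype.ext
      show (y, q₀.2) = (y, a)
      rw [h2]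
  rw [Finset.sum_congr rfl (fun t _ => hfib t), Finset.sum_const, smul_eq_mul, Finset.card_univ,
    ← Nat.card_eq_fintype_card, mul_comm]

end Cfsg.Agent.Lib.Helper22.Miller
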