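import Mathlib
import Cfsg.Agent.Lib.Helper22.Miller1

/-!
Conjugation action on cyclic subgroups of given order and on pairs (cyclic subgroup, centralizing
element); fixed point congruences (helper22).
-/

set_option autoImplicit false

namespace Cfsg.Agent.Lib.Helper22.Miller

variable {G : Type*} [Group G]

/-- Conjugate of a subgroup by an element. -/
def conjSub (a : G) (U : Subgroup G) : Subgroup G := U.map (MulAut.conj a).toMonoidHom

theorem mem_conjSub (a x : G) (U : Subgroup G) : x ∈ conjSub a U ↔ a⁻¹ * x * a ∈ U := by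
  unfold conjSub
  rw [Subgroup.mem_map]
  constructor
  · rintro ⟨u, hu, rfl⟩
    simp only [MulEquiv.coe_toMonoidHom, MulAut.conj_apply]
    have : a⁻¹ * (a * u * a⁻¹) * a = u := by group
    rw [this]; exact hu
  · intro h
    refine ⟨a⁻¹ * x * a, h, ?_⟩
    simp only [MulEquiv.coe_toMonoidHom, MulAut.conj_apply]
    group

theorem conjSub_one (U : Subgroup G) : conjSub 1 U = U := by
  ext x; rw [mem_conjSub]; simp

theorem conjSub_mul (a b : G) (U : Subgroup G) : conjSub (a * b) U = conjSub a (conjSub b U) := by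
  ext x
  rw [mem_conjSub, mem_conjSub, mem_conjSub]
  have : (a * b)⁻¹ * x * (a * b) = b⁻¹ * (a⁻¹ * x * a) * b := by group
  rw [this]

theorem conjSub_eq_self_iff (a : G) (U : Subgroup G) :
    conjSub a U = U ↔ a ∈ Subgroup.normalizer (U : Set G) := by
  rw [Subgroup.mem_set_normalizer_iff'']
  constructor
  · intro h x
    have h1 := mem_conjSub a x U
    rw [h] at h1
    exact h1
  · intro h
    ext x
    rw [mem_conjSub]
    exact (h x).symm

theorem conjSub_zpowers (a u : G) :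
    conjSub a (Subgroup.zpowers u) = Subgroup.zpowers (a * u * a⁻¹) := by
  unfold conjSub
  rw [MonoidHom.map_zpowers]
  rfl

theorem orderOf_conj_eq (a u : G) : orderOf (a * u * a⁻¹) = orderOf u := by
  have := (MulAut.conj a).orderOf_eq u
  rwa [MulAut.conj_apply] at this

theorem conjSub_le_conjSub {U V : Subgroup G} (a : G) (h : U ≤ V) : conjSub a U ≤ conjSub a V :=
  Subgroup.map_mono h

/-- Cyclic subgroups of order `k` inside `B`. -/
def cycSet (k : ℕ) (B : Subgroup G) : Set (Subgroup G) :=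
  {U | U ≤ B ∧ ∃ u, orderOf u = k ∧ Subgroup.zpowers u = U}

/-- Pairs (cyclic subgroup of order `k`, element of order `m` centralizing it). -/
def pairSet (k m : ℕ) : Set (Subgroup G × G) :=
  {q | ∃ u, orderOf u = k ∧ Subgroup.zpowers u = q.1 ∧ orderOf q.2 = m ∧ Commute u q.2}

theorem conjSub_mem_cycSet {k : ℕ} {B : Subgroup G} (a : G)
    (ha : a ∈ Subgroup.normalizer (B : Set G)) {U : Subgroup G} (hU : U ∈ cycSet k B) :
    conjSub a U ∈ cycSet k B := by
  obtain ⟨hUB, u, hu, rfl⟩ := hU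
  refine ⟨?_, a * u * a⁻¹, ?_, ?_⟩
  · have := conjSub_le_conjSub a hUB
    rwa [(conjSub_eq_self_iff a B).mpr ha] at this
  · rw [orderOf_conj_eq, hu]
  · rw [conjSub_zpowers]

theorem conj_mem_pairSet {k m : ℕ} (a : G) {q : Subgroup G × G} (hq : q ∈ pairSet k m) :
    (conjSub a q.1, a * q.2 * a⁻¹) ∈ pairSet (G := G) k m := by
  obtain ⟨u, hu, hz, hv, hc⟩ := hq
  refine ⟨a * u * a⁻¹, ?_, ?_, ?_, ?_⟩
  · rw [orderOf_conj_eq, hu]
  · rw [← hz, conjSub_zpowers]
  · rw [orderOf_conj_eq, hv]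
  · show a * u * a⁻¹ * (a * q.2 * a⁻¹) = a * q.2 * a⁻¹ * (a * u * a⁻¹)
    have h1 : a * u * a⁻¹ * (a * q.2 * a⁻¹) = a * (u * q.2) * a⁻¹ := by group
    have h2 : a * q.2 * a⁻¹ * (a * u * a⁻¹) = a * (q.2 * u) * a⁻¹ := by group
    rw [h1, h2, hc.eq]

variable [Finite G]

/-- Fixed point congruence for a `p`-subgroup `A` acting on the cyclic subgroups of order `k` of a
subgroup `B` it normalizes. -/
theorem card_cycSet_modEq (p : ℕ) [Fact p.Prime] (k : ℕ) (A B : Subgroup G) (hA : IsPGroup p A)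
    (hAB : A ≤ Subgroup.normalizer (B : Set G)) :
    Nat.card (cycSet k B) ≡
      Nat.card {U : Subgroup G // U ∈ cycSet k B ∧ A ≤ Subgroup.normalizer (U : Set G)} [MOD p] := by
  have key := card_modEq_card_fixed hA (α := Subgroup G) (fun a U => conjSub (a : G) U)
    (fun U => conjSub_one U) (fun a b U => conjSub_mul (a : G) (b : G) U) (cycSet k B)
    (Set.toFinite _) (fun a U hU => conjSub_mem_cycSet (a : G) (hAB a.2) hU)
  have e : {U : Subgroup G // U ∈ cycSet k B ∧ ∀ a : A, conjSub (a : G) U = U} ≃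
      {U : Subgroup G // U ∈ cycSet k B ∧ A ≤ Subgroup.normalizer (U : Set G)} := by
    apply Equiv.subtypeEquivRight
    intro U
    constructor
    · rintro ⟨h1, h2⟩
      exact ⟨h1, fun a ha => (conjSub_eq_self_iff a U).mp (h2 ⟨a, ha⟩)⟩
    · rintro ⟨h1, h2⟩
      exact ⟨h1, fun a => (conjSub_eq_self_iff (a : G) U).mpr (h2 a.2)⟩
  rw [← Nat.card_congr e]
  exact key

/-- Fixed point congruence for a `p`-subgroup `A` acting on `pairSet k m`. -/
theorem card_pairSet_modEq (p : ℕ) [Fact p.Prime] (k m : ℕ) (A : Subgroup G) (hA : IsPGroup p A) :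
    Nat.card (pairSet (G := G) k m) ≡
      Nat.card {q : Subgroup G × G // q ∈ pairSet k m ∧ A ≤ Subgroup.normalizer (q.1 : Set G) ∧
        ∀ a ∈ A, a * q.2 * a⁻¹ = q.2} [MOD p] := by
  have key := card_modEq_card_fixed hA (α := Subgroup G × G)
    (fun a q => (conjSub (a : G) q.1, (a : G) * q.2 * (a : G)⁻¹))
    (fun q => by simp [conjSub_one])
    (fun a b q => by
      simp only [Subgroup.coe_mul, conjSub_mul, Prod.mk.injEq, true_and]
      group)
    (pairSet k m) (Set.toFinite _) (fun a q hq => conj_mem_pairSet (a : G) hq)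
  have e : {q : Subgroup G × G // q ∈ pairSet k m ∧
        ∀ a : A, (conjSub (a : G) q.1, (a : G) * q.2 * (a : G)⁻¹) = q} ≃
      {q : Subgroup G × G // q ∈ pairSet k m ∧ A ≤ Subgroup.normalizer (q.1 : Set G) ∧
        ∀ a ∈ A, a * q.2 * a⁻¹ = q.2} := by
    apply Equiv.subtypeEquivRight
    rintro ⟨U, v⟩
    constructor
    · rintro ⟨h1, h2⟩
      refine ⟨h1, fun a ha => (conjSub_eq_self_iff a U).mp ?_, fun a ha => ?_⟩
      · exact (Prod.mk.inj (h2 ⟨a, ha⟩)).1
      · exact (Prod.mk.inj (h2 ⟨a, ha⟩)).2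
    · rintro ⟨h1, h2, h3⟩
      refine ⟨h1, fun a => ?_⟩
      rw [(conjSub_eq_self_iff (a : G) U).mpr (h2 a.2), h3 a a.2]
  rw [← Nat.card_congr e]
  exact key

end Cfsg.Agent.Lib.Helper22.Miller
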