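import Mathlib
import Cfsg.Agent.Lib.Helper20.NormalRankTwo

/-!
Key computation for Miller's theorem (helper22): a group `R = C E` with `C` cyclic normal of order
`p ^ s` (`p` odd, `s ≥ 2`) and `E` normal abelian of exponent `p`: the `p ^ (s - 1)`-th power map is an
endomorphism with image of order `p`; elements outside its kernel generate normal cyclic subgroups of
order `p ^ s` supplementing `E`, and their number is divisible by `p ^ s`.
-/
set_option autoImplicit false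
namespace Cfsg.Agent.Lib.Helper22.Miller

open scoped commutatorElement

section
variable {R : Type*} [Group R]

/-- If every element is congruent mod the normal subgroup `N` to an element of the commutative
subgroup `M`, all commutators lie in `N`. -/
theorem commutator_mem_of_cover (N M : Subgroup R) [N.Normal]
    (hM : ∀ a ∈ M, ∀ b ∈ M, a * b = b * a)
    (hcov : ∀ r : R, ∃ m ∈ M, (QuotientGroup.mk r : R ⧸ N) = QuotientGroup.mk m) (x y : R) :
    ⁅x, y⁆ ∈ N := by
  obtain ⟨e, he, hxe⟩ := hcov x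
  obtain ⟨e', he', hye⟩ := hcov y
  rw [← QuotientGroup.eq_one_iff]
  have h1 : ((⁅x, y⁆ : R) : R ⧸ N) = ⁅(x : R ⧸ N), (y : R ⧸ N)⁆ :=
    map_commutatorElement (QuotientGroup.mk' N) x y
  have h2 : ((⁅e, e'⁆ : R) : R ⧸ N) = ⁅(e : R ⧸ N), (e' : R ⧸ N)⁆ :=
    map_commutatorElement (QuotientGroup.mk' N) e e'
  rw [h1, hxe, hye, ← h2, commutatorElement_eq_one_iff_commute.mpr (hM e he e' he')]
  rfl

/-- Data for the key computation: `R = C E` with `C = ⟨c⟩` cyclic normal of order `p ^ s` and `E`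
normal abelian of exponent `p`, not contained in `C`. -/
structure KData (p s : ℕ) (R : Type*) [Group R] where
  C : Subgroup R
  E : Subgroup R
  c : R
  hp2 : p ≠ 2
  hs : 2 ≤ s
  hCn : C.Normal
  hEn : E.Normal
  hsup : C ⊔ E = ⊤
  hc : orderOf c = p ^ s
  hC : C = Subgroup.zpowers c
  hEc : ∀ a ∈ E, ∀ b ∈ E, a * b = b * a
  hEp : ∀ e ∈ E, e ^ p = 1
  hEC : ¬ E ≤ C

namespace KData

variable {p s : ℕ} [hp : Fact p.Prime] (D : KData p s R)
include D

theorem exists_decomp (r : R) : ∃ a ∈ D.C, ∃ e ∈ D.E, r = a * e := by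
  have := D.hEn
  have h1 : r ∈ ((D.C ⊔ D.E : Subgroup R) : Set R) := by rw [D.hsup]; trivial
  rw [Subgroup.mul_normal] at h1
  obtain ⟨a, ha, e, he, rfl⟩ := Set.mem_mul.mp h1
  exact ⟨a, ha, e, he, rfl⟩

theorem hCc : ∀ a ∈ D.C, ∀ b ∈ D.C, a * b = b * a := by
  intro a ha b hb
  rw [D.hC] at ha hb
  obtain ⟨i, rfl⟩ := Subgroup.mem_zpowers_iff.mp ha
  obtain ⟨j, rfl⟩ := Subgroup.mem_zpowers_iff.mp hb
  rw [← zpow_add, ← zpow_add, add_comm]

theorem comm_mem (x y : R) : ⁅x, y⁆ ∈ D.C ⊓ D.E := by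
  have := D.hEn
  have := D.hCn
  constructor
  · apply commutator_mem_of_cover D.C D.E D.hEc
    intro r
    obtain ⟨a, ha, e, he, rfl⟩ := D.exists_decomp r
    refine ⟨e, he, ?_⟩
    rw [QuotientGroup.mk_mul, (QuotientGroup.eq_one_iff a).mpr ha, one_mul]
  · apply commutator_mem_of_cover D.E D.C D.hCc
    intro r
    obtain ⟨a, ha, e, he, rfl⟩ := D.exists_decomp r
    refine ⟨a, ha, ?_⟩
    rw [QuotientGroup.mk_mul, (QuotientGroup.eq_one_iff e).mpr he, mul_one]

theorem central {d : R} (hd : d ∈ D.C ⊓ D.E) (r : R) : r * d = d * r := by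
  obtain ⟨a, ha, e, he, rfl⟩ := D.exists_decomp r
  have h1 := D.hCc a ha d hd.1
  have h2 := D.hEc e he d hd.2
  calc a * e * d = a * (e * d) := by group
    _ = a * (d * e) := by rw [h2]
    _ = (a * d) * e := by group
    _ = (d * a) * e := by rw [h1]
    _ = d * (a * e) := by group

theorem mul_pow_p (x y : R) : (x * y) ^ p = x ^ p * y ^ p :=
  Cfsg.Agent.Lib.Helper20.mul_pow_prime_of_central hp.out D.hp2 x y
    (fun g => D.central (D.comm_mem y x) g) (D.hEp _ (D.comm_mem y x).2)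

theorem mul_pow_pp (k : ℕ) (x y : R) : (x * y) ^ (p ^ k) = x ^ (p ^ k) * y ^ (p ^ k) := by
  induction k with
  | zero => simp
  | succ k ih => rw [pow_succ, pow_mul, pow_mul, pow_mul, ih, D.mul_pow_p]

/-- The `p ^ (s - 1)`-th power endomorphism. -/
def psi : R →* R := MonoidHom.mk' (fun x => x ^ (p ^ (s - 1))) (D.mul_pow_pp (s - 1))

theorem psi_apply (x : R) : D.psi x = x ^ (p ^ (s - 1)) := rfl

theorem psi_E {e : R} (he : e ∈ D.E) : D.psi e = 1 := by
  rw [psi_apply]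
  obtain ⟨t, ht⟩ : ∃ t, s - 1 = t + 1 := ⟨s - 2, by have := D.hs; omega⟩
  rw [ht, pow_succ', pow_mul, D.hEp e he, one_pow]

/-- The generator of the image of `psi`. -/
def z : R := D.c ^ (p ^ (s - 1))

theorem psi_c : D.psi D.c = D.z := rfl

theorem z_pow : D.z ^ p = 1 := by
  unfold z
  rw [← pow_mul, ← pow_succ, show s - 1 + 1 = s by have := D.hs; omega, ← D.hc, pow_orderOf_eq_one]

theorem z_ne : D.z ≠ 1 := by
  unfold z
  intro h
  have h1 := orderOf_dvd_of_pow_eq_one h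
  rw [D.hc] at h1
  have h2 := Nat.le_of_dvd (pow_pos hp.out.pos _) h1
  have h3 : p ^ (s - 1) < p ^ s := Nat.pow_lt_pow_right hp.out.one_lt (by have := D.hs; omega)
  omega

theorem orderOf_z : orderOf D.z = p := orderOf_eq_prime D.z_pow D.z_ne

theorem psi_pow_p (x : R) : x ^ (p ^ s) = (D.psi x) ^ p := by
  rw [psi_apply, ← pow_mul, ← pow_succ, show s - 1 + 1 = s by have := D.hs; omega]

theorem range_psi : D.psi.range = Subgroup.zpowers D.z := by
  rw [MonoidHom.range_eq_map, ← D.hsup, Subgroup.map_sup, D.hC, MonoidHom.map_zpowers, D.psi_c]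
  have : D.E.map D.psi = ⊥ := by
    rw [eq_bot_iff]
    rintro _ ⟨e, he, rfl⟩
    rw [Subgroup.mem_bot]
    exact D.psi_E he
  rw [this, sup_bot_eq]



theorem card_eq [Finite R] : Nat.card R = Nat.card D.psi.ker * p := by
  rw [← Subgroup.card_mul_index D.psi.ker, Subgroup.index_ker, D.range_psi, Nat.card_zpowers,
    D.orderOf_z]

theorem pow_dvd_card [Finite R] (hR : IsPGroup p R) : p ^ (s + 1) ∣ Nat.card R := by
  obtain ⟨n, hn⟩ := IsPGroup.iff_card.mp hR
  have h1 : Nat.card D.C = p ^ s := by rw [D.hC, Nat.card_zpowers, D.hc]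
  have h2 : Nat.card D.C ≤ Nat.card R := Subgroup.card_le_card_group D.C
  have h3 : Nat.card D.C ≠ Nat.card R := by
    intro h
    have := (Subgroup.card_eq_iff_eq_top D.C).mp h
    apply D.hEC
    rw [this]; exact le_top
  have h4 : p ^ s < p ^ n := by rw [← h1, ← hn]; omega
  have h5 : s < n := (Nat.pow_lt_pow_iff_right hp.out.one_lt).mp h4
  rw [hn]
  exact pow_dvd_pow p h5

theorem pow_dvd_card_ne [Finite R] (hR : IsPGroup p R) :
    p ^ s ∣ Nat.card {x : R // x ^ (p ^ (s - 1)) ≠ 1} := by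
  classical
  have h1 := D.card_eq
  have h2 := D.pow_dvd_card hR
  have h3 : p ^ s ∣ Nat.card D.psi.ker := by
    rw [h1, pow_succ] at h2
    exact Nat.dvd_of_mul_dvd_mul_right hp.out.pos h2
  have h4 : Nat.card {x : R // x ^ (p ^ (s - 1)) ≠ 1} + Nat.card D.psi.ker = Nat.card R := by
    have := Fintype.ofFinite R
    have e : {x : R // x ^ (p ^ (s - 1)) ≠ 1} ≃ {x : R // ¬ x ∈ D.psi.ker} :=
      Equiv.subtypeEquivRight (fun x => by rw [MonoidHom.mem_ker, D.psi_apply])
    rw [Nat.card_congr e]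
    simp only [Nat.card_eq_fintype_card]
    rw [Fintype.card_subtype_compl]
    have : Fintype.card {x // x ∈ D.psi.ker} ≤ Fintype.card R := Fintype.card_subtype_le _
    have h5 : Fintype.card {x // x ∈ D.psi.ker} = Fintype.card D.psi.ker := rfl
    omega
  have h5 : Nat.card {x : R // x ^ (p ^ (s - 1)) ≠ 1} = Nat.card D.psi.ker * (p - 1) := by
    have hp1 : 1 ≤ p := hp.out.one_lt.le
    generalize Nat.card D.psi.ker = K at *
    generalize Nat.card {x : R // x ^ (p ^ (s - 1)) ≠ 1} = Y at *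
    obtain ⟨q, rfl⟩ : ∃ q, p = q + 1 := ⟨p - 1, by omega⟩
    have : K * (q + 1) = K * q + K := by ring
    rw [Nat.add_sub_cancel]
    omega
  rw [h5]
  exact Dvd.dvd.mul_right h3 _


theorem psi_mem_zpowers_z (x : R) : D.psi x ∈ Subgroup.zpowers D.z := by
  rw [← D.range_psi]; exact ⟨x, rfl⟩

theorem orderOf_eq_of_ne {x : R} (hx : x ^ (p ^ (s - 1)) ≠ 1) : orderOf x = p ^ s := by
  have h1 : x ^ (p ^ (s - 1 + 1)) = 1 := by
    rw [show s - 1 + 1 = s by have := D.hs; omega, D.psi_pow_p]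
    obtain ⟨i, hi⟩ := Subgroup.mem_zpowers_iff.mp (D.psi_mem_zpowers_z x)
    rw [← hi, ← zpow_natCast, ← zpow_mul, mul_comm, zpow_mul, zpow_natCast, D.z_pow, one_zpow]
  have := orderOf_eq_prime_pow hx h1
  rwa [show s - 1 + 1 = s by have := D.hs; omega] at this

theorem zpowers_z_le {x : R} (hx : x ^ (p ^ (s - 1)) ≠ 1) [Finite R] :
    Subgroup.zpowers D.z ≤ Subgroup.zpowers x := by
  have h1 : D.psi x ∈ Subgroup.zpowers D.z := D.psi_mem_zpowers_z x
  have h2 : orderOf (D.psi x) = p := by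
    apply orderOf_eq_prime
    · obtain ⟨i, hi⟩ := Subgroup.mem_zpowers_iff.mp h1
      rw [← hi, ← zpow_natCast, ← zpow_mul, mul_comm, zpow_mul, zpow_natCast, D.z_pow, one_zpow]
    · exact hx
  have h3 : Subgroup.zpowers (D.psi x) = Subgroup.zpowers D.z := by
    apply Subgroup.eq_of_le_of_card_ge
    · rw [Subgroup.zpowers_le]; exact h1
    · rw [Nat.card_zpowers, Nat.card_zpowers, h2, D.orderOf_z]
  rw [← h3, Subgroup.zpowers_le, D.psi_apply]
  exact Subgroup.pow_mem _ (Subgroup.mem_zpowers x) _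

theorem inf_le_zpowers_z : D.C ⊓ D.E ≤ Subgroup.zpowers D.z := by
  intro d hd
  have h1 : d ^ p = 1 := D.hEp d hd.2
  have h2 := hd.1
  rw [D.hC] at h2
  obtain ⟨j, rfl⟩ := Subgroup.mem_zpowers_iff.mp h2
  rw [← zpow_natCast, ← zpow_mul] at h1
  have h3 := (orderOf_dvd_iff_zpow_eq_one).mpr h1
  rw [D.hc] at h3
  have h4 : ((p : ℤ) ^ (s - 1)) ∣ j := by
    have h5 : ((p ^ s : ℕ) : ℤ) = (p : ℤ) ^ (s - 1) * p := by
      rw [← pow_succ, show s - 1 + 1 = s by have := D.hs; omega]; push_cast; rfl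
    rw [h5] at h3
    exact Int.dvd_of_mul_dvd_mul_right (by exact_mod_cast hp.out.ne_zero) h3
  obtain ⟨k, rfl⟩ := h4
  rw [Subgroup.mem_zpowers_iff]
  refine ⟨k, ?_⟩
  unfold z
  rw [← zpow_natCast, ← zpow_mul]
  push_cast
  rfl

theorem conj_mem_zpowers {x : R} (hx : x ^ (p ^ (s - 1)) ≠ 1) [Finite R] (g : R) :
    g * x * g⁻¹ ∈ Subgroup.zpowers x := by
  have h1 : g * x * g⁻¹ = ⁅g, x⁆ * x := by
    rw [commutatorElement_def]; group
  rw [h1]
  exact Subgroup.mul_mem _ (D.zpowers_z_le hx (D.inf_le_zpowers_z (D.comm_mem g x)))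
    (Subgroup.mem_zpowers x)

theorem zpowers_sup_eq_top {x : R} (hx : x ^ (p ^ (s - 1)) ≠ 1) [Finite R] :
    Subgroup.zpowers x ⊔ D.E = ⊤ := by
  obtain ⟨a, ha, e, he, rfl⟩ := D.exists_decomp x
  have h1 : a ^ (p ^ (s - 1)) ≠ 1 := by
    have h2 : D.psi (a * e) = D.psi a := by rw [map_mul, D.psi_E he, mul_one]
    rw [← D.psi_apply, ← h2, D.psi_apply]
    exact hx
  have h3 : orderOf a = p ^ s := D.orderOf_eq_of_ne h1
  have h4 : Subgroup.zpowers a = D.C := by
    apply Subgroup.eq_of_le_of_card_ge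
    · rw [Subgroup.zpowers_le]; exact ha
    · rw [Nat.card_zpowers, h3, D.hC, Nat.card_zpowers, D.hc]
  rw [← D.hsup, ← h4]
  apply le_antisymm
  · apply sup_le _ le_sup_right
    rw [Subgroup.zpowers_le]
    exact Subgroup.mul_mem _ (Subgroup.mem_sup_left (Subgroup.mem_zpowers a))
      (Subgroup.mem_sup_right he)
  · apply sup_le _ le_sup_right
    rw [Subgroup.zpowers_le]
    have h5 : a * e * e⁻¹ ∈ Subgroup.zpowers (a * e) ⊔ D.E :=
      Subgroup.mul_mem _ (Subgroup.mem_sup_left (Subgroup.mem_zpowers _))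
        (Subgroup.mem_sup_right (Subgroup.inv_mem _ he))
    rwa [mul_inv_cancel_right] at h5

end KData
end

end Cfsg.Agent.Lib.Helper22.Miller
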