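import Mathlib
import Cfsg.Agent.Lib.Helper22.Miller2
import Cfsg.Agent.Lib.Helper22.Miller3
set_option autoImplicit false
namespace Cfsg.Agent.Lib.Helper22.Miller

variable {G : Type*} [Group G]

/-- Hypotheses on a normal elementary abelian subgroup `E` of order `p ^ 2` of a `p`-subgroup `P`. -/
structure EData (p : ℕ) (P E : Subgroup G) : Prop where
  hP : IsPGroup p P
  hEP : E ≤ P
  hPE : P ≤ Subgroup.normalizer (E : Set G)
  hEc : ∀ a ∈ E, ∀ b ∈ E, a * b = b * a
  hEp : ∀ e ∈ E, e ^ p = 1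
  hEcard : Nat.card E = p ^ 2

theorem EData.not_le_zpowers {p : ℕ} [hp : Fact p.Prime] {P E : Subgroup G} (hE : EData p P E)
    (x : G) : ¬ E ≤ Subgroup.zpowers x := by
  intro hle
  have : Finite E := Nat.finite_of_card_ne_zero (by rw [hE.hEcard]; exact pow_ne_zero _ hp.out.ne_zero)
  have hcyc : IsCyclic E := by
    have h1 : IsCyclic (E.subgroupOf (Subgroup.zpowers x)) := inferInstance
    exact isCyclic_of_surjective (Subgroup.subgroupOfEquivOfLe hle)
      (Subgroup.subgroupOfEquivOfLe hle).surjective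
  obtain ⟨g, hg⟩ := hcyc.exists_generator
  have h2 : orderOf g = Nat.card E := orderOf_eq_card_of_forall_mem_zpowers hg
  have h3 : g ^ p = 1 := by
    apply Subtype.ext
    rw [Subgroup.coe_pow]
    exact hE.hEp _ g.2
  have h4 := orderOf_dvd_of_pow_eq_one h3
  rw [h2, hE.hEcard] at h4
  have h5 := Nat.le_of_dvd hp.out.pos h4
  have h6 : p < p ^ 2 := by
    have := hp.out.one_lt
    nlinarith
  omega

/-- The data for the key computation attached to `x₀ ∈ P` of order `p ^ s` whose cyclic subgroup is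
normalized by `E`. -/
noncomputable def mkKData {p s : ℕ} [hp : Fact p.Prime] (hp2 : p ≠ 2) (hs : 2 ≤ s) {P E : Subgroup G}
    (hE : EData p P E) (x₀ : G) (hx₀P : x₀ ∈ P) (hx₀ : orderOf x₀ = p ^ s)
    (hx₀E : E ≤ Subgroup.normalizer (Subgroup.zpowers x₀ : Set G)) :
    KData p s ↥(Subgroup.zpowers x₀ ⊔ E) where
  C := (Subgroup.zpowers x₀).subgroupOf _
  E := E.subgroupOf _
  c := ⟨x₀, Subgroup.mem_sup_left (Subgroup.mem_zpowers x₀)⟩
  hp2 := hp2
  hs := hs
  hCn := (Subgroup.normal_subgroupOf_iff_le_normalizer le_sup_left).mpr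
    (sup_le Subgroup.le_normalizer hx₀E)
  hEn := (Subgroup.normal_subgroupOf_iff_le_normalizer le_sup_right).mpr
    ((sup_le ((Subgroup.zpowers_le).mpr hx₀P) hE.hEP).trans hE.hPE)
  hsup := by rw [← Subgroup.subgroupOf_sup le_sup_left le_sup_right, Subgroup.subgroupOf_self]
  hc := by rw [Subgroup.orderOf_mk, hx₀]
  hC := by
    ext y
    rw [Subgroup.mem_subgroupOf, Subgroup.mem_zpowers_iff, Subgroup.mem_zpowers_iff]
    constructor
    · rintro ⟨i, hi⟩
      exact ⟨i, Subtype.ext (by rw [Subgroup.coe_zpow]; exact hi)⟩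
    · rintro ⟨i, hi⟩
      refine ⟨i, ?_⟩
      rw [← hi, Subgroup.coe_zpow]
  hEc := by
    intro a ha b hb
    apply Subtype.ext
    rw [Subgroup.coe_mul, Subgroup.coe_mul]
    exact hE.hEc _ (Subgroup.mem_subgroupOf.mp ha) _ (Subgroup.mem_subgroupOf.mp hb)
  hEp := by
    intro e he
    apply Subtype.ext
    rw [Subgroup.coe_pow]
    exact hE.hEp _ (Subgroup.mem_subgroupOf.mp he)
  hEC := by
    intro hle
    apply hE.not_le_zpowers x₀
    intro e he
    have h1 : (⟨e, Subgroup.mem_sup_right he⟩ : ↥(Subgroup.zpowers x₀ ⊔ E)) ∈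
        E.subgroupOf (Subgroup.zpowers x₀ ⊔ E) := Subgroup.mem_subgroupOf.mpr he
    exact Subgroup.mem_subgroupOf.mp (hle h1)

theorem zpowers_sup_eq_of_subgroupOf {K E : Subgroup G} (hEK : E ≤ K) (y : K)
    (h : Subgroup.zpowers y ⊔ E.subgroupOf K = ⊤) : Subgroup.zpowers (y : G) ⊔ E = K := by
  have h1 := congrArg (Subgroup.map K.subtype) h
  rw [Subgroup.map_sup, MonoidHom.map_zpowers, Subgroup.subgroupOf_map_subtype,
    inf_of_le_left hEK, ← MonoidHom.range_eq_map, Subgroup.range_subtype] at h1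
  exact h1

theorem coe_mem_zpowers {K : Subgroup G} {a y : K} (h : a ∈ Subgroup.zpowers y) :
    (a : G) ∈ Subgroup.zpowers (y : G) := by
  obtain ⟨i, rfl⟩ := Subgroup.mem_zpowers_iff.mp h
  rw [Subgroup.coe_zpow]
  exact Subgroup.zpow_mem _ (Subgroup.mem_zpowers _) _

theorem mem_normalizer_zpowers_of_conj_mem [Finite G] (e y : G)
    (h : e * y * e⁻¹ ∈ Subgroup.zpowers y) : e ∈ Subgroup.normalizer (Subgroup.zpowers y : Set G) := by
  rw [← conjSub_eq_self_iff, conjSub_zpowers]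
  apply Subgroup.eq_of_le_of_card_ge
  · rw [Subgroup.zpowers_le]; exact h
  · rw [Nat.card_zpowers, Nat.card_zpowers, orderOf_conj_eq]

theorem pow_dvd_card_fiber [Finite G] {p s : ℕ} [hp : Fact p.Prime] (hp2 : p ≠ 2) (hs : 2 ≤ s)
    {P E : Subgroup G} (hE : EData p P E) (x₀ : G) (hx₀P : x₀ ∈ P) (hx₀ : orderOf x₀ = p ^ s)
    (hx₀E : E ≤ Subgroup.normalizer (Subgroup.zpowers x₀ : Set G)) :
    p ^ s ∣ Nat.card {x : G // (x ∈ P ∧ orderOf x = p ^ s ∧
      E ≤ Subgroup.normalizer (Subgroup.zpowers x : Set G)) ∧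
        Subgroup.zpowers x ⊔ E = Subgroup.zpowers x₀ ⊔ E} := by
  set D := mkKData hp2 hs hE x₀ hx₀P hx₀ hx₀E with hD
  have hHP : Subgroup.zpowers x₀ ⊔ E ≤ P := sup_le ((Subgroup.zpowers_le).mpr hx₀P) hE.hEP
  have hR : IsPGroup p ↥(Subgroup.zpowers x₀ ⊔ E) := hE.hP.to_le hHP
  have key := D.pow_dvd_card_ne hR
  have e : {x : G // (x ∈ P ∧ orderOf x = p ^ s ∧
      E ≤ Subgroup.normalizer (Subgroup.zpowers x : Set G)) ∧
        Subgroup.zpowers x ⊔ E = Subgroup.zpowers x₀ ⊔ E} ≃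
      {y : ↥(Subgroup.zpowers x₀ ⊔ E) // y ^ (p ^ (s - 1)) ≠ 1} :=
    { toFun := fun x => ⟨⟨x.1, by
          have h1 : x.1 ∈ Subgroup.zpowers x.1 ⊔ E :=
            Subgroup.mem_sup_left (Subgroup.mem_zpowers x.1)
          rw [x.2.2] at h1
          exact h1⟩, by
        intro h
        have h1 : (x.1 : G) ^ (p ^ (s - 1)) = 1 := by
          have := congrArg Subtype.val h
          rwa [Subgroup.coe_pow] at this
        have h2 := orderOf_dvd_of_pow_eq_one h1
        rw [x.2.1.2.1] at h2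
        have h3 := Nat.le_of_dvd (pow_pos hp.out.pos _) h2
        have h4 : p ^ (s - 1) < p ^ s := Nat.pow_lt_pow_right hp.out.one_lt (by omega)
        omega⟩
      invFun := fun y => ⟨(y.1 : G), ⟨hHP y.1.2, by
            rw [Subgroup.orderOf_coe]; exact D.orderOf_eq_of_ne y.2, by
            intro e he
            apply mem_normalizer_zpowers_of_conj_mem
            have h1 := D.conj_mem_zpowers y.2 ⟨e, Subgroup.mem_sup_right he⟩
            exact coe_mem_zpowers h1⟩,
          zpowers_sup_eq_of_subgroupOf le_sup_right y.1 (D.zpowers_sup_eq_top y.2)⟩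
      left_inv := fun x => rfl
      right_inv := fun y => rfl }
  rw [Nat.card_congr e]
  exact key

theorem pow_dvd_card_T [Finite G] {p s : ℕ} [hp : Fact p.Prime] (hp2 : p ≠ 2) (hs : 2 ≤ s)
    {P E : Subgroup G} (hE : EData p P E) :
    p ^ s ∣ Nat.card {x : G // x ∈ P ∧ orderOf x = p ^ s ∧
      E ≤ Subgroup.normalizer (Subgroup.zpowers x : Set G)} := by
  classical
  have : Fintype (Subgroup G) := Fintype.ofFinite _
  let F : {x : G // x ∈ P ∧ orderOf x = p ^ s ∧
      E ≤ Subgroup.normalizer (Subgroup.zpowers x : Set G)} → Subgroup G :=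
    fun x => Subgroup.zpowers x.1 ⊔ E
  rw [Nat.card_congr (Equiv.sigmaFiberEquiv F).symm, Nat.card_sigma]
  apply Finset.dvd_sum
  intro H _
  by_cases hne : Nonempty {x : {x : G // x ∈ P ∧ orderOf x = p ^ s ∧
      E ≤ Subgroup.normalizer (Subgroup.zpowers x : Set G)} // F x = H}
  · obtain ⟨⟨x₀, rfl⟩⟩ := hne
    have key := pow_dvd_card_fiber hp2 hs hE x₀.1 x₀.2.1 x₀.2.2.1 x₀.2.2.2
    rw [← Nat.card_congr (Equiv.subtypeSubtypeEquivSubtypeInter
      (fun x : G => x ∈ P ∧ orderOf x = p ^ s ∧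
        E ≤ Subgroup.normalizer (Subgroup.zpowers x : Set G))
      (fun x : G => Subgroup.zpowers x ⊔ E = Subgroup.zpowers x₀.1 ⊔ E))] at key
    exact key
  · rw [not_nonempty_iff] at hne
    rw [Nat.card_of_isEmpty]
    exact dvd_zero _

end Cfsg.Agent.Lib.Helper22.Miller
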