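import Mathlib
import Cfsg.Agent.Lib.Helper22.Miller4
import Cfsg.Agent.Lib.Helper20.NormalRankTwoB

/-!
Miller's theorem (helper22): in a non-cyclic `p`-group, `p` odd, the number of cyclic subgroups of order
`p ^ s`, `s ≥ 2`, is divisible by `p`.
-/
set_option autoImplicit false
namespace Cfsg.Agent.Lib.Helper22.Miller

variable {G : Type*} [Group G]

theorem card_eq_totient_mul_card_image' [Finite G] (k : ℕ) (S : Set G)
    (hord : ∀ x ∈ S, orderOf x = k)
    (hcl : ∀ x ∈ S, ∀ y : G, Subgroup.zpowers y = Subgroup.zpowers x → y ∈ S) :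
    Nat.card S = k.totient * Nat.card (Subgroup.zpowers '' S) := by
  have key := card_eq_totient_mul_card_image (α := Unit) k {q : G × Unit | q.1 ∈ S}
    (fun q hq => hord q.1 hq) (fun q hq y hy => hcl q.1 hq y hy)
  have e1 : {q : G × Unit | q.1 ∈ S} ≃ S :=
    { toFun := fun q => ⟨q.1.1, q.2⟩
      invFun := fun x => ⟨(x.1, ()), x.2⟩
      left_inv := fun q => rfl
      right_inv := fun x => rfl }
  have e2 : ((fun q : G × Unit => (Subgroup.zpowers q.1, q.2)) '' {q : G × Unit | q.1 ∈ S}) ≃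
      (Subgroup.zpowers '' S) :=
    { toFun := fun t => ⟨t.1.1, by
        obtain ⟨q, hq, hq'⟩ := t.2
        exact ⟨q.1, hq, by rw [← hq']⟩⟩
      invFun := fun U => ⟨(U.1, ()), by
        obtain ⟨x, hx, hx'⟩ := U.2
        exact ⟨(x, ()), hx, by rw [← hx']⟩⟩
      left_inv := fun t => rfl
      right_inv := fun U => rfl }
  rw [← Nat.card_congr e1, ← Nat.card_congr e2]
  exact key

theorem exists_EData [Finite G] {p : ℕ} [hp : Fact p.Prime] (hp2 : p ≠ 2) (P : Subgroup G)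
    (hP : IsPGroup p P) (hnc : ¬ IsCyclic P) : ∃ E : Subgroup G, EData p P E := by
  obtain ⟨M, hMn, hMc, hMp, hMcard⟩ :=
    Cfsg.Agent.Lib.Helper20.exists_normal_elemAb_of_not_isCyclic hp2 hP hnc
  refine ⟨M.map P.subtype, hP, Subgroup.map_subtype_le M, ?_, ?_, ?_, ?_⟩
  · have h1 := Subgroup.le_normalizer_map (H := M) P.subtype
    have h2 : Subgroup.normalizer (M : Set P) = ⊤ := Subgroup.normalizer_eq_top M
    rw [h2, ← MonoidHom.range_eq_map, Subgroup.range_subtype] at h1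
    exact h1
  · rintro _ ⟨a, ha, rfl⟩ _ ⟨b, hb, rfl⟩
    have h1 : (⟨a, ha⟩ : M) * ⟨b, hb⟩ = ⟨b, hb⟩ * ⟨a, ha⟩ := mul_comm' _ _
    have h2 : a * b = b * a := congrArg Subtype.val h1
    rw [← map_mul, ← map_mul, h2]
  · rintro _ ⟨a, ha, rfl⟩
    rw [← map_pow, hMp a ha, map_one]
  · rw [Subgroup.card_map_of_injective P.subtype_injective]; exact hMcard

/-- **Miller's theorem**: in a non-cyclic `p`-subgroup `P` (`p` odd) the number of cyclic subgroups of
order `p ^ s`, `s ≥ 2`, is divisible by `p`. -/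
theorem miller_cyclic_count [Finite G] {p s : ℕ} [hp : Fact p.Prime] (hp2 : p ≠ 2) (hs : 2 ≤ s)
    (P : Subgroup G) (hP : IsPGroup p P) (hnc : ¬ IsCyclic P) :
    p ∣ Nat.card (cycSet (p ^ s) P) := by
  obtain ⟨E, hE⟩ := exists_EData hp2 P hP hnc
  have h1 := card_cycSet_modEq p (p ^ s) E P (hP.to_le hE.hEP)
    (hE.hEP.trans Subgroup.le_normalizer)
  rw [h1.dvd_iff (dvd_refl p)]
  have h2 := pow_dvd_card_T hp2 hs hE
  have h3 := card_eq_totient_mul_card_image' (p ^ s)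
    {x : G | x ∈ P ∧ orderOf x = p ^ s ∧ E ≤ Subgroup.normalizer (Subgroup.zpowers x : Set G)}
    (fun x hx => hx.2.1)
    (fun x hx y hy => by
      refine ⟨?_, ?_, ?_⟩
      · have : y ∈ Subgroup.zpowers x := hy ▸ Subgroup.mem_zpowers y
        exact (Subgroup.zpowers_le.mpr hx.1) this
      · rw [← Nat.card_zpowers, hy, Nat.card_zpowers]; exact hx.2.1
      · rw [hy]; exact hx.2.2)
  have h4 : (Subgroup.zpowers '' {x : G | x ∈ P ∧ orderOf x = p ^ s ∧
      E ≤ Subgroup.normalizer (Subgroup.zpowers x : Set G)}) =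
      {U : Subgroup G | U ∈ cycSet (p ^ s) P ∧ E ≤ Subgroup.normalizer (U : Set G)} := by
    ext U
    constructor
    · rintro ⟨x, ⟨hxP, hx, hxE⟩, rfl⟩
      exact ⟨⟨Subgroup.zpowers_le.mpr hxP, x, hx, rfl⟩, hxE⟩
    · rintro ⟨⟨hUP, u, hu, rfl⟩, hUE⟩
      exact ⟨u, ⟨hUP (Subgroup.mem_zpowers u), hu, hUE⟩, rfl⟩
  rw [h4] at h3
  change p ^ s ∣ Nat.card {x : G | x ∈ P ∧ orderOf x = p ^ s ∧
      E ≤ Subgroup.normalizer (Subgroup.zpowers x : Set G)} at h2
  rw [h3, Nat.totient_prime_pow hp.out (by omega : 0 < s)] at h2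
  have h5 : p ^ s = p ^ (s - 1) * p := by rw [← pow_succ]; congr 1; omega
  have h2' : p ^ (s - 1) * p ∣ p ^ (s - 1) * ((p - 1) * Nat.card
      {U : Subgroup G | U ∈ cycSet (p ^ s) P ∧ E ≤ Subgroup.normalizer (U : Set G)}) := by
    rw [← h5, ← mul_assoc]; exact h2
  have h6 := Nat.dvd_of_mul_dvd_mul_left (pow_pos hp.out.pos _) h2'
  have h7 : Nat.Coprime p (p - 1) := by
    rw [Nat.Prime.coprime_iff_not_dvd hp.out]
    have := hp.out.two_le
    exact Nat.not_dvd_of_pos_of_lt (by omega) (by omega)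
  exact h7.dvd_of_dvd_mul_left h6

end Cfsg.Agent.Lib.Helper22.Miller
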