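import Mathlib
import Cfsg.Agent.Lib.Helper22.Miller5

/-!
Miller's theorem on the number of elements of order `p ^ s * m` (helper22): fixed points of a Sylow
subgroup on pairs, and the final count.
-/
set_option autoImplicit false
namespace Cfsg.Agent.Lib.Helper22.Miller

variable {G : Type*} [Group G]

/-- The fixed points of a Sylow `p`-subgroup `P` on `pairSet (p ^ s) m`. -/
theorem card_fixed_pairSet [Finite G] {p : ℕ} [Fact p.Prime] (s m : ℕ) (P : Sylow p G) :
    Nat.card {q : Subgroup G × G // q ∈ pairSet (p ^ s) m ∧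
        (P : Subgroup G) ≤ Subgroup.normalizer (q.1 : Set G) ∧ ∀ a ∈ (P : Subgroup G), a * q.2 * a⁻¹ = q.2} =
      Nat.card {U : Subgroup G // U ∈ cycSet (p ^ s) (P : Subgroup G) ∧
        (P : Subgroup G) ≤ Subgroup.normalizer (U : Set G)} *
      Nat.card {v : G // orderOf v = m ∧ ∀ a ∈ (P : Subgroup G), a * v * a⁻¹ = v} := by
  rw [← Nat.card_prod]
  apply Nat.card_congr
  refine
    { toFun := fun q => (⟨q.1.1, ?_⟩, ⟨q.1.2, ?_⟩)
      invFun := fun t => ⟨(t.1.1, t.2.1), ?_⟩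
      left_inv := fun q => rfl
      right_inv := fun t => rfl }
  · obtain ⟨⟨U, v⟩, ⟨u, hu, hz, hv, hc⟩, hn, hfix⟩ := q
    simp only at hz hv hc hn hfix ⊢
    refine ⟨⟨?_, u, hu, hz⟩, hn⟩
    have hU : IsPGroup p U := by
      apply IsPGroup.of_card (n := s)
      rw [← hz, Nat.card_zpowers, hu]
    have h1 := P.isPGroup'.to_sup_of_normal_right' hU hn
    have h2 := P.is_maximal' h1 le_sup_left
    rw [← h2]
    exact le_sup_right
  · exact ⟨q.2.1.choose_spec.2.2.1, q.2.2.2⟩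
  · obtain ⟨⟨U, ⟨hUP, u, hu, hz⟩, hn⟩, ⟨v, hv, hfix⟩⟩ := t
    simp only
    refine ⟨⟨u, hu, hz, hv, ?_⟩, hn, hfix⟩
    have h1 : u ∈ (P : Subgroup G) := hUP (hz ▸ Subgroup.mem_zpowers u)
    have h2 := hfix u h1
    show u * v = v * u
    calc u * v = (u * v * u⁻¹) * u := by group
      _ = v * u := by rw [h2]

/-- **Miller**: if the Sylow `p`-subgroups of `G` are non-cyclic, `p` odd, `s ≥ 2`, `p ∤ m`, then the
number of elements of order `p ^ s * m` is divisible by `p ^ s`. -/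
theorem pow_dvd_card_orderOf_eq [Finite G] {p : ℕ} [hp : Fact p.Prime] (hp2 : p ≠ 2)
    (P : Sylow p G) (hP : ¬ IsCyclic (P : Subgroup G)) (s m : ℕ) (hs : 2 ≤ s)
    (hm : Nat.Coprime p m) :
    p ^ s ∣ Nat.card {g : G // orderOf g = p ^ s * m} := by
  have hm0 : 0 < m := by
    rcases Nat.eq_zero_or_pos m with h | h
    · rw [h, Nat.coprime_zero_right] at hm
      exact absurd hm hp.out.one_lt.ne'
    · exact h
  rw [card_orderOf_mul_eq (p ^ s) m (pow_pos hp.out.pos _) hm0 (Nat.Coprime.pow_left s hm)]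
  have h3 := card_eq_totient_mul_card_image (α := G) (p ^ s)
    {q : G × G | orderOf q.1 = p ^ s ∧ orderOf q.2 = m ∧ Commute q.1 q.2}
    (fun q hq => hq.1)
    (fun q hq y hy => by
      refine ⟨?_, hq.2.1, ?_⟩
      · show orderOf y = p ^ s
        rw [← Nat.card_zpowers, hy, Nat.card_zpowers]; exact hq.1
      · have : y ∈ Subgroup.zpowers q.1 := hy ▸ Subgroup.mem_zpowers y
        obtain ⟨i, rfl⟩ := Subgroup.mem_zpowers_iff.mp this
        exact hq.2.2.zpow_left i)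
  have h4 : ((fun q : G × G => (Subgroup.zpowers q.1, q.2)) ''
      {q : G × G | orderOf q.1 = p ^ s ∧ orderOf q.2 = m ∧ Commute q.1 q.2}) =
      pairSet (p ^ s) m := by
    ext ⟨U, v⟩
    constructor
    · rintro ⟨⟨u, v'⟩, ⟨hu, hv, hc⟩, hq⟩
      obtain ⟨rfl, rfl⟩ := Prod.mk.inj hq
      exact ⟨u, hu, rfl, hv, hc⟩
    · rintro ⟨u, hu, hz, hv, hc⟩
      exact ⟨(u, v), ⟨hu, hv, hc⟩, by simp only [hz]⟩
  rw [h4] at h3
  change p ^ s ∣ Nat.card {q : G × G | orderOf q.1 = p ^ s ∧ orderOf q.2 = m ∧ Commute q.1 q.2}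
  rw [h3, Nat.totient_prime_pow hp.out (by omega : 0 < s)]
  -- now show `p ∣ Nat.card (pairSet (p ^ s) m)`
  have h5 : p ∣ Nat.card (pairSet (G := G) (p ^ s) m) := by
    rw [(card_pairSet_modEq p (p ^ s) m (P : Subgroup G) P.isPGroup').dvd_iff (dvd_refl p),
      card_fixed_pairSet]
    apply Dvd.dvd.mul_right
    rw [← (card_cycSet_modEq p (p ^ s) (P : Subgroup G) (P : Subgroup G) P.isPGroup'
      Subgroup.le_normalizer).dvd_iff (dvd_refl p)]
    exact miller_cyclic_count hp2 hs (P : Subgroup G) P.isPGroup' hP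
  obtain ⟨w, hw⟩ := h5
  rw [hw]
  have h6 : p ^ s = p ^ (s - 1) * p := by rw [← pow_succ]; congr 1; omega
  rw [h6]
  exact ⟨(p - 1) * w, by ring⟩

end Cfsg.Agent.Lib.Helper22.Miller
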