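import Mathlib
import Cfsg.Agent.Lib.Helper14.SympCount
import Cfsg.Agent.Lib.Helper15.SymIso
import Cfsg.Agent.S2166

set_option autoImplicit false

/-!
# The number of nondegenerate `2k`-subspaces of the standard symplectic space divides the number of
hyperbolic systems of `k` pairs
-/

namespace Cfsg.Agent.Lib.Helper22.NdCount

open Module Matrix Cfsg.Agent.Lib.Helper14 Cfsg.Agent.Lib.Helper5 Cfsg.Agent.Lib.Helper15

section general

variable {F : Type*} [Field F] {d k : ℕ}

/-- the span of a system -/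
def hspan (e f : Fin k → (Fin d ⊕ Fin d → F)) : Submodule F (Fin d ⊕ Fin d → F) :=
  Submodule.span F (Set.range (Sum.elim e f))

theorem e_mem_hspan (e f : Fin k → (Fin d ⊕ Fin d → F)) (i : Fin k) : e i ∈ hspan e f :=
  Submodule.subset_span ⟨Sum.inl i, rfl⟩

theorem f_mem_hspan (e f : Fin k → (Fin d ⊕ Fin d → F)) (i : Fin k) : f i ∈ hspan e f :=
  Submodule.subset_span ⟨Sum.inr i, rfl⟩

theorem sum_elim_eq_hcomb (e f : Fin k → (Fin d ⊕ Fin d → F)) (c : Fin k ⊕ Fin k → F) :
    ∑ x, c x • Sum.elim e f x = hcomb e f (fun i => c (Sum.inl i)) (fun i => c (Sum.inr i)) := by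
  rw [Fintype.sum_sum_type]
  rfl

theorem mem_hspan_iff (e f : Fin k → (Fin d ⊕ Fin d → F)) (w : Fin d ⊕ Fin d → F) :
    w ∈ hspan e f ↔ ∃ a b : Fin k → F, w = hcomb e f a b := by
  unfold hspan
  rw [Submodule.mem_span_range_iff_exists_fun]
  constructor
  · rintro ⟨c, rfl⟩
    exact ⟨_, _, sum_elim_eq_hcomb e f c⟩
  · rintro ⟨a, b, rfl⟩
    refine ⟨Sum.elim a b, ?_⟩
    rw [sum_elim_eq_hcomb]
    rfl

theorem hyp_li {e f : Fin k → (Fin d ⊕ Fin d → F)} (h : HypSys F d k e f) :
    LinearIndependent F (Sum.elim e f) := by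
  classical
  rw [Fintype.linearIndependent_iff]
  intro c hc
  rw [sum_elim_eq_hcomb] at hc
  intro x
  rcases x with i | i
  · have := sympForm_hcomb_f h (fun i => c (Sum.inl i)) (fun i => c (Sum.inr i)) i
    rw [hc, sympForm_zero_left] at this
    exact neg_eq_zero.1 this.symm
  · have := sympForm_hcomb_e h (fun i => c (Sum.inl i)) (fun i => c (Sum.inr i)) i
    rw [hc, sympForm_zero_left] at this
    exact this.symm

theorem finrank_hspan {e f : Fin k → (Fin d ⊕ Fin d → F)} (h : HypSys F d k e f) :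
    finrank F (hspan e f) = 2 * k := by
  unfold hspan
  rw [finrank_span_eq_card (hyp_li h), Fintype.card_sum, Fintype.card_fin]
  ring

theorem nd_hspan {e f : Fin k → (Fin d ⊕ Fin d → F)} (h : HypSys F d k e f) :
    ∀ u ∈ hspan e f, u ≠ 0 → ∃ v ∈ hspan e f, Cfsg.sympForm d F u v ≠ 0 := by
  intro u hu hu0
  obtain ⟨a, b, rfl⟩ := (mem_hspan_iff e f u).1 hu
  by_cases ha : a = 0
  · have hb : b ≠ 0 := by
      intro hb
      apply hu0
      rw [ha, hb]
      unfold hcomb
      simp
    obtain ⟨j, hj⟩ : ∃ j, b j ≠ 0 := by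
      by_contra hcon
      push Not at hcon
      exact hb (funext hcon)
    refine ⟨e j, e_mem_hspan e f j, ?_⟩
    rw [sympForm_hcomb_e h]
    exact hj
  · obtain ⟨j, hj⟩ : ∃ j, a j ≠ 0 := by
      by_contra hcon
      push Not at hcon
      exact ha (funext hcon)
    refine ⟨f j, f_mem_hspan e f j, ?_⟩
    rw [sympForm_hcomb_f h]
    exact neg_ne_zero.2 hj

/-- every nondegenerate subspace of dimension `2k` is spanned by a hyperbolic system -/
theorem exists_hypSys_of_nd (W : Submodule F (Fin d ⊕ Fin d → F)) (hdim : finrank F W = 2 * k)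
    (hnd : ∀ u ∈ W, u ≠ 0 → ∃ v ∈ W, Cfsg.sympForm d F u v ≠ 0) :
    ∃ e f : Fin k → (Fin d ⊕ Fin d → F), HypSys F d k e f ∧ hspan e f = W := by
  obtain ⟨k', e', f', hk', hyp⟩ := SymIso.exists_hyp (F := F) (finrank F W) W
    ((sympBilin d (F := F)).restrict W)
    (fun x => by
      show sympBilin d (x : Fin d ⊕ Fin d → F) x = 0
      rw [sympBilin_apply, sympForm_self])
    (by
      intro x hx
      by_contra hx0
      obtain ⟨v, hv, hne⟩ := hnd x x.2 (fun h => hx0 (Subtype.ext h))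
      apply hne
      have := hx ⟨v, hv⟩
      rw [← sympBilin_apply]
      exact this) rfl
  have hkk : k' = k := by omega
  subst hkk
  have hH : HypSys F d k' (fun i => (f' i : Fin d ⊕ Fin d → F))
      (fun i => (e' i : Fin d ⊕ Fin d → F)) := by
    refine ⟨fun i j => ?_, fun i j => ?_, fun i j => ?_⟩
    · have := hyp.2.1 i j
      rw [← sympBilin_apply]
      exact this
    · have := hyp.1 i j
      rw [← sympBilin_apply]
      exact this
    · have := hyp.2.2 i j
      rw [← sympBilin_apply]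
      exact this
  refine ⟨_, _, hH, ?_⟩
  apply Submodule.eq_of_le_of_finrank_eq
  · unfold hspan
    rw [Submodule.span_le]
    rintro _ ⟨x, rfl⟩
    rcases x with i | i
    · exact (f' i).2
    · exact (e' i).2
  · rw [finrank_hspan hH, hdim]

/-- Witt: the symplectic group is transitive on hyperbolic systems -/
theorem exists_sp_of_hypSys {e f e' f' : Fin k → (Fin d ⊕ Fin d → F)}
    (h : HypSys F d k e f) (h' : HypSys F d k e' f') :
    ∃ A : Matrix.symplecticGroup (Fin d) F,
      (∀ i, (A : Matrix (Fin d ⊕ Fin d) (Fin d ⊕ Fin d) F) *ᵥ e i = e' i) ∧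
      (∀ i, (A : Matrix (Fin d ⊕ Fin d) (Fin d ⊕ Fin d) F) *ᵥ f i = f' i) := by
  have hgram : ∀ {e f : Fin k → (Fin d ⊕ Fin d → F)} (_ : HypSys F d k e f)
      (x y : Fin k ⊕ Fin k), Cfsg.sympForm d F (Sum.elim e f x) (Sum.elim e f y) =
        Sum.elim (fun i => Sum.elim (fun _ => (0 : F)) (fun j => if i = j then -1 else 0) y)
          (fun i => Sum.elim (fun j => if i = j then (1 : F) else 0) (fun _ => 0) y) x := by
    intro e f h x y
    rcases x with i | i <;> rcases y with j | j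
    · exact h.ee i j
    · exact h.ef i j
    · exact h.fe i j
    · exact h.ff i j
  obtain ⟨A, hA⟩ := Cfsg.Agent.S2166.S2166aux.sp_witt_tuple (F := F) (m := d) (k + k)
    (Sum.elim e f ∘ finSumFinEquiv.symm) (Sum.elim e' f' ∘ finSumFinEquiv.symm)
    ((hyp_li h).comp _ finSumFinEquiv.symm.injective)
    ((hyp_li h').comp _ finSumFinEquiv.symm.injective)
    (fun i j => by
      show Cfsg.sympForm d F (Sum.elim e f _) (Sum.elim e f _) =
        Cfsg.sympForm d F (Sum.elim e' f' _) (Sum.elim e' f' _)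
      rw [hgram h, hgram h'])
  refine ⟨A, fun i => ?_, fun i => ?_⟩
  · have := hA (finSumFinEquiv (Sum.inl i))
    rw [Function.comp_apply, Function.comp_apply, Equiv.symm_apply_apply] at this
    exact this
  · have := hA (finSumFinEquiv (Sum.inr i))
    rw [Function.comp_apply, Function.comp_apply, Equiv.symm_apply_apply] at this
    exact this

theorem hspan_mulVec (A : Matrix (Fin d ⊕ Fin d) (Fin d ⊕ Fin d) F)
    (e f : Fin k → (Fin d ⊕ Fin d → F)) :
    hspan (fun i => A *ᵥ e i) (fun i => A *ᵥ f i) = (hspan e f).map (Matrix.toLin' A) := by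
  unfold hspan
  rw [Submodule.map_span]
  congr 1
  ext w
  constructor
  · rintro ⟨x, rfl⟩
    refine ⟨Sum.elim e f x, ⟨x, rfl⟩, ?_⟩
    rcases x with i | i
    · exact Matrix.toLin'_apply A (e i)
    · exact Matrix.toLin'_apply A (f i)
  · rintro ⟨_, ⟨x, rfl⟩, rfl⟩
    refine ⟨x, ?_⟩
    rcases x with i | i
    · exact (Matrix.toLin'_apply A (e i)).symm
    · exact (Matrix.toLin'_apply A (f i)).symm

theorem hypSys_mulVec (A : Matrix.symplecticGroup (Fin d) F)
    {e f : Fin k → (Fin d ⊕ Fin d → F)} (h : HypSys F d k e f) :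
    HypSys F d k (fun i => (A : Matrix (Fin d ⊕ Fin d) (Fin d ⊕ Fin d) F) *ᵥ e i)
      (fun i => (A : Matrix (Fin d ⊕ Fin d) (Fin d ⊕ Fin d) F) *ᵥ f i) :=
  ⟨fun i j => by rw [sympForm_mulVec_of_mem A.2]; exact h.ee i j,
   fun i j => by rw [sympForm_mulVec_of_mem A.2]; exact h.ff i j,
   fun i j => by rw [sympForm_mulVec_of_mem A.2]; exact h.fe i j⟩

end general

section count

variable {F : Type*} [Field F] [Fintype F] (d k : ℕ)

/-- hyperbolic systems -/
abbrev HX : Type _ :=
  {p : (Fin k → (Fin d ⊕ Fin d → F)) × (Fin k → (Fin d ⊕ Fin d → F)) // HypSys F d k p.1 p.2}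

/-- nondegenerate subspaces of dimension `2k` -/
abbrev NY : Type _ :=
  {W : Submodule F (Fin d ⊕ Fin d → F) // finrank F W = 2 * k ∧
    ∀ u ∈ W, u ≠ 0 → ∃ v ∈ W, Cfsg.sympForm d F u v ≠ 0}

/-- the span map -/
def spanMap (x : HX (F := F) d k) : NY (F := F) d k :=
  ⟨hspan x.1.1 x.1.2, finrank_hspan x.2, nd_hspan x.2⟩

instance : Finite (NY (F := F) d k) := by
  have : Finite (Submodule F (Fin d ⊕ Fin d → F)) :=
    Finite.of_injective (fun W : Submodule F (Fin d ⊕ Fin d → F) => (W : Set (Fin d ⊕ Fin d → F)))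
      SetLike.coe_injective
  exact Subtype.finite

theorem card_fiber_le (W W' : NY (F := F) d k) :
    Nat.card {x : HX (F := F) d k // spanMap d k x = W} ≤
      Nat.card {x : HX (F := F) d k // spanMap d k x = W'} := by
  classical
  obtain ⟨e, f, h, hs⟩ := exists_hypSys_of_nd W.1 W.2.1 W.2.2
  obtain ⟨e', f', h', hs'⟩ := exists_hypSys_of_nd W'.1 W'.2.1 W'.2.2
  obtain ⟨A, hAe, hAf⟩ := exists_sp_of_hypSys h h'
  have hWW' : W'.1 = W.1.map (Matrix.toLin' (A : Matrix (Fin d ⊕ Fin d) (Fin d ⊕ Fin d) F)) := by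
    rw [← hs, ← hs', ← hspan_mulVec]
    congr 1
    · funext i; exact (hAe i).symm
    · funext i; exact (hAf i).symm
  let φ : {x : HX (F := F) d k // spanMap d k x = W} → {x : HX (F := F) d k // spanMap d k x = W'} :=
    fun x => ⟨⟨(fun i => (A : Matrix (Fin d ⊕ Fin d) (Fin d ⊕ Fin d) F) *ᵥ x.1.1.1 i,
      fun i => (A : Matrix (Fin d ⊕ Fin d) (Fin d ⊕ Fin d) F) *ᵥ x.1.1.2 i),
      hypSys_mulVec A x.1.2⟩, by
        apply Subtype.ext
        show hspan _ _ = W'.1
        rw [hspan_mulVec, hWW']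
        congr 1
        exact congrArg Subtype.val x.2⟩
  apply Nat.card_le_card_of_injective φ
  intro x y hxy
  have h1 := congrArg (fun z : {x : HX (F := F) d k // spanMap d k x = W'} => z.1.1) hxy
  have hinj : Function.Injective
      (fun v : Fin d ⊕ Fin d → F => (A : Matrix (Fin d ⊕ Fin d) (Fin d ⊕ Fin d) F) *ᵥ v) := by
    intro u v huv
    have h2 := congrArg
      (fun w => ((A⁻¹ : Matrix.symplecticGroup (Fin d) F) :
        Matrix (Fin d ⊕ Fin d) (Fin d ⊕ Fin d) F) *ᵥ w) huv
    simp only [Matrix.mulVec_mulVec, SymIso.sp_val_inv_mul, Matrix.one_mulVec] at h2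
    exact h2
  apply Subtype.ext
  apply Subtype.ext
  apply Prod.ext
  · funext i
    exact hinj (congrFun (congrArg Prod.fst h1) i)
  · funext i
    exact hinj (congrFun (congrArg Prod.snd h1) i)

/-- the number of nondegenerate `2k`-spaces divides the number of hyperbolic systems -/
theorem card_nd_dvd : Nat.card (NY (F := F) d k) ∣ Nat.card (HX (F := F) d k) := by
  classical
  rcases isEmpty_or_nonempty (NY (F := F) d k) with hemp | ⟨⟨W₀⟩⟩
  · have : IsEmpty (HX (F := F) d k) := ⟨fun x => hemp.false (spanMap d k x)⟩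
    rw [Nat.card_of_isEmpty, Nat.card_of_isEmpty]
  · let _ : Fintype (NY (F := F) d k) := Fintype.ofFinite _
    have h1 : Nat.card (HX (F := F) d k) =
        Nat.card (Σ W : NY (F := F) d k, {x : HX (F := F) d k // spanMap d k x = W}) :=
      Nat.card_congr (Equiv.sigmaFiberEquiv (spanMap d k)).symm
    rw [h1, Nat.card_sigma]
    have h2 : ∀ W : NY (F := F) d k, Nat.card {x : HX (F := F) d k // spanMap d k x = W} =
        Nat.card {x : HX (F := F) d k // spanMap d k x = W₀} :=
      fun W => le_antisymm (card_fiber_le d k W W₀) (card_fiber_le d k W₀ W)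
    rw [Finset.sum_congr rfl (fun W _ => h2 W), Finset.sum_const, smul_eq_mul, Finset.card_univ,
      Nat.card_eq_fintype_card]
    exact dvd_mul_right _ _

/-- a prime other than the characteristic dividing the number of nondegenerate `2k`-spaces
divides some `q^(2(d-j)) - 1` with `j < k` -/
theorem exists_dvd_of_dvd_card_nd {p : ℕ} [Fact p.Prime] [CharP F p] (hk : k ≤ d) (r : ℕ)
    (hr : r.Prime) (hrp : r ≠ p) (hdvd : r ∣ Nat.card (NY (F := F) d k)) :
    ∃ j, j < k ∧ r ∣ Fintype.card F ^ (2 * (d - j)) - 1 := by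
  have h1 : r ∣ Nat.card (HX (F := F) d k) := hdvd.trans (card_nd_dvd d k)
  rw [card_hypSys d k hk] at h1
  obtain ⟨j, hj, hjd⟩ := (Prime.dvd_finsetProd_iff hr.prime _).1 h1
  rw [Finset.mem_range] at hj
  refine ⟨j, hj, ?_⟩
  rcases (Nat.Prime.dvd_mul hr).1 hjd with h2 | h2
  · exact h2
  · exfalso
    have h3 : r ∣ Fintype.card F := hr.dvd_of_dvd_pow h2
    obtain ⟨n, hn⟩ := FiniteField.card F p
    rw [hn.2] at h3
    have h4 := hr.dvd_of_dvd_pow h3
    exact hrp ((Nat.prime_dvd_prime_iff_eq hr Fact.out).1 h4)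

end count

end Cfsg.Agent.Lib.Helper22.NdCount
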