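import Mathlib
import Cfsg.Agent.Lib.Helper12.SpA

set_option autoImplicit false

/-!
# Jordan blocks of a unipotent isometry of an alternating space

`B` alternating on `V`, `T` an isometry with inverse `T'`, `N = T - 1`.  For vectors `g k`
killed by `N ^ a` whose "top Gram matrix" `B (g k) (N ^ (a-1) (g l))` is nondegenerate, the vectors
`N ^ i (g k)` (`i < a`) are linearly independent and span a `T`-invariant subspace on which `B` is
nondegenerate.
-/

namespace Cfsg.Agent.Lib.Helper22.UniBlk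

open Module Cfsg.Agent.Lib.Helper12.Sp

section gram

variable {F V : Type*} [Field F] [AddCommGroup V] [Module F V] (B : LinearMap.BilinForm F V)
  (T T' : Module.End F V)

theorem adj_one (hiso : ∀ u v, B (T u) (T v) = B u v) (hTT' : T * T' = 1) (u w : V) :
    B ((T - 1) u) w = B u ((T' - 1) w) := by
  have h1 : B (T u) w = B u (T' w) := by
    have h2 : T (T' w) = w := by
      have := congrArg (fun X : Module.End F V => X w) hTT'
      exact this
    conv_lhs => rw [← h2]
    exact hiso u (T' w)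
  rw [LinearMap.sub_apply, LinearMap.sub_apply, Module.End.one_apply, Module.End.one_apply,
    LinearMap.BilinForm.sub_left, LinearMap.BilinForm.sub_right, h1]

theorem adj_pow (hiso : ∀ u v, B (T u) (T v) = B u v) (hTT' : T * T' = 1) (i : ℕ) (u w : V) :
    B (((T - 1) ^ i) u) w = B u (((T' - 1) ^ i) w) := by
  induction i generalizing u w with
  | zero => simp
  | succ i ih =>
    rw [pow_succ, Module.End.mul_apply, ih, adj_one B T T' hiso hTT', pow_succ',
      Module.End.mul_apply]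

theorem inv_sub_one (hT'T : T' * T = 1) : T' - 1 = -(T' * (T - 1)) := by
  rw [mul_sub, hT'T, mul_one]
  abel

theorem comm_inv (hTT' : T * T' = 1) (hT'T : T' * T = 1) : Commute T' (T - 1) := by
  show T' * (T - 1) = (T - 1) * T'
  rw [mul_sub, sub_mul, hTT', hT'T, mul_one, one_mul]

theorem inv_sub_one_pow (hTT' : T * T' = 1) (hT'T : T' * T = 1) (i : ℕ) :
    (T' - 1) ^ i = (-1) ^ i * (T' ^ i * (T - 1) ^ i) := by
  rw [inv_sub_one T T' hT'T, neg_pow, (comm_inv T T' hTT' hT'T).mul_pow]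

theorem inv_fix (hT'T : T' * T = 1) (w : V) (hw : (T - 1) w = 0) : T' w = w := by
  have h1 : T w = w := by
    rw [LinearMap.sub_apply, Module.End.one_apply, sub_eq_zero] at hw
    exact hw
  have h2 : T' (T w) = w := by
    have := congrArg (fun X : Module.End F V => X w) hT'T
    exact this
  rw [h1] at h2
  exact h2

theorem inv_pow_fix (hT'T : T' * T = 1) (w : V) (hw : (T - 1) w = 0) (i : ℕ) :
    (T' ^ i) w = w := by
  induction i with
  | zero => simp
  | succ i ih => rw [pow_succ, Module.End.mul_apply, inv_fix T T' hT'T w hw, ih]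

theorem pow_apply_eq_zero_of_le (a n : ℕ) (han : a ≤ n) (v : V) (hv : ((T - 1) ^ a) v = 0) :
    ((T - 1) ^ n) v = 0 := by
  obtain ⟨k, rfl⟩ := Nat.exists_eq_add_of_le han
  rw [add_comm, pow_add, Module.End.mul_apply, hv, map_zero]

/-- the Gram matrix of the vectors `N ^ i u`, `N ^ j v` is anti-triangular -/
theorem gram_zero (hiso : ∀ u v, B (T u) (T v) = B u v) (hTT' : T * T' = 1) (hT'T : T' * T = 1)
    (a : ℕ) (u v : V) (hv : ((T - 1) ^ a) v = 0) (i j : ℕ) (hij : a ≤ i + j) :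
    B (((T - 1) ^ i) u) (((T - 1) ^ j) v) = 0 := by
  rw [adj_pow B T T' hiso hTT', inv_sub_one_pow T T' hTT' hT'T]
  have h1 : ((T - 1) ^ i) (((T - 1) ^ j) v) = 0 := by
    rw [← Module.End.mul_apply, ← pow_add]
    exact pow_apply_eq_zero_of_le T a (i + j) hij v hv
  rw [Module.End.mul_apply, Module.End.mul_apply, h1, map_zero, map_zero, map_zero]

theorem gram_top (hiso : ∀ u v, B (T u) (T v) = B u v) (hTT' : T * T' = 1) (hT'T : T' * T = 1)
    (a : ℕ) (u v : V) (hv : ((T - 1) ^ a) v = 0) (i j : ℕ) (hij : i + j + 1 = a) :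
    B (((T - 1) ^ i) u) (((T - 1) ^ j) v) = (-1) ^ i * B u (((T - 1) ^ (a - 1)) v) := by
  rw [adj_pow B T T' hiso hTT', inv_sub_one_pow T T' hTT' hT'T]
  have h1 : ((T - 1) ^ i) (((T - 1) ^ j) v) = ((T - 1) ^ (a - 1)) v := by
    rw [← Module.End.mul_apply, ← pow_add]
    congr 2
    omega
  have h2 : (T - 1) (((T - 1) ^ (a - 1)) v) = 0 := by
    rw [← Module.End.mul_apply, ← pow_succ']
    have : a - 1 + 1 = a := by omega
    rw [this]
    exact hv
  have h3 : ((-1 : Module.End F V) ^ i) = ((-1 : F) ^ i) • (1 : Module.End F V) := by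
    rw [← neg_one_smul F (1 : Module.End F V), smul_pow, one_pow]
  rw [Module.End.mul_apply, Module.End.mul_apply, h1, inv_pow_fix T T' hT'T _ h2, h3,
    LinearMap.smul_apply, Module.End.one_apply, map_smul, smul_eq_mul]

end gram

section block

variable {F V : Type*} [Field F] [AddCommGroup V] [Module F V] (B : LinearMap.BilinForm F V)
  (T T' : Module.End F V)

/-- the family of vectors spanning the block -/
def blkFam {K : Type*} (a : ℕ) (g : K → V) : K × Fin a → V :=
  fun x => ((T - 1) ^ (x.2 : ℕ)) (g x.1)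

/-- the block -/
def blk {K : Type*} (a : ℕ) (g : K → V) : Submodule F V :=
  Submodule.span F (Set.range (blkFam T a g))

theorem blkFam_mem {K : Type*} (a : ℕ) (g : K → V) (x : K × Fin a) :
    blkFam T a g x ∈ blk T a g :=
  Submodule.subset_span ⟨x, rfl⟩

/-- the key pairing computation -/
theorem block_pairing {K : Type*} [Fintype K] (hiso : ∀ u v, B (T u) (T v) = B u v)
    (hTT' : T * T' = 1) (hT'T : T' * T = 1) (a : ℕ) (g : K → V)
    (hg : ∀ k, ((T - 1) ^ a) (g k) = 0)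
    (hG : ∀ c : K → F, c ≠ 0 → ∃ k, ∑ l, c l * B (g k) (((T - 1) ^ (a - 1)) (g l)) ≠ 0)
    (c : K × Fin a → F) (hc : c ≠ 0) :
    ∃ x : K × Fin a, B (blkFam T a g x) (∑ y, c y • blkFam T a g y) ≠ 0 := by
  classical
  -- the smallest level at which `c` is nonzero
  have hex : ∃ i : Fin a, ∃ k, c (k, i) ≠ 0 := by
    by_contra hcon
    push Not at hcon
    apply hc
    funext x
    exact hcon x.2 x.1
  let S : Finset (Fin a) := Finset.univ.filter (fun i => ∃ k, c (k, i) ≠ 0)
  have hS : S.Nonempty := by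
    obtain ⟨i, hi⟩ := hex
    exact ⟨i, Finset.mem_filter.2 ⟨Finset.mem_univ _, hi⟩⟩
  obtain ⟨i₀, hi₀⟩ : ∃ i₀, i₀ = S.min' hS := ⟨_, rfl⟩
  have hi₀S : i₀ ∈ S := by rw [hi₀]; exact Finset.min'_mem S hS
  have hi₀min : ∀ i : Fin a, i < i₀ → ∀ k, c (k, i) = 0 := by
    intro i hi k
    by_contra hne
    have hiS : i ∈ S := Finset.mem_filter.2 ⟨Finset.mem_univ _, ⟨k, hne⟩⟩
    have := Finset.min'_le S i hiS
    rw [← hi₀] at this
    exact absurd hi (not_lt.2 this)
  have hc₀ : (fun l => c (l, i₀)) ≠ 0 := by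
    obtain ⟨k, hk⟩ := (Finset.mem_filter.1 hi₀S).2
    intro h0
    exact hk (congrFun h0 k)
  obtain ⟨k, hk⟩ := hG _ hc₀
  have hia : (i₀ : ℕ) < a := i₀.2
  refine ⟨(k, ⟨a - 1 - i₀, by omega⟩), ?_⟩
  have hsum : B (blkFam T a g (k, ⟨a - 1 - i₀, by omega⟩)) (∑ y, c y • blkFam T a g y) =
      (-1) ^ (a - 1 - (i₀ : ℕ)) * ∑ l, c (l, i₀) * B (g k) (((T - 1) ^ (a - 1)) (g l)) := by
    rw [map_sum, Fintype.sum_prod_type, Finset.mul_sum]
    apply Finset.sum_congr rfl
    intro l _
    rw [Finset.sum_eq_single i₀]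
    · rw [map_smul, smul_eq_mul]
      show c (l, i₀) * B (((T - 1) ^ (a - 1 - (i₀ : ℕ))) (g k)) (((T - 1) ^ (i₀ : ℕ)) (g l)) = _
      rw [gram_top B T T' hiso hTT' hT'T a (g k) (g l) (hg l) _ _ (by omega)]
      ring
    · intro i _ hii
      rw [map_smul, smul_eq_mul]
      rcases lt_or_gt_of_ne hii with hlt | hgt
      · rw [hi₀min i hlt l, zero_mul]
      · show c (l, i) * B (((T - 1) ^ (a - 1 - (i₀ : ℕ))) (g k)) (((T - 1) ^ (i : ℕ)) (g l)) = 0
        have hgt' : (i₀ : ℕ) < (i : ℕ) := hgt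
        rw [gram_zero B T T' hiso hTT' hT'T a (g k) (g l) (hg l) _ _ (by omega), mul_zero]
    · intro h
      exact absurd (Finset.mem_univ _) h
  rw [hsum]
  exact mul_ne_zero (pow_ne_zero _ (by norm_num)) hk

theorem block_li {K : Type*} [Fintype K] (hiso : ∀ u v, B (T u) (T v) = B u v)
    (hTT' : T * T' = 1) (hT'T : T' * T = 1) (a : ℕ) (g : K → V)
    (hg : ∀ k, ((T - 1) ^ a) (g k) = 0)
    (hG : ∀ c : K → F, c ≠ 0 → ∃ k, ∑ l, c l * B (g k) (((T - 1) ^ (a - 1)) (g l)) ≠ 0) :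
    LinearIndependent F (blkFam T a g) := by
  classical
  rw [Fintype.linearIndependent_iff]
  intro c hc
  by_contra hcon
  have hc0 : c ≠ 0 := by
    intro h0
    apply hcon
    intro x
    rw [h0]
    rfl
  obtain ⟨x, hx⟩ := block_pairing B T T' hiso hTT' hT'T a g hg hG c hc0
  apply hx
  rw [hc, map_zero]

theorem block_finrank {K : Type*} [Fintype K] (hiso : ∀ u v, B (T u) (T v) = B u v)
    (hTT' : T * T' = 1) (hT'T : T' * T = 1) (a : ℕ) (g : K → V)
    (hg : ∀ k, ((T - 1) ^ a) (g k) = 0)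
    (hG : ∀ c : K → F, c ≠ 0 → ∃ k, ∑ l, c l * B (g k) (((T - 1) ^ (a - 1)) (g l)) ≠ 0) :
    finrank F (blk T a g) = Fintype.card K * a := by
  classical
  unfold blk
  rw [finrank_span_eq_card (block_li B T T' hiso hTT' hT'T a g hg hG), Fintype.card_prod,
    Fintype.card_fin]

theorem block_ndOn {K : Type*} [Fintype K] (halt : ∀ v, B v v = 0)
    (hiso : ∀ u v, B (T u) (T v) = B u v)
    (hTT' : T * T' = 1) (hT'T : T' * T = 1) (a : ℕ) (g : K → V)
    (hg : ∀ k, ((T - 1) ^ a) (g k) = 0)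
    (hG : ∀ c : K → F, c ≠ 0 → ∃ k, ∑ l, c l * B (g k) (((T - 1) ^ (a - 1)) (g l)) ≠ 0) :
    NdOn B (blk T a g) := by
  classical
  intro w hw hw0
  obtain ⟨c, rfl⟩ := (Submodule.mem_span_range_iff_exists_fun F).1 hw
  have hc0 : c ≠ 0 := by
    intro h0
    apply hw0
    rw [h0]
    simp
  obtain ⟨x, hx⟩ := block_pairing B T T' hiso hTT' hT'T a g hg hG c hc0
  refine ⟨blkFam T a g x, blkFam_mem T a g x, ?_⟩
  rw [alt_swap B halt]
  exact neg_ne_zero.2 hx

theorem block_invariant {K : Type*} (a : ℕ) (g : K → V)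
    (hg : ∀ k, ((T - 1) ^ a) (g k) = 0) : ∀ u ∈ blk T a g, T u ∈ blk T a g := by
  intro u hu
  unfold blk at hu
  induction hu using Submodule.span_induction with
  | mem x hx =>
    obtain ⟨⟨k, i⟩, rfl⟩ := hx
    have h1 : T (blkFam T a g (k, i)) = blkFam T a g (k, i) + ((T - 1) ^ ((i : ℕ) + 1)) (g k) := by
      show T (((T - 1) ^ (i : ℕ)) (g k)) = ((T - 1) ^ (i : ℕ)) (g k) + _
      rw [pow_succ', Module.End.mul_apply, LinearMap.sub_apply, Module.End.one_apply]
      abel
    rw [h1]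
    apply Submodule.add_mem _ (blkFam_mem T a g (k, i))
    by_cases hi : (i : ℕ) + 1 < a
    · exact blkFam_mem T a g (k, ⟨(i : ℕ) + 1, hi⟩)
    · have : ((T - 1) ^ ((i : ℕ) + 1)) (g k) = 0 :=
        pow_apply_eq_zero_of_le T a _ (by have := i.2; omega) (g k) (hg k)
      rw [this]
      exact zero_mem _
  | zero => rw [map_zero]; exact zero_mem _
  | add x y _ _ hx hy => rw [map_add]; exact Submodule.add_mem _ hx hy
  | smul c x _ hx => rw [map_smul]; exact Submodule.smul_mem _ c hx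

theorem block_le {K : Type*} (a : ℕ) (g : K → V) (U : Submodule F V)
    (hU : ∀ u ∈ U, T u ∈ U) (hgU : ∀ k, g k ∈ U) : blk T a g ≤ U := by
  have hN : ∀ u ∈ U, (T - 1) u ∈ U := by
    intro u hu
    rw [LinearMap.sub_apply, Module.End.one_apply]
    exact Submodule.sub_mem _ (hU u hu) hu
  have hNp : ∀ (i : ℕ), ∀ u ∈ U, ((T - 1) ^ i) u ∈ U := by
    intro i
    induction i with
    | zero => intro u hu; simpa using hu
    | succ i ih =>
      intro u hu
      rw [pow_succ', Module.End.mul_apply]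
      exact hN _ (ih u hu)
  unfold blk
  rw [Submodule.span_le]
  rintro _ ⟨x, rfl⟩
  exact hNp _ _ (hgU x.1)

end block

end Cfsg.Agent.Lib.Helper22.UniBlk
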