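import Mathlib
import Cfsg.Agent.Lib.Helper22.UniBlkA

set_option autoImplicit false

/-!
# Peeling Jordan blocks off a unipotent isometry of an alternating space
-/

namespace Cfsg.Agent.Lib.Helper22.UniBlk

open Module Cfsg.Agent.Lib.Helper12.Sp

section peel

variable {F V : Type*} [Field F] [AddCommGroup V] [Module F V] [FiniteDimensional F V]
  (B : LinearMap.BilinForm F V) (T T' : Module.End F V)

/-- an invariant subspace is invariant under the inverse -/
theorem inv_invariant (hT'T : T' * T = 1) (C : Submodule F V) (hC : ∀ u ∈ C, T u ∈ C) :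
    ∀ u ∈ C, T' u ∈ C := by
  have hTinj : Function.Injective T := by
    intro x y hxy
    have h1 : ∀ v, T' (T v) = v := fun v => by
      have := congrArg (fun X : Module.End F V => X v) hT'T
      exact this
    have := congrArg T' hxy
    rwa [h1, h1] at this
  have hle : C.map T ≤ C := by
    rintro _ ⟨u, hu, rfl⟩
    exact hC u hu
  have heq : C.map T = C := by
    apply Submodule.eq_of_le_of_finrank_eq hle
    exact (Submodule.equivMapOfInjective T hTinj C).finrank_eq.symm
  intro u hu
  rw [← heq] at hu
  obtain ⟨v, hv, rfl⟩ := hu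
  have h1 : T' (T v) = v := by
    have := congrArg (fun X : Module.End F V => X v) hT'T
    exact this
  rw [h1]
  exact hv

/-- the orthogonal complement of an invariant subspace is invariant -/
theorem orth_inv (hiso : ∀ u v, B (T u) (T v) = B u v) (hTT' : T * T' = 1) (hT'T : T' * T = 1)
    (C : Submodule F V) (hC : ∀ u ∈ C, T u ∈ C) : ∀ u ∈ B.orthogonal C, T u ∈ B.orthogonal C := by
  intro u hu
  rw [mem_orth] at hu ⊢
  intro n hn
  have h1 : T (T' n) = n := by
    have := congrArg (fun X : Module.End F V => X n) hTT'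
    exact this
  rw [← h1, hiso]
  exact hu _ (inv_invariant T T' hT'T C hC n hn)

/-- peeling one block off a nonzero invariant nondegenerate subspace -/
theorem peel (halt : ∀ v, B v v = 0) (hiso : ∀ u v, B (T u) (T v) = B u v)
    (hTT' : T * T' = 1) (hT'T : T' * T = 1) (hnil : ∃ M, (T - 1) ^ M = 0)
    (U : Submodule F V) (hU0 : U ≠ ⊥) (hU : ∀ u ∈ U, T u ∈ U) (hUnd : NdOn B U) :
    ∃ (a : ℕ) (C : Submodule F V), 1 ≤ a ∧ (∀ u ∈ U, ((T - 1) ^ a) u = 0) ∧
      (∃ u ∈ U, ((T - 1) ^ (a - 1)) u ≠ 0) ∧ C ≤ U ∧ (∀ u ∈ C, T u ∈ C) ∧ NdOn B C ∧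
      ((finrank F C = a ∧ Even a) ∨ (finrank F C = 2 * a ∧ ((2 : F) ≠ 0 → Odd a))) := by
  classical
  have hex : ∃ a : ℕ, ∀ u ∈ U, ((T - 1) ^ a) u = 0 := by
    obtain ⟨M, hM⟩ := hnil
    exact ⟨M, fun u _ => by rw [hM]; rfl⟩
  obtain ⟨a, haU, hamin⟩ : ∃ a : ℕ, (∀ u ∈ U, ((T - 1) ^ a) u = 0) ∧
      ∀ b : ℕ, b < a → ¬ ∀ u ∈ U, ((T - 1) ^ b) u = 0 :=
    ⟨Nat.find hex, Nat.find_spec hex, fun b hb => Nat.find_min hex hb⟩
  have ha1 : 1 ≤ a := by
    rcases Nat.eq_zero_or_pos a with h0 | h0
    · exfalso
      apply hU0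
      rw [eq_bot_iff]
      intro u hu
      have := haU u hu
      rw [h0, pow_zero, Module.End.one_apply] at this
      rw [Submodule.mem_bot]
      exact this
    · exact h0
  obtain ⟨u₀, hu₀U, hu₀⟩ : ∃ u ∈ U, ((T - 1) ^ (a - 1)) u ≠ 0 := by
    have := hamin (a - 1) (by omega)
    push Not at this
    exact this
  have hNp : ∀ (i : ℕ), ∀ u ∈ U, ((T - 1) ^ i) u ∈ U := by
    have hN : ∀ u ∈ U, (T - 1) u ∈ U := by
      intro u hu
      rw [LinearMap.sub_apply, Module.End.one_apply]
      exact Submodule.sub_mem _ (hU u hu) hu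
    intro i
    induction i with
    | zero => intro u hu; simpa using hu
    | succ i ih =>
      intro u hu
      rw [pow_succ', Module.End.mul_apply]
      exact hN _ (ih u hu)
  refine ⟨a, ?_⟩
  by_cases hA : ∃ v ∈ U, B v (((T - 1) ^ (a - 1)) v) ≠ 0
  · -- a single block
    obtain ⟨v, hvU, hv⟩ := hA
    let g : Unit → V := fun _ => v
    have hg : ∀ k, ((T - 1) ^ a) (g k) = 0 := fun _ => haU v hvU
    have hG : ∀ c : Unit → F, c ≠ 0 →
        ∃ k, ∑ l, c l * B (g k) (((T - 1) ^ (a - 1)) (g l)) ≠ 0 := by
      intro c hc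
      refine ⟨(), ?_⟩
      rw [Fintype.sum_unique]
      have hc1 : c default ≠ 0 := by
        intro h0
        apply hc
        funext x
        rw [Subsingleton.elim x default, h0]
        rfl
      exact mul_ne_zero hc1 hv
    refine ⟨blk T a g, ha1, haU, ⟨u₀, hu₀U, hu₀⟩, block_le T a g U hU (fun _ => hvU),
      block_invariant T a g hg, block_ndOn B T T' halt hiso hTT' hT'T a g hg hG, Or.inl ⟨?_, ?_⟩⟩
    · rw [block_finrank B T T' hiso hTT' hT'T a g hg hG, Fintype.card_unit, one_mul]
    · by_contra hodd
      rw [Nat.not_even_iff_odd] at hodd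
      obtain ⟨i, hi⟩ := hodd
      have h1 := gram_top B T T' hiso hTT' hT'T a v v (haU v hvU) i i (by omega)
      rw [halt] at h1
      rcases mul_eq_zero.1 h1.symm with h3 | h3
      · exact absurd h3 (pow_ne_zero _ (by norm_num))
      · exact hv h3
  · -- a double block
    push Not at hA
    obtain ⟨w₀, hw₀U, hw₀⟩ := hUnd _ (hNp (a - 1) u₀ hu₀U) hu₀
    obtain ⟨c₀, hc₀⟩ : ∃ c₀, c₀ = B w₀ (((T - 1) ^ (a - 1)) u₀) := ⟨_, rfl⟩
    have hc₀0 : c₀ ≠ 0 := by
      rw [hc₀, alt_swap B halt]
      exact neg_ne_zero.2 hw₀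
    have hpol : B u₀ (((T - 1) ^ (a - 1)) w₀) = -c₀ := by
      have h1 := hA (w₀ + u₀) (Submodule.add_mem _ hw₀U hu₀U)
      simp only [map_add, LinearMap.add_apply] at h1
      rw [hA w₀ hw₀U, hA u₀ hu₀U, ← hc₀] at h1
      linear_combination h1
    let g : Bool → V := fun b => if b then w₀ else u₀
    have hgU : ∀ k, g k ∈ U := by
      intro k
      cases k
      · exact hu₀U
      · exact hw₀U
    have hg : ∀ k, ((T - 1) ^ a) (g k) = 0 := fun k => haU _ (hgU k)
    have hG : ∀ c : Bool → F, c ≠ 0 →
        ∃ k, ∑ l, c l * B (g k) (((T - 1) ^ (a - 1)) (g l)) ≠ 0 := by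
      intro c hc
      by_cases hcf : c false = 0
      · have hct : c true ≠ 0 := by
          intro h0
          apply hc
          funext x
          cases x
          · exact hcf
          · exact h0
        refine ⟨false, ?_⟩
        rw [Fintype.sum_bool]
        show c true * B u₀ (((T - 1) ^ (a - 1)) w₀) + c false * B u₀ (((T - 1) ^ (a - 1)) u₀) ≠ 0
        rw [hpol, hA u₀ hu₀U, mul_zero, add_zero]
        exact mul_ne_zero hct (neg_ne_zero.2 hc₀0)
      · refine ⟨true, ?_⟩
        rw [Fintype.sum_bool]
        show c true * B w₀ (((T - 1) ^ (a - 1)) w₀) + c false * B w₀ (((T - 1) ^ (a - 1)) u₀) ≠ 0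
        rw [hA w₀ hw₀U, mul_zero, zero_add, ← hc₀]
        exact mul_ne_zero hcf hc₀0
    refine ⟨blk T a g, ha1, haU, ⟨u₀, hu₀U, hu₀⟩, block_le T a g U hU hgU,
      block_invariant T a g hg, block_ndOn B T T' halt hiso hTT' hT'T a g hg hG, Or.inr ⟨?_, ?_⟩⟩
    · rw [block_finrank B T T' hiso hTT' hT'T a g hg hG, Fintype.card_bool]
    · intro h2
      by_contra heven
      rw [Nat.not_odd_iff_even] at heven
      obtain ⟨i, hi⟩ := heven
      have h1 := gram_top B T T' hiso hTT' hT'T a u₀ w₀ (haU w₀ hw₀U) (a - 1) 0 (by omega)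
      rw [pow_zero, Module.End.one_apply, hpol, alt_swap B halt, ← hc₀] at h1
      have h3 : (-1 : F) ^ (a - 1) = -1 := by
        have : a - 1 = 2 * (i - 1) + 1 := by omega
        rw [this, pow_succ, pow_mul]
        norm_num
      rw [h3] at h1
      have h4 : (2 : F) * c₀ = 0 := by linear_combination -h1
      rcases mul_eq_zero.1 h4 with h5 | h5
      · exact h2 h5
      · exact hc₀0 h5

end peel

section odd

variable {F V : Type*} [Field F] [AddCommGroup V] [Module F V] [FiniteDimensional F V]
  (B : LinearMap.BilinForm F V) (T T' : Module.End F V)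

/-- **Orthogonal Jordan decomposition, odd characteristic**: a unipotent isometry of an alternating
space has a Jordan type `μ` (odd parts of even multiplicity) such that every sub-type `ν` with odd
parts of even multiplicity is the dimension-type of an invariant nondegenerate subspace. -/
theorem udec_odd (h2 : (2 : F) ≠ 0) (halt : ∀ v, B v v = 0)
    (hiso : ∀ u v, B (T u) (T v) = B u v)
    (hTT' : T * T' = 1) (hT'T : T' * T = 1) (hnil : ∃ M, (T - 1) ^ M = 0) :
    ∀ (n : ℕ) (U : Submodule F V), finrank F U = n → (∀ u ∈ U, T u ∈ U) → NdOn B U →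
      ∃ μ : Multiset ℕ, (∀ a ∈ μ, 1 ≤ a ∧ ∃ u ∈ U, ((T - 1) ^ (a - 1)) u ≠ 0) ∧
        (∀ a, Odd a → Even (μ.count a)) ∧ μ.sum = n ∧
        ∀ ν : Multiset ℕ, ν ≤ μ → (∀ a, Odd a → Even (ν.count a)) →
          ∃ W : Submodule F V, W ≤ U ∧ (∀ u ∈ W, T u ∈ W) ∧ NdOn B W ∧
            finrank F W = ν.sum := by
  classical
  intro n
  induction n using Nat.strong_induction_on with
  | _ n ih =>
    intro U hUdim hU hUnd
    by_cases hU0 : U = ⊥
    · refine ⟨0, ?_, ?_, ?_, ?_⟩
      · intro a ha
        exact absurd ha (Multiset.notMem_zero a)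
      · intro a _
        rw [Multiset.count_zero]
        exact Even.zero
      · rw [Multiset.sum_zero, ← hUdim, hU0, finrank_bot]
      · intro ν hν _
        have hν0 : ν = 0 := Multiset.le_zero.1 hν
        refine ⟨⊥, bot_le, ?_, ndOn_bot B, ?_⟩
        · intro u hu
          rw [(Submodule.mem_bot F).1 hu, map_zero]
          exact zero_mem _
        · rw [hν0, Multiset.sum_zero, finrank_bot]
    · obtain ⟨a, C, ha1, haU, hwit, hCU, hCinv, hCnd, hcase⟩ :=
        peel B T T' halt hiso hTT' hT'T hnil U hU0 hU hUnd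
      set U' := U ⊓ B.orthogonal C with hU'
      have hU'nd : NdOn B U' := ndOn_inf_orth B halt U C hUnd hCU hCnd
      have hU'dim : finrank F C + finrank F U' = finrank F U := finrank_inf_orth B halt U C hCU hCnd
      have hU'inv : ∀ u ∈ U', T u ∈ U' := fun u hu =>
        ⟨hU u hu.1, orth_inv B T T' hiso hTT' hT'T C hCinv u hu.2⟩
      have hCpos : 0 < finrank F C := by
        rcases hcase with ⟨h, -⟩ | ⟨h, -⟩ <;> omega
      obtain ⟨μ', hμ'1, hμ'par, hμ'sum, hμ'sel⟩ :=
        ih (finrank F U') (by omega) U' rfl hU'inv hU'nd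
      -- gluing a selected subspace of `U'` to `C`
      have hglue : ∀ W' : Submodule F V, W' ≤ U' → (∀ u ∈ W', T u ∈ W') → NdOn B W' →
          ∃ W : Submodule F V, W ≤ U ∧ (∀ u ∈ W, T u ∈ W) ∧ NdOn B W ∧
            finrank F W = finrank F C + finrank F W' := by
        intro W' hW'U hW'inv hW'nd
        have horth : ∀ x ∈ C, ∀ y ∈ W', B x y = 0 := fun x hx y hy =>
          (mem_orth B C y).1 (hW'U hy).2 x hx
        refine ⟨C ⊔ W', sup_le hCU (hW'U.trans inf_le_left), ?_,
          ndOn_sup B halt C W' hCnd hW'nd horth, ?_⟩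
        · intro u hu
          obtain ⟨x, hx, y, hy, rfl⟩ := Submodule.mem_sup.1 hu
          rw [map_add]
          exact Submodule.add_mem _ ((le_sup_left : C ≤ C ⊔ W') (hCinv x hx))
            ((le_sup_right : W' ≤ C ⊔ W') (hW'inv y hy))
        · have hdisj : C ⊓ W' = ⊥ := by
            rw [eq_bot_iff]
            have h1 := (ndOn_iff_disjoint B halt C).1 hCnd
            rw [← h1.eq_bot]
            exact inf_le_inf le_rfl (hW'U.trans inf_le_right)
          have := Submodule.finrank_sup_add_finrank_inf_eq C W'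
          rw [hdisj, finrank_bot, add_zero] at this
          exact this
      have hwitU : ∀ b ∈ μ', 1 ≤ b ∧ ∃ u ∈ U, ((T - 1) ^ (b - 1)) u ≠ 0 := by
        intro b hb
        obtain ⟨h1, u, hu, hne⟩ := hμ'1 b hb
        exact ⟨h1, u, hu.1, hne⟩
      rcases hcase with ⟨hCdim, haev⟩ | ⟨hCdim, haodd⟩
      · -- single block of even size
        refine ⟨a ::ₘ μ', ?_, ?_, ?_, ?_⟩
        · intro b hb
          rcases Multiset.mem_cons.1 hb with rfl | hb
          · exact ⟨ha1, hwit⟩
          · exact hwitU b hb
        · intro b hb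
          rw [Multiset.count_cons]
          have hba : b ≠ a := by
            rintro rfl
            exact (Nat.not_even_iff_odd.2 hb) haev
          rw [if_neg hba, add_zero]
          exact hμ'par b hb
        · rw [Multiset.sum_cons, hμ'sum, ← hCdim, hU'dim, hUdim]
        · intro ν hν hνpar
          by_cases haν : a ∈ ν
          · have h1 : ν.erase a ≤ μ' := Multiset.erase_le_iff_le_cons.2 hν
            have h2 : ∀ b, Odd b → Even ((ν.erase a).count b) := by
              intro b hb
              have hba : b ≠ a := by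
                rintro rfl
                exact (Nat.not_even_iff_odd.2 hb) haev
              rw [Multiset.count_erase_of_ne hba]
              exact hνpar b hb
            obtain ⟨W', hW'U, hW'inv, hW'nd, hW'dim⟩ := hμ'sel _ h1 h2
            obtain ⟨W, hWU, hWinv, hWnd, hWdim⟩ := hglue W' hW'U hW'inv hW'nd
            refine ⟨W, hWU, hWinv, hWnd, ?_⟩
            rw [hWdim, hW'dim, hCdim, ← Multiset.sum_cons, Multiset.cons_erase haν]
          · have h1 : ν ≤ μ' := (Multiset.le_cons_of_notMem haν).1 hν
            obtain ⟨W', hW'U, hW'inv, hW'nd, hW'dim⟩ := hμ'sel _ h1 hνpar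
            exact ⟨W', hW'U.trans inf_le_left, hW'inv, hW'nd, hW'dim⟩
      · -- double block of odd size
        have haodd' : Odd a := haodd h2
        refine ⟨a ::ₘ a ::ₘ μ', ?_, ?_, ?_, ?_⟩
        · intro b hb
          rcases Multiset.mem_cons.1 hb with rfl | hb
          · exact ⟨ha1, hwit⟩
          · rcases Multiset.mem_cons.1 hb with rfl | hb
            · exact ⟨ha1, hwit⟩
            · exact hwitU b hb
        · intro b hb
          rw [Multiset.count_cons, Multiset.count_cons]
          by_cases hba : b = a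
          · rw [if_pos hba]
            have := hμ'par b hb
            rw [Nat.even_iff] at this ⊢
            omega
          · rw [if_neg hba, add_zero, add_zero]
            exact hμ'par b hb
        · rw [Multiset.sum_cons, Multiset.sum_cons, hμ'sum, ← hUdim, ← hU'dim, hCdim]
          ring
        · intro ν hν hνpar
          by_cases haν : a ∈ ν
          · have hcnt : 2 ≤ ν.count a := by
              have h1 := hνpar a haodd'
              have h3 := Multiset.count_pos.2 haν
              rw [Nat.even_iff] at h1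
              omega
            have haν' : a ∈ ν.erase a := by
              rw [← Multiset.count_pos, Multiset.count_erase_self]
              omega
            have h1 : (ν.erase a).erase a ≤ μ' := by
              apply Multiset.erase_le_iff_le_cons.2
              apply Multiset.erase_le_iff_le_cons.2
              exact hν
            have h2 : ∀ b, Odd b → Even (((ν.erase a).erase a).count b) := by
              intro b hb
              by_cases hba : b = a
              · subst hba
                rw [Multiset.count_erase_self, Multiset.count_erase_self]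
                have := hνpar b hb
                rw [Nat.even_iff] at this ⊢
                omega
              · rw [Multiset.count_erase_of_ne hba, Multiset.count_erase_of_ne hba]
                exact hνpar b hb
            obtain ⟨W', hW'U, hW'inv, hW'nd, hW'dim⟩ := hμ'sel _ h1 h2
            obtain ⟨W, hWU, hWinv, hWnd, hWdim⟩ := hglue W' hW'U hW'inv hW'nd
            refine ⟨W, hWU, hWinv, hWnd, ?_⟩
            have h3 : ν.sum = a + (a + ((ν.erase a).erase a).sum) := by
              rw [← Multiset.sum_cons, Multiset.cons_erase haν', ← Multiset.sum_cons,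
                Multiset.cons_erase haν]
            rw [hWdim, hW'dim, hCdim, h3]
            ring
          · have h1 : ν ≤ μ' := by
              have h3 : ν ≤ a ::ₘ μ' := (Multiset.le_cons_of_notMem haν).1 hν
              exact (Multiset.le_cons_of_notMem haν).1 h3
            obtain ⟨W', hW'U, hW'inv, hW'nd, hW'dim⟩ := hμ'sel _ h1 hνpar
            exact ⟨W', hW'U.trans inf_le_left, hW'inv, hW'nd, hW'dim⟩

end odd

section even

variable {F V : Type*} [Field F] [AddCommGroup V] [Module F V] [FiniteDimensional F V]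
  (B : LinearMap.BilinForm F V) (T T' : Module.End F V)

/-- **Involutions**: an isometry with `(T - 1)^2 = 0` of an alternating space is an orthogonal sum
of `e` invariant nondegenerate planes and `f` invariant nondegenerate 4-spaces, any sub-collection
of which may be selected. -/
theorem udec_two (halt : ∀ v, B v v = 0)
    (hiso : ∀ u v, B (T u) (T v) = B u v)
    (hTT' : T * T' = 1) (hT'T : T' * T = 1) (hsq : (T - 1) ^ 2 = 0) :
    ∀ (n : ℕ) (U : Submodule F V), finrank F U = n → (∀ u ∈ U, T u ∈ U) → NdOn B U →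
      ∃ e f : ℕ, 2 * e + 4 * f = n ∧
        ∀ e' f' : ℕ, e' ≤ e → f' ≤ f →
          ∃ W : Submodule F V, W ≤ U ∧ (∀ u ∈ W, T u ∈ W) ∧ NdOn B W ∧
            finrank F W = 2 * e' + 4 * f' := by
  classical
  intro n
  induction n using Nat.strong_induction_on with
  | _ n ih =>
    intro U hUdim hU hUnd
    by_cases hU0 : U = ⊥
    · refine ⟨0, 0, ?_, ?_⟩
      · rw [← hUdim, hU0, finrank_bot]
      · intro e' f' he' hf'
        refine ⟨⊥, bot_le, ?_, ndOn_bot B, ?_⟩
        · intro u hu
          rw [(Submodule.mem_bot F).1 hu, map_zero]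
          exact zero_mem _
        · rw [finrank_bot]
          omega
    · obtain ⟨a, C, ha1, haU, hwit, hCU, hCinv, hCnd, hcase⟩ :=
        peel B T T' halt hiso hTT' hT'T ⟨2, hsq⟩ U hU0 hU hUnd
      have ha2 : a ≤ 2 := by
        obtain ⟨u, -, hu⟩ := hwit
        by_contra hlt
        push Not at hlt
        apply hu
        have : (T - 1) ^ (a - 1) = (T - 1) ^ (a - 3) * (T - 1) ^ 2 := by
          rw [← pow_add]
          congr 1
          omega
        rw [this, hsq, mul_zero]
        rfl
      have hCdim : finrank F C = 2 ∨ finrank F C = 4 := by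
        rcases hcase with ⟨h, hev⟩ | ⟨h, -⟩
        · left
          obtain ⟨i, hi⟩ := hev
          omega
        · have : a = 1 ∨ a = 2 := by omega
          rcases this with rfl | rfl
          · left; omega
          · right; omega
      set U' := U ⊓ B.orthogonal C with hU'
      have hU'nd : NdOn B U' := ndOn_inf_orth B halt U C hUnd hCU hCnd
      have hU'dim : finrank F C + finrank F U' = finrank F U := finrank_inf_orth B halt U C hCU hCnd
      have hU'inv : ∀ u ∈ U', T u ∈ U' := fun u hu =>
        ⟨hU u hu.1, orth_inv B T T' hiso hTT' hT'T C hCinv u hu.2⟩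
      have hCpos : 0 < finrank F C := by
        rcases hCdim with h | h <;> omega
      obtain ⟨e, f, hef, hsel⟩ := ih (finrank F U') (by omega) U' rfl hU'inv hU'nd
      have hglue : ∀ W' : Submodule F V, W' ≤ U' → (∀ u ∈ W', T u ∈ W') → NdOn B W' →
          ∃ W : Submodule F V, W ≤ U ∧ (∀ u ∈ W, T u ∈ W) ∧ NdOn B W ∧
            finrank F W = finrank F C + finrank F W' := by
        intro W' hW'U hW'inv hW'nd
        have horth : ∀ x ∈ C, ∀ y ∈ W', B x y = 0 := fun x hx y hy =>
          (mem_orth B C y).1 (hW'U hy).2 x hx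
        refine ⟨C ⊔ W', sup_le hCU (hW'U.trans inf_le_left), ?_,
          ndOn_sup B halt C W' hCnd hW'nd horth, ?_⟩
        · intro u hu
          obtain ⟨x, hx, y, hy, rfl⟩ := Submodule.mem_sup.1 hu
          rw [map_add]
          exact Submodule.add_mem _ ((le_sup_left : C ≤ C ⊔ W') (hCinv x hx))
            ((le_sup_right : W' ≤ C ⊔ W') (hW'inv y hy))
        · have hdisj : C ⊓ W' = ⊥ := by
            rw [eq_bot_iff]
            have h1 := (ndOn_iff_disjoint B halt C).1 hCnd
            rw [← h1.eq_bot]
            exact inf_le_inf le_rfl (hW'U.trans inf_le_right)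
          have := Submodule.finrank_sup_add_finrank_inf_eq C W'
          rw [hdisj, finrank_bot, add_zero] at this
          exact this
      rcases hCdim with hC2 | hC4
      · refine ⟨e + 1, f, by omega, ?_⟩
        intro e' f' he' hf'
        rcases Nat.eq_zero_or_pos e' with rfl | hpos
        · obtain ⟨W', hW'U, hW'inv, hW'nd, hW'dim⟩ := hsel 0 f' (Nat.zero_le _) hf'
          exact ⟨W', hW'U.trans inf_le_left, hW'inv, hW'nd, hW'dim⟩
        · obtain ⟨W', hW'U, hW'inv, hW'nd, hW'dim⟩ := hsel (e' - 1) f' (by omega) hf'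
          obtain ⟨W, hWU, hWinv, hWnd, hWdim⟩ := hglue W' hW'U hW'inv hW'nd
          refine ⟨W, hWU, hWinv, hWnd, ?_⟩
          rw [hWdim, hW'dim, hC2]
          omega
      · refine ⟨e, f + 1, by omega, ?_⟩
        intro e' f' he' hf'
        rcases Nat.eq_zero_or_pos f' with rfl | hpos
        · obtain ⟨W', hW'U, hW'inv, hW'nd, hW'dim⟩ := hsel e' 0 he' (Nat.zero_le _)
          exact ⟨W', hW'U.trans inf_le_left, hW'inv, hW'nd, hW'dim⟩
        · obtain ⟨W', hW'U, hW'inv, hW'nd, hW'dim⟩ := hsel e' (f' - 1) he' (by omega)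
          obtain ⟨W, hWU, hWinv, hWnd, hWdim⟩ := hglue W' hW'U hW'inv hW'nd
          refine ⟨W, hWU, hWinv, hWnd, ?_⟩
          rw [hWdim, hW'dim, hC4]
          omega

end even

end Cfsg.Agent.Lib.Helper22.UniBlk
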