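import Mathlib
import Cfsg.Agent.Lib.Helper22.UniBlkB
import Cfsg.Agent.Lib.Helper15.UniDecomp
import Cfsg.Agent.Lib.Helper15.UniForm
import Cfsg.Agent.Lib.Helper12.SpJ

set_option autoImplicit false

/-!
# Jordan types of unipotent symplectic isometries on invariant nondegenerate subspaces; the
involutions of type `a_d` in characteristic two; transport to symplectic matrices
-/

namespace Cfsg.Agent.Lib.Helper22.UniBlk

open Module Cfsg.Agent.Lib.Helper12.Sp Cfsg.Agent.Lib.Helper15.SemisimpleConj
  Cfsg.Agent.Lib.Helper15.NilpotentConj Cfsg.Agent.Lib.Helper15.UniForm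
  Cfsg.Agent.Lib.Helper15.UniDecomp Cfsg.Agent.Lib.Helper15

universe u

section subtype

variable {F : Type u} [Field F] {V : Type u} [AddCommGroup V] [Module F V] [FiniteDimensional F V]
  (B : LinearMap.BilinForm F V) (T T' : End F V)

theorem sub_one_invt (W : Submodule F V) (hW : ∀ u ∈ W, T u ∈ W) : W ∈ (T - 1).invtSubmodule := by
  rw [Module.End.mem_invtSubmodule]
  intro v hv
  show (T - 1) v ∈ W
  rw [LinearMap.sub_apply, Module.End.one_apply]
  exact Submodule.sub_mem _ (hW v hv) hv

/-- the Jordan type of a unipotent symplectic isometry on an invariant nondegenerate subspace is a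
sub-multiset of its Jordan type, again with odd parts of even multiplicity -/
theorem sp_sub_type (halt : ∀ v, B v v = 0) (hTT' : T * T' = 1) (hT'T : T' * T = 1)
    (hinv : ∀ x y, B (T x) (T y) = B x y) (hnil : IsNilpotent (T - 1)) (μ : Multiset ℕ)
    (hμ : ∀ b ∈ μ, 1 ≤ b) (hk : ∀ s, kap (T - 1) s = kapm μ s) (W : Submodule F V)
    (hW : ∀ u ∈ W, T u ∈ W) (hWnd : NdOn B W) :
    ∃ ν : Multiset ℕ, ν ≤ μ ∧ ν.sum = finrank F W ∧ (∀ e, Odd e → Even (ν.count e)) ∧
      ∃ hW1 : W ∈ (T - 1).invtSubmodule, ∀ s, kap ((T - 1).restrict hW1) s = kapm ν s := by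
  classical
  have hc : IsCompl W (B.orthogonal W) := isCompl_of_ndOn B halt W hWnd
  have hW1 : W ∈ (T - 1).invtSubmodule := sub_one_invt T W hW
  have hW2 : B.orthogonal W ∈ (T - 1).invtSubmodule :=
    sub_one_invt T _ (orth_inv B T T' hinv hTT' hT'T W hW)
  obtain ⟨ν, hνle, hνsum, hν1, hνk⟩ :=
    type_le_of_isCompl (T - 1) hnil μ hμ hk W (B.orthogonal W) hW1 hW2 hc
  refine ⟨ν, hνle, hνsum, ?_, hW1, hνk⟩
  have hWT' : ∀ v ∈ W, T' v ∈ W := inv_invariant T T' hT'T W hW
  have hWinvT : W ∈ T.invtSubmodule := by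
    rw [Module.End.mem_invtSubmodule]
    intro v hv
    exact hW v hv
  have hWinvT' : W ∈ T'.invtSubmodule := by
    rw [Module.End.mem_invtSubmodule]
    intro v hv
    exact hWT' v hv
  obtain ⟨u, hu⟩ : ∃ u : End F W, u = T.restrict hWinvT := ⟨_, rfl⟩
  obtain ⟨v, hv⟩ : ∃ v : End F W, v = T'.restrict hWinvT' := ⟨_, rfl⟩
  have huv : u * v = 1 := by
    apply LinearMap.ext
    intro x
    apply Subtype.ext
    rw [hu, hv]
    show T (T' x) = x
    have := congrArg (fun X : End F V => X x) hTT'
    exact this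
  have hvu : v * u = 1 := by
    apply LinearMap.ext
    intro x
    apply Subtype.ext
    rw [hu, hv]
    show T' (T x) = x
    have := congrArg (fun X : End F V => X x) hT'T
    exact this
  have hu1 : u - 1 = (T - 1).restrict hW1 := by
    apply LinearMap.ext
    intro x
    apply Subtype.ext
    rw [hu]
    rfl
  have hrank : ∀ i, ∃ m', finrank F W = kapm ν (2 * i) + 2 * m' := by
    intro i
    obtain ⟨m', hm'⟩ := isometry_alt_rank (B.restrict W) (fun x => halt x)
      (by
        intro x hx
        by_contra hne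
        have hx0 : (x : V) ≠ 0 := fun h => hne (Subtype.ext h)
        obtain ⟨y, hy, hyx⟩ := hWnd x x.2 hx0
        apply hyx
        rw [alt_swap B halt]
        have := hx ⟨y, hy⟩
        have h2 : B y x = 0 := this
        rw [h2, neg_zero]) u v huv hvu
      (fun x y => by
        rw [hu]
        exact hinv _ _) i
    refine ⟨m', ?_⟩
    rw [← hνk, ← hu1]
    exact hm'
  intro e he
  exact count_even_of_kapm_even ν (finrank F W) hrank e he

/-- **Involutions of type `a_d`** (characteristic-free formulation): if `(T-1)^2 = 0`, the fixed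
space has half the dimension and `B v ((T-1) v) = 0` for all `v`, then every invariant
nondegenerate subspace has dimension divisible by four. -/
theorem four_dvd_of_type_a (halt : ∀ v, B v v = 0) (hTT' : T * T' = 1) (hT'T : T' * T = 1)
    (hinv : ∀ x y, B (T x) (T y) = B x y) (hsq : (T - 1) ^ 2 = 0) (d : ℕ)
    (hdim : finrank F V = 2 * d) (hker : kap (T - 1) 1 = d)
    (hself : ∀ v, B v ((T - 1) v) = 0) (W : Submodule F V)
    (hW : ∀ u ∈ W, T u ∈ W) (hWnd : NdOn B W) : 4 ∣ finrank F W := by
  classical
  have hc : IsCompl W (B.orthogonal W) := isCompl_of_ndOn B halt W hWnd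
  have hW1 : W ∈ (T - 1).invtSubmodule := sub_one_invt T W hW
  have hW2 : B.orthogonal W ∈ (T - 1).invtSubmodule :=
    sub_one_invt T _ (orth_inv B T T' hinv hTT' hT'T W hW)
  have hk : ∀ s, kap (T - 1) s = kapm (Multiset.replicate d 2) s := by
    intro s
    have h1 : kapm (Multiset.replicate d 2) s = d * min 2 s := by
      unfold kapm
      rw [Multiset.map_replicate, Multiset.sum_replicate, smul_eq_mul]
    rw [h1]
    rcases Nat.lt_or_ge s 2 with hs | hs
    · have : s = 0 ∨ s = 1 := by omega
      rcases this with rfl | rfl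
      · unfold kap
        rw [pow_zero]
        have : LinearMap.ker (1 : End F V) = ⊥ := by
          rw [LinearMap.ker_eq_bot]
          exact fun _ _ h => h
        rw [this, finrank_bot]
        simp
      · rw [hker]
        simp
    · have h2 : (T - 1) ^ s = 0 := by
        obtain ⟨k, rfl⟩ := Nat.exists_eq_add_of_le hs
        rw [pow_add, hsq, zero_mul]
      rw [(pow_eq_zero_iff_kap (T - 1) s).1 h2, hdim, min_eq_left hs]
      ring
  obtain ⟨ν, hνle, hνsum, hν1, hνk⟩ :=
    type_le_of_isCompl (T - 1) ⟨2, hsq⟩ (Multiset.replicate d 2)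
      (fun b hb => by rw [Multiset.eq_of_mem_replicate hb]; norm_num) hk W (B.orthogonal W)
      hW1 hW2 hc
  have hν2 : ν = Multiset.replicate (Multiset.card ν) 2 := by
    rw [Multiset.eq_replicate]
    exact ⟨rfl, fun b hb => Multiset.eq_of_mem_replicate (Multiset.mem_of_le hνle hb)⟩
  have hsum : finrank F W = 2 * Multiset.card ν := by
    rw [← hνsum]
    conv_lhs => rw [hν2]
    rw [Multiset.sum_replicate, smul_eq_mul, mul_comm]
  have hkap1 : kap ((T - 1).restrict hW1) 1 = Multiset.card ν := by
    rw [hνk]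
    conv_lhs => rw [hν2]
    unfold kapm
    rw [Multiset.map_replicate, Multiset.sum_replicate, smul_eq_mul]
    simp
  -- the alternating form `B x (N y)` on `W`
  let C : LinearMap.BilinForm F W := (B.restrict W).compl₂ ((T - 1).restrict hW1)
  have hCapp : ∀ x y : W, C x y = B (x : V) ((T - 1) (y : V)) := fun x y => rfl
  have hCalt : C.IsAlt := fun x => by rw [hCapp]; exact hself _
  have hkerC : LinearMap.ker C = LinearMap.ker (((T - 1).restrict hW1) ^ 1) := by
    ext x
    rw [pow_one, LinearMap.mem_ker, LinearMap.mem_ker]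
    constructor
    · intro hx
      -- `(T' - 1) x` is orthogonal to `W`
      have hN'W : (T' - 1) (x : V) ∈ W := by
        rw [LinearMap.sub_apply, Module.End.one_apply]
        exact Submodule.sub_mem _ (inv_invariant T T' hT'T W hW _ x.2) x.2
      have h0 : (T' - 1) (x : V) = 0 := by
        by_contra hne
        obtain ⟨y, hy, hyx⟩ := hWnd _ hN'W hne
        apply hyx
        rw [alt_swap B halt, ← adj_one B T T' hinv hTT', alt_swap B halt]
        have := congrArg (fun φ : W →ₗ[F] F => φ ⟨y, hy⟩) hx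
        have h3 : B (x : V) ((T - 1) y) = 0 := this
        rw [h3, neg_zero, neg_zero]
      have h1 : T' (x : V) = x := by
        rw [LinearMap.sub_apply, Module.End.one_apply, sub_eq_zero] at h0
        exact h0
      have h2 : T (x : V) = x := by
        have := congrArg (fun X : End F V => X (x : V)) hTT'
        have h3 : T (T' (x : V)) = x := this
        rw [h1] at h3
        exact h3
      apply Subtype.ext
      show (T - 1) (x : V) = 0
      rw [LinearMap.sub_apply, Module.End.one_apply, h2, sub_self]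
    · intro hx
      have hx' : (T - 1) (x : V) = 0 := congrArg Subtype.val hx
      have h2 : T (x : V) = x := by
        rw [LinearMap.sub_apply, Module.End.one_apply, sub_eq_zero] at hx'
        exact hx'
      have h1 : T' (x : V) = x := by
        have := congrArg (fun X : End F V => X (x : V)) hT'T
        have h3 : T' (T (x : V)) = x := this
        rw [h2] at h3
        exact h3
      apply LinearMap.ext
      intro y
      rw [hCapp, LinearMap.zero_apply, alt_swap B halt, adj_one B T T' hinv hTT',
        LinearMap.sub_apply, Module.End.one_apply, h1, sub_self, map_zero, neg_zero]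
  obtain ⟨m', hm'⟩ := even_rank_alt C hCalt
  rw [hkerC] at hm'
  have h5 : finrank F (LinearMap.ker (((T - 1).restrict hW1) ^ 1)) = Multiset.card ν := hkap1
  rw [h5] at hm'
  exact ⟨m', by omega⟩

end subtype

section transport

variable {F : Type u} [Field F]

/-- from an abstract isometry of an alternating space to a symplectic matrix, with the
coordinatisation -/
theorem exists_sp_matrix {W : Type u} [AddCommGroup W] [Module F W] [FiniteDimensional F W]
    (β : LinearMap.BilinForm F W) (halt : ∀ x, β x x = 0)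
    (hnd : ∀ x, (∀ y, β x y = 0) → x = 0) (T : End F W)
    (hinv : ∀ x y, β (T x) (T y) = β x y) (d : ℕ) (hdim : finrank F W = 2 * d) :
    ∃ (A : Matrix (Fin d ⊕ Fin d) (Fin d ⊕ Fin d) F) (φ : W ≃ₗ[F] (Fin d ⊕ Fin d → F)),
      A ∈ Matrix.symplecticGroup (Fin d) F ∧
      (∀ x y, Cfsg.sympForm d F (φ x) (φ y) = β x y) ∧
      ∀ x, Matrix.toLin' A (φ x) = φ (T x) := by
  obtain ⟨k, φ, hk, hφ⟩ := SymIso.exists_symp_equiv (F := F) W β halt hnd
  have hkd : k = d := by omega
  subst hkd
  let S : (Fin k ⊕ Fin k → F) →ₗ[F] (Fin k ⊕ Fin k → F) := φ.conj T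
  have hS : ∀ u, S u = φ (T (φ.symm u)) := by
    intro u
    show (φ.conj T) u = _
    rw [LinearEquiv.conj_apply]
    rfl
  refine ⟨LinearMap.toMatrix' S, φ, ?_, hφ, ?_⟩
  · apply mem_sp_of_iso
    intro u v
    rw [hS, hS, hφ, hinv, ← hφ, LinearEquiv.apply_symm_apply, LinearEquiv.apply_symm_apply]
  · intro x
    rw [Matrix.toLin'_toMatrix', hS, LinearEquiv.symm_apply_apply]

end transport

section model

variable {F : Type u} [Field F] [CharP F 2] (e : ℕ)

/-- the form of the model of an involution of type `a_{2e}` -/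
noncomputable def aForm : LinearMap.BilinForm F ((Fin e ⊕ Fin e → F) × (Fin e ⊕ Fin e → F)) :=
  (sympBilin e (F := F)).compl₁₂ (LinearMap.fst F _ _) (LinearMap.snd F _ _) +
    (sympBilin e (F := F)).compl₁₂ (LinearMap.snd F _ _) (LinearMap.fst F _ _)

omit [CharP F 2] in
theorem aForm_apply (x y : (Fin e ⊕ Fin e → F) × (Fin e ⊕ Fin e → F)) :
    aForm e x y = sympBilin e x.1 y.2 + sympBilin e x.2 y.1 := rfl

/-- the model involution `(a, b) ↦ (a + b, b)` -/
def aMap : End F ((Fin e ⊕ Fin e → F) × (Fin e ⊕ Fin e → F)) :=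
  (LinearMap.fst F _ _ + LinearMap.snd F _ _).prod (LinearMap.snd F _ _)

omit [CharP F 2] in
theorem aMap_apply (x : (Fin e ⊕ Fin e → F) × (Fin e ⊕ Fin e → F)) :
    aMap e x = (x.1 + x.2, x.2) := rfl

omit [CharP F 2] in
theorem aForm_alt (x : (Fin e ⊕ Fin e → F) × (Fin e ⊕ Fin e → F)) : aForm e x x = 0 := by
  rw [aForm_apply, alt_swap (sympBilin e (F := F)) (stdB_alt e) x.2 x.1, add_neg_cancel]

omit [CharP F 2] in
theorem aForm_nd (x : (Fin e ⊕ Fin e → F) × (Fin e ⊕ Fin e → F))
    (hx : ∀ y, aForm e x y = 0) : x = 0 := by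
  have h1 : x.1 = 0 := by
    apply stdB_nd e
    intro v
    have := hx (0, v)
    rw [aForm_apply] at this
    simpa using this
  have h2 : x.2 = 0 := by
    apply stdB_nd e
    intro v
    have := hx (v, 0)
    rw [aForm_apply] at this
    simpa using this
  exact Prod.ext h1 h2

theorem add_self_char2 {M : Type*} [AddCommGroup M] [Module F M] (x : M) : x + x = 0 := by
  rw [← two_smul F x, CharTwo.two_eq_zero, zero_smul]

theorem aMap_sq : aMap (F := F) e * aMap e = 1 := by
  apply LinearMap.ext
  intro x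
  rw [Module.End.mul_apply, aMap_apply, aMap_apply, Module.End.one_apply]
  apply Prod.ext
  · show x.1 + x.2 + x.2 = x.1
    rw [add_assoc, add_self_char2 (F := F), add_zero]
  · rfl

theorem aForm_iso (x y : (Fin e ⊕ Fin e → F) × (Fin e ⊕ Fin e → F)) :
    aForm e (aMap e x) (aMap e y) = aForm e x y := by
  rw [aForm_apply, aForm_apply, aMap_apply, aMap_apply]
  show sympBilin e (F := F) (x.1 + x.2) y.2 + sympBilin e (F := F) x.2 (y.1 + y.2) = _
  rw [map_add, LinearMap.add_apply, map_add]
  have := add_self_char2 (F := F) (sympBilin e (F := F) x.2 y.2)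
  linear_combination this

omit [CharP F 2] in
theorem aMap_sub_one_apply (x : (Fin e ⊕ Fin e → F) × (Fin e ⊕ Fin e → F)) :
    (aMap (F := F) e - 1) x = (x.2, 0) := by
  rw [LinearMap.sub_apply, Module.End.one_apply, aMap_apply]
  apply Prod.ext
  · show x.1 + x.2 - x.1 = x.2
    abel
  · show x.2 - x.2 = 0
    abel

omit [CharP F 2] in
theorem aForm_self (x : (Fin e ⊕ Fin e → F) × (Fin e ⊕ Fin e → F)) :
    aForm e x ((aMap (F := F) e - 1) x) = 0 := by
  rw [aMap_sub_one_apply, aForm_apply]
  show sympBilin e (F := F) x.1 0 + sympBilin e (F := F) x.2 x.2 = 0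
  rw [map_zero, stdB_alt, add_zero]

omit [CharP F 2] in
theorem aMap_kap : kap (aMap (F := F) e - 1) 1 = 2 * e := by
  unfold kap
  rw [pow_one]
  have h1 : LinearMap.ker (aMap (F := F) e - 1) =
      LinearMap.ker (LinearMap.snd F (Fin e ⊕ Fin e → F) (Fin e ⊕ Fin e → F)) := by
    ext x
    rw [LinearMap.mem_ker, LinearMap.mem_ker, aMap_sub_one_apply]
    constructor
    · intro h
      exact congrArg Prod.fst h
    · intro h
      have h' : x.2 = 0 := h
      rw [h']
      rfl
  rw [h1]
  have h2 := LinearMap.finrank_range_add_finrank_ker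
    (LinearMap.snd F (Fin e ⊕ Fin e → F) (Fin e ⊕ Fin e → F))
  rw [Submodule.range_snd, finrank_top, Module.finrank_prod, std_finrank] at h2
  omega

end model

end Cfsg.Agent.Lib.Helper22.UniBlk
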