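import Mathlib
import Cfsg.Agent.Lib.Helper12.SpK
import Cfsg.Agent.Lib.Helper12.SpL
import Cfsg.Agent.Lib.Helper12.SpM
import Cfsg.Agent.Lib.Helper22.UniBlkC
import Cfsg.Agent.Lib.Helper22.NdCount

set_option autoImplicit false

/-!
# Prime order elements of `Sp_{2d}(q)` and invariant nondegenerate subspaces: semisimple cases
-/

namespace Cfsg.Agent.Lib.Helper22.NdElus

open Module Polynomial Cfsg.Agent.Lib.Helper12.Elus Cfsg.Agent.Lib.Helper12.Sp
  Cfsg.Agent.Lib.Helper15 Cfsg.Agent.Lib.Helper22.UniBlk Cfsg.Agent.Lib.Helper22.NdCount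

universe u

section defs

variable {F : Type u} [Field F]

/-- the matrix `A` fixes a nondegenerate `m`-space -/
def Fixes (d m : ℕ) (A : Matrix (Fin d ⊕ Fin d) (Fin d ⊕ Fin d) F) : Prop :=
  ∃ W : Submodule F (Fin d ⊕ Fin d → F), finrank F W = m ∧ NdOn (sympBilin d (F := F)) W ∧
    ∀ u ∈ W, Matrix.toLin' A u ∈ W

theorem ndOn_top (d : ℕ) : NdOn (sympBilin d (F := F)) ⊤ := by
  intro u _ hu0
  by_contra hcon
  push Not at hcon
  exact hu0 (stdB_nd d u (fun y => hcon y Submodule.mem_top))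

end defs

section abstract

variable {F V : Type*} [Field F] [AddCommGroup V] [Module F V] [FiniteDimensional F V]
  (B : LinearMap.BilinForm F V) (y : V →ₗ[F] V)

/-- `y ^ 2 = -1`: invariant nondegenerate subspaces of every even dimension -/
theorem exists_inv_nd_of_sq_neg (h2 : (2 : F) ≠ 0) (halt : ∀ v, B v v = 0)
    (hiso : ∀ u v, B (y u) (y v) = B u v) (hx : ∀ v, y (y v) = -v)
    (U : Submodule F V) (hU : ∀ u ∈ U, y u ∈ U) (hUnd : NdOn B U) (j : ℕ)
    (hj : 2 * j ≤ finrank F U) :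
    ∃ W : Submodule F V, W ≤ U ∧ (∀ u ∈ W, y u ∈ W) ∧ NdOn B W ∧ finrank F W = 2 * j := by
  have hyy : (y : Module.End F V) * (-y) = 1 := by
    apply LinearMap.ext
    intro v
    rw [Module.End.mul_apply, LinearMap.neg_apply, map_neg, hx, neg_neg, Module.End.one_apply]
  have hyy' : (-y : Module.End F V) * y = 1 := by
    apply LinearMap.ext
    intro v
    rw [Module.End.mul_apply, LinearMap.neg_apply, hx, neg_neg, Module.End.one_apply]
  induction j with
  | zero =>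
    refine ⟨⊥, bot_le, ?_, ndOn_bot B, by simp⟩
    intro u hu
    rw [(Submodule.mem_bot F).1 hu, map_zero]
    exact zero_mem _
  | succ j ih =>
    obtain ⟨W', hW'U, hW'inv, hW'nd, hW'dim⟩ := ih (by omega)
    set N := U ⊓ B.orthogonal W' with hN
    have hNnd : NdOn B N := ndOn_inf_orth B halt U W' hUnd hW'U hW'nd
    have hNdim : finrank F W' + finrank F N = finrank F U :=
      finrank_inf_orth B halt U W' hW'U hW'nd
    have hNinv : ∀ u ∈ N, y u ∈ N := fun u hu =>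
      ⟨hU u hu.1, orth_inv B y (-y) hiso hyy hyy' W' hW'inv u hu.2⟩
    have hNpos : 0 < finrank F N := by omega
    obtain ⟨⟨u, huN⟩, hu0'⟩ := (Module.finrank_pos_iff_exists_ne_zero (R := F)).1 hNpos
    have hu0 : u ≠ 0 := fun h => hu0' (Subtype.ext h)
    -- a vector with `B v (y v) ≠ 0`
    obtain ⟨v, hvN, hv⟩ : ∃ v ∈ N, B v (y v) ≠ 0 := by
      by_contra hcon
      push Not at hcon
      have hpol : ∀ a ∈ N, ∀ b ∈ N, B a (y b) = 0 := by
        intro a ha b hb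
        have h1 := hcon (a + b) (Submodule.add_mem _ ha hb)
        simp only [map_add, LinearMap.add_apply] at h1
        rw [hcon a ha, hcon b hb] at h1
        have h3 : B b (y a) = B a (y b) := by
          have h4 : B b (y a) = B (y b) (y (y a)) := (hiso b (y a)).symm
          rw [h4, hx, map_neg, alt_swap B halt]
          ring
        rw [h3] at h1
        have h5 : (2 : F) * B a (y b) = 0 := by linear_combination h1
        rcases mul_eq_zero.1 h5 with h6 | h6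
        · exact absurd h6 h2
        · exact h6
      have hyu0 : y u ≠ 0 := by
        intro h0
        apply hu0
        have := hx u
        rw [h0, map_zero] at this
        exact neg_eq_zero.1 this.symm
      obtain ⟨w, hwN, hw⟩ := hNnd (y u) (hNinv u huN) hyu0
      apply hw
      rw [alt_swap B halt, hpol w hwN u huN, neg_zero]
    obtain ⟨hHnd, hHdim⟩ := ndOn_span_pair B halt v (y v) hv
    set H := Submodule.span F {v, y v} with hH
    have hHN : H ≤ N := by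
      rw [hH, Submodule.span_le]
      intro x hx'
      rcases hx' with rfl | rfl
      · exact hvN
      · exact hNinv _ hvN
    have hHinv : ∀ u ∈ H, y u ∈ H := by
      intro u hu
      obtain ⟨α, β, rfl⟩ := Submodule.mem_span_pair.1 hu
      rw [map_add, map_smul, map_smul, hx]
      apply Submodule.add_mem
      · exact Submodule.smul_mem _ _ (Submodule.subset_span (by simp))
      · exact Submodule.smul_mem _ _ (Submodule.neg_mem _ (Submodule.subset_span (by simp)))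
    have horth : ∀ a ∈ W', ∀ c ∈ H, B a c = 0 := by
      intro a ha c hc
      exact (mem_orth B W' c).1 (hHN hc).2 a ha
    refine ⟨W' ⊔ H, sup_le hW'U (hHN.trans inf_le_left), ?_,
      ndOn_sup B halt W' H hW'nd hHnd horth, ?_⟩
    · intro u hu
      obtain ⟨a, ha, c, hc, rfl⟩ := Submodule.mem_sup.1 hu
      rw [map_add]
      exact Submodule.add_mem _ ((le_sup_left : W' ≤ W' ⊔ H) (hW'inv a ha))
        ((le_sup_right : H ≤ W' ⊔ H) (hHinv c hc))
    · have hdisj : W' ⊓ H = ⊥ := by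
        rw [eq_bot_iff]
        have h1 := (ndOn_iff_disjoint B halt W').1 hW'nd
        rw [← h1.eq_bot]
        exact inf_le_inf le_rfl (hHN.trans inf_le_right)
      have := Submodule.finrank_sup_add_finrank_inf_eq W' H
      rw [hdisj, finrank_bot, add_zero, hW'dim, hHdim] at this
      rw [this]
      ring

end abstract

section semisimple

variable {F : Type u} [Field F] [Fintype F] {p : ℕ} [Fact p.Prime] [CharP F p]

/-- splitting of the standard space along fixed and moved parts of an isometry of prime order -/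
theorem std_split (d : ℕ) (y : (Fin d ⊕ Fin d → F) →ₗ[F] (Fin d ⊕ Fin d → F)) (r : ℕ)
    [Fact r.Prime] (hr0 : (r : F) ≠ 0) (hyr : y ^ r = 1)
    (hiso : ∀ u v, sympBilin d (F := F) (y u) (y v) = sympBilin d u v) :
    NdOn (sympBilin d (F := F)) (⊤ ⊓ fixE y) ∧ NdOn (sympBilin d (F := F)) (⊤ ⊓ movR y) ∧
      finrank F ↥((⊤ : Submodule F (Fin d ⊕ Fin d → F)) ⊓ fixE y) +
        finrank F ↥((⊤ : Submodule F (Fin d ⊕ Fin d → F)) ⊓ movR y) = 2 * d := by
  have hinvtop : ∀ v ∈ (⊤ : Submodule F (Fin d ⊕ Fin d → F)), y v ∈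
      (⊤ : Submodule F (Fin d ⊕ Fin d → F)) := fun _ _ => Submodule.mem_top
  refine ⟨ndOn_inf_fix _ y hiso r hyr hr0 ⊤ hinvtop (ndOn_top d),
    ndOn_inf_mov _ y (stdB_alt d) hiso r hyr hr0 ⊤ hinvtop (ndOn_top d), ?_⟩
  have hsplit := inv_split y r hyr hr0 ⊤ hinvtop
  have hdisj : ((⊤ : Submodule F (Fin d ⊕ Fin d → F)) ⊓ fixE y) ⊓ (⊤ ⊓ movR y) = ⊥ := by
    rw [eq_bot_iff, ← fix_inf_mov y r hyr hr0]
    exact inf_le_inf inf_le_right inf_le_right
  have := Submodule.finrank_sup_add_finrank_inf_eq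
    ((⊤ : Submodule F (Fin d ⊕ Fin d → F)) ⊓ fixE y) (⊤ ⊓ movR y)
  rw [hsplit, hdisj, finrank_bot, add_zero, finrank_top, std_finrank] at this
  exact this.symm

/-- gluing a nondegenerate subspace of the fixed space to an invariant nondegenerate subspace of
the moved space -/
theorem glue_fix_mov (d : ℕ) (y : (Fin d ⊕ Fin d → F) →ₗ[F] (Fin d ⊕ Fin d → F)) (r : ℕ)
    [Fact r.Prime] (hr0 : (r : F) ≠ 0) (hyr : y ^ r = 1)
    (hiso : ∀ u v, sympBilin d (F := F) (y u) (y v) = sympBilin d u v)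
    (W₁ W₂ : Submodule F (Fin d ⊕ Fin d → F)) (hW₁ : W₁ ≤ ⊤ ⊓ movR y)
    (hW₁inv : ∀ u ∈ W₁, y u ∈ W₁) (hW₁nd : NdOn (sympBilin d (F := F)) W₁)
    (hW₂ : W₂ ≤ ⊤ ⊓ fixE y) (hW₂nd : NdOn (sympBilin d (F := F)) W₂) :
    ∃ W : Submodule F (Fin d ⊕ Fin d → F), finrank F W = finrank F W₁ + finrank F W₂ ∧
      NdOn (sympBilin d (F := F)) W ∧ ∀ u ∈ W, y u ∈ W := by
  have horth : ∀ a ∈ W₁, ∀ c ∈ W₂, sympBilin d (F := F) a c = 0 := by
    intro a ha c hc
    rw [alt_swap _ (stdB_alt d)]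
    rw [fix_orth_mov _ y hiso c a (hW₂ hc).2 (hW₁ ha).2, neg_zero]
  refine ⟨W₁ ⊔ W₂, ?_, ndOn_sup _ (stdB_alt d) W₁ W₂ hW₁nd hW₂nd horth, ?_⟩
  · have hdisj : W₁ ⊓ W₂ = ⊥ := by
      rw [eq_bot_iff, ← fix_inf_mov y r hyr hr0]
      intro v hv
      exact ⟨(hW₂ hv.2).2, (hW₁ hv.1).2⟩
    have := Submodule.finrank_sup_add_finrank_inf_eq W₁ W₂
    rw [hdisj, finrank_bot, add_zero] at this
    exact this
  · intro u hu
    obtain ⟨a, ha, c, hc, rfl⟩ := Submodule.mem_sup.1 hu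
    rw [map_add]
    apply Submodule.add_mem
    · exact (le_sup_left : W₁ ≤ W₁ ⊔ W₂) (hW₁inv a ha)
    · rw [(mem_fixE y c).1 (hW₂ hc).2]
      exact (le_sup_right : W₂ ≤ W₁ ⊔ W₂) hc

/-- odd `r ≠ p`: sufficiency -/
theorem bwd_odd (d m : ℕ) (hd : 1 ≤ d) (hme : Even m) (hmd : m ≤ 2 * d) (r : ℕ) [Fact r.Prime]
    (hr2 : r ≠ 2) (hrp : r ≠ p)
    (h1 : m % blockDim (Fintype.card F) r ≤ (2 * d) % blockDim (Fintype.card F) r)
    (A : Matrix (Fin d ⊕ Fin d) (Fin d ⊕ Fin d) F) (hA : A ∈ Matrix.symplecticGroup (Fin d) F)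
    (z : F) (hz : A ^ r = z • (1 : Matrix (Fin d ⊕ Fin d) (Fin d ⊕ Fin d) F)) :
    Fixes d m A := by
  have hr : r.Prime := Fact.out
  set B := sympBilin d (F := F) with hB
  set y₀ := Matrix.toLin' A with hy₀
  have halt : ∀ v, B v v = 0 := stdB_alt d
  have hnd : ∀ x, (∀ y, B x y = 0) → x = 0 := stdB_nd d
  have hiso₀ : ∀ u v, B (y₀ u) (y₀ v) = B u v := std_iso d A hA
  have hy₀r : y₀ ^ r = z • 1 := by
    rw [hy₀, ← Matrix.toLin'_pow, hz, map_smul, Matrix.toLin'_one]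
    rfl
  haveI : Nontrivial (Fin d ⊕ Fin d → F) := by
    haveI : Nonempty (Fin d ⊕ Fin d) := ⟨Sum.inl ⟨0, by omega⟩⟩
    infer_instance
  have hzz : z * z = 1 := by
    apply scalar_sq_eq_one B hnd z
    intro u v
    have := iso_pow B y₀ hiso₀ r u v
    rw [hy₀r] at this
    exact this
  obtain ⟨k₀, hk₀⟩ := hr.odd_of_ne_two hr2
  have hzr : z ^ r = z := by
    rw [hk₀, pow_succ, pow_mul, pow_two, hzz, one_pow, one_mul]
  set y := z • y₀ with hy
  have hyr : y ^ r = 1 := by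
    rw [hy, _root_.smul_pow, hy₀r, hzr, smul_smul, hzz, one_smul]
  have hiso : ∀ u v, B (y u) (y v) = B u v := by
    intro u v
    rw [hy, LinearMap.smul_apply, LinearMap.smul_apply, map_smul, map_smul, LinearMap.smul_apply,
      smul_eq_mul, smul_eq_mul, ← mul_assoc, hzz, one_mul, hiso₀]
  have hr0 : (r : F) ≠ 0 := by
    rw [Ne, CharP.cast_eq_zero_iff F p]
    intro hd'
    exact hrp ((Nat.prime_dvd_prime_iff_eq Fact.out Fact.out).1 hd').symm
  set c := blockDim (Fintype.card F) r with hc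
  have hcpos : 0 < c := blockDim_pos (F := F) r hrp
  have hcev : Even c := even_blockDim r _
  obtain ⟨hFnd, hMnd, hdims⟩ := std_split d y r hr0 hyr hiso
  have hMinv : ∀ u ∈ (⊤ : Submodule F (Fin d ⊕ Fin d → F)) ⊓ movR y, y u ∈
      (⊤ : Submodule F (Fin d ⊕ Fin d → F)) ⊓ movR y :=
    fun u hu => ⟨Submodule.mem_top, movR_invariant y u hu.2⟩
  obtain ⟨⟨j, hj⟩, hchain⟩ := exists_nd_chain B y r halt hiso hrp hr2 hyr _
    ((⊤ : Submodule F (Fin d ⊕ Fin d → F)) ⊓ movR y) rfl hMinv inf_le_right hMnd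
  rw [← hc] at hj
  simp only [← hc] at hchain
  -- the general construction
  have key : ∀ k : ℕ, k ≤ j → c * k ≤ m →
      m - c * k ≤ finrank F ↥((⊤ : Submodule F (Fin d ⊕ Fin d → F)) ⊓ fixE y) →
      ∃ W : Submodule F (Fin d ⊕ Fin d → F), finrank F W = m ∧ NdOn B W ∧ ∀ u ∈ W, y u ∈ W := by
    intro k hkj hkm hle
    obtain ⟨W₁, hW₁M, hW₁inv, hW₁nd, hW₁dim⟩ := hchain k (by
      rw [hj]
      exact Nat.mul_le_mul_left _ hkj)
    have hev : Even (m - c * k) := (Nat.even_sub hkm).2 ⟨fun _ => hcev.mul_right k, fun _ => hme⟩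
    obtain ⟨t, ht⟩ := hev
    obtain ⟨W₂, hW₂F, hW₂nd, hW₂dim⟩ := exists_ndOn_sub B halt _ hFnd t (by omega)
    obtain ⟨W, hWdim, hWnd, hWinv⟩ :=
      glue_fix_mov d y r hr0 hyr hiso W₁ W₂ hW₁M hW₁inv hW₁nd hW₂F hW₂nd
    refine ⟨W, ?_, hWnd, hWinv⟩
    rw [hWdim, hW₁dim, hW₂dim]
    omega
  have hmdiv : c * (m / c) + m % c = m := Nat.div_add_mod m c
  have hddiv : c * ((2 * d) / c) + (2 * d) % c = 2 * d := Nat.div_add_mod (2 * d) c
  obtain ⟨W, hWdim, hWnd, hWinv⟩ : ∃ W : Submodule F (Fin d ⊕ Fin d → F),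
      finrank F W = m ∧ NdOn B W ∧ ∀ u ∈ W, y u ∈ W := by
    rcases le_total (m / c) j with hle | hle
    · apply key (m / c) hle (by omega)
      have hjD : j ≤ (2 * d) / c := by
        rw [Nat.le_div_iff_mul_le hcpos, mul_comm]
        omega
      have := Nat.mul_le_mul_left c hjD
      omega
    · apply key j le_rfl
      · have := Nat.mul_le_mul_left c hle
        omega
      · omega
  refine ⟨W, hWdim, hWnd, ?_⟩
  intro u hu
  have h3 := hWinv u hu
  rw [hy, LinearMap.smul_apply] at h3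
  have h4 := Submodule.smul_mem W z h3
  rwa [smul_smul, hzz, one_smul] at h4

/-- odd `r ≠ p`: necessity -/
theorem fwd_odd (d k m : ℕ) (hd : 2 ≤ d) (hk : 1 ≤ k) (hm : m = 2 * k) (hmd : m < d) (r : ℕ)
    [Fact r.Prime] (hr2 : r ≠ 2) (hrp : r ≠ p)
    (hrΩ : r ∣ Nat.card (NY (F := F) d k))
    (H : ∀ A : Matrix (Fin d ⊕ Fin d) (Fin d ⊕ Fin d) F, A ∈ Matrix.symplecticGroup (Fin d) F →
      A ^ r = 1 → (∀ z : F, A ≠ z • (1 : Matrix (Fin d ⊕ Fin d) (Fin d ⊕ Fin d) F)) →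
      Fixes d m A) :
    blockDim (Fintype.card F) r ≤ m ∧
      m % blockDim (Fintype.card F) r ≤ (2 * d) % blockDim (Fintype.card F) r := by
  classical
  have hr : r.Prime := Fact.out
  have hr0 : (r : F) ≠ 0 := by
    rw [Ne, CharP.cast_eq_zero_iff F p]
    intro hd'
    exact hrp ((Nat.prime_dvd_prime_iff_eq Fact.out Fact.out).1 hd').symm
  set B := sympBilin d (F := F) with hB
  have halt : ∀ v, B v v = 0 := stdB_alt d
  set c := blockDim (Fintype.card F) r with hc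
  have hcpos : 0 < c := blockDim_pos (F := F) r hrp
  have hq : 0 < Fintype.card F := Fintype.card_pos
  obtain ⟨j, hjk, hjdvd⟩ := exists_dvd_of_dvd_card_nd (F := F) (p := p) d k (by omega) r hr hrp hrΩ
  have hidvd : orderOf (Fintype.card F : ZMod r) ∣ 2 * (d - j) :=
    orderOf_dvd_of_dvd_pow_sub_one r _ _ hq hjdvd
  have hcdvd : c ∣ 2 * (d - j) := blockDim_dvd_of_dvd_two_mul _ r _ hidvd
  have hc2d : c ≤ 2 * d := by
    have := Nat.le_of_dvd (by omega) hcdvd
    omega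
  have hνlt : (2 * d) % c < c := Nat.mod_lt _ hcpos
  -- (N1)
  have hN1 : m % c ≤ (2 * d) % c := by
    obtain ⟨A, hA, hAr, hfix, -⟩ := exists_sp_model (F := F) r hr2 hrp d ((2 * d) % c)
      ((2 * d) / c) (Nat.mod_add_div _ _).symm
    have hns := nonscalar_of_fix d (by omega) r hr2 A hA hAr (by rw [hfix]; omega)
    obtain ⟨W, hWdim, hWnd, hWinv⟩ := H A hA hAr hns
    set y := Matrix.toLin' A with hy
    have hyr : y ^ r = 1 := by
      rw [hy, ← Matrix.toLin'_pow, hAr, Matrix.toLin'_one]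
      rfl
    have hiso : ∀ u v, B (y u) (y v) = B u v := std_iso d A hA
    have hsplit := inv_split y r hyr hr0 W hWinv
    have hdisj : (W ⊓ fixE y) ⊓ (W ⊓ movR y) = ⊥ := by
      rw [eq_bot_iff, ← fix_inf_mov y r hyr hr0]
      exact inf_le_inf inf_le_right inf_le_right
    have hsum := Submodule.finrank_sup_add_finrank_inf_eq (W ⊓ fixE y) (W ⊓ movR y)
    rw [hsplit, hdisj, finrank_bot, add_zero, hWdim] at hsum
    have hMnd : NdOn B (W ⊓ movR y) := ndOn_inf_mov B y halt hiso r hyr hr0 W hWinv hWnd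
    have hMinv : ∀ u ∈ W ⊓ movR y, y u ∈ W ⊓ movR y :=
      fun u hu => ⟨hWinv u hu.1, movR_invariant y u hu.2⟩
    obtain ⟨⟨b, hb⟩, -⟩ := exists_nd_chain B y r halt hiso hrp hr2 hyr _ (W ⊓ movR y) rfl hMinv
      inf_le_right hMnd
    rw [← hc] at hb
    have hFle : finrank F ↥(W ⊓ fixE y) ≤ (2 * d) % c := by
      rw [← hfix]
      exact Submodule.finrank_mono inf_le_right
    have h3 : m % c = finrank F ↥(W ⊓ fixE y) := by
      rw [hsum, hb, Nat.add_mul_mod_self_left, Nat.mod_eq_of_lt (by omega)]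
    omega
  refine ⟨?_, hN1⟩
  by_contra hlt
  push Not at hlt
  rw [Nat.mod_eq_of_lt hlt] at hN1
  obtain ⟨t, ht⟩ := hcdvd
  have h1 : 2 * d = 2 * j + c * t := by omega
  have h2 : (2 * d) % c = 2 * j := by
    rw [h1, Nat.add_mul_mod_self_left, Nat.mod_eq_of_lt (by omega)]
  omega

/-- `r = 2 ≠ p`: every element fixes a nondegenerate `m`-space -/
theorem bwd_two (d m : ℕ) (hd : 1 ≤ d) (hme : Even m) (hmd : m ≤ 2 * d) (hp2 : p ≠ 2)
    (A : Matrix (Fin d ⊕ Fin d) (Fin d ⊕ Fin d) F) (hA : A ∈ Matrix.symplecticGroup (Fin d) F)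
    (z : F) (hz : A ^ 2 = z • (1 : Matrix (Fin d ⊕ Fin d) (Fin d ⊕ Fin d) F)) :
    Fixes d m A := by
  set B := sympBilin d (F := F) with hB
  set y₀ := Matrix.toLin' A with hy₀
  have halt : ∀ v, B v v = 0 := stdB_alt d
  have hnd : ∀ x, (∀ y, B x y = 0) → x = 0 := stdB_nd d
  have hfin : finrank F (Fin d ⊕ Fin d → F) = 2 * d := std_finrank d
  have hiso₀ : ∀ u v, B (y₀ u) (y₀ v) = B u v := std_iso d A hA
  have hy₀r : y₀ ^ 2 = z • 1 := by
    rw [hy₀, ← Matrix.toLin'_pow, hz, map_smul, Matrix.toLin'_one]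
    rfl
  haveI : Nontrivial (Fin d ⊕ Fin d → F) := by
    haveI : Nonempty (Fin d ⊕ Fin d) := ⟨Sum.inl ⟨0, by omega⟩⟩
    infer_instance
  have hzz : z * z = 1 := by
    apply scalar_sq_eq_one B hnd z
    intro u v
    have := iso_pow B y₀ hiso₀ 2 u v
    rw [hy₀r] at this
    exact this
  have h2n : ((2 : ℕ) : F) ≠ 0 := by
    rw [Ne, CharP.cast_eq_zero_iff F p]
    intro hd'
    exact hp2 ((Nat.prime_dvd_prime_iff_eq Fact.out Nat.prime_two).1 hd')
  have h2 : (2 : F) ≠ 0 := by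
    have := h2n
    rwa [Nat.cast_ofNat] at this
  have hz1 : z = 1 ∨ z = -1 := by
    have h3 : (z - 1) * (z + 1) = 0 := by linear_combination hzz
    rcases mul_eq_zero.1 h3 with h | h
    · left; exact sub_eq_zero.1 h
    · right; exact eq_neg_of_add_eq_zero_left h
  obtain ⟨t, ht⟩ := hme
  rcases hz1 with rfl | rfl
  · rw [one_smul] at hy₀r
    obtain ⟨hFnd, hMnd, hdims⟩ := std_split d y₀ 2 h2n hy₀r hiso₀
    have hFev := even_finrank_of_ndOn B halt _ hFnd
    obtain ⟨a, ha⟩ := hFev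
    -- subspaces of the moved space are invariant
    have hneg : ∀ w ∈ movR y₀, y₀ w = -w := by
      rintro _ ⟨x, rfl⟩
      have h5 : y₀ (y₀ x) = x := by
        have := congrArg (fun g : (Fin d ⊕ Fin d → F) →ₗ[F] (Fin d ⊕ Fin d → F) => g x) hy₀r
        simpa [pow_two] using this
      rw [LinearMap.sub_apply, Module.End.one_apply, map_sub, h5]
      abel
    have key : ∀ j₁ j₂ : ℕ, j₁ + j₂ = t →
        2 * j₁ ≤ finrank F ↥((⊤ : Submodule F (Fin d ⊕ Fin d → F)) ⊓ movR y₀) →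
        2 * j₂ ≤ finrank F ↥((⊤ : Submodule F (Fin d ⊕ Fin d → F)) ⊓ fixE y₀) →
        Fixes d m A := by
      intro j₁ j₂ hjj h1 h2'
      obtain ⟨W₁, hW₁M, hW₁nd, hW₁dim⟩ := exists_ndOn_sub B halt _ hMnd j₁ h1
      obtain ⟨W₂, hW₂F, hW₂nd, hW₂dim⟩ := exists_ndOn_sub B halt _ hFnd j₂ h2'
      have hW₁inv : ∀ u ∈ W₁, y₀ u ∈ W₁ := by
        intro u hu
        rw [hneg u (hW₁M hu).2]
        exact Submodule.neg_mem _ hu
      obtain ⟨W, hWdim, hWnd, hWinv⟩ :=
        glue_fix_mov d y₀ 2 h2n hy₀r hiso₀ W₁ W₂ hW₁M hW₁inv hW₁nd hW₂F hW₂nd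
      refine ⟨W, ?_, hWnd, hWinv⟩
      rw [hWdim, hW₁dim, hW₂dim]
      omega
    rcases le_total t a with hle | hle
    · exact key 0 t (by omega) (by omega) (by omega)
    · exact key (t - a) a (by omega) (by omega) (by omega)
  · have hx : ∀ v, y₀ (y₀ v) = -v := by
      intro v
      have := congrArg (fun g : (Fin d ⊕ Fin d → F) →ₗ[F] (Fin d ⊕ Fin d → F) => g v) hy₀r
      simpa [pow_two] using this
    obtain ⟨W, -, hWinv, hWnd, hWdim⟩ := exists_inv_nd_of_sq_neg B y₀ h2 halt hiso₀ hx ⊤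
      (fun _ _ => Submodule.mem_top) (ndOn_top d) t (by rw [finrank_top, hfin]; omega)
    exact ⟨W, by rw [hWdim]; omega, hWnd, hWinv⟩

end semisimple

end Cfsg.Agent.Lib.Helper22.NdElus
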