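import Mathlib
import Cfsg.Agent.Lib.Helper22.NdElusA
import Cfsg.Agent.Lib.Helper15.UniModels
import Cfsg.Agent.Lib.Helper15.UniJordan
import Cfsg.Agent.Lib.Helper12.ElusM

set_option autoImplicit false

/-!
# Prime order elements of `Sp_{2d}(q)` and invariant nondegenerate subspaces: unipotent cases
-/

namespace Cfsg.Agent.Lib.Helper22.NdElus

open Module Polynomial Cfsg.Agent.Lib.Helper12.Elus Cfsg.Agent.Lib.Helper12.Sp
  Cfsg.Agent.Lib.Helper15 Cfsg.Agent.Lib.Helper22.UniBlk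
  Cfsg.Agent.Lib.Helper15.SemisimpleConj Cfsg.Agent.Lib.Helper15.NilpotentConj
  Cfsg.Agent.Lib.Helper15.UniForm Cfsg.Agent.Lib.Helper15.UniModels
  Cfsg.Agent.Lib.Helper15.UniJordan

universe u

section unipotent

variable {F : Type u} [Field F] [Fintype F] {p : ℕ} [Fact p.Prime] [CharP F p]

/-- `r = p` odd: sufficiency of the partition condition -/
theorem bwd_unip_odd (d m : ℕ) (hd : 1 ≤ d) (hp2 : p ≠ 2)
    (hpart : ∀ μ : Multiset ℕ, (∀ a ∈ μ, 0 < a ∧ a ≤ p) → (∀ a : ℕ, Odd a → Even (μ.count a)) →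
      μ.sum = 2 * d → ∃ ν : Multiset ℕ, ν ≤ μ ∧ ν.sum = m ∧ ∀ a : ℕ, Odd a → Even (ν.count a))
    (A : Matrix (Fin d ⊕ Fin d) (Fin d ⊕ Fin d) F) (hA : A ∈ Matrix.symplecticGroup (Fin d) F)
    (z : F) (hz : A ^ p = z • (1 : Matrix (Fin d ⊕ Fin d) (Fin d ⊕ Fin d) F)) :
    Fixes d m A := by
  have hp : p.Prime := Fact.out
  set B := sympBilin d (F := F) with hB
  set y₀ := Matrix.toLin' A with hy₀
  have halt : ∀ v, B v v = 0 := stdB_alt d
  have hnd : ∀ x, (∀ y, B x y = 0) → x = 0 := stdB_nd d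
  have hfin : finrank F (Fin d ⊕ Fin d → F) = 2 * d := std_finrank d
  have hiso₀ : ∀ u v, B (y₀ u) (y₀ v) = B u v := std_iso d A hA
  have hy₀r : y₀ ^ p = z • 1 := by
    rw [hy₀, ← Matrix.toLin'_pow, hz, map_smul, Matrix.toLin'_one]
    rfl
  haveI : Nontrivial (Fin d ⊕ Fin d → F) := by
    haveI : Nonempty (Fin d ⊕ Fin d) := ⟨Sum.inl ⟨0, by omega⟩⟩
    infer_instance
  have hzz : z * z = 1 := by
    apply scalar_sq_eq_one B hnd z
    intro u v
    have := iso_pow B y₀ hiso₀ p u v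
    rw [hy₀r] at this
    exact this
  obtain ⟨k₀, hk₀⟩ := hp.odd_of_ne_two hp2
  have hzr : z ^ p = z := by
    rw [hk₀, pow_succ, pow_mul, pow_two, hzz, one_pow, one_mul]
  set y := z • y₀ with hy
  have hyr : y ^ p = 1 := by
    rw [hy, _root_.smul_pow, hy₀r, hzr, smul_smul, hzz, one_smul]
  have hiso : ∀ u v, B (y u) (y v) = B u v := by
    intro u v
    rw [hy, LinearMap.smul_apply, LinearMap.smul_apply, map_smul, map_smul, LinearMap.smul_apply,
      smul_eq_mul, smul_eq_mul, ← mul_assoc, hzz, one_mul, hiso₀]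
  have h2 : (2 : F) ≠ 0 := by
    have h2n : ((2 : ℕ) : F) ≠ 0 := by
      rw [Ne, CharP.cast_eq_zero_iff F p]
      intro hd'
      exact hp2 ((Nat.prime_dvd_prime_iff_eq Fact.out Nat.prime_two).1 hd')
    rwa [Nat.cast_ofNat] at h2n
  have hp1 : p - 1 + 1 = p := by have := hp.two_le; omega
  have hTT' : (y : Module.End F (Fin d ⊕ Fin d → F)) * y ^ (p - 1) = 1 := by
    rw [← pow_succ', hp1, hyr]
  have hT'T : (y : Module.End F (Fin d ⊕ Fin d → F)) ^ (p - 1) * y = 1 := by
    rw [← pow_succ, hp1, hyr]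
  have hNp : (y - 1 : Module.End F (Fin d ⊕ Fin d → F)) ^ p = 0 := by
    rw [sub_one_pow_char_end, hyr, sub_self]
  obtain ⟨μ, hμ1, hμpar, hμsum, hμsel⟩ := udec_odd B y (y ^ (p - 1)) h2 halt hiso hTT' hT'T
    ⟨p, hNp⟩ (2 * d) ⊤ (by rw [finrank_top, hfin]) (fun _ _ => Submodule.mem_top) (ndOn_top d)
  have hμ : ∀ a ∈ μ, 0 < a ∧ a ≤ p := by
    intro a ha
    obtain ⟨h1, u, -, hu⟩ := hμ1 a ha
    refine ⟨h1, ?_⟩
    by_contra hlt
    push Not at hlt
    apply hu
    have : (y - 1 : Module.End F (Fin d ⊕ Fin d → F)) ^ (a - 1) =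
        (y - 1) ^ (a - 1 - p) * (y - 1) ^ p := by
      rw [← pow_add]
      congr 1
      omega
    rw [this, hNp, mul_zero]
    rfl
  obtain ⟨ν, hνle, hνsum, hνpar⟩ := hpart μ hμ hμpar hμsum
  obtain ⟨W, -, hWinv, hWnd, hWdim⟩ := hμsel ν hνle hνpar
  refine ⟨W, by rw [hWdim, hνsum], hWnd, ?_⟩
  intro u hu
  have h3 := hWinv u hu
  rw [hy, LinearMap.smul_apply] at h3
  have h4 := Submodule.smul_mem W z h3
  rwa [smul_smul, hzz, one_smul] at h4

/-- `r = p` odd: necessity of the partition condition -/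
theorem fwd_unip_odd (d m : ℕ) (hd : 1 ≤ d) (hme : Even m) (hmd : m ≤ 2 * d)
    (H : ∀ A : Matrix (Fin d ⊕ Fin d) (Fin d ⊕ Fin d) F, A ∈ Matrix.symplecticGroup (Fin d) F →
      A ^ p = 1 → (∀ z : F, A ≠ z • (1 : Matrix (Fin d ⊕ Fin d) (Fin d ⊕ Fin d) F)) →
      Fixes d m A)
    (μ : Multiset ℕ) (hμ : ∀ a ∈ μ, 0 < a ∧ a ≤ p) (hpar : ∀ a : ℕ, Odd a → Even (μ.count a))
    (hsum : μ.sum = 2 * d) :
    ∃ ν : Multiset ℕ, ν ≤ μ ∧ ν.sum = m ∧ ∀ a : ℕ, Odd a → Even (ν.count a) := by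
  classical
  have hp : p.Prime := Fact.out
  by_cases hall : ∀ a ∈ μ, a ≤ 1
  · -- all parts are one
    have hμ1 : μ = Multiset.replicate (Multiset.card μ) 1 := by
      rw [Multiset.eq_replicate]
      refine ⟨rfl, fun b hb => ?_⟩
      have h1 := hall b hb
      have h2 := (hμ b hb).1
      omega
    have hcard : Multiset.card μ = 2 * d := by
      rw [← hsum]
      conv_rhs => rw [hμ1]
      rw [Multiset.sum_replicate, smul_eq_mul, mul_one]
    refine ⟨Multiset.replicate m 1, ?_, ?_, ?_⟩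
    · rw [hμ1, hcard, Multiset.replicate_le_replicate]
      exact hmd
    · rw [Multiset.sum_replicate, smul_eq_mul, mul_one]
    · intro a _
      rw [Multiset.count_replicate]
      split_ifs
      · exact hme
      · exact Even.zero
  · push Not at hall
    obtain ⟨a₀, ha₀μ, ha₀⟩ := hall
    have hμ1 : ∀ b ∈ μ, 1 ≤ b := fun b hb => (hμ b hb).1
    have hSp : SpU F μ := by
      apply build_of_parity (P := SpU F) Odd spU_zero (fun _ _ => SpU.add) _
        (fun j _ _ => spU_pair j) μ hμ1 hpar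
      intro j hj hodd
      rw [Nat.not_odd_iff_even] at hodd
      obtain ⟨k, rfl⟩ := hodd
      rw [← two_mul]
      exact spU_single k (by omega)
    obtain ⟨W, _, _, _, T, β, halt', hnd', hinv', hnil', hk'⟩ := hSp
    have hfr : finrank F W = 2 * d := by
      rw [finrank_of_kap (T - 1) _ hk' hnil', hsum]
    obtain ⟨A, φ, hA, hφ, hconj⟩ := exists_sp_matrix β (fun x => halt' x) hnd' T hinv' d hfr
    set B := sympBilin d (F := F) with hB
    set y := Matrix.toLin' A with hy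
    have halt : ∀ v, B v v = 0 := stdB_alt d
    have hfin : finrank F (Fin d ⊕ Fin d → F) = 2 * d := std_finrank d
    have hiso : ∀ u v, B (y u) (y v) = B u v := std_iso d A hA
    have hC : Conj (T - 1) (y - 1) := by
      refine ⟨φ, fun v => ?_⟩
      rw [LinearMap.sub_apply, LinearMap.sub_apply, Module.End.one_apply, Module.End.one_apply,
        map_sub, hconj]
    have hk : ∀ s, kap (y - 1) s = kapm μ s := fun s => by rw [← kap_conj hC s, hk']
    have hNp : (y - 1 : Module.End F (Fin d ⊕ Fin d → F)) ^ p = 0 := by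
      rw [pow_eq_zero_iff_kap, hk, hfin, ← hsum, kapm_eq_sum_iff]
      exact fun a ha => (hμ a ha).2
    have hyp : y ^ p = 1 := by
      have := sub_one_pow_char_end p y
      rw [hNp] at this
      exact (sub_eq_zero.1 this.symm)
    have hAp : A ^ p = 1 := by
      apply Matrix.toLin'.injective
      rw [Matrix.toLin'_pow, Matrix.toLin'_one]
      exact hyp
    have hns : ∀ z : F, A ≠ z • (1 : Matrix (Fin d ⊕ Fin d) (Fin d ⊕ Fin d) F) := by
      intro z hz
      have hyz : y - 1 = (z - 1) • (1 : Module.End F (Fin d ⊕ Fin d → F)) := by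
        rw [hy, hz, map_smul, Matrix.toLin'_one]
        apply LinearMap.ext
        intro v
        simp only [LinearMap.sub_apply, LinearMap.smul_apply, LinearMap.id_apply,
          Module.End.one_apply, sub_smul, one_smul]
      have hk1 : kapm μ 1 ≠ μ.sum := by
        rw [Ne, kapm_eq_sum_iff]
        intro h
        exact absurd (h a₀ ha₀μ) (not_le.2 ha₀)
      by_cases hz1 : z = 1
      · apply hk1
        rw [← hk 1, hsum, ← hfin, ← pow_eq_zero_iff_kap, hyz, hz1, sub_self, zero_smul, pow_one]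
      · have h0 : (y - 1 : Module.End F (Fin d ⊕ Fin d → F)) ^ p =
            ((z - 1) ^ p) • (1 : Module.End F (Fin d ⊕ Fin d → F)) := by
          rw [hyz, _root_.smul_pow, one_pow]
        rw [hNp] at h0
        have h1 : ((z - 1) ^ p) • (1 : Module.End F (Fin d ⊕ Fin d → F)) ≠ 0 := by
          haveI : Nontrivial (Fin d ⊕ Fin d → F) := by
            haveI : Nonempty (Fin d ⊕ Fin d) := ⟨Sum.inl ⟨0, by omega⟩⟩
            infer_instance
          intro h
          rcases smul_eq_zero.1 h with h' | h'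
          · exact (pow_ne_zero _ (sub_ne_zero.2 hz1)) h'
          · exact one_ne_zero h'
        exact h1 h0.symm
    obtain ⟨W₁, hW₁dim, hW₁nd, hW₁inv⟩ := H A hA hAp hns
    -- the inverse
    have h1 : ((⟨A, hA⟩ : Matrix.symplecticGroup (Fin d) F)⁻¹).val * A = 1 :=
      SymIso.sp_val_inv_mul ⟨A, hA⟩
    have h2 : A * ((⟨A, hA⟩ : Matrix.symplecticGroup (Fin d) F)⁻¹).val = 1 :=
      SymIso.sp_val_mul_inv ⟨A, hA⟩
    set y' := Matrix.toLin' ((⟨A, hA⟩ : Matrix.symplecticGroup (Fin d) F)⁻¹).val with hy'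
    have hyy' : (y : Module.End F (Fin d ⊕ Fin d → F)) * y' = 1 := by
      rw [Module.End.mul_eq_comp, hy, hy', ← Matrix.toLin'_mul, h2, Matrix.toLin'_one]
      rfl
    have hy'y : (y' : Module.End F (Fin d ⊕ Fin d → F)) * y = 1 := by
      rw [Module.End.mul_eq_comp, hy, hy', ← Matrix.toLin'_mul, h1, Matrix.toLin'_one]
      rfl
    obtain ⟨ν, hνle, hνsum, hνpar, -⟩ := sp_sub_type B y y' halt hyy' hy'y hiso ⟨p, hNp⟩ μ hμ1 hk
      W₁ hW₁inv hW₁nd
    exact ⟨ν, hνle, by rw [hνsum, hW₁dim], hνpar⟩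

/-- `r = p = 2`: sufficiency -/
theorem bwd_char2 (d m : ℕ) (hd : 1 ≤ d) (hme : Even m) (hmd : m ≤ 2 * d) (hp2 : p = 2)
    (hcase : (2 * d) % 4 = 2 ∨ m % 4 = 0)
    (A : Matrix (Fin d ⊕ Fin d) (Fin d ⊕ Fin d) F) (hA : A ∈ Matrix.symplecticGroup (Fin d) F)
    (z : F) (hz : A ^ 2 = z • (1 : Matrix (Fin d ⊕ Fin d) (Fin d ⊕ Fin d) F)) :
    Fixes d m A := by
  subst hp2
  set B := sympBilin d (F := F) with hB
  set y := Matrix.toLin' A with hy
  have halt : ∀ v, B v v = 0 := stdB_alt d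
  have hnd : ∀ x, (∀ y, B x y = 0) → x = 0 := stdB_nd d
  have hfin : finrank F (Fin d ⊕ Fin d → F) = 2 * d := std_finrank d
  have hiso : ∀ u v, B (y u) (y v) = B u v := std_iso d A hA
  have hyr : y ^ 2 = z • 1 := by
    rw [hy, ← Matrix.toLin'_pow, hz, map_smul, Matrix.toLin'_one]
    rfl
  haveI : Nontrivial (Fin d ⊕ Fin d → F) := by
    haveI : Nonempty (Fin d ⊕ Fin d) := ⟨Sum.inl ⟨0, by omega⟩⟩
    infer_instance
  have hzz : z * z = 1 := by
    apply scalar_sq_eq_one B hnd z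
    intro u v
    have := iso_pow B y hiso 2 u v
    rw [hyr] at this
    exact this
  have hz1 : z = 1 := eq_one_of_pow_char_eq_one 2 z (by rw [pow_two, hzz])
  rw [hz1, one_smul] at hyr
  have hyy : (y : Module.End F (Fin d ⊕ Fin d → F)) * y = 1 := by rw [← pow_two, hyr]
  have hsq : (y - 1 : Module.End F (Fin d ⊕ Fin d → F)) ^ 2 = 0 := by
    rw [sub_one_pow_char_end 2, hyr, sub_self]
  obtain ⟨e, f, hef, hsel⟩ := udec_two B y y halt hiso hyy hyy hsq (2 * d) ⊤
    (by rw [finrank_top, hfin]) (fun _ _ => Submodule.mem_top) (ndOn_top d)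
  obtain ⟨t, ht⟩ := hme
  have key : ∀ e' f' : ℕ, e' ≤ e → f' ≤ f → 2 * e' + 4 * f' = m → Fixes d m A := by
    intro e' f' he' hf' hm
    obtain ⟨W, -, hWinv, hWnd, hWdim⟩ := hsel e' f' he' hf'
    exact ⟨W, by rw [hWdim, hm], hWnd, hWinv⟩
  rcases le_total f (m / 4) with hle | hle
  · exact key ((m - 4 * f) / 2) f (by omega) le_rfl (by omega)
  · exact key ((m % 4) / 2) (m / 4) (by omega) hle (by omega)

/-- `r = p = 2`: necessity -/
theorem fwd_char2 (d m : ℕ) (hd : 2 ≤ d) (hp2 : p = 2)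
    (H : ∀ A : Matrix (Fin d ⊕ Fin d) (Fin d ⊕ Fin d) F, A ∈ Matrix.symplecticGroup (Fin d) F →
      A ^ 2 = 1 → (∀ z : F, A ≠ z • (1 : Matrix (Fin d ⊕ Fin d) (Fin d ⊕ Fin d) F)) →
      Fixes d m A) :
    (2 * d) % 4 = 2 ∨ m % 4 = 0 := by
  classical
  subst hp2
  by_contra hcon
  push Not at hcon
  obtain ⟨hd4, hm4⟩ := hcon
  obtain ⟨e, he⟩ : ∃ e, d = 2 * e := ⟨d / 2, by omega⟩
  have hfr : finrank F ((Fin e ⊕ Fin e → F) × (Fin e ⊕ Fin e → F)) = 2 * d := by
    rw [Module.finrank_prod, std_finrank]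
    omega
  obtain ⟨A, φ, hA, hφ, hconj⟩ := exists_sp_matrix (aForm (F := F) e) (aForm_alt e) (aForm_nd e)
    (aMap e) (aForm_iso e) d hfr
  set B := sympBilin d (F := F) with hB
  set y := Matrix.toLin' A with hy
  have halt : ∀ v, B v v = 0 := stdB_alt d
  have hfin : finrank F (Fin d ⊕ Fin d → F) = 2 * d := std_finrank d
  have hiso : ∀ u v, B (y u) (y v) = B u v := std_iso d A hA
  have hyy : (y : Module.End F (Fin d ⊕ Fin d → F)) * y = 1 := by
    apply LinearMap.ext
    intro v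
    obtain ⟨x, rfl⟩ := φ.surjective v
    rw [Module.End.mul_apply, hconj, hconj, Module.End.one_apply]
    have := congrArg (fun X : Module.End F ((Fin e ⊕ Fin e → F) × (Fin e ⊕ Fin e → F)) => X x)
      (aMap_sq (F := F) e)
    have h3 : aMap e (aMap e x) = x := this
    rw [h3]
  have hA2 : A ^ 2 = 1 := by
    apply Matrix.toLin'.injective
    rw [Matrix.toLin'_pow, Matrix.toLin'_one, pow_two]
    exact hyy
  have hsq : (y - 1 : Module.End F (Fin d ⊕ Fin d → F)) ^ 2 = 0 := by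
    rw [sub_one_pow_char_end 2, pow_two, hyy, sub_self]
  have hC : Conj (aMap (F := F) e - 1) (y - 1) := by
    refine ⟨φ, fun v => ?_⟩
    rw [LinearMap.sub_apply, LinearMap.sub_apply, Module.End.one_apply, Module.End.one_apply,
      map_sub, hconj]
  have hker : kap (y - 1) 1 = d := by
    rw [← kap_conj hC 1, aMap_kap, he]
  have hself : ∀ v, B v ((y - 1) v) = 0 := by
    intro v
    obtain ⟨x, rfl⟩ := φ.surjective v
    have h1 : (y - 1) (φ x) = φ ((aMap (F := F) e - 1) x) := by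
      rw [LinearMap.sub_apply, LinearMap.sub_apply, Module.End.one_apply, Module.End.one_apply,
        map_sub, hconj]
    rw [h1, hB, sympBilin_apply, hφ, aForm_self]
  have hns : ∀ z : F, A ≠ z • (1 : Matrix (Fin d ⊕ Fin d) (Fin d ⊕ Fin d) F) := by
    intro z hz
    have hyz : y - 1 = (z - 1) • (1 : Module.End F (Fin d ⊕ Fin d → F)) := by
      rw [hy, hz, map_smul, Matrix.toLin'_one]
      apply LinearMap.ext
      intro v
      simp only [LinearMap.sub_apply, LinearMap.smul_apply, LinearMap.id_apply,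
        Module.End.one_apply, sub_smul, one_smul]
    by_cases hz1 : z = 1
    · have h0 : (y - 1 : Module.End F (Fin d ⊕ Fin d → F)) ^ 1 = 0 := by
        rw [pow_one, hyz, hz1, sub_self, zero_smul]
      rw [pow_eq_zero_iff_kap, hker, hfin] at h0
      omega
    · have h0 : kap (y - 1) 1 = 0 := by
        unfold kap
        rw [pow_one, hyz]
        have : LinearMap.ker ((z - 1) • (1 : Module.End F (Fin d ⊕ Fin d → F))) = ⊥ := by
          rw [LinearMap.ker_eq_bot']
          intro v hv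
          rw [LinearMap.smul_apply, Module.End.one_apply] at hv
          rcases smul_eq_zero.1 hv with h | h
          · exact absurd (sub_eq_zero.1 h) hz1
          · exact h
        rw [this, finrank_bot]
      rw [hker] at h0
      omega
  obtain ⟨W₁, hW₁dim, hW₁nd, hW₁inv⟩ := H A hA hA2 hns
  have h4 := four_dvd_of_type_a B y y halt hyy hyy hiso hsq d hfin hker hself W₁ hW₁inv hW₁nd
  rw [hW₁dim] at h4
  omega

end unipotent

end Cfsg.Agent.Lib.Helper22.NdElus
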