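import Mathlib
import Cfsg.Agent.Lib.Helper22.NdUnC
import Cfsg.Agent.Lib.Helper15.HermSub

set_option autoImplicit false

/-!
# The number of nondegenerate `m`-subspaces of the standard hermitian space divides the number of
orthonormal `m`-tuples
-/

namespace Cfsg.Agent.Lib.Helper22.NdUn

open Module Cfsg.Agent.Lib.Helper12 Cfsg.Agent.Lib.Helper12.Un Cfsg.Agent.Lib.Helper14
  Cfsg.Agent.Lib.Helper15.HermSub

section count

variable {F : Type*} [Field F] [Fintype F] {q : ℕ}

/-- nondegenerate `m`-subspaces of the standard hermitian space -/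
abbrev NdSub (F : Type*) [Field F] (q n m : ℕ) : Type _ :=
  {W : Submodule F (Fin n → F) // finrank F W = m ∧
    ∀ u ∈ W, u ≠ 0 → ∃ v ∈ W, Cfsg.hermForm n F q u v ≠ 0}

/-- orthonormal `m`-tuples -/
abbrev OTup (F : Type*) [Field F] (q n m : ℕ) : Type _ :=
  {v : Fin m → (Fin n → F) // OrthoN F q n m v}

theorem isHerm_std (hF : Fintype.card F = q ^ 2) (n : ℕ) :
    IsHerm q (Cfsg.hermForm n F q) := by
  classical
  exact ⟨hermForm_add_left, hermForm_smul_left, fun v w => (hermForm_conj hF w v).symm⟩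

omit [Fintype F] in
theorem ortho_li {n k : ℕ} {v : Fin k → (Fin n → F)} (hv : OrthoN F q n k v) :
    LinearIndependent F v := by
  rw [Fintype.linearIndependent_iff]
  intro g hg j
  have h1 := hermForm_comb_left hv g j
  unfold comb at h1
  rw [hg, hermForm_zero_left] at h1
  exact h1.symm

omit [Fintype F] in
theorem ortho_span_nd {n k : ℕ} {v : Fin k → (Fin n → F)} (hv : OrthoN F q n k v) :
    ∀ u ∈ Submodule.span F (Set.range v), u ≠ 0 →
      ∃ w ∈ Submodule.span F (Set.range v), Cfsg.hermForm n F q u w ≠ 0 := by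
  intro u hu hu0
  rw [Submodule.mem_span_range_iff_exists_fun] at hu
  obtain ⟨g, rfl⟩ := hu
  obtain ⟨j, hj⟩ : ∃ j, g j ≠ 0 := by
    by_contra hcon
    push Not at hcon
    apply hu0
    apply Finset.sum_eq_zero
    intro i _
    rw [hcon i, zero_smul]
  refine ⟨v j, Submodule.subset_span ⟨j, rfl⟩, ?_⟩
  have h1 := hermForm_comb_left hv g j
  unfold comb at h1
  rw [h1]
  exact hj

/-- the span of an orthonormal tuple -/
def spanMap (n m : ℕ) (s : OTup F q n m) : NdSub F q n m :=
  ⟨Submodule.span F (Set.range s.1), by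
    rw [finrank_span_eq_card (ortho_li s.2), Fintype.card_fin], ortho_span_nd s.2⟩

instance (n m : ℕ) : Finite (NdSub F q n m) := by
  have : Finite (Submodule F (Fin n → F)) :=
    Finite.of_injective (fun W : Submodule F (Fin n → F) => (W : Set (Fin n → F)))
      SetLike.coe_injective
  exact Subtype.finite

/-- a nondegenerate `m`-subspace is isometric to the standard `m`-dimensional space -/
theorem exists_std_equiv (hF : Fintype.card F = q ^ 2) (n : ℕ) (W : Submodule F (Fin n → F))
    (hnd : ∀ u ∈ W, u ≠ 0 → ∃ v ∈ W, Cfsg.hermForm n F q u v ≠ 0) :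
    ∀ k, finrank F W = k → ∃ E : (Fin k → F) ≃ₗ[F] W, ∀ a b : Fin k → F,
      Cfsg.hermForm n F q (E a : Fin n → F) (E b : Fin n → F) = Cfsg.hermForm k F q a b := by
  intro k hk
  subst hk
  exact exists_orthonormal_equiv (isHerm_std hF n) hF W hnd

/-- the fibres of the span map -/
theorem card_fiber (hF : Fintype.card F = q ^ 2) (n m : ℕ) (W : NdSub F q n m) :
    Nat.card {s : OTup F q n m // spanMap n m s = W} = Nat.card (OTup F q m m) := by
  classical
  obtain ⟨E, hE⟩ := exists_std_equiv hF n W.1 W.2.2 m W.2.1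
  have hmem : ∀ (s : {s : OTup F q n m // spanMap n m s = W}) (i : Fin m), s.1.1 i ∈ W.1 := by
    intro s i
    have h1 : Submodule.span F (Set.range s.1.1) = W.1 := congrArg Subtype.val s.2
    rw [← h1]
    exact Submodule.subset_span ⟨i, rfl⟩
  apply Nat.card_congr
  refine
    { toFun := fun s => ⟨fun i => E.symm ⟨s.1.1 i, hmem s i⟩, ?_⟩
      invFun := fun t => ⟨⟨fun i => (E (t.1 i) : Fin n → F), ?_⟩, ?_⟩
      left_inv := ?_
      right_inv := ?_ }
  · intro i j
    rw [← hE, LinearEquiv.apply_symm_apply, LinearEquiv.apply_symm_apply]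
    exact s.1.2 i j
  · intro i j
    rw [hE]
    exact t.2 i j
  · apply Subtype.ext
    show Submodule.span F (Set.range fun i => (E (t.1 i) : Fin n → F)) = W.1
    have hO : OrthoN F q n m (fun i => (E (t.1 i) : Fin n → F)) := by
      intro i j
      rw [hE]
      exact t.2 i j
    apply Submodule.eq_of_le_of_finrank_eq
    · rw [Submodule.span_le]
      rintro _ ⟨i, rfl⟩
      exact (E (t.1 i)).2
    · rw [finrank_span_eq_card (ortho_li hO), Fintype.card_fin, W.2.1]
  · intro s
    apply Subtype.ext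
    apply Subtype.ext
    funext i
    show ((E (E.symm ⟨s.1.1 i, hmem s i⟩) : W.1) : Fin n → F) = s.1.1 i
    rw [LinearEquiv.apply_symm_apply]
  · intro t
    apply Subtype.ext
    funext i
    show E.symm ⟨(E (t.1 i) : Fin n → F), _⟩ = t.1 i
    have : (⟨(E (t.1 i) : Fin n → F), (E (t.1 i)).2⟩ : W.1) = E (t.1 i) := rfl
    rw [this, LinearEquiv.symm_apply_apply]

/-- the number of nondegenerate `m`-subspaces divides the number of orthonormal `m`-tuples -/
theorem card_nd_dvd (hF : Fintype.card F = q ^ 2) (n m : ℕ) :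
    Nat.card (NdSub F q n m) ∣ Nat.card (OTup F q n m) := by
  classical
  let _ : Fintype (NdSub F q n m) := Fintype.ofFinite _
  have h1 : Nat.card (OTup F q n m) =
      Nat.card (Σ W : NdSub F q n m, {s : OTup F q n m // spanMap n m s = W}) :=
    Nat.card_congr (Equiv.sigmaFiberEquiv (spanMap n m)).symm
  rw [h1, Nat.card_sigma, Finset.sum_congr rfl (fun W _ => card_fiber hF n m W), Finset.sum_const,
    smul_eq_mul, Finset.card_univ, Nat.card_eq_fintype_card]
  exact dvd_mul_right _ _

/-- a prime not dividing `q` that divides the number of nondegenerate `m`-spaces divides some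
`q^M - (-1)^M` with `n - m < M ≤ n` -/
theorem exists_dvd_of_dvd_card_nd (hF : Fintype.card F = q ^ 2) (r : ℕ) (hr : r.Prime)
    (hrq : ¬ r ∣ q) (n m : ℕ) (hmn : m ≤ n) (h : r ∣ Nat.card (NdSub F q n m)) :
    ∃ M, n < M + m ∧ M ≤ n ∧ (if Even M then r ∣ q ^ M - 1 else r ∣ q ^ M + 1) := by
  classical
  have hq2 := herm_two_le hF
  have h1 : r ∣ Nat.card (OTup F q n m) := h.trans (card_nd_dvd hF n m)
  rw [card_orthoN hF n m hmn] at h1
  obtain ⟨i, hi, hid⟩ := (Prime.dvd_finsetProd_iff hr.prime _).1 h1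
  rw [Finset.mem_range] at hi
  obtain ⟨j, hj⟩ : ∃ j, n - i = j + 1 := ⟨n - i - 1, by omega⟩
  rw [hj, hermAB_snd_succ hq2 j] at hid
  refine ⟨j + 1, by omega, by omega, ?_⟩
  rcases (Nat.Prime.dvd_mul hr).1 hid with h2 | h2
  · exact absurd (hr.dvd_of_dvd_pow h2) hrq
  · by_cases hev : Even j
    · rw [if_pos hev] at h2
      rw [if_neg (by rw [Nat.even_add_one]; exact not_not.2 hev)]
      exact h2
    · rw [if_neg hev] at h2
      rw [if_pos (by rw [Nat.even_add_one]; exact hev)]
      exact h2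

/-- consequences of `r ∣ |Ω|` for odd `r` not dividing `q` -/
theorem count_consequence_nd (hF : Fintype.card F = q ^ 2) (r : ℕ) [Fact r.Prime] (hr2 : r ≠ 2)
    (hrq : ¬ r ∣ q) (n m : ℕ) (hmn : m ≤ n) (h : r ∣ Nat.card (NdSub F q n m)) (c : ℕ)
    (hc : c = if orderOf (q : ZMod r) % 4 = 0 then orderOf (q : ZMod r)
      else if orderOf (q : ZMod r) % 4 = 2 then orderOf (q : ZMod r) / 2
      else 2 * orderOf (q : ZMod r)) :
    c ≤ n ∧ n % c < m := by
  classical
  have hq2 := herm_two_le hF
  obtain ⟨M, hM1, hM2, hM3⟩ := exists_dvd_of_dvd_card_nd hF r Fact.out hrq n m hmn h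
  have hcd := cdvd_of_dvd q r hr2 (by omega) M hM3
  rw [← hc] at hcd
  obtain ⟨k, hk⟩ := hcd
  have hMpos : 0 < M := by omega
  have hkpos : 0 < k := by
    rcases Nat.eq_zero_or_pos k with h0 | h0
    · rw [h0, mul_zero] at hk
      omega
    · exact h0
  have hcM : c ≤ M := by
    rw [hk]
    exact Nat.le_mul_of_pos_right c hkpos
  refine ⟨by omega, ?_⟩
  have h1 : n % c = (n - M) % c := by
    have : n = (n - M) + c * k := by omega
    nth_rewrite 1 [this]
    exact Nat.add_mul_mod_self_left _ _ _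
  rw [h1]
  have := Nat.mod_le (n - M) c
  omega

end count

end Cfsg.Agent.Lib.Helper22.NdUn
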