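import Mathlib
import Cfsg.Agent.Lib.Helper22.NdUnF
import Cfsg.Agent.Lib.Helper22.NdUnG

set_option autoImplicit false

/-!
# `PSU_n(q)` on nondegenerate subspaces: elements of odd prime order `r ≠ p`
-/

namespace Cfsg.Agent.Lib.Helper22.NdUn

open Module Polynomial Cfsg.Agent.Lib.Helper12 Cfsg.Agent.Lib.Helper12.Elus
  Cfsg.Agent.Lib.Helper12.Un Cfsg.Agent.Lib.Helper14 Cfsg.Agent.Lib.Helper5.HermBridge
  Cfsg.Agent.Lib.Helper15

section model

variable {K : Type*} [Field K] [Fintype K]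

omit [Fintype K] in
theorem star_X_sub_C' (σ : K →+* K) (a : K) (ha : a ≠ 0) :
    StarPoly.star σ (X - C a : K[X]) = X - C (σ a)⁻¹ := by
  have hd : (X - C a : K[X]).natDegree = 1 := natDegree_X_sub_C a
  have hc0 : (X - C a : K[X]).coeff 0 = -a := by
    rw [coeff_sub, coeff_X_zero, coeff_C_zero, zero_sub]
  have hc1 : (X - C a : K[X]).coeff 1 = 1 := by
    rw [coeff_sub, coeff_X_one, coeff_C, if_neg (by norm_num), sub_zero]
  have hσa : σ a ≠ 0 := (map_ne_zero σ).2 ha
  ext j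
  rcases Nat.lt_or_ge 1 j with hj | hj
  · rw [StarPoly.coeff_star_of_lt σ _ j (by rw [hd]; exact hj), coeff_eq_zero_of_natDegree_lt
      (by rw [natDegree_X_sub_C]; exact hj)]
  · rw [StarPoly.coeff_star σ _ j (by rw [hd]; exact hj), hd, hc0, map_neg]
    interval_cases j
    · rw [Nat.sub_zero, hc1, map_one, mul_one, coeff_sub, coeff_X_zero, coeff_C_zero, zero_sub,
        inv_neg]
    · rw [Nat.sub_self, hc0, map_neg, inv_mul_cancel₀ (neg_ne_zero.2 hσa), coeff_sub, coeff_X_one,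
        coeff_C, if_neg (by norm_num), sub_zero]

/-- the model for `r ∣ q - 1`: fixed space of dimension at most `n % 2` -/
theorem exists_model_i1 {p q : ℕ} [Fact p.Prime] [CharP K p] (hK : Fintype.card K = q ^ 2)
    (σ : K →+* K) (hσ : ∀ c, σ c = c ^ q) (r : ℕ) [Fact r.Prime] (hr2 : r ≠ 2)
    (hrq : r ∣ q - 1) (n : ℕ) (hn : 2 ≤ n) :
    ∃ g : Matrix (Fin n) (Fin n) K, IsUni K q n g ∧ g.det = 1 ∧ g ^ r = 1 ∧
      (∀ z : K, g ≠ z • (1 : Matrix (Fin n) (Fin n) K)) ∧
      finrank K (fixE (Matrix.toLin' g)) ≤ n % 2 := by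
  classical
  have hr : r.Prime := Fact.out
  have hq2 := herm_two_le hK
  have hrodd : Odd r := hr.odd_of_ne_two hr2
  have hdvd : r ∣ Fintype.card K - 1 := by
    rw [hK, sq_sub_one_eq q (by omega)]
    exact Dvd.dvd.mul_right hrq _
  obtain ⟨ω, hω⟩ := exists_orderOf_eq (K := K) r hdvd
  set l : K := (ω : K) with hl
  have hl0 : l ≠ 0 := ω.ne_zero
  have hlr : l ^ r = 1 := by
    rw [hl, ← Units.val_pow_eq_pow_val, ← hω, pow_orderOf_eq_one, Units.val_one]
  have hl1 : l ≠ 1 := by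
    intro h1
    have : ω = 1 := Units.ext h1
    rw [this, orderOf_one] at hω
    exact hr.one_lt.ne hω
  have hlq : l ^ q = l := by
    obtain ⟨k, hk⟩ := hrq
    have h1 : l ^ (q - 1) = 1 := by rw [hk, pow_mul, hlr, one_pow]
    have h2 : q = (q - 1) + 1 := by omega
    rw [h2, pow_succ, h1, one_mul]
  -- any `r`-th root of unity of square one is one
  have hsq1 : ∀ z : K, z ^ r = 1 → z * z = 1 → z = 1 := by
    intro z hz1 hz2
    obtain ⟨k, hk⟩ := hrodd
    rw [hk, pow_succ, pow_mul, pow_two, hz2, one_pow, one_mul] at hz1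
    exact hz1
  have hlinv : l ≠ l⁻¹ := by
    intro h
    apply hl1
    apply hsq1 l hlr
    nth_rewrite 2 [h]
    exact mul_inv_cancel₀ hl0
  have hlinv0 : l⁻¹ ≠ 0 := inv_ne_zero hl0
  set G : K[X] := (X - C l) * (X - C l⁻¹) with hG
  have hGm : G.Monic := (monic_X_sub_C l).mul (monic_X_sub_C l⁻¹)
  have hGdeg : G.natDegree = 2 := by
    rw [hG, (monic_X_sub_C l).natDegree_mul (monic_X_sub_C l⁻¹), natDegree_X_sub_C,
      natDegree_X_sub_C]
  have hGs : StarPoly.star σ G = G := by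
    rw [hG, StarPoly.star_mul, star_X_sub_C' σ l hl0, star_X_sub_C' σ l⁻¹ hlinv0, hσ, hσ, hlq,
      inv_pow, hlq, inv_inv, mul_comm]
  have hroot : ∀ a : K, a ^ r = 1 → (X - C a : K[X]) ∣ X ^ r - 1 := by
    intro a ha
    rw [dvd_iff_isRoot, IsRoot, eval_sub, eval_pow, eval_X, eval_one, ha, sub_self]
  have hGd : G ∣ X ^ r - 1 := by
    apply IsCoprime.mul_dvd
    · exact isCoprime_X_sub_C_of_isUnit_sub (sub_ne_zero.2 hlinv).isUnit
    · exact hroot l hlr
    · exact hroot l⁻¹ (by rw [inv_pow, hlr, inv_one])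
  have hX1 : (X - 1 : K[X]) ∣ X ^ r - 1 := by
    have := hroot 1 (one_pow r)
    rwa [C_1] at this
  have hG1 : G.eval 1 ≠ 0 := by
    rw [hG, eval_mul, eval_sub, eval_sub, eval_X, eval_C, eval_C]
    apply mul_ne_zero
    · exact sub_ne_zero.2 (Ne.symm hl1)
    · apply sub_ne_zero.2
      intro h
      apply hl1
      rw [← inv_inv l, ← h, inv_one]
  set a := n % 2 with ha
  set k := n / 2 with hk
  have hnak : n = a + 2 * k := (Nat.mod_add_div n 2).symm
  set f : K[X] := (X - 1) ^ a * G ^ k with hf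
  have hfm : f.Monic := (monic_X_sub_one'.pow a).mul (hGm.pow k)
  have hfdeg : f.natDegree = n := by
    rw [hf, (monic_X_sub_one'.pow a).natDegree_mul (hGm.pow k), monic_X_sub_one'.natDegree_pow,
      natDegree_X_sub_one', hGm.natDegree_pow, hGdeg, hnak]
    ring
  have hfs : StarPoly.star σ f = f := by
    rw [hf, StarPoly.star_mul, StarPoly.star_pow, StarPoly.star_pow, StarPoly.star_X_sub_one, hGs]
  have hfd : f ∣ (X ^ r - C 1) ^ (a + k) := by
    rw [C_1, pow_add, hf]
    exact mul_dvd_mul (pow_dvd_pow_of_dvd hX1 a) (pow_dvd_pow_of_dvd hGd k)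
  obtain ⟨g, hg, hgf, hgr⟩ := exists_uni_of_charpoly hK σ hσ r 1 n f hfm hfdeg hfs (a + k) hfd
    one_ne_zero hr.pos
  rw [one_smul] at hgr
  have hdet : g.det = 1 := by
    rw [Matrix.det_eq_sign_charpoly_coeff, hgf, Fintype.card_fin, coeff_zero_eq_eval_zero, hf,
      eval_mul, eval_pow, eval_pow, eval_sub, eval_X, eval_one, hG, eval_mul, eval_sub, eval_sub,
      eval_X, eval_C, eval_C, zero_sub, zero_sub, zero_sub, neg_mul_neg,
      mul_inv_cancel₀ hl0, one_pow, mul_one, ← pow_add, hnak]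
    have : a + 2 * k + a = 2 * (a + k) := by ring
    rw [this, pow_mul]
    norm_num
  have hfix : finrank K (fixE (Matrix.toLin' g)) ≤ a := by
    have h1 := LinearMap.finrank_eigenspace_le (Matrix.toLin' g) (1 : K)
    have h2 : Module.End.eigenspace (Matrix.toLin' g) (1 : K) = fixE (Matrix.toLin' g) := by
      rw [Module.End.eigenspace_def, one_smul]
      rfl
    rw [h2, charpoly_toLin'_eq, hgf] at h1
    have h3 : f.rootMultiplicity 1 = a := by
      have hne : (X - 1 : K[X]) ^ a * G ^ k ≠ 0 := hfm.ne_zero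
      rw [hf, rootMultiplicity_mul hne]
      have e1 : (X - 1 : K[X]) = X - C 1 := by rw [C_1]
      rw [e1, rootMultiplicity_X_sub_C_pow, rootMultiplicity_eq_zero, add_zero]
      rw [IsRoot, eval_pow]
      exact pow_ne_zero _ hG1
    rw [h3] at h1
    exact h1
  refine ⟨g, hg, hdet, hgr, ?_, hfix⟩
  intro z hz
  have hz1 : z ^ r = 1 := by
    have h2 := hgr
    rw [hz, _root_.smul_pow, one_pow] at h2
    have h3 := congrFun (congrFun h2 ⟨0, by omega⟩) ⟨0, by omega⟩
    rw [Matrix.smul_apply, Matrix.one_apply_eq, smul_eq_mul, mul_one] at h3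
    exact h3
  have hzn : z * z ^ q = 1 := by
    have := scal_norm n (by omega) g hg 1 z (by rw [pow_one]; exact hz)
    exact this
  have hzq : z ^ q = z := by
    obtain ⟨k', hk'⟩ := hrq
    have h1 : z ^ (q - 1) = 1 := by rw [hk', pow_mul, hz1, one_pow]
    have h2 : q = (q - 1) + 1 := by omega
    rw [h2, pow_succ, h1, one_mul]
  rw [hzq] at hzn
  have hz' := hsq1 z hz1 hzn
  rw [hz', one_smul] at hz
  have h3 : fixE (Matrix.toLin' g) = ⊤ := by
    rw [eq_top_iff]
    intro v _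
    rw [mem_fixE, hz, Matrix.toLin'_one]
    rfl
  rw [h3, finrank_top, Module.finrank_fin_fun] at hfix
  have := Nat.mod_lt n (by norm_num : 0 < 2)
  omega

end model

end Cfsg.Agent.Lib.Helper22.NdUn
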