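import Mathlib
import Cfsg.Agent.Lib.Helper22.NdUnH

set_option autoImplicit false

/-!
# `PSU_n(q)` on nondegenerate subspaces: elements of odd prime order `r ≠ p`, matrix level
-/

namespace Cfsg.Agent.Lib.Helper22.NdUn

open Module Polynomial Cfsg.Agent.Lib.Helper12 Cfsg.Agent.Lib.Helper12.Elus
  Cfsg.Agent.Lib.Helper12.Un Cfsg.Agent.Lib.Helper14 Cfsg.Agent.Lib.Helper5.HermBridge
  Cfsg.Agent.Lib.Helper15

universe u

section odd

variable {F : Type u} [Field F] [Fintype F]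

theorem cdim_eq (p e : ℕ) (hF : Fintype.card F = (p ^ e) ^ 2) (r : ℕ) :
    cdim F (p ^ e) r =
      if orderOf ((p ^ e : ℕ) : ZMod r) % 4 = 0 then orderOf ((p ^ e : ℕ) : ZMod r)
      else if orderOf ((p ^ e : ℕ) : ZMod r) % 4 = 2 then orderOf ((p ^ e : ℕ) : ZMod r) / 2
      else 2 * orderOf ((p ^ e : ℕ) : ZMod r) := by
  unfold cdim
  exact c_eq _ _ (b_eq hF r)

theorem cdim_of_two (p e : ℕ) (hF : Fintype.card F = (p ^ e) ^ 2) (r : ℕ)
    (hi2 : orderOf ((p ^ e : ℕ) : ZMod r) = 2) : cdim F (p ^ e) r = 1 := by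
  rw [cdim_eq p e hF r, hi2]
  norm_num

/-- odd `r ≠ p`: sufficiency -/
theorem bwd_odd (p e : ℕ) [Fact p.Prime] [CharP F p] (hF : Fintype.card F = (p ^ e) ^ 2)
    (n m : ℕ) (hn : 1 ≤ n) (hmn : m ≤ n) (r : ℕ) [Fact r.Prime] (hr2 : r ≠ 2) (hrp : r ≠ p)
    (h : (orderOf ((p ^ e : ℕ) : ZMod r) ≠ 2 ∧
        m % cdim F (p ^ e) r ≤ n % cdim F (p ^ e) r) ∨
      (orderOf ((p ^ e : ℕ) : ZMod r) = 2 ∧
        (r ∣ m ∨ padicValNat r n ≤ padicValNat r (p ^ e + 1))))
    (A : Matrix (Fin n) (Fin n) F) (hA : IsUni F (p ^ e) n A) (hdet : A.det = 1)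
    (hz : ∃ z : F, A ^ r = z • (1 : Matrix (Fin n) (Fin n) F)) : FixesN hF n m A := by
  classical
  have hr : r.Prime := Fact.out
  have hq2 := herm_two_le hF
  have hr0 : (r : F) ≠ 0 := by
    rw [Ne, CharP.cast_eq_zero_iff F p]
    intro hd
    exact hrp ((Nat.prime_dvd_prime_iff_eq Fact.out Fact.out).1 hd).symm
  obtain ⟨z, hz⟩ := hz
  have hzn : z * z ^ (p ^ e) = 1 := scal_norm n (by omega) A hA r z hz
  have hz0 : z ≠ 0 := by
    intro h0
    rw [h0, zero_mul] at hzn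
    exact zero_ne_one hzn
  have hσe : ∀ c : F, frobHom hF c = c ^ (p ^ e) := fun c => frobHom_apply hF c
  have hdimV : finrank F (Fin n → F) = n := Module.finrank_fin_fun F
  have hTr : (Matrix.toLin' A) ^ r = z • 1 := by
    rw [← Matrix.toLin'_pow, hz, map_smul, Matrix.toLin'_one]
    rfl
  have key : (∃ μ : F, μ * μ ^ (p ^ e) = 1 ∧ μ ^ r = z) →
      m % cdim F (p ^ e) r ≤ n % cdim F (p ^ e) r → FixesN hF n m A := by
    rintro ⟨μ, hμ1, hμ2⟩ h1
    have hμ0 : μ ≠ 0 := by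
      intro h0
      rw [h0, zero_mul] at hμ1
      exact zero_ne_one hμ1
    apply fixesN_of_smul hF n m A μ hμ0
    set y := μ⁻¹ • Matrix.toLin' A with hy
    have hiso : ∀ u v, hermB hF n (y u) (y v) = hermB hF n u v :=
      scaled_iso hF n A hA μ⁻¹ (inv_norm μ hμ1)
    have hyr : y ^ r = 1 := by
      rw [hy, _root_.smul_pow, hTr, smul_smul, inv_pow, hμ2, inv_mul_cancel₀ hz0, one_smul]
    exact bwd_ss (hermB hF n) y r p (frob_invol hF) (hermB_sym hF n) (frob_ne hF) e hσe hF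
      (hermB_nd hF n) hiso hrp hr2 hyr n m hdimV hmn h1
  by_cases hrq : r ∣ p ^ e + 1
  · have hi2 : orderOf ((p ^ e : ℕ) : ZMod r) = 2 := orderOf_eq_two_of_dvd _ r hr2 hrq
    have hcd := cdim_of_two p e hF r hi2
    rcases h with ⟨h, -⟩ | ⟨-, h3⟩
    · exact absurd hi2 h
    by_cases hw : ∃ w : F, w ^ r = z
    · obtain ⟨w, hw⟩ := hw
      exact key ⟨w, normOne_of_pow hF r hr2 hrq z w hzn hw, hw⟩
        (by rw [hcd, Nat.mod_one, Nat.mod_one])
    · push Not at hw
      obtain ⟨e', he1, he2⟩ := det_of_irred_pow r hr2 n A z hz hw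
      rw [hdet] at he2
      have he'pos : 0 < e' := by
        rcases Nat.eq_zero_or_pos e' with h0 | h0
        · rw [h0, mul_zero] at he1
          omega
        · exact h0
      have hlt := padic_lt_of_not_pow hF r z hzn hw e' he'pos he2.symm
      rw [← he1] at hlt
      have hrm : r ∣ m := by
        rcases h3 with h4 | h4
        · exact h4
        · omega
      obtain ⟨m', hm'⟩ := hrm
      have hirr : Irreducible (X ^ r - C z : F[X]) := X_pow_sub_C_irreducible_of_prime hr hw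
      have hm : (X ^ r - C z : F[X]).Monic := monic_X_pow_sub_C z hr.pos.ne'
      have hdeg : (X ^ r - C z : F[X]).natDegree = r := natDegree_X_pow_sub_C
      have hP : aeval (Matrix.toLin' A) (X ^ r - C z : F[X]) = 0 := by
        rw [map_sub, map_pow, aeval_X, aeval_C, hTr, Algebra.algebraMap_eq_smul_one, sub_self]
      have hyN : (Matrix.toLin' A) ^ (r * (p ^ e + 1)) = 1 := by
        rw [pow_mul, hTr, _root_.smul_pow, one_pow, pow_succ', hzn, one_smul]
      obtain ⟨t, ht, hsel⟩ := chain_irr (hermB hF n) (Matrix.toLin' A) (frob_invol hF)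
        (hermB_sym hF n) (frob_ne hF) (hermB_nd hF n) (uni_iso hF n A hA) (r * (p ^ e + 1))
        (Nat.mul_pos hr.pos (by omega)) hyN (X ^ r - C z) hm hirr hP
      rw [hdeg, hdimV] at ht
      simp only [hdeg] at hsel
      have hm't : m' ≤ t := by
        have h5 : r * m' ≤ r * t := by rw [← hm', ← ht]; exact hmn
        exact Nat.le_of_mul_le_mul_left h5 hr.pos
      obtain ⟨W, hWinv, hWnd, hWdim⟩ := hsel m' hm't
      exact ⟨W, by rw [hWdim, hm'], hWnd, hWinv⟩
  · have hcop : Nat.Coprime r (p ^ e + 1) := (Nat.Prime.coprime_iff_not_dvd hr).2 hrq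
    have hi2' : orderOf ((p ^ e : ℕ) : ZMod r) ≠ 2 := fun h' =>
      hrq (dvd_of_orderOf_eq_two _ r h')
    rcases h with ⟨-, h1⟩ | ⟨h', -⟩
    · exact key (exists_root_of_coprime r hcop (by omega) z hzn) h1
    · exact absurd h' hi2'

/-- odd `r ≠ p`: necessity -/
theorem fwd_odd (p e : ℕ) [Fact p.Prime] [CharP F p] (hF : Fintype.card F = (p ^ e) ^ 2)
    (n m : ℕ) (hn : 3 ≤ n) (hmn : 2 * m < n) (r : ℕ) [Fact r.Prime]
    (hr2 : r ≠ 2) (hrp : r ≠ p)
    (hrΩ : r ∣ Nat.card (NdSub F (p ^ e) n m))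
    (H : ∀ A : Matrix (Fin n) (Fin n) F, IsUni F (p ^ e) n A → A.det = 1 →
      (∃ z : F, A ^ r = z • (1 : Matrix (Fin n) (Fin n) F)) →
      (∀ z : F, A ≠ z • (1 : Matrix (Fin n) (Fin n) F)) → FixesN hF n m A) :
    (orderOf ((p ^ e : ℕ) : ZMod r) ≠ 2 ∧ cdim F (p ^ e) r ≤ m ∧
        m % cdim F (p ^ e) r ≤ n % cdim F (p ^ e) r) ∨
      (orderOf ((p ^ e : ℕ) : ZMod r) = 2 ∧
        (r ∣ m ∨ padicValNat r n ≤ padicValNat r (p ^ e + 1))) := by
  classical
  have hr : r.Prime := Fact.out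
  have hq2 := herm_two_le hF
  have hσe : ∀ c : F, frobHom hF c = c ^ (p ^ e) := fun c => frobHom_apply hF c
  by_cases hi2 : orderOf ((p ^ e : ℕ) : ZMod r) = 2
  · right
    refine ⟨hi2, ?_⟩
    by_contra hcon
    push Not at hcon
    obtain ⟨hrm, hv⟩ := hcon
    have hrq : r ∣ p ^ e + 1 := dvd_of_orderOf_eq_two _ r hi2
    obtain ⟨g, z, hg1, hg2, hg3, hg4⟩ := exists_model4 (p := p) hF (frobHom hF) hσe r hr2 hrq n
      (by omega) hv
    have hns : ∀ w : F, g ≠ w • (1 : Matrix (Fin n) (Fin n) F) := by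
      intro w hw
      apply hg4 w
      have h1 := hg3
      rw [hw, _root_.smul_pow, one_pow] at h1
      have h2 := congrFun (congrFun h1 ⟨0, by omega⟩) ⟨0, by omega⟩
      rw [Matrix.smul_apply, Matrix.smul_apply, Matrix.one_apply_eq, smul_eq_mul, smul_eq_mul,
        mul_one, mul_one] at h2
      exact h2
    obtain ⟨W, hWdim, -, hWinv⟩ := H g hg1 hg2 ⟨z, hg3⟩ hns
    have hirr' : Irreducible (X ^ r - C z : F[X]) := X_pow_sub_C_irreducible_of_prime hr hg4
    have hm' : (X ^ r - C z : F[X]).Monic := monic_X_pow_sub_C z hr.pos.ne'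
    have hP : aeval (Matrix.toLin' g) (X ^ r - C z : F[X]) = 0 := by
      rw [aeval_toLin'_eq, map_sub, map_pow, aeval_X, aeval_C, hg3,
        Algebra.algebraMap_eq_smul_one, sub_self, map_zero]
    have := dvd_finrank_of_irred (Matrix.toLin' g) (X ^ r - C z) hm' hirr' hP W hWinv
    rw [natDegree_X_pow_sub_C, hWdim] at this
    exact hrm this
  · left
    refine ⟨hi2, ?_⟩
    have hpq : ¬ r ∣ p ^ e := by
      intro hd
      exact hrp ((Nat.prime_dvd_prime_iff_eq hr Fact.out).1 (hr.dvd_of_dvd_pow hd))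
    set c := cdim F (p ^ e) r with hc
    have hcpos : 0 < c := cdim_pos r p (p ^ e) hrp
    obtain ⟨hcn, hnc⟩ := count_consequence_nd hF r hr2 hpq n m (by omega) hrΩ c
      (cdim_eq p e hF r)
    set i₀ := orderOf (Fintype.card F : ZMod r) with hi₀
    have hipos : 0 < i₀ := orderOf_card_pos r hrp
    -- the model
    obtain ⟨g, hg1, hg2, hg3, hg4, hg5⟩ : ∃ g : Matrix (Fin n) (Fin n) F,
        IsUni F (p ^ e) n g ∧ g.det = 1 ∧ g ^ r = 1 ∧
        (∀ z : F, g ≠ z • (1 : Matrix (Fin n) (Fin n) F)) ∧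
        finrank F (fixE (Matrix.toLin' g)) ≤ n % c := by
      rcases Nat.lt_or_ge 1 i₀ with hb1 | hb1
      · exact exists_model1 hF e rfl (frobHom hF) hσe r hrp hb1 n c rfl hcn
      · have hi₀1 : i₀ = 1 := by omega
        have hb := b_eq hF r
        rw [← hi₀, hi₀1] at hb
        have hi1 : orderOf ((p ^ e : ℕ) : ZMod r) = 1 := by
          split_ifs at hb with hev
          · exfalso
            obtain ⟨k', hk'⟩ := hev
            apply hi2
            omega
          · exact hb.symm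
        have hq1 : ((p ^ e : ℕ) : ZMod r) = 1 := orderOf_eq_one_iff.1 hi1
        have hrq1 : r ∣ p ^ e - 1 := by
          rw [← ZMod.natCast_eq_zero_iff, Nat.cast_sub (by omega), hq1, Nat.cast_one, sub_self]
        have hc2 : c = 2 := by
          rw [hc]
          unfold cdim
          rw [hi1, ← hi₀, hi₀1]
          norm_num
        rw [hc2]
        exact exists_model_i1 hF (frobHom hF) hσe r hr2 hrq1 n (by omega)
    obtain ⟨W, hWdim, hWnd, hWinv⟩ := H g hg1 hg2 ⟨1, by rw [hg3, one_smul]⟩ hg4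
    have hyr : (Matrix.toLin' g) ^ r = 1 := by
      rw [← Matrix.toLin'_pow, hg3, Matrix.toLin'_one]
      rfl
    have hmod := mod_of_inv_nd (hermB hF n) (Matrix.toLin' g) r p (frob_invol hF) (hermB_sym hF n)
      (frob_ne hF) e hσe hF (uni_iso hF n g hg1) hrp hr2 hyr W hWinv hWnd (n % c) hg5
      (Nat.mod_lt _ hcpos)
    rw [hWdim, ← hc] at hmod
    refine ⟨?_, hmod⟩
    by_contra hlt
    push Not at hlt
    rw [Nat.mod_eq_of_lt hlt] at hmod
    omega

end odd

end Cfsg.Agent.Lib.Helper22.NdUn
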