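import Mathlib
import Cfsg.Agent.Lib.Helper22.NdUnI

set_option autoImplicit false

/-!
# `PSU_n(q)` on nondegenerate subspaces: elements of order two modulo scalars, `q` odd
-/

namespace Cfsg.Agent.Lib.Helper22.NdUn

open Module Polynomial Cfsg.Agent.Lib.Helper12 Cfsg.Agent.Lib.Helper12.Elus
  Cfsg.Agent.Lib.Helper12.Un Cfsg.Agent.Lib.Helper14 Cfsg.Agent.Lib.Helper5.HermBridge
  Cfsg.Agent.Lib.Helper15

universe u

section eigdim

variable {K V : Type*} [Field K] [AddCommGroup V] [Module K V] [FiniteDimensional K V]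
  {σ : K →+* K} (B : V →ₗ[K] V →ₛₗ[σ] K) (y : V →ₗ[K] V)

/-- the eigenspaces of an element squaring to `l²`, `l σ(l) = -1`, have half the dimension -/
theorem eigen_finrank (hσ : ∀ a, σ (σ a) = a) (hsym : ∀ u v, B v u = σ (B u v))
    (hnd : ∀ a, (∀ z, B a z = 0) → a = 0)
    (hiso : ∀ u v, B (y u) (y v) = B u v) (h2 : (2 : K) ≠ 0) (l : K) (hl : l * σ l = -1)
    (hy : ∀ v, y (y v) = (l * l) • v) :
    2 * finrank K (LinearMap.ker (y - l • 1)) = finrank K V := by
  have hl0 : l ≠ 0 := by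
    intro h0
    rw [h0, zero_mul] at hl
    exact (neg_ne_zero.2 one_ne_zero) hl.symm
  have hl' : (-l) * σ (-l) = -1 := by rw [map_neg, neg_mul_neg, hl]
  have htop : NdOn B (⊤ : Submodule K V) := by
    intro u _ hu0
    by_contra hcon
    push Not at hcon
    exact hu0 (hnd u (fun z => hcon z Submodule.mem_top))
  have hP := eigen_iso B y hiso h2 l hl
  have hM := eigen_iso B y hiso h2 (-l) hl'
  have h3 := iso_finrank_le B hσ hsym ⊤ _ htop le_top hP
  have h4 := iso_finrank_le B hσ hsym ⊤ _ htop le_top hM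
  rw [finrank_top] at h3 h4
  have hsplit := eigen_split y h2 l hl0 hy ⊤ (fun _ _ => Submodule.mem_top)
  rw [top_inf_eq, top_inf_eq] at hsplit
  have h5 := Submodule.finrank_add_le_finrank_add_finrank
    (LinearMap.ker (y - l • 1)) (LinearMap.ker (y - (-l) • 1))
  have h6 := Submodule.finrank_mono hsplit
  rw [finrank_top] at h6
  omega

end eigdim

section arith

variable {K : Type*} [Field K]

/-- the 2-adic obstruction to `l ^ (q+1) = -1`, `l ^ n = (-1) ^ (n/2)` -/
theorem two_arith (h2 : (2 : K) ≠ 0) (q n t : ℕ) (hn : n = 2 * t) (ht : 0 < t) (l : K)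
    (hl : l ^ (q + 1) = -1) (hln : l ^ n = (-1) ^ t)
    (hv : padicValNat 2 n ≤ padicValNat 2 (q + 1)) (hq : q % 4 = 3) : False := by
  have hne : (-1 : K) ≠ 1 := by
    intro h
    apply h2
    have : (1 : K) + 1 = 0 := by
      nth_rewrite 1 [← h]
      ring
    rw [← this]
    ring
  rcases Nat.even_or_odd t with hte | hto
  · -- `4 ∣ n`
    rw [hte.neg_one_pow] at hln
    set w := padicValNat 2 n with hw
    have hn0 : n ≠ 0 := by omega
    obtain ⟨n', hn'⟩ : 2 ^ w ∣ n := pow_padicValNat_dvd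
    have hn'odd : Odd n' := by
      rcases Nat.even_or_odd n' with he | ho
      · exfalso
        obtain ⟨n'', hn''⟩ := he
        have : 2 ^ (w + 1) ∣ n := ⟨n'', by rw [hn', hn'', pow_succ]; ring⟩
        exact pow_succ_padicValNat_not_dvd (p := 2) hn0 this
      · exact ho
    obtain ⟨s, hs⟩ : 2 ^ w ∣ q + 1 := (padicValNat_dvd_iff_le (by omega)).2 hv
    have h1 : l ^ ((q + 1) * n') = -1 := by
      rw [pow_mul, hl, hn'odd.neg_one_pow]
    have h3 : (q + 1) * n' = n * s := by rw [hs, hn']; ring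
    rw [h3, pow_mul, hln, one_pow] at h1
    exact hne h1.symm
  · rw [hto.neg_one_pow] at hln
    obtain ⟨u, hu⟩ : ∃ u, q + 1 = 4 * u := ⟨(q + 1) / 4, by omega⟩
    have h1 : l ^ ((q + 1) * t) = -1 := by
      rw [pow_mul, hl, hto.neg_one_pow]
    have h3 : (q + 1) * t = n * (2 * u) := by rw [hu, hn]; ring
    rw [h3, pow_mul, hln, pow_mul] at h1
    norm_num at h1
    exact hne h1.symm

end arith

section two

variable {F : Type u} [Field F] [Fintype F]

/-- `r = 2 ≠ p`: sufficiency -/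
theorem bwd_two (p e : ℕ) [Fact p.Prime] [CharP F p] (hF : Fintype.card F = (p ^ e) ^ 2)
    (n m : ℕ) (hn : 1 ≤ n) (hmn : m ≤ n) (hp2 : p ≠ 2)
    (h : Odd n ∨ Even m ∨ (padicValNat 2 n ≤ padicValNat 2 (p ^ e + 1) ∧ (p ^ e) % 4 = 3))
    (A : Matrix (Fin n) (Fin n) F) (hA : IsUni F (p ^ e) n A) (hdet : A.det = 1)
    (hz : ∃ z : F, A ^ 2 = z • (1 : Matrix (Fin n) (Fin n) F)) : FixesN hF n m A := by
  classical
  have hp : p.Prime := Fact.out
  have hq2 := herm_two_le hF
  have h2N : ((2 : ℕ) : F) ≠ 0 := by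
    rw [Ne, CharP.cast_eq_zero_iff F p]
    intro hd
    exact hp2 ((Nat.prime_dvd_prime_iff_eq hp Nat.prime_two).1 hd)
  have h2 : (2 : F) ≠ 0 := by exact_mod_cast h2N
  obtain ⟨z, hz⟩ := hz
  have hzn : z * z ^ (p ^ e) = 1 := scal_norm n (by omega) A hA 2 z hz
  have hz1 : z ^ (p ^ e + 1) = 1 := by rw [pow_succ']; exact hzn
  have hz0 : z ≠ 0 := by
    intro h0
    rw [h0, zero_mul] at hzn
    exact zero_ne_one hzn
  have hdimV : finrank F (Fin n → F) = n := Module.finrank_fin_fun F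
  have hT2 : (Matrix.toLin' A) ^ 2 = z • 1 := by
    rw [← Matrix.toLin'_pow, hz, map_smul, Matrix.toLin'_one]
    rfl
  have hqodd : Odd (p ^ e) := (hp.odd_of_ne_two hp2).pow
  obtain ⟨j, hj⟩ := hqodd
  have hsqz : IsSquare z := by
    have hch : ringChar F ≠ 2 := by
      rw [ringChar.eq F p]
      exact hp2
    rw [FiniteField.isSquare_iff hch hz0, hF]
    have h3 : (p ^ e) ^ 2 / 2 = j * (p ^ e + 1) := by
      rw [hj]
      have : (2 * j + 1) ^ 2 = 2 * (j * (2 * j + 1 + 1)) + 1 := by ring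
      rw [this]
      omega
    rw [h3, mul_comm, pow_mul, hz1, one_pow]
  obtain ⟨l, hl⟩ := hsqz
  have hl0 : l ≠ 0 := by
    intro h0
    rw [h0, mul_zero] at hl
    exact hz0 hl
  have hν : (l * l ^ (p ^ e)) * (l * l ^ (p ^ e)) = 1 := by
    have : (l * l ^ (p ^ e)) * (l * l ^ (p ^ e)) = (l * l) * (l * l) ^ (p ^ e) := by ring
    rw [this, ← hl, hzn]
  rcases mul_self_eq_one_iff.1 hν with hν1 | hν1
  · -- involution case
    apply fixesN_of_smul hF n m A l hl0
    set y := l⁻¹ • Matrix.toLin' A with hy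
    have hiso : ∀ u v, hermB hF n (y u) (y v) = hermB hF n u v :=
      scaled_iso hF n A hA l⁻¹ (inv_norm l hν1)
    have hy2 : y ^ 2 = 1 := by
      rw [hy, _root_.smul_pow, hT2, smul_smul, inv_pow, sq, ← hl, inv_mul_cancel₀ hz0, one_smul]
    exact invol_nd (hermB hF n) y (frob_invol hF) (hermB_sym hF n) (frob_ne hF) (hermB_nd hF n)
      hiso h2N hy2 n m hdimV hmn
  · -- eigenspace case
    have hyy : ∀ v, Matrix.toLin' A (Matrix.toLin' A v) = (l * l) • v := by
      intro v
      have := congrArg (fun g : (Fin n → F) →ₗ[F] (Fin n → F) => g v) hT2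
      simp only [sq, Module.End.mul_apply, LinearMap.smul_apply, Module.End.one_apply] at this
      rw [this, hl]
    have hlσ : l * frobHom hF l = -1 := by rw [frobHom_apply]; exact hν1
    have hyN : (Matrix.toLin' A) ^ (2 * (p ^ e + 1)) = 1 := by
      rw [pow_mul, hT2, _root_.smul_pow, one_pow, hz1, one_smul]
    obtain ⟨t, ht, hsel⟩ := eigen_chain (hermB hF n) (Matrix.toLin' A) (frob_invol hF)
      (hermB_sym hF n) (hermB_nd hF n) (uni_iso hF n A hA) (2 * (p ^ e + 1)) (by omega) hyN h2 l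
      hlσ hyy
    rw [hdimV] at ht
    have heven : Even m → FixesN hF n m A := by
      rintro ⟨j', hj'⟩
      obtain ⟨W, hWinv, hWnd, hWdim⟩ := hsel j' (by omega)
      exact ⟨W, by rw [hWdim, hj']; ring, hWnd, hWinv⟩
    rcases h with hodd | hev | ⟨hv, hq4⟩
    · exfalso
      rw [ht] at hodd
      exact (Nat.not_even_iff_odd.2 hodd) (even_two_mul t)
    · exact heven hev
    · exfalso
      -- the determinant
      have hG2 : (l⁻¹ • A) ^ 2 = 1 := by
        rw [_root_.smul_pow, hz, smul_smul, inv_pow, sq, ← hl, inv_mul_cancel₀ hz0, one_smul]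
      have h4 := det_involution h2 n (l⁻¹ • A) hG2
      have hfixeq : fixE (Matrix.toLin' (l⁻¹ • A)) =
          LinearMap.ker (Matrix.toLin' A - l • (1 : (Fin n → F) →ₗ[F] (Fin n → F))) := by
        ext v
        rw [mem_fixE, LinearMap.mem_ker, map_smul, LinearMap.smul_apply, LinearMap.sub_apply,
          LinearMap.smul_apply, Module.End.one_apply, sub_eq_zero]
        constructor
        · intro h5
          have := congrArg (fun w => l • w) h5
          simp only [smul_smul, mul_inv_cancel₀ hl0, one_smul] at this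
          exact this
        · intro h5
          rw [h5, smul_smul, inv_mul_cancel₀ hl0, one_smul]
      have hfd := eigen_finrank (hermB hF n) (Matrix.toLin' A) (frob_invol hF) (hermB_sym hF n)
        (hermB_nd hF n) (uni_iso hF n A hA) h2 l hlσ hyy
      rw [hdimV, ← hfixeq] at hfd
      have hfm := finrank_fix_add_mov (Matrix.toLin' (l⁻¹ • A))
      rw [hdimV] at hfm
      have hmov : finrank F (movR (Matrix.toLin' (l⁻¹ • A))) = t := by omega
      rw [hmov, Matrix.det_smul, hdet, mul_one, Fintype.card_fin, inv_pow] at h4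
      have h5 : l ^ n = (-1) ^ t := by
        have := congrArg (fun x => x⁻¹) h4
        simp only [inv_inv] at this
        rw [this, ← inv_pow, inv_neg, inv_one]
      have hl1 : l ^ (p ^ e + 1) = -1 := by rw [pow_succ']; exact hν1
      exact two_arith h2 (p ^ e) n t ht (by omega) l hl1 h5 hv hq4

/-- `r = 2 ≠ p`: necessity -/
theorem fwd_two (p e : ℕ) [Fact p.Prime] [CharP F p] (hF : Fintype.card F = (p ^ e) ^ 2)
    (n m : ℕ) (hn : 3 ≤ n) (hp2 : p ≠ 2)
    (H : ∀ A : Matrix (Fin n) (Fin n) F, IsUni F (p ^ e) n A → A.det = 1 →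
      (∃ z : F, A ^ 2 = z • (1 : Matrix (Fin n) (Fin n) F)) →
      (∀ z : F, A ≠ z • (1 : Matrix (Fin n) (Fin n) F)) → FixesN hF n m A) :
    Odd n ∨ Even m ∨ (padicValNat 2 n ≤ padicValNat 2 (p ^ e + 1) ∧ (p ^ e) % 4 = 3) := by
  classical
  by_contra hcon
  rw [not_or, not_or, Nat.not_odd_iff_even, Nat.not_even_iff_odd] at hcon
  obtain ⟨⟨t, ht⟩, hmodd, hcase⟩ := hcon
  have hp : p.Prime := Fact.out
  have hq2 := herm_two_le hF
  have h2N : ((2 : ℕ) : F) ≠ 0 := by
    rw [Ne, CharP.cast_eq_zero_iff F p]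
    intro hd
    exact hp2 ((Nat.prime_dvd_prime_iff_eq hp Nat.prime_two).1 hd)
  have h2 : (2 : F) ≠ 0 := by exact_mod_cast h2N
  have hne : (-1 : F) ≠ 1 := by
    intro h
    apply h2
    have : (1 : F) + 1 = 0 := by
      nth_rewrite 1 [← h]
      ring
    rw [← this]
    ring
  have hσe : ∀ c : F, frobHom hF c = c ^ (p ^ e) := fun c => frobHom_apply hF c
  set q := p ^ e with hq
  have hqodd : Odd q := (hp.odd_of_ne_two hp2).pow
  have hn2 : n = 2 * t := by omega
  have ht1 : 1 ≤ t := by omega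
  -- the 2-adic valuation of `q + 1`
  set v := padicValNat 2 (q + 1) with hv
  have hv1 : 1 ≤ v := one_le_padicValNat_of_dvd (by omega) (hqodd.add_one.two_dvd)
  obtain ⟨u, hu⟩ : 2 ^ v ∣ q + 1 := pow_padicValNat_dvd
  have huodd : Odd u := by
    rcases Nat.even_or_odd u with he | ho
    · exfalso
      obtain ⟨u', hu'⟩ := he
      have : 2 ^ (v + 1) ∣ q + 1 := ⟨u', by rw [hu, hu', pow_succ]; ring⟩
      exact pow_succ_padicValNat_not_dvd (p := 2) (by omega) this
    · exact ho
  have hdvd : 2 ^ (v + 1) ∣ Fintype.card F - 1 := by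
    rw [hF, sq_sub_one_eq q (by omega)]
    obtain ⟨a, ha⟩ := hqodd
    have : q - 1 = 2 * a := by omega
    rw [this, hu, pow_succ]
    exact ⟨a * u, by ring⟩
  obtain ⟨ω, hω⟩ := exists_orderOf_eq (K := F) (2 ^ (v + 1)) hdvd
  set l : F := (ω : F) with hl
  have hl0 : l ≠ 0 := ω.ne_zero
  have hlv : l ^ (2 ^ v) = -1 := by
    have h1 : (l ^ (2 ^ v)) * (l ^ (2 ^ v)) = 1 := by
      rw [← pow_add, ← two_mul, ← pow_succ', hl, ← Units.val_pow_eq_pow_val, ← hω,
        pow_orderOf_eq_one, Units.val_one]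
    rcases mul_self_eq_one_iff.1 h1 with h3 | h3
    · exfalso
      have h4 : ω ^ (2 ^ v) = 1 := by
        apply Units.ext
        rw [Units.val_pow_eq_pow_val, Units.val_one]
        exact h3
      have h5 := orderOf_dvd_of_pow_eq_one h4
      rw [hω] at h5
      have h6 := Nat.le_of_dvd (by positivity) h5
      rw [pow_succ] at h6
      have : 0 < 2 ^ v := by positivity
      omega
    · exact h3
  have hlq : l ^ (q + 1) = -1 := by
    rw [hu, pow_mul, hlv, huodd.neg_one_pow]
  -- the determinant condition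
  have hdetl : (-1 : F) ^ t * l ^ n = 1 := by
    by_cases hvn : v < padicValNat 2 n
    · obtain ⟨n', hn'⟩ : 2 ^ (v + 1) ∣ n := (padicValNat_dvd_iff_le (by omega)).2 hvn
      have hln : l ^ n = 1 := by
        rw [hn', pow_mul, pow_succ, pow_mul, hlv]
        norm_num
      have hte : Even t := by
        have h3 : t = 2 ^ v * n' := by
          have : 2 * t = 2 * (2 ^ v * n') := by rw [← hn2, hn', pow_succ]; ring
          omega
        rw [h3]
        obtain ⟨v', hv'⟩ : ∃ v', v = v' + 1 := ⟨v - 1, by omega⟩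
        rw [hv', pow_succ]
        exact ⟨2 ^ v' * n', by ring⟩
      rw [hln, hte.neg_one_pow, one_mul]
    · have hq1 : q % 4 = 1 := by
        have h3 : q % 4 ≠ 3 := fun h => hcase ⟨by omega, h⟩
        obtain ⟨a, ha⟩ := hqodd
        omega
      have hv' : v = 1 := by
        by_contra hne1
        have h3 : 2 ≤ v := by omega
        have h4 : 2 ^ 2 ∣ q + 1 := (pow_dvd_pow 2 h3).trans ⟨u, hu⟩
        omega
      rw [hv', pow_one] at hlv
      rw [hn2, pow_mul, hlv, ← pow_add, ← two_mul, pow_mul]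
      norm_num
  -- the model
  set zz : F := l ^ 2 with hzz
  have hzz0 : zz ≠ 0 := pow_ne_zero 2 hl0
  have hσz : frobHom hF zz = zz⁻¹ := by
    rw [hσe]
    apply eq_inv_of_mul_eq_one_right
    rw [hzz, ← pow_mul, ← pow_add]
    have : 2 + 2 * q = (q + 1) * 2 := by ring
    rw [this, pow_mul, hlq]
    norm_num
  have hPm : (X ^ 2 - C zz : F[X]).Monic := monic_X_pow_sub_C zz (by norm_num)
  obtain ⟨g, hg1, hg2, hg3⟩ := exists_uni_of_charpoly hF (frobHom hF) hσe 2 zz n
    ((X ^ 2 - C zz) ^ t) (hPm.pow t)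
    (by rw [hPm.natDegree_pow, natDegree_X_pow_sub_C, hn2, mul_comm])
    (by rw [StarPoly.star_pow, star_X_pow_sub_C (frobHom hF) 2 (by norm_num) zz hzz0 hσz]) t
    dvd_rfl hzz0 (by norm_num)
  have hgdet : g.det = 1 := by
    rw [Matrix.det_eq_sign_charpoly_coeff, hg2, Fintype.card_fin, coeff_zero_eq_eval_zero, eval_pow,
      eval_sub, eval_pow, eval_X, eval_C, hn2, pow_mul]
    have e1 : ((-1 : F) ^ 2) ^ t = 1 := by norm_num
    have e2 : ((0 : F) ^ 2 - zz) ^ t = (-1) ^ t * l ^ n := by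
      rw [hzz, hn2, pow_mul l 2 t]
      have : (0 : F) ^ 2 - l ^ 2 = (-1) * l ^ 2 := by ring
      rw [this, mul_pow]
    rw [e1, e2, one_mul, hdetl]
  have hns : ∀ w : F, g ≠ w • (1 : Matrix (Fin n) (Fin n) F) := by
    intro w hw
    have h1 : w ^ 2 = zz := by
      have h3 := hg3
      rw [hw, _root_.smul_pow, one_pow] at h3
      have h4 := congrFun (congrFun h3 ⟨0, by omega⟩) ⟨0, by omega⟩
      rw [Matrix.smul_apply, Matrix.smul_apply, Matrix.one_apply_eq, smul_eq_mul, smul_eq_mul,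
        mul_one, mul_one] at h4
      exact h4
    have h3 : w * w ^ q = 1 := scal_norm n (by omega) g hg1 1 w (by rw [pow_one]; exact hw)
    obtain ⟨a, ha⟩ := hqodd.add_one
    have h5 : w ^ (q + 1) = 1 := by rw [pow_succ']; exact h3
    have h6 : w ^ (q + 1) = (w ^ 2) ^ a := by rw [← pow_mul, ha, two_mul]
    have h7 : l ^ (q + 1) = (l ^ 2) ^ a := by rw [← pow_mul, ha, two_mul]
    rw [h6, h1, hzz, ← h7, hlq] at h5
    exact hne h5
  obtain ⟨W, hWdim, hWnd, hWinv⟩ := H g hg1 hgdet ⟨zz, hg3⟩ hns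
  have hT2 : (Matrix.toLin' g) ^ 2 = zz • 1 := by
    rw [← Matrix.toLin'_pow, hg3, map_smul, Matrix.toLin'_one]
    rfl
  have hyy : ∀ x, Matrix.toLin' g (Matrix.toLin' g x) = (l * l) • x := by
    intro x
    have := congrArg (fun f : (Fin n → F) →ₗ[F] (Fin n → F) => f x) hT2
    simp only [sq, Module.End.mul_apply, LinearMap.smul_apply, Module.End.one_apply] at this
    rw [this, hzz, sq]
  have hlσ : l * frobHom hF l = -1 := by
    rw [hσe, ← pow_succ']
    exact hlq
  have hev := eigen_even (hermB hF n) (Matrix.toLin' g) (frob_invol hF) (hermB_sym hF n)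
    (uni_iso hF n g hg1) h2 l hlσ hyy W hWinv hWnd
  rw [hWdim] at hev
  exact (Nat.not_even_iff_odd.2 hmodd) hev

end two

end Cfsg.Agent.Lib.Helper22.NdUn
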