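import Mathlib
import Cfsg.Prelude.Def_GeometricClasses
import Cfsg.Agent.Lib.Helper20.OmMDefs
import Cfsg.Agent.Lib.Helper19.OSubBasic
import Cfsg.Agent.Lib.Helper25.OrthGeom

/-!
OmOddMax market (helper20), leaf OM-P3 `not_omega_le_field`: `Ω(Q)` normalises no field subalgebra of degree `≥ 2`
(`7 ≤ card ι`).  Elements of a normalised field commute with the long root elements; a matrix commuting with all long
root elements has every singular vector as an eigenvector, with one common eigenvalue; singular vectors span.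
-/

set_option autoImplicit false
set_option linter.unusedSectionVars false
set_option linter.unusedVariables false

namespace Cfsg.Agent.Lib.Helper22.OmMLeaf

open Cfsg Cfsg.Geo Matrix Module QuadraticMap Cfsg.Agent.Lib.Helper20.OmM
open Cfsg.Agent.Lib.Helper19.OSub Cfsg.Agent.Lib.Helper15 Cfsg.Agent.Lib.Helper25.OGeom
open Cfsg.Agent.Lib.Helper25.Fam

section generic
variable {ι : Type} [Fintype ι] [DecidableEq ι] {F : Type*} [Field F] [Fintype F]
  (Q : QuadraticForm F (ι → F))

/-- "`k` commutes with all long root elements", in vector form -/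
def CommRt (k : Matrix ι ι F) : Prop :=
  ∀ (u v : ι → F), Q u = 0 → Q v = 0 → polar Q u v = 0 → ∀ x : ι → F,
    polar Q u x • (k *ᵥ v) - polar Q v x • (k *ᵥ u) =
      polar Q u (k *ᵥ x) • v - polar Q v (k *ᵥ x) • u

/-- a non-zero vector killed by four functionals (`5 ≤ card ι`) -/
lemma exists_ne_zero_four (hι : 5 ≤ Fintype.card ι) (f₁ f₂ f₃ f₄ : (ι → F) →ₗ[F] F) :
    ∃ x : ι → F, x ≠ 0 ∧ f₁ x = 0 ∧ f₂ x = 0 ∧ f₃ x = 0 ∧ f₄ x = 0 := by
  set φ : (ι → F) →ₗ[F] (Fin 4 → F) := LinearMap.pi ![f₁, f₂, f₃, f₄] with hφ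
  have hker : LinearMap.ker φ ≠ ⊥ := by
    intro h
    have hinj : Function.Injective φ := LinearMap.ker_eq_bot.mp h
    have := LinearMap.finrank_le_finrank_of_injective hinj
    rw [Module.finrank_fintype_fun_eq_card, Module.finrank_fintype_fun_eq_card, Fintype.card_fin] at this
    omega
  obtain ⟨x, hx, hx0⟩ := Submodule.exists_mem_ne_zero_of_ne_bot hker
  rw [LinearMap.mem_ker] at hx
  refine ⟨x, hx0, ?_, ?_, ?_, ?_⟩
  · simpa [hφ] using congrFun hx 0
  · simpa [hφ] using congrFun hx 1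
  · simpa [hφ] using congrFun hx 2
  · simpa [hφ] using congrFun hx 3

/-- Lemma A: the elements of a field normalised by `Ω` commute with the long root elements -/
lemma commRt_of_normalizes (hQ : (polarBilin Q).Nondegenerate) (hι : 7 ≤ Fintype.card ι) {r : ℕ}
    {K : Subalgebra F (Matrix ι ι F)} (hK : IsFieldSubalgebra r K)
    (hle : omegaGL ⇑Q ≤ subalgebraNormalizer K) {k : Matrix ι ι F} (hk : k ∈ K) : CommRt Q k := by
  intro u v hu hv huv
  -- `g k = k g` for `g = rt Q u v 1`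
  set g : GL ι F := rt Q u v 1 with hg
  have hgN : g ∈ subalgebraNormalizer K := hle (rt_mem_omega hQ hι u v 1)
  have hk' : (g : Matrix ι ι F) * k * ((g⁻¹ : GL ι F) : Matrix ι ι F) ∈ K := (hgN k).mp hk
  obtain ⟨x, hx0, h1, h2, h3, h4⟩ := exists_ne_zero_four (by omega)
    (polarBilin Q u) (polarBilin Q v)
    ((polarBilin Q u).comp (Matrix.toLin' k)) ((polarBilin Q v).comp (Matrix.toLin' k))
  simp only [polarBilin_apply_apply, LinearMap.comp_apply, Matrix.toLin'_apply] at h1 h2 h3 h4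
  have hfix : ∀ (c : F) (y : ι → F), polar Q u y = 0 → polar Q v y = 0 → mv (rt Q u v c) y = y := by
    intro c y hy1 hy2
    rw [mv_rt hu hv huv, hy1, hy2, zero_smul, zero_smul, sub_zero, smul_zero, add_zero]
  have hginv : mv g⁻¹ x = x := by
    rw [hg, rt_inv]
    exact hfix _ x h1 h2
  have e1 : ((g : Matrix ι ι F) * k * ((g⁻¹ : GL ι F) : Matrix ι ι F)) *ᵥ x = k *ᵥ x := by
    rw [← Matrix.mulVec_mulVec, ← Matrix.mulVec_mulVec]
    change mv g (k *ᵥ mv g⁻¹ x) = k *ᵥ x
    rw [hginv]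
    exact hfix 1 _ h3 h4
  have hsub : (g : Matrix ι ι F) * k * ((g⁻¹ : GL ι F) : Matrix ι ι F) - k ∈ K := K.sub_mem hk' hk
  have hzero : (g : Matrix ι ι F) * k * ((g⁻¹ : GL ι F) : Matrix ι ι F) - k = 0 := by
    by_contra hne
    obtain ⟨y, hyK, hy⟩ := hK.inv _ hsub hne
    have hy' := hK.comm _ hsub y hyK
    apply hx0
    have : (1 : Matrix ι ι F) *ᵥ x = 0 := by
      rw [← hy, hy', ← Matrix.mulVec_mulVec, Matrix.sub_mulVec, e1, sub_self, Matrix.mulVec_zero]
    rwa [Matrix.one_mulVec] at this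
  have hcomm : (g : Matrix ι ι F) * k = k * (g : Matrix ι ι F) := by
    have h5 := sub_eq_zero.mp hzero
    have h6 := congrArg (fun M => M * (g : Matrix ι ι F)) h5
    simp only [mul_assoc] at h6
    rw [← Units.val_mul, inv_mul_cancel, Units.val_one, mul_one] at h6
    exact h6
  intro z
  have e2 : mv g (k *ᵥ z) = k *ᵥ mv g z := by
    change (g : Matrix ι ι F) *ᵥ (k *ᵥ z) = k *ᵥ ((g : Matrix ι ι F) *ᵥ z)
    rw [Matrix.mulVec_mulVec, Matrix.mulVec_mulVec, hcomm]
  rw [hg, mv_rt hu hv huv, mv_rt hu hv huv, one_smul, one_smul, Matrix.mulVec_add, Matrix.mulVec_sub,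
    Matrix.mulVec_smul, Matrix.mulVec_smul] at e2
  exact (add_left_cancel e2).symm

/-- Step A: every singular vector is an eigenvector -/
lemma eigen_of_commRt (hQ : (polarBilin Q).Nondegenerate) (hι : 7 ≤ Fintype.card ι)
    {k : Matrix ι ι F} (hk : CommRt Q k) {v : ι → F} (hv0 : v ≠ 0) (hv : Q v = 0) :
    ∃ a : F, k *ᵥ v = a • v := by
  obtain ⟨w, hw, hvw⟩ := exists_sing_partner Q hQ hv0 hv
  have hN := perpPair_nd Q ⊤ (ndOn_top Q hQ) (e := v) (f := w) Submodule.mem_top Submodule.mem_top hv hw hvw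
  have hfr := perpPair_finrank Q ⊤ (e := v) (f := w) Submodule.mem_top Submodule.mem_top hv hw hvw
  rw [finrank_top, Module.finrank_fintype_fun_eq_card] at hfr
  obtain ⟨u, huN, hu0, hu⟩ := exists_singular_in Q (perpPair Q ⊤ v w) (by omega)
  obtain ⟨u₁, hu₁N, hu₁, huu₁⟩ := exists_hyp_partner Q _ hN huN hu0 hu
  rw [mem_perpPair] at huN hu₁N
  obtain ⟨-, hvu, hwu⟩ := huN
  obtain ⟨-, hvu₁, hwu₁⟩ := hu₁N
  -- pair `(u, v)` with `x = u₁`
  have e1 := hk u v hu hv (by rw [polar_comm]; exact hvu) u₁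
  rw [huu₁, hvu₁, one_smul, zero_smul, sub_zero] at e1
  -- pair `(u₁, v)` with `x = u`
  have e2 := hk u₁ v hu₁ hv (by rw [polar_comm]; exact hvu₁) u
  rw [polar_comm Q u₁ u, huu₁, hvu, one_smul, zero_smul, sub_zero] at e2
  -- compare
  set a := polar Q u (k *ᵥ u₁) with ha
  set b := polar Q v (k *ᵥ u₁) with hb
  set a' := polar Q u₁ (k *ᵥ u) with ha'
  set b' := polar Q v (k *ᵥ u) with hb'
  have e3 : a • v - b • u = a' • v - b' • u₁ := by rw [← e1, ← e2]
  have hb0 : b = 0 := by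
    have := congrArg (fun y => polar Q y u₁) e3
    simp only [polar_sub_left, polar_smul_left, hvu₁, huu₁, smul_eq_mul, mul_zero, mul_one, zero_sub,
      polar_self_sing hu₁, sub_zero] at this
    exact neg_eq_zero.mp this
  refine ⟨a, ?_⟩
  rw [e1, hb0, zero_smul, sub_zero]

/-- Step B: non-orthogonal singular vectors have the same eigenvalue -/
lemma eigen_eq_of_nonorth (hQ : (polarBilin Q).Nondegenerate) (hι : 7 ≤ Fintype.card ι)
    {k : Matrix ι ι F} (hk : CommRt Q k) {a b : ι → F} (ha : Q a = 0) (hb : Q b = 0)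
    (hab : polar Q a b ≠ 0) {α β : F} (hα : k *ᵥ a = α • a) (hβ : k *ᵥ b = β • b) : α = β := by
  -- normalise `b`
  set b₁ : ι → F := (polar Q a b)⁻¹ • b with hb₁
  have hQb₁ : Q b₁ = 0 := by rw [hb₁, QuadraticMap.map_smul, hb, smul_zero]
  have hab₁ : polar Q a b₁ = 1 := by
    rw [hb₁, polar_smul_right, smul_eq_mul, inv_mul_cancel₀ hab]
  have hfr := perpPair_finrank Q ⊤ (e := a) (f := b₁) Submodule.mem_top Submodule.mem_top ha hQb₁ hab₁
  rw [finrank_top, Module.finrank_fintype_fun_eq_card] at hfr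
  obtain ⟨z, hzN, hz0, hz⟩ := exists_singular_in Q (perpPair Q ⊤ a b₁) (by omega)
  rw [mem_perpPair] at hzN
  obtain ⟨-, haz, hb₁z⟩ := hzN
  have hbz : polar Q b z = 0 := by
    rw [hb₁, polar_smul_left, smul_eq_mul] at hb₁z
    rcases mul_eq_zero.mp hb₁z with h | h
    · exact absurd h (inv_ne_zero hab)
    · exact h
  obtain ⟨ζ, hζ⟩ := eigen_of_commRt Q hQ hι hk hz0 hz
  -- generic step: `s` singular non-zero, `s ⊥ z`, `t` with `polar s t ≠ 0`, `polar z t = 0`
  have step : ∀ (s t : ι → F) (σ : F), Q s = 0 → polar Q s z = 0 → polar Q s t ≠ 0 → polar Q z t = 0 →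
      k *ᵥ s = σ • s → σ = ζ := by
    intro s t σ hs hsz hst hzt hσ
    have hsz0 : s + z ≠ 0 := by
      intro h0
      have := congrArg (fun y => polar Q y t) h0
      simp only [polar_add_left, hzt, add_zero, polar_zero_left] at this
      exact hst this
    have hQsz : Q (s + z) = 0 := by
      rw [QuadraticMap.map_add Q s z, hs, hz, hsz]; simp
    obtain ⟨μ, hμ⟩ := eigen_of_commRt Q hQ hι hk hsz0 hQsz
    rw [Matrix.mulVec_add, hσ, hζ, smul_add] at hμ
    have h1 : σ = μ := by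
      have := congrArg (fun y => polar Q y t) hμ
      simp only [polar_add_left, polar_smul_left, hzt, smul_eq_mul, mul_zero, add_zero] at this
      exact mul_right_cancel₀ hst this
    have h2 : (ζ - μ) • z = 0 := by
      rw [sub_smul]
      have : σ • s + ζ • z - (μ • s + μ • z) = 0 := sub_eq_zero.mpr hμ
      rw [h1] at this
      rw [← this]
      abel
    rcases smul_eq_zero.mp h2 with h | h
    · rw [h1]
      exact (sub_eq_zero.mp h).symm
    · exact absurd h hz0
  have h1 := step a b α ha haz hab (by rw [polar_comm]; exact hbz) hα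
  have h2 := step b a β hb hbz (by rw [polar_comm]; exact hab) (by rw [polar_comm]; exact haz) hβ
  rw [h1, h2]

/-- a matrix commuting with all long root elements is scalar -/
lemma scalar_of_commRt (hQ : (polarBilin Q).Nondegenerate) (hι : 7 ≤ Fintype.card ι)
    {k : Matrix ι ι F} (hk : CommRt Q k) : ∃ c : F, k = c • 1 := by
  have hfr : 3 ≤ finrank F (ι → F) := by
    rw [Module.finrank_fintype_fun_eq_card]; omega
  obtain ⟨v₀, -, hv₀0, hv₀⟩ := exists_singular_in Q (⊤ : Submodule F (ι → F)) (by rw [finrank_top]; exact hfr)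
  obtain ⟨c, hc⟩ := eigen_of_commRt Q hQ hι hk hv₀0 hv₀
  refine ⟨c, ?_⟩
  have hall : ∀ s : ι → F, Q s = 0 → k *ᵥ s = c • s := by
    intro s hs
    by_cases hs0 : s = 0
    · rw [hs0, Matrix.mulVec_zero, smul_zero]
    obtain ⟨σ, hσ⟩ := eigen_of_commRt Q hQ hι hk hs0 hs
    by_cases h : polar Q v₀ s = 0
    · obtain ⟨z, hz, hzv, hzs⟩ := exists_sing_nonperp_pair Q hQ hv₀0 hs0 hv₀ hs h
      have hz0 : z ≠ 0 := by
        rintro rfl
        simp at hzv
      obtain ⟨ζ, hζ⟩ := eigen_of_commRt Q hQ hι hk hz0 hz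
      have h1 := eigen_eq_of_nonorth Q hQ hι hk hz hv₀ hzv hζ hc
      have h2 := eigen_eq_of_nonorth Q hQ hι hk hz hs hzs hζ hσ
      rw [hσ, ← h2, h1]
    · have h1 := eigen_eq_of_nonorth Q hQ hι hk hv₀ hs h hc hσ
      rw [hσ, h1]
  -- singular vectors span
  have hspan := span_singular_eq_top Q hQ hfr
  have hle : Submodule.span F {x : ι → F | Q x = 0} ≤ LinearMap.ker (Matrix.toLin' (k - c • 1)) := by
    rw [Submodule.span_le]
    intro s hs
    rw [SetLike.mem_coe, LinearMap.mem_ker, Matrix.toLin'_apply, Matrix.sub_mulVec, Matrix.smul_mulVec,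
      Matrix.one_mulVec, hall s hs, sub_self]
  rw [hspan, top_le_iff, LinearMap.ker_eq_top] at hle
  have : k - c • 1 = 0 := by
    have h0 : Matrix.toLin' (k - c • 1) = Matrix.toLin' (0 : Matrix ι ι F) := by
      rw [hle, map_zero]
    exact Matrix.toLin'.injective h0
  exact sub_eq_zero.mp this

/-- P3. -/
theorem not_omega_le_field (hQ : (polarBilin Q).Nondegenerate) (h2 : (2 : F) ≠ 0)
    (hι : 7 ≤ Fintype.card ι) {r : ℕ} (hr : 2 ≤ r) {K : Subalgebra F (Matrix ι ι F)}
    (hK : IsFieldSubalgebra r K) : ¬ omegaGL ⇑Q ≤ subalgebraNormalizer K := by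
  intro hle
  have hsc : ∀ k ∈ K, ∃ c : F, k = c • (1 : Matrix ι ι F) := fun k hk =>
    scalar_of_commRt Q hQ hι (commRt_of_normalizes Q hQ hι hK hle hk)
  have hsub : Subalgebra.toSubmodule K ≤ Submodule.span F {(1 : Matrix ι ι F)} := by
    intro k hk
    obtain ⟨c, rfl⟩ := hsc k hk
    exact Submodule.smul_mem _ _ (Submodule.subset_span rfl)
  have h1 := Submodule.finrank_mono hsub
  have h3 : finrank F (Submodule.span F {(1 : Matrix ι ι F)}) ≤ 1 := by
    have := finrank_span_finset_le_card (R := F) ({(1 : Matrix ι ι F)} : Finset (Matrix ι ι F))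
    rw [Finset.coe_singleton, Finset.card_singleton] at this
    exact this
  have h4 : finrank F (Subalgebra.toSubmodule K) = r := hK.finrank_eq
  omega

end generic

end Cfsg.Agent.Lib.Helper22.OmMLeaf
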