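import Mathlib
import Cfsg.Prelude.Def_GeometricClasses
import Cfsg.Agent.Lib.Helper22.OmMP3

/-!
OMEGA-EVEN market 'OE-ROWS' (planner lead), leaf OE-P3 `not_omega_le_field`: `Ω(Q)` normalises no field subalgebra of degree `≥ 2`
(`7 ≤ card ι`), ALL characteristics.  Restatement of `Helper22.OmMLeaf.not_omega_le_field` without the (unused) hypothesis `2 ≠ 0`:
the cores `commRt_of_normalizes`, `scalar_of_commRt` of `Helper22.OmMP3` never used it.
-/

set_option autoImplicit false
set_option linter.unusedSectionVars false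
set_option linter.unusedVariables false

namespace Cfsg.Agent.Lib.Helper22.OELeaf

open Cfsg Cfsg.Geo Matrix Module QuadraticMap

section generic
variable {ι : Type} [Fintype ι] [DecidableEq ι] {F : Type*} [Field F] [Fintype F]
  (Q : QuadraticForm F (ι → F))

/-- P3. -/
theorem not_omega_le_field (hQ : (polarBilin Q).Nondegenerate) (hι : 7 ≤ Fintype.card ι) {r : ℕ}
    (hr : 2 ≤ r) {K : Subalgebra F (Matrix ι ι F)} (hK : IsFieldSubalgebra r K) :
    ¬ omegaGL ⇑Q ≤ subalgebraNormalizer K := by
  intro hle
  have hsc : ∀ k ∈ K, ∃ c : F, k = c • (1 : Matrix ι ι F) := fun k hk =>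
    Cfsg.Agent.Lib.Helper22.OmMLeaf.scalar_of_commRt Q hQ hι
      (Cfsg.Agent.Lib.Helper22.OmMLeaf.commRt_of_normalizes Q hQ hι hK hle hk)
  have hsub : Subalgebra.toSubmodule K ≤ Submodule.span F {(1 : Matrix ι ι F)} := by
    intro k hk
    obtain ⟨c, rfl⟩ := hsc k hk
    exact Submodule.smul_mem _ _ (Submodule.subset_span rfl)
  have h1 := Submodule.finrank_mono hsub
  have h3 : finrank F (Submodule.span F {(1 : Matrix ι ι F)}) ≤ 1 := by
    have := finrank_span_finset_le_card (R := F) ({(1 : Matrix ι ι F)} : Finset (Matrix ι ι F))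
    rw [Finset.coe_singleton, Finset.card_singleton] at this
    exact this
  have h4 : finrank F (Subalgebra.toSubmodule K) = r := hK.finrank_eq
  omega

end generic

end Cfsg.Agent.Lib.Helper22.OELeaf
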