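import Mathlib
import Cfsg.Prelude.Def_GeometricClasses
import Cfsg.Agent.Lib.Helper1.OmMP5

/-!
OMEGA-EVEN market 'OE-ROWS' (planner lead), leaf OE-P5 `not_omega_le_subfield`: `Ω(Q)` lies in no subfield group (`7 ≤ card ι`),
ALL characteristics.  One line on helper1's `Helper1.OmMLeaf.not_omega_le_subfield'` (which needs only `F₀ ≠ F`: `Ω` is perfect, so it
preserves `P F₀^ι`, and the long root elements `rt Q u z c`, `c ∈ F`, force `F ≤ F₀`); neither `2 ≠ 0` nor the rationality of the
form is used.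
-/

set_option autoImplicit false
set_option linter.unusedSectionVars false
set_option linter.unusedVariables false

namespace Cfsg.Agent.Lib.Helper22.OELeaf

open Cfsg Cfsg.Geo Matrix Module QuadraticMap

section generic
variable {ι : Type} [Fintype ι] [DecidableEq ι] {F : Type*} [Field F] [Fintype F]
  (Q : QuadraticForm F (ι → F))

/-- P5. -/
theorem not_omega_le_subfield (hQ : (polarBilin Q).Nondegenerate) (hι : 7 ≤ Fintype.card ι)
    (F₀ : Subfield F) {r : ℕ} (hr : r.Prime) (hcard : Fintype.card F = Nat.card F₀ ^ r) (P : GL ι F)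
    (ζ : F) (hζ : ζ ≠ 0) (hrat : IsQuadFormRationalStructure (fun v : ι → F => ζ * Q v) F₀ P) :
    ¬ omegaGL ⇑Q ≤ subfieldSubgroup F₀ P := by
  obtain ⟨d, hd⟩ := Cfsg.Agent.Lib.Helper1.OmMLeaf.exists_not_mem_subfield_gen F₀ hr.two_le hcard
  exact Cfsg.Agent.Lib.Helper1.OmMLeaf.not_omega_le_subfield' Q hQ hι F₀ hd P

end generic

end Cfsg.Agent.Lib.Helper22.OELeaf
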