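import Mathlib
import Cfsg.Prelude.Def_GeometricClasses
import Cfsg.Agent.Lib.Lead.OEQF
import Cfsg.Agent.Lib.Helper12.OETypeA
import Cfsg.Agent.Lib.Helper18.OET3
import Cfsg.Agent.Lib.Helper26.OET48
import Cfsg.Agent.Lib.Helper28.OmME3

/-!
OE-ROWS4 leaf R20 `not_plus_of_funi` (planner lead, `notes/OmEven_rows4_leaves.lean`), helper22: a field `K` of degree 2 of
similitudes, closed under adjoints, on a quadratic space of dimension `2m`, `m` odd, forces minus type: the space is an orthogonal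
sum of `m` anisotropic `K`-lines.
-/

set_option autoImplicit false
set_option linter.unusedSectionVars false
set_option linter.unusedVariables false

namespace Cfsg.Agent.Lib.Helper22.OELeaf

open Cfsg Cfsg.Geo Matrix Module QuadraticMap Cfsg.Agent.Lib.Lead.OE

section generic
variable {ι : Type} [Fintype ι] [DecidableEq ι] {F : Type*} [Field F] [Fintype F]
  (Q : QuadraticForm F (ι → F))

/-- evaluation of matrices at the vector `v` -/
def r20ev (v : ι → F) : Matrix ι ι F →ₗ[F] (ι → F) where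
  toFun M := M *ᵥ v
  map_add' M N := Matrix.add_mulVec M N v
  map_smul' c M := by simp [Matrix.smul_mulVec]

omit [Fintype F] in
@[simp] lemma r20ev_apply (v : ι → F) (M : Matrix ι ι F) : r20ev v M = M *ᵥ v := rfl

/-- the `K`-line of `v` -/
def r20line (K : Subalgebra F (Matrix ι ι F)) (v : ι → F) : Submodule F (ι → F) :=
  (Subalgebra.toSubmodule K).map (r20ev v)

omit [Fintype F] in
lemma r20_mem_line {K : Subalgebra F (Matrix ι ι F)} {v w : ι → F} :
    w ∈ r20line K v ↔ ∃ k ∈ K, k *ᵥ v = w := by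
  unfold r20line
  rw [Submodule.mem_map]
  constructor
  · rintro ⟨k, hk, rfl⟩
    exact ⟨k, hk, rfl⟩
  · rintro ⟨k, hk, rfl⟩
    exact ⟨k, hk, rfl⟩

omit [Fintype F] in
lemma r20_self_mem {K : Subalgebra F (Matrix ι ι F)} (v : ι → F) : v ∈ r20line K v :=
  r20_mem_line.2 ⟨1, K.one_mem, Matrix.one_mulVec v⟩

omit [Fintype F] in
lemma r20_act_mem {K : Subalgebra F (Matrix ι ι F)} {v w : ι → F} (hw : w ∈ r20line K v)
    {k : Matrix ι ι F} (hk : k ∈ K) : k *ᵥ w ∈ r20line K v := by
  obtain ⟨k₁, hk₁, rfl⟩ := r20_mem_line.1 hw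
  rw [Matrix.mulVec_mulVec]
  exact r20_mem_line.2 ⟨k * k₁, K.mul_mem hk hk₁, rfl⟩

omit [Fintype F] in
lemma r20_inv {K : Subalgebra F (Matrix ι ι F)} (hK : IsFieldSubalgebra 2 K) {k : Matrix ι ι F}
    (hk : k ∈ K) (h0 : k ≠ 0) : ∃ y ∈ K, y * k = 1 ∧ k * y = 1 := by
  obtain ⟨y, hy, hky⟩ := hK.inv k hk h0
  exact ⟨y, hy, by rw [← hK.comm k hk y hy]; exact hky, hky⟩

omit [Fintype F] in
lemma r20_eq_zero {K : Subalgebra F (Matrix ι ι F)} (hK : IsFieldSubalgebra 2 K) {k : Matrix ι ι F}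
    (hk : k ∈ K) {v : ι → F} (hv : v ≠ 0) (h : k *ᵥ v = 0) : k = 0 := by
  by_contra h0
  obtain ⟨y, hy, hyk, -⟩ := r20_inv hK hk h0
  apply hv
  calc v = (y * k) *ᵥ v := by rw [hyk, Matrix.one_mulVec]
    _ = y *ᵥ (k *ᵥ v) := (Matrix.mulVec_mulVec v y k).symm
    _ = 0 := by rw [h, Matrix.mulVec_zero]

omit [Fintype F] in
lemma r20_finrank_line {K : Subalgebra F (Matrix ι ι F)} (hK : IsFieldSubalgebra 2 K) {v : ι → F}
    (hv : v ≠ 0) : finrank F (r20line K v) = 2 := by
  have hinj : Function.Injective ((r20ev v).domRestrict (Subalgebra.toSubmodule K)) := by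
    rw [injective_iff_map_eq_zero]
    intro k hk
    apply Subtype.ext
    exact r20_eq_zero hK k.2 hv hk
  have hr : r20line K v = LinearMap.range ((r20ev v).domRestrict (Subalgebra.toSubmodule K)) := by
    rw [LinearMap.range_domRestrict]
    rfl
  rw [hr, LinearMap.finrank_range_of_inj hinj]
  exact hK.finrank_eq

/-- a non-zero vector of the `K`-line of a non-singular vector is non-singular -/
lemma r20_aniso {K : Subalgebra F (Matrix ι ι F)} (hK : IsFieldSubalgebra 2 K)
    (hsim : ∀ k ∈ K, ∃ c : F, ∀ v : ι → F, Q (k *ᵥ v) = c * Q v) {v : ι → F} (hv : Q v ≠ 0)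
    {w : ι → F} (hw : w ∈ r20line K v) (hw0 : w ≠ 0) : Q w ≠ 0 := by
  obtain ⟨k, hk, rfl⟩ := r20_mem_line.1 hw
  have hk0 : k ≠ 0 := by
    rintro rfl
    exact hw0 (Matrix.zero_mulVec v)
  obtain ⟨y, hy, hyk, -⟩ := r20_inv hK hk hk0
  obtain ⟨c, hc⟩ := hsim y hy
  intro h
  apply hv
  have h1 : Q v = c * Q (k *ᵥ v) := by
    rw [← hc, Matrix.mulVec_mulVec, hyk, Matrix.one_mulVec]
  rw [h1, h, mul_zero]

/-- the `K`-line of a non-singular vector is non-degenerate for the polar form -/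
lemma r20_nd_line {K : Subalgebra F (Matrix ι ι F)} (hK : IsFieldSubalgebra 2 K)
    (hac : IsAdjointClosedFor (polar ⇑Q) K)
    (hsim : ∀ k ∈ K, ∃ c : F, ∀ v : ι → F, Q (k *ᵥ v) = c * Q v) {v : ι → F} (hv : Q v ≠ 0) :
    IsNondegenerateOn (polar ⇑Q) (r20line K v) := by
  classical
  have hv0 : v ≠ 0 := by
    rintro rfl
    exact hv (map_zero Q)
  have key : ∀ w ∈ r20line K v, w ≠ 0 → ∃ x ∈ r20line K v, polar ⇑Q x w ≠ 0 := by
    intro w hw hw0
    by_contra hcon
    push Not at hcon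
    have hQw := r20_aniso Q hK hsim hv hw hw0
    -- every vector of the line is a multiple of `w`
    have hgen : ∀ x ∈ r20line K v, ∃ a ∈ K, a *ᵥ w = x := by
      intro x hx
      obtain ⟨k, hk, rfl⟩ := r20_mem_line.1 hw
      have hk0 : k ≠ 0 := by
        rintro rfl
        exact hw0 (Matrix.zero_mulVec v)
      obtain ⟨y, hy, hyk, -⟩ := r20_inv hK hk hk0
      obtain ⟨k₁, hk₁, rfl⟩ := r20_mem_line.1 hx
      refine ⟨k₁ * y, K.mul_mem hk₁ hy, ?_⟩
      rw [Matrix.mulVec_mulVec, Matrix.mul_assoc, hyk, Matrix.mul_one]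
    -- the polar form vanishes on the line
    have hzero : ∀ x ∈ r20line K v, ∀ y ∈ r20line K v, polar ⇑Q x y = 0 := by
      intro x hx y hy
      obtain ⟨a, ha, rfl⟩ := hgen x hx
      obtain ⟨a', ha', haa⟩ := hac a ha
      rw [haa w y]
      rw [polar_comm]
      exact hcon _ (r20_act_mem hy ha')
    by_cases h2 : (2 : F) = 0
    · -- characteristic two: `Q` is additive and injective on the line
      have hadd : ∀ x ∈ r20line K v, ∀ y ∈ r20line K v, Q (x + y) = Q x + Q y := by
        intro x hx y hy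
        have := hzero x hx y hy
        unfold polar at this
        linear_combination this
      have hinj : Function.Injective (fun x : r20line K v => Q (x : ι → F)) := by
        intro x y hxy
        have hxy' : Q (x : ι → F) = Q (y : ι → F) := hxy
        have h1 : Q ((x : ι → F) + (y : ι → F)) = 0 := by
          rw [hadd _ x.2 _ y.2, hxy']
          linear_combination Q (y : ι → F) * h2
        have h3 : (x : ι → F) + (y : ι → F) = 0 := by
          by_contra hne
          exact r20_aniso Q hK hsim hv ((r20line K v).add_mem x.2 y.2) hne h1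
        apply Subtype.ext
        have h4 : (y : ι → F) + (y : ι → F) = 0 := by
          rw [← two_smul F (y : ι → F), h2, zero_smul]
        have : (x : ι → F) = (x : ι → F) + (y : ι → F) + (y : ι → F) := by
          rw [add_assoc, h4, add_zero]
        rw [this, h3, zero_add]
      have hcard := Nat.card_le_card_of_injective _ hinj
      rw [Module.natCard_eq_pow_finrank (K := F) (V := r20line K v), r20_finrank_line hK hv0] at hcard
      have h1 : 1 < Nat.card F := Finite.one_lt_card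
      nlinarith
    · -- odd characteristic
      have := hzero w hw w hw
      rw [polar_self, nsmul_eq_mul, Nat.cast_ofNat] at this
      apply hQw
      rcases mul_eq_zero.mp this with h | h
      · exact absurd h h2
      · exact h
  intro w hw hw0
  obtain ⟨x, hx, hxw⟩ := key w hw hw0
  refine ⟨⟨x, hx, hxw⟩, ⟨x, hx, ?_⟩⟩
  rw [polar_comm]
  exact hxw

/-- the `K`-line of a non-singular vector has minus type -/
lemma r20_type_line {K : Subalgebra F (Matrix ι ι F)} (hK : IsFieldSubalgebra 2 K)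
    (hac : IsAdjointClosedFor (polar ⇑Q) K)
    (hsim : ∀ k ∈ K, ∃ c : F, ∀ v : ι → F, Q (k *ᵥ v) = c * Q v) {v : ι → F} (hv : Q v ≠ 0) :
    TypeOn Q (r20line K v) (-1) := by
  have hv0 : v ≠ 0 := by
    rintro rfl
    exact hv (map_zero Q)
  have hnd := r20_nd_line Q hK hac hsim hv
  have hfr := r20_finrank_line hK hv0
  have hev : Even (finrank F (r20line K v)) := by rw [hfr]; exact even_two
  obtain ⟨ε, hε, hty⟩ := Cfsg.Agent.Lib.Helper12.OELeaf.exists_typeOn Q hnd hev
  rcases hε with rfl | rfl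
  · exfalso
    obtain ⟨U, hUW, hts, hdim⟩ := (Cfsg.Agent.Lib.Helper18.OELeaf.typeOn_one_iff_plus Q hnd hev).1 hty
    have hU1 : finrank F U = 1 := by omega
    have hUne : U ≠ ⊥ := by
      intro h
      rw [h, finrank_bot] at hU1
      omega
    obtain ⟨u, hu, hu0⟩ := Submodule.exists_mem_ne_zero_of_ne_bot hUne
    exact r20_aniso Q hK hsim hv (hUW hu) hu0 (hts u hu)
  · exact hty

/-- `K`-invariance of a subspace -/
def R20Inv (K : Subalgebra F (Matrix ι ι F)) (W : Submodule F (ι → F)) : Prop :=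
  ∀ k ∈ K, ∀ w ∈ W, k *ᵥ w ∈ W

/-- a `K`-invariant non-degenerate subspace of dimension `2j` has type `(-1)^j` -/
lemma r20_type_inv (hQ : (polarBilin Q).Nondegenerate) {K : Subalgebra F (Matrix ι ι F)}
    (hK : IsFieldSubalgebra 2 K) (hac : IsAdjointClosedFor (polar ⇑Q) K)
    (hsim : ∀ k ∈ K, ∃ c : F, ∀ v : ι → F, Q (k *ᵥ v) = c * Q v) :
    ∀ (j : ℕ) (W : Submodule F (ι → F)), R20Inv K W → IsNondegenerateOn (polar ⇑Q) W →
      finrank F W = 2 * j → TypeOn Q W ((-1) ^ j) := by
  intro j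
  induction j with
  | zero =>
    intro W _ _ hdim
    have hW : W = ⊥ := by
      apply Submodule.finrank_eq_zero.mp
      rw [hdim]
    rw [hW, pow_zero]
    exact Cfsg.Agent.Lib.Helper26.OELeaf.typeOn_bot26 Q
  | succ j ih =>
    intro W hinv hnd hdim
    -- a non-singular vector of `W`
    have hex : ∃ v ∈ W, Q v ≠ 0 := by
      by_contra hcon
      push Not at hcon
      have hWne : W ≠ ⊥ := by
        intro h
        rw [h, finrank_bot] at hdim
        omega
      obtain ⟨w, hw, hw0⟩ := Submodule.exists_mem_ne_zero_of_ne_bot hWne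
      obtain ⟨⟨x, hx, hxw⟩, -⟩ := hnd w hw hw0
      apply hxw
      unfold polar
      rw [hcon _ (W.add_mem hx hw), hcon x hx, hcon w hw]
      ring
    obtain ⟨v, hvW, hv⟩ := hex
    have hv0 : v ≠ 0 := by
      rintro rfl
      exact hv (map_zero Q)
    have hPW : r20line K v ≤ W := by
      intro x hx
      obtain ⟨k, hk, rfl⟩ := r20_mem_line.1 hx
      exact hinv k hk v hvW
    have hPnd := r20_nd_line Q hK hac hsim hv
    have hPty := r20_type_line Q hK hac hsim hv
    obtain ⟨hcompl, -⟩ := Cfsg.Agent.Lib.Helper28.OmMLeaf.orth_props28 Q hQ hPnd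
    obtain ⟨W', hW'⟩ : ∃ W' : Submodule F (ι → F),
        W' = W ⊓ Cfsg.Agent.Lib.Helper28.OmMLeaf.perp28 Q (r20line K v) := ⟨_, rfl⟩
    have hmemW' : ∀ x, x ∈ W' ↔ x ∈ W ∧ ∀ p ∈ r20line K v, polar ⇑Q p x = 0 := by
      intro x
      rw [hW', Submodule.mem_inf, Cfsg.Agent.Lib.Helper28.OmMLeaf.mem_orth28]
    have hsup : r20line K v ⊔ W' = W := by
      rw [hW', inf_comm, ← sup_inf_assoc_of_le _ hPW, hcompl.sup_eq_top, top_inf_eq]
    have hinf : r20line K v ⊓ W' = ⊥ := by
      rw [hW']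
      apply le_bot_iff.mp
      calc r20line K v ⊓ (W ⊓ Cfsg.Agent.Lib.Helper28.OmMLeaf.perp28 Q (r20line K v))
          ≤ r20line K v ⊓ Cfsg.Agent.Lib.Helper28.OmMLeaf.perp28 Q (r20line K v) :=
            inf_le_inf_left _ inf_le_right
        _ = ⊥ := hcompl.inf_eq_bot
    have horth : AreOrthogonalFor (polar ⇑Q) (r20line K v) W' := by
      intro p hp x hx
      exact ((hmemW' x).1 hx).2 p hp
    have hW'inv : R20Inv K W' := by
      intro k hk x hx
      rw [hmemW'] at hx ⊢
      refine ⟨hinv k hk x hx.1, ?_⟩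
      intro p hp
      obtain ⟨k', hk', hkk⟩ := hac k hk
      rw [polar_comm, hkk x p, polar_comm]
      exact hx.2 _ (r20_act_mem hp hk')
    have hW'nd : IsNondegenerateOn (polar ⇑Q) W' := by
      have key : ∀ w ∈ W', w ≠ 0 → ∃ x ∈ W', polar ⇑Q x w ≠ 0 := by
        intro w hw hw0
        have hwW : w ∈ W := ((hmemW' w).1 hw).1
        obtain ⟨⟨x, hx, hxw⟩, -⟩ := hnd w hwW hw0
        rw [← hsup] at hx
        obtain ⟨p, hp, x', hx', rfl⟩ := Submodule.mem_sup.1 hx
        refine ⟨x', hx', ?_⟩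
        rw [polar_add_left, ((hmemW' w).1 hw).2 p hp, zero_add] at hxw
        exact hxw
      intro w hw hw0
      obtain ⟨x, hx, hxw⟩ := key w hw hw0
      refine ⟨⟨x, hx, hxw⟩, ⟨x, hx, ?_⟩⟩
      rw [polar_comm]
      exact hxw
    have hW'dim : finrank F W' = 2 * j := by
      have h1 := Submodule.finrank_sup_add_finrank_inf_eq (r20line K v) W'
      rw [hsup, hinf, finrank_bot, r20_finrank_line hK hv0, hdim] at h1
      omega
    have hty' := ih W' hW'inv hW'nd hW'dim
    have := Cfsg.Agent.Lib.Helper26.OELeaf.typeOn_sup Q hPnd hW'nd horth hPty hty'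
    rw [hsup] at this
    rw [pow_succ, mul_comm]
    exact this

/-- R20 (exact signature of `notes/OmEven_rows4_leaves.lean`). -/
theorem not_plus_of_funi (hQ : (polarBilin Q).Nondegenerate) {m : ℕ} (hcard : Fintype.card ι = 2 * m)
    (hm : Odd m) {K : Subalgebra F (Matrix ι ι F)} (hK : IsFieldSubalgebra 2 K)
    (hac : IsAdjointClosedFor (polar ⇑Q) K)
    (hsim : ∀ k ∈ K, ∃ c : F, ∀ v : ι → F, Q (k *ᵥ v) = c * Q v) : ¬ IsPlusTypeOn ⇑Q ⊤ := by
  intro hplus
  have hnd : IsNondegenerateOn (polar ⇑Q) (⊤ : Submodule F (ι → F)) := by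
    have key : ∀ w : ι → F, w ≠ 0 → ∃ x, polar ⇑Q x w ≠ 0 := by
      intro w hw
      by_contra hcon
      push Not at hcon
      apply hw
      apply hQ.1 w
      intro y
      rw [polarBilin_apply_apply, polar_comm]
      exact hcon y
    intro w _ hw
    obtain ⟨x, hx⟩ := key w hw
    refine ⟨⟨x, Submodule.mem_top, hx⟩, ⟨x, Submodule.mem_top, ?_⟩⟩
    rw [polar_comm]
    exact hx
  have hdim : finrank F (⊤ : Submodule F (ι → F)) = 2 * m := by
    rw [finrank_top, Module.finrank_fintype_fun_eq_card, hcard]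
  have hev : Even (finrank F (⊤ : Submodule F (ι → F))) := by rw [hdim]; exact even_two_mul m
  have hty := r20_type_inv Q hQ hK hac hsim m ⊤ (fun k _ w _ => Submodule.mem_top) hnd hdim
  rw [hm.neg_one_pow] at hty
  have hty1 := (Cfsg.Agent.Lib.Helper18.OELeaf.typeOn_one_iff_plus Q hnd hev).2 hplus
  have := Cfsg.Agent.Lib.Helper12.OELeaf.typeOn_unique Q hty hty1
  omega

end generic

end Cfsg.Agent.Lib.Helper22.OELeaf
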