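import Mathlib
import Cfsg.Agent.Lib.Helper27.OPMinDefs
import Cfsg.Agent.Lib.Helper13.SLMinW
import Cfsg.Agent.Lib.Helper10.OPMinCnt
import Cfsg.Agent.Lib.Helper8.OPMinOrb

/-!
# S2345, leaves (B1), (B2) of helper27's plan: inner forms with (WL) as a hypothesis (helper22)
-/

set_option autoImplicit false
set_option linter.unusedSectionVars false
set_option linter.unusedVariables false

namespace Cfsg.Agent.Lib.Helper22.OPMin

open Matrix Module Cfsg.Agent.Lib.Helper27.OPMin Cfsg.Agent.Lib.Helper16.SLMin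

section mat

variable {F : Type*} [Field F] {n : ℕ}

/-- helper27's `wedge` is helper10's `wedge` -/
theorem wedge_eq_cnt (a b : Fin n → F) :
    wedge a b = Cfsg.Agent.Lib.Helper10.OPMinCnt.wedge a b :=
  (Cfsg.Agent.Lib.Helper10.OPMinCnt.wedge_eq a b).symm

/-- a non-zero decomposable alternating matrix comes from an independent pair -/
theorem indep_of_wedge_ne_zero (a b : Fin n → F) (h : wedge a b ≠ 0) :
    LinearIndependent F ![a, b] := by
  rw [LinearIndependent.pair_iff]
  intro s t hst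
  by_contra hne
  apply h
  ext i j
  rw [wedge_apply, Matrix.zero_apply]
  have hi := congrFun hst i
  have hj := congrFun hst j
  simp only [Pi.add_apply, Pi.smul_apply, smul_eq_mul, Pi.zero_apply] at hi hj
  have h1 : s * (a i * b j - b i * a j) = 0 := by linear_combination b j * hi - b i * hj
  have h2 : t * (a i * b j - b i * a j) = 0 := by linear_combination a i * hj - a j * hi
  by_cases hs : s = 0
  · have ht : t ≠ 0 := fun ht => hne ⟨hs, ht⟩
    exact (mul_eq_zero.mp h2).resolve_left ht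
  · exact (mul_eq_zero.mp h1).resolve_left hs

theorem toM_injective : Function.Injective (toM : (Fin n × Fin n → F) → Matrix (Fin n) (Fin n) F) := by
  intro v w h
  have := congrArg ofM h
  simpa using this

theorem mem_rk2_wedge (a b : Fin n → F) (h : LinearIndependent F ![a, b]) :
    wedge a b ∈ Cfsg.Agent.Lib.Helper10.OPMinCnt.rk2 F (Fin n) :=
  ⟨a, b, h, wedge_eq_cnt a b⟩

end mat

section rep

variable {F : Type*} [Field F] [Fintype F] [DecidableEq F] {n : ℕ} {H : Type*} [Group H]
  {M : Type*} [AddCommGroup M] [Module ℂ M] [FiniteDimensional ℂ M]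
  (D : Siegel F n H) (ρ : Representation ℂ H M)

/-- (B1) with (WL) as a hypothesis -/
theorem finrank_wt_wedge_eq_of
    (hWL : ∀ (g : SpecialLinearGroup (Fin n) F) (v v' : Fin n × Fin n → F),
      toM v = (g : Matrix (Fin n) (Fin n) F)ᵀ * toM v' * (g : Matrix (Fin n) (Fin n) F) →
      Submodule.map (ρ (D.levi g)) (wt ρ D.radv v) = wt ρ D.radv v')
    (hn : 3 ≤ n) (a b a' b' : Fin n → F) (h : LinearIndependent F ![a, b])
    (h' : LinearIndependent F ![a', b']) :
    finrank ℂ ↥(wt ρ D.radv (ofM (wedge a b))) = finrank ℂ ↥(wt ρ D.radv (ofM (wedge a' b'))) := by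
  obtain ⟨g, hg⟩ := Cfsg.Agent.Lib.Helper8.OPMinOrb.exists_sl_conj_rk2' hn
    (mem_rk2_wedge a' b' h') (mem_rk2_wedge a b h)
  have h1 := hWL g (ofM (wedge a b)) (ofM (wedge a' b')) (by rw [toM_ofM, toM_ofM]; exact hg.symm)
  rw [← h1, Cfsg.Agent.Lib.Helper13.SLMin.finrank_map_rho]

/-- (B2) with (B1) as a hypothesis -/
theorem finrank_eq_caseB_of
    (hB1 : ∀ a b a' b' : Fin n → F, LinearIndependent F ![a, b] → LinearIndependent F ![a', b'] →
      finrank ℂ ↥(wt ρ D.radv (ofM (wedge a b))) = finrank ℂ ↥(wt ρ D.radv (ofM (wedge a' b'))))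
    (hn : 3 ≤ n)
    (hB : ∀ v : Fin n × Fin n → F, v ≠ 0 → wt ρ D.radv v ≠ ⊥ → ∃ a b : Fin n → F, toM v = wedge a b)
    (a b : Fin n → F) (h : LinearIndependent F ![a, b]) :
    finrank ℂ M = finrank ℂ ↥(wt ρ D.radv 0) +
      finrank ℂ ↥(wt ρ D.radv (ofM (wedge a b))) * R2 (Fintype.card F) n := by
  classical
  have hW1 := Cfsg.Agent.Lib.Helper13.SLMin.finrank_eq_sum_inf_wt ρ D.radv D.radv_add ⊤
    (fun _ _ _ => Submodule.mem_top)
  rw [finrank_top] at hW1
  have htop : ∀ v : Fin n × Fin n → F,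
      finrank ℂ ↥((⊤ : Submodule ℂ M) ⊓ wt ρ D.radv v) = finrank ℂ ↥(wt ρ D.radv v) := by
    intro v
    rw [top_inf_eq]
  rw [Finset.sum_congr rfl (fun v _ => htop v)] at hW1
  set m2 := finrank ℂ ↥(wt ρ D.radv (ofM (wedge a b))) with hm2
  set c := finrank ℂ ↥(wt ρ D.radv 0) with hc
  have hzero : toM (0 : Fin n × Fin n → F) ∉ Cfsg.Agent.Lib.Helper10.OPMinCnt.rk2 F (Fin n) := by
    rintro ⟨u, w, huw, hv⟩
    exact Cfsg.Agent.Lib.Helper10.OPMinCnt.wedge_ne_zero u w huw (by rw [← hv]; rfl)
  have hpt : ∀ v : Fin n × Fin n → F, finrank ℂ ↥(wt ρ D.radv v) =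
      (if v = 0 then c else 0) +
        (if toM v ∈ Cfsg.Agent.Lib.Helper10.OPMinCnt.rk2 F (Fin n) then m2 else 0) := by
    intro v
    by_cases hv0 : v = 0
    · subst hv0
      rw [if_pos rfl, if_neg hzero, add_zero]
    · rw [if_neg hv0, zero_add]
      by_cases hv : toM v ∈ Cfsg.Agent.Lib.Helper10.OPMinCnt.rk2 F (Fin n)
      · rw [if_pos hv]
        obtain ⟨u, w, huw, hvw⟩ := hv
        have hv' : v = ofM (wedge u w) := by
          rw [wedge_eq_cnt, ← hvw, ofM_toM]
        rw [hv', hm2]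
        exact hB1 u w a b huw h
      · rw [if_neg hv]
        have hbot : wt ρ D.radv v = ⊥ := by
          by_contra hne
          obtain ⟨a', b', hab⟩ := hB v hv0 hne
          apply hv
          have hne0 : wedge a' b' ≠ 0 := by
            rw [← hab]
            intro h0
            apply hv0
            apply toM_injective
            rw [h0]
            rfl
          rw [hab]
          exact mem_rk2_wedge a' b' (indep_of_wedge_ne_zero a' b' hne0)
        rw [hbot, finrank_bot]
  rw [hW1, Finset.sum_congr rfl (fun v _ => hpt v), Finset.sum_add_distrib,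
    Finset.sum_ite_eq' Finset.univ (0 : Fin n × Fin n → F) (fun _ => c), if_pos (Finset.mem_univ _),
    ← Finset.sum_filter, Finset.sum_const, smul_eq_mul, mul_comm]
  congr 1
  congr 1
  -- the number of rank-2 weights
  have hcard : (Finset.univ.filter fun v : Fin n × Fin n → F =>
      toM v ∈ Cfsg.Agent.Lib.Helper10.OPMinCnt.rk2 F (Fin n)).card =
      Nat.card ↥(Cfsg.Agent.Lib.Helper10.OPMinCnt.rk2 F (Fin n)) := by
    rw [← Fintype.card_subtype, ← Nat.card_eq_fintype_card]
    apply Nat.card_congr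
    exact
      { toFun := fun v => ⟨toM v.1, v.2⟩
        invFun := fun Y => ⟨ofM Y.1, by rw [toM_ofM]; exact Y.2⟩
        left_inv := fun v => by apply Subtype.ext; simp
        right_inv := fun Y => by apply Subtype.ext; simp }
  rw [hcard, Cfsg.Agent.Lib.Helper10.OPMinCnt.card_rk2 (F := F) (ι := Fin n)
    (by rw [Fintype.card_fin]; omega), Fintype.card_fin]
  rfl

end rep

end Cfsg.Agent.Lib.Helper22.OPMin
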