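import Mathlib
import Cfsg.Agent.Lib.Helper22.OPMinBCore
import Cfsg.Agent.Lib.Helper24.OPMinWS

/-!
# S2345, leaves (B1) `finrank_wt_wedge_eq` and (B2) `finrank_eq_caseB` of helper27's plan
(`notes/S2345_leaves.lean`, same names and binders).  helper22.
-/

set_option autoImplicit false
set_option linter.unusedSectionVars false
set_option linter.unusedVariables false

namespace Cfsg.Agent.Lib.Helper22.OPMin

open Matrix Module Cfsg.Agent.Lib.Helper27.OPMin Cfsg.Agent.Lib.Helper16.SLMin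

section REP

variable {F : Type*} [Field F] [Fintype F] [DecidableEq F] {n : ℕ} {H : Type*} [Group H]
  {M : Type*} [AddCommGroup M] [Module ℂ M] [FiniteDimensional ℂ M]
  (D : Siegel F n H) (ρ : Representation ℂ H M)

/-- B1: all weights of rank 2 have the same multiplicity. -/
theorem finrank_wt_wedge_eq (hn : 3 ≤ n) (a b a' b' : Fin n → F) (h : LinearIndependent F ![a, b])
    (h' : LinearIndependent F ![a', b']) :
    finrank ℂ ↥(wt ρ D.radv (ofM (wedge a b))) = finrank ℂ ↥(wt ρ D.radv (ofM (wedge a' b'))) :=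
  finrank_wt_wedge_eq_of D ρ (Cfsg.Agent.Lib.Helper24.OPMin.map_wt_levi D ρ) hn a b a' b' h h'

/-- B2 (Case B): only weights of rank at most 2 occur. -/
theorem finrank_eq_caseB (hn : 3 ≤ n)
    (hB : ∀ v : Fin n × Fin n → F, v ≠ 0 → wt ρ D.radv v ≠ ⊥ → ∃ a b : Fin n → F, toM v = wedge a b)
    (a b : Fin n → F) (h : LinearIndependent F ![a, b]) :
    finrank ℂ M = finrank ℂ ↥(wt ρ D.radv 0) +
      finrank ℂ ↥(wt ρ D.radv (ofM (wedge a b))) * R2 (Fintype.card F) n :=
  finrank_eq_caseB_of D ρ (fun a b a' b' h h' => finrank_wt_wedge_eq D ρ hn a b a' b' h h')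
    hn hB a b h

end REP

end Cfsg.Agent.Lib.Helper22.OPMin

section check

open Matrix Module Cfsg.Agent.Lib.Helper27.OPMin Cfsg.Agent.Lib.Helper16.SLMin

variable {F : Type*} [Field F] [Fintype F] [DecidableEq F] {n : ℕ} {H : Type*} [Group H]
  {M : Type*} [AddCommGroup M] [Module ℂ M] [FiniteDimensional ℂ M]
  (D : Siegel F n H) (ρ : Representation ℂ H M)

example (hn : 3 ≤ n) (a b a' b' : Fin n → F) (h : LinearIndependent F ![a, b])
    (h' : LinearIndependent F ![a', b']) :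
    finrank ℂ ↥(wt ρ D.radv (ofM (wedge a b))) = finrank ℂ ↥(wt ρ D.radv (ofM (wedge a' b'))) :=
  Cfsg.Agent.Lib.Helper22.OPMin.finrank_wt_wedge_eq D ρ hn a b a' b' h h'

example (hn : 3 ≤ n)
    (hB : ∀ v : Fin n × Fin n → F, v ≠ 0 → wt ρ D.radv v ≠ ⊥ → ∃ a b : Fin n → F, toM v = wedge a b)
    (a b : Fin n → F) (h : LinearIndependent F ![a, b]) :
    finrank ℂ M = finrank ℂ ↥(wt ρ D.radv 0) +
      finrank ℂ ↥(wt ρ D.radv (ofM (wedge a b))) * R2 (Fintype.card F) n :=
  Cfsg.Agent.Lib.Helper22.OPMin.finrank_eq_caseB D ρ hn hB a b h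

end check
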