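import Mathlib
import Cfsg.Agent.Lib.Helper25.OTDefs
import Cfsg.Agent.Lib.Helper13.OTLADefs
import Cfsg.Agent.Lib.Helper24.SOTBNF

/-!
helper22: S5681 / S5709 owner leaf RA1 `exists_adapted` of `notes/S5681_owner_leaves.lean` (helper25):
Witt decomposition along a totally singular line: a basis of `B` adapted to `⟨y, z⟩`.
-/

set_option autoImplicit false
set_option linter.unusedSectionVars false
set_option linter.unusedVariables false

namespace Cfsg.Agent.Lib.Helper22.OTRALeaf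
open Matrix
open Cfsg.Agent.Lib.Helper25.Tens Cfsg.Agent.Lib.Helper2.SOT Cfsg.Agent.Lib.Helper25.OT
open Cfsg.Agent.Lib.Helper13.OTLA

variable {F : Type*} [Field F] [Fintype F] {b : ℕ}

/-- an equivalence with prescribed values on an injective family -/
theorem exists_equiv_extend {α β κ : Type*} [Fintype α] [Fintype β] [DecidableEq α] [DecidableEq β]
    (hc : Fintype.card α = Fintype.card β) (f : κ → α) (g : κ → β) (hf : Function.Injective f)
    (hg : Function.Injective g) : ∃ τ : α ≃ β, ∀ i, τ (f i) = g i := by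
  classical
  let τ₀ : α ≃ β := Fintype.equivOfCardEq hc
  let f' : κ → β := τ₀ ∘ f
  have hf' : Function.Injective f' := τ₀.injective.comp hf
  let e : {x // x ∈ Set.range f'} ≃ {x // x ∈ Set.range g} :=
    (Equiv.ofInjective f' hf').symm.trans (Equiv.ofInjective g hg)
  refine ⟨τ₀.trans e.extendSubtype, fun i => ?_⟩
  have hmem : f' i ∈ Set.range f' := ⟨i, rfl⟩
  rw [Equiv.trans_apply]
  show e.extendSubtype (f' i) = g i
  rw [Equiv.extendSubtype_apply_of_mem e _ hmem]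
  have h1 : (Equiv.ofInjective f' hf').symm ⟨f' i, hmem⟩ = i :=
    Equiv.ofInjective_symm_apply hf' i
  show ((Equiv.ofInjective g hg) ((Equiv.ofInjective f' hf').symm ⟨f' i, hmem⟩) : β) = g i
  rw [h1]
  rfl

/-- four distinct points -/
theorem inj_four {α : Type*} {o o' p p' : α} (hoo' : o ≠ o') (hop : o ≠ p) (hop' : o ≠ p')
    (ho'p : o' ≠ p) (ho'p' : o' ≠ p') (hpp' : p ≠ p') : Function.Injective ![o, o', p, p'] := by
  intro i j hij
  fin_cases i <;> fin_cases j <;> first | rfl | (exfalso; simp at hij; simp_all)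

/-- a vector `w` with `fB w y = 1`, `fB w z = 0` for independent `y, z` -/
theorem exists_dual_pair {G : Matrix (Fin b) (Fin b) F} (hnd : G.det ≠ 0) {y z : Fin b → F}
    (hli : ∀ s t : F, s • y + t • z = 0 → s = 0 ∧ t = 0) :
    ∃ w : Fin b → F, fB G w y = 1 ∧ fB G w z = 0 := by
  have hy : y ∉ Submodule.span F ({z} : Set (Fin b → F)) := by
    intro hmem
    obtain ⟨c, hc⟩ := Submodule.mem_span_singleton.1 hmem
    have := (hli 1 (-c) (by rw [one_smul, neg_smul, hc, add_neg_cancel])).1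
    exact one_ne_zero this
  obtain ⟨f, hfy, hfz⟩ := Submodule.exists_le_ker_of_notMem hy
  have hfz0 : f z = 0 := LinearMap.mem_ker.1 (hfz (Submodule.mem_span_singleton_self z))
  have hB := Cfsg.Agent.Lib.Helper2.SOTBLeaf.BfB_nondeg hnd
  refine ⟨(LinearMap.BilinForm.toDual (Cfsg.Agent.Lib.Helper2.SOTBLeaf.BfB G) hB).symm
    ((f y)⁻¹ • f), ?_, ?_⟩
  · have := LinearMap.BilinForm.apply_toDual_symm_apply
      (B := Cfsg.Agent.Lib.Helper2.SOTBLeaf.BfB G) (hB := hB) ((f y)⁻¹ • f) y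
    rw [Cfsg.Agent.Lib.Helper2.SOTBLeaf.BfB_apply] at this
    rw [this, LinearMap.smul_apply, smul_eq_mul, inv_mul_cancel₀ hfy]
  · have := LinearMap.BilinForm.apply_toDual_symm_apply
      (B := Cfsg.Agent.Lib.Helper2.SOTBLeaf.BfB G) (hB := hB) ((f y)⁻¹ • f) z
    rw [Cfsg.Agent.Lib.Helper2.SOTBLeaf.BfB_apply] at this
    rw [this, LinearMap.smul_apply, smul_eq_mul, hfz0, mul_zero]

/-- the two hyperbolic partners of a totally singular line -/
theorem exists_partners {G : Matrix (Fin b) (Fin b) F} (hs : Gᵀ = G) (hnd : G.det ≠ 0)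
    (h2 : (2 : F) ≠ 0) {y z : Fin b → F} (hL : TSL G y z) :
    ∃ ys zs : Fin b → F, fB G ys ys = 0 ∧ fB G zs zs = 0 ∧ fB G ys zs = 0 ∧
      fB G y ys = 1 ∧ fB G z ys = 0 ∧ fB G y zs = 0 ∧ fB G z zs = 1 := by
  have hli := LinearIndependent.pair_iff.1 hL.li
  have hli' : ∀ s t : F, s • z + t • y = 0 → s = 0 ∧ t = 0 := fun s t h =>
    (hli t s (by rw [add_comm]; exact h)).symm
  have hzy : fB G z y = 0 := by rw [fB_comm G hs, hL.yz]
  obtain ⟨ys₁, h1y, h1z⟩ := exists_dual_pair hnd hli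
  obtain ⟨zs₁, h2z, h2y⟩ := exists_dual_pair hnd hli'
  -- `ys`
  obtain ⟨ys, hys⟩ : ∃ ys, ys = ys₁ - (fB G ys₁ ys₁ / 2) • y := ⟨_, rfl⟩
  have hyy1 : fB G y ys₁ = 1 := by rw [fB_comm G hs, h1y]
  have hzy1 : fB G z ys₁ = 0 := by rw [fB_comm G hs, h1z]
  have e_ys_y : fB G ys y = 1 := by
    rw [hys, sub_eq_add_neg, fB_add_left, ← neg_smul, fB_smul_left, h1y, hL.yy]; ring
  have e_ys_z : fB G ys z = 0 := by
    rw [hys, sub_eq_add_neg, fB_add_left, ← neg_smul, fB_smul_left, h1z, hL.yz]; ring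
  have e_ys_ys : fB G ys ys = 0 := by
    have e3 : fB G ys ys = fB G ys₁ ys₁ - (fB G ys₁ ys₁ / 2) * fB G ys₁ y -
        (fB G ys₁ ys₁ / 2) * fB G y ys₁ + (fB G ys₁ ys₁ / 2) * (fB G ys₁ ys₁ / 2) * fB G y y := by
      rw [hys]
      simp only [sub_eq_add_neg, fB_add_left, fB_add_right, ← neg_smul, fB_smul_left, fB_smul_right]
      ring
    rw [e3, h1y, hyy1, hL.yy]
    field_simp
    ring
  -- `zs`
  obtain ⟨zs₂, hzs₂⟩ : ∃ zs₂, zs₂ = zs₁ - fB G ys zs₁ • y := ⟨_, rfl⟩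
  have e2_y : fB G zs₂ y = 0 := by
    rw [hzs₂, sub_eq_add_neg, fB_add_left, ← neg_smul, fB_smul_left, h2y, hL.yy]; ring
  have e2_z : fB G zs₂ z = 1 := by
    rw [hzs₂, sub_eq_add_neg, fB_add_left, ← neg_smul, fB_smul_left, h2z, hL.yz]; ring
  have e2_ys : fB G zs₂ ys = 0 := by
    rw [hzs₂, sub_eq_add_neg, fB_add_left, ← neg_smul, fB_smul_left, fB_comm G hs zs₁ ys,
      fB_comm G hs y ys, e_ys_y]; ring
  obtain ⟨zs, hzs⟩ : ∃ zs, zs = zs₂ - (fB G zs₂ zs₂ / 2) • z := ⟨_, rfl⟩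
  have e_zs_y : fB G zs y = 0 := by
    rw [hzs, sub_eq_add_neg, fB_add_left, ← neg_smul, fB_smul_left, e2_y, hzy]; ring
  have e_zs_z : fB G zs z = 1 := by
    rw [hzs, sub_eq_add_neg, fB_add_left, ← neg_smul, fB_smul_left, e2_z, hL.zz]; ring
  have e_zs_ys : fB G zs ys = 0 := by
    rw [hzs, sub_eq_add_neg, fB_add_left, ← neg_smul, fB_smul_left, e2_ys, fB_comm G hs z ys,
      e_ys_z]; ring
  have e_zs_zs : fB G zs zs = 0 := by
    have e3 : fB G zs zs = fB G zs₂ zs₂ - (fB G zs₂ zs₂ / 2) * fB G zs₂ z -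
        (fB G zs₂ zs₂ / 2) * fB G z zs₂ + (fB G zs₂ zs₂ / 2) * (fB G zs₂ zs₂ / 2) * fB G z z := by
      rw [hzs]
      simp only [sub_eq_add_neg, fB_add_left, fB_add_right, ← neg_smul, fB_smul_left, fB_smul_right]
      ring
    rw [e3, e2_z, fB_comm G hs z zs₂, e2_z, hL.zz]
    field_simp
    ring
  refine ⟨ys, zs, e_ys_ys, e_zs_zs, ?_, ?_, ?_, ?_, ?_⟩
  · rw [fB_comm G hs, e_zs_ys]
  · rw [fB_comm G hs, e_ys_y]
  · rw [fB_comm G hs, e_ys_z]
  · rw [fB_comm G hs, e_zs_y]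
  · rw [fB_comm G hs, e_zs_z]

/-- RA1: a basis of `B` adapted to the totally singular line `⟨y, z⟩` -/
theorem exists_adapted {G2 : Matrix (Fin b) (Fin b) F} (hs : G2ᵀ = G2) (hnd : G2.det ≠ 0)
    (h2 : (2 : F) ≠ 0) {y z : Fin b → F} (hL : TSL G2 y z) {o o' p p' : Fin b}
    (hoo' : o ≠ o') (hop : o ≠ p) (hop' : o ≠ p') (ho'p : o' ≠ p) (ho'p' : o' ≠ p') (hpp' : p ≠ p') :
    ∃ P : GL (Fin b) F, Adp (P.1ᵀ * G2 * P.1) o o' p p' ∧
      P.1 *ᵥ Pi.single o 1 = y ∧ P.1 *ᵥ Pi.single o' 1 = z := by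
  classical
  obtain ⟨ys, zs, hysys, hzszs, hyszs, hyys, hzys, hyzs, hzzs⟩ := exists_partners hs hnd h2 hL
  have hyy := hL.yy
  have hzz := hL.zz
  have hyz := hL.yz
  have hzy : fB G2 z y = 0 := by rw [fB_comm G2 hs, hyz]
  have hysy : fB G2 ys y = 1 := by rw [fB_comm G2 hs, hyys]
  have hysz : fB G2 ys z = 0 := by rw [fB_comm G2 hs, hzys]
  have hzsy : fB G2 zs y = 0 := by rw [fB_comm G2 hs, hyzs]
  have hzsz : fB G2 zs z = 1 := by rw [fB_comm G2 hs, hzzs]
  have hzsys : fB G2 zs ys = 0 := by rw [fB_comm G2 hs, hyszs]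
  -- the orthogonal complement of the four vectors
  set B₀ : Submodule F (Fin b → F) :=
    ((((⊤ : Submodule F (Fin b → F)) ⊓ LinearMap.ker (Cfsg.Agent.Lib.Helper2.SOTBLeaf.BfB G2 y)) ⊓
      LinearMap.ker (Cfsg.Agent.Lib.Helper2.SOTBLeaf.BfB G2 z)) ⊓
      LinearMap.ker (Cfsg.Agent.Lib.Helper2.SOTBLeaf.BfB G2 ys)) ⊓
      LinearMap.ker (Cfsg.Agent.Lib.Helper2.SOTBLeaf.BfB G2 zs) with hB₀
  have hmem : ∀ x : Fin b → F, x ∈ B₀ ↔
      fB G2 y x = 0 ∧ fB G2 z x = 0 ∧ fB G2 ys x = 0 ∧ fB G2 zs x = 0 := by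
    intro x
    rw [hB₀]
    simp only [Submodule.mem_inf, Submodule.mem_top, true_and, LinearMap.mem_ker,
      Cfsg.Agent.Lib.Helper2.SOTBLeaf.BfB_apply, and_assoc]
  set d : ℕ := Module.finrank F B₀ with hd
  have hdle : b ≤ d + 4 := by
    have h0 := Cfsg.Agent.Lib.Helper2.SOTBLeaf.finrank_inf_ker_ge G2 y (⊤ : Submodule F (Fin b → F))
    have h1 := Cfsg.Agent.Lib.Helper2.SOTBLeaf.finrank_inf_ker_ge G2 z
      ((⊤ : Submodule F (Fin b → F)) ⊓ LinearMap.ker (Cfsg.Agent.Lib.Helper2.SOTBLeaf.BfB G2 y))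
    have h3 := Cfsg.Agent.Lib.Helper2.SOTBLeaf.finrank_inf_ker_ge G2 ys
      (((⊤ : Submodule F (Fin b → F)) ⊓ LinearMap.ker (Cfsg.Agent.Lib.Helper2.SOTBLeaf.BfB G2 y)) ⊓
        LinearMap.ker (Cfsg.Agent.Lib.Helper2.SOTBLeaf.BfB G2 z))
    have h4 := Cfsg.Agent.Lib.Helper2.SOTBLeaf.finrank_inf_ker_ge G2 zs
      ((((⊤ : Submodule F (Fin b → F)) ⊓ LinearMap.ker (Cfsg.Agent.Lib.Helper2.SOTBLeaf.BfB G2 y)) ⊓
        LinearMap.ker (Cfsg.Agent.Lib.Helper2.SOTBLeaf.BfB G2 z)) ⊓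
        LinearMap.ker (Cfsg.Agent.Lib.Helper2.SOTBLeaf.BfB G2 ys))
    have ht : Module.finrank F ↥(⊤ : Submodule F (Fin b → F)) = b := by
      rw [finrank_top, Module.finrank_fintype_fun_eq_card, Fintype.card_fin]
    rw [← hB₀] at h4
    omega
  let bas : Module.Basis (Fin d) F B₀ := Module.finBasis F B₀
  let v : Fin d → (Fin b → F) := fun i => ((bas i : B₀) : Fin b → F)
  have hv : LinearIndependent F v := by
    have := bas.linearIndependent.map' B₀.subtype (Submodule.ker_subtype B₀)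
    exact this
  have hvB : ∀ i, v i ∈ B₀ := fun i => (bas i).2
  -- the coefficients of a combination of the four vectors
  have hcoef : ∀ g : Fin 4 → F,
      fB G2 ys (∑ i, g i • ![y, z, ys, zs] i) = g 0 ∧ fB G2 zs (∑ i, g i • ![y, z, ys, zs] i) = g 1 ∧
      fB G2 y (∑ i, g i • ![y, z, ys, zs] i) = g 2 ∧ fB G2 z (∑ i, g i • ![y, z, ys, zs] i) = g 3 := by
    intro g
    rw [Fin.sum_univ_four]
    simp only [Matrix.cons_val_zero, Matrix.cons_val_one, Matrix.cons_val_two, Matrix.cons_val_three,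
      Matrix.head_cons, Matrix.tail_cons, fB_add_right, fB_smul_right, hysy, hysz, hysys, hyszs,
      hzsy, hzsz, hzsys, hzszs, hyy, hyz, hyys, hyzs, hzy, hzz, hzys, hzzs]
    refine ⟨by ring, by ring, by ring, by ring⟩
  have hquad : LinearIndependent F ![y, z, ys, zs] := by
    rw [Fintype.linearIndependent_iff]
    intro g hg
    obtain ⟨e0, e1, e2, e3⟩ := hcoef g
    rw [hg, Cfsg.Agent.Lib.Helper24.SOTGLeaf.ot_fB_zero_right] at e0 e1 e2 e3
    intro i
    fin_cases i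
    · exact e0.symm
    · exact e1.symm
    · exact e2.symm
    · exact e3.symm
  have hdisj : Disjoint (Submodule.span F (Set.range ![y, z, ys, zs]))
      (Submodule.span F (Set.range v)) := by
    rw [Submodule.disjoint_def]
    intro x hx1 hx2
    have hxB : x ∈ B₀ := by
      refine (Submodule.span_le.2 ?_) hx2
      rintro _ ⟨i, rfl⟩
      exact hvB i
    obtain ⟨hx_y, hx_z, hx_ys, hx_zs⟩ := (hmem x).1 hxB
    obtain ⟨g, rfl⟩ := (Submodule.mem_span_range_iff_exists_fun F).1 hx1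
    obtain ⟨e0, e1, e2, e3⟩ := hcoef g
    rw [hx_ys] at e0
    rw [hx_zs] at e1
    rw [hx_y] at e2
    rw [hx_z] at e3
    rw [Fin.sum_univ_four, ← e0, ← e1, ← e2, ← e3]
    simp
  have hc : LinearIndependent F (Sum.elim ![y, z, ys, zs] v) :=
    LinearIndependent.sum_type hquad hv hdisj
  have hcard : Fintype.card (Fin b) = Fintype.card (Fin 4 ⊕ Fin d) := by
    have h1 := hc.fintype_card_le_finrank
    rw [Module.finrank_fintype_fun_eq_card, Fintype.card_fin] at h1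
    simp only [Fintype.card_sum, Fintype.card_fin] at h1 ⊢
    omega
  have hinjf : Function.Injective ![o, o', p, p'] := inj_four hoo' hop hop' ho'p ho'p' hpp'
  have hinjg : Function.Injective
      ![(Sum.inl 0 : Fin 4 ⊕ Fin d), Sum.inl 1, Sum.inl 2, Sum.inl 3] :=
    inj_four (by simp) (by simp) (by simp) (by simp) (by simp) (by simp)
  obtain ⟨τ, hτ⟩ := exists_equiv_extend hcard ![o, o', p, p']
    ![(Sum.inl 0 : Fin 4 ⊕ Fin d), Sum.inl 1, Sum.inl 2, Sum.inl 3] hinjf hinjg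
  have hτo : τ o = Sum.inl 0 := hτ 0
  have hτo' : τ o' = Sum.inl 1 := hτ 1
  have hτp : τ p = Sum.inl 2 := hτ 2
  have hτp' : τ p' = Sum.inl 3 := hτ 3
  set P₀ : Matrix (Fin b) (Fin b) F :=
    Matrix.of (fun i j => Sum.elim ![y, z, ys, zs] v (τ j) i) with hP₀
  have hcol : ∀ j, P₀.col j = Sum.elim ![y, z, ys, zs] v (τ j) := by
    intro j
    funext i
    rfl
  have hunit : IsUnit P₀ := by
    rw [← Matrix.linearIndependent_cols_iff_isUnit]
    have : P₀.col = (Sum.elim ![y, z, ys, zs] v) ∘ τ := by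
      funext j
      exact hcol j
    rw [this]
    exact hc.comp τ τ.injective
  have hco : P₀.col o = y := by rw [hcol, hτo]; rfl
  have hco' : P₀.col o' = z := by rw [hcol, hτo']; rfl
  have hcp : P₀.col p = ys := by rw [hcol, hτp]; rfl
  have hcp' : P₀.col p' = zs := by rw [hcol, hτp']; rfl
  -- the other columns lie in `B₀`
  have hother : ∀ k, k ≠ o → k ≠ o' → k ≠ p → k ≠ p' → P₀.col k ∈ B₀ := by
    intro k h1 h3 h4 h5
    rw [hcol]
    rcases hτk : τ k with i | j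
    · exfalso
      fin_cases i
      · exact h1 (τ.injective (hτk.trans hτo.symm))
      · exact h3 (τ.injective (hτk.trans hτo'.symm))
      · exact h4 (τ.injective (hτk.trans hτp.symm))
      · exact h5 (τ.injective (hτk.trans hτp'.symm))
    · exact hvB j
  -- the rows of the new Gram matrix
  have hrow : ∀ (w : Fin b → F) (k : Fin b) (c0 c1 c2 c3 : F), fB G2 w y = c0 → fB G2 w z = c1 →
      fB G2 w ys = c2 → fB G2 w zs = c3 → (∀ x ∈ B₀, fB G2 w x = 0) →
      fB G2 w (P₀.col k) = if k = o then c0 else if k = o' then c1 else if k = p then c2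
        else if k = p' then c3 else 0 := by
    intro w k c0 c1 c2 c3 e0 e1 e2 e3 eB
    by_cases h1 : k = o
    · subst h1; rw [if_pos rfl, hco, e0]
    rw [if_neg h1]
    by_cases h3 : k = o'
    · subst h3; rw [if_pos rfl, hco', e1]
    rw [if_neg h3]
    by_cases h4 : k = p
    · subst h4; rw [if_pos rfl, hcp, e2]
    rw [if_neg h4]
    by_cases h5 : k = p'
    · subst h5; rw [if_pos rfl, hcp', e3]
    rw [if_neg h5]
    exact eB _ (hother k h1 h3 h4 h5)
  refine ⟨hunit.unit, ?_, ?_, ?_⟩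
  · have hval : (hunit.unit : GL (Fin b) F).1 = P₀ := rfl
    rw [hval]
    refine ⟨hoo', hop, hop', ho'p, ho'p', hpp', ?_, ?_, ?_, ?_⟩
    · intro k
      rw [Cfsg.Agent.Lib.Helper24.SOTBLeaf.nf_gram_apply, hco,
        hrow y k 0 0 1 0 hyy hyz hyys hyzs (fun x hx => ((hmem x).1 hx).1)]
      by_cases h1 : k = o
      · subst h1; simp [hop]
      by_cases h3 : k = o'
      · subst h3; simp [ho'p, h1]
      simp [h1, h3]
    · intro k
      rw [Cfsg.Agent.Lib.Helper24.SOTBLeaf.nf_gram_apply, hco',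
        hrow z k 0 0 0 1 hzy hzz hzys hzzs (fun x hx => ((hmem x).1 hx).2.1)]
      by_cases h1 : k = o
      · subst h1; simp [hop']
      by_cases h3 : k = o'
      · subst h3; simp [ho'p', h1]
      by_cases h4 : k = p
      · subst h4; simp [h1, h3, hpp']
      simp [h1, h3, h4]
    · intro k
      rw [Cfsg.Agent.Lib.Helper24.SOTBLeaf.nf_gram_apply, hcp,
        hrow ys k 1 0 0 0 hysy hysz hysys hyszs (fun x hx => ((hmem x).1 hx).2.2.1)]
      by_cases h1 : k = o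
      · subst h1; simp
      by_cases h3 : k = o'
      · subst h3; simp [h1]
      simp [h1, h3]
    · intro k
      rw [Cfsg.Agent.Lib.Helper24.SOTBLeaf.nf_gram_apply, hcp',
        hrow zs k 0 1 0 0 hzsy hzsz hzsys hzszs (fun x hx => ((hmem x).1 hx).2.2.2)]
      by_cases h1 : k = o
      · subst h1; simp [hoo']
      by_cases h3 : k = o'
      · subst h3; simp [h1]
      simp [h1, h3]
  · show P₀ *ᵥ Pi.single o 1 = y
    rw [Matrix.mulVec_single_one]
    exact hco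
  · show P₀ *ᵥ Pi.single o' 1 = z
    rw [Matrix.mulVec_single_one]
    exact hco'

end Cfsg.Agent.Lib.Helper22.OTRALeaf
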