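/-
helper22: leaf A2 (`exists_hh_mem`) of helper9's S2143 market "OQ" (`notes/S2143_leaves_w1.lean`).
-/
import Mathlib
import Cfsg.Agent.Lib.Helper9.OqTools

set_option autoImplicit false

open Cfsg.Agent.Lib.Helper9.Oq

namespace Cfsg.Agent.Lib.Helper22.OqLeaf

variable {F V G : Type*} [Field F] [AddCommGroup V] [Module F V] [Group G] [DistribMulAction G V]
  (S : Setting F V G)

/-- conjugation of `sg x w` by the torus element `hh x x' l`: `w ↦ l² w` -/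
theorem conj_hh_sg {x x' : V} (hx : S.Q x = 0) (hx' : S.Q x' = 0) (hxx' : S.B x x' = 1) (l : Fˣ)
    {w : V} (hw : S.B x w = 0) :
    S.hh x x' l * S.sg x w * (S.hh x x' l)⁻¹ = S.sg x (((l : F) * l) • w) := by
  have hwx : S.B w x = 0 := by rw [S.B_symm]; exact hw
  rw [S.conj_sg_of_smul_eq _ hx hw (S.hh_smul_left l hx hx' hxx'),
    S.hh_smul_of_perp_left l hx hx' hxx' hwx, smul_add, smul_smul]
  exact S.sg_add_smul_self hx (by rw [S.Bsmul_right, hw, mul_zero]) _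

/-- A2. -/
theorem exists_hh_mem (H : Subgroup G) {x x' : V} (hx : S.Q x = 0) (hx' : S.Q x' = 0)
    (hxx' : S.B x x' = 1)
    (hA1 : ∀ p ∈ S.PP x, ∃ w, S.B x w = 0 ∧ p * S.sg x w ∈ H) (l : Fˣ)
    (hl : (l : F) * l ≠ 1) :
    ∃ x'', S.Q x'' = 0 ∧ S.B x x'' = 1 ∧ S.hh x x'' l ∈ H := by
  obtain ⟨w₀, hw₀, hmem⟩ := hA1 _ (S.hh_mem_PP l hx hx' hxx')
  have hl1 : (l : F) * l - 1 ≠ 0 := sub_ne_zero.mpr hl
  set c : F := (l : F) * l * ((l : F) * l - 1)⁻¹ with hc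
  have hcw : S.B x (c • w₀) = 0 := by rw [S.Bsmul_right, hw₀, mul_zero]
  set u : G := S.sg x (c • w₀) with hu
  set z : G := S.hh x x' l with hz
  -- `u⁻¹ * z * u = z * sg x w₀`
  have key : u⁻¹ * z * u = z * S.sg x w₀ := by
    have e1 : z * u * z⁻¹ = S.sg x (((l : F) * l) • (c • w₀)) :=
      conj_hh_sg S hx hx' hxx' l hcw
    have e2 : z * S.sg x w₀ * z⁻¹ = S.sg x (((l : F) * l) • w₀) :=
      conj_hh_sg S hx hx' hxx' l hw₀
    have e3 : u⁻¹ = S.sg x (-(c • w₀)) := S.sg_inv hx hcw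
    have e4 : S.sg x (-(c • w₀)) * S.sg x (((l : F) * l) • (c • w₀)) =
        S.sg x (((l : F) * l) • w₀) := by
      rw [S.sg_mul hx (by rw [S.Bneg_right, hcw, neg_zero])
        (by rw [S.Bsmul_right, hcw, mul_zero])]
      congr 1
      rw [smul_smul, ← neg_smul, ← add_smul]
      congr 1
      have h1 : c * ((l : F) * l - 1) = (l : F) * l := by
        rw [hc, mul_assoc, inv_mul_cancel₀ hl1, mul_one]
      linear_combination h1
    calc u⁻¹ * z * u = u⁻¹ * (z * u * z⁻¹) * z := by group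
      _ = S.sg x (((l : F) * l) • w₀) * z := by rw [e1, e3, e4]
      _ = z * S.sg x w₀ * z⁻¹ * z := by rw [e2]
      _ = z * S.sg x w₀ := by group
  refine ⟨u⁻¹ • x', by rw [S.isoQ, hx'], ?_, ?_⟩
  · have hux : u⁻¹ • x = x := by
      rw [inv_smul_eq_iff, hu, S.sg_smul_self hx hcw]
    calc S.B x (u⁻¹ • x') = S.B (u⁻¹ • x) (u⁻¹ • x') := by rw [hux]
      _ = 1 := by rw [S.iso, hxx']
  · have hux : u⁻¹ • x = x := by
      rw [inv_smul_eq_iff, hu, S.sg_smul_self hx hcw]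
    have h1 := S.conj_hh u⁻¹ l hx hx' hxx'
    rw [hux, inv_inv] at h1
    rw [← h1]
    show u⁻¹ * z * u ∈ H
    rw [key]
    exact hmem

end Cfsg.Agent.Lib.Helper22.OqLeaf
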