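/-
helper22: leaf A3 (`mem_of_fix_pair`) of helper9's S2143 market "OQ" (`notes/S2143_leaves_w1.lean`).
-/
import Mathlib
import Cfsg.Agent.Lib.Helper9.OqTools
import Cfsg.Agent.Lib.Helper22.OqA2

set_option autoImplicit false

open Cfsg.Agent.Lib.Helper9.Oq

namespace Cfsg.Agent.Lib.Helper22.OqLeaf

variable {F V G : Type*} [Field F] [AddCommGroup V] [Module F V] [Group G] [DistribMulAction G V]
  (S : Setting F V G)

/-- an element fixing the two points `F x`, `F x''` commutes with `hh x x'' l` -/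
theorem comm_hh_of_fix_pair {x x'' : V} (hx : S.Q x = 0) (hx'' : S.Q x'' = 0)
    (hxx'' : S.B x x'' = 1) (l : Fˣ) {p : G} {a : Fˣ} (hpx : p • x = (a : F) • x)
    (hpx'' : p • x'' = ((a⁻¹ : Fˣ) : F) • x'') :
    p * S.hh x x'' l * p⁻¹ = S.hh x x'' l := by
  rw [S.conj_hh p l hx hx'' hxx'', hpx, hpx'']
  exact S.hh_smul_smul l a hx hx'' hxx''

/-- A3. -/
theorem mem_of_fix_pair (H : Subgroup G) {x x'' : V} (hx0 : x ≠ 0) (hx : S.Q x = 0)
    (hx'' : S.Q x'' = 0) (hxx'' : S.B x x'' = 1)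
    (hD : ∀ w, S.B x w = 0 → S.sg x w ∈ H → ∃ a : F, w = a • x)
    (hA1 : ∀ p ∈ S.PP x, ∃ w, S.B x w = 0 ∧ p * S.sg x w ∈ H) (l : Fˣ)
    (hl : (l : F) * l ≠ 1) (hh : S.hh x x'' l ∈ H) {p : G} {a : Fˣ}
    (hpx : p • x = (a : F) • x) (hpx'' : p • x'' = ((a⁻¹ : Fˣ) : F) • x'') : p ∈ H := by
  obtain ⟨w, hw, hg⟩ := hA1 p ⟨a, hpx⟩
  set t : G := S.hh x x'' l with ht
  set s : G := S.sg x w with hs
  have hpt : p * t * p⁻¹ = t := comm_hh_of_fix_pair S hx hx'' hxx'' l hpx hpx''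
  -- `li = l⁻²`
  set li : F := ((l⁻¹ : Fˣ) : F) * ((l⁻¹ : Fˣ) : F) with hli
  have hlli : (l : F) * l * li = 1 := by
    rw [hli]
    have h1 : (l : F) * ((l⁻¹ : Fˣ) : F) = 1 := by
      rw [← Units.val_mul, mul_inv_cancel, Units.val_one]
    linear_combination ((l : F) * ((l⁻¹ : Fˣ) : F) + 1) * h1
  have hli1 : 1 - li ≠ 0 := by
    intro h0
    apply hl
    have : li = 1 := by linear_combination -h0
    rw [this, mul_one] at hlli
    exact hlli
  set v : V := li • (-w) with hv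
  have hvx : S.B x v = 0 := by rw [hv, S.Bsmul_right, S.Bneg_right, hw, neg_zero, mul_zero]
  -- `t⁻¹ * s⁻¹ * t = sg x v`
  have e1 : t * S.sg x v * t⁻¹ = S.sg x (-w) := by
    rw [conj_hh_sg S hx hx'' hxx'' l hvx, hv, smul_smul, hlli, one_smul]
  have e2 : t⁻¹ * S.sg x (-w) * t = S.sg x v := by
    rw [← e1]; group
  have e3 : s⁻¹ = S.sg x (-w) := S.sg_inv hx hw
  have key : (p * s)⁻¹ * t * (p * s) = t * S.sg x (v + w) := by
    have hpt' : p⁻¹ * t * p = t := by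
      calc p⁻¹ * t * p = p⁻¹ * (p * t * p⁻¹) * p := by rw [hpt]
        _ = t := by group
    calc (p * s)⁻¹ * t * (p * s) = s⁻¹ * (p⁻¹ * t * p) * s := by group
      _ = s⁻¹ * t * s := by rw [hpt']
      _ = t * (t⁻¹ * s⁻¹ * t) * s := by group
      _ = t * (S.sg x v * S.sg x w) := by rw [e3, e2, mul_assoc]
      _ = t * S.sg x (v + w) := by rw [S.sg_mul hx hvx hw]
  have hmem : S.sg x (v + w) ∈ H := by
    have h1 : (p * s)⁻¹ * t * (p * s) ∈ H := H.mul_mem (H.mul_mem (H.inv_mem hg) hh) hg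
    rw [key] at h1
    have h2 : S.sg x (v + w) = t⁻¹ * (t * S.sg x (v + w)) := by group
    rw [h2]
    exact H.mul_mem (H.inv_mem hh) h1
  obtain ⟨b, hb⟩ := hD (v + w) (by rw [S.Badd_right, hvx, hw, add_zero]) hmem
  have hw' : w = ((1 - li)⁻¹ * b) • x := by
    have h1 : (1 - li) • w = b • x := by
      rw [← hb, hv, sub_smul, one_smul]
      module
    rw [← smul_smul, ← h1, smul_smul, inv_mul_cancel₀ hli1, one_smul]
  have hs1 : s = 1 := by
    rw [hs, hw']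
    exact S.sg_smul_right_self hx _
  rw [hs1, mul_one] at hg
  exact hg

end Cfsg.Agent.Lib.Helper22.OqLeaf
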