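import Mathlib
import Cfsg.Agent.Lib.Helper15.SemisimpleConj

/-! The centralizer of a semisimple matrix over a finite field has surjective determinant. -/

set_option autoImplicit false

namespace Cfsg.Agent.Lib.Helper22.SubfR

open Polynomial Module Cfsg.Agent.Lib.Helper15.SemisimpleConj

variable {F : Type*} [Field F] [Finite F]

/-- endomorphism version -/
theorem exists_commute_det {V : Type*} [AddCommGroup V] [Module F V] [FiniteDimensional F V]
    [Nontrivial V] (T : End F V) (N : ℕ) (hN : (N : F) ≠ 0) (hT : T ^ N = 1) (a : F) :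
    ∃ S : End F V, S * T = T * S ∧ LinearMap.det S = a := by
  classical
  set P : F[X] := X ^ N - C 1 with hPdef
  have hP : Squarefree P := (separable_X_pow_sub_C (1 : F) hN one_ne_zero).squarefree
  have hTP : aeval T P = 0 := by
    rw [hPdef, map_sub, map_pow, aeval_X, aeval_C, hT, map_one, sub_self]
  obtain ⟨ℓ, U, hℓ, hU, hirr, hc⟩ := exists_split P hP T hTP
  have hfirr : Irreducible (minpoly F (T.restrict hℓ)) := minpoly_irreducible_of_irrAct _ hirr
  have : Fact (Irreducible (minpoly F (T.restrict hℓ))) := ⟨hfirr⟩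
  obtain ⟨e, he⟩ := irrAct_equiv (T.restrict hℓ) hirr (minpoly F (T.restrict hℓ)) rfl
  set K := AdjoinRoot (minpoly F (T.restrict hℓ)) with hK
  have hfinV : Finite V := Module.finite_of_finite F
  have hfinℓ : Finite ℓ := Finite.of_injective (fun x : ℓ => (x : V)) Subtype.val_injective
  have hfinK : Finite K := Finite.of_equiv ℓ e.symm.toEquiv
  have hfd : FiniteDimensional F K := Module.Finite.equiv e.symm
  obtain ⟨κ, hκ⟩ := FiniteField.norm_surjective F K a
  -- multiplication by κ transported to ℓ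
  set Sℓ : End F ℓ := e.toLinearMap ∘ₗ (LinearMap.mulLeft F κ) ∘ₗ e.symm.toLinearMap with hSℓ
  have hSℓdet : LinearMap.det Sℓ = a := by
    rw [hSℓ, LinearMap.det_conj, ← hκ, Algebra.norm_apply]
    rfl
  have hSℓcomm : ∀ v, Sℓ (T.restrict hℓ v) = T.restrict hℓ (Sℓ v) := by
    intro v
    obtain ⟨κ', rfl⟩ := e.surjective v
    rw [← he]
    simp only [hSℓ, LinearMap.comp_apply, LinearEquiv.coe_coe, LinearEquiv.symm_apply_apply,
      LinearMap.mulLeft_apply]
    rw [← he]
    congr 1
    ring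
  -- glue with the identity on U
  set E := Submodule.prodEquivOfIsCompl ℓ U hc with hE
  set S : End F V := E.toLinearMap ∘ₗ (Sℓ.prodMap (LinearMap.id : End F U)) ∘ₗ E.symm.toLinearMap
    with hS
  have hTE : ∀ x : ℓ × U, T (E x) = E ((T.restrict hℓ x.1, T.restrict hU x.2)) := by
    rintro ⟨x, y⟩
    simp only [hE, Submodule.coe_prodEquivOfIsCompl', map_add]
    rfl
  have hSE : ∀ x : ℓ × U, S (E x) = E ((Sℓ x.1, x.2)) := by
    rintro ⟨x, y⟩
    simp only [hS, LinearMap.comp_apply, LinearEquiv.coe_coe, LinearEquiv.symm_apply_apply,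
      LinearMap.prodMap_apply, LinearMap.id_apply]
  refine ⟨S, ?_, ?_⟩
  · apply LinearMap.ext
    intro v
    obtain ⟨⟨x, y⟩, rfl⟩ := E.surjective v
    rw [End.mul_apply, End.mul_apply, hTE, hSE, hSE, hTE]
    simp only [hSℓcomm]
  · rw [hS, LinearMap.det_conj, LinearMap.det_prodMap, hSℓdet, LinearMap.det_id, mul_one]

/-- matrix version -/
theorem exists_matrix_commute_det (n : ℕ) (hn : 0 < n) (A : Matrix (Fin n) (Fin n) F) (N : ℕ)
    (hN : (N : F) ≠ 0) (hA : A ^ N = 1) (a : F) :
    ∃ C : Matrix (Fin n) (Fin n) F, C * A = A * C ∧ C.det = a := by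
  classical
  have : Nonempty (Fin n) := ⟨⟨0, hn⟩⟩
  have : Nontrivial (Fin n → F) := Function.nontrivial
  set T : End F (Fin n → F) := Matrix.toLinAlgEquiv' A with hTdef
  have hT : T ^ N = 1 := by rw [hTdef, ← map_pow, hA, map_one]
  obtain ⟨S, hST, hSdet⟩ := exists_commute_det T N hN hT a
  refine ⟨(Matrix.toLinAlgEquiv' (R := F) (n := Fin n)).symm S, ?_, ?_⟩
  · apply (Matrix.toLinAlgEquiv' (R := F) (n := Fin n)).injective
    rw [map_mul, map_mul, AlgEquiv.apply_symm_apply, ← hTdef, hST]
  · rw [← hSdet]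
    have : S = Matrix.toLin' ((Matrix.toLinAlgEquiv' (R := F) (n := Fin n)).symm S) := by
      have := (Matrix.toLinAlgEquiv' (R := F) (n := Fin n)).apply_symm_apply S
      exact this.symm
    nth_rewrite 2 [this]
    rw [LinearMap.det_toLin']

end Cfsg.Agent.Lib.Helper22.SubfR
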