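import Mathlib
import Cfsg.Agent.Lib.Helper22.UnitRA

/-! Membership in the similarity group of a unitary form in terms of the standard model. -/

set_option autoImplicit false
open scoped MatrixGroups

namespace Cfsg.Agent.Lib.Helper22.UnitR

open Matrix Module Cfsg.Agent.Lib.Helper14 Cfsg.Agent.Lib.Helper15

variable {F : Type*} [Field F] [Fintype F]

omit [Fintype F] in
theorem isUni_one (q₀ n : ℕ) : IsUni F q₀ n (1 : Matrix (Fin n) (Fin n) F) := by
  intro u v
  rw [Matrix.one_mulVec, Matrix.one_mulVec]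

omit [Fintype F] in
theorem isUni_pow {q₀ n : ℕ} {M : Matrix (Fin n) (Fin n) F} (hM : IsUni F q₀ n M) (k : ℕ) :
    IsUni F q₀ n (M ^ k) := by
  induction k with
  | zero => rw [pow_zero]; exact isUni_one q₀ n
  | succ k ih => rw [pow_succ]; exact ih.mul hM

omit [Fintype F] in
/-- scaling a matrix scales the form by the norm -/
theorem hermForm_smul_mulVec (q₀ n : ℕ) (u : F) (A : Matrix (Fin n) (Fin n) F)
    (a b : Fin n → F) :
    Cfsg.hermForm n F q₀ ((u • A) *ᵥ a) ((u • A) *ᵥ b) =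
      (u * u ^ q₀) * Cfsg.hermForm n F q₀ (A *ᵥ a) (A *ᵥ b) := by
  rw [Matrix.smul_mulVec, Matrix.smul_mulVec, hermForm_smul_left, hermForm_smul_right]
  ring

/-- a scalar matrix is unitary iff the scalar has norm one -/
theorem isUni_smul_one {q₀ : ℕ} (hF : Fintype.card F = q₀ ^ 2) (n : ℕ) (hn : 1 ≤ n) (a : F)
    (h : IsUni F q₀ n (a • (1 : Matrix (Fin n) (Fin n) F))) : a * a ^ q₀ = 1 := by
  classical
  let i₀ : Fin n := ⟨0, by omega⟩
  have h1 := h (Pi.single i₀ 1) (Pi.single i₀ 1)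
  rw [hermForm_smul_mulVec, Matrix.one_mulVec, hermForm_single hF, if_pos rfl, mul_one] at h1
  exact h1

omit [Fintype F] in
theorem isUni_smul_one_of {q₀ : ℕ} (n : ℕ) (a : F) (h : a * a ^ q₀ = 1) :
    IsUni F q₀ n (a • (1 : Matrix (Fin n) (Fin n) F)) := by
  intro u v
  rw [hermForm_smul_mulVec, Matrix.one_mulVec, Matrix.one_mulVec, h, one_mul]

/-- membership in the similarity group via the standard model -/
theorem mem_sim_iff {q₀ : ℕ} (hF : Fintype.card F = q₀ ^ 2) (n : ℕ) (hn : 1 ≤ n)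
    (f : (Fin n → F) → (Fin n → F) → F) (S : GL (Fin n) F)
    (hS : ∀ a b : Fin n → F,
      f ((S : Matrix (Fin n) (Fin n) F) *ᵥ a) ((S : Matrix (Fin n) (Fin n) F) *ᵥ b) =
        Cfsg.hermForm n F q₀ a b) (M : GL (Fin n) F) :
    M ∈ Cfsg.Geo.similarityGroup f ↔
      UniUpTo F q₀ n ((S⁻¹ * M * S : GL (Fin n) F) : Matrix (Fin n) (Fin n) F) := by
  classical
  set A : Matrix (Fin n) (Fin n) F := ((S⁻¹ * M * S : GL (Fin n) F) : Matrix (Fin n) (Fin n) F)
    with hA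
  have hSA : (S : Matrix (Fin n) (Fin n) F) * A =
      (M : Matrix (Fin n) (Fin n) F) * (S : Matrix (Fin n) (Fin n) F) := by
    rw [hA, ← Units.val_mul, ← Units.val_mul]
    congr 1
    group
  have key : ∀ a b : Fin n → F, Cfsg.hermForm n F q₀ (A *ᵥ a) (A *ᵥ b) =
      f ((M : Matrix (Fin n) (Fin n) F) *ᵥ ((S : Matrix (Fin n) (Fin n) F) *ᵥ a))
        ((M : Matrix (Fin n) (Fin n) F) *ᵥ ((S : Matrix (Fin n) (Fin n) F) *ᵥ b)) := by
    intro a b
    rw [← hS, Matrix.mulVec_mulVec, Matrix.mulVec_mulVec, hSA, ← Matrix.mulVec_mulVec,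
      ← Matrix.mulVec_mulVec]
  constructor
  · rintro ⟨c, hc⟩
    have h1 : ∀ a b : Fin n → F, Cfsg.hermForm n F q₀ (A *ᵥ a) (A *ᵥ b) =
        (c : F) * Cfsg.hermForm n F q₀ a b := by
      intro a b
      rw [key, hc, hS]
    let i₀ : Fin n := ⟨0, by omega⟩
    have h2 := h1 (Pi.single i₀ 1) (Pi.single i₀ 1)
    rw [hermForm_single hF, if_pos rfl, mul_one] at h2
    have hcfix : (c : F) ^ q₀ = (c : F) := by
      rw [← h2]
      exact hermForm_self_pow hF _
    obtain ⟨u, hu0, hu⟩ := exists_norm_eq hF (c : F) c.ne_zero hcfix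
    refine ⟨u, hu0, fun a b => ?_⟩
    rw [hermForm_smul_mulVec, h1, ← mul_assoc]
    have : u⁻¹ * u⁻¹ ^ q₀ * (c : F) = 1 := by
      rw [← hu, inv_pow]
      field_simp
    rw [this, one_mul]
  · rintro ⟨u, hu0, hU⟩
    have h1 : ∀ a b : Fin n → F, Cfsg.hermForm n F q₀ (A *ᵥ a) (A *ᵥ b) =
        (u * u ^ q₀) * Cfsg.hermForm n F q₀ a b := by
      intro a b
      have h2 := hU a b
      rw [hermForm_smul_mulVec] at h2
      rw [← h2, ← mul_assoc]
      have : u * u ^ q₀ * (u⁻¹ * u⁻¹ ^ q₀) = 1 := by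
        rw [inv_pow]
        field_simp
      rw [this, one_mul]
    have hc0 : u * u ^ q₀ ≠ 0 := mul_ne_zero hu0 (pow_ne_zero _ hu0)
    refine ⟨Units.mk0 _ hc0, fun x y => ?_⟩
    set Si : Matrix (Fin n) (Fin n) F := ((S⁻¹ : GL (Fin n) F) : Matrix (Fin n) (Fin n) F)
      with hSi
    have hSS : (S : Matrix (Fin n) (Fin n) F) * Si = 1 := by
      rw [hSi, ← Units.val_mul, mul_inv_cancel, Units.val_one]
    have hx : x = (S : Matrix (Fin n) (Fin n) F) *ᵥ (Si *ᵥ x) := by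
      rw [Matrix.mulVec_mulVec, hSS, Matrix.one_mulVec]
    have hy : y = (S : Matrix (Fin n) (Fin n) F) *ᵥ (Si *ᵥ y) := by
      rw [Matrix.mulVec_mulVec, hSS, Matrix.one_mulVec]
    rw [Units.val_mk0]
    conv_lhs => rw [hx, hy]
    rw [← key, h1, ← hS, ← hx, ← hy]

end Cfsg.Agent.Lib.Helper22.UnitR
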