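import Mathlib
import Cfsg.Agent.Lib.Helper22.UnitRB
import Cfsg.Agent.Lib.Helper22.SubfRB
import Cfsg.Agent.Lib.Helper15.UnitaryCent

/-! Criteria for an element of `SL_n(F)` to be conjugate (in `SL_n`) into the similarity group of a
unitary form. -/

set_option autoImplicit false
open scoped MatrixGroups

namespace Cfsg.Agent.Lib.Helper22.UnitR

open Matrix Module Polynomial Cfsg.Agent.Lib.Helper14 Cfsg.Agent.Lib.Helper15

variable {F : Type*} [Field F] [Fintype F]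

omit [Fintype F] in
theorem mem_specialLinear_iff {n : ℕ} (g : GL (Fin n) F) :
    g ∈ Cfsg.Geo.specialLinear (Fin n) F ↔ (g : Matrix (Fin n) (Fin n) F).det = 1 := by
  unfold Cfsg.Geo.specialLinear
  rw [MonoidHom.mem_ker]
  constructor
  · intro h
    have := congrArg Units.val h
    rwa [Matrix.GeneralLinearGroup.val_det_apply, Units.val_one] at this
  · intro h
    apply Units.ext
    rw [Matrix.GeneralLinearGroup.val_det_apply, Units.val_one]
    exact h

omit [Fintype F] in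
/-- the basic criterion: a scalar multiple of `x` is `GL`-conjugate to a unitary matrix and the
centraliser of `x` has all determinants -/
theorem good_of_conj {q₀ : ℕ} (n : ℕ) (S x : GL (Fin n) F) (u : F) (hu : u ≠ 0)
    (M : Matrix (Fin n) (Fin n) F) (hM : IsUni F q₀ n M) (G : GL (Fin n) F)
    (hG : (G : Matrix (Fin n) (Fin n) F) * (u⁻¹ • (x : Matrix (Fin n) (Fin n) F)) =
      M * (G : Matrix (Fin n) (Fin n) F))
    (hcent : ∀ a : F, a ≠ 0 → ∃ C : Matrix (Fin n) (Fin n) F,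
      C * (x : Matrix (Fin n) (Fin n) F) = (x : Matrix (Fin n) (Fin n) F) * C ∧ C.det = a) :
    ∃ g : GL (Fin n) F, g ∈ Cfsg.Geo.specialLinear (Fin n) F ∧
      UniUpTo F q₀ n ((S⁻¹ * (g⁻¹ * x * g) * S : GL (Fin n) F) : Matrix (Fin n) (Fin n) F) := by
  classical
  have hGdet : (G : Matrix (Fin n) (Fin n) F).det ≠ 0 :=
    ((Matrix.isUnit_iff_isUnit_det _).mp G.isUnit).ne_zero
  have hSdet : (S : Matrix (Fin n) (Fin n) F).det ≠ 0 :=
    ((Matrix.isUnit_iff_isUnit_det _).mp S.isUnit).ne_zero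
  obtain ⟨C, hCx, hCdet⟩ := hcent ((G : Matrix (Fin n) (Fin n) F).det *
    (S : Matrix (Fin n) (Fin n) F).det) (mul_ne_zero hGdet hSdet)
  have hCdet0 : C.det ≠ 0 := by rw [hCdet]; exact mul_ne_zero hGdet hSdet
  set Cg : GL (Fin n) F := Matrix.GeneralLinearGroup.mkOfDetNeZero C hCdet0 with hCg
  have hCgval : (Cg : Matrix (Fin n) (Fin n) F) = C := rfl
  have hcomm : Cg * x = x * Cg := by
    apply Units.ext
    rw [Units.val_mul, Units.val_mul, hCgval]
    exact hCx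
  have hcomm' : Cg⁻¹ * x * Cg = x := by
    rw [mul_assoc, ← hcomm, ← mul_assoc, inv_mul_cancel, one_mul]
  refine ⟨Cg * G⁻¹ * S⁻¹, ?_, u, hu, ?_⟩
  · rw [mem_specialLinear_iff, Units.val_mul, Units.val_mul, Matrix.det_mul, Matrix.det_mul,
      hCgval, hCdet, Matrix.coe_units_inv, Matrix.coe_units_inv, Matrix.det_nonsing_inv,
      Matrix.det_nonsing_inv]
    simp only [Ring.inverse_eq_inv']
    field_simp
  · have h1 : S⁻¹ * ((Cg * G⁻¹ * S⁻¹)⁻¹ * x * (Cg * G⁻¹ * S⁻¹)) * S = G * x * G⁻¹ := by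
      calc S⁻¹ * ((Cg * G⁻¹ * S⁻¹)⁻¹ * x * (Cg * G⁻¹ * S⁻¹)) * S
          = G * (Cg⁻¹ * x * Cg) * G⁻¹ := by group
        _ = G * x * G⁻¹ := by rw [hcomm']
    have h2 : u⁻¹ • ((G * x * G⁻¹ : GL (Fin n) F) : Matrix (Fin n) (Fin n) F) = M := by
      rw [Units.val_mul, Units.val_mul, ← Matrix.smul_mul, ← Matrix.mul_smul, hG,
        Matrix.mul_assoc, ← Units.val_mul, mul_inv_cancel, Units.val_one, Matrix.mul_one]
    rw [h1, h2]
    exact hM

/-- the semisimple criterion: a scalar multiple of `x` of order prime to `p` with self-reciprocal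
(twisted) characteristic polynomial -/
theorem good_of_star {p q₀ : ℕ} [Fact p.Prime] [CharP F p] (hF : Fintype.card F = q₀ ^ 2)
    (σ : F →+* F) (hσ : ∀ c, σ c = c ^ q₀) (n : ℕ) (hn : 0 < n) (S x : GL (Fin n) F)
    (u : F) (hu : u ≠ 0) (N : ℕ) (hN : (N : F) ≠ 0)
    (hxN : (u⁻¹ • (x : Matrix (Fin n) (Fin n) F)) ^ N = 1)
    (hstar : StarPoly.star σ (u⁻¹ • (x : Matrix (Fin n) (Fin n) F)).charpoly =
      (u⁻¹ • (x : Matrix (Fin n) (Fin n) F)).charpoly) :
    ∃ g : GL (Fin n) F, g ∈ Cfsg.Geo.specialLinear (Fin n) F ∧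
      UniUpTo F q₀ n ((S⁻¹ * (g⁻¹ * x * g) * S : GL (Fin n) F) : Matrix (Fin n) (Fin n) F) := by
  classical
  set y : Matrix (Fin n) (Fin n) F := u⁻¹ • (x : Matrix (Fin n) (Fin n) F) with hy
  have hfm : y.charpoly.Monic := Matrix.charpoly_monic y
  have hdeg : y.charpoly.natDegree = n := by
    rw [Matrix.charpoly_natDegree_eq_dim, Fintype.card_fin]
  have hc0 : y.charpoly.coeff 0 ≠ 0 :=
    UnitaryCent.coeff_zero_ne_zero_of_star' σ hfm.ne_zero hstar
  obtain ⟨M, hM, hMchar, N', hN', hMN'⟩ :=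
    UnitaryCent.exists_unitary_of_charpoly hF σ hσ n y.charpoly hfm hdeg hc0 hstar
  have hNN : ((N * N' : ℕ) : F) ≠ 0 := by
    rw [Nat.cast_mul]
    exact mul_ne_zero hN hN'
  have hyN : y ^ (N * N') = 1 := by rw [pow_mul, hxN, one_pow]
  have hMN : M ^ (N * N') = 1 := by rw [mul_comm, pow_mul, hMN', one_pow]
  obtain ⟨G, hG⟩ := SemisimpleCount.matrix_conj n y M (N * N') hNN hyN hMN hMchar.symm
  refine good_of_conj n S x u hu M hM G hG ?_
  intro a _
  obtain ⟨C, hC, hCdet⟩ :=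
    Cfsg.Agent.Lib.Helper22.SubfR.exists_matrix_commute_det n hn y (N * N') hNN hyN a
  refine ⟨C, ?_, hCdet⟩
  have hxy : (x : Matrix (Fin n) (Fin n) F) = u • y := by
    rw [hy, smul_smul, mul_inv_cancel₀ hu, one_smul]
  rw [hxy, Matrix.mul_smul, Matrix.smul_mul, hC]

end Cfsg.Agent.Lib.Helper22.UnitR
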