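import Mathlib
import Cfsg.Prelude.Def_GeometricClasses
import Cfsg.Agent.Lib.Helper9.QuadBridge
import Cfsg.Agent.Lib.Helper15.QuadOrth
import Cfsg.Agent.Lib.Helper22.UnitRC

/-! Similarity groups of quadratic forms on `F^n` in `SL_n(F)`: basic definitions, model forms given
by a symmetric Gram matrix. -/

set_option autoImplicit false
open scoped MatrixGroups

namespace Cfsg.Agent.Lib.Helper22.OrthR

open Matrix QuadraticMap Module

variable {F : Type*} [Field F]

/-- `M` multiplies the function `Q` by a nonzero scalar -/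
def IsSim {ι : Type*} [Fintype ι] (Q : (ι → F) → F) (M : Matrix ι ι F) : Prop :=
  ∃ c : F, c ≠ 0 ∧ ∀ v, Q (M *ᵥ v) = c * Q v

theorem mem_quadSim_iff {n : ℕ} (Q : (Fin n → F) → F) (g : GL (Fin n) F) :
    g ∈ Cfsg.Geo.quadSimilarityGroup Q ↔ IsSim Q (g : Matrix (Fin n) (Fin n) F) := by
  constructor
  · rintro ⟨c, hc⟩
    exact ⟨c, c.ne_zero, hc⟩
  · rintro ⟨c, hc0, hc⟩
    exact ⟨Units.mk0 c hc0, hc⟩

/-- conjugating into the similarity group amounts to changing the form -/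
theorem conj_mem_quadSim_iff {n : ℕ} (Q : (Fin n → F) → F) (x g : GL (Fin n) F) :
    g⁻¹ * x * g ∈ Cfsg.Geo.quadSimilarityGroup Q ↔
      IsSim (fun w => Q (((g⁻¹ : GL (Fin n) F) : Matrix (Fin n) (Fin n) F) *ᵥ w))
        (x : Matrix (Fin n) (Fin n) F) := by
  rw [mem_quadSim_iff]
  have hgg : (g : Matrix (Fin n) (Fin n) F) * ((g⁻¹ : GL (Fin n) F) : Matrix (Fin n) (Fin n) F)
      = 1 := by rw [← Units.val_mul, mul_inv_cancel, Units.val_one]
  have hgg' : ((g⁻¹ : GL (Fin n) F) : Matrix (Fin n) (Fin n) F) * (g : Matrix (Fin n) (Fin n) F)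
      = 1 := by rw [← Units.val_mul, inv_mul_cancel, Units.val_one]
  constructor
  · rintro ⟨c, hc0, hc⟩
    refine ⟨c, hc0, fun w => ?_⟩
    have h1 := hc (((g⁻¹ : GL (Fin n) F) : Matrix (Fin n) (Fin n) F) *ᵥ w)
    rw [Units.val_mul, Units.val_mul, Matrix.mulVec_mulVec, Matrix.mul_assoc, Matrix.mul_assoc,
      hgg, Matrix.mul_one, ← Matrix.mulVec_mulVec] at h1
    exact h1
  · rintro ⟨c, hc0, hc⟩
    refine ⟨c, hc0, fun v => ?_⟩
    have h1 := hc ((g : Matrix (Fin n) (Fin n) F) *ᵥ v)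
    simp only [Matrix.mulVec_mulVec] at h1
    rw [← Matrix.mul_assoc, hgg', Matrix.one_mulVec] at h1
    rw [Units.val_mul, Units.val_mul]
    exact h1

/-- the determinant of the polar Gram matrix in the standard basis -/
noncomputable def disc {n : ℕ} (Q : QuadraticForm F (Fin n → F)) : F :=
  (Matrix.of (fun i j : Fin n => polar Q (Pi.single i 1) (Pi.single j 1))).det

section model

variable {ι : Type*} [Fintype ι] [DecidableEq ι]

/-- the quadratic form `v ↦ (1/2) vᵀ B v` -/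
noncomputable def Qm (B : Matrix ι ι F) : QuadraticForm F (ι → F) :=
  LinearMap.BilinMap.toQuadraticMap (Matrix.toLinearMap₂' F ((2 : F)⁻¹ • B))

theorem Qm_apply (B : Matrix ι ι F) (v : ι → F) : Qm B v = (2 : F)⁻¹ * (v ⬝ᵥ B *ᵥ v) := by
  unfold Qm
  rw [LinearMap.BilinMap.toQuadraticMap_apply, Matrix.toLinearMap₂'_apply', Matrix.smul_mulVec,
    dotProduct_smul, smul_eq_mul]

theorem polar_Qm (h2 : (2 : F) ≠ 0) (B : Matrix ι ι F) (hB : Bᵀ = B) (u v : ι → F) :
    polar (Qm B) u v = u ⬝ᵥ B *ᵥ v := by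
  unfold Qm
  rw [LinearMap.BilinMap.polar_toQuadraticMap, Matrix.toLinearMap₂'_apply',
    Matrix.toLinearMap₂'_apply', Matrix.smul_mulVec, Matrix.smul_mulVec, dotProduct_smul,
    dotProduct_smul, smul_eq_mul, smul_eq_mul]
  have h1 : v ⬝ᵥ B *ᵥ u = u ⬝ᵥ B *ᵥ v := by
    rw [Matrix.dotProduct_mulVec, ← Matrix.mulVec_transpose, hB, dotProduct_comm]
  rw [h1]
  field_simp
  ring

theorem Qm_nondeg (h2 : (2 : F) ≠ 0) (B : Matrix ι ι F) (hB : Bᵀ = B) (hdet : B.det ≠ 0) :
    (polarBilin (Qm B)).Nondegenerate := by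
  have key : ∀ x : ι → F, (∀ y, polar (Qm B) x y = 0) → x = 0 := by
    intro x hx
    have h1 : Matrix.vecMul x B = 0 := by
      funext j
      have := hx (Pi.single j 1)
      rw [polar_Qm h2 B hB, Matrix.dotProduct_mulVec, dotProduct_single, mul_one] at this
      exact this
    exact Matrix.eq_zero_of_vecMul_eq_zero hdet h1
  constructor
  · intro x hx
    exact key x (fun y => by have := hx y; rwa [polarBilin_apply_apply] at this)
  · intro y hy
    exact key y (fun x => by have := hy x; rwa [polarBilin_apply_apply, polar_comm] at this)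

theorem Qm_mulVec (B M : Matrix ι ι F) (c : F) (hM : Mᵀ * B * M = c • B) (v : ι → F) :
    Qm B (M *ᵥ v) = c * Qm B v := by
  rw [Qm_apply, Qm_apply]
  have h1 : (M *ᵥ v) ⬝ᵥ B *ᵥ (M *ᵥ v) = v ⬝ᵥ (Mᵀ * B * M) *ᵥ v := by
    rw [← Matrix.mulVec_mulVec, ← Matrix.mulVec_mulVec, Matrix.dotProduct_mulVec v,
      Matrix.vecMul_transpose]
  rw [h1, hM, Matrix.smul_mulVec, dotProduct_smul, smul_eq_mul]
  ring

end model

theorem disc_Qm (h2 : (2 : F) ≠ 0) {n : ℕ} (B : Matrix (Fin n) (Fin n) F) (hB : Bᵀ = B) :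
    disc (Qm B) = B.det := by
  unfold disc
  congr 1
  ext i j
  rw [Matrix.of_apply, polar_Qm h2 B hB, Matrix.mulVec_single_one, single_dotProduct, one_mul]
  rfl

end Cfsg.Agent.Lib.Helper22.OrthR
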