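import Mathlib
import Cfsg.Agent.Lib.Helper22.OrthRA

/-! The basic criterion for an element of `SL_n(F)` to be conjugate (in `SL_n`) into the similarity
group of a quadratic form: a model form of the right discriminant scaled by a conjugate. -/

set_option autoImplicit false
open scoped MatrixGroups

namespace Cfsg.Agent.Lib.Helper22.OrthR

open Matrix QuadraticMap Module Cfsg.Agent.Lib.Helper22.UnitR

variable {F : Type*} [Field F]

theorem good_of_model [Finite F] (h2 : (2 : F) ≠ 0) {n : ℕ} (Q : QuadraticForm F (Fin n → F))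
    (hQ : (polarBilin Q).Nondegenerate) (B M : Matrix (Fin n) (Fin n) F) (hB : Bᵀ = B)
    (hB0 : B.det ≠ 0) (hdisc : IsSquare (disc Q * B.det)) (c : F) (hc : c ≠ 0)
    (hM : Mᵀ * B * M = c • B) (x : GL (Fin n) F) (u : F) (hu : u ≠ 0) (P : GL (Fin n) F)
    (hP : (P : Matrix (Fin n) (Fin n) F) * (u⁻¹ • (x : Matrix (Fin n) (Fin n) F)) =
      M * (P : Matrix (Fin n) (Fin n) F))
    (hcent : ∀ a : F, a ≠ 0 → ∃ C : Matrix (Fin n) (Fin n) F,
      C * (x : Matrix (Fin n) (Fin n) F) = (x : Matrix (Fin n) (Fin n) F) * C ∧ C.det = a) :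
    ∃ g : GL (Fin n) F, g ∈ Cfsg.Geo.specialLinear (Fin n) F ∧
      g⁻¹ * x * g ∈ Cfsg.Geo.quadSimilarityGroup (⇑Q) := by
  classical
  have hsq : IsSquare ((Matrix.of (fun i j : Fin n =>
      polar (Qm B) (Pi.single i 1) (Pi.single j 1))).det *
      (Matrix.of (fun i j : Fin n => polar Q (Pi.single i 1) (Pi.single j 1))).det) := by
    have h1 := disc_Qm h2 B hB
    unfold disc at h1 hdisc
    rw [h1, mul_comm]
    exact hdisc
  obtain ⟨φ, hφ⟩ := Cfsg.Agent.Lib.Helper15.isometric_of_disc h2 (Qm B) Q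
    (Qm_nondeg h2 B hB hB0) hQ hsq
  set T : Matrix (Fin n) (Fin n) F := LinearMap.toMatrix' (φ : (Fin n → F) →ₗ[F] (Fin n → F))
    with hT
  set T' : Matrix (Fin n) (Fin n) F :=
    LinearMap.toMatrix' (φ.symm : (Fin n → F) →ₗ[F] (Fin n → F)) with hT'
  have hTT' : T * T' = 1 := by
    rw [hT, hT', ← LinearMap.toMatrix'_comp]
    have : (φ : (Fin n → F) →ₗ[F] (Fin n → F)).comp (φ.symm : (Fin n → F) →ₗ[F] (Fin n → F)) =
        LinearMap.id := by
      ext v
      simp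
    rw [this, LinearMap.toMatrix'_id]
  have hT'T : T' * T = 1 := mul_eq_one_comm.1 hTT'
  have hTv : ∀ v, T *ᵥ v = φ v := by
    intro v
    rw [hT, LinearMap.toMatrix'_mulVec]
    rfl
  set Tg : GL (Fin n) F := ⟨T, T', hTT', hT'T⟩ with hTg
  have hTgval : (Tg : Matrix (Fin n) (Fin n) F) = T := rfl
  have hTginv : ((Tg⁻¹ : GL (Fin n) F) : Matrix (Fin n) (Fin n) F) = T' := rfl
  -- the conjugating element before the determinant correction
  set h₀ : GL (Fin n) F := (Tg * P)⁻¹ with hh₀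
  have hPx : (P : Matrix (Fin n) (Fin n) F) * (x : Matrix (Fin n) (Fin n) F) =
      u • (M * (P : Matrix (Fin n) (Fin n) F)) := by
    rw [← hP, Matrix.mul_smul, smul_smul, mul_inv_cancel₀ hu, one_smul]
  have hPP : (P : Matrix (Fin n) (Fin n) F) * ((P⁻¹ : GL (Fin n) F) : Matrix (Fin n) (Fin n) F)
      = 1 := by rw [← Units.val_mul, mul_inv_cancel, Units.val_one]
  have hconj : ((h₀⁻¹ * x * h₀ : GL (Fin n) F) : Matrix (Fin n) (Fin n) F) =
      u • (T * M * T') := by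
    have h1 : h₀⁻¹ * x * h₀ = Tg * (P * x * P⁻¹) * Tg⁻¹ := by
      rw [hh₀]
      group
    rw [h1, Units.val_mul, Units.val_mul, Units.val_mul, Units.val_mul, hTgval, hTginv, hPx,
      Matrix.smul_mul, Matrix.mul_assoc M, hPP, Matrix.mul_one, Matrix.mul_smul,
      Matrix.smul_mul]
  have hsim : h₀⁻¹ * x * h₀ ∈ Cfsg.Geo.quadSimilarityGroup (⇑Q) := by
    rw [mem_quadSim_iff]
    refine ⟨u ^ 2 * c, mul_ne_zero (pow_ne_zero _ hu) hc, fun v => ?_⟩
    rw [hconj, Matrix.smul_mulVec, QuadraticMap.map_smul, ← Matrix.mulVec_mulVec,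
      ← Matrix.mulVec_mulVec, hTv, hφ, Qm_mulVec B M c hM, ← hφ, ← hTv, Matrix.mulVec_mulVec,
      hTT', Matrix.one_mulVec, smul_eq_mul]
    ring
  -- determinant correction
  have hh₀det : (h₀ : Matrix (Fin n) (Fin n) F).det ≠ 0 :=
    ((Matrix.isUnit_iff_isUnit_det _).mp h₀.isUnit).ne_zero
  obtain ⟨C, hCx, hCdet⟩ := hcent ((h₀ : Matrix (Fin n) (Fin n) F).det)⁻¹ (inv_ne_zero hh₀det)
  have hCdet0 : C.det ≠ 0 := by rw [hCdet]; exact inv_ne_zero hh₀det
  set Cg : GL (Fin n) F := Matrix.GeneralLinearGroup.mkOfDetNeZero C hCdet0 with hCg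
  have hCgval : (Cg : Matrix (Fin n) (Fin n) F) = C := rfl
  have hcomm : Cg * x = x * Cg := by
    apply Units.ext
    rw [Units.val_mul, Units.val_mul, hCgval]
    exact hCx
  have hcomm' : Cg⁻¹ * x * Cg = x := by
    rw [mul_assoc, ← hcomm, ← mul_assoc, inv_mul_cancel, one_mul]
  refine ⟨Cg * h₀, ?_, ?_⟩
  · rw [mem_specialLinear_iff, Units.val_mul, Matrix.det_mul, hCgval, hCdet,
      inv_mul_cancel₀ hh₀det]
  · have h1 : (Cg * h₀)⁻¹ * x * (Cg * h₀) = h₀⁻¹ * (Cg⁻¹ * x * Cg) * h₀ := by group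
    rw [h1, hcomm']
    exact hsim

end Cfsg.Agent.Lib.Helper22.OrthR
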