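import Mathlib
import Cfsg.Agent.Lib.Helper15.SemisimpleCount

/-! Endomorphisms with `T ^ r = 1` over a field containing a primitive `r`-th root of unity:
the characteristic polynomial splits; diagonal form. -/

set_option autoImplicit false
open scoped MatrixGroups

namespace Cfsg.Agent.Lib.Helper22.SubfR

open Polynomial Module Cfsg.Agent.Lib.Helper15.SemisimpleConj

universe u v

variable {F : Type v} [Field F]

/-- an irreducible monic factor of `X ^ r - 1` is `X - C (lam ^ a)` -/
theorem eq_X_sub_C_of_irreducible_dvd (r : ℕ) (hr : 0 < r) (lam : F) (hlam : IsPrimitiveRoot lam r)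
    (g : F[X]) (hg : Irreducible g) (hmon : g.Monic) (hdvd : g ∣ X ^ r - 1) :
    ∃ a : ℕ, g = X - C (lam ^ a) := by
  classical
  have : NeZero r := ⟨hr.ne'⟩
  rw [X_pow_sub_one_eq_prod hr hlam] at hdvd
  obtain ⟨ζ, hζ, hgζ⟩ := (Prime.dvd_finset_prod_iff hg.prime _).1 hdvd
  rw [mem_nthRootsFinset hr] at hζ
  obtain ⟨a, -, ha⟩ := hlam.eq_pow_of_pow_eq_one hζ
  refine ⟨a, ?_⟩
  rw [ha]
  have hirr : Irreducible (X - C ζ) := irreducible_X_sub_C ζ
  have hassoc : Associated g (X - C ζ) := by
    obtain ⟨c, hc⟩ := hgζ
    rcases hirr.isUnit_or_isUnit hc with h | h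
    · exact absurd h hg.not_isUnit
    · exact ⟨h.unit, by rw [hc]; rfl⟩
  exact eq_of_monic_of_associated hmon (monic_X_sub_C ζ) hassoc

/-- powers of a restriction -/
theorem restrict_pow_coe {V : Type*} [AddCommGroup V] [Module F V] (T : End F V)
    (U : Submodule F V) (hU : U ∈ T.invtSubmodule) (k : ℕ) (w : U) :
    (((T.restrict hU) ^ k) w : V) = (T ^ k) (w : V) := by
  induction k generalizing w with
  | zero => simp
  | succ k ih =>
    rw [pow_succ, End.mul_apply, ih, pow_succ, End.mul_apply]
    rfl

/-- the characteristic polynomial of an endomorphism with `T ^ r = 1` splits with roots among the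
powers of a primitive `r`-th root of unity -/
theorem charpoly_split (r : ℕ) (hr : 0 < r) (lam : F) (hlam : IsPrimitiveRoot lam r) :
    ∀ (d : ℕ) (V : Type u) [AddCommGroup V] [Module F V] [FiniteDimensional F V] (T : End F V),
      finrank F V = d → T ^ r = 1 →
      ∃ s : Multiset ℕ, T.charpoly = (s.map (fun a => X - C (lam ^ a))).prod := by
  classical
  have hrF : (r : F) ≠ 0 := by
    have : NeZero r := ⟨hr.ne'⟩
    exact (hlam.neZero').out
  intro d
  induction d using Nat.strong_induction_on with
  | _ d ih =>
    intro V _ _ _ T hd hT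
    rcases Nat.eq_zero_or_pos d with h0 | hpos
    · refine ⟨0, ?_⟩
      rw [Multiset.map_zero, Multiset.prod_zero]
      have hmon := LinearMap.charpoly_monic T
      have hdeg := LinearMap.charpoly_natDegree T
      rw [hd, h0] at hdeg
      exact (Polynomial.Monic.natDegree_eq_zero hmon).1 hdeg
    · have : Nontrivial V := by
        apply Module.nontrivial_of_finrank_pos (R := F)
        omega
      set P : F[X] := X ^ r - C 1 with hPdef
      have hP : Squarefree P := (separable_X_pow_sub_C (1 : F) hrF one_ne_zero).squarefree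
      have hTP : aeval T P = 0 := by
        rw [hPdef, map_sub, map_pow, aeval_X, aeval_C, hT, map_one, sub_self]
      obtain ⟨ℓ, U, hℓ, hU, hirr, hc⟩ := exists_split P hP T hTP
      have hconj := conj_prodMap_of_isCompl T ℓ U hℓ hU hc
      have hchar : T.charpoly = (T.restrict hℓ).charpoly * (T.restrict hU).charpoly := by
        rw [← hconj.charpoly_eq, LinearMap.charpoly_prodMap]
      -- the irreducible part
      have hmin := charpoly_eq_minpoly_of_irrAct (T.restrict hℓ) hirr
      have hirrp := minpoly_irreducible_of_irrAct (T.restrict hℓ) hirr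
      have hTℓ : (T.restrict hℓ) ^ r = 1 := by
        apply LinearMap.ext
        intro w
        apply Subtype.ext
        rw [restrict_pow_coe, hT]
        rfl
      have hdvd : minpoly F (T.restrict hℓ) ∣ X ^ r - 1 := by
        apply minpoly.dvd
        rw [map_sub, map_pow, aeval_X, map_one, hTℓ, sub_self]
      obtain ⟨a, ha⟩ := eq_X_sub_C_of_irreducible_dvd r hr lam hlam _ hirrp
        (minpoly.monic (Algebra.IsIntegral.isIntegral _)) hdvd
      -- the complement
      have hTU : (T.restrict hU) ^ r = 1 := by
        apply LinearMap.ext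
        intro w
        apply Subtype.ext
        rw [restrict_pow_coe, hT]
        rfl
      have hdimℓ : 0 < finrank F ℓ := by
        have := hirr.1
        exact Module.finrank_pos
      have hdim : finrank F ℓ + finrank F U = finrank F V :=
        Submodule.finrank_add_eq_of_isCompl hc
      obtain ⟨s, hs⟩ := ih (finrank F U) (by omega) U (T.restrict hU) rfl hTU
      refine ⟨a ::ₘ s, ?_⟩
      rw [Multiset.map_cons, Multiset.prod_cons, hchar, hmin, ha, hs]

end Cfsg.Agent.Lib.Helper22.SubfR
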