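import Mathlib
import Cfsg.Agent.Lib.Helper22.SubfRE

/-! Diagonal form of matrices with `A ^ r = 1` over a finite field containing the `r`-th roots of
unity. -/

set_option autoImplicit false
open scoped MatrixGroups

namespace Cfsg.Agent.Lib.Helper22.SubfR

open Polynomial Matrix

universe v

variable {F : Type v} [Field F]

/-- the characteristic polynomial as a product over `Fin n` -/
theorem exists_charpoly_prod (n r : ℕ) (hr : 0 < r) (lam : F) (hlam : IsPrimitiveRoot lam r)
    (A : Matrix (Fin n) (Fin n) F) (hA : A ^ r = 1) :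
    ∃ a : Fin n → ℕ, A.charpoly = ∏ j : Fin n, (X - C (lam ^ (a j))) := by
  classical
  set T : Module.End F (Fin n → F) := Matrix.toLin' A with hT
  have hTr : T ^ r = 1 := by
    rw [hT, ← Matrix.toLin'_pow, hA, Matrix.toLin'_one]
    rfl
  obtain ⟨s, hs⟩ := charpoly_split r hr lam hlam n (Fin n → F) T (Module.finrank_fin_fun F) hTr
  rw [hT, Matrix.charpoly_toLin'] at hs
  have hcard : Multiset.card s = n := by
    have h1 := congrArg natDegree hs
    rw [Matrix.charpoly_natDegree_eq_dim, Fintype.card_fin,
      natDegree_multiset_prod_of_monic] at h1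
    · rw [Multiset.map_map] at h1
      simp only [Function.comp_apply, natDegree_X_sub_C] at h1
      rw [Multiset.map_const', Multiset.sum_replicate, smul_eq_mul, mul_one] at h1
      exact h1.symm
    · intro f hf
      rw [Multiset.mem_map] at hf
      obtain ⟨a, -, rfl⟩ := hf
      exact monic_X_sub_C _
  have hl : s.toList.length = n := by rw [Multiset.length_toList, hcard]
  refine ⟨fun j => s.toList[(j.cast hl.symm).1], ?_⟩
  rw [hs]
  have h2 : (s.map (fun a => X - C (lam ^ a))).prod =
      (s.toList.map (fun a => (X - C (lam ^ a) : F[X]))).prod := by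
    conv_lhs => rw [← Multiset.coe_toList s]
    rw [Multiset.map_coe, Multiset.prod_coe]
  rw [h2, ← Fin.prod_univ_fun_getElem]
  exact (Fintype.prod_equiv (finCongr hl.symm) _ _ (fun j => rfl)).symm

end Cfsg.Agent.Lib.Helper22.SubfR

namespace Cfsg.Agent.Lib.Helper22.SubfR

open Polynomial Matrix

universe v

variable {F : Type v} [Field F] [Fintype F]

/-- diagonal form: a matrix with `A ^ r = 1` is conjugate to a diagonal matrix of powers of `lam` -/
theorem exists_diag_conj (n r : ℕ) (hr : 0 < r) (lam : F) (hlam : IsPrimitiveRoot lam r)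
    (A : Matrix (Fin n) (Fin n) F) (hA : A ^ r = 1) :
    ∃ (a : Fin n → ℕ) (G : GL (Fin n) F),
      (G : Matrix (Fin n) (Fin n) F) * A =
        Matrix.diagonal (fun j => lam ^ (a j)) * (G : Matrix (Fin n) (Fin n) F) := by
  classical
  obtain ⟨a, ha⟩ := exists_charpoly_prod n r hr lam hlam A hA
  have hrF : (r : F) ≠ 0 := by
    have : NeZero r := ⟨hr.ne'⟩
    exact (hlam.neZero').out
  set D : Matrix (Fin n) (Fin n) F := Matrix.diagonal (fun j => lam ^ (a j)) with hD
  have hDr : D ^ r = 1 := by
    rw [hD, Matrix.diagonal_pow]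
    have : ((fun j => lam ^ (a j)) ^ r : Fin n → F) = 1 := by
      funext j
      rw [Pi.pow_apply, ← pow_mul, mul_comm, pow_mul, hlam.pow_eq_one, one_pow]
      rfl
    rw [this]
    exact Matrix.diagonal_one
  have hDc : A.charpoly = D.charpoly := by
    rw [ha, hD, Matrix.charpoly_diagonal]
  obtain ⟨G, hG⟩ := Cfsg.Agent.Lib.Helper15.SemisimpleCount.matrix_conj n A D r hrF hA hDr hDc
  exact ⟨a, G, hG⟩

end Cfsg.Agent.Lib.Helper22.SubfR
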