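import Mathlib
import Cfsg.Agent.Lib.Helper22.OrthRB
import Cfsg.Agent.Lib.Helper22.SubfRF
import Cfsg.Agent.Lib.Helper15.PGLInvol
import Cfsg.Agent.Lib.Helper15.SemisimpleCount

/-! Elements of `SL_n(F)` squaring to a scalar are conjugate into the similarity group of any
nondegenerate quadratic form (`q` odd). -/

set_option autoImplicit false
open scoped MatrixGroups

namespace Cfsg.Agent.Lib.Helper22.OrthR

open Matrix QuadraticMap Module Polynomial Cfsg.Agent.Lib.Helper22.UnitR

variable {F : Type*} [Field F]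

theorem disc_ne_zero {n : ℕ} (Q : QuadraticForm F (Fin n → F))
    (hQ : (polarBilin Q).Nondegenerate) : disc Q ≠ 0 := by
  intro h0
  unfold disc at h0
  obtain ⟨v, hv0, hv⟩ := Matrix.exists_mulVec_eq_zero_iff.2 h0
  apply hv0
  apply hQ.2
  intro u
  rw [polarBilin_apply_apply, Cfsg.Agent.Lib.Helper15.polar_eq_gram, hv, dotProduct_zero]

section reindex

variable {κ : Type*} [Fintype κ] [DecidableEq κ] {n : ℕ} (e : κ ≃ Fin n)

theorem reindex_transpose_eq (B₀ : Matrix κ κ F) (hB : B₀ᵀ = B₀) :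
    (Matrix.reindex e e B₀)ᵀ = Matrix.reindex e e B₀ := by
  rw [Matrix.transpose_reindex, hB]

theorem reindex_sim (B₀ M₀ : Matrix κ κ F) (c : F) (hM : M₀ᵀ * B₀ * M₀ = c • B₀) :
    (Matrix.reindex e e M₀)ᵀ * Matrix.reindex e e B₀ * Matrix.reindex e e M₀ =
      c • Matrix.reindex e e B₀ := by
  rw [Matrix.transpose_reindex]
  simp only [Matrix.reindex_apply, Matrix.submatrix_mul_equiv]
  rw [hM, Matrix.submatrix_smul]
  rfl

theorem reindex_mul_self (M₀ : Matrix κ κ F) (z : F) (hM : M₀ * M₀ = z • 1) :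
    Matrix.reindex e e M₀ * Matrix.reindex e e M₀ = z • 1 := by
  simp only [Matrix.reindex_apply, Matrix.submatrix_mul_equiv]
  rw [hM, Matrix.submatrix_smul]
  simp

end reindex

/-- the norm form of a quadratic extension is universal -/
theorem exists_norm_form [Fintype F] (hodd : Odd (Fintype.card F)) (z δ : F) (hz : z ≠ 0) :
    ∃ a b : F, z * a ^ 2 - b ^ 2 = δ := by
  have hf : (C z * X ^ 2 - C δ : F[X]).degree = 2 := by
    rw [degree_sub_C (by rw [degree_C_mul_X_pow 2 hz]; norm_num), degree_C_mul_X_pow 2 hz]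
    rfl
  have hg : (-(X ^ 2) : F[X]).degree = 2 := by
    rw [degree_neg, degree_X_pow]
    rfl
  obtain ⟨a, b, hab⟩ := FiniteField.exists_root_sum_quadratic hf hg (Nat.odd_iff.1 hodd)
  refine ⟨a, b, ?_⟩
  simp only [eval_sub, eval_mul, eval_C, eval_pow, eval_X, eval_neg] at hab
  linear_combination hab

/-- the characteristic polynomial of a matrix squaring to a nonsquare scalar -/
theorem charpoly_of_sq_nonsquare {n : ℕ} (A : Matrix (Fin n) (Fin n) F) (z : F)
    (hz : ¬ IsSquare z) (hA : A * A = z • 1) : A.charpoly = (X ^ 2 - C z) ^ (n / 2) := by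
  classical
  set P : F[X] := X ^ 2 - C z with hP
  have hPm : P.Monic := monic_X_pow_sub_C z (by norm_num)
  have hPd : P.natDegree = 2 := natDegree_X_pow_sub_C
  have hPi : Irreducible P := by
    apply Polynomial.irreducible_of_degree_le_three_of_not_isRoot
    · rw [hPd]; simp
    · intro x hx
      apply hz
      refine ⟨x, ?_⟩
      rw [IsRoot.def, hP, eval_sub, eval_pow, eval_X, eval_C, sub_eq_zero] at hx
      rw [← hx, pow_two]
  set T : End F (Fin n → F) := Matrix.toLin' A with hT
  have hTT : T * T = z • (1 : End F (Fin n → F)) := by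
    rw [hT, Module.End.mul_eq_comp, ← Matrix.toLin'_mul, hA, map_smul, Matrix.toLin'_one]
    rfl
  have haev : aeval T P = 0 := by
    rw [hP, map_sub, map_pow, aeval_X, aeval_C, pow_two, hTT, Algebra.algebraMap_eq_smul_one, sub_self]
  have h1 := Cfsg.Agent.Lib.Helper15.PGLInvol.charpoly_isotypic P hPm hPi n (Fin n → F) T
    (Module.finrank_fin_fun F) haev
  rw [hPd] at h1
  rw [← h1, hT, Matrix.charpoly_toLin']

end Cfsg.Agent.Lib.Helper22.OrthR
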