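import Mathlib
import Cfsg.Agent.Lib.Helper22.OrthRC
import Cfsg.Agent.Lib.Helper22.SubfRB
import Cfsg.Agent.Lib.Helper9.SubfieldF

/-! Elements of `SL_n(F)` squaring to a scalar are conjugate into the similarity group of any
nondegenerate quadratic form (`q` odd): the two cases. -/

set_option autoImplicit false
open scoped MatrixGroups

namespace Cfsg.Agent.Lib.Helper22.OrthR

open Matrix QuadraticMap Module Polynomial Cfsg.Agent.Lib.Helper22.UnitR

variable {F : Type*} [Field F] [Fintype F]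

/-- the case where the scalar is a square -/
theorem good_two_sq {p : ℕ} [Fact p.Prime] [CharP F p] (hp2 : p ≠ 2) {n : ℕ} (hn : 1 ≤ n)
    (Q : QuadraticForm F (Fin n → F)) (hQ : (polarBilin Q).Nondegenerate) (x : GL (Fin n) F)
    (w : F) (hw0 : w ≠ 0)
    (hxx : (x : Matrix (Fin n) (Fin n) F) * (x : Matrix (Fin n) (Fin n) F) = (w * w) • 1) :
    ∃ g : GL (Fin n) F, g ∈ Cfsg.Geo.specialLinear (Fin n) F ∧
      g⁻¹ * x * g ∈ Cfsg.Geo.quadSimilarityGroup (⇑Q) := by
  classical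
  have hp : p.Prime := Fact.out
  have h2F : ((2 : ℕ) : F) ≠ 0 := by
    intro h0
    rw [CharP.cast_eq_zero_iff F p] at h0
    exact hp2 ((Nat.prime_dvd_prime_iff_eq hp Nat.prime_two).1 h0)
  have h2 : (2 : F) ≠ 0 := by exact_mod_cast h2F
  set y : Matrix (Fin n) (Fin n) F := w⁻¹ • (x : Matrix (Fin n) (Fin n) F) with hy
  have hy2 : y ^ 2 = 1 := by
    rw [pow_two, hy, Matrix.smul_mul, Matrix.mul_smul, hxx, smul_smul, smul_smul]
    have : w⁻¹ * w⁻¹ * (w * w) = 1 := by field_simp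
    rw [this, one_smul]
  have hprim : IsPrimitiveRoot (-1 : F) 2 := IsPrimitiveRoot.neg_one p hp2
  obtain ⟨a, G, hG⟩ := Cfsg.Agent.Lib.Helper22.SubfR.exists_diag_conj n 2 (by norm_num) (-1 : F)
    hprim y hy2
  let j₀ : Fin n := ⟨0, by omega⟩
  set β : Fin n → F := Function.update (fun _ => (1 : F)) j₀ (disc Q) with hβ
  have hdisc0 := disc_ne_zero Q hQ
  have hBdet : (Matrix.diagonal β).det = disc Q := by
    rw [Matrix.det_diagonal, hβ, Finset.prod_update_of_mem (Finset.mem_univ j₀),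
      Finset.prod_const_one, mul_one]
  refine good_of_model h2 Q hQ (Matrix.diagonal β) (Matrix.diagonal (fun j => (-1 : F) ^ (a j)))
    (Matrix.diagonal_transpose β) (by rw [hBdet]; exact hdisc0) (by rw [hBdet]; exact ⟨_, rfl⟩)
    1 one_ne_zero ?_ x w hw0 G hG ?_
  · rw [Matrix.diagonal_transpose, Matrix.diagonal_mul_diagonal, Matrix.diagonal_mul_diagonal,
      one_smul]
    congr 1
    funext j
    have : ((-1 : F) ^ (a j)) * ((-1 : F) ^ (a j)) = 1 := by
      rw [← pow_add]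
      exact (Even.neg_one_pow ⟨a j, rfl⟩)
    calc (-1 : F) ^ (a j) * β j * (-1 : F) ^ (a j) =
        ((-1 : F) ^ (a j) * (-1 : F) ^ (a j)) * β j := by ring
      _ = β j := by rw [this, one_mul]
  · intro c _
    obtain ⟨C, hC, hCdet⟩ :=
      Cfsg.Agent.Lib.Helper22.SubfR.exists_matrix_commute_det n (by omega) y 2 h2F hy2 c
    refine ⟨C, ?_, hCdet⟩
    have hxy : (x : Matrix (Fin n) (Fin n) F) = w • y := by
      rw [hy, smul_smul, mul_inv_cancel₀ hw0, one_smul]
    rw [hxy, Matrix.mul_smul, Matrix.smul_mul, hC]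

/-- the case where the scalar is a nonsquare -/
theorem good_two_nonsq {p : ℕ} [Fact p.Prime] [CharP F p] (hp2 : p ≠ 2) {n : ℕ} (hn : 1 ≤ n)
    (Q : QuadraticForm F (Fin n → F)) (hQ : (polarBilin Q).Nondegenerate) (x : GL (Fin n) F)
    (z : F) (hz : ¬ IsSquare z)
    (hxx : (x : Matrix (Fin n) (Fin n) F) * (x : Matrix (Fin n) (Fin n) F) = z • 1) :
    ∃ g : GL (Fin n) F, g ∈ Cfsg.Geo.specialLinear (Fin n) F ∧
      g⁻¹ * x * g ∈ Cfsg.Geo.quadSimilarityGroup (⇑Q) := by
  classical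
  have hp : p.Prime := Fact.out
  have h2F : ((2 : ℕ) : F) ≠ 0 := by
    intro h0
    rw [CharP.cast_eq_zero_iff F p] at h0
    exact hp2 ((Nat.prime_dvd_prime_iff_eq hp Nat.prime_two).1 h0)
  have h2 : (2 : F) ≠ 0 := by exact_mod_cast h2F
  have hodd : Odd (Fintype.card F) := by
    obtain ⟨f, -, hf⟩ := FiniteField.card F p
    rw [hf]
    exact (hp.odd_of_ne_two hp2).pow
  have hz0 : z ≠ 0 := by
    rintro rfl
    exact hz ⟨0, by ring⟩
  obtain ⟨m, hm, -⟩ := Cfsg.Agent.Lib.Helper9.SubfieldF.det_of_sq_nonsquare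
    (x : Matrix (Fin n) (Fin n) F) z hz hxx
  subst hm
  have hm1 : 1 ≤ m := by omega
  let i₀ : Fin m := ⟨0, by omega⟩
  have hdisc0 := disc_ne_zero Q hQ
  obtain ⟨a₁, b₁, h₁⟩ := exists_norm_form hodd z 1 hz0
  obtain ⟨a₀, b₀, h₀⟩ := exists_norm_form hodd z (disc Q) hz0
  set a : Fin m → F := Function.update (fun _ => a₁) i₀ a₀ with ha
  set b : Fin m → F := Function.update (fun _ => b₁) i₀ b₀ with hb
  set B₀ : Matrix (Fin 2 × Fin m) (Fin 2 × Fin m) F :=
    Matrix.blockDiagonal (fun i : Fin m => !![a i, b i; b i, z * a i]) with hB₀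
  set M₀ : Matrix (Fin 2 × Fin m) (Fin 2 × Fin m) F :=
    Matrix.blockDiagonal (fun _ : Fin m => !![0, z; 1, 0]) with hM₀
  let e : Fin 2 × Fin m ≃ Fin (2 * m) := finProdFinEquiv
  have hB₀s : B₀ᵀ = B₀ := by
    rw [hB₀, Matrix.blockDiagonal_transpose]
    congr 1
    funext i
    ext j k
    fin_cases j <;> fin_cases k <;> simp
  have hB₀det : B₀.det = disc Q := by
    rw [hB₀, Matrix.det_blockDiagonal]
    have hfac : ∀ i : Fin m, (!![a i, b i; b i, z * a i] : Matrix (Fin 2) (Fin 2) F).det =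
        Function.update (fun _ => (1 : F)) i₀ (disc Q) i := by
      intro i
      rw [Matrix.det_fin_two_of]
      by_cases hi : i = i₀
      · subst hi
        rw [ha, hb, Function.update_self, Function.update_self, Function.update_self]
        linear_combination h₀
      · rw [ha, hb, Function.update_of_ne hi, Function.update_of_ne hi, Function.update_of_ne hi]
        linear_combination h₁
    rw [Finset.prod_congr rfl (fun i _ => hfac i),
      Finset.prod_update_of_mem (Finset.mem_univ i₀), Finset.prod_const_one, mul_one]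
  have hM₀B : M₀ᵀ * B₀ * M₀ = z • B₀ := by
    rw [hM₀, hB₀, Matrix.blockDiagonal_transpose, ← Matrix.blockDiagonal_mul,
      ← Matrix.blockDiagonal_mul, ← Matrix.blockDiagonal_smul]
    congr 1
    funext i
    ext j k
    fin_cases j <;> fin_cases k <;> simp [Matrix.mul_apply, Fin.sum_univ_two] <;> ring
  have hM₀sq : M₀ * M₀ = z • 1 := by
    rw [hM₀, ← Matrix.blockDiagonal_mul, ← Matrix.blockDiagonal_one, ← Matrix.blockDiagonal_smul]
    congr 1
    funext i
    ext j k
    fin_cases j <;> fin_cases k <;> simp [Matrix.mul_apply, Fin.sum_univ_two]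
  set B : Matrix (Fin (2 * m)) (Fin (2 * m)) F := Matrix.reindex e e B₀ with hB
  set M : Matrix (Fin (2 * m)) (Fin (2 * m)) F := Matrix.reindex e e M₀ with hM
  have hBs : Bᵀ = B := reindex_transpose_eq e B₀ hB₀s
  have hBdet : B.det = disc Q := by
    rw [hB, Matrix.det_reindex_self, hB₀det]
  have hMB : Mᵀ * B * M = z • B := reindex_sim e B₀ M₀ z hM₀B
  have hMsq : M * M = z • 1 := reindex_mul_self e M₀ z hM₀sq
  -- conjugacy
  have hcp : (x : Matrix (Fin (2 * m)) (Fin (2 * m)) F).charpoly = M.charpoly := by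
    rw [charpoly_of_sq_nonsquare _ z hz hxx, charpoly_of_sq_nonsquare M z hz hMsq]
  set N : ℕ := 2 * (Fintype.card F - 1) with hN
  have hNF : (N : F) ≠ 0 := by
    rw [hN, Nat.cast_mul]
    apply mul_ne_zero h2F
    have hone : 1 ≤ Fintype.card F := Fintype.card_pos
    rw [Nat.cast_sub hone, Nat.cast_card_eq_zero, Nat.cast_one, zero_sub]
    exact neg_ne_zero.2 one_ne_zero
  have hpowN : ∀ A : Matrix (Fin (2 * m)) (Fin (2 * m)) F, A * A = z • 1 → A ^ N = 1 := by
    intro A hA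
    rw [hN, pow_mul, pow_two, hA, _root_.smul_pow, one_pow,
      FiniteField.pow_card_sub_one_eq_one z hz0, one_smul]
  obtain ⟨G, hG⟩ := Cfsg.Agent.Lib.Helper15.SemisimpleCount.matrix_conj (2 * m)
    (x : Matrix (Fin (2 * m)) (Fin (2 * m)) F) M N hNF (hpowN _ hxx) (hpowN _ hMsq) hcp
  refine good_of_model h2 Q hQ B M hBs (by rw [hBdet]; exact hdisc0)
    (by rw [hBdet]; exact ⟨_, rfl⟩) z hz0 hMB x 1 one_ne_zero G ?_ ?_
  · rw [inv_one, one_smul]
    exact hG
  · intro c _
    exact Cfsg.Agent.Lib.Helper22.SubfR.exists_matrix_commute_det (2 * m) (by omega) _ N hNF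
      (hpowN _ hxx) c

/-- `r = 2`: every element is good -/
theorem good_two {p : ℕ} [Fact p.Prime] [CharP F p] (hp2 : p ≠ 2) {n : ℕ} (hn : 1 ≤ n)
    (Q : QuadraticForm F (Fin n → F)) (hQ : (polarBilin Q).Nondegenerate) (x : GL (Fin n) F)
    (z : F)
    (hxx : (x : Matrix (Fin n) (Fin n) F) * (x : Matrix (Fin n) (Fin n) F) = z • 1) :
    ∃ g : GL (Fin n) F, g ∈ Cfsg.Geo.specialLinear (Fin n) F ∧
      g⁻¹ * x * g ∈ Cfsg.Geo.quadSimilarityGroup (⇑Q) := by
  by_cases hz : IsSquare z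
  · obtain ⟨w, hw⟩ := hz
    have hw0 : w ≠ 0 := by
      rintro rfl
      rw [mul_zero] at hw
      rw [hw, zero_smul] at hxx
      have h1 := congrArg Matrix.det hxx
      have : Nonempty (Fin n) := ⟨⟨0, by omega⟩⟩
      rw [Matrix.det_mul, Matrix.det_zero] at h1
      have hx0 : (x : Matrix (Fin n) (Fin n) F).det ≠ 0 :=
        ((Matrix.isUnit_iff_isUnit_det _).mp x.isUnit).ne_zero
      exact mul_self_ne_zero.2 hx0 h1
    rw [hw] at hxx
    exact good_two_sq hp2 hn Q hQ x w hw0 hxx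
  · exact good_two_nonsq hp2 hn Q hQ x z hz hxx

end Cfsg.Agent.Lib.Helper22.OrthR
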