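import Mathlib
import Cfsg.Agent.Lib.Helper22.OrthRC

/-! A model (symmetric Gram matrix of prescribed determinant, together with a diagonalisable
isometry) for an inverse-closed multiset of eigenvalues of odd size. -/

set_option autoImplicit false
open scoped MatrixGroups

namespace Cfsg.Agent.Lib.Helper22.OrthR

open Matrix Module Polynomial

variable {F : Type*} [Field F]

/-- decomposition of an inverse-closed multiset along a half-system `H` -/
theorem multiset_decomp [DecidableEq F] (S : Multiset F) (H : F → Prop) [DecidablePred H]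
    (hinv : S.map (fun a => a⁻¹) = S) (htri : ∀ a ∈ S, a = 1 ∨ H a ∨ H a⁻¹) (hH1 : ¬ H 1)
    (hHH : ∀ a, H a → ¬ H a⁻¹) :
    S = Multiset.replicate (S.count 1) 1 + S.filter H + (S.filter H).map (fun a => a⁻¹) := by
  have hcount : ∀ a : F, S.count a⁻¹ = S.count a := by
    intro a
    have h1 : (S.map (fun a => a⁻¹)).count a⁻¹ = S.count a :=
      Multiset.count_map_eq_count' (fun a : F => a⁻¹) S inv_injective a
    rw [hinv] at h1
    exact h1
  ext a
  rw [Multiset.count_add, Multiset.count_add, Multiset.count_replicate, Multiset.count_filter]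
  have h2 : ((S.filter H).map (fun a => a⁻¹)).count a = (S.filter H).count a⁻¹ := by
    have := Multiset.count_map_eq_count' (fun a : F => a⁻¹) (S.filter H) inv_injective a⁻¹
    rw [inv_inv] at this
    exact this
  rw [h2, Multiset.count_filter]
  by_cases ha1 : a = 1
  · subst ha1
    rw [if_pos rfl, if_neg hH1, inv_one, if_neg hH1, add_zero, add_zero]
  · rw [if_neg (Ne.symm ha1)]
    by_cases hHa : H a
    · rw [if_pos hHa, if_neg (hHH a hHa)]
      simp
    · rw [if_neg hHa]
      by_cases hHa' : H a⁻¹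
      · rw [if_pos hHa', hcount]
        simp
      · rw [if_neg hHa']
        have : a ∉ S := by
          intro hmem
          rcases htri a hmem with h | h | h
          · exact ha1 h
          · exact hHa h
          · exact hHa' h
        rw [Multiset.count_eq_zero_of_notMem this]

/-- the model attached to an inverse-closed multiset of odd size -/
theorem exists_model_of_inv_closed [DecidableEq F] {n : ℕ} (hn : Odd n) (S : Multiset F)
    (hcard : S.card = n) (H : F → Prop) [DecidablePred H] (h0 : ∀ a ∈ S, a ≠ 0)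
    (hinv : S.map (fun a => a⁻¹) = S) (htri : ∀ a ∈ S, a = 1 ∨ H a ∨ H a⁻¹) (hH1 : ¬ H 1)
    (hHH : ∀ a, H a → ¬ H a⁻¹) (Δ : F) :
    ∃ B M : Matrix (Fin n) (Fin n) F, Bᵀ = B ∧ B.det = Δ ∧ Mᵀ * B * M = B ∧
      M.charpoly = (S.map (fun t => (X - C t : F[X]))).prod ∧
      ∀ N : ℕ, (∀ a ∈ S, a ^ N = 1) → M ^ N = 1 := by
  have hdec := multiset_decomp S H hinv htri hH1 hHH
  obtain ⟨l, hl⟩ : ∃ l : List F, (l : Multiset F) = S.filter H := Quotient.exists_rep _
  set d := l.length with hd
  set t : Fin d → F := fun i => l.get i with ht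
  have hT : S.filter H = Multiset.map t (Finset.univ : Finset (Fin d)).val := by
    rw [Fin.univ_val_map, ht, List.ofFn_get, hl]
  have hTcard : (S.filter H).card = d := by
    rw [← hl]
    rfl
  set k := S.count 1 with hk
  have hnk : n = k + d + d := by
    rw [← hcard]
    conv_lhs => rw [hdec]
    rw [Multiset.card_add, Multiset.card_add, Multiset.card_replicate, Multiset.card_map, hTcard]
  have hk1 : 1 ≤ k := by
    obtain ⟨s, hs⟩ := hn
    omega
  have htmem : ∀ i, t i ∈ S := by
    intro i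
    have h1 : t i ∈ S.filter H := by
      rw [hT]
      exact Multiset.mem_map_of_mem t (Finset.mem_univ_val i)
    exact Multiset.mem_of_mem_filter h1
  have ht0 : ∀ i, t i ≠ 0 := fun i => h0 _ (htmem i)
  -- the model on the sum type
  let i₀ : Fin k := ⟨0, by omega⟩
  set J : Matrix (Fin d ⊕ Fin d) (Fin d ⊕ Fin d) F := Matrix.fromBlocks 0 1 1 0 with hJ
  have hJJ : J * J = 1 := by
    rw [hJ, Matrix.fromBlocks_multiply]
    simp [Matrix.fromBlocks_one]
  have hJdet : J.det ≠ 0 := by
    intro h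
    have := congrArg Matrix.det hJJ
    rw [Matrix.det_mul, h, Matrix.det_one, mul_zero] at this
    exact zero_ne_one this
  have hJt : Jᵀ = J := by
    rw [hJ, Matrix.fromBlocks_transpose]
    simp
  set β : Fin k → F := Function.update (fun _ => (1 : F)) i₀ (Δ / J.det) with hβ
  set B₀ : Matrix (Fin k ⊕ (Fin d ⊕ Fin d)) (Fin k ⊕ (Fin d ⊕ Fin d)) F :=
    Matrix.fromBlocks (Matrix.diagonal β) 0 0 J with hB₀
  set m₀ : Fin k ⊕ (Fin d ⊕ Fin d) → F :=
    Sum.elim (fun _ => 1) (Sum.elim t (fun i => (t i)⁻¹)) with hm₀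
  set M₀ : Matrix (Fin k ⊕ (Fin d ⊕ Fin d)) (Fin k ⊕ (Fin d ⊕ Fin d)) F := Matrix.diagonal m₀
    with hM₀
  have hB₀t : B₀ᵀ = B₀ := by
    rw [hB₀, Matrix.fromBlocks_transpose, Matrix.diagonal_transpose, hJt]
    simp
  have hB₀det : B₀.det = Δ := by
    rw [hB₀, Matrix.det_fromBlocks_zero₂₁, Matrix.det_diagonal, hβ,
      Finset.prod_update_of_mem (Finset.mem_univ i₀), Finset.prod_const_one, mul_one,
      div_mul_cancel₀ _ hJdet]
  have hM₀B : M₀ᵀ * B₀ * M₀ = (1 : F) • B₀ := by
    rw [one_smul, hM₀, Matrix.diagonal_transpose]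
    ext i j
    rw [Matrix.mul_diagonal, Matrix.diagonal_mul]
    rcases i with i | i | i <;> rcases j with j | j | j
    · simp [hB₀, hm₀]
    · simp [hB₀, hm₀]
    · simp [hB₀, hm₀]
    · simp [hB₀, hm₀]
    · simp [hB₀, hm₀, hJ]
    · by_cases hij : i = j
      · subst hij
        simp [hB₀, hm₀, hJ, mul_inv_cancel₀ (ht0 i)]
      · simp [hB₀, hm₀, hJ, Matrix.one_apply_ne hij]
    · simp [hB₀, hm₀]
    · by_cases hij : i = j
      · subst hij
        simp [hB₀, hm₀, hJ, inv_mul_cancel₀ (ht0 i)]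
      · simp [hB₀, hm₀, hJ, Matrix.one_apply_ne hij]
    · simp [hB₀, hm₀, hJ]
  have hM₀cp : M₀.charpoly = (S.map (fun t => (X - C t : F[X]))).prod := by
    rw [hM₀, Matrix.charpoly_diagonal, Fintype.prod_sum_type, Fintype.prod_sum_type]
    conv_rhs => rw [hdec]
    rw [Multiset.map_add, Multiset.map_add, Multiset.prod_add, Multiset.prod_add,
      Multiset.map_replicate, Multiset.prod_replicate, Multiset.map_map, hT, Multiset.map_map,
      Multiset.map_map]
    simp only [hm₀, Sum.elim_inl, Sum.elim_inr, Finset.prod_const, Finset.card_univ,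
      Fintype.card_fin, mul_assoc]
    rfl
  have hM₀pow : ∀ N : ℕ, (∀ a ∈ S, a ^ N = 1) → M₀ ^ N = 1 := by
    intro N hN
    rw [hM₀, Matrix.diagonal_pow, ← Matrix.diagonal_one]
    congr 1
    funext i
    rcases i with i | i | i
    · simp [hm₀]
    · simp only [hm₀, Pi.pow_apply, Sum.elim_inr, Sum.elim_inl, Pi.one_apply]
      exact hN _ (htmem i)
    · simp only [hm₀, Pi.pow_apply, Sum.elim_inr, Pi.one_apply, inv_pow]
      rw [hN _ (htmem i), inv_one]
  -- transport to `Fin n`
  have hcardκ : Fintype.card (Fin k ⊕ (Fin d ⊕ Fin d)) = n := by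
    rw [Fintype.card_sum, Fintype.card_sum, Fintype.card_fin, Fintype.card_fin]
    omega
  let e : Fin k ⊕ (Fin d ⊕ Fin d) ≃ Fin n := Fintype.equivFinOfCardEq hcardκ
  refine ⟨Matrix.reindex e e B₀, Matrix.reindex e e M₀, reindex_transpose_eq e B₀ hB₀t, ?_, ?_,
    ?_, ?_⟩
  · rw [Matrix.det_reindex_self, hB₀det]
  · have := reindex_sim e B₀ M₀ 1 hM₀B
    rw [one_smul] at this
    exact this
  · rw [Matrix.charpoly_reindex, hM₀cp]
  · intro N hN
    have h1 : Matrix.reindex e e M₀ = Matrix.reindexAlgEquiv F F e M₀ := rfl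
    rw [h1, ← map_pow, hM₀pow N hN, map_one]

end Cfsg.Agent.Lib.Helper22.OrthR
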