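import Mathlib
import Cfsg.Agent.Lib.Helper9.SubfieldA
import Cfsg.Agent.Lib.Helper15.SemisimpleCount
import Cfsg.Agent.Lib.Helper22.SubfRA
import Cfsg.Agent.Lib.Helper22.SubfRB

/-! Criteria for an element of `SL_n(F)` to be conjugate into the subfield subgroup. -/

set_option autoImplicit false
open scoped MatrixGroups

namespace Cfsg.Agent.Lib.Helper22.SubfR

open Polynomial Matrix Cfsg.Agent.Lib.Helper9.SubfieldA

variable {F : Type*} [Field F] [Fintype F]

/-- a scalar multiple of `x` of order prime to `p` whose characteristic polynomial has coefficients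
in the subfield is conjugate (in `SL_n`) into the subfield subgroup -/
theorem good_of_descent (F₀ : Subfield F) (n : ℕ) (hn : 0 < n)
    (x : Matrix.SpecialLinearGroup (Fin n) F) (u : F) (hu : u ≠ 0) (N : ℕ) (hN : (N : F) ≠ 0)
    (hxN : (u⁻¹ • (x : Matrix (Fin n) (Fin n) F)) ^ N = 1) (f₀ : F₀[X])
    (hf₀ : f₀.map (F₀.subtype : F₀ →+* F) = (u⁻¹ • (x : Matrix (Fin n) (Fin n) F)).charpoly) :
    ∃ P : Matrix.SpecialLinearGroup (Fin n) F, P⁻¹ * x * P ∈ HH F₀ n := by
  classical
  have : Fintype F₀ := Fintype.ofFinite F₀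
  set A : Matrix (Fin n) (Fin n) F := u⁻¹ • (x : Matrix (Fin n) (Fin n) F) with hA
  have hinj : Function.Injective (F₀.subtype : F₀ →+* F) := Subtype.val_injective
  have hN0 : N ≠ 0 := by
    rintro rfl
    exact hN (by simp)
  have hmon : f₀.Monic := by
    apply Polynomial.monic_of_injective hinj
    rw [hf₀]
    exact Matrix.charpoly_monic A
  have hdeg : f₀.natDegree = n := by
    have h1 := Polynomial.natDegree_map (p := f₀) (F₀.subtype : F₀ →+* F)
    rw [hf₀, Matrix.charpoly_natDegree_eq_dim, Fintype.card_fin] at h1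
    exact h1.symm
  have hdetA : A.det ≠ 0 := by
    intro h0
    have h1 := congrArg Matrix.det hxN
    rw [Matrix.det_pow, h0, zero_pow hN0, Matrix.det_one] at h1
    exact zero_ne_one h1
  have hc0 : f₀.coeff 0 ≠ 0 := by
    intro h0
    have h1 : (f₀.map (F₀.subtype : F₀ →+* F)).coeff 0 = 0 := by
      rw [Polynomial.coeff_map, h0, map_zero]
    rw [hf₀] at h1
    have h2 := Matrix.det_eq_sign_charpoly_coeff A
    rw [h1, mul_zero] at h2
    exact hdetA h2
  obtain ⟨M₀, hM₀, N', hN', hM₀N'⟩ :=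
    Cfsg.Agent.Lib.Helper15.SemisimpleCount.exists_matrix_of_charpoly n f₀ hmon hdeg hc0
  set B : Matrix (Fin n) (Fin n) F := M₀.map (F₀.subtype : F₀ →+* F) with hB
  have hBchar : B.charpoly = A.charpoly := by
    rw [hB, ← hf₀, ← hM₀]
    exact Matrix.charpoly_map M₀ (F₀.subtype : F₀ →+* F)
  have hN'F : (N' : F) ≠ 0 := by
    intro h0
    apply hN'
    have : ((N' : F₀) : F) = 0 := by
      rw [← h0]
      simp
    exact_mod_cast this
  have hNN : ((N * N' : ℕ) : F) ≠ 0 := by
    rw [Nat.cast_mul]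
    exact mul_ne_zero hN hN'F
  have hAN : A ^ (N * N') = 1 := by rw [pow_mul, hxN, one_pow]
  have hBN : B ^ (N * N') = 1 := by
    rw [mul_comm, pow_mul]
    have h1 : B ^ N' = 1 := by
      rw [hB, ← Matrix.map_pow, hM₀N']
      ext i j
      simp [Matrix.one_apply, apply_ite]
    rw [h1, one_pow]
  obtain ⟨G, hG⟩ :=
    Cfsg.Agent.Lib.Helper15.SemisimpleCount.matrix_conj n A B (N * N') hNN hAN hBN hBchar.symm
  -- G A = B G ; let g = G⁻¹
  have hGdet : (G : Matrix (Fin n) (Fin n) F).det ≠ 0 :=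
    ((Matrix.isUnit_iff_isUnit_det _).mp G.isUnit).ne_zero
  set g : Matrix (Fin n) (Fin n) F := ((G⁻¹ : GL (Fin n) F) : Matrix (Fin n) (Fin n) F) with hg
  have hgG : g * (G : Matrix (Fin n) (Fin n) F) = 1 := by
    rw [hg, ← Units.val_mul, inv_mul_cancel, Units.val_one]
  have hGg : (G : Matrix (Fin n) (Fin n) F) * g = 1 := by
    rw [hg, ← Units.val_mul, mul_inv_cancel, Units.val_one]
  have hAg : A * g = g * B := by
    calc A * g = (g * (G : Matrix (Fin n) (Fin n) F)) * (A * g) := by rw [hgG, Matrix.one_mul]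
      _ = g * (((G : Matrix (Fin n) (Fin n) F) * A) * g) := by simp only [Matrix.mul_assoc]
      _ = g * ((B * (G : Matrix (Fin n) (Fin n) F)) * g) := by rw [hG]
      _ = g * B := by rw [Matrix.mul_assoc, hGg, Matrix.mul_one]
  have hgdet : g.det ≠ 0 := by
    intro h0
    have := congrArg Matrix.det hgG
    rw [Matrix.det_mul, h0, zero_mul, Matrix.det_one] at this
    exact zero_ne_one this
  -- fix the determinant using the centralizer of A
  obtain ⟨C, hCA, hCdet⟩ := exists_matrix_commute_det n hn A (N * N') hNN hAN (g.det)⁻¹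
  have hxA : (x : Matrix (Fin n) (Fin n) F) = u • A := by
    rw [hA, smul_smul, mul_inv_cancel₀ hu, one_smul]
  refine exists_conj_mem F₀ x (C * g) ?_ M₀ u hu ?_
  · rw [Matrix.det_mul, hCdet, inv_mul_cancel₀ hgdet]
  · rw [hxA, Matrix.smul_mul, Matrix.mul_smul]
    congr 1
    rw [← Matrix.mul_assoc, ← hCA, Matrix.mul_assoc, hAg, Matrix.mul_assoc]

/-- conjugation invariance of the characteristic polynomial, with an explicit two-sided inverse -/
theorem charpoly_conj_of_inv {m : Type*} [Fintype m] [DecidableEq m] {R : Type*} [CommRing R]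
    (Pm Pi Y : Matrix m m R) (h1 : Pm * Pi = 1) (h2 : Pi * Pm = 1) :
    (Pm * Y * Pi).charpoly = Y.charpoly := by
  rw [← Matrix.inv_eq_right_inv h1]
  exact Matrix.charpoly_units_conj (⟨Pm, Pi, h1, h2⟩ : (Matrix m m R)ˣ) Y

/-- if `x` is conjugate into the subfield subgroup then a scalar multiple of `x` is conjugate
to a matrix over the subfield -/
theorem exists_of_good (F₀ : Subfield F) (n : ℕ) (x P : Matrix.SpecialLinearGroup (Fin n) F)
    (h : P⁻¹ * x * P ∈ HH F₀ n) :
    ∃ (y₀ : Matrix (Fin n) (Fin n) F₀) (c : F), c ≠ 0 ∧ y₀.det ≠ 0 ∧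
      (c⁻¹ • (x : Matrix (Fin n) (Fin n) F)).charpoly =
        (y₀.charpoly).map (F₀.subtype : F₀ →+* F) ∧
      ∀ k : ℕ, (c⁻¹ • (x : Matrix (Fin n) (Fin n) F)) ^ k = 1 → y₀ ^ k = 1 := by
  classical
  obtain ⟨y₀, c, hc, hy₀, hx⟩ := exists_of_conj_mem F₀ x P h
  refine ⟨y₀, c, hc, hy₀, ?_, ?_⟩
  · set Pm : Matrix (Fin n) (Fin n) F := (P : Matrix (Fin n) (Fin n) F) with hPm
    set Pi : Matrix (Fin n) (Fin n) F :=
      ((P⁻¹ : Matrix.SpecialLinearGroup (Fin n) F) : Matrix (Fin n) (Fin n) F) with hPi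
    have h1 : Pm * Pi = 1 := by
      rw [hPm, hPi, ← Matrix.SpecialLinearGroup.coe_mul, mul_inv_cancel,
        Matrix.SpecialLinearGroup.coe_one]
    have h2 : Pi * Pm = 1 := by
      rw [hPm, hPi, ← Matrix.SpecialLinearGroup.coe_mul, inv_mul_cancel,
        Matrix.SpecialLinearGroup.coe_one]
    have hconj : c⁻¹ • (x : Matrix (Fin n) (Fin n) F) =
        Pm * (y₀.map (F₀.subtype : F₀ →+* F)) * Pi := by
      have h3 : (x : Matrix (Fin n) (Fin n) F) = Pm * (c • y₀.map (F₀.subtype : F₀ →+* F)) * Pi := by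
        rw [← hx, Matrix.mul_assoc, h1, Matrix.mul_one]
      rw [h3, Matrix.mul_smul, Matrix.smul_mul, smul_smul, inv_mul_cancel₀ hc, one_smul]
    rw [hconj, ← Matrix.charpoly_map]
    exact charpoly_conj_of_inv Pm Pi _ h1 h2
  · intro k hk
    set Pm : Matrix (Fin n) (Fin n) F := (P : Matrix (Fin n) (Fin n) F) with hPm
    set Pi : Matrix (Fin n) (Fin n) F :=
      ((P⁻¹ : Matrix.SpecialLinearGroup (Fin n) F) : Matrix (Fin n) (Fin n) F) with hPi
    have h1 : Pm * Pi = 1 := by
      rw [hPm, hPi, ← Matrix.SpecialLinearGroup.coe_mul, mul_inv_cancel,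
        Matrix.SpecialLinearGroup.coe_one]
    have h2 : Pi * Pm = 1 := by
      rw [hPm, hPi, ← Matrix.SpecialLinearGroup.coe_mul, inv_mul_cancel,
        Matrix.SpecialLinearGroup.coe_one]
    set Y : Matrix (Fin n) (Fin n) F := y₀.map (F₀.subtype : F₀ →+* F) with hY
    have hY' : Y = Pi * (c⁻¹ • (x : Matrix (Fin n) (Fin n) F)) * Pm := by
      rw [Matrix.mul_smul, Matrix.smul_mul, Matrix.mul_assoc, hx, ← Matrix.mul_assoc, h2,
        Matrix.one_mul, smul_smul, inv_mul_cancel₀ hc, one_smul]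
    have hpow : ∀ k : ℕ, Y ^ k = Pi * (c⁻¹ • (x : Matrix (Fin n) (Fin n) F)) ^ k * Pm := by
      intro k
      induction k with
      | zero => rw [pow_zero, pow_zero, Matrix.mul_one, h2]
      | succ k ih =>
        rw [pow_succ, ih, hY', pow_succ]
        calc Pi * (c⁻¹ • (x : Matrix (Fin n) (Fin n) F)) ^ k * Pm *
              (Pi * (c⁻¹ • (x : Matrix (Fin n) (Fin n) F)) * Pm)
            = Pi * (c⁻¹ • (x : Matrix (Fin n) (Fin n) F)) ^ k * (Pm * Pi) *
              (c⁻¹ • (x : Matrix (Fin n) (Fin n) F)) * Pm := by simp only [Matrix.mul_assoc]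
          _ = _ := by rw [h1, Matrix.mul_one]; simp only [Matrix.mul_assoc]
    have hYk : Y ^ k = 1 := by rw [hpow, hk, Matrix.mul_one, h2]
    have hmap : (y₀ ^ k).map (F₀.subtype : F₀ →+* F) = (1 : Matrix (Fin n) (Fin n) F₀).map
        (F₀.subtype : F₀ →+* F) := by
      rw [Matrix.map_pow, ← hY, hYk]
      ext i j
      simp [Matrix.one_apply, apply_ite]
    ext i j
    have := congrFun (congrFun hmap i) j
    simp only [Matrix.map_apply] at this
    exact this

end Cfsg.Agent.Lib.Helper22.SubfR
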