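import Mathlib
import Cfsg.Agent.Lib.Helper12.ElusB
import Cfsg.Agent.Lib.Helper22.SubfRC

/-! The case `r = k`: every element of order `r` modulo scalars descends to the subfield. -/

set_option autoImplicit false
open scoped MatrixGroups

namespace Cfsg.Agent.Lib.Helper22.SubfR

open Polynomial Matrix Cfsg.Agent.Lib.Helper9.SubfieldA

variable {F : Type*} [Field F] [Fintype F]

/-- in a finite field with `r ∤ q - 1` every element is an `r`-th power -/
theorem exists_root_of_not_dvd (r : ℕ) (hrp : r.Prime) (hr : ¬ r ∣ Fintype.card F - 1) (z : F) :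
    ∃ w : F, w ^ r = z := by
  classical
  by_cases hz : z = 0
  · exact ⟨0, by rw [hz, zero_pow hrp.ne_zero]⟩
  · have hcard : Fintype.card Fˣ = Fintype.card F - 1 := Fintype.card_units F
    have hcop : (Nat.card Fˣ).Coprime r := by
      rw [Nat.card_eq_fintype_card, hcard, Nat.coprime_comm]
      exact (Nat.Prime.coprime_iff_not_dvd hrp).2 hr
    obtain ⟨w, hw⟩ := (powCoprime hcop).surjective (Units.mk0 z hz)
    refine ⟨(w : F), ?_⟩
    have := congrArg (Units.val) hw
    simpa using this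

/-- if `z ^ m = 1` and `z` is not an `r`-th power then `v_r(q-1) ≤ v_r(m)` -/
theorem padic_le_of_not_pow (r : ℕ) (hrp : r.Prime) (z : F) (hzr : ∀ d : F, d ^ r ≠ z) (m : ℕ)
    (hm : m ≠ 0) (hzm : z ^ m = 1) :
    padicValNat r (Fintype.card F - 1) ≤ padicValNat r m := by
  classical
  have : Fact r.Prime := ⟨hrp⟩
  have hz0 : z ≠ 0 := by
    rintro rfl
    exact hzr 0 (zero_pow hrp.ne_zero)
  obtain ⟨g, hg⟩ := IsCyclic.exists_generator (α := Fˣ)
  obtain ⟨t, ht⟩ : ∃ t : ℕ, g ^ t = Units.mk0 z hz0 := by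
    have := hg (Units.mk0 z hz0)
    rw [Subgroup.mem_zpowers_iff] at this
    obtain ⟨k, hk⟩ := this
    refine ⟨(k % (orderOf g : ℤ)).toNat, ?_⟩
    rw [← zpow_natCast, Int.toNat_of_nonneg (Int.emod_nonneg _ (by
      have := orderOf_pos g
      omega)), zpow_mod_orderOf, hk]
  have hord : orderOf g = Fintype.card F - 1 := by
    rw [orderOf_eq_card_of_forall_mem_zpowers hg, Nat.card_eq_fintype_card, Fintype.card_units]
  have hrt : ¬ r ∣ t := by
    rintro ⟨s, rfl⟩
    apply hzr ((g ^ s : Fˣ) : F)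
    have := congrArg Units.val ht
    rw [mul_comm, pow_mul] at this
    simpa using this
  have hdvd : (Fintype.card F - 1) ∣ t * m := by
    rw [← hord, orderOf_dvd_iff_pow_eq_one, pow_mul, ht]
    apply Units.ext
    simpa using hzm
  have ht0 : t ≠ 0 := by
    rintro rfl
    exact hrt (dvd_zero r)
  have hq0 : Fintype.card F - 1 ≠ 0 := by
    have : 1 < Fintype.card F := Fintype.one_lt_card
    omega
  have h1 : padicValNat r (Fintype.card F - 1) ≤ padicValNat r (t * m) := by
    rw [← padicValNat_dvd_iff_le (mul_ne_zero ht0 hm)]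
    exact dvd_trans pow_padicValNat_dvd hdvd
  rw [padicValNat.mul ht0 hm, padicValNat.eq_zero_of_not_dvd hrt, zero_add] at h1
  exact h1

/-- existence of `r`-th roots of the scalar `x ^ r`, when `v_r(n) ≤ v_r(q-1)` -/
theorem exists_root_scalar (r : ℕ) (hrp : r.Prime) (hr2 : r ≠ 2) (n : ℕ) (hn : 0 < n)
    (hgap : r ∣ Fintype.card F - 1 → padicValNat r n ≤ padicValNat r (Fintype.card F - 1))
    (x : Matrix (Fin n) (Fin n) F) (hdet : x.det = 1) (z : F) (hx : x ^ r = z • 1) :
    ∃ w : F, w ^ r = z := by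
  classical
  have : Fact r.Prime := ⟨hrp⟩
  by_cases hdvd : r ∣ Fintype.card F - 1
  · by_contra hno
    push Not at hno
    set f : (Fin n → F) →ₗ[F] (Fin n → F) := Matrix.toLin' x with hf
    have hfr : f ^ r = z • 1 := by
      rw [hf, ← Matrix.toLin'_pow, hx]
      ext v i
      simp [Matrix.toLin'_apply, Matrix.smul_mulVec]
    have h1 : r ∣ Module.finrank F (Fin n → F) := by
      have := Cfsg.Agent.Lib.Helper12.Elus.t2_dvd_finrank f r hrp z hfr hno ⊤ (fun v _ => trivial)
      rwa [finrank_top] at this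
    have h2 := Cfsg.Agent.Lib.Helper12.Elus.t2_det f r hrp z hfr hno
    rw [Module.finrank_fin_fun] at h1 h2
    have hodd : Odd r := hrp.odd_of_ne_two hr2
    have heven : Even (r + 1) := by
      obtain ⟨k, hk⟩ := hodd
      exact ⟨k + 1, by omega⟩
    rw [heven.neg_one_pow, one_mul, hf, LinearMap.det_toLin', hdet] at h2
    obtain ⟨m, hm⟩ := h1
    have hm0 : m ≠ 0 := by
      rintro rfl
      omega
    have hnm : n / r = m := by
      rw [hm, Nat.mul_div_cancel_left _ hrp.pos]
    rw [hnm] at h2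
    have h3 := padic_le_of_not_pow r hrp z hno m hm0 h2.symm
    have h4 := hgap hdvd
    rw [hm, padicValNat.mul hrp.ne_zero hm0, padicValNat_self] at h4
    omega
  · exact exists_root_of_not_dvd r hrp hdvd z

/-- the case `r = k` of the subfield statement: all elements of order `r` modulo scalars are
conjugate into the subfield subgroup -/
theorem good_of_eq (p : ℕ) [Fact p.Prime] [CharP F p] (F₀ : Subfield F) (q₀ e r : ℕ)
    (hF₀ : Nat.card F₀ = q₀) (hq₀ : q₀ = p ^ e) (hrp : r.Prime) (hr2 : r ≠ 2) (hrne : r ≠ p)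
    (hq : Fintype.card F = q₀ ^ r) (n : ℕ) (hn : 0 < n)
    (hgap : r ∣ q₀ - 1 → padicValNat r n ≤ padicValNat r (Fintype.card F - 1))
    (x : Matrix.SpecialLinearGroup (Fin n) F) (z : F)
    (hx : (x : Matrix (Fin n) (Fin n) F) ^ r = z • 1) :
    ∃ P : Matrix.SpecialLinearGroup (Fin n) F, P⁻¹ * x * P ∈ HH F₀ n := by
  classical
  have : Fact r.Prime := ⟨hrp⟩
  have hp : p.Prime := Fact.out
  have hq₀pos : 0 < q₀ := by rw [hq₀]; exact pow_pos hp.pos e
  -- q ≡ q₀ mod r
  have hmod : (Fintype.card F : ZMod r) = (q₀ : ZMod r) := by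
    rw [hq, Nat.cast_pow, ZMod.pow_card]
  have hle : q₀ ≤ Fintype.card F := by
    rw [hq]
    exact Nat.le_self_pow hrp.ne_zero q₀
  have hdvdsub : r ∣ Fintype.card F - q₀ := by
    rw [← ZMod.natCast_eq_zero_iff, Nat.cast_sub hle, hmod, sub_self]
  have hiff : r ∣ Fintype.card F - 1 → r ∣ q₀ - 1 := by
    intro h
    have h1 : ((Fintype.card F - 1 : ℕ) : ZMod r) = 0 := (ZMod.natCast_eq_zero_iff _ _).2 h
    have hone : 1 ≤ Fintype.card F := Fintype.card_pos
    rw [Nat.cast_sub hone, hmod, Nat.cast_one] at h1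
    rw [← ZMod.natCast_eq_zero_iff, Nat.cast_sub hq₀pos, Nat.cast_one]
    exact h1
  obtain ⟨w, hw⟩ := exists_root_scalar r hrp hr2 n hn (fun h => hgap (hiff h))
    (x : Matrix (Fin n) (Fin n) F) x.2 z hx
  have hz0 : z ≠ 0 := by
    rintro rfl
    have h1 := congrArg Matrix.det hx
    have hne : Nonempty (Fin n) := ⟨⟨0, hn⟩⟩
    rw [Matrix.det_pow, x.2, one_pow, zero_smul, Matrix.det_zero] at h1
    exact one_ne_zero h1
  have hw0 : w ≠ 0 := by
    rintro rfl
    rw [zero_pow hrp.ne_zero] at hw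
    exact hz0 hw.symm
  set y : Matrix (Fin n) (Fin n) F := w⁻¹ • (x : Matrix (Fin n) (Fin n) F) with hy
  have hyr : y ^ r = 1 := by
    rw [hy, _root_.smul_pow, hx, smul_smul, inv_pow, hw, inv_mul_cancel₀ hz0, one_smul]
  have hrF : (r : F) ≠ 0 := by
    intro h0
    rw [CharP.cast_eq_zero_iff F p] at h0
    exact hrne ((Nat.prime_dvd_prime_iff_eq hp hrp).1 h0).symm
  -- y ^ q₀ = y ^ q
  obtain ⟨m, hm⟩ := hdvdsub
  have hqq : Fintype.card F = q₀ + r * m := by omega
  have hpow : y ^ (Fintype.card F) = y ^ q₀ := by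
    rw [hqq, pow_add, pow_mul, hyr, one_pow, mul_one]
  have hchar : (y ^ q₀).charpoly = y.charpoly := by
    rw [← hpow]
    exact FiniteField.Matrix.charpoly_pow_card y
  obtain ⟨f₀, hf₀⟩ := exists_charpoly_descent p F₀ q₀ e hF₀ hq₀ y hchar
  exact good_of_descent F₀ n hn x w hw0 r hrF hyr f₀ hf₀

end Cfsg.Agent.Lib.Helper22.SubfR
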