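import Mathlib

/-! Multisets of residues modulo 3 and 5 with sum zero and full size are symmetric about a point. -/

set_option autoImplicit false

namespace Cfsg.Agent.Lib.Helper22.SubfR

/-- symmetric multiplicities -/
def Sym (r : ℕ) : Prop :=
  ∀ m : Fin r → ℕ, (∑ t, m t) = r → r ∣ (∑ t : Fin r, t.val * m t) →
    ∃ c : Fin r, ∀ t, m (c - t) = m t

theorem bf3 : ∀ m0 m1 m2 : Fin 4, m0.val + m1.val + m2.val = 3 →
    (m1.val + 2 * m2.val) % 3 = 0 →
    (m1 = m2) ∨ (m0 = m1) ∨ (m0 = m2) := by decide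

set_option maxRecDepth 1000000 in
set_option synthInstance.maxSize 10000 in
set_option synthInstance.maxHeartbeats 1000000 in
theorem bf5 : ∀ m0 m1 m2 m3 m4 : Fin 6, m0.val + m1.val + m2.val + m3.val + m4.val = 5 →
    (m1.val + 2 * m2.val + 3 * m3.val + 4 * m4.val) % 5 = 0 →
    (m1 = m4 ∧ m2 = m3) ∨ (m0 = m1 ∧ m2 = m4) ∨ (m0 = m2 ∧ m3 = m4) ∨ (m0 = m3 ∧ m1 = m2) ∨
      (m0 = m4 ∧ m1 = m3) := by decide

theorem sym3 : Sym 3 := by
  intro m hs hd
  rw [Fin.sum_univ_three] at hs hd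
  have h0 : m 0 < 4 := by omega
  have h1 : m 1 < 4 := by omega
  have h2 : m 2 < 4 := by omega
  have hd' : (m 1 + 2 * m 2) % 3 = 0 := by
    have : ((0 : Fin 3) : ℕ) * m 0 + ((1 : Fin 3) : ℕ) * m 1 + ((2 : Fin 3) : ℕ) * m 2 =
        m 1 + 2 * m 2 := by
      simp
    rw [this] at hd
    exact Nat.mod_eq_zero_of_dvd hd
  have := bf3 ⟨m 0, h0⟩ ⟨m 1, h1⟩ ⟨m 2, h2⟩ hs hd'
  simp only [Fin.mk.injEq] at this
  rcases this with h | h | h
  · refine ⟨0, fun t => ?_⟩
    fin_cases t <;> first | rfl | exact h | exact h.symm | exact h.1 | exact h.1.symm | exact h.2 | exact h.2.symm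
  · refine ⟨1, fun t => ?_⟩
    fin_cases t <;> first | rfl | exact h | exact h.symm | exact h.1 | exact h.1.symm | exact h.2 | exact h.2.symm
  · refine ⟨2, fun t => ?_⟩
    fin_cases t <;> first | rfl | exact h | exact h.symm | exact h.1 | exact h.1.symm | exact h.2 | exact h.2.symm

theorem sym5 : Sym 5 := by
  intro m hs hd
  rw [Fin.sum_univ_five] at hs hd
  have h0 : m 0 < 6 := by omega
  have h1 : m 1 < 6 := by omega
  have h2 : m 2 < 6 := by omega
  have h3 : m 3 < 6 := by omega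
  have h4 : m 4 < 6 := by omega
  have hd' : (m 1 + 2 * m 2 + 3 * m 3 + 4 * m 4) % 5 = 0 := by
    have : ((0 : Fin 5) : ℕ) * m 0 + ((1 : Fin 5) : ℕ) * m 1 + ((2 : Fin 5) : ℕ) * m 2 +
        ((3 : Fin 5) : ℕ) * m 3 + ((4 : Fin 5) : ℕ) * m 4 =
        m 1 + 2 * m 2 + 3 * m 3 + 4 * m 4 := by
      simp
    rw [this] at hd
    exact Nat.mod_eq_zero_of_dvd hd
  have := bf5 ⟨m 0, h0⟩ ⟨m 1, h1⟩ ⟨m 2, h2⟩ ⟨m 3, h3⟩ ⟨m 4, h4⟩ hs hd'
  simp only [Fin.mk.injEq] at this
  rcases this with h | h | h | h | h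
  · refine ⟨0, fun t => ?_⟩
    fin_cases t <;> first | rfl | exact h | exact h.symm | exact h.1 | exact h.1.symm | exact h.2 | exact h.2.symm
  · refine ⟨1, fun t => ?_⟩
    fin_cases t <;> first | rfl | exact h | exact h.symm | exact h.1 | exact h.1.symm | exact h.2 | exact h.2.symm
  · refine ⟨2, fun t => ?_⟩
    fin_cases t <;> first | rfl | exact h | exact h.symm | exact h.1 | exact h.1.symm | exact h.2 | exact h.2.symm
  · refine ⟨3, fun t => ?_⟩
    fin_cases t <;> first | rfl | exact h | exact h.symm | exact h.1 | exact h.1.symm | exact h.2 | exact h.2.symm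
  · refine ⟨4, fun t => ?_⟩
    fin_cases t <;> first | rfl | exact h | exact h.symm | exact h.1 | exact h.1.symm | exact h.2 | exact h.2.symm

end Cfsg.Agent.Lib.Helper22.SubfR
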