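import Mathlib
import Cfsg.Agent.Lib.Helper22.SubfRG

/-! From symmetric multiplicities to an equality of multisets of eigenvalues. -/

set_option autoImplicit false

namespace Cfsg.Agent.Lib.Helper22.SubfR

variable {F : Type*} [Field F]

/-- powers of an `r`-th root of unity depend on the exponent modulo `r` -/
theorem pow_mod_of_pow_eq_one (lam : F) (r : ℕ) (hlam : lam ^ r = 1) (a : ℕ) :
    lam ^ (a % r) = lam ^ a := by
  conv_rhs => rw [← Nat.mod_add_div a r, pow_add, pow_mul, hlam, one_pow, mul_one]

/-- the symmetric multiset of eigenvalues -/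
theorem exists_symm_multiset (r : ℕ) [NeZero r] (hSym : Sym r) (lam : F) (hlam : lam ^ r = 1)
    (a : Fin r → ℕ) (hsum : r ∣ ∑ j, a j) :
    ∃ c : ℕ, Multiset.map (fun j => lam ^ c * (lam ^ (a j))⁻¹) (Finset.univ : Finset (Fin r)).val =
      Multiset.map (fun j => lam ^ (a j)) (Finset.univ : Finset (Fin r)).val := by
  classical
  have hr : 0 < r := Nat.pos_of_ne_zero (NeZero.ne r)
  have hlam0 : lam ≠ 0 := by
    rintro rfl
    rw [zero_pow hr.ne'] at hlam
    exact zero_ne_one hlam
  set ā : Fin r → Fin r := fun j => ⟨a j % r, Nat.mod_lt _ hr⟩ with hā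
  set S : Multiset (Fin r) := Multiset.map ā (Finset.univ : Finset (Fin r)).val with hS
  set m : Fin r → ℕ := fun t => S.count t with hm
  have hcard : Multiset.card S = r := by
    rw [hS, Multiset.card_map]
    simp
  have h1 : ∑ t, m t = r := by
    have := Multiset.sum_count_eq_card (s := (Finset.univ : Finset (Fin r))) (m := S)
      (fun a _ => Finset.mem_univ a)
    rw [hcard] at this
    exact this
  have h2 : ∑ t : Fin r, t.val * m t = ∑ j, (ā j).val := by
    have h3 : (S.map (fun t : Fin r => t.val)).sum = ∑ t ∈ S.toFinset, S.count t • t.val :=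
      Finset.sum_multiset_map_count S _
    have h4 : (S.map (fun t : Fin r => t.val)).sum = ∑ j, (ā j).val := by
      rw [hS, Multiset.map_map]
      rfl
    rw [← h4, h3]
    symm
    have h9 : ∑ t ∈ S.toFinset, S.count t • t.val = ∑ t ∈ S.toFinset, t.val * m t := by
      apply Finset.sum_congr rfl
      intro t _
      rw [smul_eq_mul, mul_comm]
    rw [h9]
    apply Finset.sum_subset (Finset.subset_univ _)
    intro t _ ht
    rw [Multiset.mem_toFinset] at ht
    simp only [hm]
    rw [Multiset.count_eq_zero_of_notMem ht, mul_zero]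
  have h5 : r ∣ ∑ t : Fin r, t.val * m t := by
    rw [h2, Nat.dvd_iff_mod_eq_zero]
    have : (∑ j, (ā j).val) % r = (∑ j, a j) % r := by
      rw [Finset.sum_nat_mod]
      conv_rhs => rw [Finset.sum_nat_mod]
      congr 1
      apply Finset.sum_congr rfl
      intro j _
      simp [hā]
    rw [this]
    exact Nat.mod_eq_zero_of_dvd hsum
  obtain ⟨c, hc⟩ := hSym m h1 h5
  -- the multiset S is symmetric
  have hSsym : S.map (fun t => c - t) = S := by
    ext t
    have hinj : Function.Injective (fun t : Fin r => c - t) := by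
      intro x y hxy
      simpa using hxy
    have h6 := Multiset.count_map_eq_count' (fun t : Fin r => c - t) S hinj (c - t)
    simp only [sub_sub_cancel] at h6
    rw [h6]
    exact hc t
  set ℓ : Fin r → F := fun t => lam ^ t.val with hℓ
  have hℓa : ∀ j, lam ^ (a j) = ℓ (ā j) := by
    intro j
    simp only [hℓ, hā]
    exact (pow_mod_of_pow_eq_one lam r hlam _).symm
  have hℓc : ∀ t : Fin r, lam ^ c.val * (ℓ t)⁻¹ = ℓ (c - t) := by
    intro t
    simp only [hℓ]
    rw [Fin.coe_sub, pow_mod_of_pow_eq_one lam r hlam, pow_add, mul_comm]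
    congr 1
    have htr : t.val ≤ r := t.2.le
    have : lam ^ (r - t.val) * lam ^ t.val = 1 := by
      rw [← pow_add, Nat.sub_add_cancel htr, hlam]
    exact eq_inv_of_mul_eq_one_left this |>.symm
  refine ⟨c.val, ?_⟩
  have h7 : Multiset.map (fun j => lam ^ c.val * (lam ^ (a j))⁻¹) (Finset.univ : Finset (Fin r)).val =
      (S.map (fun t => c - t)).map ℓ := by
    rw [hS, Multiset.map_map, Multiset.map_map]
    apply Multiset.map_congr rfl
    intro j _
    simp only [Function.comp_apply]
    rw [hℓa, hℓc]
  have h8 : Multiset.map (fun j => lam ^ (a j)) (Finset.univ : Finset (Fin r)).val = S.map ℓ := by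
    rw [hS, Multiset.map_map]
    apply Multiset.map_congr rfl
    intro j _
    simp only [Function.comp_apply]
    rw [hℓa]
  rw [h7, h8, hSsym]

end Cfsg.Agent.Lib.Helper22.SubfR
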