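import Mathlib
import Cfsg.Agent.Lib.Helper22.SubfRD
import Cfsg.Agent.Lib.Helper22.SubfRF
import Cfsg.Agent.Lib.Helper22.SubfRH

/-! The case `k = 2`, `n = r ∈ {3, 5}`, `(q₀ + 1)_r = r`. -/

set_option autoImplicit false
open scoped MatrixGroups

namespace Cfsg.Agent.Lib.Helper22.SubfR

open Polynomial Matrix Cfsg.Agent.Lib.Helper9.SubfieldA

variable {F : Type*} [Field F] [Fintype F]

/-- if `q - 1 = A * B` and `v ^ B = 1` then `v` is an `A`-th power -/
theorem exists_pow_eq_of_pow_eq_one (A B : ℕ) (hAB : Fintype.card F - 1 = A * B) (v : F)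
    (hv : v ^ B = 1) (hB : B ≠ 0) : ∃ u : F, u ≠ 0 ∧ u ^ A = v := by
  classical
  have hv0 : v ≠ 0 := by
    rintro rfl
    rw [zero_pow hB] at hv
    exact zero_ne_one hv
  obtain ⟨g, hg⟩ := IsCyclic.exists_generator (α := Fˣ)
  obtain ⟨t, ht⟩ : ∃ t : ℕ, g ^ t = Units.mk0 v hv0 := by
    have := hg (Units.mk0 v hv0)
    rw [Subgroup.mem_zpowers_iff] at this
    obtain ⟨k, hk⟩ := this
    refine ⟨(k % (orderOf g : ℤ)).toNat, ?_⟩
    rw [← zpow_natCast, Int.toNat_of_nonneg (Int.emod_nonneg _ (by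
      have := orderOf_pos g
      omega)), zpow_mod_orderOf, hk]
  have hord : orderOf g = Fintype.card F - 1 := by
    rw [orderOf_eq_card_of_forall_mem_zpowers hg, Nat.card_eq_fintype_card, Fintype.card_units]
  have hdvd : A * B ∣ t * B := by
    rw [← hAB, ← hord, orderOf_dvd_iff_pow_eq_one, pow_mul, ht]
    apply Units.ext
    simpa using hv
  have hAt : A ∣ t := Nat.dvd_of_mul_dvd_mul_right (Nat.pos_of_ne_zero hB) hdvd
  obtain ⟨s, rfl⟩ := hAt
  refine ⟨((g ^ s : Fˣ) : F), Units.ne_zero _, ?_⟩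
  have := congrArg Units.val ht
  rw [mul_comm, pow_mul] at this
  simpa using this

/-- conjugation and powers -/
theorem conj_pow_eq {m : Type*} [Fintype m] [DecidableEq m] (G y D : Matrix m m F)
    (h : G * y = D * G) (k : ℕ) : G * y ^ k = D ^ k * G := by
  induction k with
  | zero => simp
  | succ k ih =>
    rw [pow_succ, ← Matrix.mul_assoc, ih, Matrix.mul_assoc, h, ← Matrix.mul_assoc, ← pow_succ]

/-- charpoly under `G y = D G` with `G` invertible -/
theorem charpoly_eq_of_conj {m : ℕ} (G : GL (Fin m) F) (y D : Matrix (Fin m) (Fin m) F)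
    (h : (G : Matrix (Fin m) (Fin m) F) * y = D * (G : Matrix (Fin m) (Fin m) F)) :
    y.charpoly = D.charpoly := by
  set Gi : Matrix (Fin m) (Fin m) F := ((G⁻¹ : GL (Fin m) F) : Matrix (Fin m) (Fin m) F) with hGi
  have h1 : (G : Matrix (Fin m) (Fin m) F) * Gi = 1 := by
    rw [hGi, ← Units.val_mul, mul_inv_cancel, Units.val_one]
  have h2 : Gi * (G : Matrix (Fin m) (Fin m) F) = 1 := by
    rw [hGi, ← Units.val_mul, inv_mul_cancel, Units.val_one]
  have h3 : D = (G : Matrix (Fin m) (Fin m) F) * y * Gi := by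
    rw [h, Matrix.mul_assoc, h1, Matrix.mul_one]
  rw [h3]
  exact (charpoly_conj_of_inv _ _ y h1 h2).symm

theorem good_of_two (p : ℕ) [Fact p.Prime] [CharP F p] (F₀ : Subfield F) (q₀ e r : ℕ)
    (hF₀ : Nat.card F₀ = q₀) (hq₀ : q₀ = p ^ e) (hrp : r.Prime) (hr2 : r ≠ 2) (hrne : r ≠ p)
    [NeZero r] (hSym : Sym r) (hq : Fintype.card F = q₀ ^ 2) (hv : padicValNat r (q₀ + 1) = 1)
    (x : Matrix.SpecialLinearGroup (Fin r) F) (z : F)
    (hx : (x : Matrix (Fin r) (Fin r) F) ^ r = z • 1) :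
    ∃ P : Matrix.SpecialLinearGroup (Fin r) F, P⁻¹ * x * P ∈ HH F₀ r := by
  classical
  have : Fact r.Prime := ⟨hrp⟩
  have hp : p.Prime := Fact.out
  have : Fintype F₀ := Fintype.ofFinite F₀
  have hcard₀ : Fintype.card F₀ = q₀ := by rw [← Nat.card_eq_fintype_card, hF₀]
  have hq₀1 : 1 < q₀ := by
    rw [← hcard₀]
    exact Fintype.one_lt_card
  have hrdvd : r ∣ q₀ + 1 := dvd_of_one_le_padicValNat (by omega)
  have hrndvd : ¬ r ∣ q₀ - 1 := by
    intro h
    have h2 : r ∣ (q₀ + 1) - (q₀ - 1) := Nat.dvd_sub hrdvd h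
    have h3 : (q₀ + 1) - (q₀ - 1) = 2 := by omega
    rw [h3] at h2
    have := Nat.le_of_dvd (by norm_num) h2
    have := hrp.two_le
    omega
  have hfac : Fintype.card F - 1 = (q₀ - 1) * (q₀ + 1) := by
    rw [hq]
    obtain ⟨t, rfl⟩ : ∃ t, q₀ = t + 1 := ⟨q₀ - 1, by omega⟩
    simp only [Nat.add_sub_cancel]
    have : (t + 1) ^ 2 = t * (t + 1 + 1) + 1 := by ring
    rw [this, Nat.add_sub_cancel]
  have hval : padicValNat r (Fintype.card F - 1) = 1 := by
    rw [hfac, padicValNat.mul (by omega) (by omega), padicValNat.eq_zero_of_not_dvd hrndvd, hv]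
  have hrq : r ∣ Fintype.card F - 1 := by
    rw [hfac]
    exact Dvd.dvd.mul_left hrdvd _
  -- a primitive r-th root of unity
  obtain ⟨g, hg⟩ := exists_prime_orderOf_dvd_card r (G := Fˣ) (by
    rw [Fintype.card_units]; exact hrq)
  set lam : F := (g : F) with hlamdef
  have hlam : IsPrimitiveRoot lam r := by
    rw [hlamdef, IsPrimitiveRoot.coe_units_iff, ← hg]
    exact IsPrimitiveRoot.orderOf g
  -- z = 1
  obtain ⟨w, hw⟩ := exists_root_scalar r hrp hr2 r hrp.pos (fun _ => by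
    rw [padicValNat_self, hval]) (x : Matrix (Fin r) (Fin r) F) x.2 z hx
  have hzr : z ^ r = 1 := by
    have h1 := congrArg Matrix.det hx
    rw [Matrix.det_pow, x.2, one_pow, Matrix.det_smul, Matrix.det_one, mul_one,
      Fintype.card_fin] at h1
    exact h1.symm
  have hw0 : w ≠ 0 := by
    rintro rfl
    rw [zero_pow hrp.ne_zero] at hw
    rw [← hw, zero_pow hrp.ne_zero] at hzr
    exact zero_ne_one hzr
  have hz1 : z = 1 := by
    set wu : Fˣ := Units.mk0 w hw0 with hwu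
    have h1 : wu ^ (r ^ 2) = 1 := by
      apply Units.ext
      rw [Units.val_pow_eq_pow_val, Units.val_one, hwu, Units.val_mk0, pow_two, pow_mul, hw, hzr]
    have h2 : orderOf wu ∣ r ^ 2 := orderOf_dvd_of_pow_eq_one h1
    obtain ⟨j, hj, hoj⟩ := (Nat.dvd_prime_pow hrp).1 h2
    have h3 : orderOf wu ∣ Fintype.card F - 1 := by
      rw [← Fintype.card_units]
      exact orderOf_dvd_card
    have hj1 : j ≤ 1 := by
      by_contra hj2
      have hj2' : j = 2 := by omega
      rw [hoj, hj2'] at h3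
      have h4 : 2 ≤ padicValNat r (Fintype.card F - 1) := by
        rw [← padicValNat_dvd_iff_le]
        · exact h3
        · rw [hfac]
          exact Nat.mul_ne_zero (by omega) (by omega)
      omega
    have h5 : orderOf wu ∣ r := by
      rw [hoj]
      calc r ^ j ∣ r ^ 1 := pow_dvd_pow r hj1
        _ = r := pow_one r
    have h6 : wu ^ r = 1 := orderOf_dvd_iff_pow_eq_one.1 h5
    have h7 := congrArg Units.val h6
    rw [Units.val_pow_eq_pow_val, Units.val_one, hwu, Units.val_mk0, hw] at h7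
    exact h7
  have hxr : (x : Matrix (Fin r) (Fin r) F) ^ r = 1 := by rw [hx, hz1, one_smul]
  -- diagonal form
  obtain ⟨a, G, hG⟩ := exists_diag_conj r r hrp.pos lam hlam (x : Matrix (Fin r) (Fin r) F) hxr
  have hGdet : (G : Matrix (Fin r) (Fin r) F).det ≠ 0 :=
    ((Matrix.isUnit_iff_isUnit_det _).mp G.isUnit).ne_zero
  have hsum : r ∣ ∑ j, a j := by
    have h1 := congrArg Matrix.det hG
    rw [Matrix.det_mul, Matrix.det_mul, x.2, mul_one, Matrix.det_diagonal,
      Finset.prod_pow_eq_pow_sum] at h1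
    have h2 : lam ^ (∑ j, a j) = 1 := by
      have h3 : (1 : F) * (G : Matrix (Fin r) (Fin r) F).det =
          lam ^ (∑ j, a j) * (G : Matrix (Fin r) (Fin r) F).det := by rw [one_mul]; exact h1
      exact (mul_right_cancel₀ hGdet h3).symm
    exact (hlam.pow_eq_one_iff_dvd _).1 h2
  obtain ⟨c, hc⟩ := exists_symm_multiset r hSym lam hlam.pow_eq_one a hsum
  -- the scalar u
  have hlamq : lam ^ (q₀ + 1) = 1 := by
    obtain ⟨s, hs⟩ := hrdvd
    rw [hs, pow_mul, hlam.pow_eq_one, one_pow]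
  have hlam0 : lam ≠ 0 := Units.ne_zero g
  obtain ⟨u, hu0, hu⟩ := exists_pow_eq_of_pow_eq_one (q₀ - 1) (q₀ + 1) hfac ((lam ^ c)⁻¹) (by
    rw [inv_pow, ← pow_mul, mul_comm, pow_mul, hlamq, one_pow, inv_one]) (by omega)
  set y : Matrix (Fin r) (Fin r) F := u⁻¹ • (x : Matrix (Fin r) (Fin r) F) with hy
  set N : ℕ := r * (Fintype.card F - 1) with hN
  have hNF : (N : F) ≠ 0 := by
    rw [hN, Nat.cast_mul]
    apply mul_ne_zero
    · intro h0
      rw [CharP.cast_eq_zero_iff F p] at h0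
      exact hrne ((Nat.prime_dvd_prime_iff_eq hp hrp).1 h0).symm
    · have hone : 1 ≤ Fintype.card F := Fintype.card_pos
      rw [Nat.cast_sub hone, Nat.cast_card_eq_zero, Nat.cast_one, zero_sub]
      exact neg_ne_zero.2 one_ne_zero
  have hyN : y ^ N = 1 := by
    rw [hy, _root_.smul_pow, hN, pow_mul (x : Matrix (Fin r) (Fin r) F), hxr, one_pow, mul_comm,
      pow_mul, inv_pow, FiniteField.pow_card_sub_one_eq_one u hu0, inv_one, one_pow, one_smul]
  -- conjugate of y to a diagonal matrix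
  set D' : Matrix (Fin r) (Fin r) F := Matrix.diagonal (fun j => u⁻¹ * lam ^ (a j)) with hD'
  have hGy : (G : Matrix (Fin r) (Fin r) F) * y = D' * (G : Matrix (Fin r) (Fin r) F) := by
    rw [hy, Matrix.mul_smul, hG, hD', ← Matrix.smul_mul]
    congr 1
    rw [← Matrix.diagonal_smul]
    rfl
  have hGyq := conj_pow_eq (G : Matrix (Fin r) (Fin r) F) y D' hGy q₀
  have hc1 := charpoly_eq_of_conj G y D' hGy
  have hc2 := charpoly_eq_of_conj G (y ^ q₀) (D' ^ q₀) hGyq
  have hentry : ∀ j, (u⁻¹ * lam ^ (a j)) ^ q₀ = u⁻¹ * (lam ^ c * (lam ^ (a j))⁻¹) := by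
    intro j
    have h1 : u ^ q₀ = u * (lam ^ c)⁻¹ := by
      have : q₀ = 1 + (q₀ - 1) := by omega
      nth_rewrite 1 [this]
      rw [pow_add, pow_one, hu]
    have h2 : lam ^ q₀ = lam⁻¹ := by
      have h3 : lam ^ q₀ * lam = 1 := by rw [← pow_succ]; exact hlamq
      exact eq_inv_of_mul_eq_one_left h3
    rw [mul_pow, inv_pow, h1, ← pow_mul, mul_comm (a j), pow_mul, h2, mul_inv, inv_inv, inv_pow,
      mul_assoc]
  have hchar : (y ^ q₀).charpoly = y.charpoly := by
    rw [hc1, hc2, hD', Matrix.diagonal_pow, Matrix.charpoly_diagonal, Matrix.charpoly_diagonal]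
    have h1 : ∀ j : Fin r, (X - C (((fun j => u⁻¹ * lam ^ (a j)) ^ q₀ : Fin r → F) j) : F[X]) =
        (fun y : F => (X - C (u⁻¹ * y) : F[X])) (lam ^ c * (lam ^ (a j))⁻¹) := by
      intro j
      simp only [Pi.pow_apply]
      rw [hentry]
    rw [Finset.prod_congr rfl (fun j _ => h1 j)]
    have h2 : ∏ j : Fin r, (fun y : F => (X - C (u⁻¹ * y) : F[X])) (lam ^ c * (lam ^ (a j))⁻¹) =
        ((Multiset.map (fun j => lam ^ c * (lam ^ (a j))⁻¹)
          (Finset.univ : Finset (Fin r)).val).map (fun y : F => (X - C (u⁻¹ * y) : F[X]))).prod := by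
      rw [Multiset.map_map]
      rfl
    have h3 : ∏ j : Fin r, (X - C (u⁻¹ * lam ^ (a j)) : F[X]) =
        ((Multiset.map (fun j => lam ^ (a j))
          (Finset.univ : Finset (Fin r)).val).map (fun y : F => (X - C (u⁻¹ * y) : F[X]))).prod := by
      rw [Multiset.map_map]
      rfl
    rw [h2, h3, hc]
  obtain ⟨f₀, hf₀⟩ := exists_charpoly_descent p F₀ q₀ e hF₀ hq₀ y hchar
  exact good_of_descent F₀ r hrp.pos x u hu0 N hNF hyN f₀ hf₀

end Cfsg.Agent.Lib.Helper22.SubfR
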