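import Mathlib
import Cfsg.Agent.Lib.Helper9.SubfieldA
import Cfsg.Agent.Lib.Helper15.SylowLarge

/-! The index of the subfield subgroup of `SL_n(F)`: divisibility by a prime `r`. -/

set_option autoImplicit false
open scoped MatrixGroups

namespace Cfsg.Agent.Lib.Helper22.SubfR

open Matrix Cfsg.Agent.Lib.Helper9.SubfieldA

/-- `r ∣ a ^ m - 1` in terms of `ZMod r` -/
theorem dvd_pow_sub_one_iff (r a m : ℕ) (ha : 1 ≤ a) :
    r ∣ a ^ m - 1 ↔ (a : ZMod r) ^ m = 1 := by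
  have h1 : 1 ≤ a ^ m := Nat.one_le_pow m a ha
  rw [← ZMod.natCast_eq_zero_iff, Nat.cast_sub h1, Nat.cast_pow, Nat.cast_one, sub_eq_zero]

/-- geometric sum factorization -/
theorem geom_fac (b k : ℕ) (hb : 1 ≤ b) :
    b ^ k - 1 = (b - 1) * ∑ i ∈ Finset.range k, b ^ i := by
  zify [hb, Nat.one_le_pow k b hb]
  push_cast
  rw [mul_comm]
  exact (geom_sum_mul (b : ℤ) k).symm

/-- the factor `(q₀^k)^n - (q₀^k)^i = (q₀^n - q₀^i) * c` -/
theorem factor_eq (q₀ k n i : ℕ) (hq₀ : 1 ≤ q₀) (hk : 1 ≤ k) (hi : i < n) :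
    (q₀ ^ k) ^ n - (q₀ ^ k) ^ i =
      (q₀ ^ n - q₀ ^ i) * (q₀ ^ ((k - 1) * i) * ∑ j ∈ Finset.range k, (q₀ ^ (n - i)) ^ j) := by
  have hSeq := geom_fac (q₀ ^ (n - i)) k (Nat.one_le_pow _ _ hq₀)
  have h1 : (q₀ ^ k) ^ n = (q₀ ^ k) ^ i * (q₀ ^ (n - i)) ^ k := by
    rw [← pow_mul, ← pow_mul, ← pow_mul, ← pow_add]
    congr 1
    have : n = i + (n - i) := by omega
    nth_rewrite 1 [this]
    ring
  have h2 : q₀ ^ n = q₀ ^ i * q₀ ^ (n - i) := by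
    rw [← pow_add]
    congr 1
    omega
  have h3 : (q₀ ^ k) ^ i = q₀ ^ i * q₀ ^ ((k - 1) * i) := by
    rw [← pow_mul, ← pow_add]
    congr 1
    have : k = 1 + (k - 1) := by omega
    nth_rewrite 1 [this]
    ring
  have h4 : (q₀ ^ k) ^ n - (q₀ ^ k) ^ i = (q₀ ^ k) ^ i * ((q₀ ^ (n - i)) ^ k - 1) := by
    rw [h1, Nat.mul_sub, mul_one]
  have h5 : q₀ ^ n - q₀ ^ i = q₀ ^ i * (q₀ ^ (n - i) - 1) := by
    rw [h2, Nat.mul_sub, mul_one]
  rw [h4, h5, hSeq, h3]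
  ring

variable {F : Type*} [Field F] [Fintype F]

/-- `e * index * S₁ = ∏ c_i` where the `c_i` are the quotients of the factors of `|GL_n|` -/
theorem index_mul (F₀ : Subfield F) (k q₀ : ℕ) (hF₀ : Nat.card F₀ = q₀)
    (hq : Fintype.card F = q₀ ^ k) (hk : 1 ≤ k) (n : ℕ) (hn : 1 ≤ n) :
    ∃ e : ℕ, e * (HH F₀ n).index * (∑ j ∈ Finset.range k, q₀ ^ j) =
      ∏ i : Fin n, (q₀ ^ ((k - 1) * (i : ℕ)) * ∑ j ∈ Finset.range k, (q₀ ^ (n - (i : ℕ))) ^ j) := by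
  classical
  have : Fintype F₀ := Fintype.ofFinite F₀
  have hcard₀ : Fintype.card F₀ = q₀ := by rw [← Nat.card_eq_fintype_card, hF₀]
  have hq₀1 : 1 < q₀ := by
    rw [← hcard₀]
    exact Fintype.one_lt_card
  set c : Fin n → ℕ := fun i =>
    q₀ ^ ((k - 1) * (i : ℕ)) * ∑ j ∈ Finset.range k, (q₀ ^ (n - (i : ℕ))) ^ j with hc
  have hGL : Nat.card (GL (Fin n) F) = ∏ i : Fin n, ((q₀ ^ k) ^ n - (q₀ ^ k) ^ (i : ℕ)) := by
    rw [Matrix.card_GL_field, hq]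
  have hGL₀ : Nat.card (GL (Fin n) F₀) = ∏ i : Fin n, (q₀ ^ n - q₀ ^ (i : ℕ)) := by
    rw [Matrix.card_GL_field, hcard₀]
  have hR : Nat.card (GL (Fin n) F) = Nat.card (GL (Fin n) F₀) * ∏ i : Fin n, c i := by
    rw [hGL, hGL₀, ← Finset.prod_mul_distrib]
    exact Finset.prod_congr rfl (fun i _ => factor_eq q₀ k n i (by omega) hk i.2)
  have hS₁eq := geom_fac q₀ k (by omega)
  set S₁ := ∑ j ∈ Finset.range k, q₀ ^ j with hS₁
  have hSL := Cfsg.Agent.Lib.Helper15.SylowLarge.card_SL_mul (F := F) n hn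
  have hSL₀ := Cfsg.Agent.Lib.Helper15.SylowLarge.card_SL_mul (F := F₀) n hn
  rw [hq, hS₁eq] at hSL
  rw [hcard₀] at hSL₀
  have h1 : Nat.card (Matrix.SpecialLinearGroup (Fin n) F) * S₁ =
      Nat.card (Matrix.SpecialLinearGroup (Fin n) F₀) * ∏ i : Fin n, c i := by
    have h2 : (q₀ - 1) * (Nat.card (Matrix.SpecialLinearGroup (Fin n) F) * S₁) =
        (q₀ - 1) * (Nat.card (Matrix.SpecialLinearGroup (Fin n) F₀) * ∏ i : Fin n, c i) := by
      calc (q₀ - 1) * (Nat.card (Matrix.SpecialLinearGroup (Fin n) F) * S₁)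
          = Nat.card (Matrix.SpecialLinearGroup (Fin n) F) * ((q₀ - 1) * S₁) := by ring
        _ = Nat.card (GL (Fin n) F) := hSL
        _ = Nat.card (GL (Fin n) F₀) * ∏ i : Fin n, c i := hR
        _ = (Nat.card (Matrix.SpecialLinearGroup (Fin n) F₀) * (q₀ - 1)) * ∏ i : Fin n, c i := by
            rw [hSL₀]
        _ = _ := by ring
    exact Nat.eq_of_mul_eq_mul_left (by omega) h2
  let φ : Matrix.SpecialLinearGroup (Fin n) F₀ →* Matrix.SpecialLinearGroup (Fin n) F :=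
    Matrix.SpecialLinearGroup.map (F₀.subtype : F₀ →+* F)
  have hφmem : ∀ A, φ A ∈ HH F₀ n := by
    intro A
    rw [Subgroup.mem_comap, mem_subfield_iff]
    refine ⟨Matrix.SpecialLinearGroup.toGL A, 1, ?_⟩
    rw [Units.val_one, one_smul]
    rfl
  let ψ : Matrix.SpecialLinearGroup (Fin n) F₀ →* HH F₀ n := φ.codRestrict (HH F₀ n) hφmem
  have hψinj : Function.Injective ψ := by
    intro A B hAB
    have h2 : φ A = φ B := congrArg Subtype.val hAB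
    apply Subtype.ext
    have h3 : (φ A : Matrix (Fin n) (Fin n) F) = (φ B : Matrix (Fin n) (Fin n) F) := by rw [h2]
    ext i j
    have h4 := congrFun (congrFun h3 i) j
    exact h4
  have hdvd : Nat.card (Matrix.SpecialLinearGroup (Fin n) F₀) ∣ Nat.card (HH F₀ n) :=
    Subgroup.card_dvd_of_injective ψ hψinj
  obtain ⟨e, he⟩ := hdvd
  have hidx := Subgroup.card_mul_index (HH F₀ n)
  have hpos : 0 < Nat.card (Matrix.SpecialLinearGroup (Fin n) F₀) := Nat.card_pos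
  refine ⟨e, ?_⟩
  apply Nat.eq_of_mul_eq_mul_left hpos
  rw [← h1, ← hidx, he]
  ring

/-- if `r ∣ q^m - 1` always forces `r ∣ q₀^m - 1` (and `r ≠ k`, `r ∤ q₀`) then `r` does not divide
the index -/
theorem index_not_dvd_same (F₀ : Subfield F) (k q₀ : ℕ) (hF₀ : Nat.card F₀ = q₀)
    (hq : Fintype.card F = q₀ ^ k) (hk : k.Prime) (n : ℕ) (hn : 1 ≤ n) (r : ℕ) (hr : r.Prime)
    (hrk : r ≠ k) (hrq₀ : ¬ r ∣ q₀)
    (hsame : ∀ m : ℕ, r ∣ (q₀ ^ k) ^ m - 1 → r ∣ q₀ ^ m - 1) :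
    ¬ r ∣ (HH F₀ n).index := by
  classical
  have : Fact r.Prime := ⟨hr⟩
  have : Fintype F₀ := Fintype.ofFinite F₀
  have hcard₀ : Fintype.card F₀ = q₀ := by rw [← Nat.card_eq_fintype_card, hF₀]
  have hq₀1 : 1 < q₀ := by
    rw [← hcard₀]
    exact Fintype.one_lt_card
  obtain ⟨e, he⟩ := index_mul F₀ k q₀ hF₀ hq hk.one_le n hn
  intro hdvd
  have h1 : r ∣ ∏ i : Fin n,
      (q₀ ^ ((k - 1) * (i : ℕ)) * ∑ j ∈ Finset.range k, (q₀ ^ (n - (i : ℕ))) ^ j) := by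
    rw [← he]
    exact Dvd.dvd.mul_right (Dvd.dvd.mul_left hdvd e) _
  obtain ⟨i, -, hi⟩ := (Prime.dvd_finset_prod_iff (Nat.Prime.prime hr) _).1 h1
  rcases (Nat.Prime.dvd_mul hr).1 hi with h2 | h2
  · exact hrq₀ (hr.dvd_of_dvd_pow h2)
  · -- r divides the geometric sum of b = q₀^(n-i)
    set b := q₀ ^ (n - (i : ℕ)) with hb
    have hb1 : 1 ≤ b := Nat.one_le_pow _ _ (by omega)
    have h3 : r ∣ b ^ k - 1 := by
      rw [geom_fac b k hb1]
      exact Dvd.dvd.mul_left h2 _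
    have h4 : r ∣ (q₀ ^ k) ^ (n - (i : ℕ)) - 1 := by
      rw [← pow_mul, mul_comm, pow_mul]
      exact h3
    have h5 : r ∣ b - 1 := by
      have := hsame _ h4
      exact this
    -- then the geometric sum is ≡ k mod r
    have h6 : ((∑ j ∈ Finset.range k, b ^ j : ℕ) : ZMod r) = (k : ZMod r) := by
      have hb' : (b : ZMod r) = 1 := by
        have := (dvd_pow_sub_one_iff r b 1 hb1).1 (by rwa [pow_one])
        rwa [pow_one] at this
      rw [Nat.cast_sum]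
      simp only [Nat.cast_pow, hb', one_pow]
      rw [Finset.sum_const, Finset.card_range, nsmul_eq_mul, mul_one]
    have h7 : ((∑ j ∈ Finset.range k, b ^ j : ℕ) : ZMod r) = 0 :=
      (ZMod.natCast_eq_zero_iff _ _).2 h2
    rw [h6, ZMod.natCast_eq_zero_iff] at h7
    exact hrk ((Nat.prime_dvd_prime_iff_eq hr hk).1 h7)

/-- `n = 2`, `k = 2`, `r ∣ q₀ + 1`: the index is prime to `r` -/
theorem index_not_dvd_two (F₀ : Subfield F) (q₀ : ℕ) (hF₀ : Nat.card F₀ = q₀)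
    (hq : Fintype.card F = q₀ ^ 2) (r : ℕ) (hr : r.Prime) (hr2 : r ≠ 2) (hrq : r ∣ q₀ + 1) :
    ¬ r ∣ (HH F₀ 2).index := by
  classical
  have : Fintype F₀ := Fintype.ofFinite F₀
  have hcard₀ : Fintype.card F₀ = q₀ := by rw [← Nat.card_eq_fintype_card, hF₀]
  have hq₀1 : 1 < q₀ := by
    rw [← hcard₀]
    exact Fintype.one_lt_card
  obtain ⟨e, he⟩ := index_mul F₀ 2 q₀ hF₀ hq (by norm_num) 2 (by norm_num)
  intro hdvd
  rw [Fin.prod_univ_two] at he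
  simp only [Finset.sum_range_succ, Finset.sum_range_zero, Fin.val_zero, Fin.val_one, pow_zero,
    pow_one, zero_add, Nat.sub_zero, mul_zero, Nat.add_one_sub_one, mul_one, one_mul] at he
  -- he : e * index * (1 + q₀) = (1 + q₀^2) * (q₀ * (1 + q₀))
  have h1 : e * (HH F₀ 2).index = (1 + q₀ ^ 2) * q₀ := by
    have h2 : (e * (HH F₀ 2).index) * (1 + q₀) = ((1 + q₀ ^ 2) * q₀) * (1 + q₀) := by
      rw [he]
      ring
    exact Nat.eq_of_mul_eq_mul_right (by omega) h2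
  have h3 : r ∣ (1 + q₀ ^ 2) * q₀ := by
    rw [← h1]
    exact Dvd.dvd.mul_left hdvd e
  have hr2' : ¬ r ∣ 2 := by
    intro h
    have := Nat.le_of_dvd (by norm_num) h
    have := hr.two_le
    omega
  rcases (Nat.Prime.dvd_mul hr).1 h3 with h4 | h4
  · -- q₀^2 + 1 = (q₀+1)(q₀-1) + 2
    have h5 : 1 + q₀ ^ 2 = (q₀ + 1) * (q₀ - 1) + 2 := by
      obtain ⟨t, rfl⟩ : ∃ t, q₀ = t + 1 := ⟨q₀ - 1, by omega⟩
      simp only [Nat.add_sub_cancel]
      ring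
    rw [h5] at h4
    have h6 : r ∣ (q₀ + 1) * (q₀ - 1) := Dvd.dvd.mul_right hrq _
    exact hr2' ((Nat.dvd_add_right h6).1 h4)
  · have h6 : r ∣ (q₀ + 1) - q₀ := Nat.dvd_sub hrq h4
    rw [Nat.add_sub_cancel_left] at h6
    exact hr.one_lt.ne' (Nat.dvd_one.1 h6)

end Cfsg.Agent.Lib.Helper22.SubfR
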