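import Mathlib
import Cfsg.Agent.Lib.Helper22.SubfRC

/-! Diagonal elements of `SL_n(F)` that are not conjugate into the subfield subgroup. -/

set_option autoImplicit false
open scoped MatrixGroups

namespace Cfsg.Agent.Lib.Helper22.SubfR

open Polynomial Matrix Cfsg.Agent.Lib.Helper9.SubfieldA

variable {F : Type*} [Field F]

/-- a diagonal with three constant blocks -/
def blk (n s t : ℕ) (α β γ : F) : Fin n → F :=
  fun j => if j.val < s then α else if j.val < s + t then β else γ

theorem sum_blk (s t u : ℕ) (α β γ : F) (g : F → ℕ) :
    ∑ j : Fin (s + t + u), g (blk (s + t + u) s t α β γ j) = s * g α + t * g β + u * g γ := by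
  have h1 : ∑ j : Fin (s + t + u), g (blk (s + t + u) s t α β γ j) =
      ∑ i ∈ Finset.range (s + t + u),
        g (if i < s then α else if i < s + t then β else γ) :=
    Fin.sum_univ_eq_sum_range
      (fun i => g (if i < s then α else if i < s + t then β else γ)) (s + t + u)
  rw [h1, Finset.sum_range_add, Finset.sum_range_add]
  have e1 : ∑ x ∈ Finset.range s, g (if x < s then α else if x < s + t then β else γ) =
      s * g α := by
    rw [Finset.sum_congr rfl (g := fun _ => g α)]
    · rw [Finset.sum_const, Finset.card_range, smul_eq_mul]
    · intro x hx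
      rw [Finset.mem_range] at hx
      rw [if_pos hx]
  have e2 : ∑ x ∈ Finset.range t,
      g (if s + x < s then α else if s + x < s + t then β else γ) = t * g β := by
    rw [Finset.sum_congr rfl (g := fun _ => g β)]
    · rw [Finset.sum_const, Finset.card_range, smul_eq_mul]
    · intro x hx
      rw [Finset.mem_range] at hx
      rw [if_neg (by omega), if_pos (by omega)]
  have e3 : ∑ x ∈ Finset.range u,
      g (if s + t + x < s then α else if s + t + x < s + t then β else γ) = u * g γ := by
    rw [Finset.sum_congr rfl (g := fun _ => g γ)]
    · rw [Finset.sum_const, Finset.card_range, smul_eq_mul]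
    · intro x hx
      rw [if_neg (by omega), if_neg (by omega)]
  rw [e1, e2, e3]

theorem prod_blk (s t u : ℕ) (α β γ : F) :
    ∏ j : Fin (s + t + u), blk (s + t + u) s t α β γ j = α ^ s * β ^ t * γ ^ u := by
  have h1 : ∏ j : Fin (s + t + u), blk (s + t + u) s t α β γ j =
      ∏ i ∈ Finset.range (s + t + u),
        (if i < s then α else if i < s + t then β else γ) :=
    Fin.prod_univ_eq_prod_range
      (fun i => (if i < s then α else if i < s + t then β else γ)) (s + t + u)
  rw [h1, Finset.prod_range_add, Finset.prod_range_add]
  have e1 : ∏ x ∈ Finset.range s, (if x < s then α else if x < s + t then β else γ) =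
      α ^ s := by
    rw [Finset.prod_congr rfl (g := fun _ => α)]
    · rw [Finset.prod_const, Finset.card_range]
    · intro x hx
      rw [Finset.mem_range] at hx
      rw [if_pos hx]
  have e2 : ∏ x ∈ Finset.range t,
      (if s + x < s then α else if s + x < s + t then β else γ) = β ^ t := by
    rw [Finset.prod_congr rfl (g := fun _ => β)]
    · rw [Finset.prod_const, Finset.card_range]
    · intro x hx
      rw [Finset.mem_range] at hx
      rw [if_neg (by omega), if_pos (by omega)]
  have e3 : ∏ x ∈ Finset.range u,
      (if s + t + x < s then α else if s + t + x < s + t then β else γ) = γ ^ u := by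
    rw [Finset.prod_congr rfl (g := fun _ => γ)]
    · rw [Finset.prod_const, Finset.card_range]
    · intro x hx
      rw [if_neg (by omega), if_neg (by omega)]
  rw [e1, e2, e3]

/-- counting the entries of a block diagonal -/
theorem card_blk [DecidableEq F] (s t u : ℕ) (α β γ : F) (v : F) :
    (Finset.univ.filter (fun j : Fin (s + t + u) => blk (s + t + u) s t α β γ j = v)).card =
      s * (if α = v then 1 else 0) + t * (if β = v then 1 else 0) +
        u * (if γ = v then 1 else 0) := by
  rw [Finset.card_filter]
  exact sum_blk s t u α β γ (fun w => if w = v then 1 else 0)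

end Cfsg.Agent.Lib.Helper22.SubfR
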