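import Mathlib
import Cfsg.Agent.Lib.Helper22.SubfRK

/-! Stability of eigenvalue multiplicities under the `q₀`-power map, and the resulting
non-conjugacy statements for diagonal elements. -/

set_option autoImplicit false
open scoped MatrixGroups

namespace Cfsg.Agent.Lib.Helper22.SubfR

open Polynomial Matrix Cfsg.Agent.Lib.Helper9.SubfieldA

variable {F : Type*} [Field F]

/-- root multiplicities of a product of linear factors -/
theorem rootMultiplicity_prod_X_sub_C [DecidableEq F] {n : ℕ} (b : Fin n → F) (a : F) :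
    rootMultiplicity a (∏ j : Fin n, (X - C (b j))) =
      (Finset.univ.filter (fun j : Fin n => b j = a)).card := by
  have h1 : (∏ j : Fin n, (X - C (b j)) : F[X]) =
      ((Multiset.map b (Finset.univ : Finset (Fin n)).val).map (fun a => X - C a)).prod := by
    rw [Multiset.map_map]
    rfl
  rw [← count_roots, h1, roots_multiset_prod_X_sub_C, Multiset.count_map, Finset.card_def,
    Finset.filter_val]
  congr 1
  apply Multiset.filter_congr
  intro j _
  exact eq_comm

variable [Fintype F]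

/-- if a diagonal element is conjugate into the subfield subgroup then, after scaling, the
multiplicities of its eigenvalues are stable under `a ↦ a ^ q₀` -/
theorem stable_count [DecidableEq F] (p : ℕ) [Fact p.Prime] [CharP F p] (F₀ : Subfield F)
    (q₀ e : ℕ) (hF₀ : Nat.card F₀ = q₀) (hq₀ : q₀ = p ^ e) (n : ℕ) (d : Fin n → F)
    (x P : Matrix.SpecialLinearGroup (Fin n) F)
    (hx : (x : Matrix (Fin n) (Fin n) F) = Matrix.diagonal d) (h : P⁻¹ * x * P ∈ HH F₀ n) :
    ∃ c : F, c ≠ 0 ∧ ∀ a : F,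
      (Finset.univ.filter (fun j : Fin n => c * d j = a ^ q₀)).card =
        (Finset.univ.filter (fun j : Fin n => c * d j = a)).card := by
  obtain ⟨y₀, c, hc, -, hchar, -⟩ := exists_of_good F₀ n x P h
  refine ⟨c⁻¹, inv_ne_zero hc, fun a => ?_⟩
  have hdiag : c⁻¹ • (x : Matrix (Fin n) (Fin n) F) = Matrix.diagonal (fun j => c⁻¹ * d j) := by
    rw [hx]
    ext i j
    by_cases hij : i = j
    · subst hij
      simp
    · simp [Matrix.diagonal_apply_ne _ hij]
  rw [hdiag, Matrix.charpoly_diagonal] at hchar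
  set f : F[X] := ∏ j : Fin n, (X - C (c⁻¹ * d j)) with hf
  set σ : F →+* F := iterateFrobenius F p e with hσ
  have hσa : ∀ a : F, σ a = a ^ q₀ := by
    intro a
    rw [hσ, iterateFrobenius_def, hq₀]
  have hσι : σ.comp (F₀.subtype : F₀ →+* F) = (F₀.subtype : F₀ →+* F) := by
    ext b
    rw [RingHom.comp_apply, hσa]
    exact (mem_subfield_iff_pow F₀ q₀ hF₀ _).1 b.2
  have hfσ : f.map σ = f := by
    rw [hchar, Polynomial.map_map, hσι]
  have hinj : Function.Injective σ := σ.injective
  have h1 := eq_rootMultiplicity_map (p := f) hinj a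
  rw [hfσ, hσa] at h1
  rw [hf, rootMultiplicity_prod_X_sub_C, rootMultiplicity_prod_X_sub_C] at h1
  exact h1.symm

/-- a three-block diagonal `(μλ)^s, μ^t, γ^u` with distinguishable multiplicities: stability forces
`λ ^ q₀ = λ` -/
theorem block_fixed [DecidableEq F] (q₀ s t u : ℕ) (lam μ γ : F) (hs : 0 < s) (ht : 0 < t)
    (hst : s ≠ t) (hu : u = 0 ∨ (u ≠ s ∧ u ≠ t)) (hμ : μ ≠ 0) (hlam : lam ≠ 1)
    (hγ1 : γ ≠ μ * lam) (hγ2 : γ ≠ μ) (c : F) (hc : c ≠ 0)
    (hstab : ∀ a : F,
      (Finset.univ.filter (fun j : Fin (s + t + u) =>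
        c * blk (s + t + u) s t (μ * lam) μ γ j = a ^ q₀)).card =
      (Finset.univ.filter (fun j : Fin (s + t + u) =>
        c * blk (s + t + u) s t (μ * lam) μ γ j = a)).card) :
    lam ^ q₀ = lam := by
  have hαβ : μ * lam ≠ μ := by
    intro h
    apply hlam
    have : μ * lam = μ * 1 := by rw [h, mul_one]
    exact mul_left_cancel₀ hμ this
  have hcnt : ∀ w : F, (Finset.univ.filter (fun j : Fin (s + t + u) =>
      c * blk (s + t + u) s t (μ * lam) μ γ j = c * w)).card =
      s * (if μ * lam = w then 1 else 0) + t * (if μ = w then 1 else 0) +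
        u * (if γ = w then 1 else 0) := by
    intro w
    rw [← card_blk s t u (μ * lam) μ γ w]
    congr 1
    apply Finset.filter_congr
    intro j _
    constructor
    · intro h
      exact mul_left_cancel₀ hc h
    · intro h
      rw [h]
  -- the eigenvalue c μ λ is fixed
  have key : ∀ (v : F) (m : ℕ), (v = μ * lam ∧ m = s) ∨ (v = μ ∧ m = t) → (c * v) ^ q₀ = c * v := by
    intro v m hv
    have h1 := hstab (c * v)
    rw [hcnt v] at h1
    set w : F := c⁻¹ * (c * v) ^ q₀ with hw
    have hcw : c * w = (c * v) ^ q₀ := by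
      rw [hw, ← mul_assoc, mul_inv_cancel₀ hc, one_mul]
    rw [← hcw, hcnt w] at h1
    -- evaluate right side
    have hR : s * (if μ * lam = v then 1 else 0) + t * (if μ = v then 1 else 0) +
        u * (if γ = v then 1 else 0) = m := by
      rcases hv with ⟨rfl, rfl⟩ | ⟨rfl, rfl⟩
      · rw [if_pos rfl, if_neg hαβ.symm, if_neg hγ1]
        ring
      · rw [if_neg hαβ, if_pos rfl, if_neg hγ2]
        ring
    rw [hR] at h1
    have hm : 0 < m := by
      rcases hv with ⟨-, rfl⟩ | ⟨-, rfl⟩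
      · exact hs
      · exact ht
    -- which value is w?
    have hwv : w = v := by
      by_cases h2 : μ * lam = w
      · have h3 : ¬ μ = w := fun h => hαβ (h2.trans h.symm)
        have h4 : ¬ γ = w := fun h => hγ1 (h.trans h2.symm)
        rw [if_pos h2, if_neg h3, if_neg h4] at h1
        rcases hv with ⟨rfl, rfl⟩ | ⟨rfl, rfl⟩
        · exact h2.symm
        · exfalso
          apply hst
          omega
      · by_cases h3 : μ = w
        · have h4 : ¬ γ = w := fun h => hγ2 (h.trans h3.symm)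
          rw [if_neg h2, if_pos h3, if_neg h4] at h1
          rcases hv with ⟨rfl, rfl⟩ | ⟨rfl, rfl⟩
          · exfalso
            apply hst
            omega
          · exact h3.symm
        · by_cases h4 : γ = w
          · rw [if_neg h2, if_neg h3, if_pos h4] at h1
            exfalso
            rcases hu with hu | ⟨hu1, hu2⟩
            · omega
            · rcases hv with ⟨-, rfl⟩ | ⟨-, rfl⟩
              · omega
              · omega
          · rw [if_neg h2, if_neg h3, if_neg h4] at h1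
            omega
    rw [← hcw, hwv]
  have k1 := key (μ * lam) s (Or.inl ⟨rfl, rfl⟩)
  have k2 := key μ t (Or.inr ⟨rfl, rfl⟩)
  -- divide
  have hcμ : c * μ ≠ 0 := mul_ne_zero hc hμ
  have h5 : (c * μ) ^ q₀ * lam ^ q₀ = (c * μ) * lam := by
    rw [← mul_pow, mul_assoc, k1, ← mul_assoc]
  rw [k2] at h5
  exact mul_left_cancel₀ hcμ h5

/-- two eigenvalues of multiplicity one: stability forces `λ ^ (q₀ ^ 2) = λ` -/
theorem pair_fixed [DecidableEq F] (q₀ : ℕ) (lam μ : F) (hμ : μ ≠ 0) (hlam : lam ≠ 1)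
    (hlam0 : lam ≠ 0) (hinj : ∀ a b : F, a ^ q₀ = b ^ q₀ → a = b) (c : F) (hc : c ≠ 0)
    (hstab : ∀ a : F,
      (Finset.univ.filter (fun j : Fin (1 + 1 + 0) =>
        c * blk (1 + 1 + 0) 1 1 (μ * lam) μ 0 j = a ^ q₀)).card =
      (Finset.univ.filter (fun j : Fin (1 + 1 + 0) =>
        c * blk (1 + 1 + 0) 1 1 (μ * lam) μ 0 j = a)).card) :
    lam ^ (q₀ ^ 2) = lam := by
  have hαβ : μ * lam ≠ μ := by
    intro h
    apply hlam
    have : μ * lam = μ * 1 := by rw [h, mul_one]
    exact mul_left_cancel₀ hμ this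
  have hcnt : ∀ w : F, (Finset.univ.filter (fun j : Fin (1 + 1 + 0) =>
      c * blk (1 + 1 + 0) 1 1 (μ * lam) μ 0 j = c * w)).card =
      1 * (if μ * lam = w then 1 else 0) + 1 * (if μ = w then 1 else 0) +
        0 * (if (0 : F) = w then 1 else 0) := by
    intro w
    rw [← card_blk 1 1 0 (μ * lam) μ 0 w]
    congr 1
    apply Finset.filter_congr
    intro j _
    constructor
    · intro h
      exact mul_left_cancel₀ hc h
    · intro h
      rw [h]
  have key : ∀ v : F, (v = μ * lam ∨ v = μ) →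
      (c * v) ^ q₀ = c * (μ * lam) ∨ (c * v) ^ q₀ = c * μ := by
    intro v hv
    have h1 := hstab (c * v)
    rw [hcnt v] at h1
    set w : F := c⁻¹ * (c * v) ^ q₀ with hw
    have hcw : c * w = (c * v) ^ q₀ := by
      rw [hw, ← mul_assoc, mul_inv_cancel₀ hc, one_mul]
    rw [← hcw, hcnt w] at h1
    have hR : 1 * (if μ * lam = v then 1 else 0) + 1 * (if μ = v then 1 else 0) +
        0 * (if (0 : F) = v then 1 else 0) = 1 := by
      rcases hv with rfl | rfl
      · rw [if_pos rfl, if_neg hαβ.symm]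
        omega
      · rw [if_neg hαβ, if_pos rfl]
        omega
    rw [hR] at h1
    rw [← hcw]
    by_cases h2 : μ * lam = w
    · left; rw [h2]
    · by_cases h3 : μ = w
      · right; rw [h3]
      · rw [if_neg h2, if_neg h3] at h1
        omega
  set a₁ : F := c * (μ * lam) with ha₁
  set a₂ : F := c * μ with ha₂
  have ha12 : a₁ ≠ a₂ := by
    intro h
    exact hαβ (mul_left_cancel₀ hc h)
  have k1 : a₁ ^ q₀ = a₁ ∨ a₁ ^ q₀ = a₂ := key (μ * lam) (Or.inl rfl)
  have k2 : a₂ ^ q₀ = a₁ ∨ a₂ ^ q₀ = a₂ := key μ (Or.inr rfl)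
  have hfix : (a₁ ^ q₀) ^ q₀ = a₁ ∧ (a₂ ^ q₀) ^ q₀ = a₂ := by
    rcases k1 with k1 | k1 <;> rcases k2 with k2 | k2
    · exact absurd (hinj _ _ (k1.trans k2.symm)) ha12
    · rw [k1, k1, k2, k2]
      exact ⟨rfl, rfl⟩
    · rw [k1, k2, k1]
      exact ⟨rfl, rfl⟩
    · exact absurd (hinj _ _ (k1.trans k2.symm)) ha12
  obtain ⟨f1, f2⟩ := hfix
  rw [← pow_mul, ← pow_two] at f1 f2
  have hcμ : c * μ ≠ 0 := mul_ne_zero hc hμ
  have h5 : (c * μ) ^ (q₀ ^ 2) * lam ^ (q₀ ^ 2) = (c * μ) * lam := by
    rw [← mul_pow, mul_assoc, ← ha₁, f1, ha₁, ← mul_assoc]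
  rw [← ha₂, f2] at h5
  exact mul_left_cancel₀ hcμ h5

end Cfsg.Agent.Lib.Helper22.SubfR
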