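import Mathlib
import Cfsg.Agent.Lib.Helper22.SubfRL

/-! Explicit diagonal elements of `SL_n(F)` of order `r` modulo scalars which are not conjugate
into the subfield subgroup. -/

set_option autoImplicit false
open scoped MatrixGroups

namespace Cfsg.Agent.Lib.Helper22.SubfR

open Polynomial Matrix Cfsg.Agent.Lib.Helper9.SubfieldA

variable {F : Type*} [Field F] [Fintype F]

theorem blk_pow_eq (n s t r : ℕ) (lam μ γ : F) (hlam : lam ^ r = 1) (hγ : γ ^ r = μ ^ r)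
    (j : Fin n) : (blk n s t (μ * lam) μ γ j) ^ r = μ ^ r := by
  unfold blk
  split_ifs
  · rw [mul_pow, hlam, mul_one]
  · rfl
  · exact hγ

/-- the three-block diagonal element is bad -/
theorem bad_block (p : ℕ) [Fact p.Prime] [CharP F p] (F₀ : Subfield F)
    (q₀ e : ℕ) (hF₀ : Nat.card F₀ = q₀) (hq₀ : q₀ = p ^ e) (r s t u : ℕ) (lam μ γ : F)
    (hlamr : lam ^ r = 1) (hlam1 : lam ≠ 1) (hfix : lam ^ q₀ ≠ lam) (hs : 0 < s) (ht : 0 < t)
    (hst : s ≠ t) (hu : u = 0 ∨ (u ≠ s ∧ u ≠ t)) (hμ : μ ≠ 0) (hγ1 : γ ≠ μ * lam) (hγ2 : γ ≠ μ)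
    (hγr : γ ^ r = μ ^ r) (hdet : (μ * lam) ^ s * μ ^ t * γ ^ u = 1) :
    ∃ x : Matrix.SpecialLinearGroup (Fin (s + t + u)) F,
      (∃ z : F, (x : Matrix (Fin (s + t + u)) (Fin (s + t + u)) F) ^ r = z • 1) ∧
      (∀ z : F, (x : Matrix (Fin (s + t + u)) (Fin (s + t + u)) F) ≠ z • 1) ∧
      ∀ P : Matrix.SpecialLinearGroup (Fin (s + t + u)) F, P⁻¹ * x * P ∉ HH F₀ (s + t + u) := by
  classical
  set d : Fin (s + t + u) → F := blk (s + t + u) s t (μ * lam) μ γ with hd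
  have hdetd : (Matrix.diagonal d).det = 1 := by
    rw [Matrix.det_diagonal, hd, prod_blk, hdet]
  refine ⟨⟨Matrix.diagonal d, hdetd⟩, ⟨μ ^ r, ?_⟩, ?_, ?_⟩
  · show (Matrix.diagonal d) ^ r = μ ^ r • 1
    rw [Matrix.diagonal_pow]
    ext i j
    by_cases hij : i = j
    · subst hij
      simp only [Matrix.diagonal_apply_eq, Pi.pow_apply, Matrix.smul_apply, Matrix.one_apply_eq,
        smul_eq_mul, mul_one]
      exact blk_pow_eq _ s t r lam μ γ hlamr hγr i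
    · simp [Matrix.diagonal_apply_ne _ hij, Matrix.one_apply_ne hij]
  · intro z hz
    have hz' : Matrix.diagonal d = z • (1 : Matrix (Fin (s + t + u)) (Fin (s + t + u)) F) := hz
    have h0 := congrFun (congrFun hz' ⟨0, by omega⟩) ⟨0, by omega⟩
    have h1 := congrFun (congrFun hz' ⟨s, by omega⟩) ⟨s, by omega⟩
    simp only [Matrix.diagonal_apply_eq, Matrix.smul_apply, Matrix.one_apply_eq, smul_eq_mul,
      mul_one, hd, blk] at h0 h1
    rw [if_pos hs] at h0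
    rw [if_neg (lt_irrefl s), if_pos (by omega)] at h1
    have : μ * lam = μ * 1 := by rw [h0, ← h1, mul_one]
    exact hlam1 (mul_left_cancel₀ hμ this)
  · intro P hP
    obtain ⟨c, hc, hstab⟩ := stable_count p F₀ q₀ e hF₀ hq₀ (s + t + u) d
      ⟨Matrix.diagonal d, hdetd⟩ P rfl hP
    exact hfix (block_fixed q₀ s t u lam μ γ hs ht hst hu hμ hlam1 hγ1 hγ2 c hc hstab)

/-- the diagonal element `(μλ, μ)` of `SL_2` is bad when `λ ^ (q₀^2) ≠ λ` -/
theorem bad_pair (p : ℕ) [Fact p.Prime] [CharP F p] (F₀ : Subfield F)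
    (q₀ e : ℕ) (hF₀ : Nat.card F₀ = q₀) (hq₀ : q₀ = p ^ e) (r : ℕ) (lam μ : F)
    (hlamr : lam ^ r = 1) (hlam1 : lam ≠ 1) (hfix : lam ^ (q₀ ^ 2) ≠ lam) (hμ : μ ≠ 0)
    (hdet : (μ * lam) * μ = 1) :
    ∃ x : Matrix.SpecialLinearGroup (Fin (1 + 1 + 0)) F,
      (∃ z : F, (x : Matrix (Fin (1 + 1 + 0)) (Fin (1 + 1 + 0)) F) ^ r = z • 1) ∧
      (∀ z : F, (x : Matrix (Fin (1 + 1 + 0)) (Fin (1 + 1 + 0)) F) ≠ z • 1) ∧
      ∀ P : Matrix.SpecialLinearGroup (Fin (1 + 1 + 0)) F, P⁻¹ * x * P ∉ HH F₀ (1 + 1 + 0) := by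
  classical
  have hlam0 : lam ≠ 0 := by
    rintro rfl
    rw [mul_zero, zero_mul] at hdet
    exact zero_ne_one hdet
  set d : Fin (1 + 1 + 0) → F := blk (1 + 1 + 0) 1 1 (μ * lam) μ 0 with hd
  have hdetd : (Matrix.diagonal d).det = 1 := by
    rw [Matrix.det_diagonal, hd, prod_blk, pow_one, pow_one, pow_zero, mul_one, hdet]
  refine ⟨⟨Matrix.diagonal d, hdetd⟩, ⟨μ ^ r, ?_⟩, ?_, ?_⟩
  · show (Matrix.diagonal d) ^ r = μ ^ r • 1
    rw [Matrix.diagonal_pow]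
    ext i j
    by_cases hij : i = j
    · subst hij
      simp only [Matrix.diagonal_apply_eq, Pi.pow_apply, Matrix.smul_apply, Matrix.one_apply_eq,
        smul_eq_mul, mul_one]
      have hi := i.2
      rw [hd]
      unfold blk
      split_ifs
      · rw [mul_pow, hlamr, mul_one]
      · rfl
    · simp [Matrix.diagonal_apply_ne _ hij, Matrix.one_apply_ne hij]
  · intro z hz
    have hz' : Matrix.diagonal d = z • (1 : Matrix (Fin (1 + 1 + 0)) (Fin (1 + 1 + 0)) F) := hz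
    have h0 := congrFun (congrFun hz' ⟨0, by omega⟩) ⟨0, by omega⟩
    have h1 := congrFun (congrFun hz' ⟨1, by omega⟩) ⟨1, by omega⟩
    simp only [Matrix.diagonal_apply_eq, Matrix.smul_apply, Matrix.one_apply_eq, smul_eq_mul,
      mul_one, hd, blk] at h0 h1
    rw [if_pos (by norm_num)] at h0
    rw [if_neg (lt_irrefl 1), if_pos (by omega)] at h1
    have : μ * lam = μ * 1 := by rw [h0, ← h1, mul_one]
    exact hlam1 (mul_left_cancel₀ hμ this)
  · intro P hP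
    obtain ⟨c, hc, hstab⟩ := stable_count p F₀ q₀ e hF₀ hq₀ (1 + 1 + 0) d
      ⟨Matrix.diagonal d, hdetd⟩ P rfl hP
    have hinj : ∀ a b : F, a ^ q₀ = b ^ q₀ → a = b := by
      intro a b hab
      have h1 := (iterateFrobenius F p e).injective
      apply h1
      rw [iterateFrobenius_def, iterateFrobenius_def, ← hq₀]
      exact hab
    exact hfix (pair_fixed q₀ lam μ hμ hlam1 hlam0 hinj c hc hstab)

end Cfsg.Agent.Lib.Helper22.SubfR
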