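import Mathlib
import Cfsg.Agent.Lib.Helper22.SubfRI
import Cfsg.Agent.Lib.Helper22.SubfRJ
import Cfsg.Agent.Lib.Helper22.SubfRM

/-! Existence of an element of order `r` modulo scalars which is not conjugate into the subfield
subgroup, in the case `r ∣ q - 1`, `r ∤ q₀ - 1`. -/

set_option autoImplicit false
open scoped MatrixGroups

namespace Cfsg.Agent.Lib.Helper22.SubfR

open Polynomial Matrix Cfsg.Agent.Lib.Helper9.SubfieldA

/-- `k = 2` when `q₀` has order `k` modulo `r ∈ {3, 5}` -/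
theorem k_eq_two (r k q₀ : ℕ) [Fact r.Prime] (hr35 : r = 3 ∨ r = 5) (hk : k.Prime)
    (h1 : (q₀ : ZMod r) ^ k = 1) (h2 : (q₀ : ZMod r) ≠ 1) : k = 2 := by
  set a : ZMod r := (q₀ : ZMod r) with ha
  have ha0 : a ≠ 0 := by
    intro h0
    rw [h0, zero_pow hk.ne_zero] at h1
    exact zero_ne_one h1
  have hord : orderOf a ∣ k := orderOf_dvd_of_pow_eq_one h1
  have hord' : orderOf a = k := by
    rcases (Nat.dvd_prime hk).1 hord with h | h
    · rw [orderOf_eq_one_iff] at h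
      exact absurd h h2
    · exact h
  have hfer : a ^ (r - 1) = 1 := ZMod.pow_card_sub_one_eq_one ha0
  have hk' : k ∣ r - 1 := by
    rw [← hord']
    exact orderOf_dvd_of_pow_eq_one hfer
  rcases hr35 with rfl | rfl
  · have : k ∣ 2 := hk'
    exact (Nat.prime_dvd_prime_iff_eq hk Nat.prime_two).1 this
  · have h4 : k ∣ 2 ^ 2 := hk'
    have := hk.dvd_of_dvd_pow h4
    exact (Nat.prime_dvd_prime_iff_eq hk Nat.prime_two).1 this

/-- `r ∣ q₀ + 1` when `q₀² ≡ 1` and `q₀ ≢ 1` -/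
theorem dvd_add_one_of_sq (r q₀ : ℕ) [Fact r.Prime] (h1 : (q₀ : ZMod r) ^ 2 = 1)
    (h2 : (q₀ : ZMod r) ≠ 1) : r ∣ q₀ + 1 := by
  have h3 : ((q₀ : ZMod r) - 1) * ((q₀ : ZMod r) + 1) = 0 := by
    have : ((q₀ : ZMod r) - 1) * ((q₀ : ZMod r) + 1) = (q₀ : ZMod r) ^ 2 - 1 := by ring
    rw [this, h1, sub_self]
  rcases mul_eq_zero.1 h3 with h | h
  · exact absurd (sub_eq_zero.1 h) h2
  · rw [← ZMod.natCast_eq_zero_iff]
    push_cast
    exact h

variable {F : Type*} [Field F] [Fintype F]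

theorem exists_primitive_root (r : ℕ) (hr : r.Prime) (h : r ∣ Fintype.card F - 1) :
    ∃ lam : F, IsPrimitiveRoot lam r := by
  classical
  have : Fact r.Prime := ⟨hr⟩
  obtain ⟨g, hg⟩ := exists_prime_orderOf_dvd_card r (G := Fˣ) (by
    rw [Fintype.card_units]; exact h)
  refine ⟨(g : F), ?_⟩
  rw [IsPrimitiveRoot.coe_units_iff, ← hg]
  exact IsPrimitiveRoot.orderOf g

/-- from `r ∣ index` we get `r ∣ q ^ m - 1` for some `1 ≤ m ≤ n` -/
theorem exists_dvd_of_dvd_index (F₀ : Subfield F) (n : ℕ) (hn : 1 ≤ n) (r : ℕ) (hr : r.Prime)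
    (hrq : ¬ r ∣ Fintype.card F) (h : r ∣ (HH F₀ n).index) :
    ∃ m, 1 ≤ m ∧ m ≤ n ∧ r ∣ Fintype.card F ^ m - 1 := by
  classical
  have h1 : r ∣ Nat.card (Matrix.SpecialLinearGroup (Fin n) F) :=
    dvd_trans h (Subgroup.index_dvd_card _)
  have h2 := Cfsg.Agent.Lib.Helper15.SylowLarge.card_SL_mul (F := F) n hn
  have h3 : r ∣ Nat.card (GL (Fin n) F) := by
    rw [← h2]
    exact Dvd.dvd.mul_right h1 _
  rw [Matrix.card_GL_field] at h3
  obtain ⟨i, -, hi⟩ := (Prime.dvd_finset_prod_iff (Nat.Prime.prime hr) _).1 h3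
  have hq1 : 1 ≤ Fintype.card F := Fintype.card_pos
  have h4 : Fintype.card F ^ n - Fintype.card F ^ (i : ℕ) =
      Fintype.card F ^ (i : ℕ) * (Fintype.card F ^ (n - (i : ℕ)) - 1) := by
    have : Fintype.card F ^ n = Fintype.card F ^ (i : ℕ) * Fintype.card F ^ (n - (i : ℕ)) := by
      rw [← pow_add]
      congr 1
      have := i.2
      omega
    rw [this, Nat.mul_sub, mul_one]
  rw [h4] at hi
  rcases (Nat.Prime.dvd_mul hr).1 hi with h5 | h5
  · exact absurd (hr.dvd_of_dvd_pow h5) hrq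
  · exact ⟨n - (i : ℕ), by have := i.2; omega, by omega, h5⟩

end Cfsg.Agent.Lib.Helper22.SubfR
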