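import Mathlib
import Cfsg.Agent.Lib.Helper22.OrthRE
import Cfsg.Agent.Lib.Helper22.SubfRB
import Cfsg.Agent.Lib.Helper22.SubfRD
import Cfsg.Agent.Lib.Helper22.SubfRF
import Cfsg.Agent.Lib.Helper22.SubfRH
import Cfsg.Agent.Lib.Helper22.SubfRI
import Cfsg.Agent.Lib.Helper22.SubfRQ

/-! The case `n = r ∈ {3, 5}`, `(q - 1)_r = r`: every element of order `r` modulo scalars of
`SL_r(F)` is conjugate into the similarity group of any nondegenerate quadratic form. -/

set_option autoImplicit false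
open scoped MatrixGroups

namespace Cfsg.Agent.Lib.Helper22.OrthR

open Matrix QuadraticMap Module Polynomial Cfsg.Agent.Lib.Helper22.UnitR
  Cfsg.Agent.Lib.Helper22.SubfR

variable {F : Type*} [Field F] [Fintype F]

theorem good_sym {p : ℕ} [Fact p.Prime] [CharP F p] (hp2 : p ≠ 2) (r : ℕ)
    (hrp : r.Prime) (hr2 : r ≠ 2) (hrne : r ≠ p) [NeZero r] (hSym : Sym r)
    (hval : padicValNat r (Fintype.card F - 1) = 1) (Q : QuadraticForm F (Fin r → F))
    (hQ : (polarBilin Q).Nondegenerate) (x : GL (Fin r) F)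
    (hx : x ∈ Cfsg.Geo.specialLinear (Fin r) F) (z : F)
    (hxr : (x : Matrix (Fin r) (Fin r) F) ^ r = z • 1) :
    ∃ g : GL (Fin r) F, g ∈ Cfsg.Geo.specialLinear (Fin r) F ∧
      g⁻¹ * x * g ∈ Cfsg.Geo.quadSimilarityGroup (⇑Q) := by
  classical
  have : Fact r.Prime := ⟨hrp⟩
  have hp : p.Prime := Fact.out
  have h2F : ((2 : ℕ) : F) ≠ 0 := by
    intro h0
    rw [CharP.cast_eq_zero_iff F p] at h0
    exact hp2 ((Nat.prime_dvd_prime_iff_eq hp Nat.prime_two).1 h0)
  have h2 : (2 : F) ≠ 0 := by exact_mod_cast h2F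
  have hrF : (r : F) ≠ 0 := by
    intro h0
    rw [CharP.cast_eq_zero_iff F p] at h0
    exact hrne ((Nat.prime_dvd_prime_iff_eq hp hrp).1 h0).symm
  have hr3 : 3 ≤ r := by
    have := hrp.two_le
    omega
  have hrodd : Odd r := hrp.odd_of_ne_two hr2
  rw [mem_specialLinear_iff] at hx
  have hcard2 : 2 ≤ Fintype.card F := Fintype.one_lt_card
  have hrq : r ∣ Fintype.card F - 1 := dvd_of_one_le_padicValNat (by omega)
  obtain ⟨lam, hlam⟩ := exists_primitive_root r hrp hrq
  have hlamr : lam ^ r = 1 := hlam.pow_eq_one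
  have hlam0 : lam ≠ 0 := by
    rintro rfl
    rw [zero_pow hrp.ne_zero] at hlamr
    exact zero_ne_one hlamr
  -- z = 1
  obtain ⟨w, hw⟩ := exists_root_scalar r hrp hr2 r hrp.pos (fun _ => by
    rw [padicValNat_self, hval]) (x : Matrix (Fin r) (Fin r) F) hx z hxr
  have hzr : z ^ r = 1 := by
    have h1 := congrArg Matrix.det hxr
    rw [Matrix.det_pow, hx, one_pow, Matrix.det_smul, Matrix.det_one, mul_one,
      Fintype.card_fin] at h1
    exact h1.symm
  have hw0 : w ≠ 0 := by
    rintro rfl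
    rw [zero_pow hrp.ne_zero] at hw
    rw [← hw, zero_pow hrp.ne_zero] at hzr
    exact zero_ne_one hzr
  have hz1 : z = 1 := by
    set wu : Fˣ := Units.mk0 w hw0 with hwu
    have h1 : wu ^ (r ^ 2) = 1 := by
      apply Units.ext
      rw [Units.val_pow_eq_pow_val, Units.val_one, hwu, Units.val_mk0, pow_two, pow_mul, hw, hzr]
    have h2' : orderOf wu ∣ r ^ 2 := orderOf_dvd_of_pow_eq_one h1
    obtain ⟨j, hj, hoj⟩ := (Nat.dvd_prime_pow hrp).1 h2'
    have h3 : orderOf wu ∣ Fintype.card F - 1 := by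
      rw [← Fintype.card_units]
      exact orderOf_dvd_card
    have hj1 : j ≤ 1 := by
      by_contra hj2
      have hj2' : j = 2 := by omega
      rw [hoj, hj2'] at h3
      have h4 : 2 ≤ padicValNat r (Fintype.card F - 1) := by
        rw [← padicValNat_dvd_iff_le]
        · exact h3
        · omega
      omega
    have h5 : orderOf wu ∣ r := by
      rw [hoj]
      calc r ^ j ∣ r ^ 1 := pow_dvd_pow r hj1
        _ = r := pow_one r
    have h6 : wu ^ r = 1 := orderOf_dvd_iff_pow_eq_one.1 h5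
    have h7 := congrArg Units.val h6
    rw [Units.val_pow_eq_pow_val, Units.val_one, hwu, Units.val_mk0, hw] at h7
    exact h7
  have hxr1 : (x : Matrix (Fin r) (Fin r) F) ^ r = 1 := by rw [hxr, hz1, one_smul]
  -- diagonal form
  obtain ⟨a, G, hG⟩ := exists_diag_conj r r hrp.pos lam hlam (x : Matrix (Fin r) (Fin r) F) hxr1
  have hGdet : (G : Matrix (Fin r) (Fin r) F).det ≠ 0 :=
    ((Matrix.isUnit_iff_isUnit_det _).mp G.isUnit).ne_zero
  have hsum : r ∣ ∑ j, a j := by
    have h1 := congrArg Matrix.det hG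
    rw [Matrix.det_mul, Matrix.det_mul, hx, mul_one, Matrix.det_diagonal,
      Finset.prod_pow_eq_pow_sum] at h1
    have h2' : lam ^ (∑ j, a j) = 1 := by
      have h3 : (1 : F) * (G : Matrix (Fin r) (Fin r) F).det =
          lam ^ (∑ j, a j) * (G : Matrix (Fin r) (Fin r) F).det := by rw [one_mul]; exact h1
      exact (mul_right_cancel₀ hGdet h3).symm
    exact (hlam.pow_eq_one_iff_dvd _).1 h2'
  obtain ⟨c, hc⟩ := exists_symm_multiset r hSym lam hlam.pow_eq_one a hsum
  -- the scalar u with u^2 = lam^c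
  obtain ⟨s, hs⟩ := hrodd
  set u : F := lam ^ (c * (s + 1)) with hu
  have hu0 : u ≠ 0 := pow_ne_zero _ hlam0
  have hu2 : u * u = lam ^ c := by
    rw [hu, ← pow_add]
    have : c * (s + 1) + c * (s + 1) = c + r * c := by rw [hs]; ring
    rw [this, pow_add, pow_mul, hlamr, one_pow, mul_one]
  have hur : u ^ r = 1 := by
    rw [hu, ← pow_mul, mul_comm, pow_mul, hlamr, one_pow]
  set y : Matrix (Fin r) (Fin r) F := u⁻¹ • (x : Matrix (Fin r) (Fin r) F) with hy
  have hyr : y ^ r = 1 := by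
    rw [hy, _root_.smul_pow, hxr1, inv_pow, hur, inv_one, one_smul]
  set b : Fin r → F := fun j => u⁻¹ * lam ^ (a j) with hb
  have hGy : (G : Matrix (Fin r) (Fin r) F) * y = Matrix.diagonal b *
      (G : Matrix (Fin r) (Fin r) F) := by
    rw [hy, Matrix.mul_smul, hG, ← Matrix.smul_mul]
    congr 1
    rw [← Matrix.diagonal_smul]
    rfl
  have hcp := charpoly_eq_of_conj G y (Matrix.diagonal b) hGy
  rw [Matrix.charpoly_diagonal] at hcp
  -- the multiset of eigenvalues
  set S : Multiset F := Multiset.map b (Finset.univ : Finset (Fin r)).val with hS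
  have hScard : S.card = r := by
    rw [hS, Multiset.card_map]
    simp
  have hbr : ∀ j, b j ^ r = 1 := by
    intro j
    rw [hb]
    simp only
    rw [mul_pow, inv_pow, hur, inv_one, one_mul, ← pow_mul, mul_comm, pow_mul, hlamr, one_pow]
  have hSr : ∀ t ∈ S, t ^ r = 1 := by
    intro t ht
    rw [hS, Multiset.mem_map] at ht
    obtain ⟨j, -, rfl⟩ := ht
    exact hbr j
  have hS0 : ∀ t ∈ S, t ≠ 0 := by
    intro t ht h0
    have := hSr t ht
    rw [h0, zero_pow hrp.ne_zero] at this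
    exact zero_ne_one this
  have hSinv : S.map (fun t => t⁻¹) = S := by
    have h1 : S.map (fun t => t⁻¹) =
        (Multiset.map (fun j => lam ^ c * (lam ^ (a j))⁻¹)
          (Finset.univ : Finset (Fin r)).val).map (fun t : F => u⁻¹ * t) := by
      rw [hS, Multiset.map_map, Multiset.map_map]
      apply Multiset.map_congr rfl
      intro j _
      simp only [Function.comp_apply, hb]
      rw [← hu2]
      field_simp
    have h3 : S = (Multiset.map (fun j => lam ^ (a j))
          (Finset.univ : Finset (Fin r)).val).map (fun t : F => u⁻¹ * t) := by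
      rw [hS, Multiset.map_map]
      rfl
    rw [h1, hc, ← h3]
  -- the half system
  set H : F → Prop := fun t => ∃ k : ℕ, 1 ≤ k ∧ 2 * k < r ∧ t = lam ^ k with hH
  have hH1 : ¬ H 1 := by
    rintro ⟨k, hk1, hk2, hk⟩
    exact hlam.pow_ne_one_of_pos_of_lt (by omega) (by omega) hk.symm
  have hHH : ∀ t, H t → ¬ H t⁻¹ := by
    rintro t ⟨k, hk1, hk2, hk⟩ ⟨k', hk1', hk2', hk'⟩
    have h1 : lam ^ (k + k') = 1 := by
      rw [pow_add, ← hk, ← hk']
      have ht0 : t ≠ 0 := by
        rw [hk]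
        exact pow_ne_zero _ hlam0
      exact mul_inv_cancel₀ ht0
    exact hlam.pow_ne_one_of_pos_of_lt (by omega) (by omega) h1
  have htri : ∀ t ∈ S, t = 1 ∨ H t ∨ H t⁻¹ := by
    intro t ht
    obtain ⟨k, hk, rfl⟩ := hlam.eq_pow_of_pow_eq_one (hSr t ht)
    rcases Nat.eq_zero_or_pos k with h0 | hpos
    · left
      rw [h0, pow_zero]
    · right
      by_cases h2k : 2 * k < r
      · left
        exact ⟨k, hpos, h2k, rfl⟩
      · right
        refine ⟨r - k, by omega, by omega, ?_⟩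
        have h1 : lam ^ k * lam ^ (r - k) = 1 := by
          rw [← pow_add]
          have : k + (r - k) = r := by omega
          rw [this, hlamr]
        exact inv_eq_of_mul_eq_one_right h1
  obtain ⟨B, M, hBs, hBdet, hMB, hMcp, hMpow⟩ := exists_model_of_inv_closed
    (⟨s, hs⟩ : Odd r) S hScard H hS0 hSinv htri hH1 hHH (disc Q)
  have hdisc0 := disc_ne_zero Q hQ
  have hMr : M ^ r = 1 := hMpow r hSr
  have hcpM : y.charpoly = M.charpoly := by
    rw [hcp, hMcp, hS, Multiset.map_map]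
    rfl
  obtain ⟨P, hP⟩ := Cfsg.Agent.Lib.Helper15.SemisimpleCount.matrix_conj r y M r hrF hyr hMr hcpM
  refine good_of_model h2 Q hQ B M hBs (by rw [hBdet]; exact hdisc0)
    (by rw [hBdet]; exact ⟨_, rfl⟩) 1 one_ne_zero (by rw [one_smul]; exact hMB) x u hu0 P hP ?_
  intro c' _
  obtain ⟨C, hC, hCdet⟩ := exists_matrix_commute_det r hrp.pos y r hrF hyr c'
  refine ⟨C, ?_, hCdet⟩
  have hxy : (x : Matrix (Fin r) (Fin r) F) = u • y := by
    rw [hy, smul_smul, mul_inv_cancel₀ hu0, one_smul]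
  rw [hxy, Matrix.mul_smul, Matrix.smul_mul, hC]

end Cfsg.Agent.Lib.Helper22.OrthR
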