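import Mathlib

/-! Irreducible factors of `X ^ r - 1` over a finite field: degree and order relations. -/

set_option autoImplicit false

namespace Cfsg.Agent.Lib.Helper22.SubfR

open Polynomial

variable {K₁ : Type*} [Field K₁] [Fintype K₁]

/-- the root of an irreducible factor `g ≠ X - 1` of `X ^ r - 1` has order `r`, so
`r ∣ Q ^ deg g - 1` -/
theorem dvd_card_pow_natDegree_sub_one (g : K₁[X]) (hg : Irreducible g) (r : ℕ) (hr : r.Prime)
    (hdvd : g ∣ X ^ r - 1) (h1 : g.eval 1 ≠ 0) :
    r ∣ Fintype.card K₁ ^ g.natDegree - 1 := by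
  classical
  have : Fact (Irreducible g) := ⟨hg⟩
  have hg0 : g ≠ 0 := hg.ne_zero
  set K := AdjoinRoot g with hK
  have hfinM : Module.Finite K₁ K := (AdjoinRoot.powerBasis hg0).finite
  have hfin : Finite K := Module.finite_of_finite K₁
  have : Fintype K := Fintype.ofFinite K
  have hcard : Fintype.card K = Fintype.card K₁ ^ g.natDegree := by
    rw [Module.card_eq_pow_finrank (K := K₁) (V := K), (AdjoinRoot.powerBasis hg0).finrank,
      AdjoinRoot.powerBasis_dim]
  set ρ : K := AdjoinRoot.root g with hρ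
  have hρg : aeval ρ g = 0 := by
    rw [hρ, AdjoinRoot.aeval_eq, AdjoinRoot.mk_self]
  have hρr : ρ ^ r = 1 := by
    obtain ⟨h, hh⟩ := hdvd
    have h2 : aeval ρ (X ^ r - 1 : K₁[X]) = 0 := by
      rw [hh, map_mul, hρg, zero_mul]
    rw [map_sub, map_pow, aeval_X, map_one, sub_eq_zero] at h2
    exact h2
  have hρ1 : ρ ≠ 1 := by
    intro h
    rw [h] at hρg
    have h3 : aeval (1 : K) g = algebraMap K₁ K (g.eval 1) := by
      rw [← aeval_algebraMap_apply_eq_algebraMap_eval, map_one]
    rw [h3] at hρg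
    exact h1 ((map_eq_zero _).1 hρg)
  have hρ0 : ρ ≠ 0 := by
    rintro h
    rw [h, zero_pow hr.ne_zero] at hρr
    exact zero_ne_one hρr
  set ρu : Kˣ := Units.mk0 ρ hρ0 with hρu
  have : Fact r.Prime := ⟨hr⟩
  have hord : orderOf ρu = r := by
    apply orderOf_eq_prime
    · apply Units.ext
      rw [Units.val_pow_eq_pow_val, Units.val_one, hρu, Units.val_mk0, hρr]
    · intro h
      apply hρ1
      have := congrArg Units.val h
      simpa [hρu] using this
  have h4 : orderOf ρu ∣ Fintype.card Kˣ := orderOf_dvd_card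
  rw [hord, Fintype.card_units, hcard] at h4
  exact h4

/-- degree bound: if `r ∣ Q ^ m - 1` then an irreducible factor of `X ^ r - 1` has degree `≤ m` -/
theorem natDegree_le_of_dvd (p : ℕ) [Fact p.Prime] [CharP K₁ p] (g : K₁[X]) (hg : Irreducible g)
    (r : ℕ) (hdvd : g ∣ X ^ r - 1) (m : ℕ) (hm : 1 ≤ m)
    (hrm : r ∣ Fintype.card K₁ ^ m - 1) : g.natDegree ≤ m := by
  classical
  have : Fact (Irreducible g) := ⟨hg⟩
  have hg0 : g ≠ 0 := hg.ne_zero
  set K := AdjoinRoot g with hK
  have hfinM : Module.Finite K₁ K := (AdjoinRoot.powerBasis hg0).finite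
  have hfin : Finite K := Module.finite_of_finite K₁
  have : Fintype K := Fintype.ofFinite K
  have hcard : Fintype.card K = Fintype.card K₁ ^ g.natDegree := by
    rw [Module.card_eq_pow_finrank (K := K₁) (V := K), (AdjoinRoot.powerBasis hg0).finrank,
      AdjoinRoot.powerBasis_dim]
  have hQ1 : 1 < Fintype.card K₁ := Fintype.one_lt_card
  set ρ : K := AdjoinRoot.root g with hρ
  have hρg : aeval ρ g = 0 := by
    rw [hρ, AdjoinRoot.aeval_eq, AdjoinRoot.mk_self]
  have hρr : ρ ^ r = 1 := by
    obtain ⟨h, hh⟩ := hdvd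
    have h2 : aeval ρ (X ^ r - 1 : K₁[X]) = 0 := by
      rw [hh, map_mul, hρg, zero_mul]
    rw [map_sub, map_pow, aeval_X, map_one, sub_eq_zero] at h2
    exact h2
  -- the Frobenius power as an algebra endomorphism
  obtain ⟨⟨f, hfpos⟩, hp', hQ⟩ := FiniteField.card K₁ p
  have hQ' : Fintype.card K₁ = p ^ f := hQ
  have hcharK : CharP K p := charP_of_injective_algebraMap (algebraMap K₁ K).injective p
  set N : ℕ := Fintype.card K₁ ^ m with hN
  have hNp : N = p ^ (f * m) := by rw [hN, hQ', pow_mul]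
  let φ : K →ₐ[K₁] K :=
    { iterateFrobenius K p (f * m) with
      commutes' := by
        intro a
        show iterateFrobenius K p (f * m) (algebraMap K₁ K a) = algebraMap K₁ K a
        rw [iterateFrobenius_def, ← hNp, ← map_pow, hN, FiniteField.pow_card_pow] }
  have hφ : ∀ κ : K, φ κ = κ ^ N := by
    intro κ
    show iterateFrobenius K p (f * m) κ = κ ^ N
    rw [iterateFrobenius_def, hNp]
  have hφρ : φ ρ = ρ := by
    rw [hφ]
    obtain ⟨s, hs⟩ := hrm
    have hN1 : 1 ≤ N := Nat.one_le_pow _ _ (by omega)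
    have : N = 1 + r * s := by omega
    rw [this, pow_add, pow_one, pow_mul, hρr, one_pow, mul_one]
  have hφid : φ = AlgHom.id K₁ K := AdjoinRoot.algHom_ext (by rw [hφρ]; rfl)
  have hall : ∀ κ : K, κ ^ N = κ := by
    intro κ
    rw [← hφ, hφid]
    rfl
  -- counting roots
  have hN1 : 1 < N := by
    rw [hN]
    exact Nat.one_lt_pow (by omega) hQ1
  set P : K[X] := X ^ N - X with hP
  have hP0 : P ≠ 0 := FiniteField.X_pow_card_sub_X_ne_zero K hN1
  have hdeg : P.natDegree = N := FiniteField.X_pow_card_sub_X_natDegree_eq K hN1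
  have hsub : (Finset.univ : Finset K) ⊆ P.roots.toFinset := by
    intro κ _
    rw [Multiset.mem_toFinset, mem_roots hP0, IsRoot, hP, eval_sub, eval_pow, eval_X, sub_eq_zero]
    exact hall κ
  have h1 := Finset.card_le_card hsub
  have h2 : P.roots.toFinset.card ≤ N := by
    calc P.roots.toFinset.card ≤ Multiset.card P.roots := Multiset.toFinset_card_le _
      _ ≤ P.natDegree := card_roots' P
      _ = N := hdeg
  rw [Finset.card_univ, hcard] at h1
  have h3 : Fintype.card K₁ ^ g.natDegree ≤ Fintype.card K₁ ^ m := le_trans h1 h2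
  exact (Nat.pow_le_pow_iff_right hQ1).1 h3

end Cfsg.Agent.Lib.Helper22.SubfR
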