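import Mathlib
import Cfsg.Agent.Lib.Helper15.SemisimpleCount
import Cfsg.Agent.Lib.Helper22.SubfRN

/-! A semisimple element of `SL_n(F)` of order `r` with a single nontrivial irreducible block,
when `r ∤ q - 1`. -/

set_option autoImplicit false
open scoped MatrixGroups

namespace Cfsg.Agent.Lib.Helper22.SubfR

open Polynomial Matrix

universe v

variable {F : Type v} [Field F] [Fintype F]

/-- no `r`-torsion in `F^*` when `r ∤ q - 1` -/
theorem eq_one_of_pow_eq_one (r : ℕ) (hr : r.Prime) (hrq : ¬ r ∣ Fintype.card F - 1) (a : F)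
    (ha : a ^ r = 1) : a = 1 := by
  classical
  have ha0 : a ≠ 0 := by
    rintro rfl
    rw [zero_pow hr.ne_zero] at ha
    exact zero_ne_one ha
  set au : Fˣ := Units.mk0 a ha0 with hau
  have h1 : au ^ r = 1 := by
    apply Units.ext
    rw [Units.val_pow_eq_pow_val, Units.val_one, hau, Units.val_mk0, ha]
  have h2 : orderOf au ∣ r := orderOf_dvd_of_pow_eq_one h1
  have h3 : orderOf au ∣ Fintype.card F - 1 := by
    rw [← Fintype.card_units]
    exact orderOf_dvd_card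
  rcases (Nat.dvd_prime hr).1 h2 with h4 | h4
  · rw [orderOf_eq_one_iff] at h4
    have := congrArg Units.val h4
    simpa [hau] using this
  · rw [h4] at h3
    exact absurd h3 hrq

/-- an irreducible factor of the `r`-th cyclotomic part -/
theorem exists_irreducible_factor_geom (r : ℕ) (hr : r.Prime) (hr2 : r ≠ 2) (hrF : (r : F) ≠ 0) :
    ∃ g : F[X], g.Monic ∧ Irreducible g ∧ g ∣ X ^ r - 1 ∧ g.eval 1 ≠ 0 := by
  classical
  set Φ : F[X] := ∑ j ∈ Finset.range r, X ^ j with hΦ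
  have hmul : (X - 1) * Φ = X ^ r - 1 := mul_geom_sum X r
  have hΦ1 : Φ.eval 1 = (r : F) := by
    rw [hΦ, eval_finset_sum]
    simp
  have hΦ0 : Φ ≠ 0 := by
    intro h
    rw [h, eval_zero] at hΦ1
    exact hrF hΦ1.symm
  have hdeg : Φ.natDegree = r - 1 := by
    have h1 := congrArg natDegree hmul
    have hX1 : (X - 1 : F[X]) ≠ 0 := X_sub_C_ne_zero 1
    rw [natDegree_mul hX1 hΦ0] at h1
    have h2 : (X - 1 : F[X]).natDegree = 1 := natDegree_X_sub_C 1
    have h3 : (X ^ r - 1 : F[X]).natDegree = r := natDegree_X_pow_sub_C (n := r) (r := (1 : F))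
    rw [h2, h3] at h1
    omega
  have hnu : ¬ IsUnit Φ := by
    apply not_isUnit_of_natDegree_pos
    rw [hdeg]
    have := hr.two_le
    omega
  obtain ⟨g, hmon, hirr, hdvd⟩ := exists_monic_irreducible_factor Φ hnu
  refine ⟨g, hmon, hirr, ?_, ?_⟩
  · rw [← hmul]
    exact Dvd.dvd.mul_left hdvd _
  · intro h0
    obtain ⟨h, hh⟩ := hdvd
    rw [hh, eval_mul, h0, zero_mul] at hΦ1
    exact hrF hΦ1.symm

theorem exists_block_matrix (p : ℕ) [Fact p.Prime] [CharP F p] (r : ℕ) (hr : r.Prime)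
    (hr2 : r ≠ 2) (hrp : r ≠ p) (hrq : ¬ r ∣ Fintype.card F - 1) (n m : ℕ) (hm1 : 1 ≤ m)
    (hmn : m ≤ n) (hrm : r ∣ Fintype.card F ^ m - 1) :
    ∃ (g : F[X]) (M : Matrix (Fin n) (Fin n) F), Irreducible g ∧ g.Monic ∧ g ∣ X ^ r - 1 ∧
      g.eval 1 ≠ 0 ∧ g.natDegree ≤ n ∧ M.charpoly = (X - 1) ^ (n - g.natDegree) * g ∧
      M ^ r = 1 ∧ M.det = 1 ∧ ∀ z : F, M ≠ z • 1 := by
  classical
  have hp : p.Prime := Fact.out
  have hrF : (r : F) ≠ 0 := by
    intro h0
    rw [CharP.cast_eq_zero_iff F p] at h0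
    exact hrp ((Nat.prime_dvd_prime_iff_eq hp hr).1 h0).symm
  obtain ⟨g, hmon, hirr, hdvd, hg1⟩ := exists_irreducible_factor_geom r hr hr2 hrF
  have hdm : g.natDegree ≤ m := natDegree_le_of_dvd p g hirr r hdvd m hm1 hrm
  have hdn : g.natDegree ≤ n := le_trans hdm hmn
  set d := g.natDegree with hd
  set χ : F[X] := (X - 1) ^ (n - d) * g with hχ
  have hXC : (X - 1 : F[X]) = X - C 1 := by simp
  have hXm : (X - 1 : F[X]).Monic := by rw [hXC]; exact monic_X_sub_C 1
  have hXd : (X - 1 : F[X]).natDegree = 1 := by rw [hXC]; exact natDegree_X_sub_C 1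
  have hX1mon : ((X - 1 : F[X]) ^ (n - d)).Monic := hXm.pow _
  have hχmon : χ.Monic := hX1mon.mul hmon
  have hχdeg : χ.natDegree = n := by
    rw [hχ, hX1mon.natDegree_mul hmon, hXm.natDegree_pow, hXd]
    omega
  have hg0 : g.eval 0 ≠ 0 := by
    intro h0
    obtain ⟨h, hh⟩ := hdvd
    have := congrArg (eval 0) hh
    rw [eval_mul, h0, zero_mul, eval_sub, eval_pow, eval_X, eval_one, zero_pow hr.ne_zero,
      zero_sub] at this
    exact one_ne_zero (neg_eq_zero.1 this)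
  have hχ0 : χ.coeff 0 ≠ 0 := by
    rw [coeff_zero_eq_eval_zero, hχ, eval_mul, eval_pow, eval_sub, eval_X, eval_one, zero_sub]
    exact mul_ne_zero (pow_ne_zero _ (neg_ne_zero.2 one_ne_zero)) hg0
  obtain ⟨M, hM, N, hN, hMN⟩ :=
    Cfsg.Agent.Lib.Helper15.SemisimpleCount.exists_matrix_of_charpoly n χ hχmon hχdeg hχ0
  -- M ^ r = 1
  have hMr : M ^ r = 1 := by
    have h1 : minpoly F M ∣ X ^ N - C 1 := by
      apply minpoly.dvd
      rw [map_sub, map_pow, aeval_X, aeval_C, hMN, map_one, sub_self]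
    have hsq : Squarefree (minpoly F M) :=
      Squarefree.squarefree_of_dvd h1 (separable_X_pow_sub_C (1 : F) hN one_ne_zero).squarefree
    have h2 : minpoly F M ∣ χ := by
      rw [← hM]
      exact Matrix.minpoly_dvd_charpoly M
    have hX1 : (X - 1 : F[X]) ∣ X ^ r - 1 := by
      have := sub_dvd_pow_sub_pow (X : F[X]) 1 r
      rwa [one_pow] at this
    have h3 : χ ∣ (X ^ r - 1) ^ (n - d + 1) := by
      rw [hχ, pow_succ]
      exact mul_dvd_mul (pow_dvd_pow_of_dvd hX1 _) hdvd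
    have h4 : minpoly F M ∣ X ^ r - 1 :=
      (hsq.dvd_pow_iff_dvd (Nat.succ_ne_zero _)).1 (dvd_trans h2 h3)
    obtain ⟨h, hh⟩ := h4
    have h5 : aeval M (X ^ r - 1 : F[X]) = 0 := by
      rw [hh, map_mul, minpoly.aeval, zero_mul]
    rw [map_sub, map_pow, aeval_X, map_one, sub_eq_zero] at h5
    exact h5
  have hdet : M.det = 1 := by
    apply eq_one_of_pow_eq_one r hr hrq
    rw [← Matrix.det_pow, hMr, Matrix.det_one]
  refine ⟨g, M, hirr, hmon, hdvd, hg1, hdn, hM, hMr, hdet, ?_⟩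
  intro z hz
  have h1 : M.charpoly = (X - C z) ^ n := by
    have : M = Matrix.diagonal (fun _ : Fin n => z) := by
      rw [hz]
      ext i j
      by_cases hij : i = j
      · subst hij; simp
      · simp [Matrix.diagonal_apply_ne _ hij, Matrix.one_apply_ne hij]
    rw [this, Matrix.charpoly_diagonal, Finset.prod_const, Finset.card_univ, Fintype.card_fin]
  have h2 : g ∣ (X - C z) ^ n := by
    rw [← h1, hM]
    exact Dvd.intro_left _ rfl
  have h3 : g ∣ X - C z := hirr.prime.dvd_of_dvd_pow h2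
  have h4 : X - C z ∣ g := (hirr.dvd_symm (irreducible_X_sub_C z)) h3
  have h5 : g.IsRoot z := dvd_iff_isRoot.1 h4
  have h6 : (X ^ r - 1 : F[X]).IsRoot z := by
    obtain ⟨h, hh⟩ := hdvd
    rw [IsRoot, hh, eval_mul, h5, zero_mul]
  rw [IsRoot, eval_sub, eval_pow, eval_X, eval_one, sub_eq_zero] at h6
  have h7 := eq_one_of_pow_eq_one r hr hrq z h6
  rw [h7] at h5
  exact hg1 h5

end Cfsg.Agent.Lib.Helper22.SubfR
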