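import Mathlib
import Cfsg.Agent.Lib.Helper22.UnitRC
import Cfsg.Agent.Lib.Helper22.SubfRL
import Cfsg.Agent.Lib.Helper22.SubfRC

/-! Consequences of being conjugate into the similarity group of a unitary form: the twisted
reciprocal characteristic polynomial, and stability of eigenvalue multiplicities. -/

set_option autoImplicit false
open scoped MatrixGroups

namespace Cfsg.Agent.Lib.Helper22.UnitR

open Matrix Module Polynomial Cfsg.Agent.Lib.Helper14 Cfsg.Agent.Lib.Helper15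

variable {F : Type*} [Field F] [Fintype F]

omit [Fintype F] in
/-- if `x` is conjugate into the model then a scalar multiple of a conjugate of `x` is unitary -/
theorem exists_of_good {q₀ : ℕ} (n : ℕ) (S x g : GL (Fin n) F)
    (h : UniUpTo F q₀ n ((S⁻¹ * (g⁻¹ * x * g) * S : GL (Fin n) F) : Matrix (Fin n) (Fin n) F)) :
    ∃ (u : F) (P : GL (Fin n) F), u ≠ 0 ∧
      IsUni F q₀ n (u⁻¹ • ((P⁻¹ * x * P : GL (Fin n) F) : Matrix (Fin n) (Fin n) F)) := by
  obtain ⟨u, hu, hU⟩ := h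
  refine ⟨u, g * S, hu, ?_⟩
  have h1 : (g * S)⁻¹ * x * (g * S) = S⁻¹ * (g⁻¹ * x * g) * S := by group
  rw [h1]
  exact hU

omit [Fintype F] in
/-- the scaled conjugate as a conjugate of the scaled matrix -/
theorem smul_conj_eq {n : ℕ} (x P : GL (Fin n) F) (c : F) :
    c • ((P⁻¹ * x * P : GL (Fin n) F) : Matrix (Fin n) (Fin n) F) =
      ((P⁻¹ : GL (Fin n) F) : Matrix (Fin n) (Fin n) F) *
        (c • (x : Matrix (Fin n) (Fin n) F)) * (P : Matrix (Fin n) (Fin n) F) := by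
  rw [Units.val_mul, Units.val_mul, Matrix.mul_smul, Matrix.smul_mul]

omit [Fintype F] in
theorem charpoly_smul_conj {n : ℕ} (x P : GL (Fin n) F) (c : F) :
    (c • ((P⁻¹ * x * P : GL (Fin n) F) : Matrix (Fin n) (Fin n) F)).charpoly =
      (c • (x : Matrix (Fin n) (Fin n) F)).charpoly := by
  rw [smul_conj_eq]
  refine Cfsg.Agent.Lib.Helper22.SubfR.charpoly_conj_of_inv _ _ _ ?_ ?_
  · rw [← Units.val_mul, inv_mul_cancel, Units.val_one]
  · rw [← Units.val_mul, mul_inv_cancel, Units.val_one]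

omit [Fintype F] in
theorem pow_smul_conj {n : ℕ} (x P : GL (Fin n) F) (c : F) (k : ℕ) :
    (c • ((P⁻¹ * x * P : GL (Fin n) F) : Matrix (Fin n) (Fin n) F)) ^ k =
      ((P⁻¹ : GL (Fin n) F) : Matrix (Fin n) (Fin n) F) *
        (c • (x : Matrix (Fin n) (Fin n) F)) ^ k * (P : Matrix (Fin n) (Fin n) F) := by
  rw [smul_conj_eq]
  induction k with
  | zero =>
    rw [pow_zero, pow_zero, Matrix.mul_one, ← Units.val_mul, inv_mul_cancel, Units.val_one]
  | succ k ih =>
    rw [pow_succ, ih, pow_succ]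
    have hPP : (P : Matrix (Fin n) (Fin n) F) * ((P⁻¹ : GL (Fin n) F) : Matrix (Fin n) (Fin n) F)
        = 1 := by
      rw [← Units.val_mul, mul_inv_cancel, Units.val_one]
    calc ((P⁻¹ : GL (Fin n) F) : Matrix (Fin n) (Fin n) F) *
          (c • (x : Matrix (Fin n) (Fin n) F)) ^ k * (P : Matrix (Fin n) (Fin n) F) *
          (((P⁻¹ : GL (Fin n) F) : Matrix (Fin n) (Fin n) F) *
            (c • (x : Matrix (Fin n) (Fin n) F)) * (P : Matrix (Fin n) (Fin n) F))
        = ((P⁻¹ : GL (Fin n) F) : Matrix (Fin n) (Fin n) F) *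
          (c • (x : Matrix (Fin n) (Fin n) F)) ^ k * ((P : Matrix (Fin n) (Fin n) F) *
          ((P⁻¹ : GL (Fin n) F) : Matrix (Fin n) (Fin n) F)) *
            (c • (x : Matrix (Fin n) (Fin n) F)) * (P : Matrix (Fin n) (Fin n) F) := by
          simp only [Matrix.mul_assoc]
      _ = _ := by rw [hPP, Matrix.mul_one]; simp only [Matrix.mul_assoc]

/-- the twisted reciprocal of a linear factor -/
theorem star_X_sub_C (σ : F →+* F) (b : F) (hb : b ≠ 0) :
    StarPoly.star σ (X - C b : F[X]) = X - C (σ b)⁻¹ := by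
  have hd : (X - C b : F[X]).natDegree = 1 := natDegree_X_sub_C b
  have hc0 : (X - C b : F[X]).coeff 0 = -b := by
    rw [coeff_sub, coeff_X_zero, coeff_C_zero, zero_sub]
  have hc1 : (X - C b : F[X]).coeff 1 = 1 := by
    rw [coeff_sub, coeff_X_one, coeff_C, if_neg (by norm_num), sub_zero]
  have hσb : σ b ≠ 0 := (map_ne_zero σ).2 hb
  ext j
  rcases Nat.lt_or_ge 1 j with hj | hj
  · rw [StarPoly.coeff_star_of_lt σ _ j (by rw [hd]; exact hj), coeff_eq_zero_of_natDegree_lt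
      (by rw [natDegree_X_sub_C]; exact hj)]
  · rw [StarPoly.coeff_star σ _ j (by rw [hd]; exact hj), hd, hc0, map_neg]
    interval_cases j
    · rw [Nat.sub_zero, hc1, map_one, mul_one, coeff_sub, coeff_X_zero, coeff_C_zero, zero_sub,
        inv_neg]
    · rw [Nat.sub_self, hc0, map_neg, inv_mul_cancel₀ (neg_ne_zero.2 hσb), coeff_sub, coeff_X_one,
        coeff_C, if_neg (by norm_num), sub_zero]

/-- stability of the multiplicities of the roots of a split self-reciprocal polynomial -/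
theorem stable_of_star [DecidableEq F] {q₀ : ℕ} (hF : Fintype.card F = q₀ ^ 2) (σ : F →+* F)
    (hσ : ∀ c, σ c = c ^ q₀) (n : ℕ) (b : Fin n → F) (hb : ∀ j, b j ≠ 0)
    (hstar : StarPoly.star σ (∏ j : Fin n, (X - C (b j))) = ∏ j : Fin n, (X - C (b j)))
    (a : F) :
    (Finset.univ.filter (fun j : Fin n => b j = a ^ (q₀ ^ 2 - 1 - q₀))).card =
      (Finset.univ.filter (fun j : Fin n => b j = a)).card := by
  have hq2 := herm_two_le hF
  have hσσ : ∀ c, σ (σ c) = c := by
    intro c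
    rw [hσ, hσ, ← pow_mul, ← sq, herm_pow_card hF]
  have hN : q₀ ^ 2 - 1 - q₀ + q₀ = q₀ ^ 2 - 1 := by
    have : q₀ + 1 ≤ q₀ ^ 2 := by nlinarith
    omega
  have hN1 : 1 ≤ q₀ ^ 2 - 1 - q₀ := by
    have : 2 * q₀ ≤ q₀ ^ 2 := by nlinarith
    omega
  by_cases ha : a = 0
  · subst ha
    rw [zero_pow (by omega)]
  have h1 : StarPoly.star σ (∏ j : Fin n, (X - C (b j))) =
      ∏ j : Fin n, (X - C ((fun j => (σ (b j))⁻¹) j)) := by
    rw [StarPoly.star_prod]
    exact Finset.prod_congr rfl (fun j _ => star_X_sub_C σ (b j) (hb j))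
  rw [h1] at hstar
  have h2 := congrArg (rootMultiplicity a) hstar
  rw [Cfsg.Agent.Lib.Helper22.SubfR.rootMultiplicity_prod_X_sub_C,
    Cfsg.Agent.Lib.Helper22.SubfR.rootMultiplicity_prod_X_sub_C] at h2
  rw [← h2]
  congr 1
  apply Finset.filter_congr
  intro j _
  have haN : a ^ (q₀ ^ 2 - 1 - q₀) = (σ a)⁻¹ := by
    have h3 : a ^ (q₀ ^ 2 - 1 - q₀) * σ a = 1 := by
      rw [hσ, ← pow_add, hN, ← hF]
      exact FiniteField.pow_card_sub_one_eq_one a ha
    exact eq_inv_of_mul_eq_one_left h3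
  rw [haN]
  constructor
  · intro h
    rw [h, map_inv₀, hσσ, inv_inv]
  · intro h
    rw [← h, map_inv₀, hσσ, inv_inv]

/-- stability for a fixed scalar -/
def Stable [DecidableEq F] (N : ℕ) {n : ℕ} (d : Fin n → F) : Prop :=
  ∃ c : F, c ≠ 0 ∧ ∀ a : F,
    (Finset.univ.filter (fun j : Fin n => c * d j = a ^ N)).card =
      (Finset.univ.filter (fun j : Fin n => c * d j = a)).card

/-- a diagonal element conjugate into the model has stable multiplicities -/
theorem stable_of_good [DecidableEq F] {q₀ : ℕ} (hF : Fintype.card F = q₀ ^ 2) (σ : F →+* F)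
    (hσ : ∀ c, σ c = c ^ q₀) (n : ℕ) (d : Fin n → F) (hd : ∀ j, d j ≠ 0)
    (S x g : GL (Fin n) F) (hx : (x : Matrix (Fin n) (Fin n) F) = Matrix.diagonal d)
    (h : UniUpTo F q₀ n ((S⁻¹ * (g⁻¹ * x * g) * S : GL (Fin n) F) : Matrix (Fin n) (Fin n) F)) :
    Stable (q₀ ^ 2 - 1 - q₀) d := by
  obtain ⟨u, P, hu, hU⟩ := exists_of_good n S x g h
  have h1 := UnitaryCent.charpoly_unitary hF σ hσ _ hU
  rw [charpoly_smul_conj, hx] at h1
  have hdiag : u⁻¹ • Matrix.diagonal d = Matrix.diagonal (fun j => u⁻¹ * d j) := by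
    ext i j
    by_cases hij : i = j
    · subst hij
      simp
    · simp [Matrix.diagonal_apply_ne _ hij]
  rw [hdiag, Matrix.charpoly_diagonal] at h1
  refine ⟨u⁻¹, inv_ne_zero hu, fun a => ?_⟩
  exact stable_of_star hF σ hσ n (fun j => u⁻¹ * d j)
    (fun j => mul_ne_zero (inv_ne_zero hu) (hd j)) h1 a

end Cfsg.Agent.Lib.Helper22.UnitR
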