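import Mathlib
import Cfsg.Agent.Lib.Helper22.OrthRA
import Cfsg.Agent.Lib.Helper22.UnitRD
import Cfsg.Agent.Lib.Helper22.SubfRO
import Cfsg.Agent.Lib.Helper22.SubfRJ
import Cfsg.Agent.Lib.Helper15.OrthReal
import Cfsg.Agent.Lib.Helper15.StarPoly

/-! Elements of `SL_n(F)` which do not scale any nondegenerate quadratic form: general reductions,
unstable diagonal elements and block elements. -/

set_option autoImplicit false
open scoped MatrixGroups

namespace Cfsg.Agent.Lib.Helper22.OrthR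

open Matrix QuadraticMap Module Polynomial Cfsg.Agent.Lib.Helper15 Cfsg.Agent.Lib.Helper22.UnitR
  Cfsg.Agent.Lib.Helper22.SubfR

variable {F : Type*} [Field F]

/-- the form `w ↦ Q (g⁻¹ w)` -/
theorem comp_form {n : ℕ} (Q : QuadraticForm F (Fin n → F)) (hQ : (polarBilin Q).Nondegenerate)
    (g : GL (Fin n) F) :
    ∃ Q' : QuadraticForm F (Fin n → F), (polarBilin Q').Nondegenerate ∧
      ∀ w, Q' w = Q (((g⁻¹ : GL (Fin n) F) : Matrix (Fin n) (Fin n) F) *ᵥ w) := by
  set L : (Fin n → F) →ₗ[F] (Fin n → F) :=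
    Matrix.toLin' ((g⁻¹ : GL (Fin n) F) : Matrix (Fin n) (Fin n) F) with hL
  have hLv : ∀ w, L w = ((g⁻¹ : GL (Fin n) F) : Matrix (Fin n) (Fin n) F) *ᵥ w := by
    intro w
    rw [hL, Matrix.toLin'_apply]
  have hLg : ∀ w, L ((g : Matrix (Fin n) (Fin n) F) *ᵥ w) = w := by
    intro w
    rw [hLv, Matrix.mulVec_mulVec, ← Units.val_mul, inv_mul_cancel, Units.val_one,
      Matrix.one_mulVec]
  have hgL : ∀ w, (g : Matrix (Fin n) (Fin n) F) *ᵥ (L w) = w := by
    intro w
    rw [hLv, Matrix.mulVec_mulVec, ← Units.val_mul, mul_inv_cancel, Units.val_one,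
      Matrix.one_mulVec]
  refine ⟨Q.comp L, ?_, fun w => ?_⟩
  · have hpol : ∀ x y, polar (Q.comp L) x y = polar Q (L x) (L y) := by
      intro x y
      unfold polar
      rw [QuadraticMap.comp_apply, QuadraticMap.comp_apply, QuadraticMap.comp_apply, map_add]
    have key : ∀ x, L x = 0 → x = 0 := by
      intro x hx
      rw [← hgL x, hx, Matrix.mulVec_zero]
    constructor
    · intro x hx
      apply key
      apply hQ.1
      intro y
      have := hx ((g : Matrix (Fin n) (Fin n) F) *ᵥ y)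
      rw [polarBilin_apply_apply, hpol, hLg] at this
      rw [polarBilin_apply_apply]
      exact this
    · intro y hy
      apply key
      apply hQ.2
      intro x
      have := hy ((g : Matrix (Fin n) (Fin n) F) *ᵥ x)
      rw [polarBilin_apply_apply, hpol, hLg] at this
      rw [polarBilin_apply_apply]
      exact this
  · rw [QuadraticMap.comp_apply, hLv]

/-- a nondegenerate form in odd characteristic is not identically zero -/
theorem exists_ne_zero (h2 : (2 : F) ≠ 0) {n : ℕ} (hn : 1 ≤ n) (Q : QuadraticForm F (Fin n → F))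
    (hQ : (polarBilin Q).Nondegenerate) : ∃ v, Q v ≠ 0 := by
  by_contra hall
  push Not at hall
  have : (Pi.single (⟨0, by omega⟩ : Fin n) (1 : F) : Fin n → F) = 0 := by
    apply hQ.1
    intro y
    rw [polarBilin_apply_apply, polar, hall, hall, hall]
    simp
  have h1 := congrFun this ⟨0, by omega⟩
  simp at h1

/-- for odd `r`, a similarity whose `r`-th power is scalar is a scalar multiple of an isometry -/
theorem isometry_of_sim {n : ℕ} (Q : QuadraticForm F (Fin n → F)) (v₀ : Fin n → F)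
    (hv₀ : Q v₀ ≠ 0) (r : ℕ) (hr : Odd r) (A : Matrix (Fin n) (Fin n) F) (z : F) (hz : z ≠ 0)
    (hA : A ^ r = z • 1) (hsim : IsSim (⇑Q) A) :
    ∃ s : F, s ≠ 0 ∧ s ^ r = z ∧ ∀ v, Q ((s⁻¹ • A) *ᵥ v) = Q v := by
  obtain ⟨c, hc0, hc⟩ := hsim
  have hpow : ∀ (k : ℕ) (v : Fin n → F), Q ((A ^ k) *ᵥ v) = c ^ k * Q v := by
    intro k
    induction k with
    | zero => intro v; simp
    | succ k ih =>
      intro v
      rw [pow_succ', ← Matrix.mulVec_mulVec, hc, ih, pow_succ']
      ring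
  have hcr : c ^ r = z * z := by
    have h1 := hpow r v₀
    rw [hA, Matrix.smul_mulVec, Matrix.one_mulVec, QuadraticMap.map_smul, smul_eq_mul] at h1
    exact (mul_right_cancel₀ hv₀ h1).symm
  obtain ⟨t, ht⟩ := hr
  obtain ⟨s, hsdef⟩ : ∃ s : F, s = c ^ (t + 1) / z := ⟨_, rfl⟩
  have hs0 : s ≠ 0 := by
    rw [hsdef]
    exact div_ne_zero (pow_ne_zero _ hc0) hz
  have hsr : s ^ r = z := by
    rw [hsdef, div_pow, ← pow_mul, mul_comm, pow_mul, hcr, ht]
    field_simp
    ring
  have hss : s * s = c := by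
    have h1 : c ^ (t + 1) * c ^ (t + 1) = c ^ r * c := by
      rw [ht, ← pow_add, ← pow_succ]
      congr 1
      ring
    rw [hsdef, div_mul_div_comm, h1, hcr]
    field_simp
  refine ⟨s, hs0, hsr, fun v => ?_⟩
  rw [Matrix.smul_mulVec, QuadraticMap.map_smul, hc, smul_eq_mul]
  have h3 : s⁻¹ * s⁻¹ * c = 1 := by
    rw [← hss]
    field_simp
  calc s⁻¹ * s⁻¹ * (c * Q v) = (s⁻¹ * s⁻¹ * c) * Q v := by ring
    _ = Q v := by rw [h3, one_mul]

section finite

variable [Fintype F]

/-- stability (for the inverse map) of the multiplicities of the roots of a split self-reciprocal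
polynomial -/
theorem stable_of_star_id [DecidableEq F] (hq3 : 3 ≤ Fintype.card F) (n : ℕ) (b : Fin n → F)
    (hb : ∀ j, b j ≠ 0)
    (hstar : StarPoly.star (RingHom.id F) (∏ j : Fin n, (X - C (b j))) =
      ∏ j : Fin n, (X - C (b j))) (a : F) :
    (Finset.univ.filter (fun j : Fin n => b j = a ^ (Fintype.card F - 2))).card =
      (Finset.univ.filter (fun j : Fin n => b j = a)).card := by
  by_cases ha : a = 0
  · subst ha
    rw [zero_pow (by omega)]
  have h1 : StarPoly.star (RingHom.id F) (∏ j : Fin n, (X - C (b j))) =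
      ∏ j : Fin n, (X - C ((fun j => (b j)⁻¹) j)) := by
    rw [StarPoly.star_prod]
    exact Finset.prod_congr rfl (fun j _ => star_X_sub_C (RingHom.id F) (b j) (hb j))
  rw [h1] at hstar
  have h2 := congrArg (rootMultiplicity a) hstar
  rw [rootMultiplicity_prod_X_sub_C, rootMultiplicity_prod_X_sub_C] at h2
  rw [← h2]
  congr 1
  apply Finset.filter_congr
  intro j _
  have haN : a ^ (Fintype.card F - 2) = a⁻¹ := by
    have h3 : a ^ (Fintype.card F - 2) * a = 1 := by
      rw [← pow_succ]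
      have : Fintype.card F - 2 + 1 = Fintype.card F - 1 := by omega
      rw [this]
      exact FiniteField.pow_card_sub_one_eq_one a ha
    exact eq_inv_of_mul_eq_one_left h3
  rw [haN]
  constructor
  · intro h
    rw [h, inv_inv]
  · intro h
    rw [← h, inv_inv]

/-- an unstable diagonal matrix scales no nondegenerate quadratic form -/
theorem bad_diag [DecidableEq F] (h2 : (2 : F) ≠ 0) (hq3 : 3 ≤ Fintype.card F) {n : ℕ}
    (hn : 1 ≤ n) (r : ℕ) (hr : Odd r) (d : Fin n → F) (z : F) (hprod : ∏ j, d j = 1)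
    (hpow : ∀ j, d j ^ r = z) (hunst : ¬ Stable (Fintype.card F - 2) d)
    (Q : QuadraticForm F (Fin n → F)) (hQ : (polarBilin Q).Nondegenerate) :
    ¬ IsSim (⇑Q) (Matrix.diagonal d) := by
  intro hsim
  have hd0 : ∀ j, d j ≠ 0 := by
    intro j hj
    have : ∏ j, d j = 0 := Finset.prod_eq_zero (Finset.mem_univ j) hj
    rw [hprod] at this
    exact one_ne_zero this
  have hz : z ≠ 0 := by
    rw [← hpow ⟨0, by omega⟩]
    exact pow_ne_zero _ (hd0 _)
  have hA : (Matrix.diagonal d) ^ r = z • 1 := by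
    rw [Matrix.diagonal_pow]
    ext i j
    by_cases hij : i = j
    · subst hij
      simp only [Matrix.diagonal_apply_eq, Pi.pow_apply, Matrix.smul_apply, Matrix.one_apply_eq,
        smul_eq_mul, mul_one]
      exact hpow i
    · simp [Matrix.diagonal_apply_ne _ hij, Matrix.one_apply_ne hij]
  obtain ⟨v₀, hv₀⟩ := exists_ne_zero h2 hn Q hQ
  obtain ⟨s, hs0, -, hiso⟩ := isometry_of_sim Q v₀ hv₀ r hr _ z hz hA hsim
  have hdiag : s⁻¹ • Matrix.diagonal d = Matrix.diagonal (fun j => s⁻¹ * d j) := by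
    ext i j
    by_cases hij : i = j
    · subst hij
      simp
    · simp [Matrix.diagonal_apply_ne _ hij]
  rw [hdiag] at hiso
  have hAAi : Matrix.diagonal (fun j => s⁻¹ * d j) * Matrix.diagonal (fun j => s * (d j)⁻¹) =
      1 := by
    rw [Matrix.diagonal_mul_diagonal, ← Matrix.diagonal_one]
    congr 1
    funext j
    have := hd0 j
    field_simp
  have h1 := OrthReal.charpoly_isometry Q hQ _ _ hAAi hiso
  rw [Matrix.charpoly_diagonal] at h1
  apply hunst
  refine ⟨s⁻¹, inv_ne_zero hs0, fun a => ?_⟩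
  exact stable_of_star_id hq3 n (fun j => s⁻¹ * d j)
    (fun j => mul_ne_zero (inv_ne_zero hs0) (hd0 j)) h1 a

/-- the block element scales no nondegenerate quadratic form when `q` has odd order modulo `r`
(witnessed by an odd `j ≤ n`) and `r ∤ q - 1` -/
theorem bad_block {p : ℕ} [Fact p.Prime] [CharP F p] (hp2 : p ≠ 2) (r : ℕ) (hr : r.Prime)
    (hr2 : r ≠ 2) (hrp : r ≠ p) (hrq : ¬ r ∣ Fintype.card F - 1) (n j : ℕ) (hj1 : 1 ≤ j)
    (hjn : j ≤ n) (hjodd : Odd j) (hrj : r ∣ Fintype.card F ^ j - 1) :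
    ∃ M : Matrix (Fin n) (Fin n) F, M.det = 1 ∧ M ^ r = 1 ∧ (∀ z : F, M ≠ z • 1) ∧
      ∀ Q : QuadraticForm F (Fin n → F), (polarBilin Q).Nondegenerate → ¬ IsSim (⇑Q) M := by
  classical
  have : Fact r.Prime := ⟨hr⟩
  have hp : p.Prime := Fact.out
  have h2 : (2 : F) ≠ 0 := by
    have h2F : ((2 : ℕ) : F) ≠ 0 := by
      intro h0
      rw [CharP.cast_eq_zero_iff F p] at h0
      exact hp2 ((Nat.prime_dvd_prime_iff_eq hp Nat.prime_two).1 h0)
    exact_mod_cast h2F
  have hn1 : 1 ≤ n := le_trans hj1 hjn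
  obtain ⟨g₀, M, hirr, hmon, hdvd, hg1, hdn, hM, hMr, hdet, hns⟩ :=
    exists_block_matrix p r hr hr2 hrp hrq n j hj1 hjn hrj
  refine ⟨M, hdet, hMr, hns, ?_⟩
  intro Q hQ hsim
  obtain ⟨v₀, hv₀⟩ := exists_ne_zero h2 hn1 Q hQ
  obtain ⟨s, hs0, hsr, hiso⟩ := isometry_of_sim Q v₀ hv₀ r (hr.odd_of_ne_two hr2) M 1
    one_ne_zero (by rw [one_smul]; exact hMr) hsim
  have hs1 : s = 1 := eq_one_of_pow_eq_one r hr hrq s hsr
  rw [hs1, inv_one, one_smul] at hiso
  have hMMi : M * M ^ (r - 1) = 1 := by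
    rw [← pow_succ', Nat.sub_add_cancel hr.one_le, hMr]
  have h6 := OrthReal.charpoly_isometry Q hQ M (M ^ (r - 1)) hMMi hiso
  rw [hM, StarPoly.star_mul, StarPoly.star_pow, StarPoly.star_X_sub_one] at h6
  have hX1 : ((X - 1 : F[X]) ^ (n - g₀.natDegree)) ≠ 0 := by
    apply pow_ne_zero
    have : (X - 1 : F[X]) = X - C 1 := by rw [C_1]
    rw [this]
    exact X_sub_C_ne_zero 1
  have h8 : StarPoly.star (RingHom.id F) g₀ = g₀ := mul_left_cancel₀ hX1 h6
  have hne : g₀ ≠ X - 1 := by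
    intro h
    apply hg1
    rw [h, eval_sub, eval_X, eval_one, sub_self]
  obtain ⟨m, hm⟩ := (StarPoly.star_eq_self_iff p 0 (RingHom.id F) (fun c => by simp)
    (fun c => rfl) r hr g₀ hmon hirr hdvd hne).1 h8
  rw [Nat.card_eq_fintype_card] at hm
  push_cast at hm
  have hqj : ((Fintype.card F : ℕ) : ZMod r) ^ j = 1 :=
    (dvd_pow_sub_one_iff r _ j Fintype.card_pos).1 hrj
  have hqm : ((Fintype.card F : ℕ) : ZMod r) ^ m = -1 := by
    have : (1 : ZMod r) + ((Fintype.card F : ℕ) : ZMod r) ^ m = 0 := by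
      simpa using hm
    exact eq_neg_of_add_eq_zero_right this
  have h10 : (-1 : ZMod r) = 1 := by
    calc (-1 : ZMod r) = (-1) ^ j := (hjodd.neg_one_pow).symm
      _ = (((Fintype.card F : ℕ) : ZMod r) ^ m) ^ j := by rw [hqm]
      _ = (((Fintype.card F : ℕ) : ZMod r) ^ j) ^ m := by rw [← pow_mul, ← pow_mul, mul_comm]
      _ = 1 := by rw [hqj, one_pow]
  have h11 : ((2 : ℕ) : ZMod r) = 0 := by
    have : (2 : ZMod r) = 1 - (-1) := by ring
    push_cast
    rw [this, h10, sub_self]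
  rw [ZMod.natCast_eq_zero_iff] at h11
  have := Nat.le_of_dvd (by norm_num) h11
  have := hr.two_le
  omega

end finite

end Cfsg.Agent.Lib.Helper22.OrthR
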