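import Mathlib
import Cfsg.Agent.Lib.Helper22.OrthRG

/-! A transvection scales no nondegenerate quadratic form in odd characteristic. -/

set_option autoImplicit false
open scoped MatrixGroups

namespace Cfsg.Agent.Lib.Helper22.OrthR

open Matrix QuadraticMap Module

variable {F : Type*} [Field F]

theorem bad_transvection {p : ℕ} [Fact p.Prime] [CharP F p] (hp2 : p ≠ 2) {n : ℕ} (hn : 2 ≤ n) :
    ∃ M : Matrix (Fin n) (Fin n) F, M.det = 1 ∧ M ^ p = 1 ∧ (∀ z : F, M ≠ z • 1) ∧
      ∀ Q : QuadraticForm F (Fin n → F), (polarBilin Q).Nondegenerate → ¬ IsSim (⇑Q) M := by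
  classical
  have hp : p.Prime := Fact.out
  have h2 : (2 : F) ≠ 0 := by
    have h2F : ((2 : ℕ) : F) ≠ 0 := by
      intro h0
      rw [CharP.cast_eq_zero_iff F p] at h0
      exact hp2 ((Nat.prime_dvd_prime_iff_eq hp Nat.prime_two).1 h0)
    exact_mod_cast h2F
  let i₀ : Fin n := ⟨0, by omega⟩
  let i₁ : Fin n := ⟨1, by omega⟩
  have h01 : i₀ ≠ i₁ := by
    intro h
    have := congrArg Fin.val h
    simp [i₀, i₁] at this
  set M : Matrix (Fin n) (Fin n) F := Matrix.transvection i₀ i₁ 1 with hM
  have hpow : ∀ k : ℕ, M ^ k = Matrix.transvection i₀ i₁ (k : F) := by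
    intro k
    induction k with
    | zero => rw [pow_zero, Nat.cast_zero, Matrix.transvection_zero]
    | succ k ih =>
      rw [pow_succ, ih, hM, Matrix.transvection_mul_transvection_same i₀ i₁ h01, Nat.cast_succ]
  have hMv : ∀ v : Fin n → F, M *ᵥ v = v + v i₁ • Pi.single i₀ (1 : F) := by
    intro v
    rw [hM, Matrix.transvection, Matrix.add_mulVec, Matrix.one_mulVec, Matrix.single_mulVec_eq,
      one_mul]
  refine ⟨M, Matrix.det_transvection_of_ne i₀ i₁ h01 1, ?_, ?_, ?_⟩
  · rw [hpow, CharP.cast_eq_zero, Matrix.transvection_zero]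
  · intro z hz
    have h1 := congrFun (congrFun hz i₀) i₁
    rw [hM, Matrix.transvection, Matrix.add_apply, Matrix.one_apply_ne h01, Matrix.single_apply_same,
      Matrix.smul_apply, Matrix.one_apply_ne h01, smul_zero, zero_add] at h1
    exact one_ne_zero h1
  · intro Q hQ hsim
    obtain ⟨v₀, hv₀⟩ := exists_ne_zero h2 (by omega) Q hQ
    obtain ⟨s, hs0, hsr, hiso⟩ := isometry_of_sim Q v₀ hv₀ p (hp.odd_of_ne_two hp2) M 1
      one_ne_zero (by rw [one_smul, hpow, CharP.cast_eq_zero, Matrix.transvection_zero]) hsim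
    have hs1 : s = 1 := by
      apply frobenius_inj F p
      rw [frobenius_def, frobenius_def, hsr, one_pow]
    rw [hs1, inv_one, one_smul] at hiso
    set e : Fin n → F := Pi.single i₀ 1 with he
    have hei₁ : e i₁ = 0 := by
      rw [he, Pi.single_apply, if_neg (Ne.symm h01)]
    have hei₀ : e i₀ = 1 := by
      rw [he, Pi.single_apply, if_pos rfl]
    -- the linear functional
    have hL : ∀ v : Fin n → F, v i₁ * (v i₁ * Q e + polar Q v e) = 0 := by
      intro v
      have h1 := hiso v
      rw [hMv] at h1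
      have h3 : Q (v + v i₁ • e) = Q v + Q (v i₁ • e) + polar Q v (v i₁ • e) := by
        rw [polar]
        ring
      rw [h3, QuadraticMap.map_smul, polar_smul_right, smul_eq_mul, smul_eq_mul] at h1
      linear_combination h1
    set u : Fin n → F := Pi.single i₁ 1 with hu
    have hui₁ : u i₁ = 1 := by
      rw [hu, Pi.single_apply, if_pos rfl]
    have hLu : Q e + polar Q u e = 0 := by
      have := hL u
      rw [hui₁, one_mul, one_mul] at this
      exact this
    have hLv : ∀ v : Fin n → F, v i₁ * Q e + polar Q v e = 0 := by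
      intro v
      have h1 := hL (u + v)
      have h3 := hL v
      rw [Pi.add_apply, polar_add_left, hui₁] at h1
      linear_combination h1 - h3 - (1 + v i₁) * hLu
    have hQe : Q e = 0 := by
      have h1 := hLv e
      rw [hei₁, zero_mul, zero_add, polar_self, two_nsmul] at h1
      have h4 : 2 * Q e = 0 := by linear_combination h1
      exact (mul_eq_zero.1 h4).resolve_left h2
    have he0 : e = 0 := by
      apply hQ.2
      intro v
      have h1 := hLv v
      rw [hQe, mul_zero, zero_add] at h1
      rw [polarBilin_apply_apply]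
      exact h1
    rw [he0] at hei₀
    exact zero_ne_one hei₀

end Cfsg.Agent.Lib.Helper22.OrthR
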