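import Mathlib
import Cfsg.Agent.Lib.Helper22.UnitRC
import Cfsg.Agent.Lib.Helper14.Unitary2
import Cfsg.Agent.S2643

/-! The index of the similarity group of a unitary form in `SL_n(F)`. -/

set_option autoImplicit false
open scoped MatrixGroups

namespace Cfsg.Agent.Lib.Helper22.UnitR

open Matrix Module Cfsg.Agent.Lib.Helper14 Cfsg.Agent.Lib.Helper15

variable {F : Type*} [Field F] [Fintype F]

/-- `|ker det| * (q - 1) = |GL_n(F)|` -/
theorem card_specialLinear_mul (n : ℕ) (hn : 1 ≤ n) :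
    Nat.card (Cfsg.Geo.specialLinear (Fin n) F) * (Fintype.card F - 1) =
      Nat.card (GL (Fin n) F) := by
  have : Nonempty (Fin n) := ⟨⟨0, hn⟩⟩
  let d : GL (Fin n) F →* Fˣ := Matrix.GeneralLinearGroup.det
  have hsurj : Function.Surjective d := Matrix.GeneralLinearGroup.det_surjective
  have h1 := Subgroup.card_mul_index d.ker
  rw [Subgroup.index_ker] at h1
  have h2 : d.range = ⊤ := MonoidHom.range_eq_top.mpr hsurj
  have h3 : Nat.card ↥d.range = Fintype.card F - 1 := by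
    rw [h2, Nat.card_congr (Subgroup.topEquiv (G := Fˣ)).toEquiv, Nat.card_units,
      Nat.card_eq_fintype_card]
  rw [h3] at h1
  exact h1

/-- the order of `GL_n(q)` in product form -/
theorem card_GL_prod (Q n : ℕ) :
    ∏ i : Fin n, (Q ^ n - Q ^ (i : ℕ)) =
      (∏ i ∈ Finset.range n, Q ^ i) * ∏ i ∈ Finset.range n, (Q ^ (i + 1) - 1) := by
  rw [Fin.prod_univ_eq_prod_range (fun i => Q ^ n - Q ^ i) n]
  rw [← Finset.prod_range_reflect (fun i => Q ^ (i + 1) - 1) n, ← Finset.prod_mul_distrib]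
  apply Finset.prod_congr rfl
  intro i hi
  rw [Finset.mem_range] at hi
  have h1 : n - 1 - i + 1 = n - i := by omega
  rw [h1, Nat.mul_sub, mul_one, ← pow_add]
  congr 2
  omega

/-- the two factors of `q₀^(2(i+1)) - 1` -/
theorem factor_AB (q₀ i : ℕ) (hq₀ : 1 ≤ q₀) :
    (q₀ ^ 2) ^ (i + 1) - 1 =
      (if Even i then q₀ ^ (i + 1) + 1 else q₀ ^ (i + 1) - 1) *
        (if Even i then q₀ ^ (i + 1) - 1 else q₀ ^ (i + 1) + 1) := by
  have h1 : 1 ≤ q₀ ^ (i + 1) := Nat.one_le_pow _ _ hq₀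
  have h2 : (q₀ ^ 2) ^ (i + 1) = q₀ ^ (i + 1) * q₀ ^ (i + 1) := by
    rw [← pow_mul, ← pow_add]
    congr 1
    ring
  obtain ⟨t, ht⟩ : ∃ t, q₀ ^ (i + 1) = t + 1 := ⟨q₀ ^ (i + 1) - 1, by omega⟩
  rw [h2, ht]
  simp only [Nat.add_sub_cancel]
  have h3 : (t + 1) * (t + 1) - 1 = (t + 1 + 1) * t := by
    have : (t + 1) * (t + 1) = (t + 1 + 1) * t + 1 := by ring
    rw [this, Nat.add_sub_cancel]
  split_ifs
  · exact h3
  · rw [h3, mul_comm]

/-- the index of the (model of the) similarity group, up to a factor -/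
theorem index_mul_u {q₀ : ℕ} (hF : Fintype.card F = q₀ ^ 2) (n : ℕ) (hn : 1 ≤ n)
    (S : GL (Fin n) F) (H : Subgroup (GL (Fin n) F))
    (hH : ∀ M : GL (Fin n) F, M ∈ H ↔
      UniUpTo F q₀ n ((S⁻¹ * M * S : GL (Fin n) F) : Matrix (Fin n) (Fin n) F)) :
    ∃ e' : ℕ, H.relIndex (Cfsg.Geo.specialLinear (Fin n) F) * e' =
      (∏ i ∈ Finset.range n, (q₀ ^ 2) ^ i) *
        ∏ i ∈ Finset.range n, (if Even i then q₀ ^ (i + 1) - 1 else q₀ ^ (i + 1) + 1) := by
  classical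
  have hq2 := herm_two_le hF
  set K : Subgroup (GL (Fin n) F) := Cfsg.Geo.specialLinear (Fin n) F with hK
  -- the embedding of SU
  let φ₀ : ↥(Cfsg.SU n F q₀) →* GL (Fin n) F :=
    (MulAut.conj S).toMonoidHom.comp (Cfsg.Agent.S2643.suToGL n F q₀)
  have hφ₀ : ∀ A, φ₀ A = S * Cfsg.Agent.S2643.suToGL n F q₀ A * S⁻¹ := fun A => rfl
  have hφ₀inj : Function.Injective φ₀ := by
    intro A B hAB
    apply Cfsg.Agent.S2643.suToGL_injective
    exact (MulAut.conj S).injective hAB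
  have hval : ∀ A : ↥(Cfsg.SU n F q₀),
      ((Cfsg.Agent.S2643.suToGL n F q₀ A : GL (Fin n) F) : Matrix (Fin n) (Fin n) F) =
        ((A : Matrix.SpecialLinearGroup (Fin n) F) : Matrix (Fin n) (Fin n) F) := fun A => rfl
  have hφK : ∀ A, φ₀ A ∈ K := by
    intro A
    rw [hK, mem_specialLinear_iff, hφ₀, Units.val_mul, Units.val_mul, Matrix.det_mul,
      Matrix.det_mul, hval, (A : Matrix.SpecialLinearGroup (Fin n) F).2, mul_one,
      ← Matrix.det_mul, ← Units.val_mul, mul_inv_cancel, Units.val_one, Matrix.det_one]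
  have hφH : ∀ A, φ₀ A ∈ H := by
    intro A
    rw [hH, hφ₀]
    refine ⟨1, one_ne_zero, ?_⟩
    have h1 : S⁻¹ * (S * Cfsg.Agent.S2643.suToGL n F q₀ A * S⁻¹) * S =
        Cfsg.Agent.S2643.suToGL n F q₀ A := by group
    rw [h1, inv_one, one_smul, hval]
    exact (mem_SU_iff _).1 A.2
  let φ₁ : ↥(Cfsg.SU n F q₀) →* ↥K := φ₀.codRestrict K hφK
  let φ₂ : ↥(Cfsg.SU n F q₀) →* ↥(H.subgroupOf K) :=
    φ₁.codRestrict (H.subgroupOf K) (fun A => by
      rw [Subgroup.mem_subgroupOf]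
      exact hφH A)
  have hφ₂inj : Function.Injective φ₂ := by
    intro A B hAB
    apply hφ₀inj
    have h1 : (φ₂ A : ↥K) = (φ₂ B : ↥K) := congrArg Subtype.val hAB
    exact congrArg Subtype.val h1
  obtain ⟨e, he⟩ := Subgroup.card_dvd_of_injective φ₂ hφ₂inj
  have h1 := Subgroup.card_mul_index (H.subgroupOf K)
  have h2 := card_specialLinear_mul (F := F) n hn
  have h3 := card_SU_mul hF n hn
  have h4 := card_GU hF n
  have h5 : Nat.card (GL (Fin n) F) = (∏ i ∈ Finset.range n, (q₀ ^ 2) ^ i) *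
      ∏ i ∈ Finset.range n, ((q₀ ^ 2) ^ (i + 1) - 1) := by
    rw [Matrix.card_GL_field, hF]
    exact card_GL_prod (q₀ ^ 2) n
  have h6 : ∏ i ∈ Finset.range n, ((q₀ ^ 2) ^ (i + 1) - 1) =
      (∏ i ∈ Finset.range n, (if Even i then q₀ ^ (i + 1) + 1 else q₀ ^ (i + 1) - 1)) *
        ∏ i ∈ Finset.range n, (if Even i then q₀ ^ (i + 1) - 1 else q₀ ^ (i + 1) + 1) := by
    rw [← Finset.prod_mul_distrib]
    exact Finset.prod_congr rfl (fun i _ => factor_AB q₀ i (by omega))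
  set PA := ∏ i ∈ Finset.range n, (if Even i then q₀ ^ (i + 1) + 1 else q₀ ^ (i + 1) - 1)
    with hPA
  set PB := ∏ i ∈ Finset.range n, (if Even i then q₀ ^ (i + 1) - 1 else q₀ ^ (i + 1) + 1)
    with hPB
  set PQ := ∏ i ∈ Finset.range n, (q₀ ^ 2) ^ i with hPQ
  have hq1 : Fintype.card F - 1 = (q₀ - 1) * (q₀ + 1) := by
    rw [hF]
    obtain ⟨t, rfl⟩ : ∃ t, q₀ = t + 1 := ⟨q₀ - 1, by omega⟩
    simp only [Nat.add_sub_cancel]
    have : (t + 1) ^ 2 = t * (t + 1 + 1) + 1 := by ring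
    rw [this, Nat.add_sub_cancel]
  have hPApos : 0 < PA := by
    rw [hPA]
    apply Finset.prod_pos
    intro i _
    have h1 : 2 ≤ q₀ ^ (i + 1) := by
      calc 2 ≤ q₀ := hq2
        _ = q₀ ^ 1 := (pow_one _).symm
        _ ≤ q₀ ^ (i + 1) := Nat.pow_le_pow_right (by omega) (by omega)
    split_ifs <;> omega
  refine ⟨e * q₀ ^ (n * (n - 1) / 2) * (q₀ - 1), ?_⟩
  have hI : H.relIndex K = (H.subgroupOf K).index := rfl
  rw [hI]
  -- combine
  have key : ((H.subgroupOf K).index * (e * q₀ ^ (n * (n - 1) / 2) * (q₀ - 1))) *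
      ((q₀ + 1) * PA) = (PQ * PB) * ((q₀ + 1) * PA) := by
    calc ((H.subgroupOf K).index * (e * q₀ ^ (n * (n - 1) / 2) * (q₀ - 1))) * ((q₀ + 1) * PA)
        = (H.subgroupOf K).index * e * (q₀ ^ (n * (n - 1) / 2) * PA) *
            ((q₀ - 1) * (q₀ + 1)) := by ring
      _ = (H.subgroupOf K).index * e * Nat.card (Cfsg.GU n F q₀) * (Fintype.card F - 1) := by
          rw [h4, hq1]
      _ = (H.subgroupOf K).index * e * ((q₀ + 1) * Nat.card (Cfsg.SU n F q₀)) *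
            (Fintype.card F - 1) := by rw [h3]
      _ = (q₀ + 1) * ((Nat.card (Cfsg.SU n F q₀) * e) * (H.subgroupOf K).index *
            (Fintype.card F - 1)) := by ring
      _ = (q₀ + 1) * (Nat.card K * (Fintype.card F - 1)) := by rw [← he, h1]
      _ = (q₀ + 1) * (PQ * (PA * PB)) := by rw [h2, h5, h6]
      _ = (PQ * PB) * ((q₀ + 1) * PA) := by ring
  exact Nat.eq_of_mul_eq_mul_right (Nat.mul_pos (by omega) hPApos) key

end Cfsg.Agent.Lib.Helper22.UnitR
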