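import Mathlib
import Cfsg.Agent.Lib.Helper22.OrthRA
import Cfsg.Agent.Lib.Helper22.UnitRG
import Cfsg.Agent.Lib.Helper15.IsometryTransport
import Cfsg.Agent.Lib.Helper15.OrthReal
import Cfsg.Agent.S2618

/-! Orders of isometry groups of equivalent forms, coordinates for odd-dimensional forms, and the
index of the similarity group in `SL_n(F)` in terms of the order of the isometry group. -/

set_option autoImplicit false
open scoped MatrixGroups

namespace Cfsg.Agent.Lib.Helper22.OrthR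

open Matrix QuadraticMap Module Cfsg.Agent.Lib.Helper15 Cfsg.Agent.Lib.Helper22.UnitR

variable {F : Type*} [Field F]

/-- equivalent forms have isometry groups of the same order -/
theorem card_isometry_congr [Finite F] {ι₁ ι₂ : Type} [Fintype ι₁] [DecidableEq ι₁] [Fintype ι₂]
    [DecidableEq ι₂] (Q₁ : (ι₁ → F) → F) (Q₂ : (ι₂ → F) → F) (E : (ι₁ → F) ≃ₗ[F] (ι₂ → F))
    (hE : ∀ w, Q₂ (E w) = Q₁ w) :
    Nat.card (Cfsg.isometryGroup F Q₁) = Nat.card (Cfsg.isometryGroup F Q₂) := by
  set P : Matrix ι₂ ι₁ F := LinearMap.toMatrix' (E : (ι₁ → F) →ₗ[F] (ι₂ → F)) with hP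
  set P' : Matrix ι₁ ι₂ F := LinearMap.toMatrix' (E.symm : (ι₂ → F) →ₗ[F] (ι₁ → F)) with hP'
  have h1 : P * P' = 1 := by
    rw [hP, hP', ← LinearMap.toMatrix'_comp]
    have : (E : (ι₁ → F) →ₗ[F] (ι₂ → F)).comp (E.symm : (ι₂ → F) →ₗ[F] (ι₁ → F)) =
        LinearMap.id := by
      ext v
      simp
    rw [this, LinearMap.toMatrix'_id]
  have h2 : P' * P = 1 := by
    rw [hP, hP', ← LinearMap.toMatrix'_comp]
    have : (E.symm : (ι₂ → F) →ₗ[F] (ι₁ → F)).comp (E : (ι₁ → F) →ₗ[F] (ι₂ → F)) =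
        LinearMap.id := by
      ext v
      simp
    rw [this, LinearMap.toMatrix'_id]
  have hPv : ∀ w, P *ᵥ w = E w := by
    intro w
    rw [hP, LinearMap.toMatrix'_mulVec]
    rfl
  have hP'v : ∀ w, P' *ᵥ w = E.symm w := by
    intro w
    rw [hP', LinearMap.toMatrix'_mulVec]
    rfl
  obtain ⟨Φ, hΦ⟩ := transport_isometry Q₁ Q₂ P P' h1 h2
    (fun w => by rw [hPv, hE])
  obtain ⟨Ψ, hΨ⟩ := transport_isometry Q₂ Q₁ P' P h2 h1
    (fun w => by rw [hP'v, ← hE, LinearEquiv.apply_symm_apply])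
  exact le_antisymm (Nat.card_le_card_of_injective Φ hΦ) (Nat.card_le_card_of_injective Ψ hΨ)

/-- scaling the form does not change the isometry group -/
theorem isometryGroup_smul {ι : Type} [Fintype ι] [DecidableEq ι] (Q : (ι → F) → F) (c : F)
    (hc : c ≠ 0) : Cfsg.isometryGroup F (fun w => c * Q w) = Cfsg.isometryGroup F Q := by
  ext g
  rw [Cfsg.Agent.Lib.Helper15.mem_isometryGroup_iff, Cfsg.Agent.Lib.Helper15.mem_isometryGroup_iff]
  constructor
  · intro h u
    exact mul_left_cancel₀ hc (h u)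
  · intro h u
    rw [h u]

/-- coordinates for an odd-dimensional nondegenerate quadratic space over a finite field -/
theorem odd_coords [Finite F] {W : Type*} [AddCommGroup W] [Module F W] [FiniteDimensional F W]
    (Q : QuadraticForm F W) (hQnd : (polarBilin Q).Nondegenerate) (m : ℕ)
    (hfr : finrank F W = 2 * m + 1) :
    ∃ (c : F) (E : W ≃ₗ[F] (Unit ⊕ (Fin m ⊕ Fin m) → F)), c ≠ 0 ∧
      ∀ x, c * Cfsg.quadFormOdd m F (E x) = Q x := by
  classical
  obtain ⟨b, hb0, hb1, hb2, hb3, hb4⟩ := Cfsg.Agent.S2618.result hfr Q hQnd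
  obtain ⟨c, hc⟩ : ∃ c, c = Q (b (Sum.inl ())) := ⟨_, rfl⟩
  have hc0 : c ≠ 0 := by rw [hc]; exact hb0
  let w : Unit ⊕ (Fin m ⊕ Fin m) → Fˣ :=
    fun k => Sum.elim (fun _ => 1) (Sum.elim (fun _ => 1) (fun _ => Units.mk0 c hc0)) k
  obtain ⟨b', hb'⟩ : ∃ b' : Basis (Unit ⊕ (Fin m ⊕ Fin m)) F W, b' = b.unitsSMul w := ⟨_, rfl⟩
  have hb'0 : b' (Sum.inl ()) = b (Sum.inl ()) := by
    rw [hb', Basis.unitsSMul_apply]; exact one_smul _ _
  have hb'1 : ∀ i, b' (Sum.inr (Sum.inl i)) = b (Sum.inr (Sum.inl i)) := by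
    intro i; rw [hb', Basis.unitsSMul_apply]; exact one_smul _ _
  have hb'2 : ∀ i, b' (Sum.inr (Sum.inr i)) = c • b (Sum.inr (Sum.inr i)) := by
    intro i; rw [hb', Basis.unitsSMul_apply]; rfl
  have hcoord : ∀ v, Q v = (c • OrthReal.oddQF m) (b'.equivFun v) := by
    apply eq_comp_equivFun b' Q (c • OrthReal.oddQF m)
    · rintro (⟨⟩ | i | i)
      · rw [hb'0, ← hc, _root_.smul_apply, OrthReal.oddQF_apply]
        simp [Cfsg.quadFormOdd]
      · rw [hb'1, (hb2 i).1, _root_.smul_apply, OrthReal.oddQF_apply]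
        simp [Cfsg.quadFormOdd, Pi.single_apply]
      · rw [hb'2, QuadraticMap.map_smul, (hb2 i).2, _root_.smul_apply, OrthReal.oddQF_apply]
        simp [Cfsg.quadFormOdd, Pi.single_apply]
    · rintro (⟨⟩ | i | i) (⟨⟩ | j | j) hij
      · exact absurd rfl hij
      · rw [hb'0, hb'1, (hb1 j).1, FunLike.coe_smul, polar_smul, OrthReal.polar_oddQF]
        simp [Pi.single_apply]
      · rw [hb'0, hb'2, polar_smul_right, (hb1 j).2, FunLike.coe_smul, polar_smul,
          OrthReal.polar_oddQF]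
        simp [Pi.single_apply]
      · rw [hb'0, hb'1, polar_comm, (hb1 i).1, FunLike.coe_smul, polar_smul,
          OrthReal.polar_oddQF]
        simp [Pi.single_apply]
      · rw [hb'1, hb'1, (hb4 i j).1, FunLike.coe_smul, polar_smul, OrthReal.polar_oddQF]
        simp [Pi.single_apply]
      · rw [hb'1, hb'2, polar_smul_right, hb3 i j, FunLike.coe_smul, polar_smul,
          OrthReal.polar_oddQF]
        simp [Pi.single_apply]
        simp only [eq_comm]
      · rw [hb'0, hb'2, polar_smul_left, polar_comm, (hb1 i).2, FunLike.coe_smul,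
          polar_smul, OrthReal.polar_oddQF]
        simp [Pi.single_apply]
      · rw [hb'1, hb'2, polar_smul_left, polar_comm, hb3 j i, FunLike.coe_smul, polar_smul,
          OrthReal.polar_oddQF]
        simp [Pi.single_apply, eq_comm]
      · rw [hb'2, hb'2, polar_smul_left, polar_smul_right, (hb4 i j).2, FunLike.coe_smul,
          polar_smul, OrthReal.polar_oddQF]
        simp [Pi.single_apply]
  refine ⟨c, b'.equivFun, hc0, fun x => ?_⟩
  rw [hcoord x, _root_.smul_apply, OrthReal.oddQF_apply]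
  rfl

section index

variable [Fintype F]

/-- the index of the similarity group in `SL_n(F)` times the order of the isometry group divides
twice the order of `GL_n(F)` -/
theorem index_mul_card {n : ℕ} (hn : 1 ≤ n) (Q : QuadraticForm F (Fin n → F))
    (hQ : (polarBilin Q).Nondegenerate) :
    ∃ e' : ℕ, (Cfsg.Geo.quadSimilarityGroup (⇑Q)).relIndex (Cfsg.Geo.specialLinear (Fin n) F) *
      e' * Nat.card (Cfsg.isometryGroup F (⇑Q)) = 2 * Nat.card (GL (Fin n) F) := by
  classical
  set H : Subgroup (GL (Fin n) F) := Cfsg.Geo.quadSimilarityGroup (⇑Q) with hH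
  set K : Subgroup (GL (Fin n) F) := Cfsg.Geo.specialLinear (Fin n) F with hK
  set O : Subgroup (GL (Fin n) F) := Cfsg.isometryGroup F (⇑Q) with hO
  obtain ⟨G, Gi, hG1, hG2, hGs, hpol⟩ := OrthReal.exists_gram' Q hQ
  have hGdet : G.det ≠ 0 := by
    intro h
    have := congrArg Matrix.det hG2
    rw [Matrix.det_mul, h, zero_mul, Matrix.det_one] at this
    exact zero_ne_one this
  have hdetsq : ∀ g : GL (Fin n) F, g ∈ O →
      (g : Matrix (Fin n) (Fin n) F).det * (g : Matrix (Fin n) (Fin n) F).det = 1 := by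
    intro g hg
    have h1 := OrthReal.gram_of_isometry' Q G hpol (g : Matrix (Fin n) (Fin n) F)
      ((Cfsg.Agent.Lib.Helper15.mem_isometryGroup_iff _ g).1 hg)
    have h2 := congrArg Matrix.det h1
    rw [Matrix.det_mul, Matrix.det_mul, Matrix.det_transpose] at h2
    have h3 : ((g : Matrix (Fin n) (Fin n) F).det * (g : Matrix (Fin n) (Fin n) F).det) *
        G.det = 1 * G.det := by linear_combination h2
    exact mul_right_cancel₀ hGdet h3
  let φ : ↥O →* Fˣ := Matrix.GeneralLinearGroup.det.comp O.subtype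
  have hφ : ∀ g : ↥O, ((φ g : Fˣ) : F) = (g.1 : Matrix (Fin n) (Fin n) F).det := fun g => rfl
  have hrange : φ.range ≤ Subgroup.zpowers (-1 : Fˣ) := by
    rintro u ⟨g, rfl⟩
    have h1 := hdetsq g.1 g.2
    rcases mul_self_eq_one_iff.1 h1 with h3 | h3
    · have h4 : φ g = 1 := by
        apply Units.ext
        rw [hφ, Units.val_one]
        exact h3
      rw [h4]
      exact one_mem _
    · have h4 : φ g = -1 := by
        apply Units.ext
        rw [hφ, Units.val_neg, Units.val_one]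
        exact h3
      rw [h4]
      exact Subgroup.mem_zpowers _
  have hz2 : Nat.card (Subgroup.zpowers (-1 : Fˣ)) ∣ 2 := by
    rw [Nat.card_zpowers]
    apply orderOf_dvd_of_pow_eq_one
    simp
  obtain ⟨ρ', hρ'⟩ : Nat.card φ.range ∣ 2 :=
    dvd_trans (Subgroup.card_dvd_of_le hrange) hz2
  have hcardO : Nat.card φ.ker * Nat.card φ.range = Nat.card ↥O := by
    have := Subgroup.card_mul_index φ.ker
    rwa [Subgroup.index_ker] at this
  -- the kernel embeds in H ⊓ K
  have hkerK : ∀ g : ↥φ.ker, (g.1.1 : GL (Fin n) F) ∈ K := by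
    intro g
    rw [hK, mem_specialLinear_iff]
    have h1 : φ g.1 = 1 := g.2
    have h2 := congrArg Units.val h1
    rw [hφ, Units.val_one] at h2
    exact h2
  have hkerH : ∀ g : ↥φ.ker, (g.1.1 : GL (Fin n) F) ∈ H := by
    intro g
    rw [hH, mem_quadSim_iff]
    refine ⟨1, one_ne_zero, fun v => ?_⟩
    rw [one_mul]
    exact (Cfsg.Agent.Lib.Helper15.mem_isometryGroup_iff _ g.1.1).1 g.1.2 v
  let ψ₀ : ↥φ.ker →* GL (Fin n) F := O.subtype.comp φ.ker.subtype
  let ψ₁ : ↥φ.ker →* ↥K := ψ₀.codRestrict K hkerK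
  let ψ₂ : ↥φ.ker →* ↥(H.subgroupOf K) :=
    ψ₁.codRestrict (H.subgroupOf K) (fun g => by
      rw [Subgroup.mem_subgroupOf]
      exact hkerH g)
  have hψ₂inj : Function.Injective ψ₂ := by
    intro A B hAB
    have h1 : (ψ₂ A : ↥K) = (ψ₂ B : ↥K) := congrArg Subtype.val hAB
    have h2 : ((ψ₂ A : ↥K) : GL (Fin n) F) = ((ψ₂ B : ↥K) : GL (Fin n) F) :=
      congrArg Subtype.val h1
    exact Subtype.ext (Subtype.ext h2)
  obtain ⟨e, he⟩ := Subgroup.card_dvd_of_injective ψ₂ hψ₂inj
  have h1 := Subgroup.card_mul_index (H.subgroupOf K)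
  have h2 := card_specialLinear_mul (F := F) n hn
  have hI : H.relIndex K = (H.subgroupOf K).index := rfl
  refine ⟨ρ' * e * (Fintype.card F - 1), ?_⟩
  rw [hI, ← hcardO, ← h2, ← h1, he]
  calc (H.subgroupOf K).index * (ρ' * e * (Fintype.card F - 1)) *
        (Nat.card φ.ker * Nat.card φ.range)
      = (Nat.card φ.range * ρ') * (Nat.card φ.ker * e * (H.subgroupOf K).index *
          (Fintype.card F - 1)) := by ring
    _ = 2 * (Nat.card φ.ker * e * (H.subgroupOf K).index * (Fintype.card F - 1)) := by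
        rw [← hρ']

end index

end Cfsg.Agent.Lib.Helper22.OrthR
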