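import Mathlib
import Cfsg.Agent.Lib.Helper22.OrthRI
import Cfsg.Agent.Lib.Helper22.SubfRJ
import Cfsg.Agent.Lib.Helper15.QuadType
import Cfsg.Agent.Lib.Helper14.OrthOdd
import Cfsg.Agent.Lib.Helper14.OrthPlus
import Cfsg.Agent.Lib.Helper14.OrthMinus

/-! Arithmetic consequences of a prime `r` dividing the index of the similarity group of a quadratic
form in `SL_n(F)`. -/

set_option autoImplicit false
open scoped MatrixGroups

namespace Cfsg.Agent.Lib.Helper22.OrthR

open Matrix QuadraticMap Module Cfsg.Agent.Lib.Helper15 Cfsg.Agent.Lib.Helper22.UnitR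
  Cfsg.Agent.Lib.Helper15.QuadType Cfsg.Agent.Lib.Helper22.SubfR

theorem prod_range_two_mul (f : ℕ → ℕ) (m : ℕ) :
    ∏ i ∈ Finset.range (2 * m), f i =
      (∏ i ∈ Finset.range m, f (2 * i)) * ∏ i ∈ Finset.range m, f (2 * i + 1) := by
  induction m with
  | zero => simp
  | succ m ih =>
    have : 2 * (m + 1) = 2 * m + 1 + 1 := by ring
    rw [this, Finset.prod_range_succ, Finset.prod_range_succ, ih, Finset.prod_range_succ,
      Finset.prod_range_succ]
    ring

/-- the order of `GL_n(q)` -/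
theorem card_GL_eq {F : Type*} [Field F] [Fintype F] (n : ℕ) :
    Nat.card (GL (Fin n) F) = (∏ i ∈ Finset.range n, Fintype.card F ^ i) *
      ∏ i ∈ Finset.range n, (Fintype.card F ^ (i + 1) - 1) := by
  rw [Matrix.card_GL_field]
  exact card_GL_prod (Fintype.card F) n

theorem prod_odd_even (q m : ℕ) :
    ∏ i ∈ Finset.range (2 * m), (q ^ (i + 1) - 1) =
      (∏ i ∈ Finset.range m, (q ^ (2 * i + 1) - 1)) *
        ∏ i ∈ Finset.range m, (q ^ (2 * (i + 1)) - 1) := by
  rw [prod_range_two_mul (fun i => q ^ (i + 1) - 1) m]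
  congr 1

variable {F : Type*} [Field F] [Fintype F]

/-- a prime dividing a product of powers of `q` divides `q` -/
theorem not_dvd_prod_pow (r : ℕ) (hr : r.Prime) (hrq : ¬ r ∣ Fintype.card F) (n : ℕ) :
    ¬ r ∣ ∏ i ∈ Finset.range n, Fintype.card F ^ i := by
  intro h
  obtain ⟨i, -, hi⟩ := (Prime.dvd_finset_prod_iff (Nat.Prime.prime hr) _).1 h
  exact hrq (hr.dvd_of_dvd_pow hi)

theorem index_odd (h2 : (2 : F) ≠ 0) (m : ℕ) (Q : QuadraticForm F (Fin (2 * m + 1) → F))
    (hQ : (polarBilin Q).Nondegenerate) (r : ℕ) (hr : r.Prime) (hrq : ¬ r ∣ Fintype.card F)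
    (hΩ : r ∣ (Cfsg.Geo.quadSimilarityGroup (⇑Q)).relIndex
      (Cfsg.Geo.specialLinear (Fin (2 * m + 1)) F)) :
    ∃ j, Odd j ∧ j ≤ 2 * m + 1 ∧ r ∣ Fintype.card F ^ j - 1 := by
  classical
  set q := Fintype.card F with hq
  have hq2 : 2 ≤ q := Fintype.one_lt_card
  obtain ⟨c, E, hc0, hE⟩ := odd_coords Q hQ m (by rw [Module.finrank_fin_fun])
  have hcard : Nat.card (Cfsg.isometryGroup F (⇑Q)) =
      Nat.card (Cfsg.isometryGroup F (Cfsg.quadFormOdd m F)) := by
    have h1 : (⇑Q : (Fin (2 * m + 1) → F) → F) =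
        fun w => c * (fun w => Cfsg.quadFormOdd m F (E w)) w := by
      funext w
      exact (hE w).symm
    rw [h1, isometryGroup_smul _ c hc0]
    exact card_isometry_congr _ _ E (fun w => rfl)
  obtain ⟨e', he'⟩ := index_mul_card (by omega) Q hQ
  rw [hcard, Cfsg.Agent.Lib.Helper14.card_isometry_odd h2 m, card_GL_eq, Finset.prod_range_succ
    (fun i => q ^ (i + 1) - 1), prod_odd_even] at he'
  set PE := ∏ i ∈ Finset.range m, (q ^ (2 * (i + 1)) - 1) with hPE
  set PO := ∏ i ∈ Finset.range m, (q ^ (2 * i + 1) - 1) with hPO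
  set PQ := ∏ i ∈ Finset.range (2 * m + 1), q ^ i with hPQ
  have hPEpos : 0 < PE := by
    apply Finset.prod_pos
    intro i _
    have : 2 ≤ q ^ (2 * (i + 1)) := by
      calc 2 ≤ q := hq2
        _ = q ^ 1 := (pow_one _).symm
        _ ≤ q ^ (2 * (i + 1)) := Nat.pow_le_pow_right (by omega) (by omega)
    omega
  have key : (Cfsg.Geo.quadSimilarityGroup (⇑Q)).relIndex
      (Cfsg.Geo.specialLinear (Fin (2 * m + 1)) F) * e' * q ^ (m ^ 2) =
      PQ * PO * (q ^ (2 * m + 1) - 1) := by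
    apply Nat.eq_of_mul_eq_mul_right (Nat.mul_pos (by norm_num : 0 < 2) hPEpos)
    linear_combination he'
  have hdvd : r ∣ PQ * PO * (q ^ (2 * m + 1) - 1) := by
    rw [← key]
    exact Dvd.dvd.mul_right (Dvd.dvd.mul_right hΩ _) _
  rcases (Nat.Prime.dvd_mul hr).1 hdvd with h3 | h3
  · rcases (Nat.Prime.dvd_mul hr).1 h3 with h4 | h4
    · exact absurd h4 (not_dvd_prod_pow r hr hrq _)
    · obtain ⟨i, hi, hdi⟩ := (Prime.dvd_finset_prod_iff (Nat.Prime.prime hr) _).1 h4
      rw [Finset.mem_range] at hi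
      exact ⟨2 * i + 1, ⟨i, rfl⟩, by omega, hdi⟩
  · exact ⟨2 * m + 1, ⟨m, rfl⟩, le_refl _, h3⟩

theorem index_even (k : ℕ) (Q : QuadraticForm F (Fin (2 * (k + 1)) → F))
    (hQ : (polarBilin Q).Nondegenerate) (r : ℕ) (hr : r.Prime) (hrq : ¬ r ∣ Fintype.card F)
    (hΩ : r ∣ (Cfsg.Geo.quadSimilarityGroup (⇑Q)).relIndex
      (Cfsg.Geo.specialLinear (Fin (2 * (k + 1))) F)) :
    (∃ j, Odd j ∧ j ≤ 2 * (k + 1) ∧ r ∣ Fintype.card F ^ j - 1) ∨
      ∃ ε : ℤ, (ε = 1 ∨ ε = -1) ∧ HasType ε (k + 1) (⇑Q) ∧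
        ((Fintype.card F : ℕ) : ZMod r) ^ (k + 1) = -(ε : ZMod r) := by
  classical
  set q := Fintype.card F with hq
  have hq2 : 2 ≤ q := Fintype.one_lt_card
  obtain ⟨a, c, hac⟩ := exists_aniso (F := F)
  obtain ⟨e', he'⟩ := index_mul_card (by omega) Q hQ
  rw [card_GL_eq, prod_odd_even, Finset.prod_range_succ (fun i => q ^ (2 * (i + 1)) - 1)] at he'
  set PE := ∏ i ∈ Finset.range k, (q ^ (2 * (i + 1)) - 1) with hPE
  set PO := ∏ i ∈ Finset.range (k + 1), (q ^ (2 * i + 1) - 1) with hPO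
  set PQ := ∏ i ∈ Finset.range (2 * (k + 1)), q ^ i with hPQ
  have hPEpos : 0 < PE := by
    apply Finset.prod_pos
    intro i _
    have : 2 ≤ q ^ (2 * (i + 1)) := by
      calc 2 ≤ q := hq2
        _ = q ^ 1 := (pow_one _).symm
        _ ≤ q ^ (2 * (i + 1)) := Nat.pow_le_pow_right (by omega) (by omega)
    omega
  obtain ⟨A, hA⟩ : ∃ A, q ^ (k + 1) = A + 1 := ⟨q ^ (k + 1) - 1, by
    have : 1 ≤ q ^ (k + 1) := Nat.one_le_pow _ _ (by omega)
    omega⟩
  have hA1 : 1 ≤ A := by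
    have : 2 ≤ q ^ (k + 1) := by
      calc 2 ≤ q := hq2
        _ = q ^ 1 := (pow_one _).symm
        _ ≤ q ^ (k + 1) := Nat.pow_le_pow_right (by omega) (by omega)
    omega
  have hfac : q ^ (2 * (k + 1)) - 1 = A * (A + 2) := by
    have : q ^ (2 * (k + 1)) = A * (A + 2) + 1 := by
      rw [mul_comm 2, pow_mul, hA]
      ring
    rw [this, Nat.add_sub_cancel]
  rw [hfac] at he'
  have hoddcase : r ∣ PQ * PO →
      ∃ j, Odd j ∧ j ≤ 2 * (k + 1) ∧ r ∣ q ^ j - 1 := by
    intro h3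
    rcases (Nat.Prime.dvd_mul hr).1 h3 with h4 | h4
    · exact absurd h4 (not_dvd_prod_pow r hr hrq _)
    · obtain ⟨i, hi, hdi⟩ := (Prime.dvd_finset_prod_iff (Nat.Prime.prime hr) _).1 h4
      rw [Finset.mem_range] at hi
      exact ⟨2 * i + 1, ⟨i, rfl⟩, by omega, hdi⟩
  have hdim : finrank F (Fin (2 * (k + 1)) → F) = 2 * (k + 1) := Module.finrank_fin_fun F
  rcases classify Q hQ k hdim hac with ⟨b, hb⟩ | ⟨b, hb⟩
  · -- plus type
    have hcard : Nat.card (Cfsg.isometryGroup F (⇑Q)) =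
        Nat.card (Cfsg.isometryGroup F (Cfsg.quadFormPlus (k + 1) F)) :=
      card_isometry_congr _ _ b.equivFun hb
    rw [hcard, Cfsg.Agent.Lib.Helper14.card_isometry_plus k, ← hq, hA, Nat.add_sub_cancel] at he'
    have key : (Cfsg.Geo.quadSimilarityGroup (⇑Q)).relIndex
        (Cfsg.Geo.specialLinear (Fin (2 * (k + 1))) F) * e' * q ^ ((k + 1) * k) =
        PQ * PO * (A + 2) := by
      apply Nat.eq_of_mul_eq_mul_right (Nat.mul_pos (Nat.mul_pos (by norm_num : 0 < 2) hPEpos)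
        hA1)
      linear_combination he'
    have hdvd : r ∣ PQ * PO * (A + 2) := by
      rw [← key]
      exact Dvd.dvd.mul_right (Dvd.dvd.mul_right hΩ _) _
    rcases (Nat.Prime.dvd_mul hr).1 hdvd with h3 | h3
    · exact Or.inl (hoddcase h3)
    · right
      refine ⟨1, Or.inl rfl, ?_, ?_⟩
      · apply (hasType_plus (F := F) (k + 1)).congr b.equivFun.symm.toEquiv
        intro v
        show Q (b.equivFun.symm v) = _
        rw [← hb, LinearEquiv.apply_symm_apply]
      · have h4 : ((A + 2 : ℕ) : ZMod r) = 0 := (ZMod.natCast_eq_zero_iff _ _).2 h3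
        have h5 : ((q : ℕ) : ZMod r) ^ (k + 1) = (A : ZMod r) + 1 := by
          rw [← Nat.cast_pow, hA]
          push_cast
          ring
        rw [h5]
        push_cast at h4 ⊢
        linear_combination h4
  · -- minus type
    have hcard : Nat.card (Cfsg.isometryGroup F (⇑Q)) =
        Nat.card (Cfsg.isometryGroup F (Cfsg.quadFormMinus k F a c)) :=
      card_isometry_congr _ _ b.equivFun hb
    rw [hcard, Cfsg.Agent.Lib.Helper14.OrthMinus.card_isometry_minus hac k, ← hq, hA] at he'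
    have key : (Cfsg.Geo.quadSimilarityGroup (⇑Q)).relIndex
        (Cfsg.Geo.specialLinear (Fin (2 * (k + 1))) F) * e' * q ^ ((k + 1) * k) =
        PQ * PO * A := by
      apply Nat.eq_of_mul_eq_mul_right (Nat.mul_pos (Nat.mul_pos (by norm_num : 0 < 2) hPEpos)
        (by omega : 0 < A + 1 + 1))
      linear_combination he'
    have hdvd : r ∣ PQ * PO * A := by
      rw [← key]
      exact Dvd.dvd.mul_right (Dvd.dvd.mul_right hΩ _) _
    rcases (Nat.Prime.dvd_mul hr).1 hdvd with h3 | h3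
    · exact Or.inl (hoddcase h3)
    · right
      refine ⟨-1, Or.inr rfl, ?_, ?_⟩
      · apply (hasType_minus hac k).congr b.equivFun.symm.toEquiv
        intro v
        show Q (b.equivFun.symm v) = _
        rw [← hb, LinearEquiv.apply_symm_apply]
      · have h4 : ((A : ℕ) : ZMod r) = 0 := (ZMod.natCast_eq_zero_iff _ _).2 h3
        have h5 : ((q : ℕ) : ZMod r) ^ (k + 1) = (A : ZMod r) + 1 := by
          rw [← Nat.cast_pow, hA]
          push_cast
          ring
        rw [h5, h4]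
        push_cast
        ring

end Cfsg.Agent.Lib.Helper22.OrthR
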