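import Mathlib
import Cfsg.Agent.Lib.Helper22.OrthRG
import Cfsg.Agent.Lib.Helper22.SubfRN
import Cfsg.Agent.Lib.Helper15.QuadType
import Cfsg.Agent.Lib.Helper15.QuadReal
import Cfsg.Agent.Lib.Helper15.SemisimpleCount

/-! A fixed-point-free element of order `r` of `SL_{2m}(F)` scales no nondegenerate quadratic form
of type `ε` when `q^m ≡ -ε` modulo `r`. -/

set_option autoImplicit false
open scoped MatrixGroups

namespace Cfsg.Agent.Lib.Helper22.OrthR

open Matrix QuadraticMap Module Polynomial Cfsg.Agent.Lib.Helper15 Cfsg.Agent.Lib.Helper22.UnitR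
  Cfsg.Agent.Lib.Helper22.SubfR Cfsg.Agent.Lib.Helper15.QuadType

variable {F : Type*} [Field F] [Fintype F]

theorem bad_fpf {p : ℕ} [Fact p.Prime] [CharP F p] (hp2 : p ≠ 2) (r : ℕ) (hr : r.Prime)
    (hr2 : r ≠ 2) (hrp : r ≠ p) (hrq : ¬ r ∣ Fintype.card F - 1) (m : ℕ) (hm : 1 ≤ m) (ε : ℤ)
    (hε : ε = 1 ∨ ε = -1)
    (hqm : ((Fintype.card F : ℕ) : ZMod r) ^ m = -(ε : ZMod r)) :
    ∃ M : Matrix (Fin (2 * m)) (Fin (2 * m)) F, M.det = 1 ∧ M ^ r = 1 ∧ (∀ z : F, M ≠ z • 1) ∧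
      ∀ Q : QuadraticForm F (Fin (2 * m) → F), (polarBilin Q).Nondegenerate →
        HasType ε m (⇑Q) → ¬ IsSim (⇑Q) M := by
  classical
  have : Fact r.Prime := ⟨hr⟩
  have hp : p.Prime := Fact.out
  have h2 : (2 : F) ≠ 0 := by
    have h2F : ((2 : ℕ) : F) ≠ 0 := by
      intro h0
      rw [CharP.cast_eq_zero_iff F p] at h0
      exact hp2 ((Nat.prime_dvd_prime_iff_eq hp Nat.prime_two).1 h0)
    exact_mod_cast h2F
  have hrF : (r : F) ≠ 0 := by
    intro h0
    rw [CharP.cast_eq_zero_iff F p] at h0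
    exact hrp ((Nat.prime_dvd_prime_iff_eq hp hr).1 h0).symm
  have hrcard : ¬ r ∣ Fintype.card F := by
    obtain ⟨f, -, hf⟩ := FiniteField.card F p
    rw [hf]
    intro h
    exact hrp ((Nat.prime_dvd_prime_iff_eq hr hp).1 (hr.dvd_of_dvd_pow h))
  set n := 2 * m with hn
  set q := Fintype.card F with hq
  have hqpos : 1 ≤ q := Fintype.card_pos
  have hε2 : ((ε : ZMod r)) ^ 2 = 1 := by
    rcases hε with rfl | rfl <;> simp
  have hqn : ((q : ℕ) : ZMod r) ^ n = 1 := by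
    rw [hn, mul_comm, pow_mul, hqm, neg_pow, hε2]
    simp
  obtain ⟨g₀, hmon, hirr, hdvd, hg1⟩ := exists_irreducible_factor_geom (F := F) r hr hr2 hrF
  set d := g₀.natDegree with hd
  have hd1 : 1 ≤ d := hirr.natDegree_pos
  have hrd : r ∣ q ^ d - 1 := dvd_card_pow_natDegree_sub_one g₀ hirr r hr hdvd hg1
  have hqd : ((q : ℕ) : ZMod r) ^ d = 1 := (dvd_pow_sub_one_iff r q d hqpos).1 hrd
  have hdn : d ∣ n := by
    have h1 : ((q : ℕ) : ZMod r) ^ (Nat.gcd d n) = 1 := pow_gcd_eq_one.2 ⟨hqd, hqn⟩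
    have hgpos : 1 ≤ Nat.gcd d n := Nat.gcd_pos_of_pos_left _ hd1
    have h3 : d ≤ Nat.gcd d n :=
      natDegree_le_of_dvd p g₀ hirr r hdvd (Nat.gcd d n) hgpos
        ((dvd_pow_sub_one_iff r q _ hqpos).2 h1)
    have h4 : Nat.gcd d n ≤ d := Nat.le_of_dvd hd1 (Nat.gcd_dvd_left d n)
    have h5 : Nat.gcd d n = d := le_antisymm h4 h3
    rw [← h5]
    exact Nat.gcd_dvd_right d n
  obtain ⟨k, hk⟩ := hdn
  have hk0 : k ≠ 0 := by
    rintro rfl
    omega
  set χ : F[X] := g₀ ^ k with hχ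
  have hχmon : χ.Monic := hmon.pow k
  have hχdeg : χ.natDegree = n := by
    rw [hχ, hmon.natDegree_pow, ← hd, hk, mul_comm]
  have hg0 : g₀.eval 0 ≠ 0 := by
    intro h0
    obtain ⟨h, hh⟩ := hdvd
    have := congrArg (eval 0) hh
    rw [eval_mul, h0, zero_mul, eval_sub, eval_pow, eval_X, eval_one, zero_pow hr.ne_zero,
      zero_sub] at this
    exact one_ne_zero (neg_eq_zero.1 this)
  have hχ0 : χ.coeff 0 ≠ 0 := by
    rw [coeff_zero_eq_eval_zero, hχ, eval_pow]
    exact pow_ne_zero _ hg0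
  obtain ⟨M, hM, N, hN, hMN⟩ :=
    SemisimpleCount.exists_matrix_of_charpoly n χ hχmon hχdeg hχ0
  have hMr : M ^ r = 1 := by
    have h1 : minpoly F M ∣ X ^ N - C 1 := by
      apply minpoly.dvd
      rw [map_sub, map_pow, aeval_X, aeval_C, hMN, map_one, sub_self]
    have hsq : Squarefree (minpoly F M) :=
      Squarefree.squarefree_of_dvd h1 (separable_X_pow_sub_C (1 : F) hN one_ne_zero).squarefree
    have h2' : minpoly F M ∣ χ := by
      rw [← hM]
      exact Matrix.minpoly_dvd_charpoly M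
    have h3 : χ ∣ (X ^ r - 1) ^ k := by
      rw [hχ]
      exact pow_dvd_pow_of_dvd hdvd _
    have h4 : minpoly F M ∣ X ^ r - 1 :=
      (hsq.dvd_pow_iff_dvd hk0).1 (dvd_trans h2' h3)
    obtain ⟨h, hh⟩ := h4
    have h5 : aeval M (X ^ r - 1 : F[X]) = 0 := by
      rw [hh, map_mul, minpoly.aeval, zero_mul]
    rw [map_sub, map_pow, aeval_X, map_one, sub_eq_zero] at h5
    exact h5
  have hdet : M.det = 1 := by
    apply eq_one_of_pow_eq_one r hr hrq
    rw [← Matrix.det_pow, hMr, Matrix.det_one]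
  have hfix : ∀ v : Fin n → F, M *ᵥ v = v → v = 0 := by
    intro v hv
    by_contra hv0
    have h1 := QuadReal.eval_one_charpoly_of_fixed M v hv0 hv
    rw [hM, hχ, eval_pow] at h1
    exact hg1 (pow_eq_zero_iff hk0 |>.1 h1)
  have hn1 : 1 ≤ n := by omega
  refine ⟨M, hdet, hMr, ?_, ?_⟩
  · intro z hz
    let i₀ : Fin n := ⟨0, hn1⟩
    have hzr : z ^ r = 1 := by
      have h1 := hMr
      rw [hz, _root_.smul_pow, one_pow] at h1
      have h3 := congrFun (congrFun h1 i₀) i₀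
      simpa using h3
    have hz1 : z = 1 := eq_one_of_pow_eq_one r hr hrq z hzr
    have h1 := hfix (Pi.single i₀ 1) (by rw [hz, hz1, one_smul, Matrix.one_mulVec])
    have h3 := congrFun h1 i₀
    simp at h3
  · intro Q hQ hT hsim
    obtain ⟨v₀, hv₀⟩ := exists_ne_zero h2 hn1 Q hQ
    obtain ⟨s, hs0, hsr, hiso⟩ := isometry_of_sim Q v₀ hv₀ r (hr.odd_of_ne_two hr2) M 1
      one_ne_zero (by rw [one_smul]; exact hMr) hsim
    have hs1 : s = 1 := eq_one_of_pow_eq_one r hr hrq s hsr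
    rw [hs1, inv_one, one_smul] at hiso
    set T : (Fin n → F) →ₗ[F] (Fin n → F) := Matrix.toLinAlgEquiv' M with hTdef
    have hTv : ∀ v, T v = M *ᵥ v := by
      intro v
      rw [hTdef, Matrix.toLinAlgEquiv'_apply]
    have hTr : T ^ r = 1 := by
      rw [hTdef, ← map_pow, hMr, map_one]
    have hdvdcard := QuadReal.dvd_card_level Q T r hr hTr
      (fun u => by rw [hTv]; exact hiso u) (fun v hv => hfix v (by rw [← hTv]; exact hv)) 1
      one_ne_zero
    have h4 := hT.zmod r hdvdcard hrcard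
    rw [hqm] at h4
    have h5 : (2 : ZMod r) * (ε : ZMod r) = 0 := by linear_combination -h4
    have h6 : (2 : ZMod r) = 0 := by
      have := congrArg (fun t => t * (ε : ZMod r)) h5
      simp only [zero_mul] at this
      rw [mul_assoc, ← pow_two, hε2, mul_one] at this
      exact this
    have h11 : ((2 : ℕ) : ZMod r) = 0 := by
      push_cast
      exact h6
    rw [ZMod.natCast_eq_zero_iff] at h11
    have := Nat.le_of_dvd (by norm_num) h11
    have := hr.two_le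
    omega

end Cfsg.Agent.Lib.Helper22.OrthR
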