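import Mathlib
import Cfsg.Agent.Lib.Helper22.UnitRD
import Cfsg.Agent.Lib.Helper22.SubfRM
import Cfsg.Agent.Lib.Helper22.SubfRQ

/-! Diagonal tuples of `r`-th roots (up to a common scalar) of product one whose multiplicities
are not stable under `a ↦ a ^ N`. -/

set_option autoImplicit false
open scoped MatrixGroups

namespace Cfsg.Agent.Lib.Helper22.UnitR

open Matrix Module Polynomial Cfsg.Agent.Lib.Helper22.SubfR

variable {F : Type*} [Field F] [Fintype F]

/-- the three-block diagonal tuple is unstable -/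
theorem unstable_block [DecidableEq F] (N r s t u : ℕ) (lam μ γ : F)
    (hlamr : lam ^ r = 1) (hlam1 : lam ≠ 1) (hfix : lam ^ N ≠ lam) (hs : 0 < s) (ht : 0 < t)
    (hst : s ≠ t) (hu : u = 0 ∨ (u ≠ s ∧ u ≠ t)) (hμ : μ ≠ 0) (hγ1 : γ ≠ μ * lam) (hγ2 : γ ≠ μ)
    (hγr : γ ^ r = μ ^ r) (hdet : (μ * lam) ^ s * μ ^ t * γ ^ u = 1) :
    ∃ (d : Fin (s + t + u) → F) (z : F), (∏ j, d j = 1) ∧ (∀ j, d j ^ r = z) ∧
      (∃ i j, d i ≠ d j) ∧ ¬ Stable N d := by
  refine ⟨blk (s + t + u) s t (μ * lam) μ γ, μ ^ r, ?_, ?_, ?_, ?_⟩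
  · rw [prod_blk, hdet]
  · intro j
    exact blk_pow_eq _ s t r lam μ γ hlamr hγr j
  · refine ⟨⟨0, by omega⟩, ⟨s, by omega⟩, ?_⟩
    unfold blk
    simp only
    rw [if_pos hs, if_neg (lt_irrefl s), if_pos (by omega)]
    intro h
    have : μ * lam = μ * 1 := by rw [h, mul_one]
    exact hlam1 (mul_left_cancel₀ hμ this)
  · rintro ⟨c, hc, hstab⟩
    exact hfix (block_fixed N s t u lam μ γ hs ht hst hu hμ hlam1 hγ1 hγ2 c hc hstab)

/-- the tuple `(μλ, μ, …, μ)`, `n ≥ 3` -/
theorem unstable_of_mu [DecidableEq F] (N r : ℕ) (hr3 : 3 ≤ r) (lam μ : F)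
    (hlam : IsPrimitiveRoot lam r) (hfix : lam ^ N ≠ lam) (hμ : μ ≠ 0) (n : ℕ) (hn : 3 ≤ n)
    (hdet : μ ^ n * lam = 1) :
    ∃ (d : Fin n → F) (z : F), (∏ j, d j = 1) ∧ (∀ j, d j ^ r = z) ∧
      (∃ i j, d i ≠ d j) ∧ ¬ Stable N d := by
  have hlamr : lam ^ r = 1 := hlam.pow_eq_one
  have hlam1 : lam ≠ 1 := hlam.ne_one (by omega)
  have h21 : lam ^ 2 ≠ lam := by
    intro h
    have := hlam.pow_inj (i := 2) (j := 1) (by omega) (by omega) (by rw [h, pow_one])
    omega
  have h20 : lam ^ 2 ≠ 1 := by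
    intro h
    have := hlam.pow_inj (i := 2) (j := 0) (by omega) (by omega) (by rw [h, pow_zero])
    omega
  obtain ⟨t, rfl⟩ : ∃ t, n = 1 + t + 0 := ⟨n - 1, by omega⟩
  refine unstable_block N r 1 t 0 lam μ (μ * lam ^ 2) hlamr hlam1 hfix (by omega)
    (by omega) (by omega) (Or.inl rfl) hμ ?_ ?_ ?_ ?_
  · intro h
    exact h21 (mul_left_cancel₀ hμ h)
  · intro h
    have : μ * lam ^ 2 = μ * 1 := by rw [h, mul_one]
    exact h20 (mul_left_cancel₀ hμ this)
  · rw [mul_pow, ← pow_mul, mul_comm 2 r, pow_mul, hlamr, one_pow, mul_one]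
  · rw [pow_one, pow_zero, mul_one, ← hdet]
    ring

/-- existence of unstable tuples when `F` has a primitive `r`-th root of unity moved by the
`N`-th power map -/
theorem exists_unstable [DecidableEq F] (N r : ℕ) (hr : r.Prime) (hr2 : r ≠ 2) (lam : F)
    (hlam : IsPrimitiveRoot lam r) (hfix : lam ^ N ≠ lam) (n : ℕ) (hn : 3 ≤ n)
    (hgap : ¬ (n = 6 ∧ r = 3))
    (hexc : n = r → (r = 3 ∨ r = 5) → r ^ 2 ∣ Fintype.card F - 1) :
    ∃ (d : Fin n → F) (z : F), (∏ j, d j = 1) ∧ (∀ j, d j ^ r = z) ∧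
      (∃ i j, d i ≠ d j) ∧ ¬ Stable N d := by
  have : Fact r.Prime := ⟨hr⟩
  have hr3 : 3 ≤ r := by
    have := hr.two_le
    omega
  have hlamr : lam ^ r = 1 := hlam.pow_eq_one
  have hlam1 : lam ≠ 1 := hlam.ne_one (by omega)
  have hlam0 : lam ≠ 0 := by
    rintro rfl
    rw [zero_pow (by omega)] at hlamr
    exact zero_ne_one hlamr
  have h21 : lam ^ 2 ≠ lam := by
    intro h
    have := hlam.pow_inj (i := 2) (j := 1) (by omega) (by omega) (by rw [h, pow_one])
    omega
  have h20 : lam ^ 2 ≠ 1 := by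
    intro h
    have := hlam.pow_inj (i := 2) (j := 0) (by omega) (by omega) (by rw [h, pow_zero])
    omega
  by_cases hrn : r ∣ n
  · by_cases hA : r ≠ 3 ∧ 6 ≤ n
    · -- diag(λ, λ, 1, …, 1, λ^(r-2))
      obtain ⟨hr3', hn6⟩ := hA
      have hr5 : 5 ≤ r := by
        by_contra h
        have : r = 4 := by omega
        rw [this] at hr
        exact absurd hr (by decide)
      obtain ⟨t, rfl⟩ : ∃ t, n = 2 + t + 1 := ⟨n - 3, by omega⟩
      refine unstable_block N r 2 t 1 lam 1 (lam ^ (r - 2)) hlamr hlam1 hfix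
        (by omega) (by omega) (by omega) (Or.inr ⟨by omega, by omega⟩) one_ne_zero ?_ ?_ ?_ ?_
      · intro h
        rw [one_mul] at h
        have := hlam.pow_inj (i := r - 2) (j := 1) (by omega) (by omega) (by rw [h, pow_one])
        omega
      · intro h
        have := hlam.pow_inj (i := r - 2) (j := 0) (by omega) (by omega) (by rw [h, pow_zero])
        omega
      · rw [← pow_mul, mul_comm, pow_mul, hlamr, one_pow, one_pow]
      · rw [one_mul, one_pow, mul_one, pow_one, ← pow_add]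
        have : 2 + (r - 2) = r := by omega
        rw [this, hlamr]
    · by_cases hB : r = 3 ∧ 9 ≤ n
      · obtain ⟨rfl, hn9⟩ := hB
        obtain ⟨t, rfl⟩ : ∃ t, n = 3 + t + 0 := ⟨n - 3, by omega⟩
        refine unstable_block N 3 3 t 0 lam 1 (lam ^ 2) hlamr hlam1 hfix
          (by omega) (by omega) (by omega) (Or.inl rfl) one_ne_zero ?_ ?_ ?_ ?_
        · rw [one_mul]
          exact h21
        · exact h20
        · rw [← pow_mul, mul_comm, pow_mul, hlamr, one_pow, one_pow]
        · rw [one_mul, one_pow, mul_one, pow_zero, mul_one, hlamr]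
      · -- n = r ∈ {3, 5}
        have hnr : n = r ∧ (r = 3 ∨ r = 5) := by
          have hrle : r ≤ n := Nat.le_of_dvd (by omega) hrn
          by_cases h3 : r = 3
          · subst h3
            have hn9 : n < 9 := by
              by_contra h
              exact hB ⟨rfl, by omega⟩
            have hn6 : n ≠ 6 := fun h => hgap ⟨h, rfl⟩
            obtain ⟨s, rfl⟩ := hrn
            have : s = 1 := by omega
            subst this
            exact ⟨rfl, Or.inl rfl⟩
          · have hr5 : 5 ≤ r := by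
              by_contra h
              have : r = 4 := by omega
              rw [this] at hr
              exact absurd hr (by decide)
            have hn6 : n < 6 := by
              by_contra h
              exact hA ⟨h3, by omega⟩
            have : r = 5 := by omega
            subst this
            obtain ⟨s, rfl⟩ := hrn
            have : s = 1 := by omega
            subst this
            exact ⟨rfl, Or.inr rfl⟩
        obtain ⟨rfl, hr35⟩ := hnr
        have hsq' : n ^ 2 ∣ Fintype.card F - 1 := hexc rfl hr35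
        obtain ⟨B', hB'⟩ := hsq'
        have hAB : Fintype.card F - 1 = n * (n * B') := by rw [hB']; ring
        have hcardpos : Fintype.card F - 1 ≠ 0 := by
          have : 1 < Fintype.card F := Fintype.one_lt_card
          omega
        have hB0 : n * B' ≠ 0 := by
          intro h
          rw [h, mul_zero] at hAB
          exact hcardpos hAB
        obtain ⟨μ, hμ0, hμ⟩ := exists_pow_eq_of_pow_eq_one n (n * B') hAB (lam⁻¹) (by
          rw [inv_pow, pow_mul, hlamr, one_pow, inv_one]) hB0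
        refine unstable_of_mu N n hr3 lam μ hlam hfix hμ0 n hr3 ?_
        rw [hμ, inv_mul_cancel₀ hlam0]
  · -- r ∤ n: the scalar μ = λ^m₀
    have hnz : (n : ZMod r) ≠ 0 := by
      intro h
      exact hrn ((ZMod.natCast_eq_zero_iff _ _).1 h)
    set m₀ : ℕ := (-(n : ZMod r)⁻¹).val with hm₀
    have hm₀' : (m₀ : ZMod r) = -(n : ZMod r)⁻¹ := ZMod.natCast_zmod_val _
    have hdvd : r ∣ m₀ * n + 1 := by
      rw [← ZMod.natCast_eq_zero_iff]
      push_cast
      rw [hm₀', neg_mul, inv_mul_cancel₀ hnz, neg_add_cancel]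
    set μ : F := lam ^ m₀ with hμ
    have hμ0 : μ ≠ 0 := pow_ne_zero _ hlam0
    have hdet : μ ^ n * lam = 1 := by
      rw [hμ, ← pow_mul, ← pow_succ]
      exact (hlam.pow_eq_one_iff_dvd _).2 hdvd
    exact unstable_of_mu N r hr3 lam μ hlam hfix hμ0 n hn hdet

end Cfsg.Agent.Lib.Helper22.UnitR
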