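import Mathlib
import Cfsg.Agent.Lib.Helper22.OrthRD
import Cfsg.Agent.Lib.Helper22.OrthRF
import Cfsg.Agent.Lib.Helper22.OrthRH
import Cfsg.Agent.Lib.Helper22.OrthRJ
import Cfsg.Agent.Lib.Helper22.OrthRK
import Cfsg.Agent.Lib.Helper22.UnitRE
import Cfsg.Agent.Lib.Helper22.SubfRG

/-! Elements of prime order of `PSL_n(q)`, `q` odd, and subgroups of orthogonal type: the two
directions. -/

set_option autoImplicit false
open scoped MatrixGroups

namespace Cfsg.Agent.Lib.Helper22.OrthR

open Matrix QuadraticMap Module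

variable {F : Type*} [Field F] [Fintype F]

/-- if `r` is odd and the exceptional conditions fail there is a bad element -/
theorem exists_bad {p : ℕ} [Fact p.Prime] [CharP F p] (hodd : Odd (Fintype.card F)) (n : ℕ)
    (hn : 3 ≤ n) (Qf : QuadraticForm F (Fin n → F)) (hnd : (polarBilin Qf).Nondegenerate)
    (r : ℕ) (hr' : r.Prime) (hgap : ¬ (n = 6 ∧ r = 3))
    (hΩ' : r ∣ (Cfsg.Geo.quadSimilarityGroup (⇑Qf)).relIndex
      (Cfsg.Geo.specialLinear (Fin n) F))
    (hr2 : r ≠ 2)
    (hneg2 : ¬ ((r = 3 ∨ r = 5) ∧ n = r ∧ padicValNat r (Fintype.card F - 1) = 1)) :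
    ∃ x : GL (Fin n) F, x ∈ Cfsg.Geo.specialLinear (Fin n) F ∧
      (∃ z : F, ((x ^ r : GL (Fin n) F) : Matrix (Fin n) (Fin n) F) = z • 1) ∧
      (∀ z : F, (x : Matrix (Fin n) (Fin n) F) ≠ z • 1) ∧
      ∀ g : GL (Fin n) F, g⁻¹ * x * g ∉ Cfsg.Geo.quadSimilarityGroup (⇑Qf) := by
  classical
  have hp : p.Prime := Fact.out
  have hp2 : p ≠ 2 := by
    intro h
    obtain ⟨f, -, hf⟩ := FiniteField.card F p
    rw [hf, h] at hodd
    have h1 : (f : ℕ) ≠ 0 := f.ne_zero
    exact (Nat.not_even_iff_odd.2 hodd) ((Nat.even_pow.2 ⟨even_two, h1⟩))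
  have h2F : ((2 : ℕ) : F) ≠ 0 := by
    intro h0
    rw [CharP.cast_eq_zero_iff F p] at h0
    exact hp2 ((Nat.prime_dvd_prime_iff_eq hp Nat.prime_two).1 h0)
  have h2 : (2 : F) ≠ 0 := by exact_mod_cast h2F
  have hq3 : 3 ≤ Fintype.card F := by
    have h1 : 2 ≤ Fintype.card F := Fintype.one_lt_card
    obtain ⟨t, ht⟩ := hodd
    omega
  have hrodd : Odd r := hr'.odd_of_ne_two hr2
  -- a bad matrix gives a bad element
  have hbad : ∀ M : Matrix (Fin n) (Fin n) F, M.det = 1 → (∃ z : F, M ^ r = z • 1) →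
      (∀ z : F, M ≠ z • 1) →
      (∀ Q' : QuadraticForm F (Fin n → F), (polarBilin Q').Nondegenerate →
        (∀ (ε : ℤ) (m : ℕ), Cfsg.Agent.Lib.Helper15.QuadType.HasType ε m (⇑Qf) →
          Cfsg.Agent.Lib.Helper15.QuadType.HasType ε m (⇑Q')) →
        ¬ IsSim (⇑Q') M) →
      ∃ x : GL (Fin n) F, x ∈ Cfsg.Geo.specialLinear (Fin n) F ∧
        (∃ z : F, ((x ^ r : GL (Fin n) F) : Matrix (Fin n) (Fin n) F) = z • 1) ∧
        (∀ z : F, (x : Matrix (Fin n) (Fin n) F) ≠ z • 1) ∧
        ∀ g : GL (Fin n) F, g⁻¹ * x * g ∉ Cfsg.Geo.quadSimilarityGroup (⇑Qf) := by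
    intro M hdet hpow hns hno
    have hdet0 : M.det ≠ 0 := by rw [hdet]; exact one_ne_zero
    set x : GL (Fin n) F := Matrix.GeneralLinearGroup.mkOfDetNeZero M hdet0 with hx
    have hxval : (x : Matrix (Fin n) (Fin n) F) = M := rfl
    obtain ⟨z, hz⟩ := hpow
    refine ⟨x, by rw [Cfsg.Agent.Lib.Helper22.UnitR.mem_specialLinear_iff, hxval, hdet],
      ⟨z, by rw [Units.val_pow_eq_pow_val, hxval, hz]⟩, by rw [hxval]; exact hns, ?_⟩
    intro g hg
    rw [conj_mem_quadSim_iff, hxval] at hg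
    obtain ⟨Q', hnd', hQ'⟩ := comp_form Qf hnd g
    have hfun : (⇑Q' : (Fin n → F) → F) =
        fun w => Qf (((g⁻¹ : GL (Fin n) F) : Matrix (Fin n) (Fin n) F) *ᵥ w) := by
      funext w
      exact hQ' w
    refine hno Q' hnd' ?_ (by rw [hfun]; exact hg)
    intro ε m hT
    let e : (Fin n → F) ≃ (Fin n → F) :=
      { toFun := fun v => (g : Matrix (Fin n) (Fin n) F) *ᵥ v
        invFun := fun v => ((g⁻¹ : GL (Fin n) F) : Matrix (Fin n) (Fin n) F) *ᵥ v
        left_inv := fun v => by
          show ((g⁻¹ : GL (Fin n) F) : Matrix (Fin n) (Fin n) F) *ᵥ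
            ((g : Matrix (Fin n) (Fin n) F) *ᵥ v) = v
          rw [Matrix.mulVec_mulVec, ← Units.val_mul, inv_mul_cancel, Units.val_one,
            Matrix.one_mulVec]
        right_inv := fun v => by
          show (g : Matrix (Fin n) (Fin n) F) *ᵥ
            (((g⁻¹ : GL (Fin n) F) : Matrix (Fin n) (Fin n) F) *ᵥ v) = v
          rw [Matrix.mulVec_mulVec, ← Units.val_mul, mul_inv_cancel, Units.val_one,
            Matrix.one_mulVec] }
    apply hT.congr e
    intro v
    show Q' ((g : Matrix (Fin n) (Fin n) F) *ᵥ v) = Qf v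
    rw [hQ', Matrix.mulVec_mulVec, ← Units.val_mul, inv_mul_cancel, Units.val_one,
      Matrix.one_mulVec]
  by_cases hrp : r = p
  · -- the characteristic: a transvection
    obtain ⟨M, hM1, hM2, hM3, hM4⟩ := bad_transvection (F := F) (p := p) hp2 (n := n) (by omega)
    refine hbad M hM1 ⟨1, by rw [hrp, one_smul]; exact hM2⟩ hM3 (fun Q' hnd' _ => hM4 Q' hnd')
  · have hrcard : ¬ r ∣ Fintype.card F := by
      obtain ⟨f, -, hf⟩ := FiniteField.card F p
      rw [hf]
      intro h
      exact hrp ((Nat.prime_dvd_prime_iff_eq hr' hp).1 (hr'.dvd_of_dvd_pow h))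
    by_cases hoddj : ∃ j, Odd j ∧ j ≤ n ∧ r ∣ Fintype.card F ^ j - 1
    · obtain ⟨j, hjodd, hjn, hrj⟩ := hoddj
      have hj1 : 1 ≤ j := by
        obtain ⟨t, ht⟩ := hjodd
        omega
      by_cases hrq : r ∣ Fintype.card F - 1
      · -- diagonal elements
        obtain ⟨lam, hlam⟩ := Cfsg.Agent.Lib.Helper22.SubfR.exists_primitive_root r hr' hrq
        have hlamr : lam ^ r = 1 := hlam.pow_eq_one
        have hlam0 : lam ≠ 0 := by
          rintro rfl
          rw [zero_pow hr'.ne_zero] at hlamr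
          exact zero_ne_one hlamr
        have hfix : lam ^ (Fintype.card F - 2) ≠ lam := by
          intro h
          have h1 : lam ^ (Fintype.card F - 2) * lam = 1 := by
            rw [← pow_succ]
            have : Fintype.card F - 2 + 1 = Fintype.card F - 1 := by omega
            rw [this]
            exact FiniteField.pow_card_sub_one_eq_one lam hlam0
          rw [h] at h1
          have h3 : r ∣ 2 := by
            rw [← hlam.pow_eq_one_iff_dvd, pow_two]
            exact h1
          have := Nat.le_of_dvd (by norm_num) h3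
          have := hr'.two_le
          omega
        have hexc : n = r → (r = 3 ∨ r = 5) → r ^ 2 ∣ Fintype.card F - 1 := by
          intro h1 h35
          have hv1 : padicValNat r (Fintype.card F - 1) ≠ 1 := fun h => hneg2 ⟨h35, h1, h⟩
          have : Fact r.Prime := ⟨hr'⟩
          have hv0 : 1 ≤ padicValNat r (Fintype.card F - 1) :=
            one_le_padicValNat_of_dvd (by omega) hrq
          have hv2 : 2 ≤ padicValNat r (Fintype.card F - 1) := by omega
          exact (padicValNat_dvd_iff_le (by omega)).2 hv2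
        obtain ⟨d, z, hprod, hpow, hne, hunst⟩ :=
          Cfsg.Agent.Lib.Helper22.UnitR.exists_unstable (Fintype.card F - 2) r hr' hr2 lam hlam
            hfix n hn hgap hexc
        refine hbad (Matrix.diagonal d) (by rw [Matrix.det_diagonal, hprod]) ⟨z, ?_⟩ ?_
          (fun Q' hnd' _ => bad_diag h2 hq3 (by omega) r hrodd d z hprod hpow hunst Q' hnd')
        · rw [Matrix.diagonal_pow]
          ext i j
          by_cases hij : i = j
          · subst hij
            simp only [Matrix.diagonal_apply_eq, Pi.pow_apply, Matrix.smul_apply,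
              Matrix.one_apply_eq, smul_eq_mul, mul_one]
            exact hpow i
          · simp [Matrix.diagonal_apply_ne _ hij, Matrix.one_apply_ne hij]
        · intro z' hz'
          obtain ⟨i, j, hij⟩ := hne
          have h0 := congrFun (congrFun hz' i) i
          have h1 := congrFun (congrFun hz' j) j
          simp only [Matrix.diagonal_apply_eq, Matrix.smul_apply, Matrix.one_apply_eq,
            smul_eq_mul, mul_one] at h0 h1
          exact hij (h0.trans h1.symm)
      · -- block elements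
        obtain ⟨M, hM1, hM2, hM3, hM4⟩ := bad_block (F := F) hp2 r hr' hr2 hrp hrq n j hj1 hjn
          hjodd hrj
        exact hbad M hM1 ⟨1, by rw [one_smul]; exact hM2⟩ hM3 (fun Q' hnd' _ => hM4 Q' hnd')
    · -- fixed-point-free elements
      have hrq : ¬ r ∣ Fintype.card F - 1 := by
        intro h
        exact hoddj ⟨1, odd_one, by omega, by rw [pow_one]; exact h⟩
      rcases Nat.even_or_odd' n with ⟨m, rfl | rfl⟩
      · obtain ⟨k, rfl⟩ : ∃ k, m = k + 1 := ⟨m - 1, by omega⟩
        rcases index_even k Qf hnd r hr' hrcard hΩ' with h | h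
        · exact absurd h hoddj
        · obtain ⟨ε, hε, hT, hqm⟩ := h
          obtain ⟨M, hM1, hM2, hM3, hM4⟩ := bad_fpf (F := F) hp2 r hr' hr2 hrp hrq (k + 1)
            (by omega) ε hε hqm
          exact hbad M hM1 ⟨1, by rw [one_smul]; exact hM2⟩ hM3
            (fun Q' hnd' htr => hM4 Q' hnd' (htr ε (k + 1) hT))
      · exact absurd (index_odd h2 m Qf hnd r hr' hrcard hΩ') hoddj

/-- the exceptional cases: every element is good -/
theorem all_good {p : ℕ} [Fact p.Prime] [CharP F p] (hodd : Odd (Fintype.card F)) (n : ℕ)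
    (hn : 3 ≤ n) (Qf : QuadraticForm F (Fin n → F)) (hnd : (polarBilin Qf).Nondegenerate)
    (r : ℕ) (hr' : r.Prime)
    (h : r = 2 ∨ ((r = 3 ∨ r = 5) ∧ n = r ∧ padicValNat r (Fintype.card F - 1) = 1))
    (x : GL (Fin n) F) (hx : x ∈ Cfsg.Geo.specialLinear (Fin n) F)
    (hxz : ∃ z : F, ((x ^ r : GL (Fin n) F) : Matrix (Fin n) (Fin n) F) = z • 1) :
    ∃ g : GL (Fin n) F, g ∈ Cfsg.Geo.specialLinear (Fin n) F ∧
      g⁻¹ * x * g ∈ Cfsg.Geo.quadSimilarityGroup (⇑Qf) := by
  classical
  have hp : p.Prime := Fact.out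
  have hp2 : p ≠ 2 := by
    intro h
    obtain ⟨f, -, hf⟩ := FiniteField.card F p
    rw [hf, h] at hodd
    have h1 : (f : ℕ) ≠ 0 := f.ne_zero
    exact (Nat.not_even_iff_odd.2 hodd) ((Nat.even_pow.2 ⟨even_two, h1⟩))
  rcases h with h | ⟨h35, hnr, hv⟩
  · subst h
    obtain ⟨z, hz⟩ := hxz
    rw [Units.val_pow_eq_pow_val, pow_two] at hz
    exact good_two hp2 (by omega) Qf hnd x z hz
  · have hSym : Cfsg.Agent.Lib.Helper22.SubfR.Sym r := by
      rcases h35 with h | h
      · rw [h]; exact Cfsg.Agent.Lib.Helper22.SubfR.sym3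
      · rw [h]; exact Cfsg.Agent.Lib.Helper22.SubfR.sym5
    have hr2 : r ≠ 2 := by
      rcases h35 with h | h <;> omega
    have hrq : r ∣ Fintype.card F - 1 := by
      have : Fact r.Prime := ⟨hr'⟩
      exact dvd_of_one_le_padicValNat (by omega)
    have hrne : r ≠ p := by
      intro h
      obtain ⟨f, -, hf⟩ := FiniteField.card F p
      have hpq : p ∣ Fintype.card F := by
        rw [hf]
        exact dvd_pow_self p f.ne_zero
      rw [h] at hrq
      have hpos : 1 ≤ Fintype.card F := Fintype.card_pos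
      have h1 : p ∣ 1 := by
        have h3 : p ∣ Fintype.card F - (Fintype.card F - 1) := Nat.dvd_sub hpq hrq
        have h4 : Fintype.card F - (Fintype.card F - 1) = 1 := by omega
        rwa [h4] at h3
      exact hp.one_lt.ne' (Nat.dvd_one.1 h1)
    subst hnr
    haveI : NeZero n := ⟨hr'.ne_zero⟩
    obtain ⟨z, hz⟩ := hxz
    rw [Units.val_pow_eq_pow_val] at hz
    exact good_sym hp2 n hr' hr2 hrne hSym hv Qf hnd x hx z hz

end Cfsg.Agent.Lib.Helper22.OrthR
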