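import Mathlib
import Cfsg.Prelude.Def_Transfer
import Cfsg.Agent.Lib.Helper12.PComplement
import Cfsg.Agent.Lib.Helper22.PiClasses
import Cfsg.Agent.S0086
set_option autoImplicit false
set_option linter.unusedSectionVars false
set_option linter.style.haveILetI false
set_option linter.deprecated false
namespace Cfsg.Agent.Lib.Helper22.PClassCount
open Cfsg.Agent.Lib.Helper22.PiClasses

universe u
variable {G : Type u} [Group G] [Finite G] {p : ℕ} [Fact p.Prime]

/-- `x ∈ P` is *isolated*: its only `G`-conjugate in `P` is `x` itself. -/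
def Isolated (P : Sylow p G) (x : G) : Prop :=
  x ∈ P ∧ ∀ g : G, g⁻¹ * x * g ∈ P → g⁻¹ * x * g = x

theorem Isolated.central {P : Sylow p G} {x : G} (h : Isolated P x) :
    ∀ u ∈ P, u * x = x * u := by
  intro u hu
  have h1 := h.2 u (P.1.mul_mem (P.1.mul_mem (P.1.inv_mem hu) h.1) hu)
  calc u * x = u * (u⁻¹ * x * u) := by rw [h1]
    _ = x * u := by group

theorem Isolated.pow {P : Sylow p G} {x : G} (h : Isolated P x) (k : ℕ) : Isolated P (x ^ k) := by
  refine ⟨P.1.pow_mem h.1 k, ?_⟩
  intro g hg
  -- `C = C_G(x^k)`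
  have hPC : (P : Subgroup G) ≤ Subgroup.centralizer {x ^ k} := by
    intro u hu
    rw [Subgroup.mem_centralizer_singleton_iff]
    exact ((Commute.pow_right (h.central u hu) k).eq)
  -- `x₁ = g x g⁻¹` commutes with `x ^ k`
  have hw : x * (g⁻¹ * x ^ k * g) = (g⁻¹ * x ^ k * g) * x := (h.central _ hg).symm
  have hx1 : g * x * g⁻¹ ∈ Subgroup.centralizer {x ^ k} := by
    rw [Subgroup.mem_centralizer_singleton_iff]
    have : g * (x * (g⁻¹ * x ^ k * g)) * g⁻¹ = g * ((g⁻¹ * x ^ k * g) * x) * g⁻¹ := by rw [hw]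
    calc g * x * g⁻¹ * x ^ k = g * (x * (g⁻¹ * x ^ k * g)) * g⁻¹ := by group
      _ = g * ((g⁻¹ * x ^ k * g) * x) * g⁻¹ := this
      _ = x ^ k * (g * x * g⁻¹) := by group
  have hxp : IsPGroup p (Subgroup.zpowers x) := P.2.to_le (Subgroup.zpowers_le.2 h.1)
  have hx1p : IsPGroup p (Subgroup.zpowers (g * x * g⁻¹)) := by
    have : Subgroup.zpowers (g * x * g⁻¹) = (Subgroup.zpowers x).map (MulAut.conj g).toMonoidHom := by
      rw [MonoidHom.map_zpowers]; rfl
    rw [this]
    exact hxp.map _
  obtain ⟨c, hc, hcP⟩ := Cfsg.Agent.Lib.Helper12.exists_conj_mem_sylow P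
    (Subgroup.centralizer {x ^ k}) (Subgroup.zpowers (g * x * g⁻¹)) hPC
    (Subgroup.zpowers_le.2 hx1) hx1p
  have h2 : c * (g * x * g⁻¹) * c⁻¹ ∈ (P : Subgroup G) := hcP _ (Subgroup.mem_zpowers _)
  -- with `h = (c g)⁻¹`
  have h3 : ((c * g)⁻¹)⁻¹ * x * (c * g)⁻¹ = x := by
    apply h.2
    have : ((c * g)⁻¹)⁻¹ * x * (c * g)⁻¹ = c * (g * x * g⁻¹) * c⁻¹ := by group
    rw [this]; exact h2
  have h4 : (c * g) * x = x * (c * g) := by
    have : (c * g) * x * (c * g)⁻¹ = x := by
      rw [inv_inv] at h3; exact h3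
    calc (c * g) * x = ((c * g) * x * (c * g)⁻¹) * (c * g) := by group
      _ = x * (c * g) := by rw [this]
  have h5 : (c * g) * x ^ k = x ^ k * (c * g) := (Commute.pow_right h4 k).eq
  rw [Subgroup.mem_centralizer_singleton_iff] at hc
  -- hc : c * x^k = x^k * c
  have h6 : g * x ^ k = x ^ k * g := by
    have e1 : c * (g * x ^ k) = c * (x ^ k * g) := by
      calc c * (g * x ^ k) = (c * g) * x ^ k := by group
        _ = x ^ k * (c * g) := h5
        _ = (x ^ k * c) * g := by group
        _ = (c * x ^ k) * g := by rw [hc]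
        _ = c * (x ^ k * g) := by group
    exact mul_left_cancel e1
  calc g⁻¹ * x ^ k * g = g⁻¹ * (x ^ k * g) := by group
    _ = g⁻¹ * (g * x ^ k) := by rw [h6]
    _ = x ^ k := by group

theorem transfer_isolated {P : Sylow p G} {x : G} (h : Isolated P x) :
    MonoidHom.transfer (Abelianization.of : ↥(P : Subgroup G) →* Abelianization ↥(P : Subgroup G)) x =
      Abelianization.of ⟨x ^ (P : Subgroup G).index, P.1.pow_mem h.1 _⟩ :=
  MonoidHom.transfer_eq_pow _ x (fun k g₀ hk => (h.pow k).2 g₀ hk)


/-- an isolated element outside `P'` yields a proper normal subgroup of `p`-power index -/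
theorem exists_normal_of_isolated {P : Sylow p G} {x : G} (h : Isolated P x)
    (hx : (⟨x, h.1⟩ : ↥(P : Subgroup G)) ∉ commutator ↥(P : Subgroup G)) :
    ∃ M : Subgroup G, M.Normal ∧ M ≠ ⊤ ∧ ∃ n : ℕ, M.index = p ^ n := by
  set V := MonoidHom.transfer
    (Abelianization.of : ↥(P : Subgroup G) →* Abelianization ↥(P : Subgroup G)) with hV
  have hVx : V x ≠ 1 := by
    rw [hV, transfer_isolated h]
    intro h1
    rw [← MonoidHom.mem_ker, Abelianization.ker_of] at h1
    apply hx
    have hcop : (Nat.card ↥(P : Subgroup G)).Coprime (P : Subgroup G).index := P.card_coprime_index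
    have e : (⟨x, h.1⟩ : ↥(P : Subgroup G)) =
        (powCoprime hcop).symm ((⟨x, h.1⟩ : ↥(P : Subgroup G)) ^ (P : Subgroup G).index) := by
      rw [Equiv.eq_symm_apply]; rfl
    rw [e]
    have h2 : ((⟨x, h.1⟩ : ↥(P : Subgroup G)) ^ (P : Subgroup G).index) ∈
        commutator ↥(P : Subgroup G) := by
      convert h1 using 1
      exact Subtype.ext (by simp)
    show ((⟨x, h.1⟩ : ↥(P : Subgroup G)) ^ (P : Subgroup G).index) ^
      ((Nat.card ↥(P : Subgroup G)).gcdB (P : Subgroup G).index) ∈ commutator ↥(P : Subgroup G)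
    exact Subgroup.zpow_mem _ h2 _
  refine ⟨V.ker, inferInstance, ?_, ?_⟩
  · intro htop
    apply hVx
    have : x ∈ V.ker := by rw [htop]; exact Subgroup.mem_top x
    exact this
  · rw [Subgroup.index_ker]
    have h1 : IsPGroup p (Abelianization ↥(P : Subgroup G)) := P.2.to_quotient _
    have h2 : IsPGroup p ↥V.range := h1.to_subgroup _
    obtain ⟨n, hn⟩ := IsPGroup.iff_card.1 h2
    exact ⟨n, hn⟩

/-- every `p`-class of `G` meets the Sylow `p`-subgroup `P` -/
theorem exists_mem_sylow_of_piClass (P : Sylow p G) (C : ConjClasses G) (hC : PiClass {p} C) :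
    ∃ x : ↥(P : Subgroup G), ConjClasses.mk (x : G) = C := by
  obtain ⟨g, rfl⟩ := ConjClasses.mk_surjective C
  have hg : IsPi {p} g := (isPi_iff_piClass {p} g).2 hC
  have hp : p.Prime := Fact.out
  have hpow : orderOf g = p ^ (orderOf g).primeFactorsList.length :=
    Nat.eq_prime_pow_of_unique_prime_dvd (orderOf_pos g).ne' (fun {d} hd hdvd => hg d hd hdvd)
  have hgp : IsPGroup p (Subgroup.zpowers g) :=
    IsPGroup.of_card (n := (orderOf g).primeFactorsList.length) (by rw [Nat.card_zpowers, ← hpow])
  obtain ⟨c, -, hc⟩ := Cfsg.Agent.Lib.Helper12.exists_conj_mem_sylow P ⊤ (Subgroup.zpowers g)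
    le_top le_top hgp
  refine ⟨⟨c * g * c⁻¹, hc g (Subgroup.mem_zpowers g)⟩, ?_⟩
  rw [ConjClasses.mk_eq_mk_iff_isConj, isConj_comm, isConj_iff]
  exact ⟨c, rfl⟩

/-- the counting inequality `2 k_p(G) ≤ |P| + #isolated` -/
theorem two_mul_card_le (P : Sylow p G) :
    2 * Nat.card {C : ConjClasses G // PiClass {p} C} ≤
      Nat.card ↥(P : Subgroup G) + Nat.card {x : ↥(P : Subgroup G) // Isolated P (x : G)} := by
  classical
  -- representatives
  have hr : ∀ C : {C : ConjClasses G // PiClass {p} C},
      ∃ x : ↥(P : Subgroup G), ConjClasses.mk (x : G) = C.1 :=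
    fun C => exists_mem_sylow_of_piClass P C.1 C.2
  choose r hr using hr
  have hr' : ∀ C : {C : ConjClasses G // PiClass {p} C}, ¬ Isolated P (r C : G) →
      ∃ x' : ↥(P : Subgroup G), ConjClasses.mk (x' : G) = C.1 ∧ x' ≠ r C := by
    intro C hC
    unfold Isolated at hC
    push Not at hC
    obtain ⟨g, hg1, hg2⟩ := hC (r C).2
    refine ⟨⟨g⁻¹ * (r C : G) * g, hg1⟩, ?_, ?_⟩
    · rw [← hr C, ConjClasses.mk_eq_mk_iff_isConj, isConj_comm, isConj_iff]
      exact ⟨g⁻¹, by rw [inv_inv]⟩
    · intro h
      exact hg2 (congrArg Subtype.val h)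
  -- the injection
  let f : {C : ConjClasses G // PiClass {p} C} ⊕ {C : ConjClasses G // PiClass {p} C} →
      ↥(P : Subgroup G) ⊕ {x : ↥(P : Subgroup G) // Isolated P (x : G)} := fun s =>
    match s with
    | Sum.inl C => Sum.inl (r C)
    | Sum.inr C => if h : Isolated P (r C : G) then Sum.inr ⟨r C, h⟩ else Sum.inl (hr' C h).choose
  have hf : Function.Injective f := by
    rintro (C | C) (D | D) hCD
    · simp only [f, Sum.inl.injEq] at hCD
      have : C.1 = D.1 := by rw [← hr C, ← hr D, hCD]
      rw [Subtype.ext this]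
    · simp only [f] at hCD
      split_ifs at hCD with h
      · simp only [Sum.inl.injEq] at hCD
        exfalso
        have h1 := (hr' D h).choose_spec
        have : C.1 = D.1 := by rw [← hr C, hCD, h1.1]
        have hCD' : C = D := Subtype.ext this
        subst hCD'
        exact h1.2 hCD.symm
    · simp only [f] at hCD
      split_ifs at hCD with h
      · simp only [Sum.inl.injEq] at hCD
        exfalso
        have h1 := (hr' C h).choose_spec
        have : C.1 = D.1 := by rw [← hr D, ← hCD, h1.1]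
        have hCD' : C = D := Subtype.ext this
        subst hCD'
        exact h1.2 hCD
    · simp only [f] at hCD
      split_ifs at hCD with h1 h2 h2
      · simp only [Sum.inr.injEq, Subtype.mk.injEq] at hCD
        have : C.1 = D.1 := by rw [← hr C, ← hr D, hCD]
        rw [Subtype.ext this]
      · simp only [Sum.inl.injEq] at hCD
        have e1 := (hr' C h1).choose_spec
        have e2 := (hr' D h2).choose_spec
        have : C.1 = D.1 := by rw [← e1.1, hCD, e2.1]
        rw [Subtype.ext this]
  have := Nat.card_le_card_of_injective f hf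
  rw [Nat.card_sum, Nat.card_sum] at this
  omega


/-- proper subgroups of a `p`-group have index at least `p` -/
theorem mul_card_le_of_ne_top {Q : Type*} [Group Q] [Finite Q] (hQ : IsPGroup p Q)
    (H : Subgroup Q) (hH : H ≠ ⊤) : p * Nat.card H ≤ Nat.card Q := by
  have hp : p.Prime := Fact.out
  obtain ⟨n, hn⟩ := hQ.index H
  have hn0 : n ≠ 0 := by
    rintro rfl
    rw [pow_zero, Subgroup.index_eq_one] at hn
    exact hH hn
  have hdvd : p ∣ H.index := by rw [hn]; exact dvd_pow_self p hn0
  obtain ⟨m, hm⟩ := hdvd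
  have hm0 : 0 < m := by
    rcases Nat.eq_zero_or_pos m with h | h
    · rw [h, mul_zero] at hm
      exact absurd hm (Subgroup.index_ne_zero_of_finite)
    · exact h
  rw [← Subgroup.card_mul_index H, hm]
  calc p * Nat.card H = Nat.card H * p * 1 := by ring
    _ ≤ Nat.card H * p * m := Nat.mul_le_mul_left _ hm0
    _ = Nat.card H * (p * m) := by ring

theorem card_commutator_mul_le (P : Sylow p G) (hP : (P : Subgroup G) ≠ ⊥) :
    p * Nat.card ↥(commutator ↥(P : Subgroup G)) ≤ Nat.card ↥(P : Subgroup G) := by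
  have : Nontrivial ↥(P : Subgroup G) := (Subgroup.nontrivial_iff_ne_bot _).2 hP
  have : Group.IsNilpotent ↥(P : Subgroup G) := P.2.isNilpotent
  have hlt : commutator ↥(P : Subgroup G) < ⊤ := Group.IsSolvable.commutator_lt_top_of_nontrivial _
  exact mul_card_le_of_ne_top P.2 _ hlt.ne

/-- either a proper normal subgroup of `p`-power index exists, or there are few `p`-classes -/
theorem exists_normal_or_le (P : Sylow p G) (hP : (P : Subgroup G) ≠ ⊥) :
    (∃ M : Subgroup G, M.Normal ∧ M ≠ ⊤ ∧ ∃ n : ℕ, M.index = p ^ n) ∨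
      2 * p * Nat.card {C : ConjClasses G // PiClass {p} C} ≤
        (p + 1) * Nat.card ↥(P : Subgroup G) := by
  by_cases hex : ∃ x : ↥(P : Subgroup G), Isolated P (x : G) ∧ x ∉ commutator ↥(P : Subgroup G)
  · left
    obtain ⟨x, hx1, hx2⟩ := hex
    exact exists_normal_of_isolated hx1 hx2
  · right
    push Not at hex
    have h1 : Nat.card {x : ↥(P : Subgroup G) // Isolated P (x : G)} ≤
        Nat.card ↥(commutator ↥(P : Subgroup G)) := by
      apply Nat.card_le_card_of_injective
        (fun x : {x : ↥(P : Subgroup G) // Isolated P (x : G)} =>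
          (⟨x.1, hex x.1 x.2⟩ : ↥(commutator ↥(P : Subgroup G))))
      intro a b hab
      simp only [Subtype.mk.injEq] at hab
      exact Subtype.ext hab
    have h2 := card_commutator_mul_le P hP
    have h3 := two_mul_card_le P
    calc 2 * p * Nat.card {C : ConjClasses G // PiClass {p} C}
        = p * (2 * Nat.card {C : ConjClasses G // PiClass {p} C}) := by ring
      _ ≤ p * (Nat.card ↥(P : Subgroup G) +
            Nat.card {x : ↥(P : Subgroup G) // Isolated P (x : G)}) := Nat.mul_le_mul_left _ h3
      _ ≤ p * (Nat.card ↥(P : Subgroup G) + Nat.card ↥(commutator ↥(P : Subgroup G))) :=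
          Nat.mul_le_mul_left _ (Nat.add_le_add_left h1 _)
      _ = p * Nat.card ↥(P : Subgroup G) + p * Nat.card ↥(commutator ↥(P : Subgroup G)) := by ring
      _ ≤ p * Nat.card ↥(P : Subgroup G) + Nat.card ↥(P : Subgroup G) := Nat.add_le_add_left h2 _
      _ = (p + 1) * Nat.card ↥(P : Subgroup G) := by ring

/-- a `p`-group with many classes is abelian -/
theorem comm_of_many_classes {Q : Type*} [Group Q] [Finite Q] (hQ : IsPGroup p Q)
    (h : (p + 1) * Nat.card Q < 2 * p * Nat.card (ConjClasses Q)) : ∀ a b : Q, a * b = b * a := by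
  classical
  by_contra hnc
  push Not at hnc
  obtain ⟨a0, b0, hab0⟩ := hnc
  have hp : p.Prime := Fact.out
  haveI := Fintype.ofFinite Q
  -- the center is small
  have hZ : p * (p * Nat.card (Subgroup.center Q)) ≤ Nat.card Q := by
    have hZtop : Subgroup.center Q ≠ ⊤ := by
      intro htop
      have : a0 ∈ Subgroup.center Q := by rw [htop]; exact Subgroup.mem_top _
      exact hab0 ((Subgroup.mem_center_iff.1 this b0).symm)
    obtain ⟨n, hn⟩ := hQ.index (Subgroup.center Q)
    have hn2 : 2 ≤ n := by
      by_contra hlt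
      push Not at hlt
      interval_cases n
      · rw [pow_zero, Subgroup.index_eq_one] at hn
        exact hZtop hn
      · rw [pow_one] at hn
        haveI : Fact p.Prime := ⟨hp⟩
        have hcard : Nat.card (Q ⧸ Subgroup.center Q) = p := by
          rw [← Subgroup.index_eq_card]; exact hn
        haveI : IsCyclic (Q ⧸ Subgroup.center Q) := isCyclic_of_prime_card hcard
        exact hab0 (commutative_of_cyclic_center_quotient (QuotientGroup.mk' (Subgroup.center Q))
          (by rw [QuotientGroup.ker_mk']) a0 b0)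
    have hdvd : p ^ 2 ∣ (Subgroup.center Q).index := by rw [hn]; exact pow_dvd_pow p hn2
    obtain ⟨m, hm⟩ := hdvd
    have hm0 : 0 < m := by
      rcases Nat.eq_zero_or_pos m with h0 | h0
      · rw [h0, mul_zero] at hm
        exact absurd hm (Subgroup.index_ne_zero_of_finite)
      · exact h0
    rw [← Subgroup.card_mul_index (Subgroup.center Q), hm]
    calc p * (p * Nat.card (Subgroup.center Q)) = Nat.card (Subgroup.center Q) * p ^ 2 * 1 := by ring
      _ ≤ Nat.card (Subgroup.center Q) * p ^ 2 * m := Nat.mul_le_mul_left _ hm0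
      _ = Nat.card (Subgroup.center Q) * (p ^ 2 * m) := by ring
  -- count commuting pairs
  have hcount := card_comm_eq_card_conjClasses_mul_card Q
  have hsum : Nat.card {q : Q × Q // Commute q.1 q.2} =
      ∑ x : Q, Nat.card {y : Q // Commute x y} := by
    rw [Nat.card_congr (Equiv.subtypeProdEquivSigmaSubtype Commute), Nat.card_sigma]
  have hterm : ∀ x : Q, p * Nat.card {y : Q // Commute x y} ≤
      if x ∈ Subgroup.center Q then p * Nat.card Q else Nat.card Q := by
    intro x
    split_ifs with hx
    · exact Nat.mul_le_mul_left _ (Nat.card_le_card_of_injective (fun y => y.1) Subtype.val_injective)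
    · have hne : Subgroup.centralizer {x} ≠ (⊤ : Subgroup Q) := by
        intro htop
        apply hx
        rw [Subgroup.mem_center_iff]
        intro g
        have : g ∈ Subgroup.centralizer {x} := by rw [htop]; exact Subgroup.mem_top _
        rw [Subgroup.mem_centralizer_singleton_iff] at this
        exact this
      have h1 := mul_card_le_of_ne_top hQ _ hne
      have h2 : Nat.card {y : Q // Commute x y} = Nat.card ↥(Subgroup.centralizer {x}) := by
        apply Nat.card_congr
        refine Equiv.subtypeEquivRight (fun y => ?_)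
        rw [Subgroup.mem_centralizer_singleton_iff]
        exact ⟨fun hc => hc.eq.symm, fun hc => hc.symm⟩
      rw [h2]; exact h1
  have hbound : p * (Nat.card (ConjClasses Q) * Nat.card Q) ≤
      p * Nat.card Q * Nat.card (Subgroup.center Q) +
        Nat.card Q * (Nat.card Q - Nat.card (Subgroup.center Q)) := by
    rw [← hcount, hsum, Finset.mul_sum]
    calc ∑ x : Q, p * Nat.card {y : Q // Commute x y}
        ≤ ∑ x : Q, (if x ∈ Subgroup.center Q then p * Nat.card Q else Nat.card Q) :=
          Finset.sum_le_sum (fun x _ => hterm x)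
      _ = p * Nat.card Q * Nat.card (Subgroup.center Q) +
            Nat.card Q * (Nat.card Q - Nat.card (Subgroup.center Q)) := by
          rw [Finset.sum_ite, Finset.sum_const, Finset.sum_const, smul_eq_mul, smul_eq_mul]
          have e1 : (Finset.univ.filter (fun x : Q => x ∈ Subgroup.center Q)).card =
              Nat.card (Subgroup.center Q) := by
            rw [Nat.card_eq_fintype_card, Fintype.card_subtype]
          have e2 : (Finset.univ.filter (fun x : Q => ¬ x ∈ Subgroup.center Q)).card =
              Nat.card Q - Nat.card (Subgroup.center Q) := by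
            rw [← e1, Nat.card_eq_fintype_card, ← Finset.card_univ (α := Q),
              ← Finset.card_filter_add_card_filter_not (s := Finset.univ)
                (fun x : Q => x ∈ Subgroup.center Q)]
            omega
          rw [e1, e2]; ring
  -- arithmetic
  have hq : 0 < Nat.card Q := Nat.card_pos
  have hzq : Nat.card (Subgroup.center Q) ≤ Nat.card Q := Subgroup.card_le_card_group _
  generalize Nat.card ↥(Subgroup.center Q) = z at hZ hbound hzq
  generalize Nat.card (ConjClasses Q) = k at h hbound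
  generalize Nat.card Q = q at hZ hbound hzq h hq
  obtain ⟨d, hd⟩ : ∃ d, q = z + d := ⟨q - z, by omega⟩
  have hd' : q - z = d := by omega
  rw [hd'] at hbound
  have hp2 : 2 ≤ p := hp.two_le
  -- p k q ≤ p q z + q d  ⇒ p k ≤ p z + d
  have h5 : p * k ≤ p * z + d := by
    have : q * (p * k) ≤ q * (p * z + d) := by
      calc q * (p * k) = p * (k * q) := by ring
        _ ≤ p * q * z + q * d := hbound
        _ = q * (p * z + d) := by ring
    exact Nat.le_of_mul_le_mul_left this hq
  nlinarith [h5, hZ, h, hd, hp2, Nat.mul_le_mul hp2 hp2]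


theorem card_piClass_le_card (X : Type*) [Group X] [Finite X] (π : Set ℕ) :
    Nat.card {C : ConjClasses X // PiClass π C} ≤ Nat.card X :=
  (Nat.card_le_card_of_injective (fun C => C.1) Subtype.val_injective).trans
    (Nat.card_le_card_of_surjective ConjClasses.mk ConjClasses.mk_surjective)

theorem card_piClass_le_card_conjClasses (X : Type*) [Group X] [Finite X] (π : Set ℕ) :
    Nat.card {C : ConjClasses X // PiClass π C} ≤ Nat.card (ConjClasses X) :=
  Nat.card_le_card_of_injective (fun C => C.1) Subtype.val_injective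

/-- a `p'`-group has only one `p`-class -/
theorem card_piClass_le_one (X : Type*) [Group X] [Finite X] (hX : (Nat.card X).Coprime p) :
    Nat.card {C : ConjClasses X // PiClass {p} C} ≤ 1 := by
  rw [Finite.card_le_one_iff_subsingleton]
  have key : ∀ C : {C : ConjClasses X // PiClass {p} C}, C.1 = ConjClasses.mk 1 := by
    intro C
    obtain ⟨g, hg⟩ := ConjClasses.mk_surjective C.1
    have hpi : IsPi {p} g := (isPi_iff_piClass {p} g).2 (hg ▸ C.2)
    have h1 : orderOf g = 1 := by
      by_contra hne
      obtain ⟨q, hq, hd⟩ := Nat.exists_prime_and_dvd hne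
      have hqp : q = p := hpi q hq hd
      subst hqp
      have h2 : q ∣ Nat.card X := hd.trans (orderOf_dvd_natCard g)
      have h3 := Nat.Coprime.eq_one_of_dvd hX.symm h2
      exact hq.ne_one h3
    rw [orderOf_eq_one_iff] at h1
    rw [← hg, h1]
  exact ⟨fun C D => Subtype.ext ((key C).trans (key D).symm)⟩

theorem forward_aux : ∀ (n : ℕ) (G : Type u) [Group G] [Finite G], Nat.card G = n →
    ∀ (P : Sylow p G),
    (p + 1) * Nat.card ↥(P : Subgroup G) <
      2 * p * Nat.card {C : ConjClasses G // PiClass {p} C} →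
    Cfsg.HasNormalPComplement p G ∧ ∀ a b : ↥(P : Subgroup G), a * b = b * a := by
  intro n
  induction n using Nat.strong_induction_on with
  | _ n ih =>
  intro G _ _ hn P hyp
  have hp : p.Prime := Fact.out
  by_cases hP : (P : Subgroup G) = ⊥
  · constructor
    · have hnd : ¬ p ∣ Nat.card G := fun hd => P.ne_bot_of_dvd_card hd hP
      apply Cfsg.Agent.Lib.Helper12.hasNormalPComplement_of_normal (⊤ : Subgroup G) inferInstance
        _ 0 (by simp)
      rw [Subgroup.card_top]
      exact ((Nat.Prime.coprime_iff_not_dvd hp).2 hnd).symm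
    · intro a b
      have hbot : ∀ c : ↥(P : Subgroup G), c = 1 := by
        intro c
        have h1 : (c : G) ∈ (⊥ : Subgroup G) := hP ▸ c.2
        exact Subtype.ext (Subgroup.mem_bot.1 h1)
      have ha : a = 1 := hbot a
      have hb : b = 1 := hbot b
      rw [ha, hb]
  · rcases exists_normal_or_le P hP with ⟨M, hMn, hMtop, m, hm⟩ | hle
    swap
    · exact absurd hyp (not_lt.2 hle)
    haveI := hMn
    obtain ⟨PM⟩ : Nonempty (Sylow p M) := inferInstance
    have hm0 : m ≠ 0 := by
      rintro rfl
      rw [pow_zero, Subgroup.index_eq_one] at hm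
      exact hMtop hm
    have hcardG : Nat.card G = Nat.card M * p ^ m := by rw [← hm, Subgroup.card_mul_index]
    have hlt : Nat.card M < n := by
      rw [← hn, hcardG]
      have : 2 ≤ p ^ m := by
        calc 2 ≤ p := hp.two_le
          _ = p ^ 1 := (pow_one p).symm
          _ ≤ p ^ m := Nat.pow_le_pow_right hp.pos (Nat.one_le_iff_ne_zero.2 hm0)
      have hpos : 0 < Nat.card M := Nat.card_pos
      nlinarith
    -- Sylow orders
    have hPcard : Nat.card ↥(P : Subgroup G) = Nat.card ↥(PM : Subgroup M) * p ^ m := by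
      rw [Sylow.card_eq_multiplicity, Sylow.card_eq_multiplicity, hcardG,
        Nat.factorization_mul Nat.card_pos.ne' (pow_ne_zero m hp.ne_zero)]
      simp only [Finsupp.coe_add, Pi.add_apply]
      rw [hp.factorization_pow]
      simp [pow_add]
    -- class counts
    have hk1 := card_piClasses_le M ({p} : Set ℕ)
    have hk2 : Nat.card {C : ConjClasses (G ⧸ M) // PiClass {p} C} ≤ p ^ m := by
      rw [← hm, Subgroup.index_eq_card]
      exact card_piClass_le_card _ _
    have hypM : (p + 1) * Nat.card ↥(PM : Subgroup M) <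
        2 * p * Nat.card {C : ConjClasses M // PiClass {p} C} := by
      have h1 : (p + 1) * Nat.card ↥(PM : Subgroup M) * p ^ m <
          2 * p * Nat.card {C : ConjClasses M // PiClass {p} C} * p ^ m := by
        calc (p + 1) * Nat.card ↥(PM : Subgroup M) * p ^ m
            = (p + 1) * Nat.card ↥(P : Subgroup G) := by rw [hPcard]; ring
          _ < 2 * p * Nat.card {C : ConjClasses G // PiClass {p} C} := hyp
          _ ≤ 2 * p * (Nat.card {C : ConjClasses M // PiClass {p} C} *
                Nat.card {C : ConjClasses (G ⧸ M) // PiClass {p} C}) :=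
              Nat.mul_le_mul_left _ hk1
          _ ≤ 2 * p * (Nat.card {C : ConjClasses M // PiClass {p} C} * p ^ m) :=
              Nat.mul_le_mul_left _ (Nat.mul_le_mul_left _ hk2)
          _ = 2 * p * Nat.card {C : ConjClasses M // PiClass {p} C} * p ^ m := by ring
      exact Nat.lt_of_mul_lt_mul_right h1
    obtain ⟨⟨P', K, hKn, hcomp⟩, -⟩ := ih (Nat.card M) hlt M rfl PM hypM
    haveI := hKn
    have hS86 : ∀ x : M, x ∈ K ↔ (orderOf x).Coprime p :=
      fun x => Cfsg.Agent.S0086.result P' K hcomp x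
    -- the normal p-complement of G
    have hK'n : (K.map M.subtype).Normal := by
      constructor
      intro k hk g
      obtain ⟨x, hxK, rfl⟩ := hk
      have hmem : g * (x : G) * g⁻¹ ∈ M := hMn.conj_mem _ x.2 g
      have hxK' : x ∈ K := hxK
      rw [hS86] at hxK'
      have : orderOf (⟨g * (x : G) * g⁻¹, hmem⟩ : M) = orderOf x := by
        rw [← Subgroup.orderOf_coe, ← Subgroup.orderOf_coe]
        exact (MulEquiv.orderOf_eq (MulAut.conj g) (x : G))
      have hgoal : (⟨g * (x : G) * g⁻¹, hmem⟩ : M) ∈ K := by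
        rw [hS86, this]; exact hxK'
      exact ⟨⟨g * (x : G) * g⁻¹, hmem⟩, hgoal, rfl⟩
    have hKcop : (Nat.card K).Coprime p := by
      rw [Nat.coprime_comm, Nat.Prime.coprime_iff_not_dvd hp]
      intro hd
      obtain ⟨x, hx⟩ := exists_prime_orderOf_dvd_card' (G := K) p hd
      have h1 : ((x : M)) ∈ K := x.2
      rw [hS86, Subgroup.orderOf_coe, hx] at h1
      exact hp.ne_one ((Nat.coprime_self p).1 h1)
    have hK'cop : (Nat.card (K.map M.subtype)).Coprime p := by
      rw [Subgroup.card_map_of_injective M.subtype_injective]; exact hKcop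
    obtain ⟨a, ha⟩ := IsPGroup.iff_card.1 P'.2
    have hidx : (K.map M.subtype).index = p ^ (a + m) := by
      rw [Subgroup.index_map_subtype, hm, hcomp.symm.index_eq_card, ha, pow_add]
    have hNPC : Cfsg.HasNormalPComplement p G :=
      Cfsg.Agent.Lib.Helper12.hasNormalPComplement_of_normal _ hK'n hK'cop (a + m) hidx
    refine ⟨hNPC, ?_⟩
    -- the quotient by the complement is an abelian p-group
    set K' := K.map M.subtype with hK'
    haveI := hK'n
    have hQcard : Nat.card (G ⧸ K') = p ^ (a + m) := by rw [← Subgroup.index_eq_card]; exact hidx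
    have hQp : IsPGroup p (G ⧸ K') := IsPGroup.of_card hQcard
    have hGK : Nat.card G = Nat.card K' * p ^ (a + m) := by rw [← hidx, Subgroup.card_mul_index]
    have hPQ : Nat.card ↥(P : Subgroup G) = Nat.card (G ⧸ K') := by
      rw [hQcard, Sylow.card_eq_multiplicity, hGK,
        Nat.factorization_mul Nat.card_pos.ne' (pow_ne_zero _ hp.ne_zero)]
      simp only [Finsupp.coe_add, Pi.add_apply]
      rw [hp.factorization_pow, Nat.factorization_eq_zero_of_not_dvd
        ((Nat.Prime.coprime_iff_not_dvd hp).1 hK'cop.symm)]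
      simp
    have hk3 := card_piClasses_le K' ({p} : Set ℕ)
    have hk4 := card_piClass_le_one (p := p) K' hK'cop
    have hk5 := card_piClass_le_card_conjClasses (G ⧸ K') ({p} : Set ℕ)
    have hQhyp : (p + 1) * Nat.card (G ⧸ K') < 2 * p * Nat.card (ConjClasses (G ⧸ K')) := by
      calc (p + 1) * Nat.card (G ⧸ K') = (p + 1) * Nat.card ↥(P : Subgroup G) := by rw [hPQ]
        _ < 2 * p * Nat.card {C : ConjClasses G // PiClass {p} C} := hyp
        _ ≤ 2 * p * (Nat.card {C : ConjClasses K' // PiClass {p} C} *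
              Nat.card {C : ConjClasses (G ⧸ K') // PiClass {p} C}) := Nat.mul_le_mul_left _ hk3
        _ ≤ 2 * p * (1 * Nat.card (ConjClasses (G ⧸ K'))) :=
            Nat.mul_le_mul_left _ (Nat.mul_le_mul hk4 hk5)
        _ = 2 * p * Nat.card (ConjClasses (G ⧸ K')) := by ring
    have hQcomm := comm_of_many_classes hQp hQhyp
    intro x y
    have h1 : ((x * y : ↥(P : Subgroup G)) : G)⁻¹ * ((y * x : ↥(P : Subgroup G)) : G) ∈ K' := by
      rw [← QuotientGroup.eq]
      push_cast
      rw [QuotientGroup.mk_mul, QuotientGroup.mk_mul]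
      exact hQcomm _ _
    have h2 : ((x * y : ↥(P : Subgroup G)) : G)⁻¹ * ((y * x : ↥(P : Subgroup G)) : G) ∈
        (P : Subgroup G) := ((x * y)⁻¹ * (y * x)).2
    set w := ((x * y : ↥(P : Subgroup G)) : G)⁻¹ * ((y * x : ↥(P : Subgroup G)) : G) with hw
    have h3 : orderOf w ∣ Nat.card K' := Subgroup.orderOf_dvd_natCard _ h1
    obtain ⟨j, hj⟩ := (P.2.to_le (Subgroup.zpowers_le.2 h2)).exists_card_eq
    rw [Nat.card_zpowers] at hj
    have h4 : orderOf w = 1 := by
      have h5 : (orderOf w).Coprime (orderOf w) := by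
        have : (orderOf w).Coprime (p ^ j) :=
          Nat.Coprime.coprime_dvd_left h3 (Nat.Coprime.pow_right j hK'cop)
        rw [← hj] at this; exact this
      exact (Nat.coprime_self _).1 h5
    rw [orderOf_eq_one_iff, hw, inv_mul_eq_one] at h4
    exact Subtype.ext h4


theorem forward (P : Sylow p G)
    (h : (p + 1) * Nat.card ↥(P : Subgroup G) <
      2 * p * Nat.card {C : ConjClasses G // PiClass {p} C}) :
    Cfsg.HasNormalPComplement p G ∧ ∀ a b : ↥(P : Subgroup G), a * b = b * a :=
  forward_aux (Nat.card G) G rfl P h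

theorem backward (P : Sylow p G) (hN : Cfsg.HasNormalPComplement p G)
    (hab : ∀ a b : ↥(P : Subgroup G), a * b = b * a) :
    (p + 1) * Nat.card ↥(P : Subgroup G) <
      2 * p * Nat.card {C : ConjClasses G // PiClass {p} C} := by
  have hp : p.Prime := Fact.out
  obtain ⟨P₀, N, hNn, hcomp⟩ := hN
  haveI := hNn
  have hS86 : ∀ x : G, x ∈ N ↔ (orderOf x).Coprime p :=
    fun x => Cfsg.Agent.S0086.result P₀ N hcomp x
  have hNcop : (Nat.card N).Coprime p := by
    rw [Nat.coprime_comm, Nat.Prime.coprime_iff_not_dvd hp]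
    intro hd
    obtain ⟨x, hx⟩ := exists_prime_orderOf_dvd_card' (G := N) p hd
    have h1 : ((x : G)) ∈ N := x.2
    rw [hS86, Subgroup.orderOf_coe, hx] at h1
    exact hp.ne_one ((Nat.coprime_self p).1 h1)
  have hcardP : Nat.card ↥(P : Subgroup G) = Nat.card ↥(P₀ : Subgroup G) := by
    rw [Sylow.card_eq_multiplicity, Sylow.card_eq_multiplicity]
  obtain ⟨b, hb⟩ := IsPGroup.iff_card.1 P.2
  have hNP : N.IsComplement' (P : Subgroup G) := by
    apply Subgroup.isComplement'_of_coprime
    · rw [hcardP]; exact hcomp.card_mul_card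
    · rw [hb]; exact Nat.Coprime.pow_right b hNcop
  -- the injection of `P` into the `p`-classes
  have hpi : ∀ x : ↥(P : Subgroup G), PiClass {p} (ConjClasses.mk (x : G)) := by
    intro x
    rw [← isPi_iff_piClass]
    intro q hq hd
    obtain ⟨j, hj⟩ := (P.2.to_le (Subgroup.zpowers_le.2 x.2)).exists_card_eq
    rw [Nat.card_zpowers] at hj
    rw [hj] at hd
    exact (Nat.prime_dvd_prime_iff_eq hq hp).1 (hq.dvd_of_dvd_pow hd)
  have hinj : Function.Injective
      (fun x : ↥(P : Subgroup G) => (⟨ConjClasses.mk (x : G), hpi x⟩ :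
        {C : ConjClasses G // PiClass {p} C})) := by
    intro x y hxy
    simp only [Subtype.mk.injEq] at hxy
    rw [ConjClasses.mk_eq_mk_iff_isConj, isConj_iff] at hxy
    obtain ⟨g, hg⟩ := hxy
    obtain ⟨⟨n, u⟩, hnu⟩ := hNP.2 g
    simp only at hnu
    -- y = n x n⁻¹
    have hux : (u : G) * (x : G) * (u : G)⁻¹ = (x : G) := by
      have := hab u x
      have h' : (u : G) * (x : G) = (x : G) * (u : G) := congrArg Subtype.val this
      rw [h', mul_inv_cancel_right]
    have hy : (y : G) = (n : G) * (x : G) * (n : G)⁻¹ := by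
      rw [← hg, ← hnu]
      calc (n : G) * (u : G) * (x : G) * ((n : G) * (u : G))⁻¹
          = (n : G) * ((u : G) * (x : G) * (u : G)⁻¹) * (n : G)⁻¹ := by group
        _ = (n : G) * (x : G) * (n : G)⁻¹ := by rw [hux]
    have h1 : (y : G) * (x : G)⁻¹ ∈ N := by
      rw [hy]
      have : (n : G) * (x : G) * (n : G)⁻¹ * (x : G)⁻¹ =
          (n : G) * ((x : G) * (n : G)⁻¹ * (x : G)⁻¹) := by group
      rw [this]
      exact N.mul_mem n.2 (hNn.conj_mem _ (N.inv_mem n.2) _)
    have h2 : (y : G) * (x : G)⁻¹ ∈ (P : Subgroup G) := (y * x⁻¹).2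
    have h3 : (y : G) * (x : G)⁻¹ = 1 := by
      have := hNP.disjoint
      rw [Subgroup.disjoint_def] at this
      exact this h1 h2
    rw [mul_inv_eq_one] at h3
    exact (Subtype.ext h3).symm
  have hle : Nat.card ↥(P : Subgroup G) ≤ Nat.card {C : ConjClasses G // PiClass {p} C} :=
    Nat.card_le_card_of_injective _ hinj
  have hpos : 0 < Nat.card ↥(P : Subgroup G) := Nat.card_pos
  have hp2 : 2 ≤ p := hp.two_le
  nlinarith

/-- the class predicate used in the statements -/
theorem piClass_singleton_iff (C : ConjClasses G) :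
    (∀ x ∈ C.carrier, ∃ k : ℕ, orderOf x = p ^ k) ↔ PiClass {p} C := by
  have hp : p.Prime := Fact.out
  constructor
  · rintro h q hq ⟨g, hg, hd⟩
    obtain ⟨k, hk⟩ := h g (ConjClasses.mem_carrier_iff_mk_eq.2 hg)
    rw [hk] at hd
    exact (Nat.prime_dvd_prime_iff_eq hq hp).1 (hq.dvd_of_dvd_pow hd)
  · intro h x hx
    rw [ConjClasses.mem_carrier_iff_mk_eq] at hx
    refine ⟨(orderOf x).primeFactorsList.length, ?_⟩
    exact Nat.eq_prime_pow_of_unique_prime_dvd (orderOf_pos x).ne'
      (fun {d} hd hdvd => h d hd ⟨x, hx, hdvd⟩)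

/-- **Many classes of `p`-elements**: `(p+1)|P| < 2p k_p(G)` iff `G` is `p`-nilpotent with abelian
Sylow `p`-subgroup. -/
theorem many_p_classes_iff (P : Sylow p G) :
    (p + 1) * Nat.card ↥(P : Subgroup G) <
        2 * p * Nat.card {c : ConjClasses G // ∀ x ∈ c.carrier, ∃ k : ℕ, orderOf x = p ^ k} ↔
      Cfsg.HasNormalPComplement p G ∧ IsMulCommutative ↥(P : Subgroup G) := by
  have e : Nat.card {c : ConjClasses G // ∀ x ∈ c.carrier, ∃ k : ℕ, orderOf x = p ^ k} =
      Nat.card {C : ConjClasses G // PiClass {p} C} :=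
    Nat.card_congr (Equiv.subtypeEquivRight (fun C => piClass_singleton_iff C))
  rw [e]
  constructor
  · intro h
    obtain ⟨h1, h2⟩ := forward P h
    exact ⟨h1, ⟨⟨h2⟩⟩⟩
  · rintro ⟨h1, h2⟩
    exact backward P h1 (fun a b => h2.is_comm.comm a b)

end Cfsg.Agent.Lib.Helper22.PClassCount
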