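/-
helper22: groups with a cyclic subgroup of prime-power index are solvable (via Kegel-Wielandt),
and inheritance of the "cyclic-by-(cyclic 2-group)" property.
-/
import Mathlib
import Cfsg.Agent.Lib.Helper4.KW8

set_option autoImplicit false

namespace Cfsg.Agent.Lib.Helper22.PPIndex

universe u

/-- a cyclic subgroup of prime power index forces solvability (Kegel-Wielandt) -/
theorem isSolvable_of_cyclic_of_index_prime_pow {G : Type u} [Group G] [Finite G] (X : Subgroup G)
    (hX : IsCyclic X) (p j : ℕ) (hp : p.Prime) (hidx : X.index = p ^ j) : Group.IsSolvable G := by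
  haveI : Fact p.Prime := ⟨hp⟩
  obtain ⟨⟨g, hgX⟩, hgen⟩ := hX.exists_generator
  have hXz : X = Subgroup.zpowers g := by
    apply le_antisymm
    · intro y hy
      obtain ⟨k, hk⟩ := Subgroup.mem_zpowers_iff.mp (hgen ⟨y, hy⟩)
      refine Subgroup.mem_zpowers_iff.mpr ⟨k, ?_⟩
      have := congrArg Subtype.val hk
      simpa using this
    · exact (Subgroup.zpowers_le).mpr hgX
  set x := orderOf g with hx
  have hxpos : 0 < x := orderOf_pos g
  have hcardX : Nat.card X = x := by rw [hXz, Nat.card_zpowers]
  set e := x.factorization p with he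
  set x' := x / p ^ e with hx'
  have hxe : p ^ e * x' = x := Nat.ordProj_mul_ordCompl_eq_self x p
  have hcop : Nat.Coprime p x' := Nat.coprime_ordCompl hp hxpos.ne'
  set c := g ^ (p ^ e) with hc
  have hordc : orderOf c = x' := by
    rw [hc, orderOf_pow_of_dvd (pow_ne_zero _ hp.ne_zero) (Nat.ordProj_dvd x p)]
  set C := Subgroup.zpowers c with hC
  have hcardC : Nat.card C = x' := by rw [hC, Nat.card_zpowers, hordc]
  let P : Sylow p G := default
  have hcardG : Nat.card G = p ^ (e + j) * x' := by
    rw [← X.card_mul_index, hcardX, hidx, ← hxe]; ring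
  have hx'pos : x' ≠ 0 := by
    intro h0; rw [h0, mul_zero] at hxe; omega
  have hfac : (Nat.card G).factorization p = e + j := by
    rw [hcardG, Nat.factorization_mul (pow_ne_zero _ hp.ne_zero) hx'pos, Nat.Prime.factorization_pow hp]
    simp only [Finsupp.coe_add, Pi.add_apply, Finsupp.single_eq_same]
    rw [Nat.factorization_eq_zero_of_not_dvd ((Nat.Prime.coprime_iff_not_dvd hp).mp hcop)]
    simp
  have hcardP : Nat.card P = p ^ (e + j) := by
    rw [Sylow.card_eq_multiplicity, hfac]
  have hcompl : Subgroup.IsComplement' (P : Subgroup G) C := by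
    apply Subgroup.isComplement'_of_coprime
    · rw [hcardP, hcardC, hcardG]
    · rw [hcardP, hcardC]; exact Nat.Coprime.pow_left _ hcop
  have hkw : Cfsg.Agent.H4KW.KWG (P : Subgroup G) C := by
    refine ⟨P.isPGroup'.isNilpotent, ?_, ?_⟩
    · haveI : IsMulCommutative C := by rw [hC]; infer_instance
      letI : CommGroup C := { (inferInstance : Group C) with mul_comm := fun a b => mul_comm' a b }
      exact CommGroup.isNilpotent
    · intro y
      obtain ⟨⟨a, b⟩, hab⟩ := hcompl.2 y
      exact ⟨a, a.2, b, b.2, hab.symm⟩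
  exact Cfsg.Agent.H4KW.kwg_solvable hkw

end Cfsg.Agent.Lib.Helper22.PPIndex
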