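/-
helper22: inheritance of the "cyclic-by-(cyclic 2-group)" property under injective and surjective maps.
-/
import Mathlib

set_option autoImplicit false

namespace Cfsg.Agent.Lib.Helper22.PPIndex

universe u v

/-- `A` has a normal cyclic subgroup with cyclic quotient of 2-power order -/
def Good (A : Type u) [Group A] : Prop :=
  ∃ (B : Subgroup A) (_ : B.Normal), IsCyclic B ∧ IsCyclic (A ⧸ B) ∧ ∃ r : ℕ, Nat.card (A ⧸ B) = 2 ^ r

theorem Good.of_injective {H : Type u} {A : Type v} [Group H] [Group A] (h : H →* A)
    (hinj : Function.Injective h) (hA : Good A) : Good H := by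
  obtain ⟨B, hBn, hBc, hQc, r, hr⟩ := hA
  refine ⟨B.comap h, inferInstance, ?_, ?_, ?_⟩
  · have : Function.Injective (h.subgroupComap B) := by
      intro x y hxy
      have := congrArg Subtype.val hxy
      exact Subtype.ext (hinj this)
    exact isCyclic_of_injective (h.subgroupComap B) this
  all_goals
    have hψ : Function.Injective (QuotientGroup.map (B.comap h) B h le_rfl) := by
      rw [← MonoidHom.ker_eq_bot_iff, QuotientGroup.ker_map, QuotientGroup.map_mk'_self]
  · exact isCyclic_of_injective _ hψ
  · have hdvd := Subgroup.card_dvd_of_injective _ hψ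
    rw [hr] at hdvd
    obtain ⟨r', _, hr'⟩ := (Nat.dvd_prime_pow Nat.prime_two).mp hdvd
    exact ⟨r', hr'⟩

theorem Good.of_surjective {A : Type u} {K : Type v} [Group A] [Group K] (h : A →* K)
    (hsurj : Function.Surjective h) (hA : Good A) : Good K := by
  obtain ⟨B, hBn, hBc, hQc, r, hr⟩ := hA
  have : (B.map h).Normal := Subgroup.Normal.map hBn h hsurj
  refine ⟨B.map h, inferInstance, ?_, ?_, ?_⟩
  · exact isCyclic_of_surjective (h.subgroupMap B) (MonoidHom.subgroupMap_surjective h B)
  all_goals
    have hψ : Function.Surjective (QuotientGroup.map B (B.map h) h (Subgroup.le_comap_map h B)) := by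
      intro y
      obtain ⟨k, rfl⟩ := QuotientGroup.mk_surjective y
      obtain ⟨a, rfl⟩ := hsurj k
      exact ⟨QuotientGroup.mk a, by simp⟩
  · exact isCyclic_of_surjective _ hψ
  · have hdvd := Subgroup.card_dvd_of_surjective _ hψ
    rw [hr] at hdvd
    obtain ⟨r', _, hr'⟩ := (Nat.dvd_prime_pow Nat.prime_two).mp hdvd
    exact ⟨r', hr'⟩

end Cfsg.Agent.Lib.Helper22.PPIndex
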