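/-
helper22: a finite group with a subgroup of prime power index which is cyclic-by-(cyclic 2-group) is solvable.
-/
import Mathlib
import Cfsg.Agent.Lib.Helper22.PPIndexA
import Cfsg.Agent.Lib.Helper22.PPIndexB
import Cfsg.Agent.Lib.Lead.CharBurnside

set_option autoImplicit false

namespace Cfsg.Agent.Lib.Helper22.PPIndex

universe u

/-- in a cyclic group there is at most one element of order two -/
theorem orderOf_two_unique {B : Type u} [Group B] [Finite B] [IsCyclic B] {z z' : B}
    (hz : orderOf z = 2) (hz' : orderOf z' = 2) : z' = z := by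
  classical
  haveI : Fintype B := Fintype.ofFinite B
  by_contra hne
  have h1 : z ≠ 1 := by
    intro h; rw [h, orderOf_one] at hz; omega
  have h1' : z' ≠ 1 := by
    intro h; rw [h, orderOf_one] at hz'; omega
  have hle := IsCyclic.card_pow_eq_one_le (α := B) (n := 2) (by norm_num)
  have hsub : ({1, z, z'} : Finset B) ⊆ Finset.univ.filter (fun a : B => a ^ 2 = 1) := by
    intro a ha
    simp only [Finset.mem_insert, Finset.mem_singleton] at ha
    simp only [Finset.mem_filter, Finset.mem_univ, true_and]
    rcases ha with rfl | rfl | rfl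
    · simp
    · rw [← hz]; exact pow_orderOf_eq_one _
    · rw [← hz']; exact pow_orderOf_eq_one _
  have hcard : ({1, z, z'} : Finset B).card = 3 := by
    rw [Finset.card_insert_of_notMem, Finset.card_insert_of_notMem, Finset.card_singleton]
    · simpa using fun h => hne h.symm
    · simp only [Finset.mem_insert, Finset.mem_singleton, not_or]
      exact ⟨fun h => h1 h.symm, fun h => h1' h.symm⟩
  have := Finset.card_le_card hsub
  omega

theorem simple_case {G : Type u} [Group G] [Finite G] [IsSimpleGroup G] (A : Subgroup G) (p s : ℕ)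
    (hp : p.Prime) (hA : A.index = p ^ s) (hgood : Good A) : Group.IsSolvable G := by
  obtain ⟨B, hBn, hBc, hQc, r, hr⟩ := hgood
  set BG : Subgroup G := B.map A.subtype with hBG
  have hBGc : IsCyclic BG :=
    isCyclic_of_surjective (A.subtype.subgroupMap B) (MonoidHom.subgroupMap_surjective _ _)
  have hBidx : B.index = 2 ^ r := by rw [Subgroup.index_eq_card, hr]
  have hBGidx : BG.index = 2 ^ r * p ^ s := by
    rw [hBG, Subgroup.index_map_subtype, hBidx, hA]
  by_cases hp2 : p = 2
  · subst hp2
    exact isSolvable_of_cyclic_of_index_prime_pow BG hBGc 2 (r + s) hp (by rw [hBGidx, pow_add])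
  by_cases hGeven : 2 ∣ Nat.card G
  swap
  · have hr0 : r = 0 := by
      by_contra hne
      apply hGeven
      have h1 : 2 ∣ B.index := by rw [hBidx]; exact dvd_pow_self 2 hne
      exact h1.trans ((Subgroup.index_dvd_card B).trans (Subgroup.card_subgroup_dvd_card A))
    exact isSolvable_of_cyclic_of_index_prime_pow BG hBGc p s hp (by rw [hBGidx, hr0]; simp)
  by_cases hBeven : 2 ∣ Nat.card B
  · -- a central involution of A
    haveI : Fact (Nat.Prime 2) := ⟨Nat.prime_two⟩
    obtain ⟨z, hz⟩ := exists_prime_orderOf_dvd_card' (G := B) 2 hBeven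
    have hcent : A ≤ Subgroup.centralizer ({((z : A) : G)} : Set G) := by
      intro a ha
      rw [Subgroup.mem_centralizer_iff]
      intro y hy
      rw [Set.mem_singleton_iff] at hy
      subst hy
      -- conjugate of z by a
      have hconj : (⟨a, ha⟩ : A) * (z : A) * (⟨a, ha⟩ : A)⁻¹ ∈ B := hBn.conj_mem _ z.2 _
      set z' : B := ⟨_, hconj⟩ with hz'def
      have hz' : orderOf z' = 2 := by
        have h1 : orderOf (z' : A) = orderOf (z : A) := by
          rw [hz'def]
          exact (MulAut.conj (⟨a, ha⟩ : A)).orderOf_eq (z : A)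
        rw [Subgroup.orderOf_coe, Subgroup.orderOf_coe] at h1
        rw [h1, hz]
      have heq := orderOf_two_unique hz hz'
      have h2 := congrArg (fun b : B => ((b : A) : G)) heq
      simp only [hz'def, Subgroup.coe_mul, Subgroup.coe_inv] at h2
      have h3 : a * ((z : A) : G) = ((z : A) : G) * a := by
        calc a * ((z : A) : G) = (a * ((z : A) : G) * a⁻¹) * a := by group
          _ = ((z : A) : G) * a := by rw [h2]
      exact h3.symm
    have hzne : ((z : A) : G) ≠ 1 := by
      intro h
      have : z = 1 := by
        apply Subtype.ext; apply Subtype.ext; simpa using h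
      rw [this, orderOf_one] at hz; omega
    have hdvd := Subgroup.index_dvd_of_le hcent
    rw [hA] at hdvd
    obtain ⟨t, _, ht⟩ := (Nat.dvd_prime_pow hp).mp hdvd
    have hprime := Cfsg.Agent.CharLib.prime_card_of_class_prime_pow p t hp _ hzne ht
    haveI : Fact (Nat.card G).Prime := ⟨hprime⟩
    have hcyc : IsCyclic G := isCyclic_of_prime_card (p := Nat.card G) rfl
    exact isSolvable_of_comm (fun a b => mul_comm' a b)
  · -- cyclic Sylow 2-subgroups
    haveI : Fact (Nat.Prime 2) := ⟨Nat.prime_two⟩
    let T : Sylow 2 A := default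
    have hTB : ∀ t : A, t ∈ T → t ∈ B → t = 1 := by
      intro t htT htB
      obtain ⟨k, hk⟩ := (IsPGroup.iff_orderOf.mp T.isPGroup') ⟨t, htT⟩
      have hk' : orderOf t = 2 ^ k := by rw [← hk]; exact (Subgroup.orderOf_mk t htT).symm
      have hdvd : orderOf t ∣ Nat.card B := by
        have := orderOf_dvd_natCard (⟨t, htB⟩ : B)
        rwa [Subgroup.orderOf_mk] at this
      have hk0 : k = 0 := by
        by_contra hne
        apply hBeven
        rw [hk'] at hdvd
        exact (dvd_pow_self 2 hne).trans hdvd
      rw [hk0, pow_zero, orderOf_eq_one_iff] at hk'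
      exact hk'
    have hTc : IsCyclic T := by
      apply isCyclic_of_injective ((QuotientGroup.mk' B).comp (T : Subgroup A).subtype)
      rw [injective_iff_map_eq_one]
      intro t ht
      have : (t : A) ∈ B := by
        have := (QuotientGroup.eq_one_iff (t : A)).mp ht
        exact this
      exact Subtype.ext (hTB _ t.2 this)
    set TG : Subgroup G := (T : Subgroup A).map A.subtype with hTG
    have hTGc : IsCyclic TG :=
      isCyclic_of_surjective (A.subtype.subgroupMap (T : Subgroup A)) (MonoidHom.subgroupMap_surjective _ _)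
    have hpodd : Nat.Coprime 2 p := (Nat.coprime_primes Nat.prime_two hp).mpr (Ne.symm hp2)
    have hfac : (Nat.card G).factorization 2 = (Nat.card A).factorization 2 := by
      rw [← A.card_mul_index, hA, Nat.factorization_mul Nat.card_pos.ne' (pow_ne_zero _ hp.ne_zero)]
      simp only [Finsupp.coe_add, Pi.add_apply]
      rw [Nat.factorization_pow]
      simp only [Finsupp.coe_smul, Pi.smul_apply, smul_eq_mul]
      rw [Nat.factorization_eq_zero_of_not_dvd ((Nat.Prime.coprime_iff_not_dvd Nat.prime_two).mp hpodd)]
      simp
    have hTGcard : Nat.card TG = 2 ^ (Nat.card G).factorization 2 := by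
      rw [hfac, hTG, Subgroup.card_map_of_injective A.subtype_injective]
      exact Sylow.card_eq_multiplicity T
    let S' : Sylow 2 G := Sylow.ofCard TG hTGcard
    have hS'c : IsCyclic S' := hTGc
    have hmin : (Nat.card G).minFac = 2 := (Nat.minFac_eq_two_iff _).mpr hGeven
    have hcompl := IsCyclic.isComplement' hmin hS'c
    set K := (MonoidHom.transferSylow S' (hS'c.normalizer_le_centralizer hmin)).ker with hK
    have hcm := hcompl.card_mul
    have hS'card : Nat.card S' = 2 ^ (Nat.card G).factorization 2 := hTGcard
    have hv : 1 ≤ (Nat.card G).factorization 2 :=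
      (Nat.Prime.dvd_iff_one_le_factorization Nat.prime_two Nat.card_pos.ne').mp hGeven
    rcases (inferInstance : K.Normal).eq_bot_or_eq_top with hK0 | hK1
    · rw [hK0, Subgroup.card_bot, one_mul] at hcm
      have htop : (S' : Subgroup G) = ⊤ := (Subgroup.card_eq_iff_eq_top _).mp hcm
      have hpg : IsPGroup 2 G := by
        have := S'.isPGroup'
        rw [htop] at this
        exact IsPGroup.of_equiv this Subgroup.topEquiv
      have := hpg.isNilpotent
      infer_instance
    · exfalso
      rw [hK1, Subgroup.card_top] at hcm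
      have h1 : Nat.card S' = 1 := by
        have hpos : 0 < Nat.card G := Nat.card_pos
        exact Nat.eq_of_mul_eq_mul_left hpos (by rw [hcm, mul_one])
      rw [hS'card] at h1
      have : 2 ≤ 2 ^ (Nat.card G).factorization 2 := by
        calc 2 = 2 ^ 1 := by norm_num
          _ ≤ 2 ^ (Nat.card G).factorization 2 := Nat.pow_le_pow_right (by norm_num) hv
      omega

end Cfsg.Agent.Lib.Helper22.PPIndex
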