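/-
helper22: induction step: a finite group with a subgroup of prime power index which is
cyclic-by-(cyclic 2-group) is solvable.
-/
import Mathlib
import Cfsg.Agent.Lib.Helper22.PPIndexC
import Cfsg.Agent.Lib.Helper11.AbelianTwoIndex

set_option autoImplicit false

namespace Cfsg.Agent.Lib.Helper22.PPIndex

universe u

theorem main_aux : ∀ (n : ℕ) (G : Type u) [Group G] [Finite G], Nat.card G = n →
    ∀ (A : Subgroup G) (p s : ℕ), p.Prime → A.index = p ^ s → Good A → Group.IsSolvable G := by
  intro n
  induction n using Nat.strong_induction_on with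
  | _ n ih =>
  intro G _ _ hcard A p s hp hA hgood
  by_cases hns : ∃ N : Subgroup G, N.Normal ∧ N ≠ ⊥ ∧ N ≠ ⊤
  · obtain ⟨N, hNn, hN0, hN1⟩ := hns
    have hNlt : Nat.card N < n := by
      rw [← hcard]
      exact lt_of_le_of_ne (Subgroup.card_le_card_group N) (fun h => hN1 ((Subgroup.card_eq_iff_eq_top N).mp h))
    have hQlt : Nat.card (G ⧸ N) < n := by
      rw [← hcard, ← N.card_mul_index, Subgroup.index_eq_card]
      have h2 : 2 ≤ Nat.card N := by
        have h1 : Nat.card N ≠ 1 := fun h => hN0 (Subgroup.card_eq_one.mp h)
        have h0 : 0 < Nat.card N := Nat.card_pos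
        omega
      have hpos : 0 < Nat.card (G ⧸ N) := Nat.card_pos
      nlinarith
    have hNsol : Group.IsSolvable N := by
      have hdvd : (A.subgroupOf N).index ∣ p ^ s := by
        rw [← hA]; haveI := hNn; exact Cfsg.Agent.Lib.Helper11.relIndex_dvd_index_of_normal_right A N
      obtain ⟨s', _, hs'⟩ := (Nat.dvd_prime_pow hp).mp hdvd
      refine ih _ hNlt N rfl (A.subgroupOf N) p s' hp hs' ?_
      let φ : (A.subgroupOf N) →* A :=
        (N.subtype.comp (A.subgroupOf N).subtype).codRestrict A (fun x => x.2)
      have hφ : Function.Injective φ := by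
        intro x y hxy
        have h1 := congrArg Subtype.val hxy
        exact Subtype.ext (Subtype.ext h1)
      exact hgood.of_injective φ hφ
    have hQsol : Group.IsSolvable (G ⧸ N) := by
      have hdvd : (A.map (QuotientGroup.mk' N)).index ∣ p ^ s := by
        rw [← hA]; exact Subgroup.index_map_dvd A (QuotientGroup.mk'_surjective N)
      obtain ⟨s', _, hs'⟩ := (Nat.dvd_prime_pow hp).mp hdvd
      refine ih _ hQlt (G ⧸ N) rfl (A.map (QuotientGroup.mk' N)) p s' hp hs' ?_
      exact hgood.of_surjective ((QuotientGroup.mk' N).subgroupMap A)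
        (MonoidHom.subgroupMap_surjective _ _)
    exact Group.isSolvable_of_ker_le_range N.subtype (QuotientGroup.mk' N) (by simp)
  · push Not at hns
    by_cases hsub : Subsingleton G
    · infer_instance
    · have : Nontrivial G := not_subsingleton_iff_nontrivial.mp hsub
      have : IsSimpleGroup G := ⟨fun N hN => by
        by_contra h
        push Not at h
        exact h.2 (hns N hN h.1)⟩
      exact simple_case A p s hp hA hgood

/-- a finite group with a subgroup `A` of prime power index, `A` having a normal cyclic subgroup with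
cyclic quotient of 2-power order, is solvable -/
theorem isSolvable_of_index_prime_pow {G : Type u} [Group G] [Finite G] (A : Subgroup G) (p s : ℕ)
    (hp : p.Prime) (hA : A.index = p ^ s) (hgood : Good A) : Group.IsSolvable G :=
  main_aux _ G rfl A p s hp hA hgood

end Cfsg.Agent.Lib.Helper22.PPIndex
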