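import Mathlib

/-! Counting the elements of an `F[X]`-module killed by a polynomial: products, cyclic modules. -/

set_option autoImplicit false

namespace Cfsg.Agent.Lib.Helper22.PSLCls

open Polynomial Module

variable {F : Type*} [Field F]

/-- the number of elements killed by `p` -/
noncomputable def kap (M : Type*) [AddCommGroup M] [Module F[X] M] (p : F[X]) : ℕ :=
  Nat.card {m : M // p • m = 0}

theorem kap_congr {M M' : Type*} [AddCommGroup M] [Module F[X] M] [AddCommGroup M']
    [Module F[X] M'] (e : M ≃ₗ[F[X]] M') (p : F[X]) : kap M p = kap M' p := by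
  unfold kap
  apply Nat.card_congr
  refine e.toEquiv.subtypeEquiv ?_
  intro m
  constructor
  · intro h
    change p • e m = 0
    rw [← map_smul, h, map_zero]
  · intro h
    change p • e m = 0 at h
    rw [← map_smul] at h
    exact e.injective (by rw [h, map_zero])

theorem kap_pi {ι : Type*} [Fintype ι] (M : ι → Type*) [∀ i, AddCommGroup (M i)]
    [∀ i, Module F[X] (M i)] (p : F[X]) : kap (∀ i, M i) p = ∏ i, kap (M i) p := by
  unfold kap
  rw [← Nat.card_pi]
  apply Nat.card_congr
  refine (Equiv.subtypeEquivRight ?_).trans (Equiv.subtypePiEquivPi (p := fun i (b : M i) => p • b = 0))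
  intro w
  constructor
  · intro h i
    have := congrFun h i
    simpa using this
  · intro h
    funext i
    simpa using h i

theorem kap_unit_mul {M : Type*} [AddCommGroup M] [Module F[X] M] (c : F) (hc : c ≠ 0)
    (p : F[X]) : kap M (C c * p) = kap M p := by
  unfold kap
  apply Nat.card_congr
  apply Equiv.subtypeEquivRight
  intro m
  rw [mul_smul]
  constructor
  · intro h
    have := congrArg (fun x => C c⁻¹ • x) h
    simp only [smul_zero] at this
    rwa [← mul_smul, ← C_mul, inv_mul_cancel₀ hc, C_1, one_smul] at this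
  · intro h
    rw [h, smul_zero]

/-- the cyclic module `F[X]/(f)` -/
abbrev QQ (f : F[X]) : Type _ := F[X] ⧸ (F[X] ∙ f)

theorem kap_QQ_of_dvd (f p : F[X]) (h : f ∣ p) : kap (QQ f) p = Nat.card (QQ f) := by
  unfold kap
  apply Nat.card_congr
  refine Equiv.subtypeUnivEquiv ?_
  intro m
  obtain ⟨a, rfl⟩ := Submodule.Quotient.mk_surjective _ m
  rw [← Submodule.Quotient.mk_smul, Submodule.Quotient.mk_eq_zero, Submodule.mem_span_singleton]
  obtain ⟨c, rfl⟩ := h
  refine ⟨c * a, ?_⟩
  simp only [smul_eq_mul]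
  ring

theorem kap_QQ_of_coprime (f p : F[X]) (h : IsCoprime f p) : kap (QQ f) p = 1 := by
  unfold kap
  rw [Nat.card_eq_one_iff_unique]
  refine ⟨⟨?_⟩, ⟨⟨0, smul_zero p⟩⟩⟩
  rintro ⟨m, hm⟩ ⟨m', hm'⟩
  apply Subtype.ext
  have key : ∀ x : QQ f, p • x = 0 → x = 0 := by
    intro x hx
    obtain ⟨a, rfl⟩ := Submodule.Quotient.mk_surjective _ x
    rw [← Submodule.Quotient.mk_smul, Submodule.Quotient.mk_eq_zero,
      Submodule.mem_span_singleton] at hx
    rw [Submodule.Quotient.mk_eq_zero, Submodule.mem_span_singleton]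
    obtain ⟨c, hc⟩ := hx
    have hdvd : f ∣ p * a := ⟨c, by simp only [smul_eq_mul] at hc; rw [← hc]; ring⟩
    obtain ⟨e, he⟩ := h.dvd_of_dvd_mul_left hdvd
    exact ⟨e, by simp only [smul_eq_mul]; rw [he]; ring⟩
  exact (key m hm).trans (key m' hm').symm

theorem kap_QQ_mul_left (f h : F[X]) (hf : f ≠ 0) (hh : h ≠ 0) :
    kap (QQ (f * h)) f = Nat.card (QQ f) := by
  unfold kap
  symm
  apply Nat.card_congr
  have hle1 : (F[X] ∙ f : Submodule F[X] F[X]) ≤
      (F[X] ∙ (f * h) : Submodule F[X] F[X]).comap (LinearMap.lsmul F[X] F[X] h) := by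
    intro a ha
    rw [Submodule.mem_span_singleton] at ha
    obtain ⟨c, rfl⟩ := ha
    rw [Submodule.mem_comap, Submodule.mem_span_singleton]
    refine ⟨c, ?_⟩
    simp only [LinearMap.lsmul_apply, smul_eq_mul]
    ring
  let i : QQ f →ₗ[F[X]] QQ (f * h) := Submodule.mapQ _ _ (LinearMap.lsmul F[X] F[X] h) hle1
  have hi : Function.Injective i := by
    rw [← LinearMap.ker_eq_bot, LinearMap.ker_eq_bot']
    intro x hx
    obtain ⟨a, rfl⟩ := Submodule.Quotient.mk_surjective _ x
    simp only [i, Submodule.mapQ_apply, LinearMap.lsmul_apply, smul_eq_mul] at hx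
    rw [Submodule.Quotient.mk_eq_zero, Submodule.mem_span_singleton] at hx ⊢
    obtain ⟨c, hc⟩ := hx
    refine ⟨c, ?_⟩
    have : (c • f - a) * h = 0 := by
      simp only [smul_eq_mul] at hc ⊢
      linear_combination hc
    rcases mul_eq_zero.mp this with h1 | h1
    · exact sub_eq_zero.mp h1
    · exact absurd h1 hh
  have hmem : ∀ x : QQ f, f • i x = 0 := by
    intro x
    obtain ⟨a, rfl⟩ := Submodule.Quotient.mk_surjective _ x
    simp only [i, Submodule.mapQ_apply, LinearMap.lsmul_apply, smul_eq_mul]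
    rw [← Submodule.Quotient.mk_smul, Submodule.Quotient.mk_eq_zero, Submodule.mem_span_singleton]
    exact ⟨a, by simp only [smul_eq_mul]; ring⟩
  refine Equiv.ofBijective (fun x => ⟨i x, hmem x⟩) ⟨?_, ?_⟩
  · intro x y hxy
    exact hi (congrArg Subtype.val hxy)
  · rintro ⟨m, hm⟩
    obtain ⟨b, rfl⟩ := Submodule.Quotient.mk_surjective _ m
    rw [← Submodule.Quotient.mk_smul, Submodule.Quotient.mk_eq_zero,
      Submodule.mem_span_singleton] at hm
    obtain ⟨c, hc⟩ := hm
    have hb : b = h * c := by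
      have : f * (b - h * c) = 0 := by
        simp only [smul_eq_mul] at hc
        linear_combination -hc
      rcases mul_eq_zero.mp this with h1 | h1
      · exact absurd h1 hf
      · exact sub_eq_zero.mp h1
    refine ⟨Submodule.Quotient.mk c, ?_⟩
    apply Subtype.ext
    simp only [i, Submodule.mapQ_apply, LinearMap.lsmul_apply, smul_eq_mul]
    rw [hb]

theorem card_QQ [Fintype F] (f : F[X]) (hf : f.Monic) :
    Nat.card (QQ f) = Fintype.card F ^ f.natDegree := by
  haveI : Module.Finite F (QQ f) := hf.finite_quotient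
  have h1 : Module.finrank F (F[X] ⧸ Ideal.span {f}) = f.natDegree :=
    finrank_quotient_span_eq_natDegree
  have h2 := Module.natCard_eq_pow_finrank (K := F) (V := QQ f)
  rw [h2, Nat.card_eq_fintype_card]
  congr 1

/-- the count for a primary cyclic module and a prime power -/
theorem kap_primary [Fintype F] [DecidableEq F[X]] (g h : F[X]) (hg : g.Monic) (hh : h.Monic)
    (hgi : Irreducible g) (hhi : Irreducible h) (j k : ℕ) :
    kap (QQ (g ^ j)) (h ^ k)
      = if g = h then Fintype.card F ^ (g.natDegree * min j k) else 1 := by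
  by_cases hgh : g = h
  · subst hgh
    rw [if_pos rfl]
    rcases le_total k j with hkj | hjk
    · rw [min_eq_right hkj]
      have : g ^ j = g ^ k * g ^ (j - k) := by rw [← pow_add]; congr 1; omega
      rw [this, kap_QQ_mul_left _ _ (pow_ne_zero _ hg.ne_zero) (pow_ne_zero _ hg.ne_zero),
        card_QQ _ (hg.pow k), hg.natDegree_pow, Nat.mul_comm]
    · rw [min_eq_left hjk, kap_QQ_of_dvd _ _ (pow_dvd_pow g hjk), card_QQ _ (hg.pow j),
        hg.natDegree_pow, Nat.mul_comm]
  · rw [if_neg hgh]
    apply kap_QQ_of_coprime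
    apply IsCoprime.pow
    rw [Irreducible.coprime_iff_not_dvd hgi]
    intro hdvd
    apply hgh
    have h2 : Associated g h := hgi.associated_of_dvd hhi hdvd
    exact eq_of_monic_of_associated hg hh h2

end Cfsg.Agent.Lib.Helper22.PSLCls
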