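import Mathlib
import Cfsg.Agent.Lib.Helper22.PSLClsA
import Cfsg.Agent.Lib.Helper22.GLClsD

/-! Kernel counts of polynomials in an endomorphism: conjugation invariance, scaling, and the
formula in terms of decomposition data. -/

set_option autoImplicit false

namespace Cfsg.Agent.Lib.Helper22.PSLCls

open Polynomial Module Cfsg.Agent.Lib.Helper22.GLCls

universe u

section KK

variable {F : Type*} [Field F] {V : Type*} [AddCommGroup V] [Module F V]

/-- the number of vectors killed by `p(φ)` -/
noncomputable def KK (φ : Module.End F V) (p : F[X]) : ℕ :=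
  Nat.card {v : V // aeval φ p v = 0}

theorem kap_AEval (φ : Module.End F V) (p : F[X]) : kap (AEval' φ) p = KK φ p := by
  unfold kap KK
  symm
  apply Nat.card_congr
  refine (AEval'.of φ).toEquiv.subtypeEquiv ?_
  intro v
  change aeval φ p v = 0 ↔ p • (AEval'.of φ v) = 0
  rw [← AEval.of_aeval_smul]
  constructor
  · intro h
    change AEval.of F V φ ((aeval φ p) v) = 0
    rw [h, map_zero]
  · intro h
    change AEval.of F V φ ((aeval φ p) v) = 0 at h
    exact (AEval.of F V φ).injective (by rw [h, map_zero])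

theorem KK_conj (φ φ' : Module.End F V) (e : V ≃ₗ[F] V) (h : ∀ v, e (φ v) = φ' (e v))
    (p : F[X]) : KK φ' p = KK φ p := by
  have h1 : φ' = e.conjAlgEquiv F φ := by
    apply LinearMap.ext
    intro v
    rw [LinearEquiv.conjAlgEquiv_apply]
    simp only [LinearMap.coe_comp, LinearEquiv.coe_coe, Function.comp_apply]
    rw [h, LinearEquiv.apply_symm_apply]
  have h2 : aeval φ' p = e.conjAlgEquiv F (aeval φ p) := by
    rw [h1, aeval_algHom_apply]
  unfold KK
  symm
  apply Nat.card_congr
  refine e.toEquiv.subtypeEquiv ?_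
  intro v
  rw [h2, LinearEquiv.conjAlgEquiv_apply]
  simp only [LinearMap.coe_comp, LinearEquiv.coe_coe, Function.comp_apply,
    LinearEquiv.coe_toEquiv, LinearEquiv.symm_apply_apply]
  constructor
  · intro h
    rw [h, map_zero]
  · intro h
    exact e.injective (by rw [h, map_zero])

theorem KK_smul (φ : Module.End F V) (ζ : F) (p : F[X]) :
    KK (ζ • φ) p = KK φ (p.comp (C ζ * X)) := by
  unfold KK
  have : aeval φ (p.comp (C ζ * X)) = aeval (ζ • φ) p := by
    rw [aeval_comp]
    congr 1
    rw [map_mul, aeval_C, aeval_X, Algebra.smul_def]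
  rw [this]

theorem KK_unit_mul (φ : Module.End F V) (c : F) (hc : c ≠ 0) (p : F[X]) :
    KK φ (C c * p) = KK φ p := by
  rw [← kap_AEval, ← kap_AEval, kap_unit_mul c hc]

end KK

section dec

variable {F : Type u} [Field F] [Fintype F] {n : ℕ} {A : Matrix (Fin n) (Fin n) F}

theorem KK_eq_prod (d : Dec n A) (p : F[X]) :
    KK (Matrix.toLin' A) p = ∏ i, kap (NN (d.lab i)) p := by
  rw [← kap_AEval, kap_congr d.iso, kap_pi]

/-- the sum of `min (j_i, k)` over the labels with polynomial `h` -/
noncomputable def Nk (d : Dec n A) (h : F[X]) (k : ℕ) : ℕ := by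
  classical
  exact ∑ i ∈ Finset.univ.filter (fun i => (d.lab i).1 = h), min (d.lab i).2 k

theorem KK_pow_eq (d : Dec n A) (h : F[X]) (hh : h.Monic) (hhi : Irreducible h) (k : ℕ) :
    KK (Matrix.toLin' A) (h ^ k) = Fintype.card F ^ (h.natDegree * Nk d h k) := by
  classical
  rw [KK_eq_prod d]
  have h1 : ∀ i, kap (NN (d.lab i)) (h ^ k)
      = if (d.lab i).1 = h then Fintype.card F ^ (h.natDegree * min (d.lab i).2 k) else 1 := by
    intro i
    have := kap_primary (d.lab i).1 h (d.monic i) hh (d.irr i) hhi (d.lab i).2 k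
    rw [this]
    by_cases hc : (d.lab i).1 = h
    · rw [if_pos hc, if_pos hc, hc]
    · rw [if_neg hc, if_neg hc]
  rw [Finset.prod_congr rfl (fun i _ => h1 i), Finset.prod_ite, Finset.prod_const_one, mul_one,
    Finset.prod_pow_eq_pow_sum, ← Finset.mul_sum]
  rfl

end dec

end Cfsg.Agent.Lib.Helper22.PSLCls
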