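import Mathlib
import Cfsg.Agent.Lib.Helper22.PSLClsB

/-! The twist `p(X) ↦ ζ^(-deg p) p(ζ X)` of polynomials, and stability of the tuple invariant of a
matrix similar to its `ζ`-multiple. -/

set_option autoImplicit false

namespace Cfsg.Agent.Lib.Helper22.PSLCls

open Polynomial Module Cfsg.Agent.Lib.Helper22.GLCls

universe u

section tw

variable {F : Type*} [Field F]

/-- substitution `X ↦ ζ X` as a ring automorphism -/
noncomputable def compEquiv (ζ : F) (hζ : ζ ≠ 0) : F[X] ≃+* F[X] where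
  toFun p := p.comp (C ζ * X)
  invFun p := p.comp (C ζ⁻¹ * X)
  left_inv p := by
    simp only
    rw [comp_assoc, mul_comp, C_comp, X_comp, ← mul_assoc, ← C_mul, mul_inv_cancel₀ hζ, C_1,
      one_mul, comp_X]
  right_inv p := by
    simp only
    rw [comp_assoc, mul_comp, C_comp, X_comp, ← mul_assoc, ← C_mul, inv_mul_cancel₀ hζ, C_1,
      one_mul, comp_X]
  map_mul' p q := mul_comp p q _
  map_add' p q := add_comp

/-- the monic twist -/
noncomputable def tw (ζ : F) (p : F[X]) : F[X] := C (ζ⁻¹ ^ p.natDegree) * p.comp (C ζ * X)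

theorem coeff_tw (ζ : F) (p : F[X]) (i : ℕ) :
    (tw ζ p).coeff i = ζ⁻¹ ^ p.natDegree * (p.coeff i * ζ ^ i) := by
  unfold tw
  rw [coeff_C_mul, comp_C_mul_X_coeff]

theorem comp_eq_tw (ζ : F) (hζ : ζ ≠ 0) (p : F[X]) :
    p.comp (C ζ * X) = C (ζ ^ p.natDegree) * tw ζ p := by
  unfold tw
  rw [← mul_assoc, ← C_mul, ← mul_pow, mul_inv_cancel₀ hζ, one_pow, C_1, one_mul]

theorem tw_natDegree (ζ : F) (hζ : ζ ≠ 0) (p : F[X]) : (tw ζ p).natDegree = p.natDegree := by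
  unfold tw
  rw [natDegree_C_mul (pow_ne_zero _ (inv_ne_zero hζ)), natDegree_comp]
  have : (C ζ * X : F[X]).natDegree = 1 := natDegree_C_mul_X ζ hζ
  rw [this, mul_one]

theorem tw_monic (ζ : F) (hζ : ζ ≠ 0) {p : F[X]} (hp : p.Monic) : (tw ζ p).Monic := by
  unfold Monic
  rw [leadingCoeff, tw_natDegree ζ hζ, coeff_tw, coeff_natDegree, hp.leadingCoeff, one_mul,
    ← mul_pow, inv_mul_cancel₀ hζ, one_pow]

theorem tw_irreducible (ζ : F) (hζ : ζ ≠ 0) {p : F[X]} (hp : Irreducible p) :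
    Irreducible (tw ζ p) := by
  have h1 : Irreducible (p.comp (C ζ * X)) :=
    (MulEquiv.irreducible_iff (compEquiv ζ hζ).toMulEquiv).mpr hp
  unfold tw
  have hu : IsUnit (C (ζ⁻¹ ^ p.natDegree) : F[X]) :=
    isUnit_C.mpr (IsUnit.mk0 _ (pow_ne_zero _ (inv_ne_zero hζ)))
  exact (irreducible_isUnit_mul hu).mpr h1

theorem tw_mul (ζ : F) {p q : F[X]} (hp : p ≠ 0) (hq : q ≠ 0) :
    tw ζ (p * q) = tw ζ p * tw ζ q := by
  unfold tw
  rw [natDegree_mul hp hq, mul_comp, pow_add, C_mul]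
  ring

theorem tw_one (ζ : F) : tw ζ (1 : F[X]) = 1 := by
  unfold tw
  simp

theorem tw_prod (ζ : F) {ι : Type*} (s : Finset ι) (f : ι → F[X]) (hf : ∀ i ∈ s, (f i).Monic) :
    tw ζ (∏ i ∈ s, f i) = ∏ i ∈ s, tw ζ (f i) := by
  classical
  induction s using Finset.induction_on with
  | empty => simp [tw_one]
  | insert a s ha ih =>
    rw [Finset.prod_insert ha, Finset.prod_insert ha,
      tw_mul ζ (hf a (Finset.mem_insert_self a s)).ne_zero
        (monic_prod_of_monic s f (fun i hi => hf i (Finset.mem_insert_of_mem hi))).ne_zero,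
      ih (fun i hi => hf i (Finset.mem_insert_of_mem hi))]

theorem tw_tw_inv (ζ : F) (hζ : ζ ≠ 0) (p : F[X]) : tw ζ⁻¹ (tw ζ p) = p := by
  ext i
  rw [coeff_tw, tw_natDegree ζ hζ, coeff_tw, inv_inv]
  have : ζ ^ p.natDegree * (ζ⁻¹ ^ p.natDegree * (p.coeff i * ζ ^ i) * ζ⁻¹ ^ i)
      = (ζ * ζ⁻¹) ^ p.natDegree * (p.coeff i * (ζ * ζ⁻¹) ^ i) := by
    rw [mul_pow, mul_pow]
    ring
  rw [this, mul_inv_cancel₀ hζ, one_pow, one_pow, one_mul, mul_one]

theorem tw_inv_tw (ζ : F) (hζ : ζ ≠ 0) (p : F[X]) : tw ζ (tw ζ⁻¹ p) = p := by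
  have := tw_tw_inv ζ⁻¹ (inv_ne_zero hζ) p
  rwa [inv_inv] at this

theorem pow_eq_one_of_tw_eq (ζ : F) (hζ : ζ ≠ 0) {p : F[X]} (h : tw ζ p = p) (h0 : p.coeff 0 ≠ 0) :
    ζ ^ p.natDegree = 1 := by
  have h1 := congrArg (fun r => r.coeff 0) h
  simp only [coeff_tw, pow_zero, mul_one] at h1
  have h2 : ζ⁻¹ ^ p.natDegree = 1 := by
    have : (ζ⁻¹ ^ p.natDegree - 1) * p.coeff 0 = 0 := by rw [sub_mul, h1, one_mul, sub_self]
    rcases mul_eq_zero.mp this with h3 | h3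
    · exact sub_eq_zero.mp h3
    · exact absurd h3 h0
  rw [inv_pow] at h2
  exact inv_eq_one.mp h2

theorem pow_eq_one_of_coeff_ne (ζ : F) (hζ : ζ ≠ 0) {p : F[X]} (h : tw ζ p = p)
    (h0 : p.coeff 0 ≠ 0) (i : ℕ) (hi : p.coeff i ≠ 0) : ζ ^ i = 1 := by
  have hdeg := pow_eq_one_of_tw_eq ζ hζ h h0
  have h1 := congrArg (fun r => r.coeff i) h
  simp only [coeff_tw] at h1
  rw [inv_pow, hdeg, inv_one, one_mul] at h1
  have : p.coeff i * (ζ ^ i - 1) = 0 := by rw [mul_sub, h1, mul_one, sub_self]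
  rcases mul_eq_zero.mp this with h3 | h3
  · exact absurd h3 hi
  · exact sub_eq_zero.mp h3

end tw

end Cfsg.Agent.Lib.Helper22.PSLCls
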