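import Mathlib
import Cfsg.Agent.Lib.Helper22.PSLClsC

/-! Stability of the tuple invariant of a matrix similar to its `ζ`-multiple. -/

set_option autoImplicit false

namespace Cfsg.Agent.Lib.Helper22.PSLCls

open Polynomial Module Cfsg.Agent.Lib.Helper22.GLCls

universe u

variable {F : Type u} [Field F] [Fintype F] {n : ℕ} {A : Matrix (Fin n) (Fin n) F}

theorem Nk_tw (d : Dec n A) (ζ : F) (hζ : ζ ≠ 0) (e : (Fin n → F) ≃ₗ[F] (Fin n → F))
    (he : ∀ v, e (Matrix.toLin' A v) = (ζ • Matrix.toLin' A) (e v))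
    (h : F[X]) (hh : h.Monic) (hhi : Irreducible h) (k : ℕ) :
    Nk d h k = Nk d (tw ζ h) k := by
  have h1 : KK (Matrix.toLin' A) (h ^ k) = KK (Matrix.toLin' A) ((tw ζ h) ^ k) := by
    calc KK (Matrix.toLin' A) (h ^ k)
        = KK (ζ • Matrix.toLin' A) (h ^ k) := (KK_conj _ _ e he _).symm
      _ = KK (Matrix.toLin' A) ((h ^ k).comp (C ζ * X)) := KK_smul _ _ _
      _ = KK (Matrix.toLin' A) (C (ζ ^ (h.natDegree * k)) * (tw ζ h) ^ k) := by
          rw [pow_comp, comp_eq_tw ζ hζ, mul_pow, ← C_pow, ← pow_mul]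
      _ = KK (Matrix.toLin' A) ((tw ζ h) ^ k) := KK_unit_mul _ _ (pow_ne_zero _ hζ) _
  rw [KK_pow_eq d h hh hhi, KK_pow_eq d (tw ζ h) (tw_monic ζ hζ hh) (tw_irreducible ζ hζ hhi),
    tw_natDegree ζ hζ] at h1
  have h2 := Nat.pow_right_injective (Fintype.one_lt_card (α := F)) h1
  exact Nat.eq_of_mul_eq_mul_left hhi.natDegree_pos h2

/-- number of labels equal to `y` -/
noncomputable def cnt (d : Dec n A) (y : F[X] × ℕ) : ℕ := by
  classical
  exact (Finset.univ.filter (fun i => d.lab i = y)).card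

theorem cnt_eq (d : Dec n A) (h : F[X]) (k : ℕ) (hk : 1 ≤ k) :
    (cnt d (h, k) : ℤ) = 2 * (Nk d h k : ℤ) - Nk d h (k - 1) - Nk d h (k + 1) := by
  classical
  unfold Nk cnt
  rw [Nat.cast_sum, Nat.cast_sum, Nat.cast_sum, Finset.mul_sum, ← Finset.sum_sub_distrib,
    ← Finset.sum_sub_distrib]
  have h1 : ∀ i ∈ Finset.univ.filter (fun i => (d.lab i).1 = h),
      (2 * ((min (d.lab i).2 k : ℕ) : ℤ) - ((min (d.lab i).2 (k - 1) : ℕ) : ℤ)
        - ((min (d.lab i).2 (k + 1) : ℕ) : ℤ)) = if (d.lab i).2 = k then 1 else 0 := by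
    intro i _
    split_ifs with hc
    · rw [hc]
      have e1 : min k k = k := min_self k
      have e2 : min k (k - 1) = k - 1 := min_eq_right (by omega)
      have e3 : min k (k + 1) = k := min_eq_left (by omega)
      rw [e1, e2, e3]
      push_cast [Nat.cast_sub hk]
      ring
    · rcases lt_or_gt_of_ne hc with hlt | hgt
      · have e1 : min (d.lab i).2 k = (d.lab i).2 := min_eq_left (by omega)
        have e2 : min (d.lab i).2 (k - 1) = (d.lab i).2 := min_eq_left (by omega)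
        have e3 : min (d.lab i).2 (k + 1) = (d.lab i).2 := min_eq_left (by omega)
        rw [e1, e2, e3]
        ring
      · have e1 : min (d.lab i).2 k = k := min_eq_right (by omega)
        have e2 : min (d.lab i).2 (k - 1) = k - 1 := min_eq_right (by omega)
        have e3 : min (d.lab i).2 (k + 1) = k + 1 := min_eq_right (by omega)
        rw [e1, e2, e3]
        push_cast [Nat.cast_sub hk]
        ring
  rw [Finset.sum_congr rfl h1, ← Finset.sum_filter, Finset.sum_const, Finset.filter_filter]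
  simp only [nsmul_eq_mul, mul_one]
  congr 2
  ext i
  simp only [Finset.mem_filter, Finset.mem_univ, true_and]
  constructor
  · intro hi
    rw [hi]
    exact ⟨rfl, rfl⟩
  · rintro ⟨h1, h2⟩
    exact Prod.ext h1 h2

theorem cnt_tw (d : Dec n A) (ζ : F) (hζ : ζ ≠ 0) (e : (Fin n → F) ≃ₗ[F] (Fin n → F))
    (he : ∀ v, e (Matrix.toLin' A v) = (ζ • Matrix.toLin' A) (e v))
    (h : F[X]) (hh : h.Monic) (hhi : Irreducible h) (k : ℕ) (hk : 1 ≤ k) :
    cnt d (h, k) = cnt d (tw ζ h, k) := by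
  have h1 := cnt_eq d h k hk
  have h2 := cnt_eq d (tw ζ h) k hk
  rw [Nk_tw d ζ hζ e he h hh hhi, Nk_tw d ζ hζ e he h hh hhi, Nk_tw d ζ hζ e he h hh hhi] at h1
  have : (cnt d (h, k) : ℤ) = cnt d (tw ζ h, k) := by rw [h1, h2]
  exact_mod_cast this

theorem cnt_eq_zero_of_not (d : Dec n A) (y : F[X] × ℕ)
    (hy : ¬ (y.1.Monic ∧ Irreducible y.1 ∧ 1 ≤ y.2)) : cnt d y = 0 := by
  classical
  unfold cnt
  rw [Finset.card_eq_zero, Finset.filter_eq_empty_iff]
  intro i _ hi
  apply hy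
  rw [← hi]
  exact ⟨d.monic i, d.irr i, d.pos i⟩

/-- the tuple invariant is stable under the twist -/
theorem tup_stable (d : Dec n A) (ζ : F) (hζ : ζ ≠ 0) (e : (Fin n → F) ≃ₗ[F] (Fin n → F))
    (he : ∀ v, e (Matrix.toLin' A v) = (ζ • Matrix.toLin' A) (e v)) (j : ℕ) :
    tw ζ (d.tup j) = d.tup j := by
  classical
  set lab' : d.ι → F[X] × ℕ := fun i => (tw ζ (d.lab i).1, (d.lab i).2) with hlab'
  have hcount : ∀ y : F[X] × ℕ, (Finset.univ.filter (fun i => d.lab i = y)).card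
      = (Finset.univ.filter (fun i => lab' i = y)).card := by
    rintro ⟨h, k⟩
    have hR : (Finset.univ.filter (fun i => lab' i = (h, k)))
        = Finset.univ.filter (fun i => d.lab i = (tw ζ⁻¹ h, k)) := by
      ext i
      simp only [Finset.mem_filter, Finset.mem_univ, true_and, hlab', Prod.mk.injEq]
      constructor
      · rintro ⟨h1, h2⟩
        apply Prod.ext
        · change (d.lab i).1 = tw ζ⁻¹ h
          rw [← h1, tw_tw_inv ζ hζ]
        · exact h2
      · intro hi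
        rw [hi]
        exact ⟨tw_inv_tw ζ hζ h, rfl⟩
    rw [hR]
    change cnt d (h, k) = cnt d (tw ζ⁻¹ h, k)
    by_cases hy : h.Monic ∧ Irreducible h ∧ 1 ≤ k
    · have hm' : (tw ζ⁻¹ h).Monic := tw_monic ζ⁻¹ (inv_ne_zero hζ) hy.1
      have hi' : Irreducible (tw ζ⁻¹ h) := tw_irreducible ζ⁻¹ (inv_ne_zero hζ) hy.2.1
      have := cnt_tw d ζ hζ e he (tw ζ⁻¹ h) hm' hi' k hy.2.2
      rw [tw_inv_tw ζ hζ] at this
      exact this.symm
    · rw [cnt_eq_zero_of_not d (h, k) hy, cnt_eq_zero_of_not d (tw ζ⁻¹ h, k)]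
      rintro ⟨h1, h2, h3⟩
      apply hy
      refine ⟨?_, ?_, h3⟩
      · have := tw_monic ζ hζ h1
        rwa [tw_inv_tw ζ hζ] at this
      · have := tw_irreducible ζ hζ h2
        rwa [tw_inv_tw ζ hζ] at this
  obtain ⟨σ, hσ⟩ := exists_equiv_of_card_fiber_eq d.lab lab' hcount
  -- hσ : lab' (σ i) = d.lab i
  unfold Dec.tup
  rw [tw_prod ζ _ _ (fun i _ => d.monic i)]
  symm
  apply Finset.prod_equiv σ
  · intro i
    simp only [Finset.mem_filter, Finset.mem_univ, true_and]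
    have := congrArg Prod.snd (hσ i)
    simp only [hlab'] at this
    rw [this]
  · intro i _
    have := congrArg Prod.fst (hσ i)
    simp only [hlab'] at this
    exact this.symm

end Cfsg.Agent.Lib.Helper22.PSLCls
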