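import Mathlib

/-! Determinant (over `F`) of multiplication by a polynomial on `F[X]`-modules: multiplicativity in
short exact sequences; the norm on `F[X]/(g^j)`. -/

set_option autoImplicit false

namespace Cfsg.Agent.Lib.Helper22.SLCls

open Polynomial Module

variable {F : Type*} [Field F]

/-- multiplication by a polynomial as an `F`-linear map -/
noncomputable abbrev smulF (M : Type*) [AddCommGroup M] [Module F M] [Module F[X] M]
    [IsScalarTower F F[X] M] (u : F[X]) : M →ₗ[F] M :=
  DistribMulAction.toLinearMap F M u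

theorem smulF_apply (M : Type*) [AddCommGroup M] [Module F M] [Module F[X] M]
    [IsScalarTower F F[X] M] (u : F[X]) (m : M) : smulF M u m = u • m := rfl

theorem det_smulF_of_exact {M' M M'' : Type*}
    [AddCommGroup M'] [Module F M'] [Module F[X] M'] [IsScalarTower F F[X] M']
    [AddCommGroup M] [Module F M] [Module F[X] M] [IsScalarTower F F[X] M]
    [AddCommGroup M''] [Module F M''] [Module F[X] M''] [IsScalarTower F F[X] M'']
    [Module.Finite F M]
    (i : M' →ₗ[F[X]] M) (p : M →ₗ[F[X]] M'') (hi : Function.Injective i)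
    (hp : Function.Surjective p) (hex : ∀ m, p m = 0 ↔ ∃ m', i m' = m) (u : F[X]) :
    LinearMap.det (smulF M u) = LinearMap.det (smulF M' u) * LinearMap.det (smulF M'' u) := by
  classical
  set iF : M' →ₗ[F] M := i.restrictScalars F with hiF
  set pF : M →ₗ[F] M'' := p.restrictScalars F with hpF
  set W : Submodule F M := LinearMap.range iF with hW
  have he : W ≤ W.comap (smulF M u) := by
    rintro w ⟨m', rfl⟩
    refine ⟨u • m', ?_⟩
    rw [smulF_apply]
    simp [hiF]
  have hker : W = LinearMap.ker pF := by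
    ext m
    rw [LinearMap.mem_ker]
    change (∃ m', iF m' = m) ↔ p m = 0
    rw [hex m]
    rfl
  rw [LinearMap.det_eq_det_mul_det W (smulF M u) he]
  let e₁ : M' ≃ₗ[F] W := LinearEquiv.ofInjective iF hi
  let e₂ : (M ⧸ W) ≃ₗ[F] M'' :=
    (Submodule.quotEquivOfEq W (LinearMap.ker pF) hker).trans
      (pF.quotKerEquivOfSurjective hp)
  have h1 : (smulF M u).restrict he
      = (e₁ : M' →ₗ[F] W) ∘ₗ (smulF M' u) ∘ₗ (e₁.symm : W →ₗ[F] M') := by
    apply LinearMap.ext
    intro w
    obtain ⟨m', rfl⟩ := e₁.surjective w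
    apply Subtype.ext
    simp only [LinearMap.restrict_coe_apply, LinearMap.coe_comp, LinearEquiv.coe_coe,
      Function.comp_apply, LinearEquiv.symm_apply_apply, e₁, LinearEquiv.ofInjective_apply,
      smulF_apply]
    change u • i m' = i (u • m')
    rw [map_smul]
  have h2 : W.mapQ W (smulF M u) he
      = (e₂.symm : M'' →ₗ[F] (M ⧸ W)) ∘ₗ (smulF M'' u) ∘ₗ (e₂ : (M ⧸ W) →ₗ[F] M'') := by
    apply LinearMap.ext
    intro x
    obtain ⟨m, rfl⟩ := Submodule.Quotient.mk_surjective W x
    apply e₂.injective
    simp only [LinearMap.coe_comp, LinearEquiv.coe_coe, Function.comp_apply,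
      LinearEquiv.apply_symm_apply, Submodule.mapQ_apply, e₂, LinearEquiv.trans_apply,
      Submodule.quotEquivOfEq_mk, LinearMap.quotKerEquivOfSurjective_apply_mk,
      smulF_apply]
    change p (u • m) = u • p m
    rw [map_smul]
  rw [h1, h2, LinearMap.det_conj]
  congr 1
  have := LinearMap.det_conj (smulF M'' u) e₂.symm
  rw [LinearEquiv.symm_symm] at this
  exact this

end Cfsg.Agent.Lib.Helper22.SLCls
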