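import Mathlib
import Cfsg.Agent.Lib.Helper22.SLClsA

/-! Determinant of a diagonal endomorphism of a dependent product; the norm `nrm f u` =
determinant of multiplication by `u` on `F[X]/(f)`. -/

set_option autoImplicit false

namespace Cfsg.Agent.Lib.Helper22.SLCls

open Polynomial Module

section detblock

theorem det_blockDiagonal_dep {R : Type*} [CommRing R] {ι : Type*} [Fintype ι] [DecidableEq ι]
    {m' : ι → Type*} [∀ i, Fintype (m' i)] [∀ i, DecidableEq (m' i)]
    (d : ∀ i, Matrix (m' i) (m' i) R) :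
    (Matrix.blockDiagonal' d).det = ∏ i, (d i).det := by
  classical
  letI : LinearOrder ι := IsWellOrder.linearOrder WellOrderingRel
  rw [(Matrix.blockTriangular_blockDiagonal' d).det_fintype]
  refine Finset.prod_congr rfl fun k _ => ?_
  rw [← Matrix.det_reindex_self (Equiv.sigmaSubtype k).symm (d k)]
  congr 1
  ext ⟨⟨i, a⟩, hi⟩ ⟨⟨j, b⟩, hj⟩
  simp only at hi hj
  subst hi
  subst hj
  simp [Matrix.toSquareBlock_def, Equiv.sigmaSubtype]

end detblock

section detpi

variable {R : Type*} [CommRing R] {ι : Type*} [Fintype ι] [DecidableEq ι]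
  {M : ι → Type*} [∀ i, AddCommGroup (M i)] [∀ i, Module R (M i)]
  [∀ i, Module.Free R (M i)] [∀ i, Module.Finite R (M i)]

theorem det_pi_dep (f : ∀ i, M i →ₗ[R] M i) :
    LinearMap.det (LinearMap.pi (fun i => (f i).comp (LinearMap.proj i))) = ∏ i, LinearMap.det (f i) := by
  classical
  let b : ∀ i, Basis (Module.Free.ChooseBasisIndex R (M i)) R (M i) :=
    fun i => Module.Free.chooseBasis R (M i)
  let B := Pi.basis b
  rw [← LinearMap.det_toMatrix B]
  have h1 : ∀ i, LinearMap.det (f i) = (LinearMap.toMatrix (b i) (b i) (f i)).det :=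
    fun i => (LinearMap.det_toMatrix (b i) (f i)).symm
  rw [Finset.prod_congr rfl (fun i _ => h1 i)]
  have : LinearMap.toMatrix B B (LinearMap.pi fun i => (f i).comp (LinearMap.proj i))
      = Matrix.blockDiagonal' (fun i => LinearMap.toMatrix (b i) (b i) (f i)) := by
    ext ⟨i₁, k₁⟩ ⟨j₁, k₂⟩
    rw [LinearMap.toMatrix_apply, Matrix.blockDiagonal'_apply]
    simp only [B, Pi.basis_apply, Pi.basis_repr, LinearMap.pi_apply, LinearMap.coe_comp,
      Function.comp_apply, LinearMap.coe_proj, Function.eval]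
    by_cases h : i₁ = j₁
    · subst h
      simp [LinearMap.toMatrix_apply]
    · rw [dif_neg h, Pi.single_eq_of_ne h]
      simp
  rw [this, det_blockDiagonal_dep]

end detpi

variable {F : Type*} [Field F]

/-- determinant of multiplication by `u` on `F[X]/(f)` -/
noncomputable def nrm (f u : F[X]) : F := LinearMap.det (smulF (F[X] ⧸ (F[X] ∙ f)) u)

theorem nrm_one_left (u : F[X]) : nrm (1 : F[X]) u = 1 := by
  unfold nrm
  haveI : Subsingleton (F[X] ⧸ (F[X] ∙ (1 : F[X]))) := by
    apply Submodule.Quotient.subsingleton_iff.mpr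
    exact Ideal.span_singleton_one
  exact LinearMap.det_eq_one_of_subsingleton _

theorem nrm_one_right (f : F[X]) : nrm f 1 = 1 := by
  unfold nrm
  have : smulF (F := F) (F[X] ⧸ (F[X] ∙ f)) 1 = LinearMap.id := by
    apply LinearMap.ext
    intro m
    rw [smulF_apply, one_smul, LinearMap.id_apply]
  rw [this, LinearMap.det_id]

theorem nrm_mul (f h u : F[X]) (hf : f.Monic) (hh : h.Monic) :
    nrm (f * h) u = nrm f u * nrm h u := by
  unfold nrm
  haveI : Module.Finite F (F[X] ⧸ (F[X] ∙ (f * h))) := (hf.mul hh).finite_quotient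
  have hh0 : h ≠ 0 := hh.ne_zero
  -- the maps
  have hle1 : (F[X] ∙ f : Submodule F[X] F[X]) ≤
      (F[X] ∙ (f * h) : Submodule F[X] F[X]).comap (LinearMap.lsmul F[X] F[X] h) := by
    intro a ha
    rw [Submodule.mem_span_singleton] at ha
    obtain ⟨c, rfl⟩ := ha
    rw [Submodule.mem_comap, Submodule.mem_span_singleton]
    refine ⟨c, ?_⟩
    simp only [LinearMap.lsmul_apply, smul_eq_mul]
    ring
  have hle2 : (F[X] ∙ (f * h) : Submodule F[X] F[X]) ≤
      (F[X] ∙ h : Submodule F[X] F[X]).comap (LinearMap.id) := by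
    intro a ha
    rw [Submodule.mem_span_singleton] at ha
    obtain ⟨c, rfl⟩ := ha
    rw [Submodule.mem_comap, Submodule.mem_span_singleton]
    refine ⟨c * f, ?_⟩
    simp only [LinearMap.id_apply, smul_eq_mul]
    ring
  let i : (F[X] ⧸ (F[X] ∙ f)) →ₗ[F[X]] (F[X] ⧸ (F[X] ∙ (f * h))) :=
    Submodule.mapQ _ _ (LinearMap.lsmul F[X] F[X] h) hle1
  let p : (F[X] ⧸ (F[X] ∙ (f * h))) →ₗ[F[X]] (F[X] ⧸ (F[X] ∙ h)) :=
    Submodule.mapQ _ _ LinearMap.id hle2
  have hi : Function.Injective i := by
    rw [← LinearMap.ker_eq_bot, LinearMap.ker_eq_bot']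
    intro x hx
    obtain ⟨a, rfl⟩ := Submodule.Quotient.mk_surjective _ x
    simp only [i, Submodule.mapQ_apply, LinearMap.lsmul_apply, smul_eq_mul] at hx
    rw [Submodule.Quotient.mk_eq_zero, Submodule.mem_span_singleton] at hx ⊢
    obtain ⟨c, hc⟩ := hx
    refine ⟨c, ?_⟩
    have : (c • f - a) * h = 0 := by
      simp only [smul_eq_mul] at hc ⊢
      linear_combination hc
    rcases mul_eq_zero.mp this with h1 | h1
    · exact sub_eq_zero.mp h1
    · exact absurd h1 hh0
  have hp : Function.Surjective p := by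
    intro y
    obtain ⟨a, rfl⟩ := Submodule.Quotient.mk_surjective _ y
    exact ⟨Submodule.Quotient.mk a, by simp [p, Submodule.mapQ_apply]⟩
  have hex : ∀ m, p m = 0 ↔ ∃ m', i m' = m := by
    intro m
    obtain ⟨a, rfl⟩ := Submodule.Quotient.mk_surjective _ m
    simp only [p, Submodule.mapQ_apply, LinearMap.id_apply]
    rw [Submodule.Quotient.mk_eq_zero, Submodule.mem_span_singleton]
    constructor
    · rintro ⟨c, rfl⟩
      refine ⟨Submodule.Quotient.mk c, ?_⟩
      simp only [i, Submodule.mapQ_apply, LinearMap.lsmul_apply, smul_eq_mul]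
      rw [mul_comm h c]
    · rintro ⟨m', hm'⟩
      obtain ⟨c, rfl⟩ := Submodule.Quotient.mk_surjective _ m'
      simp only [i, Submodule.mapQ_apply, LinearMap.lsmul_apply, smul_eq_mul] at hm'
      rw [Submodule.Quotient.eq, Submodule.mem_span_singleton] at hm'
      obtain ⟨e, he⟩ := hm'
      refine ⟨c - e * f, ?_⟩
      simp only [smul_eq_mul] at he ⊢
      linear_combination (-1 : F[X]) * he
  exact det_smulF_of_exact i p hi hp hex u

theorem nrm_pow (g u : F[X]) (hg : g.Monic) (j : ℕ) : nrm (g ^ j) u = nrm g u ^ j := by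
  induction j with
  | zero => rw [pow_zero, pow_zero, nrm_one_left]
  | succ j ih => rw [pow_succ, nrm_mul _ _ _ (hg.pow j) hg, ih, pow_succ]

end Cfsg.Agent.Lib.Helper22.SLCls
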