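import Mathlib
import Cfsg.Agent.Lib.Helper22.SLClsB

/-! `nrm f X` and surjectivity of `nrm g` for irreducible `g` over a finite field. -/

set_option autoImplicit false

namespace Cfsg.Agent.Lib.Helper22.SLCls

open Polynomial Module

variable {F : Type*} [Field F]

theorem smulF_eq_mul (f u : F[X]) :
    smulF (F := F) (F[X] ⧸ (F[X] ∙ f)) u
      = LinearMap.mul F (AdjoinRoot f) (AdjoinRoot.mk f u) := by
  apply LinearMap.ext
  intro m
  obtain ⟨a, rfl⟩ := Submodule.Quotient.mk_surjective _ m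
  rfl

theorem nrm_eq_norm (f u : F[X]) : nrm f u = Algebra.norm F (AdjoinRoot.mk f u) := by
  unfold nrm
  rw [Algebra.norm_apply, smulF_eq_mul]
  rfl

theorem nrm_X (f : F[X]) (hf : f.Monic) : nrm f X = (-1) ^ f.natDegree * f.coeff 0 := by
  rw [nrm_eq_norm]
  have h1 := Algebra.PowerBasis.norm_gen_eq_coeff_zero_minpoly (AdjoinRoot.powerBasis hf.ne_zero)
  rw [AdjoinRoot.minpoly_powerBasis_gen_of_monic hf] at h1
  rw [AdjoinRoot.powerBasis_gen, AdjoinRoot.powerBasis_dim] at h1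
  rw [← h1]
  rfl

theorem nrm_surj [Finite F] (g : F[X]) (hg : Irreducible g) (hm : g.Monic) (μ : F) :
    ∃ u : F[X], nrm g u = μ := by
  haveI : Fact (Irreducible g) := ⟨hg⟩
  haveI : Module.Finite F (AdjoinRoot g) := hm.finite_adjoinRoot
  haveI : Finite (AdjoinRoot g) := Module.finite_of_finite F
  obtain ⟨k, hk⟩ := FiniteField.norm_surjective F (AdjoinRoot g) μ
  obtain ⟨u, rfl⟩ := AdjoinRoot.mk_surjective k
  exact ⟨u, by rw [nrm_eq_norm, hk]⟩

end Cfsg.Agent.Lib.Helper22.SLCls
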