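import Mathlib
import Cfsg.Agent.Lib.Helper22.SLClsC
import Cfsg.Agent.Lib.Helper22.GLClsD

/-! Commuting matrices with prescribed determinant from decomposition data, and the determinant of
a matrix in terms of its decomposition data. -/

set_option autoImplicit false

namespace Cfsg.Agent.Lib.Helper22.SLCls

open Polynomial Module Cfsg.Agent.Lib.Helper22.GLCls

universe u

variable {F : Type u} [Field F] {n : ℕ} {A : Matrix (Fin n) (Fin n) F}

/-- the `F`-linear identification of `F^n` with the product of cyclic modules -/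
noncomputable def decEquiv (d : Dec n A) : (Fin n → F) ≃ₗ[F] (∀ i, NN (d.lab i)) :=
  (AEval'.of (Matrix.toLin' A)).trans (d.iso.restrictScalars F)

theorem decEquiv_apply_mulVec (d : Dec n A) (v : Fin n → F) :
    decEquiv d (Matrix.toLin' A v) = (X : F[X]) • decEquiv d v := by
  change d.iso (AEval'.of (Matrix.toLin' A) (Matrix.toLin' A v))
    = (X : F[X]) • d.iso (AEval'.of (Matrix.toLin' A) v)
  rw [← AEval'.X_smul_of, map_smul]

theorem decEquiv_symm_X_smul (d : Dec n A) (w : ∀ i, NN (d.lab i)) :
    (decEquiv d).symm ((X : F[X]) • w) = Matrix.toLin' A ((decEquiv d).symm w) := by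
  apply (decEquiv d).injective
  rw [decEquiv_apply_mulVec, LinearEquiv.apply_symm_apply, LinearEquiv.apply_symm_apply]

/-- the diagonal endomorphism given by a family of polynomials -/
noncomputable def diagMap (d : Dec n A) (u : d.ι → F[X]) :
    (∀ i, NN (d.lab i)) →ₗ[F] (∀ i, NN (d.lab i)) :=
  LinearMap.pi (fun i => (smulF (NN (d.lab i)) (u i)).comp (LinearMap.proj i))

theorem diagMap_apply (d : Dec n A) (u : d.ι → F[X]) (w : ∀ i, NN (d.lab i)) (i : d.ι) :
    diagMap d u w i = u i • w i := rfl

theorem det_diagMap (d : Dec n A) (u : d.ι → F[X]) :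
    LinearMap.det (diagMap d u) = ∏ i, nrm ((d.lab i).1 ^ (d.lab i).2) (u i) := by
  classical
  haveI : ∀ i, Module.Finite F (NN (d.lab i)) := fun i =>
    ((d.monic i).pow (d.lab i).2).finite_quotient
  unfold diagMap
  rw [det_pi_dep]
  rfl

/-- the endomorphism of `F^n` corresponding to a diagonal endomorphism -/
noncomputable def diagEnd (d : Dec n A) (u : d.ι → F[X]) : (Fin n → F) →ₗ[F] (Fin n → F) :=
  ((decEquiv d).symm : (∀ i, NN (d.lab i)) →ₗ[F] (Fin n → F)) ∘ₗ (diagMap d u) ∘ₗ
    ((decEquiv d) : (Fin n → F) →ₗ[F] (∀ i, NN (d.lab i)))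

theorem det_diagEnd (d : Dec n A) (u : d.ι → F[X]) :
    LinearMap.det (diagEnd d u) = ∏ i, nrm ((d.lab i).1 ^ (d.lab i).2) (u i) := by
  rw [← det_diagMap]
  have := LinearMap.det_conj (diagMap d u) (decEquiv d).symm
  rw [LinearEquiv.symm_symm] at this
  exact this

theorem diagEnd_comm (d : Dec n A) (u : d.ι → F[X]) (v : Fin n → F) :
    diagEnd d u (Matrix.toLin' A v) = Matrix.toLin' A (diagEnd d u v) := by
  unfold diagEnd
  simp only [LinearMap.coe_comp, LinearEquiv.coe_coe, Function.comp_apply]
  rw [decEquiv_apply_mulVec, ← decEquiv_symm_X_smul]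
  congr 1
  funext i
  rw [diagMap_apply, Pi.smul_apply, Pi.smul_apply, diagMap_apply, smul_comm]

theorem diagEnd_X (d : Dec n A) : diagEnd d (fun _ => X) = Matrix.toLin' A := by
  apply LinearMap.ext
  intro v
  unfold diagEnd
  simp only [LinearMap.coe_comp, LinearEquiv.coe_coe, Function.comp_apply]
  have : diagMap d (fun _ => X) (decEquiv d v) = (X : F[X]) • decEquiv d v := by
    funext i
    rw [diagMap_apply, Pi.smul_apply]
  rw [this, decEquiv_symm_X_smul, LinearEquiv.symm_apply_apply]

/-- determinant of a matrix from its decomposition data -/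
theorem Dec.det_eq (d : Dec n A) :
    A.det = ∏ i, ((-1) ^ (d.lab i).1.natDegree * (d.lab i).1.coeff 0) ^ (d.lab i).2 := by
  rw [← LinearMap.det_toLin', ← diagEnd_X d, det_diagEnd]
  refine Finset.prod_congr rfl fun i _ => ?_
  rw [nrm_pow _ _ (d.monic i), nrm_X _ (d.monic i)]

/-- matrices commuting with `A`, with prescribed determinant -/
theorem Dec.exists_comm [Finite F] (d : Dec n A) (i : d.ι) (μ : F) :
    ∃ Z : Matrix (Fin n) (Fin n) F, Z * A = A * Z ∧ Z.det = μ ^ (d.lab i).2 := by
  classical
  obtain ⟨u0, hu0⟩ := nrm_surj (d.lab i).1 (d.irr i) (d.monic i) μ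
  set u : d.ι → F[X] := fun k => if k = i then u0 else 1 with hu
  refine ⟨LinearMap.toMatrix' (diagEnd d u), ?_, ?_⟩
  · have h2 : (diagEnd d u) ∘ₗ Matrix.toLin' A = Matrix.toLin' A ∘ₗ (diagEnd d u) := by
      apply LinearMap.ext
      intro v
      exact diagEnd_comm d u v
    have h3 := congrArg LinearMap.toMatrix' h2
    rw [LinearMap.toMatrix'_comp, LinearMap.toMatrix'_comp, LinearMap.toMatrix'_toLin'] at h3
    exact h3
  · rw [LinearMap.det_toMatrix', det_diagEnd]
    rw [Finset.prod_eq_single i]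
    · rw [hu]
      simp only [if_true]
      rw [nrm_pow _ _ (d.monic i), hu0]
    · intro k _ hk
      rw [hu]
      simp only [if_neg hk]
      exact nrm_one_right _
    · intro h
      exact absurd (Finset.mem_univ i) h

end Cfsg.Agent.Lib.Helper22.SLCls
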