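import Mathlib
import Cfsg.Agent.Lib.Helper22.SLClsD

/-! The determinant of a matrix via the tuple invariant; splitting of a conjugacy class of a group
into classes of the kernel of a homomorphism to a commutative group. -/

set_option autoImplicit false

namespace Cfsg.Agent.Lib.Helper22.SLCls

open Polynomial Module Cfsg.Agent.Lib.Helper22.GLCls

universe u

section delta

variable {F : Type u} [Field F] {n : ℕ} {A : Matrix (Fin n) (Fin n) F}

/-- the determinant attached to a tuple -/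
noncomputable def delta (n : ℕ) (E : ℕ → F[X]) : F :=
  ∏ j ∈ Finset.Ico 1 (n + 1), ((-1) ^ (E j).natDegree * (E j).coeff 0) ^ j

theorem Dec.det_eq_delta (d : Dec n A) : A.det = delta n d.tup := by
  classical
  rw [Dec.det_eq d, delta]
  rw [← Finset.prod_fiberwise_of_maps_to (s := Finset.univ) (t := Finset.Ico 1 (n + 1))
    (g := fun i => (d.lab i).2)]
  · refine Finset.prod_congr rfl fun j _ => ?_
    have h1 : ∀ i ∈ Finset.univ.filter (fun i => (d.lab i).2 = j),
        ((-1) ^ (d.lab i).1.natDegree * (d.lab i).1.coeff 0) ^ (d.lab i).2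
          = ((-1) ^ (d.lab i).1.natDegree * (d.lab i).1.coeff 0) ^ j := by
      intro i hi
      rw [(Finset.mem_filter.mp hi).2]
    rw [Finset.prod_congr rfl h1, Finset.prod_pow]
    congr 1
    rw [Finset.prod_mul_distrib, Finset.prod_pow_eq_pow_sum, d.tup_natDegree]
    congr 1
    unfold Dec.tup
    rw [coeff_zero_eq_eval_zero, eval_prod]
    refine Finset.prod_congr rfl fun i _ => ?_
    rw [coeff_zero_eq_eval_zero]
  · intro i _
    rw [Finset.mem_Ico]
    exact ⟨d.pos i, Nat.lt_succ_of_le (d.exp_le i)⟩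

end delta

section split

variable {S G Q : Type*} [Group S] [Group G] [CommGroup Q] [Finite Q]

theorem card_fiber_le (f : S →* G) (hf : Function.Injective f) (dt : G →* Q)
    (hker : ∀ g, dt g = 1 → ∃ s, f s = g) (x₀ : S) (H : Subgroup Q)
    (hH : ∀ h ∈ H, ∃ z : G, z * f x₀ = f x₀ * z ∧ dt z = h) :
    Nat.card {c : ConjClasses S // ConjClasses.map f c = ConjClasses.mk (f x₀)} ≤ H.index := by
  classical
  have hex : ∀ c : {c : ConjClasses S // ConjClasses.map f c = ConjClasses.mk (f x₀)},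
      ∃ g : G, g * f x₀ * g⁻¹ = f (Quotient.out c.1) := by
    rintro ⟨c, hc⟩
    have e1 : ConjClasses.mk (Quotient.out c) = c := Quotient.out_eq c
    rw [← e1] at hc
    have h2 : ConjClasses.mk (f (Quotient.out c)) = ConjClasses.mk (f x₀) := hc
    rw [ConjClasses.mk_eq_mk_iff_isConj] at h2
    exact isConj_iff.mp h2.symm
  choose gc hgc using hex
  let θ : {c : ConjClasses S // ConjClasses.map f c = ConjClasses.mk (f x₀)} → Q ⧸ H :=
    fun c => QuotientGroup.mk (dt (gc c))
  rw [Subgroup.index_eq_card]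
  apply Nat.card_le_card_of_injective θ
  intro c₁ c₂ h12
  simp only [θ] at h12
  rw [QuotientGroup.eq] at h12
  obtain ⟨z, hz1, hz2⟩ := hH _ h12
  -- s' = g₂ z⁻¹ g₁⁻¹
  have hd : dt (gc c₂ * z⁻¹ * (gc c₁)⁻¹) = 1 := by
    rw [map_mul, map_mul, map_inv, map_inv, hz2]
    rw [mul_inv_rev, inv_inv]
    generalize dt (gc c₁) = a
    generalize dt (gc c₂) = b
    rw [mul_assoc, mul_assoc, mul_inv_cancel, mul_one, mul_inv_cancel]
  obtain ⟨s, hs⟩ := hker _ hd
  have hz3 : z⁻¹ * f x₀ * z = f x₀ := by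
    rw [mul_assoc, ← hz1, inv_mul_cancel_left]
  have hconj : s * Quotient.out c₁.1 * s⁻¹ = Quotient.out c₂.1 := by
    apply hf
    rw [map_mul, map_mul, map_inv, hs, ← hgc c₁, ← hgc c₂]
    have : gc c₂ * z⁻¹ * (gc c₁)⁻¹ * (gc c₁ * f x₀ * (gc c₁)⁻¹) * (gc c₂ * z⁻¹ * (gc c₁)⁻¹)⁻¹
        = gc c₂ * (z⁻¹ * f x₀ * z) * (gc c₂)⁻¹ := by
      group
    rw [this, hz3]
  apply Subtype.ext
  have e1 : ConjClasses.mk (Quotient.out c₁.1) = c₁.1 := Quotient.out_eq c₁.1
  have e2 : ConjClasses.mk (Quotient.out c₂.1) = c₂.1 := Quotient.out_eq c₂.1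
  rw [← e1, ← e2, ConjClasses.mk_eq_mk_iff_isConj, isConj_iff]
  exact ⟨s, hconj⟩

end split

end Cfsg.Agent.Lib.Helper22.SLCls
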