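import Mathlib
import Cfsg.Agent.Lib.Helper22.SLClsE

/-! Rescaling the constant terms of a tuple of monic polynomials. -/

set_option autoImplicit false

namespace Cfsg.Agent.Lib.Helper22.SLCls

open Polynomial

universe u

variable {F : Type u} [Field F]

/-- multiply the constant term of a nonconstant polynomial by `l` -/
noncomputable def actP (l : F) (P : F[X]) : F[X] := by
  classical
  exact if P = 1 then 1 else P + C ((l - 1) * P.coeff 0)

theorem actP_of_eq_one (l : F) {P : F[X]} (h : P = 1) : actP l P = 1 := by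
  classical
  unfold actP
  rw [if_pos h]

theorem actP_of_ne_one (l : F) {P : F[X]} (h : P ≠ 1) :
    actP l P = P + C ((l - 1) * P.coeff 0) := by
  classical
  unfold actP
  rw [if_neg h]

theorem actP_natDegree (l : F) (P : F[X]) : (actP l P).natDegree = P.natDegree := by
  by_cases h : P = 1
  · rw [actP_of_eq_one l h, h]
  · rw [actP_of_ne_one l h, natDegree_add_C]

theorem actP_monic (l : F) {P : F[X]} (hP : P.Monic) : (actP l P).Monic := by
  by_cases h : P = 1
  · rw [actP_of_eq_one l h]
    exact monic_one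
  · rw [actP_of_ne_one l h]
    apply hP.add_of_left
    have h1 : P.natDegree ≠ 0 := fun h0 => h (hP.natDegree_eq_zero.mp h0)
    have h2 : 0 < P.degree := natDegree_pos_iff_degree_pos.mp (Nat.pos_of_ne_zero h1)
    exact lt_of_le_of_lt degree_C_le h2

theorem actP_eq_one_iff (l : F) {P : F[X]} (hP : P.Monic) : actP l P = 1 ↔ P = 1 := by
  constructor
  · intro h
    have h1 : (actP l P).natDegree = 0 := by rw [h, natDegree_one]
    rw [actP_natDegree] at h1
    exact hP.natDegree_eq_zero.mp h1
  · intro h
    exact actP_of_eq_one l h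

theorem actP_coeff_zero (l : F) {P : F[X]} (h : P ≠ 1) :
    (actP l P).coeff 0 = l * P.coeff 0 := by
  rw [actP_of_ne_one l h, coeff_add, coeff_C_zero]
  ring

theorem actP_one (P : F[X]) : actP 1 P = P := by
  by_cases h : P = 1
  · rw [actP_of_eq_one 1 h, h]
  · rw [actP_of_ne_one 1 h]
    simp

theorem actP_actP (l' l : F) {P : F[X]} (hP : P.Monic) :
    actP l' (actP l P) = actP (l' * l) P := by
  by_cases h : P = 1
  · rw [actP_of_eq_one l h, actP_of_eq_one l' rfl, actP_of_eq_one _ h]
  · have h' : actP l P ≠ 1 := fun h1 => h ((actP_eq_one_iff l hP).mp h1)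
    rw [actP_of_ne_one l' h', actP_coeff_zero l h, actP_of_ne_one l h, actP_of_ne_one _ h,
      add_assoc, ← C_add]
    congr 2
    ring

theorem actP_coeff_zero_ne {l : F} (hl : l ≠ 0) {P : F[X]} (hP : P.coeff 0 ≠ 0) :
    (actP l P).coeff 0 ≠ 0 := by
  by_cases h : P = 1
  · rw [actP_of_eq_one l h]
    simp
  · rw [actP_coeff_zero l h]
    exact mul_ne_zero hl hP

theorem actP_factor (l : F) (P : F[X]) (j : ℕ) [Decidable (P = 1)] :
    ((-1) ^ (actP l P).natDegree * (actP l P).coeff 0) ^ j
      = (if P = 1 then 1 else l ^ j) * ((-1) ^ P.natDegree * P.coeff 0) ^ j := by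
  by_cases h : P = 1
  · rw [if_pos h, actP_of_eq_one l h, h, one_mul]
  · rw [if_neg h, actP_natDegree, actP_coeff_zero l h]
    ring

/-- rescale the constant terms of a tuple -/
noncomputable def act (l : ℕ → F) (E : ℕ → F[X]) : ℕ → F[X] := fun j => actP (l j) (E j)

theorem act_apply (l : ℕ → F) (E : ℕ → F[X]) (j : ℕ) : act l E j = actP (l j) (E j) := rfl

theorem act_one (E : ℕ → F[X]) : act (fun _ => (1 : F)) E = E := by
  funext j
  rw [act_apply, actP_one]

theorem act_act (l' l : ℕ → F) (E : ℕ → F[X]) (hE : ∀ j, (E j).Monic) :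
    act l' (act l E) = act (fun j => l' j * l j) E := by
  funext j
  rw [act_apply, act_apply, act_apply, actP_actP _ _ (hE j)]

theorem delta_act (n : ℕ) (l : ℕ → F) (E : ℕ → F[X]) [∀ j, Decidable (E j = 1)] :
    delta n (act l E)
      = (∏ j ∈ Finset.Ico 1 (n + 1), (if E j = 1 then 1 else l j ^ j)) * delta n E := by
  unfold delta
  rw [← Finset.prod_mul_distrib]
  refine Finset.prod_congr rfl fun j _ => ?_
  rw [act_apply, actP_factor]

end Cfsg.Agent.Lib.Helper22.SLCls
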