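import Mathlib
import Cfsg.Agent.Lib.Helper22.SLClsF

/-! Valid tuples, the subgroup of determinants attached to a tuple, and the count of rescalings
with determinant one. -/

set_option autoImplicit false

namespace Cfsg.Agent.Lib.Helper22.SLCls

open Polynomial

universe u

variable {F : Type u} [Field F]

/-- tuples that can occur as invariants of invertible `n × n` matrices -/
def Valid (n : ℕ) (E : ℕ → F[X]) : Prop :=
  (∀ j, (E j).Monic ∧ (E j).coeff 0 ≠ 0) ∧
    (∑ j ∈ Finset.Ico 1 (n + 1), j * (E j).natDegree = n) ∧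
    ∀ j, j ∉ Finset.Ico 1 (n + 1) → E j = 1

theorem Valid.act {n : ℕ} {E : ℕ → F[X]} (hE : Valid n E) (l : ℕ → F) (hl : ∀ j, l j ≠ 0) :
    Valid n (act l E) := by
  refine ⟨fun j => ⟨actP_monic _ (hE.1 j).1, actP_coeff_zero_ne (hl j) (hE.1 j).2⟩, ?_, ?_⟩
  · refine Eq.trans ?_ hE.2.1
    refine Finset.sum_congr rfl fun j _ => ?_
    rw [act_apply, actP_natDegree]
  · intro j hj
    rw [act_apply]
    exact actP_of_eq_one _ (hE.2.2 j hj)

theorem Valid.delta_ne {n : ℕ} {E : ℕ → F[X]} (hE : Valid n E) : delta n E ≠ 0 := by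
  unfold delta
  rw [Finset.prod_ne_zero_iff]
  intro j _
  apply pow_ne_zero
  apply mul_ne_zero
  · exact pow_ne_zero _ (by norm_num)
  · exact (hE.1 j).2

/-- the subgroup generated by the `j`-th powers, `j` an exponent occurring in the tuple -/
def HE (n : ℕ) (E : ℕ → F[X]) : Subgroup Fˣ :=
  Subgroup.closure {ν | ∃ j ∈ Finset.Ico 1 (n + 1), E j ≠ 1 ∧ ∃ μ : Fˣ, ν = μ ^ j}

/-- its index -/
noncomputable def gam (n : ℕ) (E : ℕ → F[X]) : ℕ := (HE n E).index

theorem HE_act (n : ℕ) (l : ℕ → F) (E : ℕ → F[X]) (hE : ∀ j, (E j).Monic) :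
    HE n (act l E) = HE n E := by
  unfold HE
  congr 1
  ext ν
  simp only [Set.mem_setOf_eq]
  constructor
  · rintro ⟨j, hj, h1, μ, rfl⟩
    refine ⟨j, hj, ?_, μ, rfl⟩
    intro h
    apply h1
    rw [act_apply]
    exact actP_of_eq_one _ h
  · rintro ⟨j, hj, h1, μ, rfl⟩
    refine ⟨j, hj, ?_, μ, rfl⟩
    intro h
    apply h1
    rw [act_apply] at h
    exact (actP_eq_one_iff _ (hE j)).mp h

theorem gam_act (n : ℕ) (l : ℕ → F) (E : ℕ → F[X]) (hE : ∀ j, (E j).Monic) :
    gam n (act l E) = gam n E := by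
  unfold gam
  rw [HE_act n l E hE]

/-- extend a family of units indexed by `[1, n]` to all of `ℕ` -/
noncomputable def extA (n : ℕ) (l : ↥(Finset.Ico 1 (n + 1)) → Fˣ) : ℕ → F :=
  fun j => if h : j ∈ Finset.Ico 1 (n + 1) then ((l ⟨j, h⟩ : Fˣ) : F) else 1

theorem extA_ne (n : ℕ) (l : ↥(Finset.Ico 1 (n + 1)) → Fˣ) (j : ℕ) : extA n l j ≠ 0 := by
  unfold extA
  split_ifs
  · exact Units.ne_zero _
  · exact one_ne_zero

theorem extA_mul (n : ℕ) (l l' : ↥(Finset.Ico 1 (n + 1)) → Fˣ) :
    (fun j => extA n l j * extA n l' j) = extA n (l * l') := by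
  funext j
  unfold extA
  split_ifs
  · simp
  · simp

theorem extA_one (n : ℕ) : extA (F := F) n 1 = fun _ => 1 := by
  funext j
  unfold extA
  split_ifs <;> simp

/-- the character of the rescaling group attached to a tuple -/
noncomputable def hE (n : ℕ) (E : ℕ → F[X]) : (↥(Finset.Ico 1 (n + 1)) → Fˣ) →* Fˣ := by
  classical
  exact
  { toFun := fun l => ∏ j : ↥(Finset.Ico 1 (n + 1)), if E j = 1 then 1 else (l j) ^ (j : ℕ)
    map_one' := by simp
    map_mul' := by
      intro l l'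
      rw [← Finset.prod_mul_distrib]
      refine Finset.prod_congr rfl fun j _ => ?_
      split_ifs
      · simp
      · simp [mul_pow] }

theorem coe_hE (n : ℕ) (E : ℕ → F[X]) [∀ j, Decidable (E j = 1)]
    (l : ↥(Finset.Ico 1 (n + 1)) → Fˣ) :
    ((hE n E l : Fˣ) : F)
      = ∏ j ∈ Finset.Ico 1 (n + 1), (if E j = 1 then 1 else extA n l j ^ j) := by
  classical
  rw [← Finset.prod_coe_sort]
  unfold hE
  simp only [MonoidHom.coe_mk, OneHom.coe_mk, Units.coe_prod]
  refine Finset.prod_congr rfl fun j _ => ?_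
  have : extA n l (j : ℕ) = ((l j : Fˣ) : F) := by
    unfold extA
    rw [dif_pos j.2]
  rw [this]
  split_ifs <;> simp

theorem delta_act_ext (n : ℕ) (E : ℕ → F[X]) (l : ↥(Finset.Ico 1 (n + 1)) → Fˣ) :
    delta n (act (extA n l) E) = ((hE n E l : Fˣ) : F) * delta n E := by
  classical
  rw [delta_act, coe_hE]

theorem HE_le_range (n : ℕ) (E : ℕ → F[X]) : HE n E ≤ (hE n E).range := by
  classical
  unfold HE
  rw [Subgroup.closure_le]
  rintro ν ⟨j, hj, h1, μ, rfl⟩
  refine ⟨Pi.mulSingle ⟨j, hj⟩ μ, ?_⟩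
  unfold hE
  simp only [MonoidHom.coe_mk, OneHom.coe_mk]
  rw [Finset.prod_eq_single ⟨j, hj⟩]
  · rw [if_neg h1, Pi.mulSingle_eq_same]
  · intro k _ hk
    rw [Pi.mulSingle_eq_of_ne hk]
    simp
  · intro h
    exact absurd (Finset.mem_univ _) h

theorem card_fiber_le_card_ker {A B : Type*} [Group A] [Group B] [Finite A] (φ : A →* B) (t : B) :
    Nat.card {a : A // φ a = t} ≤ Nat.card φ.ker := by
  classical
  rcases isEmpty_or_nonempty {a : A // φ a = t} with h | ⟨⟨a₀, ha₀⟩⟩
  · rw [Nat.card_of_isEmpty]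
    exact Nat.zero_le _
  · apply Nat.card_le_card_of_injective
      (fun a : {a : A // φ a = t} => (⟨a₀⁻¹ * a.1, by
        rw [MonoidHom.mem_ker, map_mul, map_inv, ha₀, a.2, inv_mul_cancel]⟩ : φ.ker))
    intro a b hab
    have := congrArg Subtype.val hab
    simp only [mul_right_inj] at this
    exact Subtype.ext this

variable [Fintype F]

theorem card_units_eq : Nat.card Fˣ = Fintype.card F - 1 := by
  classical
  rw [Nat.card_eq_fintype_card, Fintype.card_units]

/-- the number of rescalings of a valid tuple giving determinant one -/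
theorem card_rescale_le (n : ℕ) (E : ℕ → F[X]) (hV : Valid n E) :
    (Fintype.card F - 1) *
        Nat.card {l : ↥(Finset.Ico 1 (n + 1)) → Fˣ // delta n (act (extA n l) E) = 1}
      ≤ gam n E * (Fintype.card F - 1) ^ n := by
  classical
  set t : Fˣ := (Units.mk0 (delta n E) hV.delta_ne)⁻¹ with ht
  have h1 : Nat.card {l : ↥(Finset.Ico 1 (n + 1)) → Fˣ // delta n (act (extA n l) E) = 1}
      = Nat.card {l : ↥(Finset.Ico 1 (n + 1)) → Fˣ // hE n E l = t} := by
    apply Nat.card_congr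
    apply Equiv.subtypeEquivRight
    intro l
    rw [delta_act_ext, ht, eq_inv_iff_mul_eq_one, Units.ext_iff]
    simp
  rw [h1]
  have h2 := card_fiber_le_card_ker (hE n E) t
  have h3 : Nat.card (hE n E).ker * Nat.card (hE n E).range = (Fintype.card F - 1) ^ n := by
    rw [← Subgroup.index_ker, Subgroup.card_mul_index, Nat.card_pi]
    simp only [card_units_eq, Finset.prod_const, Finset.card_univ, Fintype.card_coe,
      Nat.card_Ico, Nat.add_sub_cancel]
  have h4 : Nat.card (HE n E) * gam n E = Fintype.card F - 1 := by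
    unfold gam
    rw [Subgroup.card_mul_index, card_units_eq]
  have h5 : Nat.card (HE n E) ≤ Nat.card (hE n E).range :=
    Subgroup.card_le_of_le (HE_le_range n E)
  calc (Fintype.card F - 1) * Nat.card {l : ↥(Finset.Ico 1 (n + 1)) → Fˣ // hE n E l = t}
      ≤ (Fintype.card F - 1) * Nat.card (hE n E).ker := Nat.mul_le_mul_left _ h2
    _ = gam n E * (Nat.card (HE n E) * Nat.card (hE n E).ker) := by rw [← h4]; ring
    _ ≤ gam n E * (Nat.card (hE n E).range * Nat.card (hE n E).ker) :=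
        Nat.mul_le_mul_left _ (Nat.mul_le_mul_right _ h5)
    _ = gam n E * (Fintype.card F - 1) ^ n := by rw [← h3]; ring

end Cfsg.Agent.Lib.Helper22.SLCls
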