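import Mathlib
import Cfsg.Agent.Lib.Helper22.SLClsG
import Cfsg.Agent.Lib.Helper22.GLClsF

/-! The tuple invariant on classes of `SL_n(F)`: validity, determinant, and the bound for the number
of classes of `SL_n(F)` with a given invariant. -/

set_option autoImplicit false

namespace Cfsg.Agent.Lib.Helper22.SLCls

open Polynomial Module Cfsg.Agent.Lib.Helper22.GLCls

universe u

variable {F : Type u} [Field F]

/-- the chosen decomposition data of the chosen representative of a class -/
noncomputable def chosenDec (n : ℕ) (c : ConjClasses (Matrix.GeneralLinearGroup (Fin n) F)) :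
    Dec n ((Quotient.out c : Matrix.GeneralLinearGroup (Fin n) F) : Matrix (Fin n) (Fin n) F) :=
  Classical.choice (exists_dec n _)

theorem clsTup_eq (n : ℕ) (c : ConjClasses (Matrix.GeneralLinearGroup (Fin n) F)) :
    clsTup n c = (chosenDec n c).tup := rfl

theorem valid_clsTup (n : ℕ) (c : ConjClasses (Matrix.GeneralLinearGroup (Fin n) F)) :
    Valid n (clsTup n c) := by
  rw [clsTup_eq]
  exact ⟨fun j => ⟨Dec.tup_monic _ j, Dec.tup_coeff_zero_ne _ (toLin'_injective_of_unit _) j⟩,
    Dec.sum_tup _, fun j hj => Dec.tup_eq_one _ j hj⟩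

theorem det_eq_of_isConj {n : ℕ} {a b : Matrix.GeneralLinearGroup (Fin n) F} (h : IsConj a b) :
    (a : Matrix (Fin n) (Fin n) F).det = (b : Matrix (Fin n) (Fin n) F).det := by
  obtain ⟨c, hc⟩ := isConj_iff.mp h
  rw [← hc]
  simp only [Units.val_mul, Matrix.det_mul, Matrix.coe_units_inv]
  rw [mul_comm, ← mul_assoc, ← Matrix.det_mul, Matrix.nonsing_inv_mul, Matrix.det_one, one_mul]
  exact (Matrix.isUnit_iff_isUnit_det _).mp c.isUnit

theorem out_mk_isConj {G : Type*} [Group G] (g : G) :
    IsConj g (Quotient.out (ConjClasses.mk g)) := by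
  have e1 : ConjClasses.mk (Quotient.out (ConjClasses.mk g)) = ConjClasses.mk g :=
    Quotient.out_eq _
  exact (ConjClasses.mk_eq_mk_iff_isConj.mp e1).symm

theorem delta_clsTup_mk (n : ℕ) (g : Matrix.GeneralLinearGroup (Fin n) F) :
    delta n (clsTup n (ConjClasses.mk g)) = (g : Matrix (Fin n) (Fin n) F).det := by
  rw [clsTup_eq, ← Dec.det_eq_delta]
  exact (det_eq_of_isConj (out_mk_isConj g)).symm

theorem exists_comm_of_mem_HE [Finite F] (n : ℕ) (g : Matrix.GeneralLinearGroup (Fin n) F)
    (h : Fˣ) (hh : h ∈ HE n (clsTup n (ConjClasses.mk g))) :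
    ∃ z : Matrix.GeneralLinearGroup (Fin n) F, z * g = g * z ∧
      Matrix.GeneralLinearGroup.det z = h := by
  classical
  let D : Subgroup Fˣ := (Subgroup.centralizer {g}).map Matrix.GeneralLinearGroup.det
  have hD : HE n (clsTup n (ConjClasses.mk g)) ≤ D := by
    unfold HE
    rw [Subgroup.closure_le]
    rintro ν ⟨j, hj, h1, μ, rfl⟩
    set d := chosenDec n (ConjClasses.mk g) with hd
    rw [clsTup_eq] at h1
    have hex : ∃ i : d.ι, (d.lab i).2 = j := by
      by_contra hne
      rw [not_exists] at hne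
      apply h1
      unfold Dec.tup
      rw [Finset.filter_eq_empty_iff.mpr, Finset.prod_empty]
      intro i _
      exact hne i
    obtain ⟨i, hi⟩ := hex
    obtain ⟨Z, hZ1, hZ2⟩ := Dec.exists_comm d i (μ : F)
    rw [hi] at hZ2
    have hZu : IsUnit Z := by
      rw [Matrix.isUnit_iff_isUnit_det, hZ2]
      exact (Units.isUnit μ).pow j
    obtain ⟨Zu, rfl⟩ := hZu
    obtain ⟨w, hw⟩ := isConj_iff.mp (out_mk_isConj g)
    have hZ3 : Zu * Quotient.out (ConjClasses.mk g) = Quotient.out (ConjClasses.mk g) * Zu := by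
      apply Units.ext
      simpa using hZ1
    refine ⟨w⁻¹ * Zu * w, ?_, ?_⟩
    · rw [SetLike.mem_coe, Subgroup.mem_centralizer_iff]
      intro y hy
      rw [Set.mem_singleton_iff] at hy
      subst hy
      have : y = w⁻¹ * Quotient.out (ConjClasses.mk y) * w := by
        rw [← hw]
        group
      calc y * (w⁻¹ * Zu * w)
          = w⁻¹ * (Quotient.out (ConjClasses.mk y) * Zu) * w := by
            conv_lhs => rw [this]
            group
        _ = w⁻¹ * (Zu * Quotient.out (ConjClasses.mk y)) * w := by rw [hZ3]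
        _ = w⁻¹ * Zu * w * y := by
            conv_rhs => rw [this]
            group
    · rw [map_mul, map_mul, map_inv, mul_comm, ← mul_assoc, mul_inv_cancel, one_mul]
      apply Units.ext
      simp only [Matrix.GeneralLinearGroup.val_det_apply, Units.val_pow_eq_pow_val]
      exact hZ2
  obtain ⟨z, hz1, hz2⟩ := hD hh
  refine ⟨z, ?_, hz2⟩
  rw [SetLike.mem_coe, Subgroup.mem_centralizer_iff] at hz1
  exact (hz1 g rfl).symm

/-- the tuple invariant of a class of `SL_n(F)` -/
noncomputable def Psi (n : ℕ) (c : ConjClasses (Matrix.SpecialLinearGroup (Fin n) F)) :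
    ℕ → F[X] :=
  clsTup n (ConjClasses.map Matrix.SpecialLinearGroup.toGL c)

theorem valid_Psi (n : ℕ) (c : ConjClasses (Matrix.SpecialLinearGroup (Fin n) F)) :
    Valid n (Psi n c) := valid_clsTup n _

theorem delta_Psi (n : ℕ) (c : ConjClasses (Matrix.SpecialLinearGroup (Fin n) F)) :
    delta n (Psi n c) = 1 := by
  have e1 : ConjClasses.mk (Quotient.out c) = c := Quotient.out_eq c
  rw [← e1]
  unfold Psi
  change delta n (clsTup n (ConjClasses.mk (Matrix.SpecialLinearGroup.toGL (Quotient.out c)))) = 1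
  rw [delta_clsTup_mk]
  exact (Quotient.out c).2

theorem card_fiber_Psi_le [Finite F] (n : ℕ)
    (c₀ : ConjClasses (Matrix.SpecialLinearGroup (Fin n) F)) :
    Nat.card {c : ConjClasses (Matrix.SpecialLinearGroup (Fin n) F) // Psi n c = Psi n c₀}
      ≤ gam n (Psi n c₀) := by
  classical
  have e1 : ConjClasses.mk (Quotient.out c₀) = c₀ := Quotient.out_eq c₀
  set x := Quotient.out c₀ with hx
  have h1 : Psi n c₀ = clsTup n (ConjClasses.mk (Matrix.SpecialLinearGroup.toGL x)) := by
    conv_lhs => rw [← e1]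
    rfl
  have h2 : Nat.card {c : ConjClasses (Matrix.SpecialLinearGroup (Fin n) F) // Psi n c = Psi n c₀}
      = Nat.card {c : ConjClasses (Matrix.SpecialLinearGroup (Fin n) F) //
          ConjClasses.map Matrix.SpecialLinearGroup.toGL c
            = ConjClasses.mk (Matrix.SpecialLinearGroup.toGL x)} := by
    apply Nat.card_congr
    apply Equiv.subtypeEquivRight
    intro c
    rw [h1]
    unfold Psi
    exact (clsTup_injective n).eq_iff
  rw [h2, h1]
  unfold gam
  apply card_fiber_le Matrix.SpecialLinearGroup.toGL Matrix.SpecialLinearGroup.toGL_injective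
    Matrix.GeneralLinearGroup.det
  · intro g hg
    have hg' : (g : Matrix (Fin n) (Fin n) F).det = 1 := by
      have := congrArg Units.val hg
      simpa using this
    exact ⟨⟨(g : Matrix (Fin n) (Fin n) F), hg'⟩, Units.ext rfl⟩
  · intro h hh
    exact exists_comm_of_mem_HE n _ h hh

end Cfsg.Agent.Lib.Helper22.SLCls
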