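import Mathlib
import Cfsg.Agent.Lib.Helper22.SLClsH

/-! `(q - 1) k(SL_n(q)) ≤ ∑_E γ(E)^2`, the sum over a finite set of valid tuples closed under
rescaling. -/

set_option autoImplicit false

namespace Cfsg.Agent.Lib.Helper22.SLCls

open Polynomial Module Cfsg.Agent.Lib.Helper22.GLCls

universe u

variable {F : Type u} [Field F] [Fintype F]

/-- a finite set of valid tuples, closed under rescaling, containing all invariants -/
noncomputable def TT (n : ℕ) : Finset (ℕ → F[X]) := by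
  classical
  haveI : Fintype (ConjClasses (Matrix.GeneralLinearGroup (Fin n) F)) := Fintype.ofFinite _
  exact (Finset.univ : Finset ((↥(Finset.Ico 1 (n + 1)) → Fˣ) ×
    ConjClasses (Matrix.GeneralLinearGroup (Fin n) F))).image
      (fun p => act (extA n p.1) (clsTup n p.2))

theorem mem_TT (n : ℕ) (E : ℕ → F[X]) :
    E ∈ TT n ↔ ∃ (l : ↥(Finset.Ico 1 (n + 1)) → Fˣ)
      (c : ConjClasses (Matrix.GeneralLinearGroup (Fin n) F)), act (extA n l) (clsTup n c) = E := by
  classical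
  unfold TT
  simp only [Finset.mem_image, Finset.mem_univ, true_and, Prod.exists]

theorem valid_of_mem_TT {n : ℕ} {E : ℕ → F[X]} (hE : E ∈ TT n) : Valid n E := by
  obtain ⟨l, c, rfl⟩ := (mem_TT n E).mp hE
  exact (valid_clsTup n c).act _ (extA_ne n l)

theorem act_mem_TT {n : ℕ} {E : ℕ → F[X]} (hE : E ∈ TT n) (l : ↥(Finset.Ico 1 (n + 1)) → Fˣ) :
    act (extA n l) E ∈ TT n := by
  obtain ⟨l', c, rfl⟩ := (mem_TT n E).mp hE
  rw [mem_TT]
  refine ⟨l * l', c, ?_⟩
  rw [act_act _ _ _ (fun j => ((valid_clsTup n c).1 j).1), extA_mul]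

theorem Psi_mem_TT (n : ℕ) (c : ConjClasses (Matrix.SpecialLinearGroup (Fin n) F)) :
    Psi n c ∈ TT n := by
  rw [mem_TT]
  refine ⟨1, ConjClasses.map Matrix.SpecialLinearGroup.toGL c, ?_⟩
  rw [extA_one, act_one]
  rfl

theorem act_inv_act {n : ℕ} {E : ℕ → F[X]} (hE : Valid n E) (l : ↥(Finset.Ico 1 (n + 1)) → Fˣ) :
    act (extA n l⁻¹) (act (extA n l) E) = E := by
  rw [act_act _ _ _ (fun j => (hE.1 j).1), extA_mul, inv_mul_cancel, extA_one, act_one]

theorem act_act_inv {n : ℕ} {E : ℕ → F[X]} (hE : Valid n E) (l : ↥(Finset.Ico 1 (n + 1)) → Fˣ) :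
    act (extA n l) (act (extA n l⁻¹) E) = E := by
  rw [act_act _ _ _ (fun j => (hE.1 j).1), extA_mul, mul_inv_cancel, extA_one, act_one]

/-- weight of a tuple -/
noncomputable def wt (n : ℕ) (E : ℕ → F[X]) : ℕ := by
  classical
  exact if delta n E = 1 then gam n E else 0

theorem card_le_sum_wt (n : ℕ) :
    Nat.card (ConjClasses (Matrix.SpecialLinearGroup (Fin n) F))
      ≤ ∑ E ∈ TT (F := F) n, wt n E := by
  classical
  haveI : Fintype (ConjClasses (Matrix.SpecialLinearGroup (Fin n) F)) := Fintype.ofFinite _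
  rw [Nat.card_eq_fintype_card, ← Finset.card_univ,
    Finset.card_eq_sum_card_fiberwise (f := Psi n) (t := TT n) (fun c _ => Psi_mem_TT n c)]
  refine Finset.sum_le_sum fun E _ => ?_
  rcases (Finset.univ.filter (fun c => Psi n c = E)).eq_empty_or_nonempty with h | ⟨c₀, hc₀⟩
  · rw [h, Finset.card_empty]
    exact Nat.zero_le _
  · have hc₀' : Psi n c₀ = E := (Finset.mem_filter.mp hc₀).2
    subst hc₀'
    unfold wt
    rw [if_pos (delta_Psi n c₀)]
    refine le_trans (le_of_eq ?_) (card_fiber_Psi_le n c₀)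
    rw [Nat.card_eq_fintype_card, Fintype.card_subtype]

theorem sum_wt_act (n : ℕ) (l : ↥(Finset.Ico 1 (n + 1)) → Fˣ) :
    ∑ E ∈ TT n, wt n (act (extA n l) E) = ∑ E ∈ TT n, wt (F := F) n E := by
  apply Finset.sum_nbij' (fun E => act (extA n l) E) (fun E => act (extA n l⁻¹) E)
  · intro E hE
    exact act_mem_TT hE l
  · intro E hE
    exact act_mem_TT hE l⁻¹
  · intro E hE
    exact act_inv_act (valid_of_mem_TT hE) l
  · intro E hE
    exact act_act_inv (valid_of_mem_TT hE) l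
  · intro E _
    rfl

theorem main_ineq (n : ℕ) :
    (Fintype.card F - 1) * Nat.card (ConjClasses (Matrix.SpecialLinearGroup (Fin n) F))
      ≤ ∑ E ∈ TT (F := F) n, gam n E ^ 2 := by
  classical
  set q1 := Fintype.card F - 1 with hq1
  have hq1pos : 0 < q1 := by
    have := Fintype.one_lt_card (α := F)
    omega
  have hA : Fintype.card (↥(Finset.Ico 1 (n + 1)) → Fˣ) = q1 ^ n := by
    rw [Fintype.card_pi]
    simp only [Fintype.card_units, Finset.prod_const, Finset.card_univ, Fintype.card_coe,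
      Nat.card_Ico, Nat.add_sub_cancel, hq1]
  -- double counting
  have h1 : q1 ^ n * ∑ E ∈ TT (F := F) n, wt n E
      = ∑ E ∈ TT (F := F) n, ∑ l : ↥(Finset.Ico 1 (n + 1)) → Fˣ, wt n (act (extA n l) E) := by
    rw [Finset.sum_comm]
    rw [Finset.sum_congr rfl (fun l _ => sum_wt_act n l)]
    rw [Finset.sum_const, Finset.card_univ, hA, smul_eq_mul]
  have h2 : ∀ E ∈ TT (F := F) n,
      q1 * ∑ l : ↥(Finset.Ico 1 (n + 1)) → Fˣ, wt n (act (extA n l) E)
        ≤ gam n E ^ 2 * q1 ^ n := by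
    intro E hE
    have hV := valid_of_mem_TT hE
    have h3 : ∀ l : ↥(Finset.Ico 1 (n + 1)) → Fˣ, wt n (act (extA n l) E)
        = if delta n (act (extA n l) E) = 1 then gam n E else 0 := by
      intro l
      unfold wt
      rw [gam_act n _ E (fun j => (hV.1 j).1)]
    rw [Finset.sum_congr rfl (fun l _ => h3 l), ← Finset.sum_filter, Finset.sum_const,
      smul_eq_mul]
    have h4 := card_rescale_le n E hV
    rw [Nat.card_eq_fintype_card, Fintype.card_subtype] at h4
    calc q1 * ((Finset.univ.filter fun l : ↥(Finset.Ico 1 (n + 1)) → Fˣ =>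
            delta n (act (extA n l) E) = 1).card * gam n E)
        = gam n E * (q1 * (Finset.univ.filter fun l : ↥(Finset.Ico 1 (n + 1)) → Fˣ =>
            delta n (act (extA n l) E) = 1).card) := by ring
      _ ≤ gam n E * (gam n E * q1 ^ n) := Nat.mul_le_mul_left _ h4
      _ = gam n E ^ 2 * q1 ^ n := by ring
  have h5 : q1 ^ n * (q1 * ∑ E ∈ TT (F := F) n, wt n E)
      ≤ q1 ^ n * ∑ E ∈ TT (F := F) n, gam n E ^ 2 := by
    calc q1 ^ n * (q1 * ∑ E ∈ TT (F := F) n, wt n E)
        = q1 * (q1 ^ n * ∑ E ∈ TT (F := F) n, wt n E) := by ring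
      _ = ∑ E ∈ TT (F := F) n,
            q1 * ∑ l : ↥(Finset.Ico 1 (n + 1)) → Fˣ, wt n (act (extA n l) E) := by
          rw [h1, Finset.mul_sum]
      _ ≤ ∑ E ∈ TT (F := F) n, gam n E ^ 2 * q1 ^ n := Finset.sum_le_sum h2
      _ = q1 ^ n * ∑ E ∈ TT (F := F) n, gam n E ^ 2 := by
          rw [Finset.mul_sum]
          exact Finset.sum_congr rfl fun E _ => Nat.mul_comm _ _
  have h6 := Nat.le_of_mul_le_mul_left h5 (pow_pos hq1pos n)
  exact le_trans (Nat.mul_le_mul_left _ (card_le_sum_wt n)) h6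

end Cfsg.Agent.Lib.Helper22.SLCls
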