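import Mathlib
import Cfsg.Agent.Lib.Helper22.SLClsI

/-! Divisibility properties of `gam` and the pointwise bound for `gam ^ 2`. -/

set_option autoImplicit false

namespace Cfsg.Agent.Lib.Helper22.SLCls

open Polynomial

universe u

variable {F : Type u} [Field F] [Fintype F]

theorem gam_pos (n : ℕ) (E : ℕ → F[X]) : 0 < gam n E := by
  unfold gam
  exact Nat.pos_of_ne_zero Subgroup.index_ne_zero_of_finite

theorem gam_dvd_card (n : ℕ) (E : ℕ → F[X]) : gam n E ∣ Fintype.card F - 1 := by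
  unfold gam
  have := Subgroup.index_dvd_card (HE n E)
  rwa [card_units_eq] at this

theorem gam_dvd_of_ne_one (n : ℕ) (E : ℕ → F[X]) (j : ℕ) (hj : j ∈ Finset.Ico 1 (n + 1))
    (h1 : E j ≠ 1) : gam n E ∣ j := by
  classical
  unfold gam
  have hle : (powMonoidHom j : Fˣ →* Fˣ).range ≤ HE n E := by
    rintro ν ⟨μ, rfl⟩
    unfold HE
    apply Subgroup.subset_closure
    exact ⟨j, hj, h1, μ, rfl⟩
  have h2 := Subgroup.index_dvd_of_le hle
  rw [IsCyclic.index_powMonoidHom_range] at h2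
  exact dvd_trans h2 (Nat.gcd_dvd_right _ _)

theorem gam_dvd_n {n : ℕ} {E : ℕ → F[X]} (hE : Valid n E) : gam n E ∣ n := by
  classical
  have h := hE.2.1
  suffices hs : gam n E ∣ ∑ j ∈ Finset.Ico 1 (n + 1), j * (E j).natDegree by
    rwa [h] at hs
  apply Finset.dvd_sum
  intro j hj
  by_cases h1 : E j = 1
  · rw [h1, natDegree_one, mul_zero]
    exact dvd_zero _
  · exact Dvd.dvd.mul_right (gam_dvd_of_ne_one n E j hj h1) _

/-- the support condition -/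
def SuppDvd (n g : ℕ) (E : ℕ → F[X]) : Prop :=
  ∀ j ∈ Finset.Ico 1 (n + 1), E j ≠ 1 → g ∣ j

theorem gam_sq_le {n : ℕ} (hn : 1 ≤ n) {E : ℕ → F[X]} (hE : Valid n E)
    [DecidablePred (fun g => g ∣ Fintype.card F - 1 ∧ g ∣ n ∧ SuppDvd n g E)] :
    gam n E ^ 2 ≤ 1 + ∑ g ∈ Finset.Icc 2 n,
      (if g ∣ Fintype.card F - 1 ∧ g ∣ n ∧ SuppDvd n g E then g ^ 2 - 1 else 0) := by
  classical
  set g₀ := gam n E with hg₀
  have hpos : 0 < g₀ := gam_pos n E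
  by_cases h1 : g₀ = 1
  · rw [h1]
    simp
  · have h2 : 2 ≤ g₀ := by omega
    have hdn : g₀ ∣ n := gam_dvd_n hE
    have hle : g₀ ≤ n := Nat.le_of_dvd hn hdn
    have hmem : g₀ ∈ Finset.Icc 2 n := Finset.mem_Icc.mpr ⟨h2, hle⟩
    have hcond : g₀ ∣ Fintype.card F - 1 ∧ g₀ ∣ n ∧ SuppDvd n g₀ E :=
      ⟨gam_dvd_card n E, hdn, fun j hj hj1 => gam_dvd_of_ne_one n E j hj hj1⟩
    have h3 : (if g₀ ∣ Fintype.card F - 1 ∧ g₀ ∣ n ∧ SuppDvd n g₀ E then g₀ ^ 2 - 1 else 0)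
        ≤ ∑ g ∈ Finset.Icc 2 n,
          (if g ∣ Fintype.card F - 1 ∧ g ∣ n ∧ SuppDvd n g E then g ^ 2 - 1 else 0) :=
      Finset.single_le_sum
        (f := fun g => if g ∣ Fintype.card F - 1 ∧ g ∣ n ∧ SuppDvd n g E then g ^ 2 - 1 else 0)
        (fun _ _ => Nat.zero_le _) hmem
    rw [if_pos hcond] at h3
    have h4 : 1 ≤ g₀ ^ 2 := Nat.one_le_pow _ _ hpos
    omega

end Cfsg.Agent.Lib.Helper22.SLCls
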