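import Mathlib
import Cfsg.Agent.Lib.Helper22.SLClsJ

/-! Counting the valid tuples supported on multiples of `g`. -/

set_option autoImplicit false

namespace Cfsg.Agent.Lib.Helper22.SLCls

open Polynomial Cfsg.Agent.Lib.Helper22.GLCls

universe u

variable {F : Type u} [Field F] [Fintype F]

theorem filter_dvd_Ico (g m : ℕ) (hg : 1 ≤ g) :
    (Finset.Ico 1 (g * m + 1)).filter (fun j => g ∣ j) = (Finset.Ico 1 (m + 1)).image (g * ·) := by
  ext j
  simp only [Finset.mem_filter, Finset.mem_Ico, Finset.mem_image]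
  constructor
  · rintro ⟨⟨h1, h2⟩, i, rfl⟩
    refine ⟨i, ⟨?_, ?_⟩, rfl⟩
    · rcases Nat.eq_zero_or_pos i with h | h
      · subst h
        omega
      · exact h
    · have : g * i ≤ g * m := by omega
      have := Nat.le_of_mul_le_mul_left this hg
      omega
  · rintro ⟨i, ⟨h1, h2⟩, rfl⟩
    refine ⟨⟨?_, ?_⟩, Dvd.intro _ rfl⟩
    · exact Nat.mul_pos hg h1
    · have : g * i ≤ g * m := Nat.mul_le_mul_left _ (by omega)
      omega

theorem sum_reindex (g m : ℕ) (hg : 1 ≤ g) (E : ℕ → F[X]) (hE : Valid (g * m) E)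
    (hs : SuppDvd (g * m) g E) :
    ∑ i ∈ Finset.Ico 1 (1 + m), i * (E (g * i)).natDegree = m := by
  classical
  have h1 := hE.2.1
  have h2 : ∑ j ∈ Finset.Ico 1 (g * m + 1), j * (E j).natDegree
      = ∑ j ∈ (Finset.Ico 1 (g * m + 1)).filter (fun j => g ∣ j), j * (E j).natDegree := by
    rw [Finset.sum_filter]
    refine Finset.sum_congr rfl fun j hj => ?_
    by_cases hd : g ∣ j
    · rw [if_pos hd]
    · rw [if_neg hd]
      have : E j = 1 := by
        by_contra hne
        exact hd (hs j hj hne)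
      rw [this, natDegree_one, mul_zero]
  rw [h2, filter_dvd_Ico g m hg, Finset.sum_image] at h1
  · have h3 : ∑ i ∈ Finset.Ico 1 (m + 1), g * i * (E (g * i)).natDegree
        = g * ∑ i ∈ Finset.Ico 1 (m + 1), i * (E (g * i)).natDegree := by
      rw [Finset.mul_sum]
      exact Finset.sum_congr rfl fun i _ => Nat.mul_assoc _ _ _
    rw [h3] at h1
    rw [Nat.add_comm 1 m]
    exact Nat.eq_of_mul_eq_mul_left hg h1
  · intro a _ b _ hab
    exact Nat.eq_of_mul_eq_mul_left hg hab

theorem card_suppDvd_le (g m : ℕ) (hg : 1 ≤ g) [DecidablePred (SuppDvd (F := F) (g * m) g)] :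
    (((TT (F := F) (g * m)).filter (SuppDvd (g * m) g)).card : ℤ)
      ≤ bW (Fintype.card F : ℤ) m 1 m := by
  classical
  set ρ : (ℕ → F[X]) → (ℕ → F[X]) := fun E i => E (g * i) with hρ
  have hinj : Set.InjOn ρ ((TT (F := F) (g * m)).filter (SuppDvd (g * m) g) : Set (ℕ → F[X])) := by
    intro E hE E' hE' h
    rw [Finset.mem_coe, Finset.mem_filter] at hE hE'
    have hV := valid_of_mem_TT hE.1
    have hV' := valid_of_mem_TT hE'.1
    funext j
    by_cases hj : j ∈ Finset.Ico 1 (g * m + 1)
    · by_cases hd : g ∣ j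
      · obtain ⟨i, rfl⟩ := hd
        exact congrFun h i
      · have e1 : E j = 1 := by
          by_contra hne
          exact hd (hE.2 j hj hne)
        have e2 : E' j = 1 := by
          by_contra hne
          exact hd (hE'.2 j hj hne)
        rw [e1, e2]
    · rw [hV.2.2 j hj, hV'.2.2 j hj]
  rw [← Finset.card_image_of_injOn hinj]
  apply card_le_bW m 1 m (le_refl 1)
  · intro E' hE'
    obtain ⟨E, hE, rfl⟩ := Finset.mem_image.mp hE'
    rw [Finset.mem_filter] at hE
    have hV := valid_of_mem_TT hE.1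
    exact ⟨fun i => hV.1 (g * i), sum_reindex g m hg E hV hE.2⟩
  · intro E₁ hE₁ E₂ hE₂ hag
    obtain ⟨E, hE, rfl⟩ := Finset.mem_image.mp hE₁
    obtain ⟨E', hE', rfl⟩ := Finset.mem_image.mp hE₂
    rw [Finset.mem_filter] at hE hE'
    have hV := valid_of_mem_TT hE.1
    have hV' := valid_of_mem_TT hE'.1
    funext i
    by_cases hi : i ∈ Finset.Ico 1 (1 + m)
    · exact hag i hi
    · have hout : g * i ∉ Finset.Ico 1 (g * m + 1) := by
        intro hmem
        apply hi
        rw [Finset.mem_Ico] at hmem ⊢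
        constructor
        · rcases Nat.eq_zero_or_pos i with h | h
          · subst h
            omega
          · exact h
        · have : g * i ≤ g * m := by omega
          have := Nat.le_of_mul_le_mul_left this hg
          omega
      change E (g * i) = E' (g * i)
      rw [hV.2.2 _ hout, hV'.2.2 _ hout]

theorem card_TT_le (n : ℕ) : ((TT (F := F) n).card : ℤ) ≤ bW (Fintype.card F : ℤ) n 1 n := by
  classical
  have h := card_suppDvd_le (F := F) 1 n (le_refl 1)
  rw [Nat.one_mul] at h
  refine le_trans ?_ h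
  rw [Finset.filter_true_of_mem]
  intro E _ j _ _
  exact one_dvd j

end Cfsg.Agent.Lib.Helper22.SLCls
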