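import Mathlib
import Cfsg.Agent.Lib.Helper22.SLClsK

/-! `(q - 1) k(SL_n(q)) ≤ k_n + ∑_{g | gcd(n, q-1), g ≥ 2} (g^2 - 1) k_{n/g}`. -/

set_option autoImplicit false

namespace Cfsg.Agent.Lib.Helper22.SLCls

open Polynomial Cfsg.Agent.Lib.Helper22.GLCls

universe u

variable {F : Type u} [Field F] [Fintype F]

theorem term_le (n g : ℕ) (hg : 1 ≤ g) (hgn : g ∣ n) [DecidablePred (SuppDvd (F := F) n g)] :
    (((TT (F := F) n).filter (SuppDvd n g)).card : ℤ)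
      ≤ bW (Fintype.card F : ℤ) (n / g) 1 (n / g) := by
  classical
  obtain ⟨m, rfl⟩ := hgn
  rw [Nat.mul_div_cancel_left m hg]
  convert card_suppDvd_le (F := F) g m hg

theorem sum_gam_sq_le (n : ℕ) (hn : 1 ≤ n) :
    ((∑ E ∈ TT (F := F) n, gam n E ^ 2 : ℕ) : ℤ)
      ≤ bW (Fintype.card F : ℤ) n 1 n + ∑ g ∈ Finset.Icc 2 n,
          (if g ∣ Fintype.card F - 1 ∧ g ∣ n then
            ((g : ℤ) ^ 2 - 1) * bW (Fintype.card F : ℤ) (n / g) 1 (n / g) else 0) := by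
  classical
  have h1 : ∑ E ∈ TT (F := F) n, gam n E ^ 2
      ≤ ∑ E ∈ TT (F := F) n, (1 + ∑ g ∈ Finset.Icc 2 n,
        (if g ∣ Fintype.card F - 1 ∧ g ∣ n ∧ SuppDvd n g E then g ^ 2 - 1 else 0)) :=
    Finset.sum_le_sum fun E hE => gam_sq_le hn (valid_of_mem_TT hE)
  have h2 : ∑ E ∈ TT (F := F) n, (1 + ∑ g ∈ Finset.Icc 2 n,
        (if g ∣ Fintype.card F - 1 ∧ g ∣ n ∧ SuppDvd n g E then g ^ 2 - 1 else 0))
      = (TT (F := F) n).card + ∑ g ∈ Finset.Icc 2 n,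
        (if g ∣ Fintype.card F - 1 ∧ g ∣ n then
          (g ^ 2 - 1) * ((TT (F := F) n).filter (SuppDvd n g)).card else 0) := by
    rw [Finset.sum_add_distrib, Finset.sum_const, smul_eq_mul, mul_one, Finset.sum_comm]
    congr 1
    refine Finset.sum_congr rfl fun g _ => ?_
    by_cases hc : g ∣ Fintype.card F - 1 ∧ g ∣ n
    · rw [if_pos hc]
      have : ∀ E : ℕ → F[X], (g ∣ Fintype.card F - 1 ∧ g ∣ n ∧ SuppDvd n g E) ↔ SuppDvd n g E :=
        fun E => ⟨fun h => h.2.2, fun h => ⟨hc.1, hc.2, h⟩⟩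
      simp only [this]
      rw [← Finset.sum_filter, Finset.sum_const, smul_eq_mul, Nat.mul_comm]
    · rw [if_neg hc]
      apply Finset.sum_eq_zero
      intro E _
      rw [if_neg]
      intro h
      exact hc ⟨h.1, h.2.1⟩
  have h3 : ((∑ E ∈ TT (F := F) n, gam n E ^ 2 : ℕ) : ℤ)
      ≤ (((TT (F := F) n).card + ∑ g ∈ Finset.Icc 2 n,
        (if g ∣ Fintype.card F - 1 ∧ g ∣ n then
          (g ^ 2 - 1) * ((TT (F := F) n).filter (SuppDvd n g)).card else 0) : ℕ) : ℤ) := by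
    exact_mod_cast le_trans h1 (le_of_eq h2)
  refine le_trans h3 ?_
  push_cast
  apply add_le_add (card_TT_le n)
  refine Finset.sum_le_sum fun g hg => ?_
  have hg2 : 2 ≤ g := (Finset.mem_Icc.mp hg).1
  by_cases hc : g ∣ Fintype.card F - 1 ∧ g ∣ n
  · rw [if_pos hc, if_pos hc]
    have hsq : 1 ≤ g ^ 2 := Nat.one_le_pow _ _ (by omega)
    rw [Nat.cast_sub hsq]
    push_cast
    apply mul_le_mul_of_nonneg_left (term_le n g (by omega) hc.2)
    have : (1 : ℤ) ≤ (g : ℤ) ^ 2 := by exact_mod_cast hsq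
    linarith
  · rw [if_neg hc, if_neg hc]

theorem card_SL_mul_le (n : ℕ) (hn : 1 ≤ n) :
    ((Fintype.card F : ℤ) - 1) *
        (Nat.card (ConjClasses (Matrix.SpecialLinearGroup (Fin n) F)) : ℤ)
      ≤ bW (Fintype.card F : ℤ) n 1 n + ∑ g ∈ Finset.Icc 2 n,
          (if g ∣ Fintype.card F - 1 ∧ g ∣ n then
            ((g : ℤ) ^ 2 - 1) * bW (Fintype.card F : ℤ) (n / g) 1 (n / g) else 0) := by
  have h1 := main_ineq (F := F) n
  have h2 : (((Fintype.card F - 1) *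
      Nat.card (ConjClasses (Matrix.SpecialLinearGroup (Fin n) F)) : ℕ) : ℤ)
      ≤ ((∑ E ∈ TT (F := F) n, gam n E ^ 2 : ℕ) : ℤ) := by exact_mod_cast h1
  have hq : 1 ≤ Fintype.card F := Fintype.card_pos
  rw [Nat.cast_mul, Nat.cast_sub hq] at h2
  push_cast at h2 ⊢
  exact le_trans h2 (by exact_mod_cast sum_gam_sq_le (F := F) n hn)

end Cfsg.Agent.Lib.Helper22.SLCls
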