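import Mathlib
import Cfsg.Agent.Lib.Helper22.GLClsA

/-! Numerical part of the bounds for `k(SL_n(q))`. -/

set_option autoImplicit false

namespace Cfsg.Agent.Lib.Helper22.SLCls

open Cfsg.Agent.Lib.Helper22.GLCls

theorem kW_le {q : ℤ} (hq : 1 ≤ q) (m : ℕ) (hm : 1 ≤ m) : bW q m 1 m ≤ q ^ m := by
  obtain ⟨k, rfl⟩ : ∃ k, m = k + 1 := ⟨m - 1, by omega⟩
  exact bW_le hq k (k + 1)

theorem kW_one (q : ℤ) : bW q 1 1 1 = q - 1 := by
  simp [bW_succ, bW_zero, cW, Finset.sum_range_succ]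

theorem kW_three (q : ℤ) : bW q 3 1 3 = q ^ 3 - q := by
  simp [bW_succ, bW_zero, cW, Finset.sum_range_succ]
  ring

/-- the correction sum -/
noncomputable def corr (q n : ℕ) : ℤ :=
  ∑ g ∈ Finset.Icc 2 n,
    (if g ∣ q - 1 ∧ g ∣ n then ((g : ℤ) ^ 2 - 1) * bW (q : ℤ) (n / g) 1 (n / g) else 0)

theorem corr_two (q : ℕ) : corr q 2 = if 2 ∣ q - 1 then 3 * ((q : ℤ) - 1) else 0 := by
  unfold corr
  have : Finset.Icc 2 2 = {2} := by decide
  rw [this, Finset.sum_singleton]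
  by_cases h : 2 ∣ q - 1
  · rw [if_pos ⟨h, dvd_refl 2⟩, if_pos h]
    norm_num [kW_one]
  · rw [if_neg (fun hh => h hh.1), if_neg h]

theorem corr_three (q : ℕ) : corr q 3 = if 3 ∣ q - 1 then 8 * ((q : ℤ) - 1) else 0 := by
  unfold corr
  have : Finset.Icc 2 3 = {2, 3} := by decide
  rw [this, Finset.sum_insert (by decide), Finset.sum_singleton]
  rw [if_neg (fun hh => absurd hh.2 (by decide)), zero_add]
  by_cases h : 3 ∣ q - 1
  · rw [if_pos ⟨h, dvd_refl 3⟩, if_pos h]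
    norm_num [kW_one]
  · rw [if_neg (fun hh => h hh.1), if_neg h]

theorem corr_four (q : ℕ) : corr q 4 =
    (if 2 ∣ q - 1 then 3 * bW (q : ℤ) 2 1 2 else 0)
      + (if 4 ∣ q - 1 then 15 * ((q : ℤ) - 1) else 0) := by
  unfold corr
  have : Finset.Icc 2 4 = {2, 3, 4} := by decide
  rw [this, Finset.sum_insert (by decide), Finset.sum_insert (by decide), Finset.sum_singleton]
  rw [if_neg (fun hh => absurd hh.2 (by decide) : ¬ (3 ∣ q - 1 ∧ 3 ∣ 4)), zero_add]
  congr 1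
  · by_cases h : 2 ∣ q - 1
    · rw [if_pos ⟨h, by decide⟩, if_pos h]
      norm_num
    · rw [if_neg (fun hh => h hh.1), if_neg h]
  · by_cases h : 4 ∣ q - 1
    · rw [if_pos ⟨h, dvd_refl 4⟩, if_pos h]
      norm_num [kW_one]
    · rw [if_neg (fun hh => h hh.1), if_neg h]

theorem corr_le (q n : ℕ) (hq : 2 ≤ q) (hn : 5 ≤ n) :
    corr q n ≤ 3 * (q : ℤ) ^ (n - 3)
      + ((q - 3 : ℕ) : ℤ) * ((((q : ℤ) ^ 2 - 2 * q)) * (q : ℤ) ^ (n - 4)) := by
  classical
  have hq1 : (1 : ℤ) ≤ (q : ℤ) := by exact_mod_cast (by omega : 1 ≤ q)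
  have hq2 : (2 : ℤ) ≤ (q : ℤ) := by exact_mod_cast hq
  set A : ℤ := 3 * (q : ℤ) ^ (n - 3) with hA
  set B : ℤ := (((q : ℤ) ^ 2 - 2 * q)) * (q : ℤ) ^ (n - 4) with hB
  have hA0 : 0 ≤ A := by positivity
  have hB0 : 0 ≤ B := by
    apply mul_nonneg
    · nlinarith
    · positivity
  have hterm : ∀ g ∈ Finset.Icc 2 n,
      (if g ∣ q - 1 ∧ g ∣ n then ((g : ℤ) ^ 2 - 1) * bW (q : ℤ) (n / g) 1 (n / g) else 0)
        ≤ (if g = 2 then A else 0) + (if g ∈ Finset.Icc 3 (q - 1) then B else 0) := by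
    intro g hg
    obtain ⟨hg2, hgn⟩ := Finset.mem_Icc.mp hg
    by_cases hc : g ∣ q - 1 ∧ g ∣ n
    · rw [if_pos hc]
      have hgq : g ≤ q - 1 := Nat.le_of_dvd (by omega) hc.1
      have hm1 : 1 ≤ n / g := by
        apply Nat.div_pos hgn (by omega)
      have hk := kW_le hq1 (n / g) hm1
      have hk0 : 0 ≤ bW (q : ℤ) (n / g) 1 (n / g) := bW_nonneg hq1 _ _ _
      by_cases h2 : g = 2
      · subst h2
        rw [if_pos rfl, if_neg (by simp)]
        have hle : (q : ℤ) ^ (n / 2) ≤ (q : ℤ) ^ (n - 3) :=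
          pow_le_pow_right₀ hq1 (by omega)
        rw [hA]
        norm_num
        linarith
      · have hg3 : 3 ≤ g := by omega
        rw [if_neg h2, if_pos (Finset.mem_Icc.mpr ⟨hg3, hgq⟩), zero_add, hB]
        have hdiv : n / g ≤ n - 4 := by
          have : n / g ≤ n / 3 := Nat.div_le_div_left hg3 (by norm_num)
          omega
        have hle : (q : ℤ) ^ (n / g) ≤ (q : ℤ) ^ (n - 4) := pow_le_pow_right₀ hq1 hdiv
        have hgq' : (g : ℤ) ≤ (q : ℤ) - 1 := by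
          have : ((g : ℕ) : ℤ) ≤ ((q - 1 : ℕ) : ℤ) := by exact_mod_cast hgq
          rw [Nat.cast_sub (by omega)] at this
          simpa using this
        have hg0 : (0 : ℤ) ≤ (g : ℤ) := by positivity
        have hsq : (g : ℤ) ^ 2 - 1 ≤ (q : ℤ) ^ 2 - 2 * q := by nlinarith
        have hsq0 : (0 : ℤ) ≤ (g : ℤ) ^ 2 - 1 := by
          have : (3 : ℤ) ≤ (g : ℤ) := by exact_mod_cast hg3
          nlinarith
        calc ((g : ℤ) ^ 2 - 1) * bW (q : ℤ) (n / g) 1 (n / g)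
            ≤ ((g : ℤ) ^ 2 - 1) * (q : ℤ) ^ (n - 4) :=
              mul_le_mul_of_nonneg_left (le_trans hk hle) hsq0
          _ ≤ ((q : ℤ) ^ 2 - 2 * q) * (q : ℤ) ^ (n - 4) :=
              mul_le_mul_of_nonneg_right hsq (by positivity)
    · rw [if_neg hc]
      apply add_nonneg <;> split_ifs <;> first | exact hA0 | exact hB0 | exact le_refl 0
  unfold corr
  refine le_trans (Finset.sum_le_sum hterm) ?_
  rw [Finset.sum_add_distrib]
  apply add_le_add
  · rw [Finset.sum_ite_eq' (Finset.Icc 2 n) 2 (fun _ => A)]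
    rw [if_pos (Finset.mem_Icc.mpr ⟨le_refl 2, by omega⟩)]
  · rw [← Finset.sum_filter, Finset.sum_const, nsmul_eq_mul]
    apply mul_le_mul_of_nonneg_right _ hB0
    have : ((Finset.Icc 2 n).filter (fun g => g ∈ Finset.Icc 3 (q - 1))).card
        ≤ (Finset.Icc 3 (q - 1)).card := by
      apply Finset.card_le_card
      intro g hg
      exact (Finset.mem_filter.mp hg).2
    rw [Nat.card_Icc] at this
    have h3 : q - 1 + 1 - 3 = q - 3 := by omega
    rw [h3] at this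
    exact_mod_cast this

theorem corr_two_left (n : ℕ) : corr 2 n = 0 := by
  unfold corr
  apply Finset.sum_eq_zero
  intro g hg
  rw [if_neg]
  rintro ⟨h1, -⟩
  have : g = 1 := Nat.dvd_one.mp h1
  have := (Finset.mem_Icc.mp hg).1
  omega

theorem numerics (q : ℕ) (hq : 2 ≤ q) (n : ℕ) (hn : 2 ≤ n) (K : ℤ) (hK : 0 ≤ K)
    (h : ((q : ℤ) - 1) * K ≤ bW (q : ℤ) n 1 n + corr q n) :
    2 * K ≤ 5 * (q : ℤ) ^ (n - 1) ∧ (3 ≤ n → K ≤ (q : ℤ) ^ (n - 1) + 3 * (q : ℤ) ^ (n - 2)) := by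
  have hq1 : (1 : ℤ) ≤ (q : ℤ) := by exact_mod_cast (by omega : 1 ≤ q)
  have hq2 : (2 : ℤ) ≤ (q : ℤ) := by exact_mod_cast hq
  have hkn := kW_le hq1 n (by omega)
  rcases (by omega : n = 2 ∨ n = 3 ∨ n = 4 ∨ 5 ≤ n) with rfl | rfl | rfl | h5
  · -- n = 2
    refine ⟨?_, fun h3 => absurd h3 (by norm_num)⟩
    rw [corr_two] at h
    norm_num
    by_cases h2 : 2 ∣ q - 1
    · rw [if_pos h2] at h
      have hq3 : (3 : ℤ) ≤ (q : ℤ) := by
        have : 2 ≤ q - 1 := Nat.le_of_dvd (by omega) h2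
        exact_mod_cast (by omega : 3 ≤ q)
      nlinarith
    · rw [if_neg h2, add_zero] at h
      nlinarith
  · -- n = 3
    rw [corr_three, kW_three] at h
    have key : K ≤ (q : ℤ) ^ 2 + 3 * q := by
      by_cases h3 : 3 ∣ q - 1
      · rw [if_pos h3] at h
        have hq4 : (4 : ℤ) ≤ (q : ℤ) := by
          have : 3 ≤ q - 1 := Nat.le_of_dvd (by omega) h3
          exact_mod_cast (by omega : 4 ≤ q)
        have h' : ((q : ℤ) - 1) * K ≤ ((q : ℤ) - 1) * ((q : ℤ) ^ 2 + q + 8) := by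
          linarith [h, (by ring : ((q : ℤ) - 1) * ((q : ℤ) ^ 2 + q + 8)
            = (q : ℤ) ^ 3 - q + 8 * ((q : ℤ) - 1))]
        have := le_of_mul_le_mul_left h' (by linarith)
        linarith
      · rw [if_neg h3, add_zero] at h
        have h' : ((q : ℤ) - 1) * K ≤ ((q : ℤ) - 1) * ((q : ℤ) ^ 2 + q) := by
          linarith [h, (by ring : ((q : ℤ) - 1) * ((q : ℤ) ^ 2 + q) = (q : ℤ) ^ 3 - q)]
        have := le_of_mul_le_mul_left h' (by linarith)
        linarith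
    refine ⟨?_, fun _ => ?_⟩
    · norm_num
      nlinarith
    · norm_num
      linarith
  · -- n = 4
    rw [corr_four] at h
    have hk2 := kW_le hq1 2 (by norm_num)
    have key : K ≤ (q : ℤ) ^ 3 + 3 * (q : ℤ) ^ 2 := by
      have h' : ((q : ℤ) - 1) * K ≤ ((q : ℤ) - 1) * ((q : ℤ) ^ 3 + 3 * (q : ℤ) ^ 2) := by
        by_cases h4 : 4 ∣ q - 1
        · have h2 : 2 ∣ q - 1 := dvd_trans (by decide) h4
          rw [if_pos h4, if_pos h2] at h
          have hq5 : (5 : ℤ) ≤ (q : ℤ) := by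
            have : 4 ≤ q - 1 := Nat.le_of_dvd (by omega) h4
            exact_mod_cast (by omega : 5 ≤ q)
          nlinarith [mul_nonneg (by linarith : (0 : ℤ) ≤ (q : ℤ) - 5) (by positivity : (0 : ℤ) ≤ (q : ℤ) ^ 2)]
        · rw [if_neg h4, add_zero] at h
          by_cases h2 : 2 ∣ q - 1
          · rw [if_pos h2] at h
            have hq3 : (3 : ℤ) ≤ (q : ℤ) := by
              have : 2 ≤ q - 1 := Nat.le_of_dvd (by omega) h2
              exact_mod_cast (by omega : 3 ≤ q)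
            nlinarith [mul_nonneg (by linarith : (0 : ℤ) ≤ (q : ℤ) - 3) (by positivity : (0 : ℤ) ≤ (q : ℤ) ^ 2)]
          · rw [if_neg h2, add_zero] at h
            nlinarith [mul_nonneg (by linarith : (0 : ℤ) ≤ (q : ℤ) - 2) (by positivity : (0 : ℤ) ≤ (q : ℤ) ^ 2)]
      exact le_of_mul_le_mul_left h' (by linarith)
    refine ⟨?_, fun _ => ?_⟩
    · norm_num
      nlinarith [mul_nonneg (by linarith : (0 : ℤ) ≤ (q : ℤ) - 2) (by positivity : (0 : ℤ) ≤ (q : ℤ) ^ 2)]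
    · norm_num
      linarith
  · -- n ≥ 5
    have hc := corr_le q n hq h5
    obtain ⟨m, rfl⟩ : ∃ m, n = m + 4 := ⟨n - 4, by omega⟩
    have e1 : m + 4 - 3 = m + 1 := by omega
    have e2 : m + 4 - 4 = m := by omega
    have e3 : m + 4 - 1 = m + 3 := by omega
    have e4 : m + 4 - 2 = m + 2 := by omega
    rw [e1, e2] at hc
    rw [e3, e4]
    set P : ℤ := (q : ℤ) ^ m with hP
    have hP0 : 0 < P := by positivity
    have p1 : (q : ℤ) ^ (m + 1) = P * q := by rw [pow_succ]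
    have p2 : (q : ℤ) ^ (m + 2) = P * q ^ 2 := by rw [pow_add]
    have p3 : (q : ℤ) ^ (m + 3) = P * q ^ 3 := by rw [pow_add]
    have p4 : (q : ℤ) ^ (m + 4) = P * q ^ 4 := by rw [pow_add]
    rw [p1] at hc
    rw [p4] at hkn
    rw [p2, p3]
    have key : K ≤ P * (q : ℤ) ^ 3 + 3 * (P * (q : ℤ) ^ 2) := by
      have h' : ((q : ℤ) - 1) * K ≤ ((q : ℤ) - 1) * (P * (q : ℤ) ^ 3 + 3 * (P * (q : ℤ) ^ 2)) := by
        rcases (by omega : q = 2 ∨ 3 ≤ q) with rfl | hq3
        · rw [corr_two_left] at h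
          norm_num at h hkn ⊢
          nlinarith
        · have hq3' : (3 : ℤ) ≤ (q : ℤ) := by exact_mod_cast hq3
          rw [Nat.cast_sub hq3] at hc
          push_cast at hc
          have hdiff : (0 : ℤ) ≤ P * ((q : ℤ) * ((q : ℤ) ^ 2 + 2 * q - 9)) := by
            apply mul_nonneg hP0.le
            apply mul_nonneg (by linarith)
            nlinarith
          nlinarith
      exact le_of_mul_le_mul_left h' (by linarith)
    refine ⟨?_, fun _ => key⟩
    have : (0 : ℤ) ≤ P * (q : ℤ) ^ 2 * ((q : ℤ) - 2) := by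
      apply mul_nonneg (by positivity) (by linarith)
    nlinarith

end Cfsg.Agent.Lib.Helper22.SLCls
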