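import Mathlib
import Cfsg.Agent.Lib.Helper22.SLClsL
import Cfsg.Agent.Lib.Helper22.SLClsM

/-! Generalisations of the counting lemmas of `SLClsI..L` to arbitrary finite sets of valid tuples
closed under rescaling. -/

set_option autoImplicit false

namespace Cfsg.Agent.Lib.Helper22.PSLCls

open Polynomial Cfsg.Agent.Lib.Helper22.GLCls Cfsg.Agent.Lib.Helper22.SLCls

universe u

variable {F : Type u} [Field F] [Fintype F]

theorem card_suppDvd_le_gen (g m : ℕ) (hg : 1 ≤ g) (U : Finset (ℕ → F[X]))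
    (hU : ∀ E ∈ U, Valid (g * m) E) [DecidablePred (SuppDvd (F := F) (g * m) g)] :
    ((U.filter (SuppDvd (g * m) g)).card : ℤ) ≤ bW (Fintype.card F : ℤ) m 1 m := by
  classical
  set ρ : (ℕ → F[X]) → (ℕ → F[X]) := fun E i => E (g * i) with hρ
  have hinj : Set.InjOn ρ (U.filter (SuppDvd (g * m) g) : Set (ℕ → F[X])) := by
    intro E hE E' hE' h
    rw [Finset.mem_coe, Finset.mem_filter] at hE hE'
    have hV := hU E hE.1
    have hV' := hU E' hE'.1
    funext j
    by_cases hj : j ∈ Finset.Ico 1 (g * m + 1)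
    · by_cases hd : g ∣ j
      · obtain ⟨i, rfl⟩ := hd
        exact congrFun h i
      · have e1 : E j = 1 := by
          by_contra hne
          exact hd (hE.2 j hj hne)
        have e2 : E' j = 1 := by
          by_contra hne
          exact hd (hE'.2 j hj hne)
        rw [e1, e2]
    · rw [hV.2.2 j hj, hV'.2.2 j hj]
  rw [← Finset.card_image_of_injOn hinj]
  apply card_le_bW m 1 m (le_refl 1)
  · intro E' hE'
    obtain ⟨E, hE, rfl⟩ := Finset.mem_image.mp hE'
    rw [Finset.mem_filter] at hE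
    have hV := hU E hE.1
    exact ⟨fun i => hV.1 (g * i), sum_reindex g m hg E hV hE.2⟩
  · intro E₁ hE₁ E₂ hE₂ hag
    obtain ⟨E, hE, rfl⟩ := Finset.mem_image.mp hE₁
    obtain ⟨E', hE', rfl⟩ := Finset.mem_image.mp hE₂
    rw [Finset.mem_filter] at hE hE'
    have hV := hU E hE.1
    have hV' := hU E' hE'.1
    funext i
    by_cases hi : i ∈ Finset.Ico 1 (1 + m)
    · exact hag i hi
    · have hout : g * i ∉ Finset.Ico 1 (g * m + 1) := by
        intro hmem
        apply hi
        rw [Finset.mem_Ico] at hmem ⊢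
        constructor
        · rcases Nat.eq_zero_or_pos i with h | h
          · subst h
            omega
          · exact h
        · have : g * i ≤ g * m := by omega
          have := Nat.le_of_mul_le_mul_left this hg
          omega
      change E (g * i) = E' (g * i)
      rw [hV.2.2 _ hout, hV'.2.2 _ hout]

theorem card_le_gen (n : ℕ) (U : Finset (ℕ → F[X])) (hU : ∀ E ∈ U, Valid n E) :
    (U.card : ℤ) ≤ bW (Fintype.card F : ℤ) n 1 n := by
  classical
  have hU' : ∀ E ∈ U, Valid (1 * n) E := by rwa [Nat.one_mul]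
  have h := card_suppDvd_le_gen (F := F) 1 n (le_refl 1) U hU'
  refine le_trans ?_ h
  rw [Finset.filter_true_of_mem]
  intro E _ j _ _
  exact one_dvd j

theorem term_le_gen (n g : ℕ) (hg : 1 ≤ g) (hgn : g ∣ n) (U : Finset (ℕ → F[X]))
    (hU : ∀ E ∈ U, Valid n E) [DecidablePred (SuppDvd (F := F) n g)] :
    ((U.filter (SuppDvd n g)).card : ℤ) ≤ bW (Fintype.card F : ℤ) (n / g) 1 (n / g) := by
  classical
  obtain ⟨m, rfl⟩ := hgn
  rw [Nat.mul_div_cancel_left m hg]
  convert card_suppDvd_le_gen (F := F) g m hg U hU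

theorem sum_gam_sq_le_gen (n : ℕ) (hn : 1 ≤ n) (U : Finset (ℕ → F[X]))
    (hU : ∀ E ∈ U, Valid n E) :
    ((∑ E ∈ U, gam n E ^ 2 : ℕ) : ℤ)
      ≤ bW (Fintype.card F : ℤ) n 1 n + corr (Fintype.card F) n := by
  classical
  unfold corr
  have h1 : ∑ E ∈ U, gam n E ^ 2
      ≤ ∑ E ∈ U, (1 + ∑ g ∈ Finset.Icc 2 n,
        (if g ∣ Fintype.card F - 1 ∧ g ∣ n ∧ SuppDvd n g E then g ^ 2 - 1 else 0)) :=
    Finset.sum_le_sum fun E hE => gam_sq_le hn (hU E hE)
  have h2 : ∑ E ∈ U, (1 + ∑ g ∈ Finset.Icc 2 n,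
        (if g ∣ Fintype.card F - 1 ∧ g ∣ n ∧ SuppDvd n g E then g ^ 2 - 1 else 0))
      = U.card + ∑ g ∈ Finset.Icc 2 n,
        (if g ∣ Fintype.card F - 1 ∧ g ∣ n then
          (g ^ 2 - 1) * (U.filter (SuppDvd n g)).card else 0) := by
    rw [Finset.sum_add_distrib, Finset.sum_const, smul_eq_mul, mul_one, Finset.sum_comm]
    congr 1
    refine Finset.sum_congr rfl fun g _ => ?_
    by_cases hc : g ∣ Fintype.card F - 1 ∧ g ∣ n
    · rw [if_pos hc]
      have : ∀ E : ℕ → F[X], (g ∣ Fintype.card F - 1 ∧ g ∣ n ∧ SuppDvd n g E) ↔ SuppDvd n g E :=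
        fun E => ⟨fun h => h.2.2, fun h => ⟨hc.1, hc.2, h⟩⟩
      simp only [this]
      rw [← Finset.sum_filter, Finset.sum_const, smul_eq_mul, Nat.mul_comm]
    · rw [if_neg hc]
      apply Finset.sum_eq_zero
      intro E _
      rw [if_neg]
      intro h
      exact hc ⟨h.1, h.2.1⟩
  have h3 : ((∑ E ∈ U, gam n E ^ 2 : ℕ) : ℤ)
      ≤ ((U.card + ∑ g ∈ Finset.Icc 2 n,
        (if g ∣ Fintype.card F - 1 ∧ g ∣ n then
          (g ^ 2 - 1) * (U.filter (SuppDvd n g)).card else 0) : ℕ) : ℤ) := by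
    exact_mod_cast le_trans h1 (le_of_eq h2)
  refine le_trans h3 ?_
  push_cast
  apply add_le_add (card_le_gen n U hU)
  refine Finset.sum_le_sum fun g hg => ?_
  have hg2 : 2 ≤ g := (Finset.mem_Icc.mp hg).1
  by_cases hc : g ∣ Fintype.card F - 1 ∧ g ∣ n
  · rw [if_pos hc, if_pos hc]
    have hsq : 1 ≤ g ^ 2 := Nat.one_le_pow _ _ (by omega)
    rw [Nat.cast_sub hsq]
    push_cast
    apply mul_le_mul_of_nonneg_left (term_le_gen n g (by omega) hc.2 U hU)
    have : (1 : ℤ) ≤ (g : ℤ) ^ 2 := by exact_mod_cast hsq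
    linarith
  · rw [if_neg hc, if_neg hc]

/-- general double counting -/
theorem main_ineq_gen (n : ℕ) (U : Finset (ℕ → F[X])) (hU : ∀ E ∈ U, Valid n E)
    (hact : ∀ E ∈ U, ∀ l : ↥(Finset.Ico 1 (n + 1)) → Fˣ, act (extA n l) E ∈ U)
    (CC : Finset (ConjClasses (Matrix.SpecialLinearGroup (Fin n) F)))
    (hCC : ∀ c ∈ CC, Psi n c ∈ U) :
    (Fintype.card F - 1) * CC.card ≤ ∑ E ∈ U, gam n E ^ 2 := by
  classical
  haveI : Fintype (ConjClasses (Matrix.SpecialLinearGroup (Fin n) F)) := Fintype.ofFinite _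
  set q1 := Fintype.card F - 1 with hq1
  have hq1pos : 0 < q1 := by
    have := Fintype.one_lt_card (α := F)
    omega
  have hA : Fintype.card (↥(Finset.Ico 1 (n + 1)) → Fˣ) = q1 ^ n := by
    rw [Fintype.card_pi]
    simp only [Fintype.card_units, Finset.prod_const, Finset.card_univ, Fintype.card_coe,
      Nat.card_Ico, Nat.add_sub_cancel, hq1]
  have hcard : CC.card ≤ ∑ E ∈ U, wt n E := by
    rw [Finset.card_eq_sum_card_fiberwise (f := Psi n) (t := U) hCC]
    refine Finset.sum_le_sum fun E _ => ?_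
    rcases (CC.filter (fun c => Psi n c = E)).eq_empty_or_nonempty with h | ⟨c₀, hc₀⟩
    · rw [h, Finset.card_empty]
      exact Nat.zero_le _
    · have hc₀' : Psi n c₀ = E := (Finset.mem_filter.mp hc₀).2
      subst hc₀'
      unfold wt
      rw [if_pos (delta_Psi n c₀)]
      refine le_trans ?_ (card_fiber_Psi_le n c₀)
      rw [Nat.card_eq_fintype_card, Fintype.card_subtype]
      apply Finset.card_le_card
      intro c hc
      rw [Finset.mem_filter] at hc ⊢
      exact ⟨Finset.mem_univ _, hc.2⟩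
  have hsw : ∀ l : ↥(Finset.Ico 1 (n + 1)) → Fˣ,
      ∑ E ∈ U, wt n (act (extA n l) E) = ∑ E ∈ U, wt (F := F) n E := by
    intro l
    apply Finset.sum_nbij' (fun E => act (extA n l) E) (fun E => act (extA n l⁻¹) E)
    · intro E hE
      exact hact E hE l
    · intro E hE
      exact hact E hE l⁻¹
    · intro E hE
      exact act_inv_act (hU E hE) l
    · intro E hE
      exact act_act_inv (hU E hE) l
    · intro E _
      rfl
  have h1 : q1 ^ n * ∑ E ∈ U, wt n E
      = ∑ E ∈ U, ∑ l : ↥(Finset.Ico 1 (n + 1)) → Fˣ, wt n (act (extA n l) E) := by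
    rw [Finset.sum_comm]
    rw [Finset.sum_congr rfl (fun l _ => hsw l)]
    rw [Finset.sum_const, Finset.card_univ, hA, smul_eq_mul]
  have h2 : ∀ E ∈ U,
      q1 * ∑ l : ↥(Finset.Ico 1 (n + 1)) → Fˣ, wt n (act (extA n l) E)
        ≤ gam n E ^ 2 * q1 ^ n := by
    intro E hE
    have hV := hU E hE
    have h3 : ∀ l : ↥(Finset.Ico 1 (n + 1)) → Fˣ, wt n (act (extA n l) E)
        = if delta n (act (extA n l) E) = 1 then gam n E else 0 := by
      intro l
      unfold wt
      rw [gam_act n _ E (fun j => (hV.1 j).1)]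
    rw [Finset.sum_congr rfl (fun l _ => h3 l), ← Finset.sum_filter, Finset.sum_const,
      smul_eq_mul]
    have h4 := card_rescale_le n E hV
    rw [Nat.card_eq_fintype_card, Fintype.card_subtype] at h4
    calc q1 * ((Finset.univ.filter fun l : ↥(Finset.Ico 1 (n + 1)) → Fˣ =>
            delta n (act (extA n l) E) = 1).card * gam n E)
        = gam n E * (q1 * (Finset.univ.filter fun l : ↥(Finset.Ico 1 (n + 1)) → Fˣ =>
            delta n (act (extA n l) E) = 1).card) := by ring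
      _ ≤ gam n E * (gam n E * q1 ^ n) := Nat.mul_le_mul_left _ h4
      _ = gam n E ^ 2 * q1 ^ n := by ring
  have h5 : q1 ^ n * (q1 * ∑ E ∈ U, wt n E)
      ≤ q1 ^ n * ∑ E ∈ U, gam n E ^ 2 := by
    calc q1 ^ n * (q1 * ∑ E ∈ U, wt n E)
        = q1 * (q1 ^ n * ∑ E ∈ U, wt n E) := by ring
      _ = ∑ E ∈ U,
            q1 * ∑ l : ↥(Finset.Ico 1 (n + 1)) → Fˣ, wt n (act (extA n l) E) := by
          rw [h1, Finset.mul_sum]
      _ ≤ ∑ E ∈ U, gam n E ^ 2 * q1 ^ n := Finset.sum_le_sum h2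
      _ = q1 ^ n * ∑ E ∈ U, gam n E ^ 2 := by
          rw [Finset.mul_sum]
          exact Finset.sum_congr rfl fun E _ => Nat.mul_comm _ _
  have h6 := Nat.le_of_mul_le_mul_left h5 (pow_pos hq1pos n)
  exact le_trans (Nat.mul_le_mul_left _ hcard) h6

end Cfsg.Agent.Lib.Helper22.PSLCls
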