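import Mathlib
import Cfsg.Agent.Lib.Helper22.PSLClsE
import Cfsg.Agent.Lib.Helper22.PSLClsC

/-! Twist-stable tuples: closure under rescaling, and contraction to valid tuples of smaller
size. -/

set_option autoImplicit false

namespace Cfsg.Agent.Lib.Helper22.PSLCls

open Polynomial Cfsg.Agent.Lib.Helper22.GLCls Cfsg.Agent.Lib.Helper22.SLCls

universe u

variable {F : Type u} [Field F]

/-- twist-stable tuples -/
def Stab (ζ : F) (E : ℕ → F[X]) : Prop := ∀ j, tw ζ (E j) = E j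

theorem tw_actP (ζ : F) (hζ : ζ ≠ 0) {p : F[X]} (hst : tw ζ p = p)
    (h0 : p.coeff 0 ≠ 0) (l : F) : tw ζ (actP l p) = actP l p := by
  by_cases h1 : p = 1
  · rw [actP_of_eq_one l h1, tw_one]
  · rw [actP_of_ne_one l h1]
    have hdeg := pow_eq_one_of_tw_eq ζ hζ hst h0
    have hinv : ζ⁻¹ ^ p.natDegree = 1 := by rw [inv_pow, hdeg, inv_one]
    ext i
    rw [coeff_tw, natDegree_add_C, hinv, one_mul, coeff_add]
    rcases Nat.eq_zero_or_pos i with rfl | hi
    · simp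
    · rw [coeff_C, if_neg (by omega)]
      simp only [add_zero]
      have h2 := congrArg (fun r => r.coeff i) hst
      simp only [coeff_tw] at h2
      rw [hinv, one_mul] at h2
      exact h2

theorem Stab.act {ζ : F} (hζ : ζ ≠ 0) {E : ℕ → F[X]} (hE : Stab ζ E)
    (h0 : ∀ j, (E j).coeff 0 ≠ 0) (l : ℕ → F) : Stab ζ (act l E) := by
  intro j
  rw [act_apply]
  exact tw_actP ζ hζ (hE j) (h0 j) (l j)

theorem expand_contract_of_stab (ζ : F) (hζ : ζ ≠ 0) (m : ℕ) (hm : m = orderOf ζ) (hm0 : 0 < m)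
    {p : F[X]} (hp : tw ζ p = p) (h0 : p.coeff 0 ≠ 0) : expand F m (contract m p) = p := by
  ext i
  rw [coeff_expand hm0, coeff_contract hm0.ne']
  split_ifs with hd
  · rw [Nat.div_mul_cancel hd]
  · by_contra hne
    have hne' : p.coeff i ≠ 0 := fun h => hne h.symm
    have := pow_eq_one_of_coeff_ne ζ hζ hp h0 i hne'
    rw [← orderOf_dvd_iff_pow_eq_one, ← hm] at this
    exact hd this

variable [Fintype F]

/-- contraction of a tuple -/
noncomputable def rho (m : ℕ) (E : ℕ → F[X]) : ℕ → F[X] := fun j => contract m (E j)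

theorem rho_props (n : ℕ) (ζ : F) (hζ : ζ ≠ 0) (m : ℕ) (hm : m = orderOf ζ) (hm0 : 0 < m)
    {E : ℕ → F[X]} (hV : Valid n E) (hS : Stab ζ E) :
    (∀ j, expand F m (rho m E j) = E j) ∧ m ∣ n ∧ Valid (n / m) (rho m E) := by
  have hex : ∀ j, expand F m (rho m E j) = E j := fun j =>
    expand_contract_of_stab ζ hζ m hm hm0 (hS j) (hV.1 j).2
  have hdeg : ∀ j, (E j).natDegree = (rho m E j).natDegree * m := by
    intro j
    conv_lhs => rw [← hex j]
    rw [natDegree_expand]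
  have hmon : ∀ j, (rho m E j).Monic := by
    intro j
    have := (hV.1 j).1
    rw [← hex j] at this
    exact (monic_expand_iff hm0).mp this
  set T := ∑ j ∈ Finset.Ico 1 (n + 1), j * (rho m E j).natDegree with hT
  have hsum : n = m * T := by
    rw [hT, Finset.mul_sum]
    refine Eq.trans hV.2.1.symm ?_
    refine Finset.sum_congr rfl fun j _ => ?_
    rw [hdeg j]
    ring
  have hdvd : m ∣ n := ⟨T, hsum⟩
  have hn' : n / m = T := by rw [hsum, Nat.mul_div_cancel_left T hm0]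
  have hTn : T ≤ n := by
    rw [hsum]
    exact Nat.le_mul_of_pos_left T hm0
  have hbig : ∀ j ∈ Finset.Ico 1 (n + 1), T < j → (rho m E j).natDegree = 0 := by
    intro j hj hlt
    by_contra hne
    have h1 : j * (rho m E j).natDegree ≤ T :=
      Finset.single_le_sum (f := fun j => j * (rho m E j).natDegree)
        (fun _ _ => Nat.zero_le _) hj
    have h2 : j ≤ j * (rho m E j).natDegree :=
      Nat.le_mul_of_pos_right j (Nat.pos_of_ne_zero hne)
    omega
  refine ⟨hex, hdvd, ?_, ?_, ?_⟩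
  · intro j
    refine ⟨hmon j, ?_⟩
    unfold rho
    rw [coeff_contract hm0.ne', Nat.zero_mul]
    exact (hV.1 j).2
  · rw [hn']
    have hsub : Finset.Ico 1 (T + 1) ⊆ Finset.Ico 1 (n + 1) := by
      intro j hj
      rw [Finset.mem_Ico] at hj ⊢
      omega
    rw [Finset.sum_subset hsub]
    intro j hj hnj
    rw [hbig j hj, Nat.mul_zero]
    rw [Finset.mem_Ico] at hj hnj
    omega
  · rw [hn']
    intro j hj
    by_cases hjn : j ∈ Finset.Ico 1 (n + 1)
    · have : (rho m E j).natDegree = 0 := by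
        apply hbig j hjn
        rw [Finset.mem_Ico] at hj hjn
        omega
      exact (hmon j).natDegree_eq_zero.mp this
    · unfold rho
      rw [hV.2.2 j hjn]
      have : (1 : F[X]) = C 1 := by simp
      rw [this, contract_C]

theorem rho_eq_one_iff (n : ℕ) (ζ : F) (hζ : ζ ≠ 0) (m : ℕ) (hm : m = orderOf ζ) (hm0 : 0 < m)
    {E : ℕ → F[X]} (hV : Valid n E) (hS : Stab ζ E) (j : ℕ) : rho m E j = 1 ↔ E j = 1 := by
  have hex := (rho_props n ζ hζ m hm hm0 hV hS).1
  constructor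
  · intro h
    rw [← hex j, h, map_one]
  · intro h
    unfold rho
    rw [h]
    have : (1 : F[X]) = C 1 := by simp
    rw [this, contract_C]

theorem gam_rho (n : ℕ) (ζ : F) (hζ : ζ ≠ 0) (m : ℕ) (hm : m = orderOf ζ) (hm0 : 0 < m)
    {E : ℕ → F[X]} (hV : Valid n E) (hS : Stab ζ E) :
    gam (n / m) (rho m E) = gam n E := by
  obtain ⟨hex, hdvd, hV'⟩ := rho_props n ζ hζ m hm hm0 hV hS
  unfold gam HE
  congr 2
  ext ν
  simp only [Set.mem_setOf_eq]
  have hle : n / m ≤ n := Nat.div_le_self n m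
  constructor
  · rintro ⟨j, hj, h1, μ, rfl⟩
    refine ⟨j, ?_, ?_, μ, rfl⟩
    · rw [Finset.mem_Ico] at hj ⊢
      omega
    · intro h
      exact h1 ((rho_eq_one_iff n ζ hζ m hm hm0 hV hS j).mpr h)
  · rintro ⟨j, hj, h1, μ, rfl⟩
    have h1' : rho m E j ≠ 1 := fun h => h1 ((rho_eq_one_iff n ζ hζ m hm hm0 hV hS j).mp h)
    refine ⟨j, ?_, h1', μ, rfl⟩
    by_contra hnot
    exact h1' (hV'.2.2 j hnot)

theorem rho_injOn (n : ℕ) (ζ : F) (hζ : ζ ≠ 0) (m : ℕ) (hm : m = orderOf ζ) (hm0 : 0 < m)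
    {E E' : ℕ → F[X]} (hV : Valid n E) (hS : Stab ζ E) (hV' : Valid n E') (hS' : Stab ζ E')
    (h : rho m E = rho m E') : E = E' := by
  funext j
  rw [← (rho_props n ζ hζ m hm hm0 hV hS).1 j, ← (rho_props n ζ hζ m hm hm0 hV' hS').1 j, h]

/-- the sum of `gam ^ 2` over a set of stable valid tuples -/
theorem sum_gam_sq_stab_le (n : ℕ) (ζ : F) (hζ : ζ ≠ 0) (m : ℕ) (hm : m = orderOf ζ)
    (hm0 : 0 < m) (hn' : 1 ≤ n / m)
    (U : Finset (ℕ → F[X])) (hU : ∀ E ∈ U, Valid n E ∧ Stab ζ E) :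
    ((∑ E ∈ U, gam n E ^ 2 : ℕ) : ℤ)
      ≤ bW (Fintype.card F : ℤ) (n / m) 1 (n / m) + corr (Fintype.card F) (n / m) := by
  classical
  have hinj : Set.InjOn (rho m) (U : Set (ℕ → F[X])) := by
    intro E hE E' hE' h
    exact rho_injOn n ζ hζ m hm hm0 (hU E hE).1 (hU E hE).2 (hU E' hE').1 (hU E' hE').2 h
  have h1 : ∑ E ∈ U, gam n E ^ 2 = ∑ P ∈ U.image (rho m), gam (n / m) P ^ 2 := by
    rw [Finset.sum_image hinj]
    refine Finset.sum_congr rfl fun E hE => ?_
    rw [gam_rho n ζ hζ m hm hm0 (hU E hE).1 (hU E hE).2]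
  rw [h1]
  apply sum_gam_sq_le_gen (n / m) hn'
  intro P hP
  obtain ⟨E, hE, rfl⟩ := Finset.mem_image.mp hP
  exact (rho_props n ζ hζ m hm hm0 (hU E hE).1 (hU E hE).2).2.2

end Cfsg.Agent.Lib.Helper22.PSLCls
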