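import Mathlib
import Cfsg.Agent.Lib.Helper22.PSLClsF
import Cfsg.Agent.Lib.Helper22.PSLClsD

/-! The number of classes of `SL_n(F)` fixed by multiplication with a nontrivial scalar. -/

set_option autoImplicit false

namespace Cfsg.Agent.Lib.Helper22.PSLCls

open Polynomial Module Cfsg.Agent.Lib.Helper22.GLCls Cfsg.Agent.Lib.Helper22.SLCls

universe u

variable {F : Type u} [Field F] [Fintype F]

theorem Psi_stab (n : ℕ) (ζ : F) (hζ : ζ ≠ 0) (x s : Matrix.SpecialLinearGroup (Fin n) F)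
    (h : ((s * x * s⁻¹ : Matrix.SpecialLinearGroup (Fin n) F) : Matrix (Fin n) (Fin n) F)
      = ζ • (x : Matrix (Fin n) (Fin n) F)) :
    Stab ζ (Psi n (ConjClasses.mk x)) := by
  classical
  set gx : Matrix.GeneralLinearGroup (Fin n) F := Matrix.SpecialLinearGroup.toGL x with hgx
  set c : ConjClasses (Matrix.GeneralLinearGroup (Fin n) F) := ConjClasses.mk gx with hc
  have hPsi : Psi n (ConjClasses.mk x) = (chosenDec n c).tup := rfl
  obtain ⟨w, hw⟩ := isConj_iff.mp (out_mk_isConj gx)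
  set gs : Matrix.GeneralLinearGroup (Fin n) F := Matrix.SpecialLinearGroup.toGL s with hgs
  set P : Matrix.GeneralLinearGroup (Fin n) F := w * gs * w⁻¹ with hP
  set B : Matrix.GeneralLinearGroup (Fin n) F := w * (gs * gx * gs⁻¹) * w⁻¹ with hB
  have h1 : P * Quotient.out c = B * P := by
    rw [← hw, hP, hB]
    group
  have hBmat : (B : Matrix (Fin n) (Fin n) F)
      = ζ • ((Quotient.out c : Matrix.GeneralLinearGroup (Fin n) F) :
          Matrix (Fin n) (Fin n) F) := by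
    have h2 : ((gs * gx * gs⁻¹ : Matrix.GeneralLinearGroup (Fin n) F) :
        Matrix (Fin n) (Fin n) F) = ζ • (x : Matrix (Fin n) (Fin n) F) := by
      rw [← h, hgs, hgx, ← map_inv, ← map_mul, ← map_mul]
      rfl
    rw [← hw, hB]
    rw [Units.val_mul, Units.val_mul, h2, Units.val_mul, Units.val_mul]
    simp only [Matrix.mul_smul, Matrix.smul_mul]
    rfl
  have h3 : (P : Matrix (Fin n) (Fin n) F)
      * ((Quotient.out c : Matrix.GeneralLinearGroup (Fin n) F) : Matrix (Fin n) (Fin n) F)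
      = (ζ • ((Quotient.out c : Matrix.GeneralLinearGroup (Fin n) F) :
          Matrix (Fin n) (Fin n) F)) * (P : Matrix (Fin n) (Fin n) F) := by
    rw [← hBmat, ← Units.val_mul, ← Units.val_mul, h1]
  let e : (Fin n → F) ≃ₗ[F] (Fin n → F) :=
    LinearEquiv.ofLinear (Matrix.toLin' (P : Matrix (Fin n) (Fin n) F))
      (Matrix.toLin' ((P⁻¹ : Matrix.GeneralLinearGroup (Fin n) F) : Matrix (Fin n) (Fin n) F))
      (by rw [← Matrix.toLin'_mul, ← Units.val_mul, mul_inv_cancel, Units.val_one,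
            Matrix.toLin'_one])
      (by rw [← Matrix.toLin'_mul, ← Units.val_mul, inv_mul_cancel, Units.val_one,
            Matrix.toLin'_one])
  intro j
  rw [hPsi]
  apply tup_stable (chosenDec n c) ζ hζ e
  intro v
  change Matrix.toLin' (P : Matrix (Fin n) (Fin n) F) (Matrix.toLin' _ v)
    = (ζ • Matrix.toLin' _) (Matrix.toLin' (P : Matrix (Fin n) (Fin n) F) v)
  rw [← LinearMap.comp_apply, ← Matrix.toLin'_mul, h3, Matrix.toLin'_mul, map_smul]
  rfl

theorem card_fixed_le (n : ℕ) (hn : 2 ≤ n) (ζ : F) (hζ1 : ζ ≠ 1) (hζn : ζ ^ n = 1)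
    (CC : Finset (ConjClasses (Matrix.SpecialLinearGroup (Fin n) F)))
    (hCC : ∀ C ∈ CC, ∃ x s : Matrix.SpecialLinearGroup (Fin n) F, C = ConjClasses.mk x ∧
      ((s * x * s⁻¹ : Matrix.SpecialLinearGroup (Fin n) F) : Matrix (Fin n) (Fin n) F)
        = ζ • (x : Matrix (Fin n) (Fin n) F)) :
    2 ≤ orderOf ζ ∧ orderOf ζ ∣ n ∧ 1 ≤ n / orderOf ζ ∧
    ((Fintype.card F : ℤ) - 1) * (CC.card : ℤ)
      ≤ bW (Fintype.card F : ℤ) (n / orderOf ζ) 1 (n / orderOf ζ)
        + corr (Fintype.card F) (n / orderOf ζ) := by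
  classical
  have hζ0 : ζ ≠ 0 := by
    rintro rfl
    rw [zero_pow (by omega)] at hζn
    exact zero_ne_one hζn
  have hdvd : orderOf ζ ∣ n := orderOf_dvd_of_pow_eq_one hζn
  have hpos : 0 < orderOf ζ := Nat.pos_of_dvd_of_pos hdvd (by omega)
  have hne1 : orderOf ζ ≠ 1 := fun h => hζ1 (orderOf_eq_one_iff.mp h)
  have hn' : 1 ≤ n / orderOf ζ := Nat.div_pos (Nat.le_of_dvd (by omega) hdvd) hpos
  refine ⟨by omega, hdvd, hn', ?_⟩
  set U : Finset (ℕ → F[X]) := (TT (F := F) n).filter (Stab ζ) with hU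
  have hUV : ∀ E ∈ U, Valid n E ∧ Stab ζ E := by
    intro E hE
    rw [hU, Finset.mem_filter] at hE
    exact ⟨valid_of_mem_TT hE.1, hE.2⟩
  have hact : ∀ E ∈ U, ∀ l : ↥(Finset.Ico 1 (n + 1)) → Fˣ, act (extA n l) E ∈ U := by
    intro E hE l
    rw [hU, Finset.mem_filter] at hE ⊢
    exact ⟨act_mem_TT hE.1 l,
      hE.2.act hζ0 (fun j => ((valid_of_mem_TT hE.1).1 j).2) _⟩
  have hPsi : ∀ C ∈ CC, Psi n C ∈ U := by
    intro C hC
    obtain ⟨x, s, rfl, hxs⟩ := hCC C hC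
    rw [hU, Finset.mem_filter]
    exact ⟨Psi_mem_TT n _, Psi_stab n ζ hζ0 x s hxs⟩
  have h1 := main_ineq_gen n U (fun E hE => (hUV E hE).1) hact CC hPsi
  have h2 := sum_gam_sq_stab_le n ζ hζ0 (orderOf ζ) rfl hpos hn' U hUV
  have h3 : (((Fintype.card F - 1) * CC.card : ℕ) : ℤ)
      ≤ ((∑ E ∈ U, gam n E ^ 2 : ℕ) : ℤ) := by exact_mod_cast h1
  have hq : 1 ≤ Fintype.card F := Fintype.card_pos
  rw [Nat.cast_mul, Nat.cast_sub hq] at h3
  push_cast at h3
  exact le_trans h3 (by exact_mod_cast h2)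

end Cfsg.Agent.Lib.Helper22.PSLCls
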