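import Mathlib

/-! Conjugacy classes of a group modulo its centre: Burnside counting with the action of the centre
on the conjugacy classes. -/

set_option autoImplicit false

namespace Cfsg.Agent.Lib.Helper22.PSLCls

variable {G : Type*} [Group G]

theorem isConj_central_mul {z : G} (hz : z ∈ Subgroup.center G) {a b : G} (h : IsConj a b) :
    IsConj (z * a) (z * b) := by
  obtain ⟨c, hc⟩ := isConj_iff.mp h
  rw [isConj_iff]
  refine ⟨c, ?_⟩
  have hcomm : c * z = z * c := Subgroup.mem_center_iff.mp hz c
  rw [← hc]
  calc c * (z * a) * c⁻¹ = (c * z) * a * c⁻¹ := by group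
    _ = (z * c) * a * c⁻¹ := by rw [hcomm]
    _ = z * (c * a * c⁻¹) := by group

/-- multiplication of a class by a central element -/
def cmul (z : Subgroup.center G) (C : ConjClasses G) : ConjClasses G :=
  Quotient.map (fun x => (z : G) * x) (fun _ _ h => isConj_central_mul z.2 h) C

theorem cmul_mk (z : Subgroup.center G) (x : G) :
    cmul z (ConjClasses.mk x) = ConjClasses.mk ((z : G) * x) := rfl

/-- the action of the centre on the classes -/
def centerAction : MulAction (Subgroup.center G) (ConjClasses G) where
  smul := cmul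
  one_smul C := by
    induction C using Quotient.inductionOn with
    | _ x =>
      change cmul 1 (ConjClasses.mk x) = ConjClasses.mk x
      rw [cmul_mk]
      simp
  mul_smul z w C := by
    induction C using Quotient.inductionOn with
    | _ x =>
      change cmul (z * w) (ConjClasses.mk x) = cmul z (cmul w (ConjClasses.mk x))
      rw [cmul_mk, cmul_mk, cmul_mk]
      simp [mul_assoc]

/-- the map on classes to the quotient by the centre -/
def toQ : ConjClasses G → ConjClasses (G ⧸ Subgroup.center G) :=
  ConjClasses.map (QuotientGroup.mk' (Subgroup.center G))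

theorem toQ_mk (x : G) : toQ (ConjClasses.mk x) = ConjClasses.mk (x : G ⧸ Subgroup.center G) := rfl

theorem toQ_surjective : Function.Surjective (toQ (G := G)) := by
  intro c
  induction c using Quotient.inductionOn with
  | _ y =>
    obtain ⟨x, rfl⟩ := QuotientGroup.mk_surjective y
    exact ⟨ConjClasses.mk x, rfl⟩

theorem toQ_cmul (z : Subgroup.center G) (C : ConjClasses G) : toQ (cmul z C) = toQ C := by
  induction C using Quotient.inductionOn with
  | _ x =>
    change toQ (cmul z (ConjClasses.mk x)) = toQ (ConjClasses.mk x)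
    rw [cmul_mk, toQ_mk, toQ_mk]
    congr 1
    rw [QuotientGroup.mk_mul]
    have : ((z : G) : G ⧸ Subgroup.center G) = 1 := (QuotientGroup.eq_one_iff _).mpr z.2
    rw [this, one_mul]

theorem exists_cmul_of_toQ_eq {C C' : ConjClasses G} (h : toQ C = toQ C') :
    ∃ z : Subgroup.center G, cmul z C = C' := by
  induction C using Quotient.inductionOn with
  | _ x =>
    induction C' using Quotient.inductionOn with
    | _ y =>
      change toQ (ConjClasses.mk x) = toQ (ConjClasses.mk y) at h
      rw [toQ_mk, toQ_mk, ConjClasses.mk_eq_mk_iff_isConj, isConj_iff] at h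
      obtain ⟨c, hc⟩ := h
      obtain ⟨g, rfl⟩ := QuotientGroup.mk_surjective c
      rw [← QuotientGroup.mk_inv, ← QuotientGroup.mk_mul, ← QuotientGroup.mk_mul,
        QuotientGroup.eq] at hc
      -- hc : (g x g⁻¹)⁻¹ * y ∈ center
      refine ⟨⟨(g * x * g⁻¹)⁻¹ * y, hc⟩, ?_⟩
      change cmul _ (ConjClasses.mk x) = ConjClasses.mk y
      rw [cmul_mk, ConjClasses.mk_eq_mk_iff_isConj, isConj_iff]
      refine ⟨g, ?_⟩
      have hcomm := Subgroup.mem_center_iff.mp hc
      simp only
      calc g * ((g * x * g⁻¹)⁻¹ * y * x) * g⁻¹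
          = (g * ((g * x * g⁻¹)⁻¹ * y)) * x * g⁻¹ := by group
        _ = (((g * x * g⁻¹)⁻¹ * y) * g) * x * g⁻¹ := by rw [hcomm g]
        _ = ((g * x * g⁻¹)⁻¹ * y) * (g * x * g⁻¹) := by group
        _ = (g * x * g⁻¹) * ((g * x * g⁻¹)⁻¹ * y) := (hcomm (g * x * g⁻¹)).symm
        _ = y := by group

variable [Finite G]

theorem card_le_center_mul :
    Nat.card (ConjClasses G)
      ≤ Nat.card (Subgroup.center G) * Nat.card (ConjClasses (G ⧸ Subgroup.center G)) := by
  classical
  haveI : Fintype (ConjClasses G) := Fintype.ofFinite _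
  haveI : Fintype (ConjClasses (G ⧸ Subgroup.center G)) := Fintype.ofFinite _
  haveI : Fintype (Subgroup.center G) := Fintype.ofFinite _
  rw [Nat.card_eq_fintype_card, Nat.card_eq_fintype_card, Nat.card_eq_fintype_card,
    ← Finset.card_univ (α := ConjClasses G)]
  have h1 := Finset.card_le_mul_card_image (s := (Finset.univ : Finset (ConjClasses G)))
    (f := toQ) (Fintype.card (Subgroup.center G)) ?_
  · refine le_trans h1 (Nat.mul_le_mul_left _ ?_)
    exact Finset.card_le_univ _
  · intro c hc
    obtain ⟨C₀, -, rfl⟩ := Finset.mem_image.mp hc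
    have hsub : Finset.univ.filter (fun C => toQ C = toQ C₀)
        ⊆ (Finset.univ : Finset (Subgroup.center G)).image (fun z => cmul z C₀) := by
      intro C hC
      rw [Finset.mem_filter] at hC
      obtain ⟨z, hz⟩ := exists_cmul_of_toQ_eq hC.2.symm
      exact Finset.mem_image.mpr ⟨z, Finset.mem_univ _, hz⟩
    exact le_trans (Finset.card_le_card hsub) (le_trans Finset.card_image_le
      (le_of_eq Finset.card_univ))

theorem center_mul_card_le [Fintype (Subgroup.center G)] :
    Nat.card (Subgroup.center G) * Nat.card (ConjClasses (G ⧸ Subgroup.center G))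
      ≤ ∑ z : Subgroup.center G, Nat.card {C : ConjClasses G // cmul z C = C} := by
  classical
  haveI : Fintype (ConjClasses G) := Fintype.ofFinite _
  haveI : Fintype (ConjClasses (G ⧸ Subgroup.center G)) := Fintype.ofFinite _
  letI : MulAction (Subgroup.center G) (ConjClasses G) := centerAction
  have hB := MulAction.sum_card_fixedBy_eq_card_orbits_mul_card_group (Subgroup.center G)
    (ConjClasses G)
  have hfix : ∀ z : Subgroup.center G,
      Fintype.card (MulAction.fixedBy (ConjClasses G) z)
        = Nat.card {C : ConjClasses G // cmul z C = C} := by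
    intro z
    rw [Nat.card_eq_fintype_card]
    apply Fintype.card_congr
    exact Equiv.subtypeEquivRight (fun C => Iff.rfl)
  rw [Finset.sum_congr rfl (fun z _ => hfix z)] at hB
  rw [hB, Nat.card_eq_fintype_card, Nat.card_eq_fintype_card, Nat.mul_comm]
  apply Nat.mul_le_mul_right
  -- surjection from orbits onto classes of the quotient
  let φ : MulAction.orbitRel.Quotient (Subgroup.center G) (ConjClasses G)
      → ConjClasses (G ⧸ Subgroup.center G) :=
    Quotient.lift toQ (by
      intro C C' h
      obtain ⟨z, rfl⟩ := h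
      exact toQ_cmul z C')
  apply Fintype.card_le_of_surjective φ
  intro c
  obtain ⟨C, rfl⟩ := toQ_surjective c
  exact ⟨Quotient.mk'' C, rfl⟩

end Cfsg.Agent.Lib.Helper22.PSLCls
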