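import Mathlib
import Cfsg.Agent.Lib.Helper22.PSLClsG
import Cfsg.Agent.Lib.Helper22.PSLClsH

/-! The centre of `SL_n(F)` and the fixed classes of its elements. -/

set_option autoImplicit false

namespace Cfsg.Agent.Lib.Helper22.PSLCls

open Polynomial Module Cfsg.Agent.Lib.Helper22.GLCls Cfsg.Agent.Lib.Helper22.SLCls

universe u

variable {F : Type u} [Field F] [Fintype F]

theorem card_center_SL (n : ℕ) (hn : 1 ≤ n) :
    Nat.card (Subgroup.center (Matrix.SpecialLinearGroup (Fin n) F))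
      = Nat.gcd n (Fintype.card F - 1) := by
  classical
  have i0 : Fin n := ⟨0, by omega⟩
  have h1 : Nat.card (Subgroup.center (Matrix.SpecialLinearGroup (Fin n) F)) =
      Nat.card (rootsOfUnity (Fintype.card (Fin n)) F) :=
    Nat.card_congr (Matrix.SpecialLinearGroup.center_equiv_rootsOfUnity' i0).toEquiv
  rw [h1, Fintype.card_fin, rootsOfUnity_eq_ker, IsCyclic.card_powMonoidHom_ker,
    Nat.card_eq_fintype_card, Fintype.card_units, Nat.gcd_comm]

theorem fix_le (n : ℕ) (hn : 2 ≤ n)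
    (z : Subgroup.center (Matrix.SpecialLinearGroup (Fin n) F)) (hz : z ≠ 1) :
    ∃ n' : ℕ, 1 ≤ n' ∧ n' ≤ n / 2 ∧
      ((Fintype.card F : ℤ) - 1) *
          (Nat.card {C : ConjClasses (Matrix.SpecialLinearGroup (Fin n) F) // cmul z C = C} : ℤ)
        ≤ bW (Fintype.card F : ℤ) n' 1 n' + corr (Fintype.card F) n' := by
  classical
  haveI : Fintype (ConjClasses (Matrix.SpecialLinearGroup (Fin n) F)) := Fintype.ofFinite _
  obtain ⟨ζ, hζn, hζz⟩ := Matrix.SpecialLinearGroup.mem_center_iff.mp z.2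
  rw [Fintype.card_fin] at hζn
  have hζ1 : ζ ≠ 1 := by
    rintro rfl
    apply hz
    apply Subtype.ext
    apply Subtype.ext
    rw [← hζz]
    simp
  set CC : Finset (ConjClasses (Matrix.SpecialLinearGroup (Fin n) F)) :=
    Finset.univ.filter (fun C => cmul z C = C) with hCC
  have hcard : Nat.card {C : ConjClasses (Matrix.SpecialLinearGroup (Fin n) F) // cmul z C = C}
      = CC.card := by
    rw [Nat.card_eq_fintype_card, Fintype.card_subtype]
  have hfix : ∀ C ∈ CC, ∃ x s : Matrix.SpecialLinearGroup (Fin n) F, C = ConjClasses.mk x ∧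
      ((s * x * s⁻¹ : Matrix.SpecialLinearGroup (Fin n) F) : Matrix (Fin n) (Fin n) F)
        = ζ • (x : Matrix (Fin n) (Fin n) F) := by
    intro C hC
    rw [hCC, Finset.mem_filter] at hC
    have e1 : ConjClasses.mk (Quotient.out C) = C := Quotient.out_eq C
    set x := Quotient.out C with hx
    have h2 : cmul z (ConjClasses.mk x) = ConjClasses.mk x := by rw [e1]; exact hC.2
    rw [cmul_mk, ConjClasses.mk_eq_mk_iff_isConj] at h2
    obtain ⟨s, hs⟩ := isConj_iff.mp h2.symm
    refine ⟨x, s, e1.symm, ?_⟩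
    rw [hs, Matrix.SpecialLinearGroup.coe_mul, ← hζz]
    rw [Matrix.scalar_apply, ← Matrix.smul_eq_diagonal_mul]
  obtain ⟨h2, hdvd, hn', hmain⟩ := card_fixed_le n hn ζ hζ1 hζn CC hfix
  refine ⟨n / orderOf ζ, hn', Nat.div_le_div_left h2 (by norm_num), ?_⟩
  rw [hcard]
  exact hmain

end Cfsg.Agent.Lib.Helper22.PSLCls
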