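import Mathlib
import Cfsg.Agent.Lib.Helper22.SLClsM

/-! Numerical part of the bounds for `k(PSL_n(q))`. -/

set_option autoImplicit false

namespace Cfsg.Agent.Lib.Helper22.PSLCls

open Cfsg.Agent.Lib.Helper22.GLCls Cfsg.Agent.Lib.Helper22.SLCls

theorem kW_two (q : ℤ) : bW q 2 1 2 = q ^ 2 - 1 := by
  simp [bW_succ, bW_zero, cW, Finset.sum_range_succ]

theorem corr_one (q : ℕ) : corr q 1 = 0 := by
  unfold corr
  have : Finset.Icc 2 1 = ∅ := by decide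
  rw [this, Finset.sum_empty]

/-- bound for a single fixed-class count -/
theorem fix_num (q : ℕ) (hq : 2 ≤ q) (n' : ℕ) (hn' : 1 ≤ n') (f : ℤ) (hf : 0 ≤ f)
    (h : ((q : ℤ) - 1) * f ≤ bW (q : ℤ) n' 1 n' + corr q n') :
    (n' = 1 → f ≤ 1) ∧ 2 * f ≤ 5 * (q : ℤ) ^ (n' - 1) := by
  have hq2 : (2 : ℤ) ≤ (q : ℤ) := by exact_mod_cast hq
  rcases (by omega : n' = 1 ∨ 2 ≤ n') with rfl | h2
  · rw [kW_one, corr_one, add_zero] at h
    have h1 : f ≤ 1 := by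
      have : ((q : ℤ) - 1) * f ≤ ((q : ℤ) - 1) * 1 := by linarith
      exact le_of_mul_le_mul_left this (by linarith)
    refine ⟨fun _ => h1, ?_⟩
    norm_num
    linarith
  · refine ⟨fun h1 => absurd h1 (by omega), ?_⟩
    exact (numerics q hq n' h2 f hf h).1

theorem final_num (q n d : ℕ) (hq : 2 ≤ q) (hn : 2 ≤ n) (hd1 : 1 ≤ d) (hdn : d ∣ n)
    (hdq : d ∣ q - 1) (KS T : ℤ) (hKS0 : 0 ≤ KS)
    (hKS : ((q : ℤ) - 1) * KS ≤ bW (q : ℤ) n 1 n + corr q n)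
    (hT2 : n ≤ 3 → T ≤ (d : ℤ) - 1)
    (hT : 2 * T ≤ ((d : ℤ) - 1) * (5 * (q : ℤ) ^ (n / 2 - 1))) :
    KS + T ≤ (q : ℤ) ^ (n - 1) + 5 * (q : ℤ) ^ (n - 2) := by
  have hq1 : (1 : ℤ) ≤ (q : ℤ) := by exact_mod_cast (by omega : 1 ≤ q)
  have hq2 : (2 : ℤ) ≤ (q : ℤ) := by exact_mod_cast hq
  have hdn' : d ≤ n := Nat.le_of_dvd (by omega) hdn
  have hdq' : d ≤ q - 1 := Nat.le_of_dvd (by omega) hdq
  have hdz : (d : ℤ) ≤ (q : ℤ) - 1 := by
    have : ((d : ℕ) : ℤ) ≤ ((q - 1 : ℕ) : ℤ) := by exact_mod_cast hdq'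
    rw [Nat.cast_sub (by omega)] at this
    simpa using this
  have hd1z : (1 : ℤ) ≤ (d : ℤ) := by exact_mod_cast hd1
  have hdnz : (d : ℤ) ≤ (n : ℤ) := by exact_mod_cast hdn'
  rcases (by omega : n = 2 ∨ n = 3 ∨ n = 4 ∨ 5 ≤ n) with rfl | rfl | rfl | h5
  · -- n = 2
    have hT' := hT2 (by norm_num)
    rw [kW_two, corr_two] at hKS
    norm_num
    by_cases h2 : 2 ∣ q - 1
    · rw [if_pos h2] at hKS
      have h' : ((q : ℤ) - 1) * KS ≤ ((q : ℤ) - 1) * ((q : ℤ) + 4) := by nlinarith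
      have := le_of_mul_le_mul_left h' (by linarith)
      have hd2 : (d : ℤ) ≤ 2 := by exact_mod_cast hdnz
      linarith
    · rw [if_neg h2, add_zero] at hKS
      have h' : ((q : ℤ) - 1) * KS ≤ ((q : ℤ) - 1) * ((q : ℤ) + 1) := by nlinarith
      have := le_of_mul_le_mul_left h' (by linarith)
      have hd2 : (d : ℤ) ≤ 2 := by exact_mod_cast hdnz
      linarith
  · -- n = 3
    have hT' := hT2 (by norm_num)
    have hk := (numerics q hq 3 (by norm_num) KS hKS0 hKS).2 (by norm_num)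
    norm_num at hk ⊢
    have hd3 : (d : ℤ) ≤ 3 := by exact_mod_cast hdnz
    nlinarith
  · -- n = 4
    have hk := (numerics q hq 4 (by norm_num) KS hKS0 hKS).2 (by norm_num)
    norm_num at hk hT ⊢
    have hd4 : (d : ℤ) ≤ 4 := by exact_mod_cast hdnz
    have h5 : ((d : ℤ) - 1) * 5 ≤ 4 * (q : ℤ) := by omega
    have : 2 * T ≤ 4 * (q : ℤ) * q := by
      calc 2 * T ≤ ((d : ℤ) - 1) * (5 * (q : ℤ)) := hT
        _ = (((d : ℤ) - 1) * 5) * q := by ring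
        _ ≤ (4 * (q : ℤ)) * q := mul_le_mul_of_nonneg_right h5 (by linarith)
    nlinarith
  · -- n ≥ 5
    have hk := (numerics q hq n hn KS hKS0 hKS).2 (by omega)
    have hpow : (q : ℤ) ^ (n / 2 - 1) * q ≤ (q : ℤ) ^ (n - 3) := by
      rw [← pow_succ]
      exact pow_le_pow_right₀ hq1 (by omega)
    have hpos : (0 : ℤ) ≤ (q : ℤ) ^ (n / 2 - 1) := by positivity
    have h1 : 2 * T ≤ 5 * (q : ℤ) ^ (n - 3) := by
      calc 2 * T ≤ ((d : ℤ) - 1) * (5 * (q : ℤ) ^ (n / 2 - 1)) := hT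
        _ ≤ (q : ℤ) * (5 * (q : ℤ) ^ (n / 2 - 1)) :=
            mul_le_mul_of_nonneg_right (by linarith) (by positivity)
        _ = 5 * ((q : ℤ) ^ (n / 2 - 1) * q) := by ring
        _ ≤ 5 * (q : ℤ) ^ (n - 3) := by linarith
    have h2 : (q : ℤ) ^ (n - 2) = (q : ℤ) ^ (n - 3) * q := by
      rw [← pow_succ]
      congr 1
      omega
    have hpos3 : (0 : ℤ) ≤ (q : ℤ) ^ (n - 3) := by positivity
    have h3 : 5 * (q : ℤ) ^ (n - 3) ≤ 4 * (q : ℤ) ^ (n - 2) := by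
      rw [h2]
      nlinarith
    linarith

end Cfsg.Agent.Lib.Helper22.PSLCls
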