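import Mathlib
import Cfsg.Agent.Lib.Helper3.WordLen

/-! The Coxeter length of `Perm (Fin n)` with respect to the adjacent transpositions is the
inversion number (helper22; model-free input for the split BN-pair of `SL_n`). -/

set_option autoImplicit false

namespace Cfsg.Agent.Lib.Helper22.PermLen

open Equiv Cfsg.Agent.Lib.Helper3.WordLen

variable {n : ℕ}

/-- adjacent transpositions of `Fin n` -/
def adj (n : ℕ) : Set (Perm (Fin n)) :=
  {s | ∃ i : Fin n, ∃ h : i.val + 1 < n, s = swap i ⟨i.val + 1, h⟩}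

/-- the set of inversions of a permutation -/
def invSet (w : Perm (Fin n)) : Finset (Fin n × Fin n) :=
  Finset.univ.filter (fun p => p.1 < p.2 ∧ w p.2 < w p.1)

/-- the inversion number -/
def invNum (w : Perm (Fin n)) : ℕ := (invSet w).card

theorem mem_invSet {w : Perm (Fin n)} {p : Fin n × Fin n} :
    p ∈ invSet w ↔ p.1 < p.2 ∧ w p.2 < w p.1 := by
  simp [invSet]

theorem adj_mem (i : Fin n) (h : i.val + 1 < n) : swap i ⟨i.val + 1, h⟩ ∈ adj n := ⟨i, h, rfl⟩

theorem adj_sq : ∀ s ∈ adj n, s * s = 1 := by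
  rintro s ⟨i, h, rfl⟩
  exact Equiv.swap_mul_self _ _

theorem invNum_one : invNum (1 : Perm (Fin n)) = 0 := by
  unfold invNum
  rw [Finset.card_eq_zero, Finset.eq_empty_iff_forall_notMem]
  intro p hp
  rw [mem_invSet] at hp
  simp only [Perm.coe_one, id_eq] at hp
  exact lt_asymm hp.1 hp.2

/-- an adjacent transposition preserves the order of every pair except the one it swaps -/
theorem swap_lt_iff (i : Fin n) (h : i.val + 1 < n) (x y : Fin n)
    (hxy : ¬ (x = i ∧ y = ⟨i.val + 1, h⟩)) (hyx : ¬ (y = i ∧ x = ⟨i.val + 1, h⟩)) :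
    swap i ⟨i.val + 1, h⟩ x < swap i ⟨i.val + 1, h⟩ y ↔ x < y := by
  have hx : x.val < n := x.2
  have hy : y.val < n := y.2
  simp only [Equiv.swap_apply_def]
  simp only [Fin.ext_iff] at hxy hyx
  split_ifs with h1 h2 h3 h4 h5 h6 h7 h8 <;>
    simp only [Fin.ext_iff, Fin.lt_def] at * <;> omega

theorem invNum_swap_mul_of_lt (i : Fin n) (h : i.val + 1 < n) (w : Perm (Fin n))
    (hlt : w⁻¹ i < w⁻¹ ⟨i.val + 1, h⟩) :
    invNum (swap i ⟨i.val + 1, h⟩ * w) = invNum w + 1 := by
  set i' : Fin n := ⟨i.val + 1, h⟩ with hi'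
  set a := w⁻¹ i with ha
  set b := w⁻¹ i' with hb
  have hwa : w a = i := w.apply_symm_apply i
  have hwb : w b = i' := w.apply_symm_apply i'
  have hii' : i < i' := by rw [Fin.lt_def]; simp [hi']
  have hne : i ≠ i' := ne_of_lt hii'
  have hnot : (a, b) ∉ invSet w := by
    rw [mem_invSet]
    rintro ⟨_, h2⟩
    rw [hwa, hwb] at h2
    exact lt_asymm hii' h2
  have hset : invSet (swap i i' * w) = insert (a, b) (invSet w) := by
    ext ⟨x, y⟩
    rw [Finset.mem_insert, mem_invSet, mem_invSet]
    simp only [Perm.coe_mul, Function.comp_apply, Prod.mk.injEq]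
    by_cases hc1 : x = a ∧ y = b
    · obtain ⟨rfl, rfl⟩ := hc1
      rw [hwa, hwb, Equiv.swap_apply_left, Equiv.swap_apply_right]
      constructor
      · intro _; exact Or.inl ⟨rfl, rfl⟩
      · intro _; exact ⟨hlt, hii'⟩
    · by_cases hc2 : x = b ∧ y = a
      · obtain ⟨rfl, rfl⟩ := hc2
        constructor
        · rintro ⟨h1, _⟩; exact absurd h1 (lt_asymm hlt)
        · rintro (⟨h1, _⟩ | ⟨h1, _⟩)
          · exact absurd h1 (ne_of_gt hlt)
          · exact absurd h1 (lt_asymm hlt)
      · have key : swap i i' (w y) < swap i i' (w x) ↔ w y < w x := by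
          apply swap_lt_iff
          · rintro ⟨e1, e2⟩
            apply hc2
            constructor
            · apply w.injective; rw [e2, hwb]
            · apply w.injective; rw [e1, hwa]
          · rintro ⟨e1, e2⟩
            apply hc1
            constructor
            · apply w.injective; rw [e1, hwa]
            · apply w.injective; rw [e2, hwb]
        rw [key]
        constructor
        · intro hh; exact Or.inr hh
        · rintro (hh | hh)
          · exact absurd hh hc1
          · exact hh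
  unfold invNum
  rw [hset, Finset.card_insert_of_notMem hnot]

theorem invNum_swap_mul_of_gt (i : Fin n) (h : i.val + 1 < n) (w : Perm (Fin n))
    (hgt : w⁻¹ ⟨i.val + 1, h⟩ < w⁻¹ i) :
    invNum (swap i ⟨i.val + 1, h⟩ * w) + 1 = invNum w := by
  have h1 := invNum_swap_mul_of_lt i h (swap i ⟨i.val + 1, h⟩ * w) (by
    rw [mul_inv_rev, Equiv.swap_inv, Perm.mul_apply, Perm.mul_apply, Equiv.swap_apply_left,
      Equiv.swap_apply_right]
    exact hgt)
  rw [← mul_assoc, Equiv.swap_mul_self, one_mul] at h1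
  exact h1.symm

theorem symm_ne (i : Fin n) (h : i.val + 1 < n) (w : Perm (Fin n)) :
    w⁻¹ i ≠ w⁻¹ ⟨i.val + 1, h⟩ := by
  intro e
  have := (w⁻¹).injective e
  rw [Fin.ext_iff] at this
  simp at this

theorem invNum_swap_mul (i : Fin n) (h : i.val + 1 < n) (w : Perm (Fin n)) :
    invNum (swap i ⟨i.val + 1, h⟩ * w) =
      if w⁻¹ i < w⁻¹ ⟨i.val + 1, h⟩ then invNum w + 1 else invNum w - 1 := by
  split_ifs with hc
  · exact invNum_swap_mul_of_lt i h w hc
  · have hgt : w⁻¹ ⟨i.val + 1, h⟩ < w⁻¹ i :=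
      lt_of_le_of_ne (not_lt.mp hc) (symm_ne i h w).symm
    have := invNum_swap_mul_of_gt i h w hgt
    omega

theorem invNum_step : ∀ x ∈ adj n, ∀ w, invNum (x * w) ≤ invNum w + 1 := by
  rintro x ⟨i, h, rfl⟩ w
  rw [invNum_swap_mul]
  split_ifs <;> omega

/-- a map `Fin n → Fin n` increasing on adjacent pairs is strictly monotone -/
theorem strictMono_of_adj (f : Fin n → Fin n)
    (hf : ∀ (i : Fin n) (h : i.val + 1 < n), f i < f ⟨i.val + 1, h⟩) : StrictMono f := by
  have key : ∀ (d : ℕ) (x : Fin n) (h : x.val + d + 1 < n), f x < f ⟨x.val + d + 1, h⟩ := by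
    intro d
    induction d with
    | zero => intro x h; exact hf x h
    | succ d ih =>
      intro x h
      have h' : x.val + d + 1 < n := by omega
      exact lt_trans (ih x h') (hf ⟨x.val + d + 1, h'⟩ h)
  intro x y hxy
  rw [Fin.lt_def] at hxy
  have h : x.val + (y.val - x.val - 1) + 1 < n := by have := y.2; omega
  have := key (y.val - x.val - 1) x h
  have e : (⟨x.val + (y.val - x.val - 1) + 1, h⟩ : Fin n) = y := Fin.ext (by simp; omega)
  rwa [e] at this

theorem eq_one_of_strictMono (w : Perm (Fin n)) (hw : StrictMono w) : w = 1 := by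
  have hw' : StrictMono (w⁻¹ : Perm (Fin n)) := by
    intro x y hxy
    by_contra hc
    rw [not_lt] at hc
    have := hw.monotone hc
    have e1 : w (w⁻¹ x) = x := w.apply_symm_apply x
    have e2 : w (w⁻¹ y) = y := w.apply_symm_apply y
    rw [e1, e2] at this
    exact absurd hxy (not_lt.mpr this)
  ext x
  have h1 : x ≤ w x := hw.le_apply
  have h2 : w x ≤ w⁻¹ (w x) := hw'.le_apply
  have e3 : w⁻¹ (w x) = x := w.symm_apply_apply x
  rw [e3] at h2
  rw [Perm.coe_one, id_eq, le_antisymm h2 h1]

/-- a non-identity permutation has a left descent -/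
theorem exists_descent (w : Perm (Fin n)) (hw : w ≠ 1) :
    ∃ (i : Fin n) (h : i.val + 1 < n), w⁻¹ ⟨i.val + 1, h⟩ < w⁻¹ i := by
  by_contra hc
  push Not at hc
  apply hw
  have : StrictMono (w⁻¹ : Perm (Fin n)) :=
    strictMono_of_adj _ (fun i h => lt_of_le_of_ne (hc i h) (symm_ne i h w))
  have := eq_one_of_strictMono _ this
  rw [inv_eq_one] at this
  exact this

theorem exists_word_le (w : Perm (Fin n)) :
    ∃ L, IsWord (adj n) L ∧ L.prod = w ∧ L.length ≤ invNum w := by
  generalize hk : invNum w = k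
  induction k generalizing w with
  | zero =>
    by_cases hw : w = 1
    · exact ⟨[], isWord_nil, by simp [hw], le_refl _⟩
    · obtain ⟨i, h, hd⟩ := exists_descent w hw
      have := invNum_swap_mul_of_gt i h w hd
      omega
  | succ k ih =>
    have hw : w ≠ 1 := by
      rintro rfl
      rw [invNum_one] at hk
      omega
    obtain ⟨i, h, hd⟩ := exists_descent w hw
    have h1 := invNum_swap_mul_of_gt i h w hd
    obtain ⟨L, hL, hprod, hlen⟩ := ih (swap i ⟨i.val + 1, h⟩ * w) (by omega)
    refine ⟨swap i ⟨i.val + 1, h⟩ :: L, isWord_cons.mpr ⟨adj_mem i h, hL⟩, ?_, ?_⟩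
    · rw [List.prod_cons, hprod, ← mul_assoc, Equiv.swap_mul_self, one_mul]
    · rw [List.length_cons]; omega

theorem closure_adj : Subgroup.closure (adj n) = ⊤ := by
  rw [eq_top_iff]
  intro w _
  obtain ⟨L, hL, hprod, _⟩ := exists_word_le w
  rw [← hprod]
  exact prod_mem_closure hL

/-- **the Coxeter length of the symmetric group is the inversion number** -/
theorem len_eq_invNum (w : Perm (Fin n)) : len (adj n) w = invNum w := by
  apply le_antisymm
  · obtain ⟨L, hL, hw, hlen⟩ := exists_word_le w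
    have := len_le_of_word hL
    rw [hw] at this
    exact le_trans this hlen
  · obtain ⟨L, hL, hw, hlen⟩ := exists_reduced adj_sq closure_adj w
    rw [← hlen, ← hw]
    clear hlen hw
    induction L with
    | nil => simp [invNum_one]
    | cons x L ih =>
      rw [isWord_cons] at hL
      rw [List.prod_cons, List.length_cons]
      exact le_trans (invNum_step x hL.1 _) (Nat.succ_le_succ (ih hL.2))

theorem len_swap_mul (i : Fin n) (h : i.val + 1 < n) (w : Perm (Fin n)) :
    len (adj n) (swap i ⟨i.val + 1, h⟩ * w) =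
      if w⁻¹ i < w⁻¹ ⟨i.val + 1, h⟩ then len (adj n) w + 1 else len (adj n) w - 1 := by
  rw [len_eq_invNum, len_eq_invNum, invNum_swap_mul]

/-- left ascent criterion -/
theorem len_swap_mul_gt_iff (i : Fin n) (h : i.val + 1 < n) (w : Perm (Fin n)) :
    len (adj n) w < len (adj n) (swap i ⟨i.val + 1, h⟩ * w) ↔ w⁻¹ i < w⁻¹ ⟨i.val + 1, h⟩ := by
  rw [len_swap_mul]
  split_ifs with hc
  · exact ⟨fun _ => hc, fun _ => Nat.lt_succ_self _⟩
  · constructor
    · intro hh; omega
    · intro hh; exact absurd hh hc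

/-- left descent criterion -/
theorem len_swap_mul_lt_iff (i : Fin n) (h : i.val + 1 < n) (w : Perm (Fin n)) :
    len (adj n) (swap i ⟨i.val + 1, h⟩ * w) < len (adj n) w ↔ w⁻¹ ⟨i.val + 1, h⟩ < w⁻¹ i := by
  constructor
  · intro hh
    by_contra hc
    have hlt : w⁻¹ i < w⁻¹ ⟨i.val + 1, h⟩ := lt_of_le_of_ne (not_lt.mp hc) (symm_ne i h w)
    have := (len_swap_mul_gt_iff i h w).mpr hlt
    omega
  · intro hgt
    have := invNum_swap_mul_of_gt i h w hgt
    rw [len_eq_invNum, len_eq_invNum]
    omega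

/-- right ascent criterion -/
theorem len_mul_swap_gt_iff (i : Fin n) (h : i.val + 1 < n) (w : Perm (Fin n)) :
    len (adj n) w < len (adj n) (w * swap i ⟨i.val + 1, h⟩) ↔ w i < w ⟨i.val + 1, h⟩ := by
  have e : w * swap i ⟨i.val + 1, h⟩ = (swap i ⟨i.val + 1, h⟩ * w⁻¹)⁻¹ := by
    rw [mul_inv_rev, inv_inv, Equiv.swap_inv]
  rw [e, len_inv adj_sq closure_adj, ← len_inv adj_sq closure_adj w, len_swap_mul_gt_iff, inv_inv]

theorem revPerm_inv' : (Fin.revPerm : Perm (Fin n))⁻¹ = Fin.revPerm := by
  ext x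
  simp [Perm.inv_def, Fin.revPerm_symm]

/-- every adjacent transposition is a left descent of the order-reversing permutation -/
theorem revPerm_descents : ∀ s ∈ adj n,
    len (adj n) (s * Fin.revPerm) < len (adj n) (Fin.revPerm : Perm (Fin n)) := by
  rintro s ⟨i, h, rfl⟩
  rw [len_swap_mul_lt_iff, revPerm_inv', Fin.revPerm_apply, Fin.revPerm_apply]
  rw [Fin.lt_def, Fin.val_rev, Fin.val_rev]
  simp only
  omega

theorem invNum_revPerm : invNum (Fin.revPerm : Perm (Fin n)) = ∑ j : Fin n, (j : ℕ) := by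
  unfold invNum invSet
  have e : (Finset.univ.filter (fun p : Fin n × Fin n =>
      p.1 < p.2 ∧ Fin.revPerm p.2 < Fin.revPerm p.1)) =
      Finset.univ.filter (fun p : Fin n × Fin n => p.1 < p.2) := by
    ext p
    simp only [Finset.mem_filter, Finset.mem_univ, true_and, Fin.revPerm_apply, Fin.rev_lt_rev,
      and_self]
  rw [e, Finset.card_filter, ← Finset.univ_product_univ, Finset.sum_product_right]
  apply Finset.sum_congr rfl
  intro y _
  rw [← Finset.card_filter]
  have : (Finset.univ.filter (fun x : Fin n => x < y)) = Finset.Iio y := by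
    ext x; simp
  rw [this, Fin.card_Iio]

/-- the length of the longest element -/
theorem len_revPerm : len (adj n) (Fin.revPerm : Perm (Fin n)) = ∑ j : Fin n, (j : ℕ) := by
  rw [len_eq_invNum, invNum_revPerm]

end Cfsg.Agent.Lib.Helper22.PermLen
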