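import Mathlib
import Cfsg.Agent.Lib.Helper22.PClassCount
import Cfsg.Agent.Lib.Lead.CharMain
import Cfsg.Agent.Lib.Helper24.PerfectLemmas
import Cfsg.Agent.Lib.Helper6.LinChar
set_option autoImplicit false
set_option linter.unusedSectionVars false
set_option linter.style.haveILetI false
set_option linter.deprecated false
namespace Cfsg.Agent.Lib.Helper22.TwoClassCount
open Cfsg.Agent.Lib.Helper22.PiClasses Cfsg.Agent.Lib.Helper22.PClassCount
open scoped commutatorElement

universe u
variable {G : Type u} [Group G] [Finite G] {p : ℕ} [Fact p.Prime]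

/-- elements of a Sylow `p`-subgroup lie in `p`-classes -/
theorem piClass_mk_coe (P : Sylow p G) (x : ↥(P : Subgroup G)) :
    PiClass {p} (ConjClasses.mk (x : G)) := by
  have hp : p.Prime := Fact.out
  rw [← isPi_iff_piClass]
  intro q hq hd
  obtain ⟨j, hj⟩ := (P.2.to_le (Subgroup.zpowers_le.2 x.2)).exists_card_eq
  rw [Nat.card_zpowers] at hj
  rw [hj] at hd
  exact (Nat.prime_dvd_prime_iff_eq hq hp).1 (hq.dvd_of_dvd_pow hd)

/-- the `p`-class of `G` containing an element of `P` -/
def cls (P : Sylow p G) (x : ↥(P : Subgroup G)) : {C : ConjClasses G // PiClass {p} C} :=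
  ⟨ConjClasses.mk (x : G), piClass_mk_coe P x⟩

theorem cls_eq_iff (P : Sylow p G) (x y : ↥(P : Subgroup G)) :
    cls P x = cls P y ↔ ConjClasses.mk (x : G) = ConjClasses.mk (y : G) := by
  unfold cls
  rw [Subtype.mk.injEq]

theorem cls_surjective (P : Sylow p G) : Function.Surjective (cls P) := by
  intro C
  obtain ⟨x, hx⟩ := exists_mem_sylow_of_piClass P C.1 C.2
  exact ⟨x, Subtype.ext hx⟩

/-- conjugation inside `P` does not change the `G`-class -/
theorem cls_conj (P : Sylow p G) (u x : ↥(P : Subgroup G)) : cls P (u * x * u⁻¹) = cls P x := by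
  rw [cls_eq_iff, ConjClasses.mk_eq_mk_iff_isConj, isConj_comm, isConj_iff]
  exact ⟨(u : G), by simp⟩

/-- generic counting: a surjection `c : X → α` satisfies `2|α| ≤ |X| + #{singleton fibres}` -/
theorem two_mul_card_le_of_surjective {X α : Type*} [Finite X] [Finite α] (c : X → α)
    (hc : Function.Surjective c) :
    2 * Nat.card α ≤ Nat.card X + Nat.card {x : X // ∀ y : X, c y = c x → y = x} := by
  classical
  choose r hr using hc
  have hr' : ∀ a : α, ¬ (∀ y : X, c y = c (r a) → y = r a) → ∃ x' : X, c x' = a ∧ x' ≠ r a := by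
    intro a ha
    push Not at ha
    obtain ⟨y, hy1, hy2⟩ := ha
    exact ⟨y, by rw [hy1, hr], hy2⟩
  let f : α ⊕ α → X ⊕ {x : X // ∀ y : X, c y = c x → y = x} := fun s =>
    match s with
    | Sum.inl a => Sum.inl (r a)
    | Sum.inr a => if h : (∀ y : X, c y = c (r a) → y = r a) then Sum.inr ⟨r a, h⟩
        else Sum.inl (hr' a h).choose
  have hf : Function.Injective f := by
    rintro (a | a) (b | b) hab
    · simp only [f, Sum.inl.injEq] at hab
      have : a = b := by rw [← hr a, ← hr b, hab]
      rw [this]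
    · simp only [f] at hab
      split_ifs at hab with h
      · simp only [Sum.inl.injEq] at hab
        exfalso
        have h1 := (hr' b h).choose_spec
        have : a = b := by rw [← hr a, hab, h1.1]
        subst this
        exact h1.2 hab.symm
    · simp only [f] at hab
      split_ifs at hab with h
      · simp only [Sum.inl.injEq] at hab
        exfalso
        have h1 := (hr' a h).choose_spec
        have : a = b := by rw [← hr b, ← hab, h1.1]
        subst this
        exact h1.2 hab
    · simp only [f] at hab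
      split_ifs at hab with h1 h2 h2
      · simp only [Sum.inr.injEq, Subtype.mk.injEq] at hab
        have : a = b := by rw [← hr a, ← hr b, hab]
        rw [this]
      · simp only [Sum.inl.injEq] at hab
        have e1 := (hr' a h1).choose_spec
        have e2 := (hr' b h2).choose_spec
        have : a = b := by rw [← e1.1, hab, e2.1]
        rw [this]
  have := Nat.card_le_card_of_injective f hf
  rw [Nat.card_sum, Nat.card_sum] at this
  omega

/-- `k_p(G) ≤ k(P)` -/
theorem card_piClass_le_card_conjClasses_sylow (P : Sylow p G) :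
    Nat.card {C : ConjClasses G // PiClass {p} C} ≤ Nat.card (ConjClasses ↥(P : Subgroup G)) := by
  choose r hr using cls_surjective P
  apply Nat.card_le_card_of_injective (fun C => ConjClasses.mk (r C))
  intro C D hCD
  simp only at hCD
  rw [ConjClasses.mk_eq_mk_iff_isConj, isConj_iff] at hCD
  obtain ⟨u, hu⟩ := hCD
  rw [← hr C, ← hr D, ← hu]
  exact (cls_conj P u (r C)).symm

/-- with a normal `p`-complement, `P` controls fusion -/
theorem fusion_control (P : Sylow p G) (hN : Cfsg.HasNormalPComplement p G)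
    (x y : ↥(P : Subgroup G)) (hxy : ConjClasses.mk (x : G) = ConjClasses.mk (y : G)) :
    ConjClasses.mk x = ConjClasses.mk y := by
  have hp : p.Prime := Fact.out
  obtain ⟨P₀, N, hNn, hcomp⟩ := hN
  haveI := hNn
  have hS86 : ∀ x : G, x ∈ N ↔ (orderOf x).Coprime p :=
    fun x => Cfsg.Agent.S0086.result P₀ N hcomp x
  have hNcop : (Nat.card N).Coprime p := by
    rw [Nat.coprime_comm, Nat.Prime.coprime_iff_not_dvd hp]
    intro hd
    obtain ⟨x, hx⟩ := exists_prime_orderOf_dvd_card' (G := N) p hd
    have h1 : ((x : G)) ∈ N := x.2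
    rw [hS86, Subgroup.orderOf_coe, hx] at h1
    exact hp.ne_one ((Nat.coprime_self p).1 h1)
  have hcardP : Nat.card ↥(P : Subgroup G) = Nat.card ↥(P₀ : Subgroup G) := by
    rw [Sylow.card_eq_multiplicity, Sylow.card_eq_multiplicity]
  obtain ⟨b, hb⟩ := IsPGroup.iff_card.1 P.2
  have hNP : N.IsComplement' (P : Subgroup G) := by
    apply Subgroup.isComplement'_of_coprime
    · rw [hcardP]; exact hcomp.card_mul_card
    · rw [hb]; exact Nat.Coprime.pow_right b hNcop
  rw [ConjClasses.mk_eq_mk_iff_isConj, isConj_iff] at hxy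
  obtain ⟨g, hg⟩ := hxy
  obtain ⟨⟨n, u⟩, hnu⟩ := hNP.2 g
  simp only at hnu
  -- x' = u x u⁻¹
  have hy : (y : G) = (n : G) * ((u * x * u⁻¹ : ↥(P : Subgroup G)) : G) * (n : G)⁻¹ := by
    rw [← hg, ← hnu]
    push_cast
    group
  have h1 : (y : G) * ((u * x * u⁻¹ : ↥(P : Subgroup G)) : G)⁻¹ ∈ N := by
    rw [hy]
    generalize ((u * x * u⁻¹ : ↥(P : Subgroup G)) : G) = w
    have : (n : G) * w * (n : G)⁻¹ * w⁻¹ = (n : G) * (w * (n : G)⁻¹ * w⁻¹) := by group
    rw [this]
    exact N.mul_mem n.2 (hNn.conj_mem _ (N.inv_mem n.2) _)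
  have h2 : (y : G) * ((u * x * u⁻¹ : ↥(P : Subgroup G)) : G)⁻¹ ∈ (P : Subgroup G) :=
    (y * (u * x * u⁻¹)⁻¹).2
  have h3 : (y : G) * ((u * x * u⁻¹ : ↥(P : Subgroup G)) : G)⁻¹ = 1 := by
    have := hNP.disjoint
    rw [Subgroup.disjoint_def] at this
    exact this h1 h2
  rw [mul_inv_eq_one] at h3
  have h4 : y = u * x * u⁻¹ := Subtype.ext h3
  rw [h4, ConjClasses.mk_eq_mk_iff_isConj, isConj_iff]
  exact ⟨u, rfl⟩

/-- with a normal `p`-complement, `k(P) ≤ k_p(G)` -/
theorem card_conjClasses_sylow_le (P : Sylow p G) (hN : Cfsg.HasNormalPComplement p G) :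
    Nat.card (ConjClasses ↥(P : Subgroup G)) ≤ Nat.card {C : ConjClasses G // PiClass {p} C} := by
  choose r hr using cls_surjective P
  apply Nat.card_le_card_of_surjective (fun C => ConjClasses.mk (r C))
  intro c
  obtain ⟨x, rfl⟩ := ConjClasses.mk_surjective c
  refine ⟨cls P x, ?_⟩
  simp only
  apply fusion_control P hN
  have := hr (cls P x)
  rw [cls_eq_iff] at this
  exact this


/-- character-theoretic bound: `4 k(Q) ≤ |Q| + 3 |Q : Q'|` -/
theorem four_mul_card_conjClasses_le (Q : Type u) [Group Q] [Finite Q] :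
    4 * Nat.card (ConjClasses Q) ≤ Nat.card Q + 3 * (commutator Q).index := by
  classical
  letI := Fintype.ofFinite Q
  letI := Cfsg.Agent.CharLib.fintypeIrr Q
  rw [← Cfsg.Agent.CharLib.card_irrCharacter, ← Cfsg.Agent.Lib.Helper6.card_linear_irr]
  have hsum := Cfsg.Agent.Lib.Helper24.sum_charDegree_sq (G := Q)
  rw [Nat.card_eq_fintype_card (α := Q), ← hsum]
  have hterm : ∀ χ : Cfsg.IrrCharacter Q,
      4 ≤ Cfsg.charDegree (χ : Q → ℂ) ^ 2 + (if (χ : Q → ℂ) 1 = 1 then 3 else 0) := by
    intro χ
    have hpos := Cfsg.Agent.Lib.Helper24.irr_charDegree_pos χ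
    have h1 := Cfsg.Agent.Lib.Helper24.irr_apply_one χ
    split_ifs with h
    · nlinarith
    · have hne : Cfsg.charDegree (χ : Q → ℂ) ≠ 1 := by
        intro h2
        apply h
        rw [h1, h2]
        simp
      have h2 : 2 ≤ Cfsg.charDegree (χ : Q → ℂ) := by omega
      nlinarith
  have h1 : Nat.card {χ : Cfsg.IrrCharacter Q // (χ : Q → ℂ) 1 = 1} =
      (Finset.univ.filter (fun χ : Cfsg.IrrCharacter Q => (χ : Q → ℂ) 1 = 1)).card := by
    rw [Nat.card_eq_fintype_card, Fintype.card_subtype]
  rw [h1]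
  calc 4 * Nat.card (Cfsg.IrrCharacter Q) = ∑ χ : Cfsg.IrrCharacter Q, 4 := by
        rw [Finset.sum_const, Finset.card_univ, Nat.card_eq_fintype_card, smul_eq_mul, mul_comm]
    _ ≤ ∑ χ : Cfsg.IrrCharacter Q,
          (Cfsg.charDegree (χ : Q → ℂ) ^ 2 + (if (χ : Q → ℂ) 1 = 1 then 3 else 0)) :=
        Finset.sum_le_sum (fun χ _ => hterm χ)
    _ = _ := by
        rw [Finset.sum_add_distrib, Finset.sum_ite, Finset.sum_const, Finset.sum_const_zero,
          add_zero, smul_eq_mul, mul_comm]

/-- a group with more than `|Q|/2` classes has `|Q'| ≤ 2` -/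
theorem card_commutator_le_two (Q : Type u) [Group Q] [Finite Q]
    (h : Nat.card Q < 2 * Nat.card (ConjClasses Q)) : Nat.card ↥(commutator Q) ≤ 2 := by
  have h1 := four_mul_card_conjClasses_le Q
  have h2 := Subgroup.card_mul_index (commutator Q)
  have hpos : 0 < (commutator Q).index := Nat.pos_of_ne_zero Subgroup.index_ne_zero_of_finite
  by_contra hlt
  push Not at hlt
  nlinarith

/-- a commutator subgroup of order at most `2` is central -/
theorem commutator_le_center_of_card_le_two (Q : Type*) [Group Q] [Finite Q]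
    (h : Nat.card ↥(commutator Q) ≤ 2) : commutator Q ≤ Subgroup.center Q := by
  classical
  intro z hz
  rw [Subgroup.mem_center_iff]
  intro g
  by_contra hne
  have hn : (commutator Q).Normal := inferInstance
  have hz' : g * z * g⁻¹ ∈ commutator Q := hn.conj_mem z hz g
  have h3 : 2 < Nat.card ↥(commutator Q) := by
    haveI := Fintype.ofFinite ↥(commutator Q)
    rw [Nat.card_eq_fintype_card, Fintype.two_lt_card_iff]
    refine ⟨1, ⟨z, hz⟩, ⟨g * z * g⁻¹, hz'⟩, ?_, ?_, ?_⟩
    · intro h1
      have : z = 1 := (congrArg Subtype.val h1).symm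
      apply hne
      rw [this, mul_one, one_mul]
    · intro h1
      have h2 : g * z * g⁻¹ = 1 := (congrArg Subtype.val h1).symm
      have : z = 1 := by
        calc z = g⁻¹ * (g * z * g⁻¹) * g := by group
          _ = 1 := by rw [h2]; group
      apply hne
      rw [this, mul_one, one_mul]
    · intro h1
      have h2 : z = g * z * g⁻¹ := congrArg Subtype.val h1
      apply hne
      calc g * z = (g * z * g⁻¹) * g := by group
        _ = z * g := by rw [← h2]
  omega

/-- the counting inequality with a bonus: three fused elements of `P` -/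
theorem two_mul_card_add_one_le (P : Sylow p G) (w x' x'' : ↥(P : Subgroup G)) (h1 : x' ≠ w)
    (h2 : x'' ≠ w) (h3 : x' ≠ x'') (hc1 : cls P x' = cls P w) (hc2 : cls P x'' = cls P w) :
    2 * Nat.card {C : ConjClasses G // PiClass {p} C} + 1 ≤
      Nat.card ↥(P : Subgroup G) + Nat.card {x : ↥(P : Subgroup G) // Isolated P (x : G)} := by
  classical
  let c : {x : ↥(P : Subgroup G) // x ≠ w} → {C : ConjClasses G // PiClass {p} C} :=
    fun x => cls P x.1
  have hc : Function.Surjective c := by
    intro C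
    obtain ⟨x, hx⟩ := cls_surjective P C
    by_cases hxw : x = w
    · exact ⟨⟨x', h1⟩, by simp only [c]; rw [hc1, ← hxw, hx]⟩
    · exact ⟨⟨x, hxw⟩, hx⟩
  have hcount := two_mul_card_le_of_surjective c hc
  have hX : Nat.card {x : ↥(P : Subgroup G) // x ≠ w} + 1 = Nat.card ↥(P : Subgroup G) := by
    rw [← Finite.card_option]
    exact Nat.card_congr (Equiv.optionSubtypeNe w)
  have hU : Nat.card {x : {x : ↥(P : Subgroup G) // x ≠ w} //
      ∀ y : {x : ↥(P : Subgroup G) // x ≠ w}, c y = c x → y = x} ≤
      Nat.card {x : ↥(P : Subgroup G) // Isolated P (x : G)} := by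
    have key : ∀ x : {x : {x : ↥(P : Subgroup G) // x ≠ w} //
        ∀ y : {x : ↥(P : Subgroup G) // x ≠ w}, c y = c x → y = x},
        Isolated P ((x.1.1 : ↥(P : Subgroup G)) : G) := by
      intro x
      refine ⟨x.1.1.2, ?_⟩
      intro g hg
      have hcls : cls P ⟨g⁻¹ * (x.1.1 : G) * g, hg⟩ = cls P x.1.1 := by
        rw [cls_eq_iff, ConjClasses.mk_eq_mk_iff_isConj, isConj_comm, isConj_iff]
        exact ⟨g⁻¹, by rw [inv_inv]⟩
      by_cases htw : (⟨g⁻¹ * (x.1.1 : G) * g, hg⟩ : ↥(P : Subgroup G)) = w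
      · exfalso
        have hxw : cls P x.1.1 = cls P w := by rw [← hcls, htw]
        by_cases hxx : x' = x.1.1
        · have := x.2 ⟨x'', h2⟩ (by simp only [c]; rw [hc2, hxw])
          apply h3
          rw [hxx]
          exact (congrArg Subtype.val this).symm
        · have := x.2 ⟨x', h1⟩ (by simp only [c]; rw [hc1, hxw])
          exact hxx (congrArg Subtype.val this)
      · have := x.2 ⟨⟨g⁻¹ * (x.1.1 : G) * g, hg⟩, htw⟩ (by simp only [c]; exact hcls)
        exact congrArg (fun z : {x : ↥(P : Subgroup G) // x ≠ w} =>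
          ((z.1 : ↥(P : Subgroup G)) : G)) this
    apply Nat.card_le_card_of_injective
      (fun x => (⟨x.1.1, key x⟩ : {x : ↥(P : Subgroup G) // Isolated P (x : G)}))
    intro a b hab
    simp only [Subtype.mk.injEq] at hab
    exact Subtype.ext (Subtype.ext hab)
  omega


/-- either a proper normal subgroup of `p`-power index exists, or `P` equals its focal subgroup -/
theorem exists_normal_or_focal (P : Sylow p G) :
    (∃ M : Subgroup G, M.Normal ∧ M ≠ ⊤ ∧ ∃ n : ℕ, M.index = p ^ n) ∨
      (P : Subgroup G).focalSubgroupOf = ⊤ := by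
  by_cases h : (P : Subgroup G).focalSubgroupOf = ⊤
  · right; exact h
  · left
    have e := Subgroup.transferFocal.quotientKerMulEquivQuotientFocalSubroupOf P
    refine ⟨(P : Subgroup G).transferFocal.ker, inferInstance, ?_, ?_⟩
    · intro htop
      apply h
      rw [← Subgroup.index_eq_one, Subgroup.index_eq_card, ← Nat.card_congr e.toEquiv,
        ← Subgroup.index_eq_card, htop, Subgroup.index_top]
    · obtain ⟨n, hn⟩ := P.2.index (P : Subgroup G).focalSubgroupOf
      refine ⟨n, ?_⟩
      rw [Subgroup.index_eq_card, Nat.card_congr e.toEquiv, ← Subgroup.index_eq_card, hn]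

/-- the case without proper normal subgroups of `2`-power index is contradictory -/
theorem false_of_caseB (P : Sylow 2 G) (hP : (P : Subgroup G) ≠ ⊥)
    (hyp : Nat.card ↥(P : Subgroup G) < 2 * Nat.card {C : ConjClasses G // PiClass {2} C})
    (hiso : ∀ x : ↥(P : Subgroup G), Isolated P (x : G) → x ∈ commutator ↥(P : Subgroup G))
    (hfoc : (P : Subgroup G).focalSubgroupOf = ⊤) : False := by
  classical
  have hkP := card_piClass_le_card_conjClasses_sylow P
  have hc2 : Nat.card ↥(commutator ↥(P : Subgroup G)) ≤ 2 :=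
    card_commutator_le_two _ (by omega)
  have hcen := commutator_le_center_of_card_le_two _ hc2
  have hs : Nat.card {x : ↥(P : Subgroup G) // Isolated P (x : G)} ≤
      Nat.card ↥(commutator ↥(P : Subgroup G)) := by
    apply Nat.card_le_card_of_injective
      (fun x : {x : ↥(P : Subgroup G) // Isolated P (x : G)} =>
        (⟨x.1, hiso x.1 x.2⟩ : ↥(commutator ↥(P : Subgroup G))))
    intro a b hab
    simp only [Subtype.mk.injEq] at hab
    exact Subtype.ext hab
  have heven : 2 ∣ Nat.card ↥(P : Subgroup G) := by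
    obtain ⟨n, hn⟩ := IsPGroup.iff_card.1 P.2
    have hn0 : n ≠ 0 := by
      rintro rfl
      rw [pow_zero] at hn
      exact hP (Subgroup.card_eq_one.1 hn)
    rw [hn]; exact dvd_pow_self 2 hn0
  have hcount := two_mul_card_le P
  have hN3 : ∀ a b c : ↥(P : Subgroup G), cls P b = cls P a → cls P c = cls P a →
      b = a ∨ c = a ∨ b = c := by
    intro a b c hb hc
    by_contra hne
    push Not at hne
    have := two_mul_card_add_one_le P a b c hne.1 hne.2.1 hne.2.2 hb hc
    omega
  have h6 : ∀ a b : ↥(P : Subgroup G), cls P b = cls P a →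
      a⁻¹ * b ∈ Subgroup.center ↥(P : Subgroup G) := by
    intro a b hab
    by_cases heq : b = a
    · rw [heq, inv_mul_cancel]; exact Subgroup.one_mem _
    by_cases ha : a ∈ Subgroup.center ↥(P : Subgroup G)
    · by_cases hb : b ∈ Subgroup.center ↥(P : Subgroup G)
      · exact Subgroup.mul_mem _ (Subgroup.inv_mem _ ha) hb
      · exfalso
        rw [Subgroup.mem_center_iff] at hb
        push Not at hb
        obtain ⟨u, hu⟩ := hb
        have hcu : cls P (u * b * u⁻¹) = cls P a := by rw [cls_conj, hab]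
        rcases hN3 a b (u * b * u⁻¹) hab hcu with h | h | h
        · exact heq h
        · rw [Subgroup.mem_center_iff] at ha
          apply heq
          calc b = u⁻¹ * (u * b * u⁻¹) * u := by group
            _ = u⁻¹ * a * u := by rw [h]
            _ = u⁻¹ * (a * u) := by group
            _ = u⁻¹ * (u * a) := by rw [ha u]
            _ = a := by group
        · apply hu
          calc u * b = (u * b * u⁻¹) * u := by group
            _ = b * u := by rw [← h]
    · rw [Subgroup.mem_center_iff] at ha
      push Not at ha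
      obtain ⟨u, hu⟩ := ha
      have hcu : cls P (u * a * u⁻¹) = cls P a := cls_conj P u a
      rcases hN3 a b (u * a * u⁻¹) hab hcu with h | h | h
      · exact absurd h heq
      · exfalso; apply hu
        calc u * a = (u * a * u⁻¹) * u := by group
          _ = a * u := by rw [h]
      · apply hcen
        rw [h]
        have : a⁻¹ * (u * a * u⁻¹) = ⁅a⁻¹, u⁆ := by rw [commutatorElement_def]; group
        rw [this]
        exact Subgroup.commutator_mem_commutator (Subgroup.mem_top _) (Subgroup.mem_top _)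
  have h7 : (P : Subgroup G).focalSubgroupOf ≤ Subgroup.center ↥(P : Subgroup G) := by
    rw [Subgroup.focalSubgroupOf_eq_closure, Subgroup.closure_le]
    rintro g ⟨x, hx, u, hg⟩
    have hmem : u * x⁻¹ * u⁻¹ ∈ (P : Subgroup G) := by
      have : u * x⁻¹ * u⁻¹ = x⁻¹ * (g : G) := by rw [hg, commutatorElement_def]; group
      rw [this]; exact (P : Subgroup G).mul_mem ((P : Subgroup G).inv_mem hx) g.2
    have hfus : cls P ⟨u * x⁻¹ * u⁻¹, hmem⟩ = cls P ⟨x⁻¹, (P : Subgroup G).inv_mem hx⟩ := by
      rw [cls_eq_iff, ConjClasses.mk_eq_mk_iff_isConj, isConj_comm, isConj_iff]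
      exact ⟨u, rfl⟩
    have h8 := h6 _ _ hfus
    have e : (⟨x⁻¹, (P : Subgroup G).inv_mem hx⟩ : ↥(P : Subgroup G))⁻¹ *
        ⟨u * x⁻¹ * u⁻¹, hmem⟩ = g := by
      apply Subtype.ext
      rw [hg, commutatorElement_def]
      push_cast
      group
    rw [e] at h8; exact h8
  have hct : Subgroup.center ↥(P : Subgroup G) = ⊤ := eq_top_iff.2 (hfoc ▸ h7)
  have hc1 : Nat.card ↥(commutator ↥(P : Subgroup G)) = 1 := by
    rw [Subgroup.card_eq_one]
    exact (commutator_eq_bot_iff_center_eq_top _).2 hct
  omega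

/-- a normal `p`-complement of a normal subgroup of `p`-power index is one of the whole group -/
theorem hasNormalPComplement_of_normal_index_pow (M : Subgroup G) [hMn : M.Normal] (m : ℕ)
    (hm : M.index = p ^ m) (hM : Cfsg.HasNormalPComplement p M) :
    Cfsg.HasNormalPComplement p G := by
  have hp : p.Prime := Fact.out
  obtain ⟨P', K, hKn, hcomp⟩ := hM
  haveI := hKn
  have hS86 : ∀ x : M, x ∈ K ↔ (orderOf x).Coprime p :=
    fun x => Cfsg.Agent.S0086.result P' K hcomp x
  have hK'n : (K.map M.subtype).Normal := by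
    constructor
    intro k hk g
    obtain ⟨x, hxK, rfl⟩ := hk
    have hmem : g * (x : G) * g⁻¹ ∈ M := hMn.conj_mem _ x.2 g
    have hxK' : x ∈ K := hxK
    rw [hS86] at hxK'
    have : orderOf (⟨g * (x : G) * g⁻¹, hmem⟩ : M) = orderOf x := by
      rw [← Subgroup.orderOf_coe, ← Subgroup.orderOf_coe]
      exact (MulEquiv.orderOf_eq (MulAut.conj g) (x : G))
    have hgoal : (⟨g * (x : G) * g⁻¹, hmem⟩ : M) ∈ K := by
      rw [hS86, this]; exact hxK'
    exact ⟨⟨g * (x : G) * g⁻¹, hmem⟩, hgoal, rfl⟩
  have hKcop : (Nat.card K).Coprime p := by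
    rw [Nat.coprime_comm, Nat.Prime.coprime_iff_not_dvd hp]
    intro hd
    obtain ⟨x, hx⟩ := exists_prime_orderOf_dvd_card' (G := K) p hd
    have h1 : ((x : M)) ∈ K := x.2
    rw [hS86, Subgroup.orderOf_coe, hx] at h1
    exact hp.ne_one ((Nat.coprime_self p).1 h1)
  have hK'cop : (Nat.card (K.map M.subtype)).Coprime p := by
    rw [Subgroup.card_map_of_injective M.subtype_injective]; exact hKcop
  obtain ⟨a, ha⟩ := IsPGroup.iff_card.1 P'.2
  have hidx : (K.map M.subtype).index = p ^ (a + m) := by
    rw [Subgroup.index_map_subtype, hm, hcomp.symm.index_eq_card, ha, pow_add]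
  exact Cfsg.Agent.Lib.Helper12.hasNormalPComplement_of_normal _ hK'n hK'cop (a + m) hidx

theorem forward2_aux : ∀ (n : ℕ) (G : Type u) [Group G] [Finite G], Nat.card G = n →
    ∀ (P : Sylow 2 G),
    Nat.card ↥(P : Subgroup G) < 2 * Nat.card {C : ConjClasses G // PiClass {2} C} →
    Cfsg.HasNormalPComplement 2 G := by
  intro n
  induction n using Nat.strong_induction_on with
  | _ n ih =>
  intro G _ _ hn P hyp
  have hp : (2 : ℕ).Prime := Nat.prime_two
  by_cases hP : (P : Subgroup G) = ⊥
  · have hnd : ¬ 2 ∣ Nat.card G := fun hd => P.ne_bot_of_dvd_card hd hP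
    apply Cfsg.Agent.Lib.Helper12.hasNormalPComplement_of_normal (⊤ : Subgroup G) inferInstance
      _ 0 (by simp)
    rw [Subgroup.card_top]
    exact ((Nat.Prime.coprime_iff_not_dvd hp).2 hnd).symm
  · by_cases hA : ∃ M : Subgroup G, M.Normal ∧ M ≠ ⊤ ∧ ∃ n : ℕ, M.index = 2 ^ n
    · obtain ⟨M, hMn, hMtop, m, hm⟩ := hA
      haveI := hMn
      obtain ⟨PM⟩ : Nonempty (Sylow 2 M) := inferInstance
      have hm0 : m ≠ 0 := by
        rintro rfl
        rw [pow_zero, Subgroup.index_eq_one] at hm
        exact hMtop hm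
      have hcardG : Nat.card G = Nat.card M * 2 ^ m := by rw [← hm, Subgroup.card_mul_index]
      have hlt : Nat.card M < n := by
        rw [← hn, hcardG]
        have : 2 ≤ 2 ^ m := by
          calc 2 = 2 ^ 1 := (pow_one 2).symm
            _ ≤ 2 ^ m := Nat.pow_le_pow_right (by norm_num) (Nat.one_le_iff_ne_zero.2 hm0)
        have hpos : 0 < Nat.card M := Nat.card_pos
        nlinarith
      have hPcard : Nat.card ↥(P : Subgroup G) = Nat.card ↥(PM : Subgroup M) * 2 ^ m := by
        rw [Sylow.card_eq_multiplicity, Sylow.card_eq_multiplicity, hcardG,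
          Nat.factorization_mul Nat.card_pos.ne' (pow_ne_zero m hp.ne_zero)]
        simp only [Finsupp.coe_add, Pi.add_apply]
        rw [hp.factorization_pow]
        simp [pow_add]
      have hk1 := card_piClasses_le M ({2} : Set ℕ)
      have hk2 : Nat.card {C : ConjClasses (G ⧸ M) // PiClass {2} C} ≤ 2 ^ m := by
        rw [← hm, Subgroup.index_eq_card]
        exact card_piClass_le_card _ _
      have hypM : Nat.card ↥(PM : Subgroup M) <
          2 * Nat.card {C : ConjClasses M // PiClass {2} C} := by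
        have h1 : Nat.card ↥(PM : Subgroup M) * 2 ^ m <
            2 * Nat.card {C : ConjClasses M // PiClass {2} C} * 2 ^ m := by
          calc Nat.card ↥(PM : Subgroup M) * 2 ^ m
              = Nat.card ↥(P : Subgroup G) := by rw [hPcard]
            _ < 2 * Nat.card {C : ConjClasses G // PiClass {2} C} := hyp
            _ ≤ 2 * (Nat.card {C : ConjClasses M // PiClass {2} C} *
                  Nat.card {C : ConjClasses (G ⧸ M) // PiClass {2} C}) :=
                Nat.mul_le_mul_left _ hk1
            _ ≤ 2 * (Nat.card {C : ConjClasses M // PiClass {2} C} * 2 ^ m) :=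
                Nat.mul_le_mul_left _ (Nat.mul_le_mul_left _ hk2)
            _ = 2 * Nat.card {C : ConjClasses M // PiClass {2} C} * 2 ^ m := by ring
        exact Nat.lt_of_mul_lt_mul_right h1
      have hM := ih (Nat.card M) hlt M rfl PM hypM
      exact hasNormalPComplement_of_normal_index_pow M m hm hM
    · exfalso
      apply false_of_caseB P hP hyp
      · intro x hx
        by_contra hx2
        exact hA (exists_normal_of_isolated hx hx2)
      · rcases exists_normal_or_focal P with h | h
        · exact absurd h hA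
        · exact h

/-- **Many classes of `2`-elements**: `|P| < 2 k_2(G)` iff `G` is `2`-nilpotent and
`|P| < 2 k(P)`. -/
theorem many_two_classes_iff (P : Sylow 2 G) :
    Nat.card ↥(P : Subgroup G) <
        2 * Nat.card {c : ConjClasses G // ∀ x ∈ c.carrier, ∃ k : ℕ, orderOf x = 2 ^ k} ↔
      Cfsg.HasNormalPComplement 2 G ∧
        Nat.card ↥(P : Subgroup G) < 2 * Nat.card (ConjClasses ↥(P : Subgroup G)) := by
  have e : Nat.card {c : ConjClasses G // ∀ x ∈ c.carrier, ∃ k : ℕ, orderOf x = 2 ^ k} =
      Nat.card {C : ConjClasses G // PiClass {2} C} :=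
    Nat.card_congr (Equiv.subtypeEquivRight (fun C => piClass_singleton_iff C))
  rw [e]
  constructor
  · intro h
    refine ⟨forward2_aux (Nat.card G) G rfl P h, ?_⟩
    have := card_piClass_le_card_conjClasses_sylow P
    omega
  · rintro ⟨h1, h2⟩
    have := card_conjClasses_sylow_le P h1
    omega

end Cfsg.Agent.Lib.Helper22.TwoClassCount
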