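import Mathlib
import Cfsg.Agent.Lib.Helper22.TwoClassCount
set_option autoImplicit false
set_option linter.unusedSectionVars false
set_option linter.style.haveILetI false
set_option linter.deprecated false
namespace Cfsg.Agent.Lib.Helper22.PiClassCount
open Cfsg.Agent.Lib.Helper22.PiClasses Cfsg.Agent.Lib.Helper22.PClassCount
open Cfsg.Agent.Lib.Helper22.TwoClassCount

universe u
variable {G : Type u} [Group G] [Finite G]

/-- the fibre over `y`: commuting pairs in the centralizer of `y`, first entry a `σ`-element -/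
abbrev Fib (σ : Set ℕ) (y : G) : Type u :=
  {p : G × G // IsPi σ p.1 ∧ p.1 * p.2 = p.2 * p.1 ∧ p.1 * y = y * p.1 ∧ p.2 * y = y * p.2}

/-- commuting pairs of the centralizer of `y` -/
noncomputable def fibEquiv (σ : Set ℕ) (y : G) : PP σ ↥(Subgroup.centralizer {y}) ≃ Fib σ y where
  toFun p := ⟨((p.1.1 : G), (p.1.2 : G)),
    IsPi.of_dvd p.2.1 (dvd_of_eq (Subgroup.orderOf_coe _)),
    congrArg Subtype.val p.2.2,
    Subgroup.mem_centralizer_singleton_iff.1 p.1.1.2,
    Subgroup.mem_centralizer_singleton_iff.1 p.1.2.2⟩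
  invFun q := ⟨(⟨q.1.1, Subgroup.mem_centralizer_singleton_iff.2 q.2.2.2.1⟩,
      ⟨q.1.2, Subgroup.mem_centralizer_singleton_iff.2 q.2.2.2.2⟩),
    IsPi.of_dvd q.2.1 (dvd_of_eq (Subgroup.orderOf_mk _ _)), Subtype.ext q.2.2.1⟩
  left_inv _ := rfl
  right_inv _ := rfl

/-- pairs `(y, g)` with `y` an `r`-element and `g` centralizing `y` -/
noncomputable def centEquiv (r : ℕ) :
    (Σ y : {y : G // IsPi ({r} : Set ℕ) y}, ↥(Subgroup.centralizer {y.1})) ≃
      PP ({r} : Set ℕ) G where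
  toFun s := ⟨(s.1.1, s.2.1), s.1.2, (Subgroup.mem_centralizer_singleton_iff.1 s.2.2).symm⟩
  invFun p := ⟨⟨p.1.1, p.2.1⟩, ⟨p.1.2, Subgroup.mem_centralizer_singleton_iff.2 p.2.2.symm⟩⟩
  left_inv _ := rfl
  right_inv _ := rfl

/-- splitting off the `r`-part -/
noncomputable def Psi (r : ℕ) (σ : Set ℕ) (p : PP (insert r σ) G) :
    Σ y : {y : G // IsPi ({r} : Set ℕ) y}, Fib σ y.1 :=
  ⟨⟨piPart {r} p.1.1, isPi_piPart {r} p.1.1⟩,
   ⟨(piPart' {r} p.1.1, p.1.2),
     (by
       intro q hq hd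
       have h1 : q ∈ insert r σ := (p.2.1.of_mem_zpowers (piPart'_mem {r} p.1.1)) q hq hd
       have h2 : q ∈ ({r} : Set ℕ)ᶜ := isPi_piPart' {r} p.1.1 q hq hd
       rcases h1 with h1 | h1
       · exact absurd h1 h2
       · exact h1),
     (commute_of_mem_zpowers (z := p.1.2) (x := p.1.1) p.2.2.symm
       (piPart'_mem {r} p.1.1)).eq.symm,
     (commute_zpowers (piPart'_mem {r} p.1.1) (piPart_mem {r} p.1.1)).eq,
     (commute_of_mem_zpowers (z := p.1.2) (x := p.1.1) p.2.2.symm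
       (piPart_mem {r} p.1.1)).eq⟩⟩

theorem Psi_injective (r : ℕ) (σ : Set ℕ) : Function.Injective (Psi (G := G) r σ) := by
  intro p q hpq
  have h1 := congrArg (fun s : Σ y : {y : G // IsPi ({r} : Set ℕ) y}, Fib σ y.1 =>
    (s.1.1, s.2.1.1, s.2.1.2)) hpq
  simp only [Psi, Prod.mk.injEq] at h1
  obtain ⟨hy, hz, hg⟩ := h1
  apply Subtype.ext
  apply Prod.ext
  · rw [← piPart_mul_piPart' {r} p.1.1, ← piPart_mul_piPart' {r} q.1.1, hy, hz]
  · exact hg

/-- `k_{σ ∪ r}(G) ≤ k_r(G) · B` when `B` bounds `k_σ` on all subgroups -/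
theorem card_piClass_insert_le (r : ℕ) (σ : Set ℕ) (B : ℕ)
    (hB : ∀ C : Subgroup G, Nat.card {c : ConjClasses ↥C // PiClass σ c} ≤ B) :
    Nat.card {c : ConjClasses G // PiClass (insert r σ) c} ≤
      Nat.card {c : ConjClasses G // PiClass ({r} : Set ℕ) c} * B := by
  classical
  haveI := Fintype.ofFinite {y : G // IsPi ({r} : Set ℕ) y}
  have h1 := card_piPairs (G := G) (insert r σ)
  have h2 := card_piPairs (G := G) ({r} : Set ℕ)
  have h3 : Nat.card (PP (insert r σ) G) ≤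
      Nat.card (Σ y : {y : G // IsPi ({r} : Set ℕ) y}, Fib σ y.1) :=
    Nat.card_le_card_of_injective _ (Psi_injective r σ)
  rw [Nat.card_sigma] at h3
  have h4 : ∀ y : {y : G // IsPi ({r} : Set ℕ) y},
      Nat.card (Fib σ y.1) ≤ B * Nat.card ↥(Subgroup.centralizer {y.1}) := by
    intro y
    rw [← Nat.card_congr (fibEquiv σ y.1), card_piPairs]
    exact Nat.mul_le_mul_right _ (hB _)
  have h5 : ∑ y : {y : G // IsPi ({r} : Set ℕ) y}, Nat.card ↥(Subgroup.centralizer {y.1}) =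
      Nat.card (PP ({r} : Set ℕ) G) := by
    rw [← Nat.card_sigma]
    exact Nat.card_congr (centEquiv r)
  have hpos : 0 < Nat.card G := Nat.card_pos
  apply Nat.le_of_mul_le_mul_right _ hpos
  calc Nat.card {c : ConjClasses G // PiClass (insert r σ) c} * Nat.card G
      = Nat.card (PP (insert r σ) G) := h1.symm
    _ ≤ ∑ y : {y : G // IsPi ({r} : Set ℕ) y}, Nat.card (Fib σ y.1) := h3
    _ ≤ ∑ y : {y : G // IsPi ({r} : Set ℕ) y},
          B * Nat.card ↥(Subgroup.centralizer {y.1}) := Finset.sum_le_sum (fun y _ => h4 y)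
    _ = B * Nat.card (PP ({r} : Set ℕ) G) := by rw [← Finset.mul_sum, h5]
    _ = Nat.card {c : ConjClasses G // PiClass ({r} : Set ℕ) c} * B * Nat.card G := by
        rw [h2]; ring

/-- the `σ`-part of a natural number -/
def piSize (σ : Finset ℕ) (n : ℕ) : ℕ := σ.prod (fun r => r ^ n.factorization r)

theorem piSize_pos (σ : Finset ℕ) (hσ : ∀ r ∈ σ, r.Prime) (n : ℕ) : 0 < piSize σ n :=
  Finset.prod_pos (fun q hq => pow_pos (hσ q hq).pos _)

theorem piSize_mono (σ : Finset ℕ) (hσ : ∀ r ∈ σ, r.Prime) {a b : ℕ} (hab : a ∣ b) (hb : b ≠ 0) :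
    piSize σ a ≤ piSize σ b := by
  have ha : a ≠ 0 := by
    rintro rfl
    exact hb (Nat.eq_zero_of_zero_dvd hab)
  apply Finset.prod_le_prod (fun _ _ => Nat.zero_le _)
  intro r hr
  exact Nat.pow_le_pow_right (hσ r hr).pos ((Nat.factorization_le_iff_dvd ha hb).2 hab r)

/-- `k_σ(X) ≤ |X|_σ` -/
theorem card_piClass_le_piSize (σ : Finset ℕ) : (∀ r ∈ σ, r.Prime) →
    ∀ (X : Type u) [Group X] [Finite X],
    Nat.card {c : ConjClasses X // PiClass (↑σ : Set ℕ) c} ≤ piSize σ (Nat.card X) := by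
  induction σ using Finset.induction_on with
  | empty =>
    intro _ X _ _
    rw [Finset.coe_empty]
    unfold piSize
    rw [Finset.prod_empty, Finite.card_le_one_iff_subsingleton]
    have key : ∀ C : {c : ConjClasses X // PiClass (∅ : Set ℕ) c}, C.1 = ConjClasses.mk 1 := by
      intro C
      obtain ⟨g, hg⟩ := ConjClasses.mk_surjective C.1
      have hpi : IsPi (∅ : Set ℕ) g := (isPi_iff_piClass ∅ g).2 (hg ▸ C.2)
      have h1 : orderOf g = 1 := by
        by_contra hne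
        obtain ⟨q, hq, hd⟩ := Nat.exists_prime_and_dvd hne
        exact hpi q hq hd
      rw [orderOf_eq_one_iff] at h1
      rw [← hg, h1]
    exact ⟨fun C D => Subtype.ext ((key C).trans (key D).symm)⟩
  | insert r σ hr ih =>
    intro hprime X _ _
    have hrp : r.Prime := hprime r (Finset.mem_insert_self r σ)
    haveI : Fact r.Prime := ⟨hrp⟩
    have hσ : ∀ q ∈ σ, q.Prime := fun q hq => hprime q (Finset.mem_insert_of_mem hq)
    have ihσ := ih hσ
    rw [Finset.coe_insert]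
    have hD := card_piClass_insert_le (G := X) r (↑σ : Set ℕ) (piSize σ (Nat.card X))
      (fun C => (ihσ ↥C).trans
        (piSize_mono σ hσ (Subgroup.card_subgroup_dvd_card C) Nat.card_pos.ne'))
    obtain ⟨P⟩ : Nonempty (Sylow r X) := inferInstance
    have h1 : Nat.card {c : ConjClasses X // PiClass ({r} : Set ℕ) c} ≤
        r ^ (Nat.card X).factorization r := by
      rw [← Sylow.card_eq_multiplicity P]
      exact (card_piClass_le_card_conjClasses_sylow P).trans
        (Nat.card_le_card_of_surjective ConjClasses.mk ConjClasses.mk_surjective)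
    calc _ ≤ _ := hD
      _ ≤ r ^ (Nat.card X).factorization r * piSize σ (Nat.card X) := Nat.mul_le_mul_right _ h1
      _ = piSize (insert r σ) (Nat.card X) := by unfold piSize; rw [Finset.prod_insert hr]

/-- `k_π(G) ≤ k_r(G) |G|_{π - r}` -/
theorem card_piClass_le_mul_erase (π : Finset ℕ) (hπ : ∀ r ∈ π, r.Prime) (r : ℕ) (hr : r ∈ π) :
    Nat.card {c : ConjClasses G // PiClass (↑π : Set ℕ) c} ≤
      Nat.card {c : ConjClasses G // PiClass ({r} : Set ℕ) c} *
        piSize (π.erase r) (Nat.card G) := by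
  have hσ : ∀ q ∈ π.erase r, q.Prime := fun q hq => hπ q (Finset.mem_of_mem_erase hq)
  have := card_piClass_insert_le (G := G) r (↑(π.erase r) : Set ℕ)
    (piSize (π.erase r) (Nat.card G))
    (fun C => (card_piClass_le_piSize (π.erase r) hσ ↥C).trans
      (piSize_mono _ hσ (Subgroup.card_subgroup_dvd_card C) Nat.card_pos.ne'))
  rw [← Finset.coe_insert, Finset.insert_erase hr] at this
  exact this

/-- many `π`-classes give many `r`-classes for each `r ∈ π` -/
theorem many_classes_prime (π : Finset ℕ) (hπ : ∀ r ∈ π, r.Prime) (p : ℕ) (hp : p ∈ π)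
    (hmin : ∀ r ∈ π, p ≤ r)
    (hk : (p + 1) * piSize π (Nat.card G) <
      2 * p * Nat.card {c : ConjClasses G // PiClass (↑π : Set ℕ) c})
    (r : ℕ) (hr : r ∈ π) [Fact r.Prime] (P : Sylow r G) :
    (r + 1) * Nat.card ↥(P : Subgroup G) <
      2 * r * Nat.card {c : ConjClasses G // PiClass ({r} : Set ℕ) c} := by
  have h1 := card_piClass_le_mul_erase (G := G) π hπ r hr
  have h2 : piSize π (Nat.card G) =
      Nat.card ↥(P : Subgroup G) * piSize (π.erase r) (Nat.card G) := by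
    unfold piSize
    rw [← Finset.mul_prod_erase π _ hr, Sylow.card_eq_multiplicity]
  have hE : 0 < piSize (π.erase r) (Nat.card G) :=
    piSize_pos _ (fun q hq => hπ q (Finset.mem_of_mem_erase hq)) _
  have hpr : p ≤ r := hmin r hr
  have hp0 : 0 < p := (hπ p hp).pos
  generalize Nat.card {c : ConjClasses G // PiClass (↑π : Set ℕ) c} = kπ at *
  generalize Nat.card {c : ConjClasses G // PiClass ({r} : Set ℕ) c} = kr at *
  generalize piSize (π.erase r) (Nat.card G) = E at *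
  generalize Nat.card ↥(P : Subgroup G) = c at *
  have h3 : (p + 1) * c < 2 * p * kr := by
    apply Nat.lt_of_mul_lt_mul_right (a := E)
    calc (p + 1) * c * E = (p + 1) * piSize π (Nat.card G) := by rw [h2]; ring
      _ < 2 * p * kπ := hk
      _ ≤ 2 * p * (kr * E) := Nat.mul_le_mul_left _ h1
      _ = 2 * p * kr * E := by ring
  apply Nat.lt_of_mul_lt_mul_left (a := p)
  calc p * ((r + 1) * c) = (p * r + p) * c := by ring
    _ ≤ (p * r + r) * c := Nat.mul_le_mul_right _ (Nat.add_le_add_left hpr _)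
    _ = r * ((p + 1) * c) := by ring
    _ < r * (2 * p * kr) := Nat.mul_lt_mul_of_pos_left h3 (lt_of_lt_of_le hp0 hpr)
    _ = p * (2 * r * kr) := by ring


/-- `G / N` is abelian when `N` is a normal complement of an abelian Sylow subgroup -/
theorem comm_mem_of_complement {r : ℕ} (P₀ : Sylow r G) (N : Subgroup G) [hNn : N.Normal]
    (hcomp : N.IsComplement' (P₀ : Subgroup G))
    (hab : ∀ a b : ↥(P₀ : Subgroup G), a * b = b * a) (a b : G) :
    (a * b)⁻¹ * (b * a) ∈ N := by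
  obtain ⟨⟨n₁, u₁⟩, h1⟩ := hcomp.2 a
  obtain ⟨⟨n₂, u₂⟩, h2⟩ := hcomp.2 b
  simp only at h1 h2
  rw [← QuotientGroup.eq, QuotientGroup.mk_mul, QuotientGroup.mk_mul, ← h1, ← h2,
    QuotientGroup.mk_mul, QuotientGroup.mk_mul]
  have e1 : ((n₁ : G) : G ⧸ N) = 1 := (QuotientGroup.eq_one_iff _).2 n₁.2
  have e2 : ((n₂ : G) : G ⧸ N) = 1 := (QuotientGroup.eq_one_iff _).2 n₂.2
  rw [e1, e2, one_mul, one_mul, ← QuotientGroup.mk_mul, ← QuotientGroup.mk_mul]
  have h3 : (u₁ : G) * (u₂ : G) = (u₂ : G) * (u₁ : G) := congrArg Subtype.val (hab u₁ u₂)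
  rw [h3]

/-- the set of `π'`-elements, a subgroup when all `r ∈ π` have normal complements -/
def piCompl (π : Finset ℕ) (hπ : ∀ r ∈ π, r.Prime)
    (h : ∀ r ∈ π, ∃ (P₀ : Sylow r G) (N : Subgroup G), N.Normal ∧
      N.IsComplement' (P₀ : Subgroup G) ∧ ∀ a b : ↥(P₀ : Subgroup G), a * b = b * a) :
    Subgroup G where
  carrier := {x | ∀ r ∈ π, (orderOf x).Coprime r}
  one_mem' := by
    intro r _
    rw [orderOf_one]
    exact Nat.coprime_one_left r
  mul_mem' := by
    intro x y hx hy r hr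
    obtain ⟨P₀, N, hNn, hcomp, -⟩ := h r hr
    haveI := hNn
    haveI : Fact r.Prime := ⟨hπ r hr⟩
    have h86 := Cfsg.Agent.S0086.result P₀ N hcomp
    exact (h86 (x * y)).1 (N.mul_mem ((h86 x).2 (hx r hr)) ((h86 y).2 (hy r hr)))
  inv_mem' := by
    intro x hx r hr
    rw [orderOf_inv]
    exact hx r hr

/-- normal complements and abelian Sylow subgroups for all `r ∈ π` give a normal `π`-complement
and an abelian Hall `π`-subgroup -/
theorem normal_pi_complement (π : Finset ℕ) (hπ : ∀ r ∈ π, r.Prime)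
    (h : ∀ r ∈ π, ∃ (P₀ : Sylow r G) (N : Subgroup G), N.Normal ∧
      N.IsComplement' (P₀ : Subgroup G) ∧ ∀ a b : ↥(P₀ : Subgroup G), a * b = b * a) :
    (∃ N : Subgroup G, N.Normal ∧ (∀ r : ℕ, r.Prime → r ∣ Nat.card ↥N → r ∉ π) ∧
      ∀ r : ℕ, r.Prime → r ∣ N.index → r ∈ π) ∧
    ∃ H : Subgroup G, Cfsg.IsPiHall (↑π : Set ℕ) H ∧ IsMulCommutative ↥H := by
  set N := piCompl π hπ h with hN
  have hmem : ∀ x, x ∈ N ↔ ∀ r ∈ π, (orderOf x).Coprime r := fun x => Iff.rfl
  have hNn : N.Normal := by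
    constructor
    intro x hx g
    rw [hmem] at hx ⊢
    intro r hr
    have : orderOf (g * x * g⁻¹) = orderOf x := MulEquiv.orderOf_eq (MulAut.conj g) x
    rw [this]
    exact hx r hr
  haveI := hNn
  have h1 : ∀ r : ℕ, r.Prime → r ∣ Nat.card ↥N → r ∉ π := by
    intro r hr hd hrπ
    haveI : Fact r.Prime := ⟨hr⟩
    obtain ⟨x, hx⟩ := exists_prime_orderOf_dvd_card' (G := N) r hd
    have h2 := (hmem (x : G)).1 x.2 r hrπ
    rw [Subgroup.orderOf_coe, hx] at h2
    exact hr.ne_one ((Nat.coprime_self r).1 h2)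
  have h2 : ∀ q : ℕ, q.Prime → q ∣ N.index → q ∈ π := by
    intro q hq hd
    by_contra hqπ
    haveI : Fact q.Prime := ⟨hq⟩
    obtain ⟨Q⟩ : Nonempty (Sylow q G) := inferInstance
    have hQN : (Q : Subgroup G) ≤ N := by
      intro x hx
      rw [hmem]
      intro r hr
      obtain ⟨j, hj⟩ := (Q.2.to_le (Subgroup.zpowers_le.2 hx)).exists_card_eq
      rw [Nat.card_zpowers] at hj
      rw [hj]
      exact Nat.Coprime.pow_left j
        ((Nat.coprime_primes hq (hπ r hr)).2 (fun e => hqπ (e ▸ hr)))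
    have hdvd : Nat.card ↥(Q : Subgroup G) ∣ Nat.card ↥N := Subgroup.card_dvd_of_le hQN
    rw [Sylow.card_eq_multiplicity] at hdvd
    have h3 : q ^ ((Nat.card G).factorization q + 1) ∣ Nat.card G := by
      rw [pow_succ]
      have h4 := Nat.mul_dvd_mul hdvd hd
      rwa [Subgroup.card_mul_index] at h4
    exact Nat.pow_succ_factorization_not_dvd Nat.card_pos.ne' hq h3
  have hcop : (Nat.card ↥N).Coprime N.index := by
    by_contra hnot
    obtain ⟨q, hq, hd1, hd2⟩ := Nat.Prime.not_coprime_iff_dvd.1 hnot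
    exact h1 q hq hd1 (h2 q hq hd2)
  refine ⟨⟨N, hNn, h1, h2⟩, ?_⟩
  obtain ⟨H, hH⟩ := Subgroup.exists_right_complement'_of_coprime hcop
  have hcardH : N.index = Nat.card ↥H := hH.symm.index_eq_card
  have hidxH : H.index = Nat.card ↥N := hH.index_eq_card
  refine ⟨H, ⟨?_, ?_⟩, ?_⟩
  · intro q hq hd
    rw [← hcardH] at hd
    exact Finset.mem_coe.2 (h2 q hq hd)
  · intro q hq hqπ hd
    rw [hidxH] at hd
    exact h1 q hq hd (Finset.mem_coe.1 hqπ)
  · refine ⟨⟨fun a b => ?_⟩⟩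
    have hcoe : (((a * b)⁻¹ * (b * a) : ↥H) : G) =
        ((a : G) * (b : G))⁻¹ * ((b : G) * (a : G)) := rfl
    have hcN : (((a * b)⁻¹ * (b * a) : ↥H) : G) ∈ N := by
      rw [hmem]
      intro r hr
      obtain ⟨P₀, Nr, hNrn, hcomp, hab⟩ := h r hr
      haveI := hNrn
      haveI : Fact r.Prime := ⟨hπ r hr⟩
      rw [hcoe]
      exact (Cfsg.Agent.S0086.result P₀ Nr hcomp _).1
        (comm_mem_of_complement P₀ Nr hcomp hab (a : G) (b : G))
    have hcH : (((a * b)⁻¹ * (b * a) : ↥H) : G) ∈ H := ((a * b)⁻¹ * (b * a)).2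
    have hd := hH.disjoint
    rw [Subgroup.disjoint_def] at hd
    have h3 : ((a * b)⁻¹ * (b * a) : ↥H) = 1 := Subtype.ext (hd hcN hcH)
    rw [inv_mul_eq_one] at h3
    exact h3

/-- the class predicate used in the statements, for a finite set of primes -/
theorem piClass_finset_iff (π : Finset ℕ) (C : ConjClasses G) :
    (∀ x ∈ C.carrier, ∀ r : ℕ, r.Prime → r ∣ orderOf x → r ∈ π) ↔ PiClass (↑π : Set ℕ) C := by
  constructor
  · rintro h q hq ⟨g, hg, hd⟩
    exact Finset.mem_coe.2 (h g (ConjClasses.mem_carrier_iff_mk_eq.2 hg) q hq hd)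
  · intro h x hx q hq hd
    exact Finset.mem_coe.1 (h q hq ⟨x, ConjClasses.mem_carrier_iff_mk_eq.1 hx, hd⟩)

/-- **Many classes of `π`-elements** (smallest member `p` of `π`): normal `π`-complement and
abelian Hall `π`-subgroup. -/
theorem many_pi_classes (π : Finset ℕ) (hπ : ∀ r ∈ π, r.Prime) (p : ℕ) (hp : p ∈ π)
    (hmin : ∀ r ∈ π, p ≤ r)
    (hk : (p + 1) * π.prod (fun r => r ^ (Nat.card G).factorization r) <
      2 * p * Nat.card {c : ConjClasses G //
        ∀ x ∈ c.carrier, ∀ r : ℕ, r.Prime → r ∣ orderOf x → r ∈ π}) :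
    (∃ N : Subgroup G, N.Normal ∧ (∀ r : ℕ, r.Prime → r ∣ Nat.card ↥N → r ∉ π) ∧
      ∀ r : ℕ, r.Prime → r ∣ N.index → r ∈ π) ∧
    ∃ H : Subgroup G, Cfsg.IsPiHall (↑π : Set ℕ) H ∧ IsMulCommutative ↥H := by
  have e : Nat.card {c : ConjClasses G //
      ∀ x ∈ c.carrier, ∀ r : ℕ, r.Prime → r ∣ orderOf x → r ∈ π} =
      Nat.card {c : ConjClasses G // PiClass (↑π : Set ℕ) c} :=
    Nat.card_congr (Equiv.subtypeEquivRight (fun C => piClass_finset_iff π C))
  rw [e] at hk
  change (p + 1) * piSize π (Nat.card G) < _ at hk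
  apply normal_pi_complement π hπ
  intro r hr
  haveI : Fact r.Prime := ⟨hπ r hr⟩
  obtain ⟨P⟩ : Nonempty (Sylow r G) := inferInstance
  have hr' := many_classes_prime π hπ p hp hmin hk r hr P
  obtain ⟨⟨P₀, N, hNn, hcomp⟩, -⟩ := forward P hr'
  have hr'' := many_classes_prime π hπ p hp hmin hk r hr P₀
  exact ⟨P₀, N, hNn, hcomp, (forward P₀ hr'').2⟩

end Cfsg.Agent.Lib.Helper22.PiClassCount
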