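import Mathlib
import Cfsg.Agent.Lib.Helper22.PiClassCount
set_option autoImplicit false
set_option linter.unusedSectionVars false
set_option linter.style.haveILetI false
set_option linter.deprecated false
namespace Cfsg.Agent.Lib.Helper22.PiClassTwo
open Cfsg.Agent.Lib.Helper22.PiClasses Cfsg.Agent.Lib.Helper22.PClassCount
open Cfsg.Agent.Lib.Helper22.TwoClassCount Cfsg.Agent.Lib.Helper22.PiClassCount

universe u
variable {G : Type u} [Group G] [Finite G]

/-- pairs `(y, g)` with `y` a `τ`-element and `g` centralizing `y` -/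
noncomputable def centEquivSet (τ : Set ℕ) :
    (Σ y : {y : G // IsPi τ y}, ↥(Subgroup.centralizer {y.1})) ≃ PP τ G where
  toFun s := ⟨(s.1.1, s.2.1), s.1.2, (Subgroup.mem_centralizer_singleton_iff.1 s.2.2).symm⟩
  invFun p := ⟨⟨p.1.1, p.2.1⟩, ⟨p.1.2, Subgroup.mem_centralizer_singleton_iff.2 p.2.2.symm⟩⟩
  left_inv _ := rfl
  right_inv _ := rfl

/-- splitting off the `τ`-part -/
noncomputable def PsiSet (τ σ : Set ℕ) (p : PP (τ ∪ σ) G) :
    Σ y : {y : G // IsPi τ y}, Fib σ y.1 :=
  ⟨⟨piPart τ p.1.1, isPi_piPart τ p.1.1⟩,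
   ⟨(piPart' τ p.1.1, p.1.2),
     (by
       intro q hq hd
       have h1 : q ∈ τ ∪ σ := (p.2.1.of_mem_zpowers (piPart'_mem τ p.1.1)) q hq hd
       have h2 : q ∈ τᶜ := isPi_piPart' τ p.1.1 q hq hd
       rcases h1 with h1 | h1
       · exact absurd h1 h2
       · exact h1),
     (commute_of_mem_zpowers (z := p.1.2) (x := p.1.1) p.2.2.symm
       (piPart'_mem τ p.1.1)).eq.symm,
     (commute_zpowers (piPart'_mem τ p.1.1) (piPart_mem τ p.1.1)).eq,
     (commute_of_mem_zpowers (z := p.1.2) (x := p.1.1) p.2.2.symm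
       (piPart_mem τ p.1.1)).eq⟩⟩

theorem PsiSet_injective (τ σ : Set ℕ) : Function.Injective (PsiSet (G := G) τ σ) := by
  intro p q hpq
  have h1 := congrArg (fun s : Σ y : {y : G // IsPi τ y}, Fib σ y.1 =>
    (s.1.1, s.2.1.1, s.2.1.2)) hpq
  simp only [PsiSet, Prod.mk.injEq] at h1
  obtain ⟨hy, hz, hg⟩ := h1
  apply Subtype.ext
  apply Prod.ext
  · rw [← piPart_mul_piPart' τ p.1.1, ← piPart_mul_piPart' τ q.1.1, hy, hz]
  · exact hg

/-- `k_{τ ∪ σ}(G) ≤ k_τ(G) · B` when `B` bounds `k_σ` on all subgroups -/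
theorem card_piClass_union_le (τ σ : Set ℕ) (B : ℕ)
    (hB : ∀ C : Subgroup G, Nat.card {c : ConjClasses ↥C // PiClass σ c} ≤ B) :
    Nat.card {c : ConjClasses G // PiClass (τ ∪ σ) c} ≤
      Nat.card {c : ConjClasses G // PiClass τ c} * B := by
  classical
  haveI := Fintype.ofFinite {y : G // IsPi τ y}
  have h1 := card_piPairs (G := G) (τ ∪ σ)
  have h2 := card_piPairs (G := G) τ
  have h3 : Nat.card (PP (τ ∪ σ) G) ≤
      Nat.card (Σ y : {y : G // IsPi τ y}, Fib σ y.1) :=
    Nat.card_le_card_of_injective _ (PsiSet_injective τ σ)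
  rw [Nat.card_sigma] at h3
  have h4 : ∀ y : {y : G // IsPi τ y},
      Nat.card (Fib σ y.1) ≤ B * Nat.card ↥(Subgroup.centralizer {y.1}) := by
    intro y
    rw [← Nat.card_congr (fibEquiv σ y.1), card_piPairs]
    exact Nat.mul_le_mul_right _ (hB _)
  have h5 : ∑ y : {y : G // IsPi τ y}, Nat.card ↥(Subgroup.centralizer {y.1}) =
      Nat.card (PP τ G) := by
    rw [← Nat.card_sigma]
    exact Nat.card_congr (centEquivSet τ)
  have hpos : 0 < Nat.card G := Nat.card_pos
  apply Nat.le_of_mul_le_mul_right _ hpos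
  calc Nat.card {c : ConjClasses G // PiClass (τ ∪ σ) c} * Nat.card G
      = Nat.card (PP (τ ∪ σ) G) := h1.symm
    _ ≤ ∑ y : {y : G // IsPi τ y}, Nat.card (Fib σ y.1) := h3
    _ ≤ ∑ y : {y : G // IsPi τ y},
          B * Nat.card ↥(Subgroup.centralizer {y.1}) := Finset.sum_le_sum (fun y _ => h4 y)
    _ = B * Nat.card (PP τ G) := by rw [← Finset.mul_sum, h5]
    _ = Nat.card {c : ConjClasses G // PiClass τ c} * B * Nat.card G := by
        rw [h2]; ring

/-- a group whose order is prime to `σ` has a single `σ`-class -/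
theorem card_piClass_le_one_of_coprime (X : Type*) [Group X] [Finite X] (σ : Set ℕ)
    (h : ∀ q ∈ σ, q.Prime → ¬ q ∣ Nat.card X) :
    Nat.card {C : ConjClasses X // PiClass σ C} ≤ 1 := by
  rw [Finite.card_le_one_iff_subsingleton]
  have key : ∀ C : {C : ConjClasses X // PiClass σ C}, C.1 = ConjClasses.mk 1 := by
    intro C
    obtain ⟨g, hg⟩ := ConjClasses.mk_surjective C.1
    have hpi : IsPi σ g := (isPi_iff_piClass σ g).2 (hg ▸ C.2)
    have h1 : orderOf g = 1 := by
      by_contra hne
      obtain ⟨q, hq, hd⟩ := Nat.exists_prime_and_dvd hne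
      exact h q (hpi q hq hd) hq (hd.trans (orderOf_dvd_natCard g))
    rw [orderOf_eq_one_iff] at h1
    rw [← hg, h1]
  exact ⟨fun C D => Subtype.ext ((key C).trans (key D).symm)⟩

/-- a surjection onto an abelian group of order divisible by `r` gives a proper normal subgroup
of `r`-power index -/
theorem exists_normal_of_surjective_hom {A : Type*} [CommGroup A] [Finite A] (r : ℕ)
    [Fact r.Prime] (f : G →* A) (hf : Function.Surjective f) (hr : r ∣ Nat.card A) :
    ∃ M : Subgroup G, M.Normal ∧ M ≠ ⊤ ∧ ∃ n : ℕ, M.index = r ^ n := by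
  have hrp : r.Prime := Fact.out
  have hA0 : Nat.card A ≠ 0 := Nat.card_pos.ne'
  set v := (Nat.card A).factorization r with hv
  set c := Nat.card A / r ^ v with hc
  have hcard : r ^ v * c = Nat.card A := Nat.ordProj_mul_ordCompl_eq_self _ _
  have hcr : ¬ r ∣ c := Nat.not_dvd_ordCompl hrp hA0
  let g : G →* A := (powMonoidHom c).comp f
  refine ⟨g.ker, inferInstance, ?_, ?_⟩
  · intro htop
    obtain ⟨a, ha⟩ := exists_prime_orderOf_dvd_card' (G := A) r hr
    obtain ⟨x, rfl⟩ := hf a
    have hx : x ∈ g.ker := by rw [htop]; exact Subgroup.mem_top x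
    rw [MonoidHom.mem_ker] at hx
    have h1 : (f x) ^ c = 1 := hx
    have h2 : orderOf (f x) ∣ c := orderOf_dvd_of_pow_eq_one h1
    rw [ha] at h2
    exact hcr h2
  · rw [Subgroup.index_ker]
    have hp : IsPGroup r ↥g.range := by
      rintro ⟨y, x, rfl⟩
      refine ⟨v, Subtype.ext ?_⟩
      show ((f x) ^ c) ^ r ^ v = 1
      rw [← pow_mul, mul_comm, hcard]
      exact pow_card_eq_one'
    obtain ⟨n, hn⟩ := IsPGroup.iff_card.1 hp
    exact ⟨n, hn⟩

/-- counting with no fibre of size two: `3|α| ≤ |X| + 2 #{singleton fibres}` -/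
theorem three_mul_card_le_of_surjective {X α : Type*} [Finite X] [Finite α] (c : X → α)
    (hc : Function.Surjective c)
    (h2 : ∀ x y : X, x ≠ y → c x = c y → ∃ z, z ≠ x ∧ z ≠ y ∧ c z = c x) :
    3 * Nat.card α ≤ Nat.card X + 2 * Nat.card {x : X // ∀ y : X, c y = c x → y = x} := by
  classical
  haveI := Fintype.ofFinite X
  haveI := Fintype.ofFinite α
  set U : Finset X := Finset.univ.filter (fun x => ∀ y : X, c y = c x → y = x) with hU
  have hX : Nat.card X = ∑ a : α, (Finset.univ.filter (fun x : X => c x = a)).card := by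
    rw [Nat.card_eq_fintype_card, ← Finset.card_univ]
    exact Finset.card_eq_sum_card_fiberwise (fun x _ => Finset.mem_univ _)
  have hUc : Nat.card {x : X // ∀ y : X, c y = c x → y = x} =
      ∑ a : α, (U.filter (fun x : X => c x = a)).card := by
    rw [Nat.card_eq_fintype_card, Fintype.card_subtype]
    exact Finset.card_eq_sum_card_fiberwise (fun x _ => Finset.mem_univ _)
  have hterm : ∀ a : α, 3 ≤ (Finset.univ.filter (fun x : X => c x = a)).card +
      2 * (U.filter (fun x : X => c x = a)).card := by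
    intro a
    obtain ⟨x, hx⟩ := hc a
    by_cases hxu : ∀ y : X, c y = c x → y = x
    · have h1 : 0 < (Finset.univ.filter (fun x : X => c x = a)).card :=
        Finset.card_pos.2 ⟨x, by simp [hx]⟩
      have h3 : 0 < (U.filter (fun x : X => c x = a)).card :=
        Finset.card_pos.2 ⟨x, by simp [hU, hx]; exact fun y hy => hxu y (hy.trans hx.symm)⟩
      omega
    · push Not at hxu
      obtain ⟨y, hy1, hy2⟩ := hxu
      obtain ⟨z, hz1, hz2, hz3⟩ := h2 y x hy2 hy1
      have hsub : ({x, y, z} : Finset X) ⊆ Finset.univ.filter (fun x : X => c x = a) := by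
        intro w hw
        simp only [Finset.mem_insert, Finset.mem_singleton] at hw
        simp only [Finset.mem_filter, Finset.mem_univ, true_and]
        rcases hw with rfl | rfl | rfl
        · exact hx
        · rw [hy1, hx]
        · rw [hz3, hy1, hx]
      have h3 : ({x, y, z} : Finset X).card = 3 := by
        rw [Finset.card_eq_three]
        exact ⟨x, y, z, hy2.symm, hz2.symm, hz1.symm, rfl⟩
      have := Finset.card_le_card hsub
      omega
  calc 3 * Nat.card α = ∑ _a : α, 3 := by
        rw [Finset.sum_const, Finset.card_univ, Nat.card_eq_fintype_card, smul_eq_mul, mul_comm]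
    _ ≤ ∑ a : α, ((Finset.univ.filter (fun x : X => c x = a)).card +
          2 * (U.filter (fun x : X => c x = a)).card) := Finset.sum_le_sum (fun a _ => hterm a)
    _ = _ := by rw [Finset.sum_add_distrib, ← Finset.mul_sum, ← hX, ← hUc]


/-- in a group of odd order, a fusion class in an abelian Sylow subgroup never has exactly two
elements -/
theorem no_fibre_of_size_two {r : ℕ} [Fact r.Prime] (R : Sylow r G) (hodd : Odd (Nat.card G))
    (hab : ∀ a b : ↥(R : Subgroup G), a * b = b * a)
    (x y : ↥(R : Subgroup G)) (hxy : x ≠ y) (hc : cls R x = cls R y) :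
    ∃ z : ↥(R : Subgroup G), z ≠ x ∧ z ≠ y ∧ cls R z = cls R x := by
  by_contra hno
  push Not at hno
  have hfus : ∀ z : ↥(R : Subgroup G), cls R z = cls R x → z = x ∨ z = y := by
    intro z hz
    by_contra h
    push Not at h
    exact hno z h.1 h.2 hz
  rw [cls_eq_iff, ConjClasses.mk_eq_mk_iff_isConj, isConj_iff] at hc
  obtain ⟨g, hg⟩ := hc
  have hRC : (R : Subgroup G) ≤ Subgroup.centralizer {(y : G)} := by
    intro u hu
    rw [Subgroup.mem_centralizer_singleton_iff]
    exact congrArg Subtype.val (hab ⟨u, hu⟩ y)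
  have hQC : (R : Subgroup G).map (MulAut.conj g).toMonoidHom ≤
      Subgroup.centralizer {(y : G)} := by
    rintro _ ⟨u, hu, rfl⟩
    rw [Subgroup.mem_centralizer_singleton_iff]
    show g * u * g⁻¹ * y = y * (g * u * g⁻¹)
    rw [← hg]
    have : u * (x : G) = (x : G) * u := congrArg Subtype.val (hab ⟨u, hu⟩ x)
    calc g * u * g⁻¹ * (g * x * g⁻¹) = g * (u * x) * g⁻¹ := by group
      _ = g * (x * u) * g⁻¹ := by rw [this]
      _ = g * x * g⁻¹ * (g * u * g⁻¹) := by group
  have hQp : IsPGroup r ↥((R : Subgroup G).map (MulAut.conj g).toMonoidHom) := R.2.map _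
  obtain ⟨c, hcC, hcR⟩ := Cfsg.Agent.Lib.Helper12.exists_conj_mem_sylow R
    (Subgroup.centralizer {(y : G)}) _ hRC hQC hQp
  rw [Subgroup.mem_centralizer_singleton_iff] at hcC
  have hn : ∀ u ∈ (R : Subgroup G), (c * g) * u * (c * g)⁻¹ ∈ (R : Subgroup G) := by
    intro u hu
    have h1 := hcR (g * u * g⁻¹) ⟨u, hu, rfl⟩
    have h2 : (c * g) * u * (c * g)⁻¹ = c * (g * u * g⁻¹) * c⁻¹ := by group
    rw [h2]; exact h1
  have hnx : (c * g) * x * (c * g)⁻¹ = y := by
    calc (c * g) * x * (c * g)⁻¹ = c * (g * x * g⁻¹) * c⁻¹ := by group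
      _ = c * y * c⁻¹ := by rw [hg]
      _ = y := by rw [hcC]; group
  generalize c * g = n at hn hnx
  have hny := hn y y.2
  have hcls : cls R ⟨n * y * n⁻¹, hny⟩ = cls R x := by
    rw [cls_eq_iff, ConjClasses.mk_eq_mk_iff_isConj, isConj_comm, isConj_iff]
    refine ⟨n * n, ?_⟩
    show n * n * x * (n * n)⁻¹ = n * y * n⁻¹
    rw [← hnx]; group
  have hny2 : n * y * n⁻¹ = x := by
    rcases hfus _ hcls with h | h
    · exact congrArg Subtype.val h
    · exfalso
      have h' : n * y * n⁻¹ = y := congrArg Subtype.val h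
      apply hxy
      apply Subtype.ext
      have : n * (x : G) * n⁻¹ = n * (y : G) * n⁻¹ := by rw [hnx, h']
      exact mul_left_cancel (mul_right_cancel this)
  have hcomm2 : Commute (n ^ 2) (x : G) := by
    show n ^ 2 * x = x * n ^ 2
    have : n * (n * x * n⁻¹) * n⁻¹ = x := by rw [hnx, hny2]
    calc n ^ 2 * x = n * n * x := by rw [pow_two]
      _ = (n * (n * x * n⁻¹) * n⁻¹) * (n * n) := by group
      _ = x * (n * n) := by rw [this]
      _ = x * n ^ 2 := by rw [pow_two]
  have hoddn : Odd (orderOf n) := Odd.of_dvd_nat hodd (orderOf_dvd_natCard n)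
  obtain ⟨j, hj⟩ := hoddn
  have hpow : (n ^ 2) ^ (j + 1) = n := by
    rw [← pow_mul]
    have : 2 * (j + 1) = orderOf n + 1 := by omega
    rw [this, pow_succ, pow_orderOf_eq_one, one_mul]
  have hcomm : Commute n (x : G) := by
    rw [← hpow]; exact hcomm2.pow_left _
  apply hxy
  apply Subtype.ext
  rw [← hnx]
  calc (x : G) = (x : G) * n * n⁻¹ := by group
    _ = n * x * n⁻¹ := by rw [hcomm.eq]

/-- Sylow orders along a subgroup -/
theorem sylow_card_eq_of_index (M : Subgroup G) (q : ℕ) [Fact q.Prime] (SG : Sylow q G)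
    (SM : Sylow q M) :
    Nat.card ↥(SG : Subgroup G) = Nat.card ↥(SM : Subgroup M) * q ^ (M.index).factorization q := by
  rw [Sylow.card_eq_multiplicity, Sylow.card_eq_multiplicity, ← Subgroup.card_mul_index M,
    Nat.factorization_mul Nat.card_pos.ne' Subgroup.index_ne_zero_of_finite]
  simp only [Finsupp.coe_add, Pi.add_apply]
  rw [pow_add]

/-- `k_q` of a subgroup is at most the order of a Sylow `q`-subgroup of the whole group -/
theorem card_pClass_subgroup_le (q : ℕ) [Fact q.Prime] (S : Sylow q G) (C : Subgroup G) :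
    Nat.card {c : ConjClasses ↥C // PiClass ({q} : Set ℕ) c} ≤ Nat.card ↥(S : Subgroup G) := by
  have hq : q.Prime := Fact.out
  obtain ⟨SC⟩ : Nonempty (Sylow q C) := inferInstance
  calc Nat.card {c : ConjClasses ↥C // PiClass ({q} : Set ℕ) c}
      ≤ Nat.card (ConjClasses ↥(SC : Subgroup C)) := card_piClass_le_card_conjClasses_sylow SC
    _ ≤ Nat.card ↥(SC : Subgroup C) :=
        Nat.card_le_card_of_surjective ConjClasses.mk ConjClasses.mk_surjective
    _ ≤ Nat.card ↥(S : Subgroup G) := by
        rw [sylow_card_eq_of_index C q S SC]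
        exact Nat.le_mul_of_pos_right _ (pow_pos hq.pos _)

/-- an odd Sylow subgroup with many classes is abelian -/
theorem sylow_comm_of_many {r : ℕ} [Fact r.Prime] (hr2 : r ≠ 2) (R : Sylow r G)
    (h : Nat.card ↥(R : Subgroup G) <
      2 * Nat.card {c : ConjClasses G // PiClass ({r} : Set ℕ) c}) :
    ∀ a b : ↥(R : Subgroup G), a * b = b * a := by
  have hrp : r.Prime := Fact.out
  have hk := card_piClass_le_card_conjClasses_sylow R
  have hc2 : Nat.card ↥(commutator ↥(R : Subgroup G)) ≤ 2 :=
    card_commutator_le_two _ (by omega)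
  have hdvd : Nat.card ↥(commutator ↥(R : Subgroup G)) ∣ Nat.card ↥(R : Subgroup G) :=
    Subgroup.card_subgroup_dvd_card _
  obtain ⟨a, ha⟩ := IsPGroup.iff_card.1 R.2
  have hpos : 0 < Nat.card ↥(commutator ↥(R : Subgroup G)) := Nat.card_pos
  have hne2 : Nat.card ↥(commutator ↥(R : Subgroup G)) ≠ 2 := by
    intro h2
    rw [h2, ha] at hdvd
    have := (Nat.prime_dvd_prime_iff_eq Nat.prime_two hrp).1 (Nat.prime_two.dvd_of_dvd_pow hdvd)
    exact hr2 this.symm
  have h1 : Nat.card ↥(commutator ↥(R : Subgroup G)) = 1 := by omega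
  rw [Subgroup.card_eq_one, commutator_eq_bot_iff_center_eq_top] at h1
  intro x y
  have hy : y ∈ Subgroup.center ↥(R : Subgroup G) := by rw [h1]; exact Subgroup.mem_top y
  rw [Subgroup.mem_center_iff] at hy
  exact hy x

/-- the image in `G` of a normal `p`-complement of a normal subgroup `M` is normal in `G`, of
order prime to `p` -/
theorem normal_map_of_complement {p : ℕ} [Fact p.Prime] (M : Subgroup G) [hMn : M.Normal]
    (P' : Sylow p M) (K : Subgroup M) [K.Normal] (hcomp : K.IsComplement' (P' : Subgroup M)) :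
    (K.map M.subtype).Normal ∧ (Nat.card ↥(K.map M.subtype)).Coprime p := by
  have hp : p.Prime := Fact.out
  have hS86 : ∀ x : M, x ∈ K ↔ (orderOf x).Coprime p :=
    fun x => Cfsg.Agent.S0086.result P' K hcomp x
  constructor
  · constructor
    intro k hk g
    obtain ⟨x, hxK, rfl⟩ := hk
    have hmem : g * (x : G) * g⁻¹ ∈ M := hMn.conj_mem _ x.2 g
    have hxK' : x ∈ K := hxK
    rw [hS86] at hxK'
    have : orderOf (⟨g * (x : G) * g⁻¹, hmem⟩ : M) = orderOf x := by
      rw [← Subgroup.orderOf_coe, ← Subgroup.orderOf_coe]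
      exact (MulEquiv.orderOf_eq (MulAut.conj g) (x : G))
    have hgoal : (⟨g * (x : G) * g⁻¹, hmem⟩ : M) ∈ K := by
      rw [hS86, this]; exact hxK'
    exact ⟨⟨g * (x : G) * g⁻¹, hmem⟩, hgoal, rfl⟩
  · rw [Subgroup.card_map_of_injective M.subtype_injective, Nat.coprime_comm,
      Nat.Prime.coprime_iff_not_dvd hp]
    intro hd
    obtain ⟨x, hx⟩ := exists_prime_orderOf_dvd_card' (G := K) p hd
    have h1 : ((x : M)) ∈ K := x.2
    rw [hS86, Subgroup.orderOf_coe, hx] at h1
    exact hp.ne_one ((Nat.coprime_self p).1 h1)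


theorem factorization_pow_self {r : ℕ} (hr : r.Prime) (m : ℕ) : (r ^ m).factorization r = m := by
  rw [hr.factorization_pow]; simp

theorem factorization_pow_ne {r q : ℕ} (hr : r.Prime) (hq : q ≠ r) (m : ℕ) :
    (r ^ m).factorization q = 0 := by
  rw [hr.factorization_pow]; simp [hq.symm]

/-- the `{2, r}`-version: many `{2,r}`-classes force a normal `r`-complement -/
theorem two_r_aux (r : ℕ) [Fact r.Prime] (hr2 : r ≠ 2) :
    ∀ (n : ℕ) (G : Type u) [Group G] [Finite G], Nat.card G = n →
    ∀ (P : Sylow 2 G) (R : Sylow r G),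
    Nat.card ↥(P : Subgroup G) * Nat.card ↥(R : Subgroup G) <
      2 * Nat.card {c : ConjClasses G // PiClass ({2, r} : Set ℕ) c} →
    Cfsg.HasNormalPComplement r G := by
  intro n
  induction n using Nat.strong_induction_on with
  | _ n ih =>
  intro G _ _ hn P R hyp
  have hrp : r.Prime := Fact.out
  have h2p : (2 : ℕ).Prime := Nat.prime_two
  have hPpos : 0 < Nat.card ↥(P : Subgroup G) := Nat.card_pos
  have hRpos : 0 < Nat.card ↥(R : Subgroup G) := Nat.card_pos
  have hk2 : Nat.card {c : ConjClasses G // PiClass ({2, r} : Set ℕ) c} ≤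
      Nat.card {c : ConjClasses G // PiClass ({2} : Set ℕ) c} * Nat.card ↥(R : Subgroup G) :=
    card_piClass_insert_le 2 ({r} : Set ℕ) _ (fun C => card_pClass_subgroup_le r R C)
  have hkr : Nat.card {c : ConjClasses G // PiClass ({2, r} : Set ℕ) c} ≤
      Nat.card {c : ConjClasses G // PiClass ({r} : Set ℕ) c} * Nat.card ↥(P : Subgroup G) := by
    have h := card_piClass_insert_le (G := G) r ({2} : Set ℕ) _
      (fun C => card_pClass_subgroup_le 2 P C)
    rw [show (insert r ({2} : Set ℕ)) = ({2, r} : Set ℕ) from Set.pair_comm r 2] at h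
    exact h
  have hd2 : Nat.card ↥(P : Subgroup G) <
      2 * Nat.card {c : ConjClasses G // PiClass ({2} : Set ℕ) c} := by
    apply Nat.lt_of_mul_lt_mul_right (a := Nat.card ↥(R : Subgroup G))
    calc _ < _ := hyp
      _ ≤ 2 * (Nat.card {c : ConjClasses G // PiClass ({2} : Set ℕ) c} *
            Nat.card ↥(R : Subgroup G)) := Nat.mul_le_mul_left _ hk2
      _ = _ := by ring
  have hdr : Nat.card ↥(R : Subgroup G) <
      2 * Nat.card {c : ConjClasses G // PiClass ({r} : Set ℕ) c} := by
    apply Nat.lt_of_mul_lt_mul_right (a := Nat.card ↥(P : Subgroup G))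
    calc Nat.card ↥(R : Subgroup G) * Nat.card ↥(P : Subgroup G)
        = Nat.card ↥(P : Subgroup G) * Nat.card ↥(R : Subgroup G) := mul_comm _ _
      _ < _ := hyp
      _ ≤ 2 * (Nat.card {c : ConjClasses G // PiClass ({r} : Set ℕ) c} *
            Nat.card ↥(P : Subgroup G)) := Nat.mul_le_mul_left _ hkr
      _ = _ := by ring
  by_cases hR : (R : Subgroup G) = ⊥
  · have hnd : ¬ r ∣ Nat.card G := fun hd => R.ne_bot_of_dvd_card hd hR
    apply Cfsg.Agent.Lib.Helper12.hasNormalPComplement_of_normal (⊤ : Subgroup G) inferInstance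
      _ 0 (by simp)
    rw [Subgroup.card_top]
    exact ((Nat.Prime.coprime_iff_not_dvd hrp).2 hnd).symm
  by_cases hA : ∃ M : Subgroup G, M.Normal ∧ M ≠ ⊤ ∧ ∃ n : ℕ, M.index = r ^ n
  · obtain ⟨M, hMn, hMtop, m, hm⟩ := hA
    haveI := hMn
    obtain ⟨PM⟩ : Nonempty (Sylow 2 M) := inferInstance
    obtain ⟨RM⟩ : Nonempty (Sylow r M) := inferInstance
    have hm0 : m ≠ 0 := by
      rintro rfl
      rw [pow_zero, Subgroup.index_eq_one] at hm
      exact hMtop hm
    have hcardG : Nat.card G = Nat.card M * r ^ m := by rw [← hm, Subgroup.card_mul_index]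
    have hlt : Nat.card M < n := by
      rw [← hn, hcardG]
      have : 2 ≤ r ^ m := by
        calc 2 ≤ r := hrp.two_le
          _ = r ^ 1 := (pow_one r).symm
          _ ≤ r ^ m := Nat.pow_le_pow_right hrp.pos (Nat.one_le_iff_ne_zero.2 hm0)
      have hpos : 0 < Nat.card M := Nat.card_pos
      nlinarith
    have hPcard : Nat.card ↥(P : Subgroup G) = Nat.card ↥(PM : Subgroup M) := by
      rw [sylow_card_eq_of_index M 2 P PM, hm, factorization_pow_ne hrp (Ne.symm hr2), pow_zero,
        mul_one]
    have hRcard : Nat.card ↥(R : Subgroup G) = Nat.card ↥(RM : Subgroup M) * r ^ m := by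
      rw [sylow_card_eq_of_index M r R RM, hm, factorization_pow_self hrp]
    have hk1 := card_piClasses_le M ({2, r} : Set ℕ)
    have hk2' : Nat.card {C : ConjClasses (G ⧸ M) // PiClass ({2, r} : Set ℕ) C} ≤ r ^ m := by
      rw [← hm, Subgroup.index_eq_card]
      exact card_piClass_le_card _ _
    have hypM : Nat.card ↥(PM : Subgroup M) * Nat.card ↥(RM : Subgroup M) <
        2 * Nat.card {c : ConjClasses M // PiClass ({2, r} : Set ℕ) c} := by
      apply Nat.lt_of_mul_lt_mul_right (a := r ^ m)
      calc Nat.card ↥(PM : Subgroup M) * Nat.card ↥(RM : Subgroup M) * r ^ m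
          = Nat.card ↥(P : Subgroup G) * Nat.card ↥(R : Subgroup G) := by
            rw [hPcard, hRcard]; ring
        _ < _ := hyp
        _ ≤ 2 * (Nat.card {c : ConjClasses M // PiClass ({2, r} : Set ℕ) c} *
              Nat.card {C : ConjClasses (G ⧸ M) // PiClass ({2, r} : Set ℕ) C}) :=
            Nat.mul_le_mul_left _ hk1
        _ ≤ 2 * (Nat.card {c : ConjClasses M // PiClass ({2, r} : Set ℕ) c} * r ^ m) :=
            Nat.mul_le_mul_left _ (Nat.mul_le_mul_left _ hk2')
        _ = _ := by ring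
    exact hasNormalPComplement_of_normal_index_pow M m hm
      (ih (Nat.card M) hlt M rfl PM RM hypM)
  · exfalso
    have hR2 : 2 ≤ Nat.card ↥(R : Subgroup G) := by
      have : Nat.card ↥(R : Subgroup G) ≠ 1 := fun h => hR (Subgroup.card_eq_one.1 h)
      omega
    by_cases hP : (P : Subgroup G) = ⊥
    · -- odd order
      have hodd : Odd (Nat.card G) := by
        rw [← Nat.not_even_iff_odd, even_iff_two_dvd]
        exact fun hd => P.ne_bot_of_dvd_card hd hP
      have hab := sylow_comm_of_many hr2 R hdr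
      have hcen : Subgroup.center ↥(R : Subgroup G) = ⊤ := by
        rw [eq_top_iff]
        intro y _
        rw [Subgroup.mem_center_iff]
        intro x
        exact hab x y
      have hcb : commutator ↥(R : Subgroup G) = ⊥ :=
        (commutator_eq_bot_iff_center_eq_top _).2 hcen
      have hiso : ∀ x : ↥(R : Subgroup G), Isolated R (x : G) → x = 1 := by
        intro x hx
        by_contra hx1
        apply hA
        apply exists_normal_of_isolated hx
        rw [hcb, Subgroup.mem_bot]
        exact hx1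
      have hs : Nat.card {x : ↥(R : Subgroup G) // Isolated R (x : G)} ≤ 1 := by
        rw [Finite.card_le_one_iff_subsingleton]
        exact ⟨fun a b => Subtype.ext ((hiso a.1 a.2).trans (hiso b.1 b.2).symm)⟩
      have h3 := three_mul_card_le_of_surjective (cls R) (cls_surjective R)
        (fun x y hxy hc => no_fibre_of_size_two R hodd hab x y hxy hc)
      have hU : Nat.card {x : ↥(R : Subgroup G) //
          ∀ y : ↥(R : Subgroup G), cls R y = cls R x → y = x} ≤
          Nat.card {x : ↥(R : Subgroup G) // Isolated R (x : G)} := by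
        have key : ∀ x : {x : ↥(R : Subgroup G) //
            ∀ y : ↥(R : Subgroup G), cls R y = cls R x → y = x}, Isolated R ((x.1 : G)) := by
          intro x
          refine ⟨x.1.2, ?_⟩
          intro g hg
          have hcls : cls R ⟨g⁻¹ * (x.1 : G) * g, hg⟩ = cls R x.1 := by
            rw [cls_eq_iff, ConjClasses.mk_eq_mk_iff_isConj, isConj_comm, isConj_iff]
            exact ⟨g⁻¹, by rw [inv_inv]⟩
          exact congrArg Subtype.val (x.2 _ hcls)
        apply Nat.card_le_card_of_injective
          (fun x => (⟨x.1, key x⟩ : {x : ↥(R : Subgroup G) // Isolated R (x : G)}))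
        intro a b hab'
        simp only [Subtype.mk.injEq] at hab'
        exact Subtype.ext hab'
      omega
    · -- even order: use the normal 2-complement
      obtain ⟨P₀, N, hNn, hcomp⟩ := forward2_aux (Nat.card G) G rfl P hd2
      haveI := hNn
      have hP₀ : Nat.card ↥(P₀ : Subgroup G) = Nat.card ↥(P : Subgroup G) := by
        rw [Sylow.card_eq_multiplicity, Sylow.card_eq_multiplicity]
      have hNidx : N.index = Nat.card ↥(P : Subgroup G) := by
        rw [hcomp.symm.index_eq_card, hP₀]
      obtain ⟨a, ha⟩ := IsPGroup.iff_card.1 P.2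
      have hP2 : 2 ≤ Nat.card ↥(P : Subgroup G) := by
        have : Nat.card ↥(P : Subgroup G) ≠ 1 := fun h => hP (Subgroup.card_eq_one.1 h)
        omega
      have hcardG : Nat.card G = Nat.card N * Nat.card ↥(P : Subgroup G) := by
        rw [← hNidx, Subgroup.card_mul_index]
      have hNlt : Nat.card N < n := by
        rw [← hn, hcardG]
        have hpos : 0 < Nat.card N := Nat.card_pos
        nlinarith
      obtain ⟨PN⟩ : Nonempty (Sylow 2 N) := inferInstance
      obtain ⟨RN⟩ : Nonempty (Sylow r N) := inferInstance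
      have hNodd : ¬ 2 ∣ Nat.card N := by
        rw [← hcomp.index_eq_card]
        exact P₀.not_dvd_index
      have hPN : Nat.card ↥(PN : Subgroup N) = 1 := by
        rw [Sylow.card_eq_multiplicity, Nat.factorization_eq_zero_of_not_dvd hNodd, pow_zero]
      have hRN : Nat.card ↥(R : Subgroup G) = Nat.card ↥(RN : Subgroup N) := by
        rw [sylow_card_eq_of_index N r R RN, hNidx, ha, factorization_pow_ne h2p hr2, pow_zero,
          mul_one]
      have hk1 := card_piClasses_le N ({2, r} : Set ℕ)
      have hk2' : Nat.card {C : ConjClasses (G ⧸ N) // PiClass ({2, r} : Set ℕ) C} ≤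
          Nat.card ↥(P : Subgroup G) := by
        rw [← hNidx, Subgroup.index_eq_card]
        exact card_piClass_le_card _ _
      have hypN : Nat.card ↥(PN : Subgroup N) * Nat.card ↥(RN : Subgroup N) <
          2 * Nat.card {c : ConjClasses N // PiClass ({2, r} : Set ℕ) c} := by
        rw [hPN, one_mul, ← hRN]
        apply Nat.lt_of_mul_lt_mul_left (a := Nat.card ↥(P : Subgroup G))
        calc _ < _ := hyp
          _ ≤ 2 * (Nat.card {c : ConjClasses N // PiClass ({2, r} : Set ℕ) c} *
                Nat.card {C : ConjClasses (G ⧸ N) // PiClass ({2, r} : Set ℕ) C}) :=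
              Nat.mul_le_mul_left _ hk1
          _ ≤ 2 * (Nat.card {c : ConjClasses N // PiClass ({2, r} : Set ℕ) c} *
                Nat.card ↥(P : Subgroup G)) :=
              Nat.mul_le_mul_left _ (Nat.mul_le_mul_left _ hk2')
          _ = _ := by ring
      obtain ⟨R₀, K, hKn, hKcomp⟩ := ih (Nat.card N) hNlt N rfl PN RN hypN
      haveI := hKn
      obtain ⟨hK'n, hK'cop⟩ := normal_map_of_complement N R₀ K hKcomp
      haveI := hK'n
      set K' := K.map N.subtype with hK'
      -- order and index of K'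
      have hR₀ : Nat.card ↥(R₀ : Subgroup N) = Nat.card ↥(R : Subgroup G) := by
        rw [hRN, Sylow.card_eq_multiplicity, Sylow.card_eq_multiplicity]
      have hK'idx : K'.index = Nat.card ↥(R : Subgroup G) * Nat.card ↥(P : Subgroup G) := by
        rw [hK', Subgroup.index_map_subtype, hKcomp.symm.index_eq_card, hR₀, hNidx]
      have hK'odd : ¬ 2 ∣ Nat.card ↥K' := by
        intro hd
        apply hNodd
        have h1 : Nat.card ↥K' = Nat.card ↥K := by
          rw [hK', Subgroup.card_map_of_injective N.subtype_injective]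
        rw [h1] at hd
        exact hd.trans (Subgroup.card_subgroup_dvd_card K)
      have hkK' : Nat.card {C : ConjClasses ↥K' // PiClass ({2, r} : Set ℕ) C} ≤ 1 := by
        apply card_piClass_le_one_of_coprime
        intro q hq hqp hd
        rcases hq with rfl | hq
        · exact hK'odd hd
        · rw [Set.mem_singleton_iff] at hq
          subst hq
          exact (Nat.Prime.coprime_iff_not_dvd hqp).1 hK'cop.symm hd
      have hk3 := card_piClasses_le K' ({2, r} : Set ℕ)
      have hk4 := card_piClass_le_card_conjClasses (G ⧸ K') ({2, r} : Set ℕ)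
      have hQ : Nat.card (G ⧸ K') < 2 * Nat.card (ConjClasses (G ⧸ K')) := by
        rw [← Subgroup.index_eq_card, hK'idx]
        calc Nat.card ↥(R : Subgroup G) * Nat.card ↥(P : Subgroup G)
            = Nat.card ↥(P : Subgroup G) * Nat.card ↥(R : Subgroup G) := mul_comm _ _
          _ < _ := hyp
          _ ≤ 2 * (Nat.card {C : ConjClasses ↥K' // PiClass ({2, r} : Set ℕ) C} *
                Nat.card {C : ConjClasses (G ⧸ K') // PiClass ({2, r} : Set ℕ) C}) :=
              Nat.mul_le_mul_left _ hk3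
          _ ≤ 2 * (1 * Nat.card (ConjClasses (G ⧸ K'))) :=
              Nat.mul_le_mul_left _ (Nat.mul_le_mul hkK' hk4)
          _ = _ := by ring
      have hc2 := card_commutator_le_two (G ⧸ K') hQ
      -- r divides the order of the abelianization
      have hrA : r ∣ Nat.card (Abelianization (G ⧸ K')) := by
        have h1 : Nat.card ↥(commutator (G ⧸ K')) * (commutator (G ⧸ K')).index =
            Nat.card (G ⧸ K') := Subgroup.card_mul_index _
        have h2 : r ∣ Nat.card (G ⧸ K') := by
          rw [← Subgroup.index_eq_card, hK'idx]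
          obtain ⟨b, hb⟩ := IsPGroup.iff_card.1 R.2
          have hb0 : b ≠ 0 := by
            rintro rfl
            rw [pow_zero] at hb
            omega
          rw [hb]
          exact Dvd.dvd.mul_right (dvd_pow_self r hb0) _
        rw [← h1] at h2
        have h3 : (commutator (G ⧸ K')).index = Nat.card (Abelianization (G ⧸ K')) :=
          Subgroup.index_eq_card _
        rw [← h3]
        rcases (Nat.Prime.dvd_mul hrp).1 h2 with h | h
        · exfalso
          have hle := Nat.le_of_dvd Nat.card_pos h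
          have h3' : 3 ≤ r := by
            have := hrp.two_le
            omega
          omega
        · exact h
      have hf : Function.Surjective
          ((Abelianization.of : (G ⧸ K') →* Abelianization (G ⧸ K')).comp
            (QuotientGroup.mk' K')) := by
        intro y
        obtain ⟨q, rfl⟩ := QuotientGroup.mk_surjective y
        obtain ⟨g, rfl⟩ := QuotientGroup.mk_surjective q
        exact ⟨g, rfl⟩
      exact hA (exists_normal_of_surjective_hom r _ hf hrA)


theorem many_r_of_many_two_r (r : ℕ) [Fact r.Prime] (P : Sylow 2 G) (R : Sylow r G)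
    (hyp : Nat.card ↥(P : Subgroup G) * Nat.card ↥(R : Subgroup G) <
      2 * Nat.card {c : ConjClasses G // PiClass ({2, r} : Set ℕ) c}) :
    Nat.card ↥(R : Subgroup G) <
      2 * Nat.card {c : ConjClasses G // PiClass ({r} : Set ℕ) c} := by
  have hPpos : 0 < Nat.card ↥(P : Subgroup G) := Nat.card_pos
  have hkr : Nat.card {c : ConjClasses G // PiClass ({2, r} : Set ℕ) c} ≤
      Nat.card {c : ConjClasses G // PiClass ({r} : Set ℕ) c} * Nat.card ↥(P : Subgroup G) := by
    have h := card_piClass_insert_le (G := G) r ({2} : Set ℕ) _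
      (fun C => card_pClass_subgroup_le 2 P C)
    rw [show (insert r ({2} : Set ℕ)) = ({2, r} : Set ℕ) from Set.pair_comm r 2] at h
    exact h
  apply Nat.lt_of_mul_lt_mul_right (a := Nat.card ↥(P : Subgroup G))
  calc Nat.card ↥(R : Subgroup G) * Nat.card ↥(P : Subgroup G)
      = Nat.card ↥(P : Subgroup G) * Nat.card ↥(R : Subgroup G) := mul_comm _ _
    _ < _ := hyp
    _ ≤ 2 * (Nat.card {c : ConjClasses G // PiClass ({r} : Set ℕ) c} *
          Nat.card ↥(P : Subgroup G)) := Nat.mul_le_mul_left _ hkr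
    _ = _ := by ring

theorem coe_eq_pair_union (π : Finset ℕ) (r : ℕ) (h2 : 2 ∈ π) (hr : r ∈ π) :
    (↑π : Set ℕ) = ({2, r} : Set ℕ) ∪ ↑((π.erase 2).erase r) := by
  ext q
  simp only [Finset.coe_erase, Set.mem_union, Set.mem_insert_iff, Set.mem_singleton_iff,
    Set.mem_diff, Finset.mem_coe]
  constructor
  · intro hq
    by_cases h1 : q = 2
    · left; left; exact h1
    by_cases h3 : q = r
    · left; right; exact h3
    · right; exact ⟨⟨hq, h1⟩, h3⟩
  · rintro ((rfl | rfl) | ⟨⟨hq, -⟩, -⟩)
    · exact h2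
    · exact hr
    · exact hq

/-- **Many classes of `π`-elements, `2 ∈ π`**: normal `π`-complement and abelian Hall
`π - {2}`-subgroup. -/
theorem many_pi_classes_two (π : Finset ℕ) (hπ : ∀ r ∈ π, r.Prime) (h2 : 2 ∈ π)
    (hk : π.prod (fun r => r ^ (Nat.card G).factorization r) <
      2 * Nat.card {c : ConjClasses G //
        ∀ x ∈ c.carrier, ∀ r : ℕ, r.Prime → r ∣ orderOf x → r ∈ π}) :
    (∃ N : Subgroup G, N.Normal ∧ (∀ r : ℕ, r.Prime → r ∣ Nat.card ↥N → r ∉ π) ∧
      ∀ r : ℕ, r.Prime → r ∣ N.index → r ∈ π) ∧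
    ∃ H : Subgroup G, Cfsg.IsPiHall ((↑π : Set ℕ) \ {2}) H ∧ IsMulCommutative ↥H := by
  have e : Nat.card {c : ConjClasses G //
      ∀ x ∈ c.carrier, ∀ r : ℕ, r.Prime → r ∣ orderOf x → r ∈ π} =
      Nat.card {c : ConjClasses G // PiClass (↑π : Set ℕ) c} :=
    Nat.card_congr (Equiv.subtypeEquivRight (fun C => piClass_finset_iff π C))
  rw [e] at hk
  change piSize π (Nat.card G) < _ at hk
  obtain ⟨P⟩ : Nonempty (Sylow 2 G) := inferInstance
  have hd2 : Nat.card ↥(P : Subgroup G) <
      2 * Nat.card {c : ConjClasses G // PiClass ({2} : Set ℕ) c} := by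
    have h1 := card_piClass_le_mul_erase (G := G) π hπ 2 h2
    have h2' : piSize π (Nat.card G) =
        Nat.card ↥(P : Subgroup G) * piSize (π.erase 2) (Nat.card G) := by
      unfold piSize
      rw [← Finset.mul_prod_erase π _ h2, Sylow.card_eq_multiplicity]
    have hE : 0 < piSize (π.erase 2) (Nat.card G) :=
      piSize_pos _ (fun q hq => hπ q (Finset.mem_of_mem_erase hq)) _
    apply Nat.lt_of_mul_lt_mul_right (a := piSize (π.erase 2) (Nat.card G))
    calc Nat.card ↥(P : Subgroup G) * piSize (π.erase 2) (Nat.card G)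
        = piSize π (Nat.card G) := h2'.symm
      _ < _ := hk
      _ ≤ 2 * (Nat.card {c : ConjClasses G // PiClass ({2} : Set ℕ) c} *
            piSize (π.erase 2) (Nat.card G)) := Nat.mul_le_mul_left _ h1
      _ = _ := by ring
  obtain ⟨P₀, N₂, hN₂n, hcomp₂⟩ := forward2_aux (Nat.card G) G rfl P hd2
  have hodd : ∀ r ∈ π.erase 2, ∃ (R₀ : Sylow r G) (N : Subgroup G), N.Normal ∧
      N.IsComplement' (R₀ : Subgroup G) ∧ ∀ a b : ↥(R₀ : Subgroup G), a * b = b * a := by
    intro r hr
    have hr2 : r ≠ 2 := Finset.ne_of_mem_erase hr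
    have hrπ : r ∈ π := Finset.mem_of_mem_erase hr
    haveI : Fact r.Prime := ⟨hπ r hrπ⟩
    have key : ∀ R : Sylow r G, Nat.card ↥(P : Subgroup G) * Nat.card ↥(R : Subgroup G) <
        2 * Nat.card {c : ConjClasses G // PiClass ({2, r} : Set ℕ) c} := by
      intro R
      have hρp : ∀ q ∈ (π.erase 2).erase r, q.Prime :=
        fun q hq => hπ q (Finset.mem_of_mem_erase (Finset.mem_of_mem_erase hq))
      have h1 := card_piClass_union_le (G := G) ({2, r} : Set ℕ)
        (↑((π.erase 2).erase r) : Set ℕ) (piSize ((π.erase 2).erase r) (Nat.card G))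
        (fun C => (card_piClass_le_piSize _ hρp ↥C).trans
          (piSize_mono _ hρp (Subgroup.card_subgroup_dvd_card C) Nat.card_pos.ne'))
      rw [← coe_eq_pair_union π r h2 hrπ] at h1
      have h3 : piSize π (Nat.card G) = Nat.card ↥(P : Subgroup G) *
          (Nat.card ↥(R : Subgroup G) * piSize ((π.erase 2).erase r) (Nat.card G)) := by
        unfold piSize
        rw [← Finset.mul_prod_erase π _ h2, ← Finset.mul_prod_erase (π.erase 2) _ hr,
          Sylow.card_eq_multiplicity, Sylow.card_eq_multiplicity]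
      have hE : 0 < piSize ((π.erase 2).erase r) (Nat.card G) := piSize_pos _ hρp _
      apply Nat.lt_of_mul_lt_mul_right (a := piSize ((π.erase 2).erase r) (Nat.card G))
      calc Nat.card ↥(P : Subgroup G) * Nat.card ↥(R : Subgroup G) *
            piSize ((π.erase 2).erase r) (Nat.card G)
          = piSize π (Nat.card G) := by rw [h3]; ring
        _ < _ := hk
        _ ≤ 2 * (Nat.card {c : ConjClasses G // PiClass ({2, r} : Set ℕ) c} *
              piSize ((π.erase 2).erase r) (Nat.card G)) := Nat.mul_le_mul_left _ h1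
        _ = _ := by ring
    obtain ⟨R⟩ : Nonempty (Sylow r G) := inferInstance
    obtain ⟨R₀, N, hNn, hcomp⟩ := two_r_aux r hr2 (Nat.card G) G rfl P R (key R)
    exact ⟨R₀, N, hNn, hcomp,
      sylow_comm_of_many hr2 R₀ (many_r_of_many_two_r r P R₀ (key R₀))⟩
  obtain ⟨⟨N', hN'n, h1', h2'⟩, H, hH, hHc⟩ := normal_pi_complement (π.erase 2)
    (fun q hq => hπ q (Finset.mem_of_mem_erase hq)) hodd
  haveI := hN'n
  haveI := hN₂n
  refine ⟨⟨N' ⊓ N₂, inferInstance, ?_, ?_⟩, H, by rw [← Finset.coe_erase]; exact hH, hHc⟩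
  · intro q hq hd hqπ
    have hd1 : q ∣ Nat.card ↥N' := hd.trans (Subgroup.card_dvd_of_le inf_le_left)
    have hd2' : q ∣ Nat.card ↥N₂ := hd.trans (Subgroup.card_dvd_of_le inf_le_right)
    by_cases hq2 : q = 2
    · subst hq2
      have : ¬ 2 ∣ Nat.card ↥N₂ := by
        rw [← hcomp₂.index_eq_card]; exact P₀.not_dvd_index
      exact this hd2'
    · exact h1' q hq hd1 (Finset.mem_erase.2 ⟨hq2, hqπ⟩)
  · intro q hq hd
    have hidx : (N' ⊓ N₂).index = (N' ⊓ N₂).relIndex N' * N'.index :=
      (Subgroup.relIndex_mul_index inf_le_left).symm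
    rw [hidx, Subgroup.inf_relIndex_left] at hd
    rcases (Nat.Prime.dvd_mul hq).1 hd with h | h
    · have h3 : N₂.relIndex N' ∣ N₂.index := Subgroup.relIndex_dvd_index_of_normal N₂ N'
      have h4 := h.trans h3
      rw [hcomp₂.symm.index_eq_card] at h4
      obtain ⟨a, ha⟩ := IsPGroup.iff_card.1 P₀.2
      rw [ha] at h4
      have := (Nat.prime_dvd_prime_iff_eq hq Nat.prime_two).1 (hq.dvd_of_dvd_pow h4)
      rw [this]; exact h2
    · exact Finset.mem_of_mem_erase (h2' q hq h)

end Cfsg.Agent.Lib.Helper22.PiClassTwo
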