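import Mathlib
import Cfsg.Agent.Lib.Helper22.PolUnD
import Cfsg.Agent.Lib.Helper12.UnJ

set_option autoImplicit false

/-!
# The matrix-level form of the statement on stabilisers of polar pairs in `SU_n(q)`
-/

namespace Cfsg.Agent.Lib.Helper22.PolUn

open Module Cfsg.Agent.Lib.Helper12 Cfsg.Agent.Lib.Helper12.Un Cfsg.Agent.Lib.Helper14
  Cfsg.Agent.Lib.Helper5.HermBridge Cfsg.Agent.Lib.Helper5.UTIStab Cfsg.Agent.Lib.Helper22.NdUn

open scoped Matrix MatrixGroups

variable {F : Type*} [Field F] [Fintype F] {q : ℕ}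

/-- the matrix `A` fixes or interchanges the members of some polar pair -/
def StabPolar (hF : Fintype.card F = q ^ 2) (n : ℕ) (A : Matrix (Fin n) (Fin n) F) : Prop :=
  ∃ U W : Submodule F (Fin n → F), IsPolar (hermB hF n) ⊤ U W ∧
    ((U.map (Matrix.toLin' A) ≤ U ∧ W.map (Matrix.toLin' A) ≤ W) ∨
      (U.map (Matrix.toLin' A) ≤ W ∧ W.map (Matrix.toLin' A) ≤ U))

/-- the polar pair of a decomposition into two totally singular subspaces -/
theorem polar_of_D (hF : Fintype.card F = q ^ 2) {n m : ℕ}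
    (D : Fin 2 → Submodule F (Fin n → F)) (hD : Cfsg.Geo.IsMDecomposition m D)
    (hDs : ∀ i, Cfsg.Geo.IsTotallySingularFor (Cfsg.hermForm n F q) (D i)) :
    IsPolar (hermB hF n) ⊤ (D 0) (D 1) := by
  refine ⟨fun x hx y hy => hDs 0 y hy x hx, fun x hx y hy => hDs 1 y hy x hx, ?_, ?_⟩
  · exact hD.indep.pairwiseDisjoint (by decide : (0 : Fin 2) ≠ 1)
  · rw [← hD.iSup_eq_top]
    apply le_antisymm
    · exact sup_le (le_iSup D 0) (le_iSup D 1)
    · apply iSup_le
      intro i
      fin_cases i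
      · exact le_sup_left
      · exact le_sup_right

section mapG

variable {n : ℕ}

/-- the image of a subspace under an invertible matrix -/
def mapG (g : GL (Fin n) F) (U : Submodule F (Fin n → F)) : Submodule F (Fin n → F) :=
  U.map (Matrix.toLin' (g : Matrix (Fin n) (Fin n) F))

omit [Fintype F] in
theorem mapG_mul (g h : GL (Fin n) F) (U : Submodule F (Fin n → F)) :
    mapG (g * h) U = mapG g (mapG h U) := by
  unfold mapG
  rw [Units.val_mul, Matrix.toLin'_mul, Submodule.map_comp]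

omit [Fintype F] in
theorem mapG_one (U : Submodule F (Fin n → F)) : mapG (1 : GL (Fin n) F) U = U := by
  unfold mapG
  rw [Units.val_one, Matrix.toLin'_one]
  exact Submodule.map_id U

omit [Fintype F] in
theorem mapG_inv_mapG (g : GL (Fin n) F) (U : Submodule F (Fin n → F)) :
    mapG g⁻¹ (mapG g U) = U := by
  rw [← mapG_mul, inv_mul_cancel, mapG_one]

omit [Fintype F] in
theorem mapG_mapG_inv (g : GL (Fin n) F) (U : Submodule F (Fin n → F)) :
    mapG g (mapG g⁻¹ U) = U := by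
  rw [← mapG_mul, mul_inv_cancel, mapG_one]

omit [Fintype F] in
theorem mapG_injective (g : GL (Fin n) F) :
    Function.Injective (Matrix.toLin' (g : Matrix (Fin n) (Fin n) F)) := by
  intro u v h
  have h1 := congrArg (Matrix.toLin' ((g⁻¹ : GL (Fin n) F) : Matrix (Fin n) (Fin n) F)) h
  rw [← LinearMap.comp_apply, ← LinearMap.comp_apply, ← Matrix.toLin'_mul, ← Units.val_mul,
    inv_mul_cancel, Units.val_one, Matrix.toLin'_one] at h1
  exact h1

omit [Fintype F] in
theorem finrank_mapG (g : GL (Fin n) F) (U : Submodule F (Fin n → F)) :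
    finrank F (mapG g U) = finrank F U :=
  (Submodule.equivMapOfInjective _ (mapG_injective g) U).finrank_eq.symm

omit [Fintype F] in
theorem mem_stab_iff (D : Fin 2 → Submodule F (Fin n → F)) (g : GL (Fin n) F) :
    g ∈ Cfsg.Geo.decompositionStabilizer D ↔
      (mapG g (D 0) = D 0 ∧ mapG g (D 1) = D 1) ∨ (mapG g (D 0) = D 1 ∧ mapG g (D 1) = D 0) := by
  constructor
  · rintro ⟨σ, hσ⟩
    have h0 := hσ 0
    have h1 := hσ 1
    have hcases : (σ 0 = 0 ∧ σ 1 = 1) ∨ (σ 0 = 1 ∧ σ 1 = 0) := by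
      have hinj := σ.injective
      have hne : σ 0 ≠ σ 1 := fun h => absurd (hinj h) (by decide)
      generalize σ 0 = a at hne ⊢
      generalize σ 1 = b at hne ⊢
      fin_cases a <;> fin_cases b <;> simp_all
    rcases hcases with ⟨e0, e1⟩ | ⟨e0, e1⟩
    · left
      rw [e0] at h0
      rw [e1] at h1
      exact ⟨h0, h1⟩
    · right
      rw [e0] at h0
      rw [e1] at h1
      exact ⟨h0, h1⟩
  · rintro (⟨h0, h1⟩ | ⟨h0, h1⟩)
    · refine ⟨1, fun i => ?_⟩
      fin_cases i
      · exact h0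
      · exact h1
    · refine ⟨Equiv.swap 0 1, fun i => ?_⟩
      fin_cases i
      · simpa [mapG] using h0
      · simpa [mapG] using h1

end mapG

/-- unitary matrices map polar pairs to polar pairs -/
theorem polar_mapG (hF : Fintype.card F = q ^ 2) {n : ℕ} (g : GL (Fin n) F)
    (hg : g ∈ Cfsg.GU n F q) {U W : Submodule F (Fin n → F)}
    (hP : IsPolar (hermB hF n) ⊤ U W) : IsPolar (hermB hF n) ⊤ (mapG g U) (mapG g W) := by
  have hiso : ∀ u v, hermB hF n (Matrix.toLin' (g : Matrix (Fin n) (Fin n) F) u)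
      (Matrix.toLin' (g : Matrix (Fin n) (Fin n) F) v) = hermB hF n u v :=
    uni_iso hF n _ hg
  refine ⟨?_, ?_, ?_, ?_⟩
  · rintro _ ⟨u, hu, rfl⟩ _ ⟨u', hu', rfl⟩
    rw [hiso]
    exact hP.isoU hu u' hu'
  · rintro _ ⟨u, hu, rfl⟩ _ ⟨u', hu', rfl⟩
    rw [hiso]
    exact hP.isoW hu u' hu'
  · rw [disjoint_iff]
    unfold mapG
    rw [← Submodule.map_inf _ (mapG_injective g), hP.disj.eq_bot, Submodule.map_bot]
  · unfold mapG
    rw [← Submodule.map_sup, hP.sup_eq, Submodule.map_top, LinearMap.range_eq_top]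
    intro v
    refine ⟨Matrix.toLin' ((g⁻¹ : GL (Fin n) F) : Matrix (Fin n) (Fin n) F) v, ?_⟩
    rw [← LinearMap.comp_apply, ← Matrix.toLin'_mul, ← Units.val_mul, mul_inv_cancel,
      Units.val_one, Matrix.toLin'_one]
    rfl

omit [Fintype F] in
theorem det_eq_one_of_mem {n : ℕ} (g : GL (Fin n) F)
    (hg : g ∈ Cfsg.Geo.specialLinear (Fin n) F) : (g : Matrix (Fin n) (Fin n) F).det = 1 := by
  have h1 := congrArg Units.val (MonoidHom.mem_ker.mp hg)
  simpa using h1

/-- the statement's left-hand side at matrix level -/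
theorem lhs_iff (hF : Fintype.card F = q ^ 2) (d : ℕ) (hd : 0 < d)
    (D : Fin 2 → Submodule F (Fin (d + d) → F))
    (hP : IsPolar (hermB hF (d + d)) ⊤ (D 0) (D 1)) (r : ℕ) :
    (∀ x ∈ Cfsg.GU (d + d) F q ⊓ Cfsg.Geo.specialLinear (Fin (d + d)) F,
      (∃ z : F, ((x ^ r : GL (Fin (d + d)) F) : Matrix (Fin (d + d)) (Fin (d + d)) F) =
        z • (1 : Matrix (Fin (d + d)) (Fin (d + d)) F)) →
      (∀ z : F, (x : Matrix (Fin (d + d)) (Fin (d + d)) F) ≠
        z • (1 : Matrix (Fin (d + d)) (Fin (d + d)) F)) →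
      ∃ g ∈ Cfsg.GU (d + d) F q ⊓ Cfsg.Geo.specialLinear (Fin (d + d)) F,
        g⁻¹ * x * g ∈ Cfsg.Geo.decompositionStabilizer D) ↔
    (∀ A : Matrix (Fin (d + d)) (Fin (d + d)) F, IsUni F q (d + d) A → A.det = 1 →
      (∃ z : F, A ^ r = z • (1 : Matrix (Fin (d + d)) (Fin (d + d)) F)) →
      (∀ z : F, A ≠ z • (1 : Matrix (Fin (d + d)) (Fin (d + d)) F)) →
      StabPolar hF (d + d) A) := by
  constructor
  · intro H A hA hdet hz hns
    have hdet0 : A.det ≠ 0 := by rw [hdet]; exact one_ne_zero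
    let x : GL (Fin (d + d)) F := Matrix.GeneralLinearGroup.mkOfDetNeZero A hdet0
    have hxA : (x : Matrix (Fin (d + d)) (Fin (d + d)) F) = A := rfl
    have hxmem : x ∈ Cfsg.GU (d + d) F q ⊓ Cfsg.Geo.specialLinear (Fin (d + d)) F := by
      refine ⟨hA, ?_⟩
      change Matrix.GeneralLinearGroup.det x = 1
      apply Units.ext
      change A.det = 1
      exact hdet
    obtain ⟨g, hg, hgx⟩ := H x hxmem (by
      obtain ⟨z, hz⟩ := hz
      refine ⟨z, ?_⟩
      rw [Units.val_pow_eq_pow_val, hxA]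
      exact hz) (by rw [hxA]; exact hns)
    refine ⟨mapG g (D 0), mapG g (D 1), polar_mapG hF g hg.1 hP, ?_⟩
    have key : ∀ U U' : Submodule F (Fin (d + d) → F), mapG (g⁻¹ * x * g) U = U' →
        (mapG g U).map (Matrix.toLin' A) ≤ mapG g U' := by
      intro U U' h
      have h1 : mapG x (mapG g U) = mapG g U' := by
        rw [← h, ← mapG_mul, ← mapG_mul]
        congr 1
        group
      rw [← h1]
      exact le_of_eq rfl
    rcases (mem_stab_iff D _).1 hgx with ⟨h0, h1⟩ | ⟨h0, h1⟩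
    · left
      exact ⟨key _ _ h0, key _ _ h1⟩
    · right
      exact ⟨key _ _ h0, key _ _ h1⟩
  · intro H x hx hz hns
    have hxdet := det_eq_one_of_mem x hx.2
    obtain ⟨U, W, hPUW, hst⟩ := H (x : Matrix (Fin (d + d)) (Fin (d + d)) F) hx.1 hxdet (by
      obtain ⟨z, hz⟩ := hz
      refine ⟨z, ?_⟩
      rw [← Units.val_pow_eq_pow_val]
      exact hz) hns
    obtain ⟨g, hg, hgU, hgW⟩ := exists_SU_polar hF hd hP hPUW
    refine ⟨g, hg, ?_⟩
    rw [mem_stab_iff]
    obtain ⟨hUW, -⟩ := polar_finrank (hermB hF (d + d)) (frob_invol hF) (hermB_sym hF (d + d)) ⊤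
      U W (ndOn_top' hF _) hPUW
    have hfr : ∀ S : Submodule F (Fin (d + d) → F), finrank F (mapG x S) = finrank F S :=
      finrank_mapG x
    have key : ∀ (S S' : Submodule F (Fin (d + d) → F)) (T T' : Submodule F (Fin (d + d) → F)),
        mapG g S = T → mapG g S' = T' → T.map (Matrix.toLin'
          (x : Matrix (Fin (d + d)) (Fin (d + d)) F)) ≤ T' → finrank F T = finrank F T' →
        mapG (g⁻¹ * x * g) S = S' := by
      intro S S' T T' hS hS' hle hfin
      have h1 : mapG x T = T' := by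
        apply Submodule.eq_of_le_of_finrank_eq hle
        rw [← hfin]
        exact hfr T
      rw [mapG_mul, mapG_mul, hS, h1, ← hS', mapG_inv_mapG]
    rcases hst with ⟨h0, h1⟩ | ⟨h0, h1⟩
    · left
      exact ⟨key _ _ _ _ hgU hgU h0 rfl, key _ _ _ _ hgW hgW h1 rfl⟩
    · right
      exact ⟨key _ _ _ _ hgU hgW h0 hUW, key _ _ _ _ hgW hgU h1 hUW.symm⟩

end Cfsg.Agent.Lib.Helper22.PolUn
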