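import Mathlib
import Cfsg.Agent.Lib.Helper22.PolUnE

set_option autoImplicit false

/-!
# The index of the stabiliser of a polar pair in `SU_n(q)`: prime divisors
-/

namespace Cfsg.Agent.Lib.Helper22.PolUn

open Module Cfsg.Agent.Lib.Helper12 Cfsg.Agent.Lib.Helper12.Un Cfsg.Agent.Lib.Helper14
  Cfsg.Agent.Lib.Helper5.HermBridge Cfsg.Agent.Lib.Helper5.UTIStab Cfsg.Agent.Lib.Helper5.UTICount
  Cfsg.Agent.Lib.Helper22.NdUn

open scoped Matrix MatrixGroups

section arith

/-- pairing the factors of the order formula of `GU_{2d}(q)` -/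
theorem prod_pair (q d : ℕ) :
    ∏ i ∈ Finset.range (d + d), (if Even i then q ^ (i + 1) + 1 else q ^ (i + 1) - 1) =
      (∏ j ∈ Finset.range d, (q ^ (2 * j + 1) + 1)) *
        ∏ j ∈ Finset.range d, (q ^ (2 * j + 2) - 1) := by
  induction d with
  | zero => simp
  | succ d ih =>
    have h0 : d + 1 + (d + 1) = (d + d) + 1 + 1 := by ring
    rw [h0, Finset.prod_range_succ, Finset.prod_range_succ, ih, Finset.prod_range_succ,
      Finset.prod_range_succ]
    have h1 : Even (d + d) := ⟨d, rfl⟩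
    have h2 : ¬ Even (d + d + 1) := by
      rw [Nat.not_even_iff_odd]
      exact ⟨d, by ring⟩
    rw [if_pos h1, if_neg h2]
    have e1 : d + d + 1 = 2 * d + 1 := by ring
    have e2 : d + d + 1 + 1 = 2 * d + 2 := by ring
    rw [e2, e1]
    ring

/-- the order of `GL_d(q²)` as a power of `q` times the cyclotomic part -/
theorem gl_prod (q : ℕ) (hq : 1 ≤ q) (d : ℕ) :
    ∃ e' : ℕ, ∏ i : Fin d, ((q ^ 2) ^ d - (q ^ 2) ^ (i : ℕ)) =
      q ^ e' * ∏ j ∈ Finset.range d, (q ^ (2 * j + 2) - 1) := by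
  induction d with
  | zero => exact ⟨0, by simp⟩
  | succ d ih =>
    obtain ⟨e', he'⟩ := ih
    refine ⟨2 * d + e', ?_⟩
    rw [Fin.prod_univ_succ, Finset.prod_range_succ]
    have h1 : ∀ i : Fin d, (q ^ 2) ^ (d + 1) - (q ^ 2) ^ ((i.succ : Fin (d + 1)) : ℕ) =
        q ^ 2 * ((q ^ 2) ^ d - (q ^ 2) ^ (i : ℕ)) := by
      intro i
      rw [Nat.mul_sub, Fin.val_succ, pow_succ' (q ^ 2) d, pow_succ' (q ^ 2) (i : ℕ)]
    rw [Finset.prod_congr rfl (fun i _ => h1 i), Finset.prod_mul_distrib, Finset.prod_const,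
      Finset.card_univ, Fintype.card_fin, he', Fin.val_zero, pow_zero]
    have h2 : (q ^ 2) ^ (d + 1) = q ^ (2 * d + 2) := by
      rw [← pow_mul]
      congr 1
    rw [h2]
    generalize q ^ (2 * d + 2) - 1 = X
    generalize ∏ j ∈ Finset.range d, (q ^ (2 * j + 2) - 1) = Y
    rw [← pow_mul]
    ring

/-- odd `m`, `r ∣ q^m + 1`, `r` odd: the order of `q` modulo `r` is `2 (mod 4)` and half of it
divides `m` -/
theorem mod_four_of_dvd (q r m : ℕ) [Fact r.Prime] (hr2 : r ≠ 2) (hm : Odd m)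
    (h : r ∣ q ^ m + 1) :
    orderOf (q : ZMod r) % 4 = 2 ∧ orderOf (q : ZMod r) / 2 ∣ m := by
  have hr : r.Prime := Fact.out
  have h1 : (q : ZMod r) ^ m = -1 := by
    have h2 : ((q ^ m + 1 : ℕ) : ZMod r) = 0 := (ZMod.natCast_eq_zero_iff _ r).2 h
    rw [Nat.cast_add, Nat.cast_one, Nat.cast_pow] at h2
    exact eq_neg_of_add_eq_zero_left h2
  have hne : (-1 : ZMod r) ≠ 1 := by
    intro h3
    have h4 : ((2 : ℕ) : ZMod r) = 0 := by
      have : (1 : ZMod r) + 1 = 0 := by
        nth_rewrite 1 [← h3]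
        ring
      push_cast
      rw [← this]
      norm_num
    rw [ZMod.natCast_eq_zero_iff] at h4
    exact hr2 ((Nat.prime_dvd_prime_iff_eq hr Nat.prime_two).1 h4)
  set i := orderOf (q : ZMod r) with hi
  have h2m : i ∣ 2 * m := by
    apply orderOf_dvd_of_pow_eq_one
    rw [mul_comm, pow_mul, h1]
    ring
  have hnm : ¬ i ∣ m := by
    intro hd
    have := orderOf_dvd_iff_pow_eq_one.1 hd
    rw [h1] at this
    exact hne this
  have hev : Even i := by
    rcases Nat.even_or_odd i with he | ho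
    · exact he
    · exfalso
      apply hnm
      have hcop : Nat.Coprime i 2 :=
        Nat.Coprime.symm ((Nat.Prime.coprime_iff_not_dvd Nat.prime_two).2
          (fun h2 => (Nat.not_even_iff_odd.2 ho) (even_iff_two_dvd.2 h2)))
      exact hcop.dvd_of_dvd_mul_left h2m
  obtain ⟨i', hi'⟩ := hev
  have hi'm : i' ∣ m := by
    have : 2 * i' ∣ 2 * m := by
      have e : 2 * i' = i := by omega
      rw [e]
      exact h2m
    exact (Nat.mul_dvd_mul_iff_left (by norm_num)).1 this
  have hi'odd : Odd i' := by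
    obtain ⟨k, hk⟩ := hi'm
    rcases Nat.even_or_odd i' with he | ho
    · exfalso
      obtain ⟨i'', hi''⟩ := he
      rw [hk, hi''] at hm
      exact (Nat.not_even_iff_odd.2 hm) ⟨i'' * k, by ring⟩
    · exact ho
  obtain ⟨k, hk⟩ := hi'odd
  constructor
  · omega
  · have : i / 2 = i' := by omega
    rw [this]
    exact hi'm

end arith

variable {F : Type*} [Field F] [Fintype F] {q : ℕ}

section grp

variable {n : ℕ}

/-- the matrices fixing both `U` and `W` -/
def ordStab (U W : Submodule F (Fin n → F)) : Subgroup (GL (Fin n) F) where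
  carrier := {g | mapG g U = U ∧ mapG g W = W}
  mul_mem' := by
    rintro a b ⟨ha1, ha2⟩ ⟨hb1, hb2⟩
    exact ⟨by rw [mapG_mul, hb1, ha1], by rw [mapG_mul, hb2, ha2]⟩
  one_mem' := ⟨mapG_one U, mapG_one W⟩
  inv_mem' := by
    rintro a ⟨h1, h2⟩
    constructor
    · nth_rewrite 1 [← h1]
      exact mapG_inv_mapG a U
    · nth_rewrite 1 [← h2]
      exact mapG_inv_mapG a W

omit [Fintype F] in
theorem ordStab_le (D : Fin 2 → Submodule F (Fin n → F)) :
    ordStab (D 0) (D 1) ≤ Cfsg.Geo.decompositionStabilizer D := by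
  intro g hg
  rw [mem_stab_iff]
  exact Or.inl hg

end grp

section relindex

variable {G : Type*} [Group G] [Finite G] {M : Type*} [Group M]

/-- passing to the kernel of a homomorphism: the relative index divides the index -/
theorem relIndex_inf_ker_dvd (f : G →* M) (S K : Subgroup G) (hSK : S ≤ K) :
    S.relIndex (K ⊓ f.ker) ∣ S.relIndex K := by
  have h1 := Subgroup.relIndex_inf_mul_relIndex S f.ker K
  have h2 := Subgroup.relIndex_inf_mul_relIndex f.ker S K
  rw [inf_of_le_left hSK] at h2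
  rw [inf_comm f.ker K] at h1
  have h3 : (S ⊓ f.ker).relIndex K = (f.ker ⊓ S).relIndex K := by rw [inf_comm]
  rw [Subgroup.relIndex_ker] at h1 h2
  have h4 : Nat.card (S.map f) ∣ Nat.card (K.map f) :=
    Subgroup.card_dvd_of_le (Subgroup.map_mono hSK)
  obtain ⟨m, hm⟩ := h4
  haveI : Finite ↥(S.map f) :=
    Finite.of_surjective (fun s : S => (⟨f s, Subgroup.mem_map_of_mem f s.2⟩ : S.map f))
      (by rintro ⟨_, ⟨s, hs, rfl⟩⟩; exact ⟨⟨s, hs⟩, rfl⟩)
  have hpos : 0 < Nat.card (S.map f) := Nat.card_pos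
  refine ⟨m, ?_⟩
  apply Nat.eq_of_mul_eq_mul_left hpos
  rw [h2, ← h3, ← h1, hm]
  ring

end relindex

/-- the ordered stabiliser of a polar pair inside `GU`, acting on bases of the first member -/
theorem card_bases_dvd (hF : Fintype.card F = q ^ 2) {d : ℕ}
    (U W : Submodule F (Fin (d + d) → F)) (hP : IsPolar (hermB hF (d + d)) ⊤ U W) :
    (∏ i : Fin d, (Fintype.card F ^ d - Fintype.card F ^ (i : ℕ))) ∣
      Nat.card ↥(SWG q U ⊓ SWG q W : Subgroup ↥(Cfsg.GU (d + d) F q)) := by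
  classical
  have hUd : finrank F U = d := by
    have := (polar_finrank (hermB hF (d + d)) (frob_invol hF) (hermB_sym hF (d + d)) ⊤ U W
      (ndOn_top' hF _) hP).2
    rw [finrank_top, Module.finrank_fin_fun] at this
    omega
  have hUts : ∀ u ∈ U, ∀ v ∈ U, Cfsg.hermForm (d + d) F q u v = 0 := fun u hu v hv =>
    hP.isoU hv u hu
  let b : Module.Basis (Fin d) F U := Module.finBasisOfFinrankEq F U hUd
  let x : Tup F (d + d) d := fun i => (b i : Fin (d + d) → F)
  obtain ⟨hx, hxU⟩ := tuple_of_li U d hUd hUts b b.linearIndependent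
  have horb : MulAction.orbit ↥(SWG q U ⊓ SWG q W : Subgroup ↥(Cfsg.GU (d + d) F q)) x =
      {y : Tup F (d + d) d | TI F q (d + d) d y ∧ Submodule.span F (Set.range y) = U} := by
    ext y
    constructor
    · rintro ⟨⟨A, hA⟩, rfl⟩
      refine ⟨TI_smul d A x hx, ?_⟩
      show Submodule.span F (Set.range (A • x)) = U
      rw [span_smul, hxU]
      exact (mem_SWG_iff U A).1 hA.1
    · rintro ⟨hy, hyU⟩
      have hxmem : ∀ i, x i ∈ U := fun i => (b i).2
      have hymem : ∀ i, y i ∈ U := by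
        intro i
        rw [← hyU]
        exact Submodule.subset_span ⟨i, rfl⟩
      obtain ⟨w, hw⟩ := exists_dual hF U W hP hUd x hxmem hx.1
      obtain ⟨w', hw'⟩ := exists_dual hF U W hP hUd y hymem hy.1
      obtain ⟨A, hAu, hAw⟩ := exists_GU_frame hF hP hP hw hw'
      obtain ⟨hs1, hs2⟩ := frame_span hF U W hP hUd hw
      obtain ⟨hs1', hs2'⟩ := frame_span hF U W hP hUd hw'
      have hAx : A • x = y := funext hAu
      have hmem : A ∈ SWG q U ⊓ SWG q W := by
        refine Subgroup.mem_inf.2 ⟨?_, ?_⟩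
        · rw [mem_SWG_iff]
          nth_rewrite 1 [← hs1]
          rw [map_span_range _ x y hAu, hs1']
        · rw [mem_SWG_iff]
          nth_rewrite 1 [← hs2]
          rw [map_span_range _ w w' hAw, hs2']
      exact ⟨⟨A, hmem⟩, hAx⟩
  have h2 := Subgroup.card_mul_index (MulAction.stabilizer
    ↥(SWG q U ⊓ SWG q W : Subgroup ↥(Cfsg.GU (d + d) F q)) x)
  rw [MulAction.index_stabilizer, horb, ← Nat.card_coe_set_eq] at h2
  have h3 : Nat.card ↥{y : Tup F (d + d) d | TI F q (d + d) d y ∧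
      Submodule.span F (Set.range y) = U} =
      ∏ i : Fin d, (Fintype.card F ^ d - Fintype.card F ^ (i : ℕ)) := card_bases U d hUd hUts
  rw [h3] at h2
  exact Dvd.intro_left _ h2

end Cfsg.Agent.Lib.Helper22.PolUn
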