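import Mathlib
import Cfsg.Agent.Lib.Helper22.PolUnF

set_option autoImplicit false

/-!
# Prime divisors of the index of the stabiliser of a polar pair; criteria for not stabilising
any polar pair
-/

namespace Cfsg.Agent.Lib.Helper22.PolUn

open Module Cfsg.Agent.Lib.Helper12 Cfsg.Agent.Lib.Helper12.Un Cfsg.Agent.Lib.Helper14
  Cfsg.Agent.Lib.Helper5.HermBridge Cfsg.Agent.Lib.Helper5.UTIStab Cfsg.Agent.Lib.Helper5.UTICount
  Cfsg.Agent.Lib.Helper22.NdUn

open scoped Matrix MatrixGroups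

variable {F : Type*} [Field F] [Fintype F] {q : ℕ}

/-- prime divisors of the index of the stabiliser of a polar pair in `SU_{2d}(q)` -/
theorem index_dvd (hF : Fintype.card F = q ^ 2) {d : ℕ}
    (D : Fin 2 → Submodule F (Fin (d + d) → F))
    (hP : IsPolar (hermB hF (d + d)) ⊤ (D 0) (D 1)) (r : ℕ) [Fact r.Prime]
    (hΩ : r ∣ (Cfsg.Geo.decompositionStabilizer D).relIndex
      (Cfsg.GU (d + d) F q ⊓ Cfsg.Geo.specialLinear (Fin (d + d)) F)) :
    r ∣ q ∨ ∃ j, j < d ∧ r ∣ q ^ (2 * j + 1) + 1 := by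
  classical
  have hr : r.Prime := Fact.out
  have hq2 := herm_two_le hF
  set G := Cfsg.GU (d + d) F q with hG
  set S : Subgroup (GL (Fin (d + d)) F) := G ⊓ ordStab (D 0) (D 1) with hS
  have hSH : S ≤ Cfsg.Geo.decompositionStabilizer D := inf_le_right.trans (ordStab_le D)
  have h1 := Subgroup.relIndex_dvd_of_le_left
    (G ⊓ Cfsg.Geo.specialLinear (Fin (d + d)) F) hSH
  have h2 : S.relIndex (G ⊓ Cfsg.Geo.specialLinear (Fin (d + d)) F) ∣ S.relIndex G :=
    relIndex_inf_ker_dvd (Matrix.GeneralLinearGroup.det : GL (Fin (d + d)) F →* Fˣ) S G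
      inf_le_left
  have hrR : r ∣ S.relIndex G := (hΩ.trans h1).trans h2
  have h3 : Nat.card S * S.relIndex G = Nat.card G := by
    have := Subgroup.relIndex_mul_relIndex (⊥ : Subgroup (GL (Fin (d + d)) F)) S G bot_le
      inf_le_left
    rw [Subgroup.relIndex_bot_left, Subgroup.relIndex_bot_left] at this
    exact this
  -- the ordered stabiliser inside `GU`
  set S' : Subgroup ↥G := SWG q (D 0) ⊓ SWG q (D 1) with hS'
  have hmap : S'.map G.subtype = S := by
    ext g
    constructor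
    · rintro ⟨A, hA, rfl⟩
      refine ⟨A.2, ?_, ?_⟩
      · exact (mem_SWG_iff (D 0) A).1 hA.1
      · exact (mem_SWG_iff (D 1) A).1 hA.2
    · rintro ⟨hgG, hg0, hg1⟩
      refine ⟨⟨g, hgG⟩, Subgroup.mem_inf.2 ⟨?_, ?_⟩, rfl⟩
      · exact (mem_SWG_iff (D 0) ⟨g, hgG⟩).2 hg0
      · exact (mem_SWG_iff (D 1) ⟨g, hgG⟩).2 hg1
  have h4 : Nat.card S = Nat.card S' := by
    rw [← hmap]
    exact Subgroup.card_map_of_injective G.subtype_injective
  obtain ⟨t, ht⟩ := card_bases_dvd hF (D 0) (D 1) hP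
  obtain ⟨e', he'⟩ := gl_prod q (by omega) d
  rw [hF, he'] at ht
  have h6 := card_GU (F := F) hF (d + d)
  rw [prod_pair] at h6
  rw [h4, ht, hG, h6] at h3
  set X := ∏ j ∈ Finset.range d, (q ^ (2 * j + 1) + 1) with hX
  set Y := ∏ j ∈ Finset.range d, (q ^ (2 * j + 2) - 1) with hY
  have hYpos : 0 < Y := by
    apply Finset.prod_pos
    intro j _
    have : 2 ^ (2 * j + 2) ≤ q ^ (2 * j + 2) := Nat.pow_le_pow_left hq2 _
    have : 1 < 2 ^ (2 * j + 2) := Nat.one_lt_two_pow (by omega)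
    omega
  have h7 : Y * (q ^ e' * t * S.relIndex G) = Y * (q ^ ((d + d) * (d + d - 1) / 2) * X) := by
    have e1 : Y * (q ^ e' * t * S.relIndex G) = q ^ e' * Y * t * S.relIndex G := by ring
    rw [e1, h3]
    ring
  have h8 := Nat.eq_of_mul_eq_mul_left hYpos h7
  have h9 : r ∣ q ^ ((d + d) * (d + d - 1) / 2) * X := by
    rw [← h8]
    exact Dvd.dvd.mul_left hrR _
  rcases (Nat.Prime.dvd_mul hr).1 h9 with h10 | h10
  · left
    exact hr.dvd_of_dvd_pow h10
  · right
    rw [hX, Prime.dvd_finset_prod_iff hr.prime] at h10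
    obtain ⟨j, hj, hjd⟩ := h10
    exact ⟨j, Finset.mem_range.1 hj, hjd⟩

/-- a unitary matrix with an eigenspace of odd dimension exceeding `d` (for an eigenvalue of norm
one) stabilises no polar pair -/
theorem not_stab_of_big (hF : Fintype.card F = q ^ 2) (d : ℕ)
    (A : Matrix (Fin (d + d)) (Fin (d + d)) F) (hA : IsUni F q (d + d) A) (hdet : A.det ≠ 0)
    (c : F) (hc : c * c ^ q = 1)
    (hodd : Odd (finrank F (LinearMap.ker (Matrix.toLin' A -
      c • (1 : (Fin (d + d) → F) →ₗ[F] (Fin (d + d) → F))))))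
    (hbig : d < finrank F (LinearMap.ker (Matrix.toLin' A -
      c • (1 : (Fin (d + d) → F) →ₗ[F] (Fin (d + d) → F))))) :
    ¬ StabPolar hF (d + d) A := by
  rintro ⟨U, W, hP, hst⟩
  have hiso := uni_iso hF (d + d) A hA
  have hinj : Function.Injective (Matrix.toLin' A) :=
    iso_injective (hermB hF (d + d)) (hermB_nd hF (d + d)) _ hiso
  rcases hst with ⟨h0, h1⟩ | ⟨h0, h1⟩
  · have := even_ker (hermB hF (d + d)) (frob_invol hF) (hermB_sym hF (d + d))
      (hermB_nd hF (d + d)) U W hP (Matrix.toLin' A) hiso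
      (fun u hu => h0 ⟨u, hu, rfl⟩) (fun w hw => h1 ⟨w, hw, rfl⟩) c
      (by rw [frobHom_apply]; exact hc)
    exact (Nat.not_even_iff_odd.2 hodd) this
  · have hb := swap_bound U W hP.disj (Matrix.toLin' A) hinj (fun u hu => h0 ⟨u, hu, rfl⟩) c
    have hUd := (polar_finrank (hermB hF (d + d)) (frob_invol hF) (hermB_sym hF (d + d)) ⊤ U W
      (ndOn_top' hF _) hP).2
    rw [finrank_top, Module.finrank_fin_fun] at hUd
    rw [Module.finrank_fin_fun] at hb
    omega

/-- a unitary matrix of odd order with an odd-dimensional eigenspace (for an eigenvalue of norm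
one) stabilises no polar pair -/
theorem not_stab_of_odd (hF : Fintype.card F = q ^ 2) (d : ℕ) (hd : 0 < d)
    (A : Matrix (Fin (d + d)) (Fin (d + d)) F) (hA : IsUni F q (d + d) A)
    (r : ℕ) (hr : Odd r) (hAr : A ^ r = 1) (c : F) (hc : c * c ^ q = 1)
    (hodd : Odd (finrank F (LinearMap.ker (Matrix.toLin' A -
      c • (1 : (Fin (d + d) → F) →ₗ[F] (Fin (d + d) → F)))))) :
    ¬ StabPolar hF (d + d) A := by
  rintro ⟨U, W, hP, hst⟩
  have hiso := uni_iso hF (d + d) A hA
  have hinj : Function.Injective (Matrix.toLin' A) :=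
    iso_injective (hermB hF (d + d)) (hermB_nd hF (d + d)) _ hiso
  rcases hst with ⟨h0, h1⟩ | ⟨h0, h1⟩
  · have := even_ker (hermB hF (d + d)) (frob_invol hF) (hermB_sym hF (d + d))
      (hermB_nd hF (d + d)) U W hP (Matrix.toLin' A) hiso
      (fun u hu => h0 ⟨u, hu, rfl⟩) (fun w hw => h1 ⟨w, hw, rfl⟩) c
      (by rw [frobHom_apply]; exact hc)
    exact (Nat.not_even_iff_odd.2 hodd) this
  · -- `A = (A²)^((r+1)/2)` maps `U` into `U ⊓ W`
    have hUd := (polar_finrank (hermB hF (d + d)) (frob_invol hF) (hermB_sym hF (d + d)) ⊤ U W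
      (ndOn_top' hF _) hP).2
    rw [finrank_top, Module.finrank_fin_fun] at hUd
    obtain ⟨k, hk⟩ := hr
    have hsq : ∀ u ∈ U, Matrix.toLin' A (Matrix.toLin' A u) ∈ U := fun u hu =>
      h1 ⟨_, h0 ⟨u, hu, rfl⟩, rfl⟩
    have hpow : ∀ j : ℕ, ∀ u ∈ U, ((Matrix.toLin' A) ^ (2 * j)) u ∈ U := by
      intro j
      induction j with
      | zero => intro u hu; simpa using hu
      | succ j ih =>
        intro u hu
        have : 2 * (j + 1) = 2 * j + 2 := by ring
        rw [this, pow_add, Module.End.mul_apply, pow_two, Module.End.mul_apply]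
        exact ih _ (hsq u hu)
    have hAeq : (Matrix.toLin' A) ^ (2 * (k + 1)) = Matrix.toLin' A := by
      have : 2 * (k + 1) = r + 1 := by omega
      rw [this, pow_succ, ← Matrix.toLin'_pow, hAr, Matrix.toLin'_one]
      rfl
    have hUbot : U = ⊥ := by
      rw [eq_bot_iff]
      intro u hu
      have h2 : Matrix.toLin' A u ∈ U := by
        have := hpow (k + 1) u hu
        rwa [hAeq] at this
      have h3 : Matrix.toLin' A u ∈ W := h0 ⟨u, hu, rfl⟩
      have h4 : Matrix.toLin' A u = 0 := (Submodule.disjoint_def.1 hP.disj) _ h2 h3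
      rw [Submodule.mem_bot]
      apply hinj
      rw [h4, map_zero]
    rw [hUbot, finrank_bot] at hUd
    omega

end Cfsg.Agent.Lib.Helper22.PolUn
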