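import Mathlib
import Cfsg.Agent.Lib.Helper22.PolUnG
import Cfsg.Agent.Lib.Helper5.SUMax
import Cfsg.Agent.Lib.Helper12.UnK

set_option autoImplicit false

/-!
# Elements of `SU_{2d}(q)` stabilising no polar pair: transvections and `μ · reflection`
-/

namespace Cfsg.Agent.Lib.Helper22.PolUn

open Module Cfsg.Agent.Lib.Helper12 Cfsg.Agent.Lib.Helper12.Un Cfsg.Agent.Lib.Helper14
  Cfsg.Agent.Lib.Helper5.HermBridge Cfsg.Agent.Lib.Helper22.NdUn

open scoped Matrix MatrixGroups

variable {F : Type*} [Field F] [Fintype F] {q : ℕ}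

/-- a unitary transvection -/
theorem exists_transvection (hF : Fintype.card F = q ^ 2) (p : ℕ) [Fact p.Prime] [CharP F p]
    (n : ℕ) (hn : 2 ≤ n) :
    ∃ A : Matrix (Fin n) (Fin n) F, IsUni F q n A ∧ A.det = 1 ∧ A ^ p = 1 ∧
      (∀ z : F, A ≠ z • (1 : Matrix (Fin n) (Fin n) F)) ∧
      finrank F (LinearMap.ker (Matrix.toLin' A -
        (1 : F) • (1 : (Fin n → F) →ₗ[F] (Fin n → F)))) = n - 1 := by
  classical
  have hσ := frob_invol hF
  have hsym := hermB_sym hF n
  -- an isotropic vector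
  obtain ⟨v, -, hv0, hvv⟩ := exists_isotropic (hermB hF n) hσ hsym (norm_surj hF) ⊤
    (by rw [finrank_top, Module.finrank_fin_fun]; exact hn)
  rw [hermB_apply] at hvv
  -- a skew scalar
  obtain ⟨θ, hθ⟩ := frob_ne hF
  rw [frobHom_apply] at hθ
  set c := θ - θ ^ q with hc
  have hc0 : c ≠ 0 := sub_ne_zero.2 (Ne.symm hθ)
  have hcq : c ^ q = -c := by
    have := map_sub (frobHom hF) θ (θ ^ q)
    rw [frobHom_apply, frobHom_apply, frobHom_apply] at this
    rw [hc, this]
    have h3 := hσ θ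
    rw [frobHom_apply, frobHom_apply] at h3
    rw [h3]
    ring
  obtain ⟨g, hgmem, hg⟩ := Cfsg.Agent.Lib.Helper5.SUMax.exists_tvg hF hvv
    (c := c) (by rw [frobQ_apply]; exact hcq)
  set A : Matrix (Fin n) (Fin n) F := (g : Matrix (Fin n) (Fin n) F) with hA
  have hAx : ∀ x, A *ᵥ x = x + (c * Cfsg.hermForm n F q x v) • v := hg
  have hform : ∀ x, Cfsg.hermForm n F q (A *ᵥ x) v = Cfsg.hermForm n F q x v := by
    intro x
    rw [hAx, hermForm_add_left, hermForm_smul_left, hvv, mul_zero, add_zero]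
  have hpow : ∀ k : ℕ, ∀ x, (A ^ k) *ᵥ x = x + ((k : F) * c * Cfsg.hermForm n F q x v) • v := by
    intro k
    induction k with
    | zero => intro x; simp
    | succ k ih =>
      intro x
      rw [pow_succ, ← Matrix.mulVec_mulVec, ih, hform, hAx, add_assoc, ← add_smul]
      congr 2
      push_cast
      ring
  refine ⟨A, hgmem.1, det_eq_one_of_mem g hgmem.2, ?_, ?_, ?_⟩
  · apply Cfsg.Agent.Lib.Helper5.SpMax.mat_eq_of_mulVec
    intro x
    rw [hpow, CharP.cast_eq_zero F p, zero_mul, zero_mul, zero_smul, add_zero, Matrix.one_mulVec]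
  · intro z hz
    have h1 := hAx v
    rw [hz, hvv, mul_zero, zero_smul, add_zero, Matrix.smul_mulVec, Matrix.one_mulVec] at h1
    have hz1 : z = 1 := by
      by_contra hne
      apply hv0
      have h2 : (z - 1) • v = 0 := by rw [sub_smul, h1, one_smul, sub_self]
      rcases smul_eq_zero.1 h2 with h3 | h3
      · exact absurd (sub_eq_zero.1 h3) hne
      · exact h3
    obtain ⟨x, hx⟩ : ∃ x, Cfsg.hermForm n F q x v ≠ 0 := by
      by_contra hcon
      push Not at hcon
      apply hv0
      apply hermB_nd hF n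
      intro z'
      rw [hermB_sym, hermB_apply, hcon, map_zero]
    have h2 := hAx x
    rw [hz, hz1, one_smul, Matrix.one_mulVec] at h2
    have h3 : (c * Cfsg.hermForm n F q x v) • v = 0 := by
      have := h2
      nth_rewrite 1 [← add_zero x] at this
      exact (add_left_cancel this).symm
    rcases smul_eq_zero.1 h3 with h4 | h4
    · exact (mul_ne_zero hc0 hx) h4
    · exact hv0 h4
  · have hker : LinearMap.ker (Matrix.toLin' A -
        (1 : F) • (1 : (Fin n → F) →ₗ[F] (Fin n → F))) =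
        orth (hermB hF n) (Submodule.span F {v}) := by
      ext x
      rw [LinearMap.mem_ker, LinearMap.sub_apply, LinearMap.smul_apply, Module.End.one_apply,
        one_smul, Matrix.toLin'_apply, hAx, add_sub_cancel_left, mem_orth]
      constructor
      · intro h y hy
        obtain ⟨a, rfl⟩ := Submodule.mem_span_singleton.1 hy
        rcases smul_eq_zero.1 h with h4 | h4
        · rcases mul_eq_zero.1 h4 with h5 | h5
          · exact absurd h5 hc0
          · rw [map_smul, LinearMap.smul_apply, hermB_sym, hermB_apply, h5, map_zero, smul_zero]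
        · exact absurd h4 hv0
      · intro h
        have h1 := h v (Submodule.mem_span_singleton_self v)
        rw [hermB_sym, map_eq_zero, hermB_apply] at h1
        rw [h1, mul_zero, zero_smul]
    rw [hker]
    have h1 := finrank_inf_orth' (hermB hF n) hσ hsym ⊤ (Submodule.span F {v}) (ndOn_top' hF n)
      le_top
    rw [top_inf_eq, finrank_top, Module.finrank_fin_fun, finrank_span_singleton hv0] at h1
    omega

/-- transvections stabilise no polar pair -/
theorem exists_not_stab_p (hF : Fintype.card F = q ^ 2) (p : ℕ) [Fact p.Prime] [CharP F p]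
    (d : ℕ) (hd : 2 ≤ d) :
    ∃ A : Matrix (Fin (d + d)) (Fin (d + d)) F, IsUni F q (d + d) A ∧ A.det = 1 ∧
      (∃ z : F, A ^ p = z • (1 : Matrix (Fin (d + d)) (Fin (d + d)) F)) ∧
      (∀ z : F, A ≠ z • (1 : Matrix (Fin (d + d)) (Fin (d + d)) F)) ∧
      ¬ StabPolar hF (d + d) A := by
  obtain ⟨A, hA1, hA2, hA3, hA4, hA5⟩ := exists_transvection hF p (d + d) (by omega)
  refine ⟨A, hA1, hA2, ⟨1, by rw [hA3, one_smul]⟩, hA4, ?_⟩
  apply not_stab_of_big hF d A hA1 (by rw [hA2]; exact one_ne_zero) 1 (by rw [one_pow, mul_one])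
  · rw [hA5]
    exact ⟨d - 1, by omega⟩
  · rw [hA5]
    omega

/-- `μ · reflection` stabilises no polar pair -/
theorem exists_not_stab_two (hF : Fintype.card F = q ^ 2) (p : ℕ) [Fact p.Prime] [CharP F p]
    (hp2 : p ≠ 2) (hqodd : Odd q) (d : ℕ) (hd : 2 ≤ d)
    (hv : padicValNat 2 (d + d) < padicValNat 2 (q + 1)) :
    ∃ A : Matrix (Fin (d + d)) (Fin (d + d)) F, IsUni F q (d + d) A ∧ A.det = 1 ∧
      (∃ z : F, A ^ 2 = z • (1 : Matrix (Fin (d + d)) (Fin (d + d)) F)) ∧
      (∀ z : F, A ≠ z • (1 : Matrix (Fin (d + d)) (Fin (d + d)) F)) ∧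
      ¬ StabPolar hF (d + d) A := by
  classical
  have hp : p.Prime := Fact.out
  set n := d + d with hn
  have h2N : ((2 : ℕ) : F) ≠ 0 := by
    rw [Ne, CharP.cast_eq_zero_iff F p]
    intro hd'
    exact hp2 ((Nat.prime_dvd_prime_iff_eq hp Nat.prime_two).1 hd')
  have h2 : (2 : F) ≠ 0 := by exact_mod_cast h2N
  have hqev : Even (q + 1) := hqodd.add_one
  obtain ⟨μ, hμ1, hμ2⟩ := exists_model2 (p := p) hF n (by omega) hv
  have hμ0 : μ ≠ 0 := by
    intro h0
    rw [h0, zero_mul] at hμ1
    exact zero_ne_one hμ1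
  set D : Matrix (Fin n) (Fin n) F := Matrix.diagonal (reflD F n) with hD
  have hAuni : IsUni F q n (μ • D) := by
    rw [hD, ← Matrix.diagonal_smul]
    apply isUni_diagonal
    intro k
    rw [Pi.smul_apply, smul_eq_mul, mul_pow]
    have := reflD_pow_even (K := F) n k _ hqev
    rw [pow_succ'] at this
    calc μ * reflD F n k * (μ ^ q * reflD F n k ^ q)
        = (μ * μ ^ q) * (reflD F n k * reflD F n k ^ q) := by ring
      _ = 1 := by rw [hμ1, this, one_mul]
  have hD2 : D ^ 2 = 1 := by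
    rw [hD, Matrix.diagonal_pow, ← Matrix.diagonal_one]
    congr 1
    funext k
    rw [Pi.pow_apply, sq, reflD_sq]
  have hAdet : (μ • D).det = 1 := by
    rw [Matrix.det_smul, Fintype.card_fin, hD, Matrix.det_diagonal, prod_reflD n (by omega), hμ2]
    ring
  have hA2 : (μ • D) ^ 2 = (μ ^ 2) • (1 : Matrix (Fin n) (Fin n) F) := by
    rw [_root_.smul_pow, hD2]
  have hns : ∀ z : F, μ • D ≠ z • (1 : Matrix (Fin n) (Fin n) F) := by
    intro z hz
    have h0 := congrFun (congrFun hz ⟨0, by omega⟩) ⟨0, by omega⟩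
    have h1 := congrFun (congrFun hz ⟨n - 1, by omega⟩) ⟨n - 1, by omega⟩
    rw [Matrix.smul_apply, Matrix.smul_apply, Matrix.one_apply_eq, hD, Matrix.diagonal_apply_eq,
      smul_eq_mul, smul_eq_mul, mul_one] at h0 h1
    unfold reflD at h0 h1
    rw [if_neg (by simp; omega)] at h0
    rw [if_pos (by simp; omega)] at h1
    have h3 : μ * 1 = μ * -1 := by rw [h0, h1]
    have h4 : (2 : F) * μ = 0 := by linear_combination h3
    rcases mul_eq_zero.1 h4 with h5 | h5
    · exact h2 h5
    · exact hμ0 h5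
  have hker : finrank F (LinearMap.ker (Matrix.toLin' (μ • D) -
      μ • (1 : (Fin n → F) →ₗ[F] (Fin n → F)))) = n - 1 := by
    rw [hD, ← Matrix.diagonal_smul, finrank_ker_diagonal_sub,
      ← card_reflD_eq_one (K := F) n (by omega) h2]
    apply Fintype.card_congr
    apply Equiv.subtypeEquivRight
    intro k
    rw [Pi.smul_apply, smul_eq_mul]
    constructor
    · intro h
      have : μ * reflD F n k = μ * 1 := by rw [h, mul_one]
      exact mul_left_cancel₀ hμ0 this
    · intro h
      rw [h, mul_one]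
  refine ⟨μ • D, hAuni, hAdet, ⟨μ ^ 2, hA2⟩, hns, ?_⟩
  apply not_stab_of_big hF d (μ • D) hAuni (by rw [hAdet]; exact one_ne_zero) μ hμ1
  · rw [hker]
    exact ⟨d - 1, by omega⟩
  · rw [hker]
    omega

end Cfsg.Agent.Lib.Helper22.PolUn
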