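import Mathlib
import Cfsg.Agent.Lib.Helper22.PolUnH

set_option autoImplicit false

/-!
# Elements of odd prime order of `SU_{2d}(q)` stabilising no polar pair
-/

namespace Cfsg.Agent.Lib.Helper22.PolUn

open Module Polynomial Cfsg.Agent.Lib.Helper12 Cfsg.Agent.Lib.Helper12.Elus
  Cfsg.Agent.Lib.Helper12.Un Cfsg.Agent.Lib.Helper14
  Cfsg.Agent.Lib.Helper5.HermBridge Cfsg.Agent.Lib.Helper22.NdUn Cfsg.Agent.Lib.Helper15

open scoped Matrix MatrixGroups

section gen

/-- semisimplicity at the eigenvalue one: the fixed space has the dimension given by the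
characteristic polynomial -/
theorem finrank_fix_of_pow {K V : Type*} [Field K] [AddCommGroup V] [Module K V]
    [FiniteDimensional K V] (T : Module.End K V) (r : ℕ) (hr0 : (r : K) ≠ 0) (hT : T ^ r = 1) :
    finrank K (LinearMap.ker (T - (1 : K) • (1 : Module.End K V))) =
      T.charpoly.rootMultiplicity 1 := by
  have hsq : ∀ m : V, (T - (1 : K) • (1 : Module.End K V))
      ((T - (1 : K) • (1 : Module.End K V)) m) = 0 →
      (T - (1 : K) • (1 : Module.End K V)) m = 0 := by
    intro m hm
    set w := (T - (1 : K) • (1 : Module.End K V)) m with hw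
    have hTw : T w = w := by
      have := hm
      rw [LinearMap.sub_apply, LinearMap.smul_apply, Module.End.one_apply, one_smul,
        sub_eq_zero] at this
      exact this
    have hTm : T m = m + w := by
      rw [hw, LinearMap.sub_apply, LinearMap.smul_apply, Module.End.one_apply, one_smul]
      abel
    have hpow : ∀ j : ℕ, (T ^ j) m = m + (j : K) • w := by
      intro j
      induction j with
      | zero => simp
      | succ j ih =>
        rw [pow_succ', Module.End.mul_apply, ih, map_add, map_smul, hTm, hTw, Nat.cast_succ,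
          add_smul, one_smul]
        abel
    have h1 := hpow r
    rw [hT, Module.End.one_apply] at h1
    have h2 : (r : K) • w = 0 := by
      have : m + 0 = m + (r : K) • w := by rw [add_zero]; exact h1
      exact (add_left_cancel this).symm
    rcases smul_eq_zero.1 h2 with h3 | h3
    · exact absurd h3 hr0
    · exact h3
  have hdesc : ∀ k : ℕ, ∀ m : V, ((T - (1 : K) • (1 : Module.End K V)) ^ (k + 1)) m = 0 →
      (T - (1 : K) • (1 : Module.End K V)) m = 0 := by
    intro k
    induction k with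
    | zero => intro m hm; simpa using hm
    | succ k ih =>
      intro m hm
      apply ih
      rw [pow_succ', Module.End.mul_apply]
      apply hsq
      rw [← Module.End.mul_apply, ← Module.End.mul_apply, mul_assoc, ← pow_succ', ← pow_succ']
      exact hm
  have heq : T.maxGenEigenspace 1 = LinearMap.ker (T - (1 : K) • (1 : Module.End K V)) := by
    ext m
    rw [Module.End.mem_maxGenEigenspace, LinearMap.mem_ker]
    constructor
    · rintro ⟨k, hk⟩
      rcases Nat.eq_zero_or_pos k with h0 | hpos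
      · rw [h0, pow_zero, Module.End.one_apply] at hk
        rw [hk, map_zero]
      · obtain ⟨k', rfl⟩ : ∃ k', k = k' + 1 := ⟨k - 1, by omega⟩
        exact hdesc k' m hk
    · intro h
      exact ⟨1, by rw [pow_one]; exact h⟩
  rw [← heq, LinearMap.finrank_maxGenEigenspace_eq]

end gen

variable {F : Type*} [Field F] [Fintype F] {q : ℕ}

/-- `r ∣ q + 1`: the element `diag(λ, λ⁻¹, 1, …, 1)` -/
theorem exists_not_stab_odd_one (hF : Fintype.card F = q ^ 2) (r : ℕ) [Fact r.Prime]
    (hr2 : r ≠ 2) (hrq : r ∣ q + 1) (d : ℕ) (hd : 2 ≤ d) :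
    ∃ A : Matrix (Fin (d + d)) (Fin (d + d)) F, IsUni F q (d + d) A ∧ A.det = 1 ∧
      (∃ z : F, A ^ r = z • (1 : Matrix (Fin (d + d)) (Fin (d + d)) F)) ∧
      (∀ z : F, A ≠ z • (1 : Matrix (Fin (d + d)) (Fin (d + d)) F)) ∧
      ¬ StabPolar hF (d + d) A := by
  classical
  have hr : r.Prime := Fact.out
  have hq2 := herm_two_le hF
  set n := d + d with hn
  have hrodd : Odd r := hr.odd_of_ne_two hr2
  have hdvd : r ∣ Fintype.card F - 1 := by
    rw [hF, sq_sub_one_eq q (by omega)]
    exact Dvd.dvd.mul_left hrq _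
  obtain ⟨ω, hω⟩ := exists_orderOf_eq (K := F) r hdvd
  set l : F := (ω : F) with hl
  have hl0 : l ≠ 0 := ω.ne_zero
  have hlr : l ^ r = 1 := by
    rw [hl, ← Units.val_pow_eq_pow_val, ← hω, pow_orderOf_eq_one, Units.val_one]
  have hlq : l * l ^ q = 1 := by
    rw [← pow_succ']
    obtain ⟨k, hk⟩ := hrq
    rw [hk, pow_mul, hlr, one_pow]
  have hl1 : l ≠ 1 := by
    intro h
    have : ω = 1 := Units.ext h
    rw [this, orderOf_one] at hω
    exact hr.one_lt.ne hω
  have hl2 : l⁻¹ ≠ l := by
    intro h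
    have h1 : l * l = 1 := by
      nth_rewrite 1 [← h]
      exact inv_mul_cancel₀ hl0
    have h2 : ω ^ 2 = 1 := by
      apply Units.ext
      rw [Units.val_pow_eq_pow_val, sq]
      exact h1
    have h3 := orderOf_dvd_of_pow_eq_one h2
    rw [hω] at h3
    have h4 := Nat.le_of_dvd (by norm_num) h3
    have := hr.two_le
    exact hr2 (by omega)
  let dv : Fin n → F := fun k => if k.val = 0 then l else if k.val = 1 then l⁻¹ else 1
  have hdv0 : dv ⟨0, by omega⟩ = l := by simp [dv]
  have hdv1 : dv ⟨1, by omega⟩ = l⁻¹ := by simp [dv]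
  have hdvo : ∀ k : Fin n, k.val ≠ 0 → k.val ≠ 1 → dv k = 1 := by
    intro k h0 h1
    simp [dv, h0, h1]
  have hnorm : ∀ k, dv k * dv k ^ q = 1 := by
    intro k
    by_cases h0 : k.val = 0
    · simp only [dv, if_pos h0]
      exact hlq
    · by_cases h1 : k.val = 1
      · simp only [dv, if_neg h0, if_pos h1]
        rw [inv_pow, ← mul_inv, hlq, inv_one]
      · rw [hdvo k h0 h1, one_pow, mul_one]
  have hpowr : ∀ k, dv k ^ r = 1 := by
    intro k
    by_cases h0 : k.val = 0
    · simp only [dv, if_pos h0]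
      exact hlr
    · by_cases h1 : k.val = 1
      · simp only [dv, if_neg h0, if_pos h1]
        rw [inv_pow, hlr, inv_one]
      · rw [hdvo k h0 h1, one_pow]
  set A : Matrix (Fin n) (Fin n) F := Matrix.diagonal dv with hA
  have hAuni : IsUni F q n A := isUni_diagonal dv hnorm
  have hAdet : A.det = 1 := by
    rw [hA, Matrix.det_diagonal]
    rw [Finset.prod_eq_mul (⟨0, by omega⟩ : Fin n) (⟨1, by omega⟩ : Fin n)
      (by intro h; simpa using congrArg Fin.val h)
      (fun c _ hc => hdvo c (fun h => hc.1 (Fin.ext h)) (fun h => hc.2 (Fin.ext h)))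
      (fun h => absurd (Finset.mem_univ _) h) (fun h => absurd (Finset.mem_univ _) h),
      hdv0, hdv1, mul_inv_cancel₀ hl0]
  have hAr : A ^ r = 1 := by
    rw [hA, Matrix.diagonal_pow, ← Matrix.diagonal_one]
    congr 1
    funext k
    rw [Pi.pow_apply, hpowr]
  have hns : ∀ z : F, A ≠ z • (1 : Matrix (Fin n) (Fin n) F) := by
    intro z hz
    have h0 := congrFun (congrFun hz ⟨0, by omega⟩) ⟨0, by omega⟩
    have h2 := congrFun (congrFun hz ⟨2, by omega⟩) ⟨2, by omega⟩
    rw [Matrix.smul_apply, Matrix.one_apply_eq, hA, Matrix.diagonal_apply_eq, smul_eq_mul,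
      mul_one] at h0 h2
    rw [hdv0] at h0
    rw [hdvo ⟨2, by omega⟩ (by simp) (by simp)] at h2
    exact hl1 (by rw [h0, ← h2])
  have hker : finrank F (LinearMap.ker (Matrix.toLin' A -
      l • (1 : (Fin n → F) →ₗ[F] (Fin n → F)))) = 1 := by
    rw [hA, finrank_ker_diagonal_sub, Fintype.card_eq_one_iff]
    refine ⟨⟨⟨0, by omega⟩, hdv0⟩, ?_⟩
    rintro ⟨k, h⟩
    apply Subtype.ext
    show k = ⟨0, by omega⟩
    by_cases h0 : k.val = 0
    · exact Fin.ext h0
    · exfalso
      by_cases h1 : k.val = 1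
      · simp only [dv, if_neg h0, if_pos h1] at h
        exact hl2 h
      · rw [hdvo k h0 h1] at h
        exact hl1 h.symm
  refine ⟨A, hAuni, hAdet, ⟨1, by rw [hAr, one_smul]⟩, hns, ?_⟩
  apply not_stab_of_odd hF d (by omega) A hAuni r hrodd hAr l hlq
  rw [hker]
  exact odd_one

end Cfsg.Agent.Lib.Helper22.PolUn
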