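import Mathlib
import Cfsg.Agent.Lib.Helper22.PolUnI

set_option autoImplicit false

/-!
# Elements of odd prime order `r ∤ q + 1` of `SU_{2d}(q)` stabilising no polar pair
-/

namespace Cfsg.Agent.Lib.Helper22.PolUn

open Module Polynomial Cfsg.Agent.Lib.Helper12 Cfsg.Agent.Lib.Helper12.Elus
  Cfsg.Agent.Lib.Helper12.Un Cfsg.Agent.Lib.Helper14
  Cfsg.Agent.Lib.Helper5.HermBridge Cfsg.Agent.Lib.Helper22.NdUn Cfsg.Agent.Lib.Helper15
  Cfsg.Agent.Lib.Helper15.SemisimpleConj Cfsg.Agent.Lib.Helper15.PrimeOrderClasses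

open scoped Matrix MatrixGroups

variable {F : Type*} [Field F] [Fintype F] {q : ℕ}

/-- `ord_r(q) ≡ 2 (mod 4)`, `b = ord_r(q²) > 1`, `b < 2d`: an element with one irreducible block
of odd dimension `b` and fixed space of odd dimension `2d - b` -/
theorem exists_not_stab_odd_big (hF : Fintype.card F = q ^ 2) (p e : ℕ) [Fact p.Prime]
    [CharP F p] (hqe : q = p ^ e) (r : ℕ) [Fact r.Prime] (hr2 : r ≠ 2) (hrp : r ≠ p)
    (hmod : orderOf (q : ZMod r) % 4 = 2) (hb : 1 < orderOf (Fintype.card F : ZMod r))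
    (d : ℕ) (hd : 0 < d) (hbn : orderOf (Fintype.card F : ZMod r) < d + d) :
    ∃ A : Matrix (Fin (d + d)) (Fin (d + d)) F, IsUni F q (d + d) A ∧ A.det = 1 ∧
      (∃ z : F, A ^ r = z • (1 : Matrix (Fin (d + d)) (Fin (d + d)) F)) ∧
      (∀ z : F, A ≠ z • (1 : Matrix (Fin (d + d)) (Fin (d + d)) F)) ∧
      ¬ StabPolar hF (d + d) A := by
  classical
  have hr : r.Prime := Fact.out
  have hrodd : Odd r := hr.odd_of_ne_two hr2
  have hr0 : (r : F) ≠ 0 := by
    rw [Ne, CharP.cast_eq_zero_iff F p]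
    intro hd'
    exact hrp ((Nat.prime_dvd_prime_iff_eq Fact.out Fact.out).1 hd').symm
  have hσe : ∀ c : F, frobHom hF c = c ^ q := fun c => frobHom_apply hF c
  set n := d + d with hn
  set i₀ := orderOf (Fintype.card F : ZMod r) with hi₀
  have hi₀odd : Odd i₀ := by
    have h1 := b_eq hF r
    have hev : Even (orderOf (q : ZMod r)) := by rw [Nat.even_iff]; omega
    rw [if_pos hev] at h1
    rw [Nat.odd_iff, hi₀, h1]
    omega
  have hq0 : ((Fintype.card F : ℕ) : ZMod r) ≠ 0 := by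
    rw [Ne, ZMod.natCast_eq_zero_iff]
    exact card_not_dvd (F := F) r hr hrp
  have hidvd' : i₀ ∣ r - 1 := orderOf_dvd_of_pow_eq_one (ZMod.pow_card_sub_one_eq_one hq0)
  set t := (r - 1) / i₀ with ht
  have hti : t * i₀ = r - 1 := Nat.div_mul_cancel hidvd'
  have ht1 : 0 < t := by
    rcases Nat.eq_zero_or_pos t with h0 | h0
    · rw [h0, zero_mul] at hti
      have := hr.two_le
      omega
    · exact h0
  obtain ⟨h, hmon, hirr, hnone, hdeg, hprod⟩ :=
    PrimeOrderClasses.exists_factor_family (F := F) (p := p) rfl r i₀ t hr hrp hi₀ hti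
  have hsq : Squarefree (∏ o, h o) := by
    rw [hprod]
    have := (separable_X_pow_sub_C (1 : F) hr0 one_ne_zero).squarefree
    rwa [map_one] at this
  have hcop := family_coprime h hmon hirr hsq
  set h₁ := h (some ⟨0, ht1⟩) with hh₁
  have hh₁d : h₁ ∣ X ^ r - 1 := by
    rw [← hprod]
    exact Finset.dvd_prod_of_mem _ (Finset.mem_univ _)
  have hX1d : (X - 1 : F[X]) ∣ X ^ r - 1 := by
    rw [← hprod, ← hnone]
    exact Finset.dvd_prod_of_mem _ (Finset.mem_univ _)
  have hh₁ne : h₁ ≠ X - 1 := by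
    intro heq
    have := hcop (some ⟨0, ht1⟩) none (by simp)
    rw [← hh₁, hnone, heq] at this
    exact not_isUnit_X_sub_one' (this.isUnit_of_dvd' dvd_rfl dvd_rfl)
  have hh₁deg : h₁.natDegree = i₀ := hdeg _
  have hh₁m : h₁.Monic := hmon _
  have hstar : StarPoly.star (frobHom hF) h₁ = h₁ :=
    star_eq_self_of_mod_four hF e hqe (frobHom hF) hσe r hmod h₁ hh₁m (hirr _) hh₁d hh₁ne
  -- the characteristic polynomial
  set a := n - i₀ with ha
  set f : F[X] := (X - 1) ^ a * h₁ with hf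
  have hfm : f.Monic := (monic_X_sub_one'.pow a).mul hh₁m
  have hfdeg : f.natDegree = n := by
    rw [hf, (monic_X_sub_one'.pow a).natDegree_mul hh₁m, monic_X_sub_one'.natDegree_pow,
      natDegree_X_sub_one', hh₁deg]
    omega
  have hfstar : StarPoly.star (frobHom hF) f = f := by
    rw [hf, StarPoly.star_mul, StarPoly.star_pow, StarPoly.star_X_sub_one, hstar]
  have hfdvd : f ∣ (X ^ r - C (1 : F)) ^ (a + 1) := by
    rw [C_1, pow_succ, hf]
    exact mul_dvd_mul (pow_dvd_pow_of_dvd hX1d a) hh₁d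
  obtain ⟨g, hguni, hgf, hgr⟩ := exists_uni_of_charpoly (p := p) hF (frobHom hF) hσe r (1 : F) n f
    hfm hfdeg hfstar (a + 1) hfdvd one_ne_zero hr.pos
  rw [one_smul] at hgr
  have hgdet : g.det = 1 := by
    apply root_unity_trivial r hb
    rw [← Matrix.det_pow, hgr, Matrix.det_one]
  set T := Matrix.toLin' g with hT
  have hTr : T ^ r = 1 := by
    rw [hT, ← Matrix.toLin'_pow, hgr, Matrix.toLin'_one]
    rfl
  have hroot : ¬ IsRoot h₁ 1 := by
    intro h1
    have h2 : (X - C (1 : F)) ∣ h₁ := dvd_iff_isRoot.2 h1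
    rw [C_1] at h2
    have hX : Irreducible (X - 1 : F[X]) := by
      have h3 : (X - 1 : F[X]) = X - C 1 := by rw [C_1]
      rw [h3]
      exact irreducible_X_sub_C 1
    exact hh₁ne (Polynomial.eq_of_monic_of_associated monic_X_sub_one' hh₁m
      (hX.associated_of_dvd (hirr _) h2)).symm
  have hker : finrank F (LinearMap.ker (T - (1 : F) • (1 : (Fin n → F) →ₗ[F] (Fin n → F)))) =
      a := by
    rw [finrank_fix_of_pow T r hr0 hTr, hT, charpoly_toLin'_eq, hgf, hf,
      rootMultiplicity_mul (mul_ne_zero (pow_ne_zero _ monic_X_sub_one'.ne_zero) hh₁m.ne_zero),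
      rootMultiplicity_eq_zero hroot, add_zero]
    have h3 : (X - 1 : F[X]) = X - C 1 := by rw [C_1]
    rw [h3, rootMultiplicity_X_sub_C_pow]
  have ha1 : 0 < a := by omega
  have han : a < n := by omega
  have hns : ∀ z : F, g ≠ z • (1 : Matrix (Fin n) (Fin n) F) := by
    intro z hz
    have hTz : T = z • (1 : (Fin n → F) →ₗ[F] (Fin n → F)) := by
      rw [hT, hz, map_smul, Matrix.toLin'_one]
      rfl
    by_cases hz1 : z = 1
    · have h4 : LinearMap.ker (T - (1 : F) • (1 : (Fin n → F) →ₗ[F] (Fin n → F))) = ⊤ := by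
        rw [hTz, hz1, sub_self, LinearMap.ker_zero]
      rw [h4, finrank_top, Module.finrank_fin_fun] at hker
      omega
    · have h4 : LinearMap.ker (T - (1 : F) • (1 : (Fin n → F) →ₗ[F] (Fin n → F))) = ⊥ := by
        rw [hTz, LinearMap.ker_eq_bot']
        intro m hm
        rw [LinearMap.sub_apply, LinearMap.smul_apply, LinearMap.smul_apply,
          Module.End.one_apply, ← sub_smul] at hm
        rcases smul_eq_zero.1 hm with h5 | h5
        · exact absurd (sub_eq_zero.1 h5) hz1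
        · exact h5
      rw [h4, finrank_bot] at hker
      omega
  refine ⟨g, hguni, hgdet, ⟨1, by rw [hgr, one_smul]⟩, hns, ?_⟩
  apply not_stab_of_odd hF d hd g hguni r hrodd hgr 1 (by rw [one_pow, mul_one])
  rw [hker]
  obtain ⟨k, hk⟩ := hi₀odd
  exact ⟨d - k - 1, by omega⟩

end Cfsg.Agent.Lib.Helper22.PolUn
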