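import Mathlib
import Cfsg.Agent.Lib.Helper22.PolUnJ

set_option autoImplicit false

/-!
# Elements of `SU_{2d}(q)`, `q` odd, squaring to a scalar: stabilising a polar pair
-/

namespace Cfsg.Agent.Lib.Helper22.PolUn

open Module Polynomial Cfsg.Agent.Lib.Helper12 Cfsg.Agent.Lib.Helper12.Elus
  Cfsg.Agent.Lib.Helper12.Un Cfsg.Agent.Lib.Helper14
  Cfsg.Agent.Lib.Helper5.HermBridge Cfsg.Agent.Lib.Helper22.NdUn Cfsg.Agent.Lib.Helper15

open scoped Matrix MatrixGroups

variable {F : Type*} [Field F] [Fintype F] {q : ℕ}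

/-- hyperbolic pairs in nondegenerate subspaces of the standard unitary space -/
theorem exists_hyp_pair (hF : Fintype.card F = q ^ 2) (n : ℕ) :
    ∀ E : Submodule F (Fin n → F), NdOn (hermB hF n) E → 2 ≤ finrank F E →
      ∃ e ∈ E, ∃ e' ∈ E, hermB hF n e e = 0 ∧ hermB hF n e' e' = 0 ∧ hermB hF n e e' ≠ 0 := by
  intro E hE hdim
  have hf := herm_unitary (n := n) hF
  have hND : Cfsg.Agent.Lib.Helper5.UForm.ND (Cfsg.hermForm n F q) E := by
    intro u hu hu0
    obtain ⟨v, hv, hne⟩ := hE u hu hu0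
    refine ⟨v, hv, ?_⟩
    rw [← hermB_apply hF, hermB_sym]
    exact (_root_.map_ne_zero _).2 hne
  obtain ⟨e, he, e', he', h1, h2, h3⟩ := Cfsg.Agent.Lib.Helper5.UForm.exists_hyp hf hND hdim
  refine ⟨e, he, e', he', h1, h2, ?_⟩
  rw [hermB_apply, h3]
  exact one_ne_zero

/-- `r = 2`, `q` odd, `(q+1)_2 ≤ (n)_2`: every element squaring to a scalar stabilises a polar
pair -/
theorem bwd_two_polar (hF : Fintype.card F = q ^ 2) (p : ℕ) [Fact p.Prime] [CharP F p]
    (hp2 : p ≠ 2) (hqodd : Odd q) (d : ℕ) (hd : 0 < d)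
    (hv : padicValNat 2 (q + 1) ≤ padicValNat 2 (d + d))
    (A : Matrix (Fin (d + d)) (Fin (d + d)) F) (hA : IsUni F q (d + d) A) (hdet : A.det = 1)
    (hz : ∃ z : F, A ^ 2 = z • (1 : Matrix (Fin (d + d)) (Fin (d + d)) F)) :
    StabPolar hF (d + d) A := by
  classical
  have hp : p.Prime := Fact.out
  have hq2 := herm_two_le hF
  have h2N : ((2 : ℕ) : F) ≠ 0 := by
    rw [Ne, CharP.cast_eq_zero_iff F p]
    intro hd'
    exact hp2 ((Nat.prime_dvd_prime_iff_eq hp Nat.prime_two).1 hd')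
  have h2 : (2 : F) ≠ 0 := by exact_mod_cast h2N
  obtain ⟨z, hz⟩ := hz
  have hzn : z * z ^ q = 1 := scal_norm (d + d) (by omega) A hA 2 z hz
  have hz1 : z ^ (q + 1) = 1 := by rw [pow_succ']; exact hzn
  have hz0 : z ≠ 0 := by
    intro h0
    rw [h0, zero_mul] at hzn
    exact zero_ne_one hzn
  have hT2 : (Matrix.toLin' A) ^ 2 = z • 1 := by
    rw [← Matrix.toLin'_pow, hz, map_smul, Matrix.toLin'_one]
    rfl
  obtain ⟨j, hj⟩ := hqodd
  have hsqz : IsSquare z := by
    have hch : ringChar F ≠ 2 := by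
      rw [ringChar.eq F p]
      exact hp2
    rw [FiniteField.isSquare_iff hch hz0, hF]
    have h3 : q ^ 2 / 2 = j * (q + 1) := by
      rw [hj]
      have : (2 * j + 1) ^ 2 = 2 * (j * (2 * j + 1 + 1)) + 1 := by ring
      rw [this]
      omega
    rw [h3, mul_comm, pow_mul, hz1, one_pow]
  obtain ⟨l, hl⟩ := hsqz
  have hl0 : l ≠ 0 := by
    intro h0
    rw [h0, mul_zero] at hl
    exact hz0 hl
  have hν : (l * l ^ q) * (l * l ^ q) = 1 := by
    have : (l * l ^ q) * (l * l ^ q) = (l * l) * (l * l) ^ q := by ring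
    rw [this, ← hl, hzn]
  have hσ := frob_invol hF
  have hsym := hermB_sym hF (d + d)
  have hnd := hermB_nd hF (d + d)
  rcases mul_self_eq_one_iff.1 hν with hν1 | hν1
  · -- involution case
    set y := l⁻¹ • Matrix.toLin' A with hy
    have hiso : ∀ u v, hermB hF (d + d) (y u) (y v) = hermB hF (d + d) u v :=
      scaled_iso hF (d + d) A hA l⁻¹ (inv_norm l hν1)
    have hy2 : y ^ 2 = 1 := by
      rw [hy, _root_.smul_pow, hT2, smul_smul, inv_pow, sq, ← hl, inv_mul_cancel₀ hz0, one_smul]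
    have hG2 : (l⁻¹ • A) ^ 2 = 1 := by
      rw [_root_.smul_pow, hz, smul_smul, inv_pow, sq, ← hl, inv_mul_cancel₀ hz0, one_smul]
    have h4 := det_involution h2 (d + d) (l⁻¹ • A) hG2
    have hyeq : Matrix.toLin' (l⁻¹ • A) = y := by rw [hy, map_smul]
    rw [hyeq, Matrix.det_smul, hdet, mul_one, Fintype.card_fin, inv_pow] at h4
    have hmov : Even (finrank F (movR y)) := by
      rcases Nat.even_or_odd (finrank F (movR y)) with he | ho
      · exact he
      · exfalso
        rw [ho.neg_one_pow] at h4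
        have h5 : l ^ (d + d) = -1 := by
          have := congrArg (fun x => x⁻¹) h4
          simp only [inv_inv] at this
          rw [this, inv_neg, inv_one]
        exact pow_ne_neg_one h2 q (d + d) (by omega) hv l hν1 h5
    have hfm := finrank_fix_add_mov y
    rw [Module.finrank_fin_fun] at hfm
    have hfix : Even (finrank F (fixE y)) := by
      obtain ⟨m, hm⟩ := hmov
      exact ⟨d - m, by omega⟩
    obtain ⟨U, W, hP, hUinv, hWinv⟩ := polar_of_invol (hermB hF (d + d)) hσ hsym hnd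
      (exists_hyp_pair hF (d + d)) y hiso h2N hy2 hfix hmov
    have hAy : ∀ v, Matrix.toLin' A v = l • y v := by
      intro v
      rw [hy, LinearMap.smul_apply, smul_smul, mul_inv_cancel₀ hl0, one_smul]
    refine ⟨U, W, hP, Or.inl ⟨?_, ?_⟩⟩
    · rintro _ ⟨u, hu, rfl⟩
      rw [hAy]
      exact Submodule.smul_mem _ _ (hUinv u hu)
    · rintro _ ⟨w, hw, rfl⟩
      rw [hAy]
      exact Submodule.smul_mem _ _ (hWinv w hw)
  · -- eigenspace case
    have hyy : ∀ v, Matrix.toLin' A (Matrix.toLin' A v) = (l * l) • v := by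
      intro v
      have := congrArg (fun g : (Fin (d + d) → F) →ₗ[F] (Fin (d + d) → F) => g v) hT2
      simp only [sq, Module.End.mul_apply, LinearMap.smul_apply, Module.End.one_apply] at this
      rw [this, hl]
    have hlσ : l * frobHom hF l = -1 := by rw [frobHom_apply]; exact hν1
    have hP := polar_of_eigen (hermB hF (d + d)) (Matrix.toLin' A) (uni_iso hF (d + d) A hA) h2 l hlσ hyy
    refine ⟨_, _, hP, Or.inl ⟨?_, ?_⟩⟩
    · rintro _ ⟨u, hu, rfl⟩
      exact ker_invariant (Matrix.toLin' A) l u hu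
    · rintro _ ⟨u, hu, rfl⟩
      exact ker_invariant (Matrix.toLin' A) (-l) u hu

end Cfsg.Agent.Lib.Helper22.PolUn
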