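import Mathlib

set_option autoImplicit false

namespace Cfsg.Agent.Lib.Helper22.PrimSol

open scoped commutatorElement

variable {Γ : Type*} [Group Γ]

theorem comm_mul_of_commute {x y s t : Γ} (h1 : Commute s x) (h2 : Commute s y)
    (h3 : Commute s t) (h4 : Commute t x) (h5 : Commute t y) : ⁅x * s, y * t⁆ = ⁅x, y⁆ := by
  have e1 : s * (y * t) * s⁻¹ = y * t := by
    rw [(h2.mul_right h3).eq, mul_inv_cancel_right]
  have e2 : t * x⁻¹ * t⁻¹ = x⁻¹ := by
    rw [(h4.inv_right).eq, mul_inv_cancel_right]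
  calc ⁅x * s, y * t⁆ = x * (s * (y * t) * s⁻¹) * x⁻¹ * t⁻¹ * y⁻¹ := by
        simp only [commutatorElement_def, mul_inv_rev, mul_assoc]
    _ = x * y * (t * x⁻¹ * t⁻¹) * y⁻¹ := by rw [e1]; simp only [mul_assoc]
    _ = ⁅x, y⁆ := by rw [e2, commutatorElement_def]

/-- iterated derived subgroups of a subgroup, inside the ambient group -/
def dser (N : Subgroup Γ) : ℕ → Subgroup Γ
  | 0 => N
  | (i + 1) => ⁅dser N i, dser N i⁆

theorem dser_le_derivedSeries (N : Subgroup Γ) (i : ℕ) : dser N i ≤ derivedSeries Γ i := by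
  induction i with
  | zero => exact le_top
  | succ i ih => exact Subgroup.commutator_mono ih ih

instance dser_normal (N : Subgroup Γ) [hN : N.Normal] (i : ℕ) : (dser N i).Normal := by
  induction i with
  | zero => exact hN
  | succ i ih =>
    have := ih
    exact Subgroup.commutator_normal (dser N i) (dser N i)

theorem dser_le (N : Subgroup Γ) [hN : N.Normal] (i : ℕ) : dser N i ≤ N := by
  induction i with
  | zero => exact le_rfl
  | succ i ih =>
    have : (dser N i).Normal := dser_normal N i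
    exact (Subgroup.commutator_le_left (dser N i) (dser N i)).trans ih


/-- the abstract descent: `P` = "fixed space zero", `Q` = "at most half", `R` = "at most three
quarters". -/
theorem descent [Finite Γ] (hsol : Group.IsSolvable Γ) (P Q R : Γ → Prop)
    (h0 : ∀ A : Subgroup Γ, A.Normal → (∀ a ∈ A, ∀ b ∈ A, Commute a b) →
      ∀ a ∈ A, a ≠ 1 → P a)
    (h1 : ∀ b y : Γ, P ⁅b, y⁆ → Q b)
    (h2 : ∀ g x : Γ, Q ⁅g, x⁆ → R g)
    (hPQ : ∀ a, P a → Q a) (hQR : ∀ a, Q a → R a)
    (g : Γ) (hg : g ≠ 1) : R g := by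
  classical
  -- a maximal abelian normal subgroup
  have hne1 : Nonempty {A : Subgroup Γ // A.Normal ∧ ∀ a ∈ A, ∀ b ∈ A, Commute a b} :=
    ⟨⟨⊥, inferInstance, by
      intro a ha b hb
      rw [Subgroup.mem_bot] at ha hb
      rw [ha, hb]⟩⟩
  obtain ⟨⟨A, hAn, hAab⟩, hAmax⟩ := Finite.exists_max
    (fun A : {A : Subgroup Γ // A.Normal ∧ ∀ a ∈ A, ∀ b ∈ A, Commute a b} => Nat.card A.1)
  have hAmax' : ∀ A' : Subgroup Γ, A'.Normal → (∀ a ∈ A', ∀ b ∈ A', Commute a b) →
      A ≤ A' → A' = A := by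
    intro A' h1' h2' hle
    have := hAmax ⟨A', h1', h2'⟩
    exact (Subgroup.eq_of_le_of_card_ge hle this).symm
  by_cases hgA : ∃ a ∈ A, ⁅g, a⁆ ≠ 1
  · obtain ⟨a, ha, hne⟩ := hgA
    have hmem : ⁅g, a⁆ ∈ A := by
      rw [commutatorElement_def]
      exact mul_mem (hAn.conj_mem a ha g) (inv_mem ha)
    exact h2 g a (hPQ _ (h0 A hAn hAab _ hmem hne))
  push Not at hgA
  set C := Subgroup.centralizer (A : Set Γ) with hC
  have hCn : C.Normal := Subgroup.normal_centralizer
  have hAC : A ≤ C := by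
    intro a ha
    rw [hC, Subgroup.mem_centralizer_iff]
    intro b hb
    exact (hAab b hb a ha).eq
  have hgC : g ∈ C := by
    rw [hC, Subgroup.mem_centralizer_iff]
    intro a ha
    exact ((commutatorElement_eq_one_iff_commute.mp (hgA a ha)).eq).symm
  have hne2 : Nonempty {N : Subgroup Γ // N.Normal ∧ A ≤ N ∧ N ≤ C ∧ g ∈ N} :=
    ⟨⟨C, hCn, hAC, le_rfl, hgC⟩⟩
  obtain ⟨⟨N, hNn, hAN, hNC, hgN⟩, hNmin⟩ := Finite.exists_min
    (fun N : {N : Subgroup Γ // N.Normal ∧ A ≤ N ∧ N ≤ C ∧ g ∈ N} => Nat.card N.1)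
  by_cases hNA : N ≤ A
  · exact hQR _ (hPQ _ (h0 A hAn hAab g (hNA hgN) hg))
  -- elements of `N` commute with elements of `A`
  have hcommNA : ∀ d ∈ N, ∀ a ∈ A, Commute a d := by
    intro d hd a ha
    have := hNC hd
    rw [hC, Subgroup.mem_centralizer_iff] at this
    exact this a ha
  -- the last term of the derived chain of `N` not inside `A`
  obtain ⟨k0, hk0⟩ := (Group.isSolvable_def Γ).mp hsol
  have hex : ∃ k, dser N k ≤ A := ⟨k0, by
    have := dser_le_derivedSeries N k0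
    rw [hk0] at this
    exact this.trans bot_le⟩
  have hk1 : dser N (Nat.find hex) ≤ A := Nat.find_spec hex
  have hkmin : ∀ m, m < Nat.find hex → ¬ dser N m ≤ A := fun m hm => Nat.find_min hex hm
  generalize Nat.find hex = k at hk1 hkmin
  have hkpos : 0 < k := by
    rcases Nat.eq_zero_or_pos k with h | h
    · subst h
      exact absurd hk1 hNA
    · exact h
  obtain ⟨j, rfl⟩ : ∃ j, k = j + 1 := ⟨k - 1, by omega⟩
  set D := dser N j with hD
  have hDn : D.Normal := dser_normal N j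
  have hDN : D ≤ N := dser_le N j
  have hDA : ¬ D ≤ A := hkmin j (Nat.lt_succ_self j)
  set B := D ⊔ A with hB
  have hBn : B.Normal := inferInstance
  have hAB : A ≤ B := le_sup_right
  have hBN : B ≤ N := sup_le hDN hAN
  -- commutators of `B` lie in `A`
  have hBB : ∀ b ∈ B, ∀ y ∈ B, ⁅b, y⁆ ∈ A := by
    intro b hb y hy
    rw [hB, Subgroup.mem_sup_of_normal_right] at hb hy
    obtain ⟨d, hd, a, ha, rfl⟩ := hb
    obtain ⟨d', hd', a', ha', rfl⟩ := hy
    rw [comm_mul_of_commute (hcommNA d (hDN hd) a ha) (hcommNA d' (hDN hd') a ha)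
      (hAab a ha a' ha') (hcommNA d (hDN hd) a' ha') (hcommNA d' (hDN hd') a' ha')]
    apply hk1
    exact Subgroup.commutator_mem_commutator hd hd'
  -- the centre of `B` is `A`
  set ZB := B ⊓ Subgroup.centralizer (B : Set Γ) with hZB
  have hZBn : ZB.Normal := inferInstance
  have hZBab : ∀ a ∈ ZB, ∀ b ∈ ZB, Commute a b := by
    intro a ha b hb
    have := (Subgroup.mem_inf.mp ha).2
    rw [Subgroup.mem_centralizer_iff] at this
    exact (this b (Subgroup.mem_inf.mp hb).1).symm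
  have hAZB : A ≤ ZB := by
    intro a ha
    refine Subgroup.mem_inf.mpr ⟨hAB ha, ?_⟩
    rw [Subgroup.mem_centralizer_iff]
    intro b hb
    exact ((hcommNA b (hBN hb) a ha).eq).symm
  have hZBA : ZB = A := hAmax' ZB hZBn hZBab hAZB
  -- every nonidentity element of `B` satisfies `Q`
  have hQB : ∀ b ∈ B, b ≠ 1 → Q b := by
    intro b hb hb1
    by_cases hbA : b ∈ A
    · exact hPQ _ (h0 A hAn hAab b hbA hb1)
    · have hnc : b ∉ Subgroup.centralizer (B : Set Γ) := by
        intro hc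
        apply hbA
        rw [← hZBA]
        exact Subgroup.mem_inf.mpr ⟨hb, hc⟩
      rw [Subgroup.mem_centralizer_iff] at hnc
      push Not at hnc
      obtain ⟨y, hy, hne⟩ := hnc
      have hne' : ⁅b, y⁆ ≠ 1 := by
        intro h
        exact hne ((commutatorElement_eq_one_iff_commute.mp h).eq).symm
      exact h1 b y (h0 A hAn hAab _ (hBB b hb y hy) hne')
  by_cases hgB : ∃ x ∈ B, ⁅g, x⁆ ≠ 1
  · obtain ⟨x, hx, hne⟩ := hgB
    have hmem : ⁅g, x⁆ ∈ B := by
      rw [commutatorElement_def]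
      exact mul_mem (hBn.conj_mem x hx g) (inv_mem hx)
    exact h2 g x (hQB _ hmem hne)
  push Not at hgB
  -- `g` centralises `B`: shrink `N`
  exfalso
  set N' := N ⊓ Subgroup.centralizer (B : Set Γ) with hN'
  have hN'n : N'.Normal := inferInstance
  have hAN' : A ≤ N' := fun a ha =>
    Subgroup.mem_inf.mpr ⟨hAN ha, (Subgroup.mem_inf.mp (hAZB ha)).2⟩
  have hN'C : N' ≤ C := inf_le_left.trans hNC
  have hgN' : g ∈ N' := by
    refine Subgroup.mem_inf.mpr ⟨hgN, ?_⟩
    rw [Subgroup.mem_centralizer_iff]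
    intro x hx
    exact ((commutatorElement_eq_one_iff_commute.mp (hgB x hx)).eq).symm
  have hle := hNmin ⟨N', hN'n, hAN', hN'C, hgN'⟩
  have heq : N' = N := Subgroup.eq_of_le_of_card_ge inf_le_left hle
  apply hDA
  intro d hd
  have hdB : d ∈ B := Subgroup.mem_sup_left hd
  have hdN' : d ∈ N' := by rw [heq]; exact hDN hd
  rw [← hZBA]
  exact Subgroup.mem_inf.mpr ⟨hdB, (Subgroup.mem_inf.mp hdN').2⟩

end Cfsg.Agent.Lib.Helper22.PrimSol
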