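import Cfsg.Prelude.Def_GeometricClasses
import Cfsg.Agent.Lib.Helper22.ExtraEigGL

set_option autoImplicit false

namespace Cfsg.Agent.Lib.Helper22.PrimSol

open Cfsg.Agent.Lib.Helper22.ExtraEig
open Module

variable {F : Type*} [Field F] {n : ℕ}

/-- joint fixed space of a finite set of invertible matrices -/
noncomputable def fixSp (T : Finset (Matrix.GeneralLinearGroup (Fin n) F)) :
    Submodule F (Fin n → F) :=
  ⨅ t ∈ T, Module.End.eigenspace (L t) 1

theorem mem_fixSp (T : Finset (Matrix.GeneralLinearGroup (Fin n) F)) (v : Fin n → F) :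
    v ∈ fixSp T ↔ ∀ t ∈ T, L t v = v := by
  simp only [fixSp, Submodule.mem_iInf, Module.End.mem_eigenspace_iff, one_smul]

/-- conjugate of a finite set -/
noncomputable def cj [DecidableEq (Matrix.GeneralLinearGroup (Fin n) F)]
    (h : Matrix.GeneralLinearGroup (Fin n) F)
    (T : Finset (Matrix.GeneralLinearGroup (Fin n) F)) :
    Finset (Matrix.GeneralLinearGroup (Fin n) F) :=
  T.image (fun t => h * t * h⁻¹)

section
variable [DecidableEq (Matrix.GeneralLinearGroup (Fin n) F)]

theorem mem_cj (h t : Matrix.GeneralLinearGroup (Fin n) F)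
    (T : Finset (Matrix.GeneralLinearGroup (Fin n) F)) :
    t ∈ cj h T ↔ h⁻¹ * t * h ∈ T := by
  simp only [cj, Finset.mem_image]
  constructor
  · rintro ⟨s, hs, rfl⟩
    have : h⁻¹ * (h * s * h⁻¹) * h = s := by group
    rwa [this]
  · intro ht
    exact ⟨_, ht, by group⟩

theorem card_cj (h : Matrix.GeneralLinearGroup (Fin n) F)
    (T : Finset (Matrix.GeneralLinearGroup (Fin n) F)) : (cj h T).card = T.card := by
  apply Finset.card_image_of_injective
  intro s t hst
  simpa using hst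

theorem cj_mul (g h : Matrix.GeneralLinearGroup (Fin n) F)
    (T : Finset (Matrix.GeneralLinearGroup (Fin n) F)) : cj g (cj h T) = cj (g * h) T := by
  ext t
  rw [mem_cj, mem_cj, mem_cj]
  have : h⁻¹ * (g⁻¹ * t * g) * h = (g * h)⁻¹ * t * (g * h) := by group
  rw [this]

theorem cj_injective (g : Matrix.GeneralLinearGroup (Fin n) F) :
    Function.Injective (cj (F := F) (n := n) g) := by
  intro T T' h
  have := congrArg (cj g⁻¹) h
  rw [cj_mul, cj_mul, inv_mul_cancel, cj, cj] at this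
  simpa using this

theorem map_fixSp (h : Matrix.GeneralLinearGroup (Fin n) F)
    (T : Finset (Matrix.GeneralLinearGroup (Fin n) F)) :
    (fixSp T).map (L h) = fixSp (cj h T) := by
  ext v
  rw [Submodule.mem_map, mem_fixSp]
  constructor
  · rintro ⟨w, hw, rfl⟩ t ht
    rw [mem_cj] at ht
    rw [mem_fixSp] at hw
    have := hw _ ht
    have e : t = h * (h⁻¹ * t * h) * h⁻¹ := by group
    rw [e, map_mul, map_mul, Module.End.mul_apply, Module.End.mul_apply, ← Module.End.mul_apply (L h⁻¹),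
      L_inv_mul, Module.End.one_apply, this]
  · intro hv
    refine ⟨L h⁻¹ v, ?_, ?_⟩
    · rw [mem_fixSp]
      intro t ht
      have ht' : h * t * h⁻¹ ∈ cj h T := by
        rw [mem_cj]
        have : h⁻¹ * (h * t * h⁻¹) * h = t := by group
        rwa [this]
      have := hv _ ht'
      rw [map_mul, map_mul, Module.End.mul_apply, Module.End.mul_apply] at this
      have h2 := congrArg (L h⁻¹) this
      rw [← Module.End.mul_apply (L h⁻¹) (L h), L_inv_mul, Module.End.one_apply] at h2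
      exact h2
    · rw [← Module.End.mul_apply, L_mul_inv, Module.End.one_apply]


theorem fixSp_insert (τ : Matrix.GeneralLinearGroup (Fin n) F)
    (T : Finset (Matrix.GeneralLinearGroup (Fin n) F)) :
    fixSp (insert τ T) = Module.End.eigenspace (L τ) 1 ⊓ fixSp T := by
  ext v
  rw [Submodule.mem_inf, mem_fixSp, mem_fixSp, Module.End.mem_eigenspace_iff, one_smul]
  constructor
  · intro h
    exact ⟨h τ (Finset.mem_insert_self _ _), fun t ht => h t (Finset.mem_insert_of_mem ht)⟩
  · rintro ⟨h1, h2⟩ t ht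
    rcases Finset.mem_insert.mp ht with rfl | ht
    · exact h1
    · exact h2 t ht

/-- a matrix commuting with all members of `T` preserves the joint fixed space of `T` -/
theorem fixSp_invariant (τ : Matrix.GeneralLinearGroup (Fin n) F)
    (T : Finset (Matrix.GeneralLinearGroup (Fin n) F)) (hτ : ∀ t ∈ T, Commute τ t)
    (v : Fin n → F) (hv : v ∈ fixSp T) : L τ v ∈ fixSp T := by
  rw [mem_fixSp] at hv ⊢
  intro t ht
  rw [← Module.End.mul_apply, ← map_mul, ← (hτ t ht).eq, map_mul, Module.End.mul_apply, hv t ht]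


/-- joint fixed spaces of distinct maximal subsets of a commuting family are independent -/
theorem indep_of_max {ι : Type*} (Tf : ι → Finset (Matrix.GeneralLinearGroup (Fin n) F))
    (𝒞 : Finset (Matrix.GeneralLinearGroup (Fin n) F)) (N : ℕ)
    (hcomm : ∀ s ∈ 𝒞, ∀ t ∈ 𝒞, Commute s t)
    (hsub : ∀ i, Tf i ⊆ 𝒞) (hcard : ∀ i, (Tf i).card = N)
    (hinj : Function.Injective Tf)
    (hmax : ∀ T : Finset (Matrix.GeneralLinearGroup (Fin n) F), T ⊆ 𝒞 → N < T.card →
      fixSp T = ⊥) :
    iSupIndep (fun i => fixSp (Tf i)) := by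
  classical
  rw [iSupIndep_iff_finsetSum_eq_zero_imp_eq_zero]
  suffices H : ∀ (k : ℕ) (s : Finset ι), s.card = k → ∀ v : ι → (Fin n → F),
      (∀ i ∈ s, v i ∈ fixSp (Tf i)) → ∑ i ∈ s, v i = 0 → ∀ i ∈ s, v i = 0 from
    fun s v hv h0 => H s.card s rfl v hv h0
  intro k
  induction k with
  | zero =>
    intro s hs v _ _ i hi
    rw [Finset.card_eq_zero] at hs
    rw [hs] at hi
    exact absurd hi (Finset.notMem_empty i)
  | succ k ih =>
    intro s hs v hv h0
    have hsne : s.Nonempty := by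
      rw [← Finset.card_pos, hs]
      exact Nat.succ_pos k
    obtain ⟨i₀, hi₀⟩ := hsne
    by_cases hall : ∀ j ∈ s, j = i₀
    · intro i hi
      have hs1 : s = {i₀} := by
        ext j
        rw [Finset.mem_singleton]
        exact ⟨hall j, fun h => h ▸ hi₀⟩
      rw [hs1, Finset.sum_singleton] at h0
      rw [hall i hi]
      exact h0
    push Not at hall
    obtain ⟨j, hj, hji⟩ := hall
    have hτ : ∃ τ ∈ Tf i₀, τ ∉ Tf j := by
      by_contra hcon
      push Not at hcon
      have : Tf i₀ = Tf j := Finset.eq_of_subset_of_card_le hcon (by rw [hcard, hcard])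
      exact hji (hinj this).symm
    obtain ⟨τ, hτi, hτj⟩ := hτ
    have hτ𝒞 : τ ∈ 𝒞 := hsub i₀ hτi
    have hw_mem : ∀ l ∈ s.erase i₀, L τ (v l) - v l ∈ fixSp (Tf l) := by
      intro l hl
      have hl' := Finset.mem_of_mem_erase hl
      exact sub_mem (fixSp_invariant τ _ (fun t ht => hcomm τ hτ𝒞 t (hsub l ht)) _ (hv l hl'))
        (hv l hl')
    have hw_i₀ : L τ (v i₀) - v i₀ = 0 := by
      rw [(mem_fixSp _ _).mp (hv i₀ hi₀) τ hτi, sub_self]
    have hw_sum : ∑ l ∈ s.erase i₀, (L τ (v l) - v l) = 0 := by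
      have h1 : ∑ l ∈ s, (L τ (v l) - v l) = 0 := by
        rw [Finset.sum_sub_distrib, ← map_sum, h0, map_zero, sub_zero]
      rw [← Finset.add_sum_erase s _ hi₀, hw_i₀, zero_add] at h1
      exact h1
    have hw0 := ih (s.erase i₀) (by rw [Finset.card_erase_of_mem hi₀, hs]; rfl)
      (fun l => L τ (v l) - v l) hw_mem hw_sum
    have hwj : L τ (v j) - v j = 0 := hw0 j (Finset.mem_erase.mpr ⟨hji, hj⟩)
    have hvj : v j = 0 := by
      have h1 : v j ∈ fixSp (insert τ (Tf j)) := by
        rw [fixSp_insert]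
        refine Submodule.mem_inf.mpr ⟨?_, hv j hj⟩
        rw [Module.End.mem_eigenspace_iff, one_smul]
        exact sub_eq_zero.mp hwj
      rw [hmax _ (Finset.insert_subset hτ𝒞 (hsub j))
        (by rw [Finset.card_insert_of_notMem hτj, hcard]; exact Nat.lt_succ_self N)] at h1
      simpa using h1
    have hsum' : ∑ l ∈ s.erase j, v l = 0 := by
      rw [← Finset.add_sum_erase s v hj, hvj, zero_add] at h0
      exact h0
    have hrest := ih (s.erase j) (by rw [Finset.card_erase_of_mem hj, hs]; rfl) v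
      (fun l hl => hv l (Finset.mem_of_mem_erase hl)) hsum'
    intro i hi
    by_cases hij : i = j
    · rw [hij]
      exact hvj
    · exact hrest i (Finset.mem_erase.mpr ⟨hij, hi⟩)


end

/-- In an irreducible primitive linear group, a nonidentity element whose conjugates commute
pairwise has no nonzero fixed vector. -/
theorem semiregular [Fintype F] (G : Subgroup (Matrix.GeneralLinearGroup (Fin n) F))
    (hirr : Cfsg.Geo.ActsIrreducibly (Cfsg.Geo.matrixSet G))
    (hprim : ∀ (m t : ℕ) (D : Fin t → Submodule F (Fin n → F)), 2 ≤ t →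
      Cfsg.Geo.IsMDecomposition m D → ¬ G ≤ Cfsg.Geo.decompositionStabilizer D)
    (a : Matrix.GeneralLinearGroup (Fin n) F) (ha1 : a ≠ 1)
    (hcomm : ∀ h ∈ G, ∀ h' ∈ G, Commute (h * a * h⁻¹) (h' * a * h'⁻¹)) :
    Module.End.eigenspace (L a) 1 = ⊥ := by
  classical
  by_contra hne
  have hfinG : Fintype G := Fintype.ofFinite _
  -- the conjugacy class
  set 𝒞 : Finset (Matrix.GeneralLinearGroup (Fin n) F) :=
    (Finset.univ : Finset ↥G).image (fun h : ↥G => (h : Matrix.GeneralLinearGroup (Fin n) F) * a *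
      (h : Matrix.GeneralLinearGroup (Fin n) F)⁻¹) with h𝒞
  have mem𝒞 : ∀ s, s ∈ 𝒞 ↔ ∃ h ∈ G, h * a * h⁻¹ = s := by
    intro s
    rw [h𝒞, Finset.mem_image]
    constructor
    · rintro ⟨h, _, rfl⟩
      exact ⟨(h : Matrix.GeneralLinearGroup (Fin n) F), h.property, rfl⟩
    · rintro ⟨h, hh, rfl⟩
      exact ⟨(⟨h, hh⟩ : ↥G), Finset.mem_univ _, rfl⟩
  have h𝒞comm : ∀ s ∈ 𝒞, ∀ t ∈ 𝒞, Commute s t := by
    intro s hs t ht
    obtain ⟨h, hh, rfl⟩ := (mem𝒞 s).mp hs
    obtain ⟨h', hh', rfl⟩ := (mem𝒞 t).mp ht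
    exact hcomm h hh h' hh'
  have ha𝒞 : a ∈ 𝒞 := (mem𝒞 a).mpr ⟨1, one_mem G, by simp⟩
  have h𝒞cj : ∀ g ∈ G, ∀ T : Finset (Matrix.GeneralLinearGroup (Fin n) F), T ⊆ 𝒞 →
      cj g T ⊆ 𝒞 := by
    intro g hg T hT s hs
    rw [mem_cj] at hs
    obtain ⟨h, hh, hs'⟩ := (mem𝒞 _).mp (hT hs)
    refine (mem𝒞 s).mpr ⟨g * h, mul_mem hg hh, ?_⟩
    have : s = g * (g⁻¹ * s * g) * g⁻¹ := by group
    rw [this, ← hs']
    group
  -- a subset of the class with nonzero joint fixed space, of maximal size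
  set cand := 𝒞.powerset.filter (fun T => fixSp T ≠ ⊥) with hcand
  have hcandne : cand.Nonempty := by
    refine ⟨{a}, ?_⟩
    rw [hcand, Finset.mem_filter, Finset.mem_powerset]
    refine ⟨Finset.singleton_subset_iff.mpr ha𝒞, ?_⟩
    have : fixSp ({a} : Finset (Matrix.GeneralLinearGroup (Fin n) F))
        = Module.End.eigenspace (L a) 1 := by
      ext v
      rw [mem_fixSp, Module.End.mem_eigenspace_iff, one_smul]
      simp
    rw [this]
    exact hne
  obtain ⟨T₀, hT₀, hmax⟩ := Finset.exists_max_image cand Finset.card hcandne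
  rw [hcand, Finset.mem_filter, Finset.mem_powerset] at hT₀
  obtain ⟨hT₀𝒞, hT₀ne⟩ := hT₀
  have hmax' : ∀ T : Finset (Matrix.GeneralLinearGroup (Fin n) F), T ⊆ 𝒞 →
      T₀.card < T.card → fixSp T = ⊥ := by
    intro T hT hlt
    by_contra hTne
    have : T ∈ cand := by
      rw [hcand, Finset.mem_filter, Finset.mem_powerset]
      exact ⟨hT, hTne⟩
    have := hmax T this
    omega
  have hT₀card : 1 ≤ T₀.card := by
    have : ({a} : Finset (Matrix.GeneralLinearGroup (Fin n) F)) ∈ cand := by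
      rw [hcand, Finset.mem_filter, Finset.mem_powerset]
      refine ⟨Finset.singleton_subset_iff.mpr ha𝒞, ?_⟩
      have : fixSp ({a} : Finset (Matrix.GeneralLinearGroup (Fin n) F))
          = Module.End.eigenspace (L a) 1 := by
        ext v
        rw [mem_fixSp, Module.End.mem_eigenspace_iff, one_smul]
        simp
      rw [this]
      exact hne
    have := hmax _ this
    simpa using this
  -- `fixSp T₀` is not everything
  have hT₀top : fixSp T₀ ≠ ⊤ := by
    intro htop
    obtain ⟨τ, hτ⟩ : T₀.Nonempty := Finset.card_pos.mp hT₀card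
    have hτ1 : τ = 1 := by
      apply (L_eq_one_iff τ).mp
      apply LinearMap.ext
      intro v
      have hv : v ∈ fixSp T₀ := by rw [htop]; exact Submodule.mem_top
      rw [(mem_fixSp _ _).mp hv τ hτ, Module.End.one_apply]
    obtain ⟨h, _, hh⟩ := (mem𝒞 τ).mp (hT₀𝒞 hτ)
    apply ha1
    rw [hτ1] at hh
    have : a = h⁻¹ * (h * a * h⁻¹) * h := by group
    rw [this, hh]
    group
  -- the translates
  set 𝓣 : Finset (Finset (Matrix.GeneralLinearGroup (Fin n) F)) :=
    (Finset.univ : Finset ↥G).image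
      (fun h : ↥G => cj (h : Matrix.GeneralLinearGroup (Fin n) F) T₀) with h𝓣
  have mem𝓣 : ∀ T, T ∈ 𝓣 ↔ ∃ h ∈ G, cj h T₀ = T := by
    intro T
    rw [h𝓣, Finset.mem_image]
    constructor
    · rintro ⟨h, _, rfl⟩
      exact ⟨(h : Matrix.GeneralLinearGroup (Fin n) F), h.property, rfl⟩
    · rintro ⟨h, hh, rfl⟩
      exact ⟨(⟨h, hh⟩ : ↥G), Finset.mem_univ _, rfl⟩
  have hT₀𝓣 : T₀ ∈ 𝓣 := (mem𝓣 T₀).mpr ⟨1, one_mem G, by
    ext t
    rw [mem_cj]
    simp⟩
  set t := 𝓣.card with ht
  have htpos : 0 < t := Finset.card_pos.mpr ⟨T₀, hT₀𝓣⟩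
  set e : 𝓣 ≃ Fin t := 𝓣.equivFin with he
  set Tf : Fin t → Finset (Matrix.GeneralLinearGroup (Fin n) F) :=
    fun i => ((e.symm i : 𝓣) : Finset (Matrix.GeneralLinearGroup (Fin n) F)) with hTf
  have hTfmem : ∀ i, Tf i ∈ 𝓣 := fun i => (e.symm i).2
  have hTfinj : Function.Injective Tf := by
    intro i j hij
    have : e.symm i = e.symm j := Subtype.ext hij
    exact e.symm.injective this
  have hTfprop : ∀ i, ∃ h ∈ G, cj h T₀ = Tf i := fun i => (mem𝓣 _).mp (hTfmem i)
  set D : Fin t → Submodule F (Fin n → F) := fun i => fixSp (Tf i) with hD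
  have hDmap : ∀ i, ∃ h ∈ G, D i = (fixSp T₀).map (L h) := by
    intro i
    obtain ⟨h, hh, hi⟩ := hTfprop i
    exact ⟨h, hh, by rw [hD]; simp only; rw [← hi, map_fixSp]⟩
  have hDrank : ∀ i, finrank F (D i) = finrank F (fixSp T₀) := by
    intro i
    obtain ⟨h, _, hi⟩ := hDmap i
    rw [hi]
    exact (LinearEquiv.finrank_eq (Submodule.equivMapOfInjective (L h) (L_injective h) _)).symm
  have hDindep : iSupIndep D := by
    apply indep_of_max Tf 𝒞 T₀.card h𝒞comm
    · intro i
      obtain ⟨h, hh, hi⟩ := hTfprop i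
      rw [← hi]
      exact h𝒞cj h hh T₀ hT₀𝒞
    · intro i
      obtain ⟨h, hh, hi⟩ := hTfprop i
      rw [← hi, card_cj]
    · exact hTfinj
    · exact hmax'
  -- `G` permutes the `D i`
  have hGstab : G ≤ Cfsg.Geo.decompositionStabilizer D := by
    intro g hg
    have hσmem : ∀ i, cj g (Tf i) ∈ 𝓣 := by
      intro i
      obtain ⟨h, hh, hi⟩ := hTfprop i
      refine (mem𝓣 _).mpr ⟨g * h, mul_mem hg hh, ?_⟩
      rw [← hi, cj_mul]
    set σ : Fin t → Fin t := fun i => e ⟨cj g (Tf i), hσmem i⟩ with hσ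
    have hσinj : Function.Injective σ := by
      intro i j hij
      have h1 := e.injective hij
      have h2 : cj g (Tf i) = cj g (Tf j) := congrArg Subtype.val h1
      exact hTfinj (cj_injective g h2)
    have hσbij : Function.Bijective σ := ⟨hσinj, Finite.injective_iff_surjective.mp hσinj⟩
    refine ⟨Equiv.ofBijective σ hσbij, ?_⟩
    intro i
    have h1 : Tf (σ i) = cj g (Tf i) := by
      simp only [hTf, hσ, Equiv.symm_apply_apply]
    change (fixSp (Tf i)).map (L g) = fixSp (Tf (Equiv.ofBijective σ hσbij i))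
    rw [Equiv.ofBijective_apply, h1, map_fixSp]
  have hmpos : 0 < finrank F (fixSp T₀) := by
    rw [Module.finrank_pos_iff]
    exact Submodule.nontrivial_iff_ne_bot.mpr hT₀ne
  -- the span of the `D i` is everything
  have hDtop : iSup D = ⊤ := by
    have hinv : ∀ s ∈ Cfsg.Geo.matrixSet G, (iSup D).map (Matrix.toLin' s) ≤ iSup D := by
      rintro s ⟨g, hg, rfl⟩
      obtain ⟨σ, hσ⟩ := hGstab hg
      rw [Submodule.map_iSup]
      apply iSup_le
      intro i
      rw [hσ i]
      exact le_iSup D (σ i)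
    rcases hirr (iSup D) hinv with h | h
    · exfalso
      have h0 : D ⟨0, htpos⟩ ≤ iSup D := le_iSup D _
      rw [h, le_bot_iff] at h0
      have h1 := hDrank ⟨0, htpos⟩
      rw [h0, finrank_bot] at h1
      omega
    · exact h
  by_cases ht2 : 2 ≤ t
  · exact hprim (finrank F (fixSp T₀)) t D ht2 ⟨ht2, hmpos, hDrank, hDindep, hDtop⟩ hGstab
  · -- only one translate
    have ht1 : t = 1 := by omega
    apply hT₀top
    have hall : ∀ i, D i = fixSp T₀ := by
      intro i
      have hi : Tf i = T₀ := by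
        have h1 : (𝓣.card) = 1 := by rw [← ht, ht1]
        obtain ⟨T', hT'⟩ := Finset.card_eq_one.mp h1
        have h2 : Tf i ∈ ({T'} : Finset _) := hT' ▸ hTfmem i
        have h3 : T₀ ∈ ({T'} : Finset _) := hT' ▸ hT₀𝓣
        rw [Finset.mem_singleton] at h2 h3
        rw [h2, h3]
      rw [hD]
      simp only
      rw [hi]
    rw [← hDtop]
    apply le_antisymm
    · exact (hall ⟨0, htpos⟩) ▸ le_iSup D ⟨0, htpos⟩
    · apply iSup_le
      intro i
      rw [hall i]

end Cfsg.Agent.Lib.Helper22.PrimSol
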