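import Cfsg.Agent.Lib.Helper22.PrimSolA
import Cfsg.Agent.Lib.Helper22.PrimSolB

set_option autoImplicit false

namespace Cfsg.Agent.Lib.Helper22.PrimSol

open scoped commutatorElement
open Cfsg.Agent.Lib.Helper22.ExtraEig
open Module

variable {F : Type*} [Field F] {n : ℕ}

/-- Fixed-point spaces of nonidentity elements of a soluble irreducible primitive linear group
have dimension at most `3n/4`. -/
theorem main [Fintype F] (G : Subgroup (Matrix.GeneralLinearGroup (Fin n) F))
    (hsol : Group.IsSolvable G)
    (hirr : Cfsg.Geo.ActsIrreducibly (Cfsg.Geo.matrixSet G))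
    (hprim : ∀ (m t : ℕ) (D : Fin t → Submodule F (Fin n → F)), 2 ≤ t →
      Cfsg.Geo.IsMDecomposition m D → ¬ G ≤ Cfsg.Geo.decompositionStabilizer D)
    (g : Matrix.GeneralLinearGroup (Fin n) F) (hg : g ∈ G) (hg1 : g ≠ 1) :
    4 * finrank F (Module.End.eigenspace (L g) 1) ≤ 3 * n := by
  classical
  have hcoe : ∀ b y : ↥G, ((⁅b, y⁆ : ↥G) : Matrix.GeneralLinearGroup (Fin n) F)
      = ⁅(b : Matrix.GeneralLinearGroup (Fin n) F),
        (y : Matrix.GeneralLinearGroup (Fin n) F)⁆ := by
    intro b y
    simp [commutatorElement_def]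
  have hrel : ∀ b y : ↥G,
      2 * finrank F (Module.End.eigenspace (L (b : Matrix.GeneralLinearGroup (Fin n) F)) 1)
      ≤ n + finrank F (Module.End.eigenspace
        (L ((⁅b, y⁆ : ↥G) : Matrix.GeneralLinearGroup (Fin n) F)) 1) := by
    intro b y
    have := two_mul_finrank_eigenspace_le
      (L (b : Matrix.GeneralLinearGroup (Fin n) F))
      (L (y : Matrix.GeneralLinearGroup (Fin n) F))
      (L ⁅(b : Matrix.GeneralLinearGroup (Fin n) F),
        (y : Matrix.GeneralLinearGroup (Fin n) F)⁆)
      (L_injective _) (L_rel_comm _ _) 1 one_ne_zero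
    rw [finrank_fin_fun] at this
    rw [hcoe]
    exact this
  have key := descent (Γ := ↥G) hsol
    (fun x => finrank F (Module.End.eigenspace
      (L (x : Matrix.GeneralLinearGroup (Fin n) F)) 1) = 0)
    (fun x => 2 * finrank F (Module.End.eigenspace
      (L (x : Matrix.GeneralLinearGroup (Fin n) F)) 1) ≤ n)
    (fun x => 4 * finrank F (Module.End.eigenspace
      (L (x : Matrix.GeneralLinearGroup (Fin n) F)) 1) ≤ 3 * n)
    (by
      intro A hAn hAab a ha ha1
      have hbot := semiregular G hirr hprim (a : Matrix.GeneralLinearGroup (Fin n) F)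
        (by
          intro h
          apply ha1
          exact Subtype.ext h)
        (by
          intro h hh h' hh'
          have h1 : (⟨h, hh⟩ : ↥G) * a * (⟨h, hh⟩ : ↥G)⁻¹ ∈ A := hAn.conj_mem a ha _
          have h2 : (⟨h', hh'⟩ : ↥G) * a * (⟨h', hh'⟩ : ↥G)⁻¹ ∈ A := hAn.conj_mem a ha _
          have h3 := hAab _ h1 _ h2
          have h4 := congrArg (fun t : ↥G => (t : Matrix.GeneralLinearGroup (Fin n) F)) h3.eq
          have h5 : h * ↑a * h⁻¹ * (h' * ↑a * h'⁻¹) = h' * ↑a * h'⁻¹ * (h * ↑a * h⁻¹) := by
            simpa using h4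
          exact h5)
      show finrank F (Module.End.eigenspace
        (L (a : Matrix.GeneralLinearGroup (Fin n) F)) 1) = 0
      rw [hbot, finrank_bot])
    (by
      intro b y hP
      have := hrel b y
      show 2 * finrank F (Module.End.eigenspace
        (L (b : Matrix.GeneralLinearGroup (Fin n) F)) 1) ≤ n
      have hP' : finrank F (Module.End.eigenspace
        (L ((⁅b, y⁆ : ↥G) : Matrix.GeneralLinearGroup (Fin n) F)) 1) = 0 := hP
      omega)
    (by
      intro g' x hQ
      have := hrel g' x
      show 4 * finrank F (Module.End.eigenspace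
        (L (g' : Matrix.GeneralLinearGroup (Fin n) F)) 1) ≤ 3 * n
      have hQ' : 2 * finrank F (Module.End.eigenspace
        (L ((⁅g', x⁆ : ↥G) : Matrix.GeneralLinearGroup (Fin n) F)) 1) ≤ n := hQ
      omega)
    (by
      intro a hP
      show 2 * finrank F (Module.End.eigenspace
        (L (a : Matrix.GeneralLinearGroup (Fin n) F)) 1) ≤ n
      have hP' : finrank F (Module.End.eigenspace
        (L (a : Matrix.GeneralLinearGroup (Fin n) F)) 1) = 0 := hP
      omega)
    (by
      intro a hQ
      show 4 * finrank F (Module.End.eigenspace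
        (L (a : Matrix.GeneralLinearGroup (Fin n) F)) 1) ≤ 3 * n
      have hQ' : 2 * finrank F (Module.End.eigenspace
        (L (a : Matrix.GeneralLinearGroup (Fin n) F)) 1) ≤ n := hQ
      omega)
    ⟨g, hg⟩ (by
      intro h
      apply hg1
      exact congrArg Subtype.val h)
  exact key

end Cfsg.Agent.Lib.Helper22.PrimSol
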