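import Mathlib

/-!
Helper lemma (helper22): a finite abelian group of odd order admitting operators `I`, `J` with
`I² = J² = -1`, `IJ = -JI` (a fixed-point-free quaternion action) has square order.
-/

set_option autoImplicit false

namespace Cfsg.Agent.Lib.Helper22

/-- kernel/range cardinality formula for additive homs -/
theorem card_ker_mul_card_range {A B : Type*} [AddGroup A] [AddGroup B] (f : A →+ B) :
    Nat.card f.ker * Nat.card f.range = Nat.card A := by
  rw [← AddSubgroup.index_ker, AddSubgroup.card_mul_index]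

theorem isSquare_card_elementary {A : Type*} [AddCommGroup A] [Finite A] (I J : A →+ A)
    (hI : ∀ x, I (I x) = -x) (hJ : ∀ x, J (J x) = -x) (hIJ : ∀ x, I (J x) = - J (I x))
    (hodd : Odd (Nat.card A)) (q : ℕ) [Fact q.Prime] (hq : ∀ x : A, q • x = 0) :
    IsSquare (Nat.card A) := by
  obtain ⟨a, b, hab⟩ := ZMod.sq_add_sq q (-1 : ZMod q)
  have hdiv : q ∣ a.val ^ 2 + b.val ^ 2 + 1 := by
    rw [← ZMod.natCast_eq_zero_iff]
    push_cast
    rw [ZMod.natCast_zmod_val, ZMod.natCast_zmod_val, hab]
    ring
  set a' := a.val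
  set b' := b.val
  have hJI : ∀ x, J (I x) = - I (J x) := fun x => by rw [hIJ, neg_neg]
  have h0 : ∀ x : A, (a' ^ 2 + b' ^ 2 + 1) • x = 0 := by
    intro x
    obtain ⟨c, hc⟩ := hdiv
    rw [hc, mul_smul, hq]
  let T : A →+ A := AddMonoidHom.mk' (fun x => a' • I x + b' • J x)
    (by intro x y; simp only [map_add, smul_add]; abel)
  have hTdef : ∀ x, T x = a' • I x + b' • J x := fun x => rfl
  have hT : ∀ x, T (T x) = x := by
    intro x
    rw [hTdef (T x), hTdef x]
    simp only [map_add, map_nsmul, hI, hJ, hJI]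
    have : a' • (a' • -x + b' • I (J x)) + b' • (a' • -I (J x) + b' • -x) =
        x - (a' ^ 2 + b' ^ 2 + 1) • x := by module
    rw [this, h0, sub_zero]
  let K : A →+ A := I.comp J
  have hKdef : ∀ x, K x = I (J x) := fun x => rfl
  have hKK : ∀ x, K (K x) = -x := by
    intro x
    rw [hKdef, hKdef, hJI, map_neg, hI, neg_neg, hJ]
  have hTK : ∀ x, T (K x) = - K (T x) := by
    intro x
    rw [hTdef, hKdef, hKdef, hTdef]
    simp only [map_add, map_nsmul, hI, hJ, hJI, map_neg]
    module
  have hKinj : Function.Injective K := by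
    intro x y hxy
    have := congrArg K hxy
    rw [hKK, hKK] at this
    exact neg_injective this
  let g : A →+ A := AddMonoidHom.id A + T
  have hgdef : ∀ x, g x = x + T x := fun x => rfl
  have hker : ∀ x, x ∈ g.ker ↔ T x = -x := by
    intro x
    rw [AddMonoidHom.mem_ker, hgdef]
    constructor
    · intro h; exact (eq_neg_of_add_eq_zero_right h)
    · intro h; rw [h]; abel
  have hrange : ∀ x, x ∈ g.range ↔ T x = x := by
    intro x
    constructor
    · rintro ⟨y, rfl⟩
      rw [hgdef, map_add, hT, add_comm]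
    · intro h
      obtain ⟨m, hm⟩ := hodd
      refine ⟨(m + 1) • x, ?_⟩
      rw [hgdef, map_nsmul, h, ← add_smul]
      have : m + 1 + (m + 1) = Nat.card A + 1 := by omega
      rw [this, add_smul, one_smul, card_nsmul_eq_zero', zero_add]
  have hcard := card_ker_mul_card_range g
  have h1 : Nat.card g.ker ≤ Nat.card g.range := by
    refine Nat.card_le_card_of_injective (fun x => ⟨K x.1, ?_⟩) ?_
    · rw [hrange, hTK, (hker x.1).1 x.2, map_neg, neg_neg]
    · intro x y hxy
      exact Subtype.ext (hKinj (Subtype.ext_iff.1 hxy))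
  have h2 : Nat.card g.range ≤ Nat.card g.ker := by
    refine Nat.card_le_card_of_injective (fun x => ⟨K x.1, ?_⟩) ?_
    · rw [hker, hTK, (hrange x.1).1 x.2]
    · intro x y hxy
      exact Subtype.ext (hKinj (Subtype.ext_iff.1 hxy))
  refine ⟨Nat.card g.ker, ?_⟩
  rw [← hcard, le_antisymm h2 h1]


/-- Restriction of the quaternion action to an invariant subgroup. -/
theorem isSquare_card_aux.{u} : ∀ (n : ℕ) (A : Type u) [AddCommGroup A] [Finite A] (I J : A →+ A),
    Nat.card A = n → (∀ x, I (I x) = -x) → (∀ x, J (J x) = -x) → (∀ x, I (J x) = - J (I x)) →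
    Odd n → IsSquare n := by
  intro n
  induction n using Nat.strong_induction_on with
  | _ n ih =>
    intro A _ _ I J hn hI hJ hIJ hodd
    -- restriction to invariant subgroups
    have key : ∀ S : AddSubgroup A, (∀ x ∈ S, I x ∈ S) → (∀ x ∈ S, J x ∈ S) → S ≠ ⊤ →
        IsSquare (Nat.card S) := by
      intro S hSI hSJ hS
      have hlt : Nat.card S < n := by
        rw [← hn]
        by_contra hge
        push Not at hge
        apply hS
        have := AddSubgroup.card_le_card_addGroup S
        exact AddSubgroup.card_eq_iff_eq_top S |>.1 (le_antisymm this hge)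
      have hdvd : Nat.card S ∣ n := hn ▸ AddSubgroup.card_addSubgroup_dvd_card S
      refine ih (Nat.card S) hlt S ((I.comp S.subtype).codRestrict S (fun x => hSI x.1 x.2))
        ((J.comp S.subtype).codRestrict S (fun x => hSJ x.1 x.2)) rfl ?_ ?_ ?_ ?_
      · intro x; apply Subtype.ext; exact hI x.1
      · intro x; apply Subtype.ext; exact hJ x.1
      · intro x; apply Subtype.ext; exact hIJ x.1
      · exact hodd.of_dvd_nat hdvd
    by_cases htriv : n = 1
    · exact ⟨1, by rw [htriv]⟩
    have hn0 : n ≠ 0 := by rw [← hn]; exact Nat.card_pos.ne'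
    obtain ⟨q, hqp, hqn⟩ := Nat.exists_prime_and_dvd htriv
    have : Fact q.Prime := ⟨hqp⟩
    let f : A →+ A := nsmulAddMonoidHom q
    have hfdef : ∀ x, f x = q • x := fun x => rfl
    by_cases hr : f.range = ⊥
    · rw [← hn]
      refine isSquare_card_elementary I J hI hJ hIJ (hn ▸ hodd) q ?_
      intro x
      have : f x ∈ f.range := ⟨x, rfl⟩
      rw [hr, AddSubgroup.mem_bot] at this
      exact this
    · have hcard := card_ker_mul_card_range f
      have hker_ne_bot : f.ker ≠ ⊥ := by
        obtain ⟨x, hx⟩ := exists_prime_addOrderOf_dvd_card' (G := A) q (hn ▸ hqn)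
        intro hbot
        have hxk : x ∈ f.ker := by
          rw [AddMonoidHom.mem_ker, hfdef, ← hx, addOrderOf_nsmul_eq_zero]
        rw [hbot, AddSubgroup.mem_bot] at hxk
        rw [hxk, addOrderOf_zero] at hx
        exact hqp.one_lt.ne hx
      have hker_ne_top : f.ker ≠ ⊤ := by
        intro htop
        apply hr
        rw [AddMonoidHom.range_eq_bot_iff, ← AddMonoidHom.ker_eq_top_iff]
        exact htop
      have hrange_ne_top : f.range ≠ ⊤ := by
        intro htop
        apply hker_ne_bot
        have h1 : Nat.card f.range = Nat.card A := by rw [htop]; exact AddSubgroup.card_top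
        rw [h1] at hcard
        have h2 : Nat.card f.ker = 1 := by
          have hpos : 0 < Nat.card A := Nat.card_pos
          exact Nat.eq_of_mul_eq_mul_right hpos (by rw [hcard, one_mul])
        exact AddSubgroup.card_eq_one.1 h2
      have h1 := key f.ker (fun x hx => by
        rw [AddMonoidHom.mem_ker, hfdef] at hx ⊢
        rw [← map_nsmul, hx, map_zero]) (fun x hx => by
        rw [AddMonoidHom.mem_ker, hfdef] at hx ⊢
        rw [← map_nsmul, hx, map_zero]) hker_ne_top
      have h2 := key f.range (fun x hx => by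
        obtain ⟨y, rfl⟩ := hx
        exact ⟨I y, by rw [hfdef, hfdef, map_nsmul]⟩) (fun x hx => by
        obtain ⟨y, rfl⟩ := hx
        exact ⟨J y, by rw [hfdef, hfdef, map_nsmul]⟩) hrange_ne_top
      rw [← hn, ← hcard]
      exact h1.mul h2

theorem isSquare_card_of_quaternion_action {A : Type*} [AddCommGroup A] [Finite A] (I J : A →+ A)
    (hI : ∀ x, I (I x) = -x) (hJ : ∀ x, J (J x) = -x) (hIJ : ∀ x, I (J x) = - J (I x))
    (hodd : Odd (Nat.card A)) : IsSquare (Nat.card A) :=
  isSquare_card_aux (Nat.card A) A I J rfl hI hJ hIJ hodd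


/-- Multiplicative, subgroup version: `N` abelian normal of odd order, `i j` elements with
`i² = j² = z`, `ji = ijz`, and `z` inverting `N`. -/
theorem isSquare_card_of_quaternion_conj {L : Type*} [Group L] (N : Subgroup L) [Finite N] [N.Normal]
    (hcomm : ∀ x ∈ N, ∀ y ∈ N, x * y = y * x) (i j z : L) (hii : i * i = z) (hjj : j * j = z)
    (hji : j * i = i * j * z) (hz : ∀ x ∈ N, z * x * z⁻¹ = x⁻¹) (hodd : Odd (Nat.card N)) :
    IsSquare (Nat.card N) := by
  let _ : CommGroup N := { (inferInstance : Group N) with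
    mul_comm := fun x y => Subtype.ext (hcomm x.1 x.2 y.1 y.2) }
  let I : Additive N →+ Additive N := MonoidHom.toAdditive (MulAut.conjNormal i : MulAut N).toMonoidHom
  let J : Additive N →+ Additive N := MonoidHom.toAdditive (MulAut.conjNormal j : MulAut N).toMonoidHom
  have hIdef : ∀ x : Additive N, I x = Additive.ofMul (MulAut.conjNormal i (Additive.toMul x) : N) :=
    fun x => rfl
  have hJdef : ∀ x : Additive N, J x = Additive.ofMul (MulAut.conjNormal j (Additive.toMul x) : N) :=
    fun x => rfl
  have hzN : ∀ x : N, (MulAut.conjNormal z x : N) = x⁻¹ := by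
    intro x
    apply Subtype.ext
    rw [MulAut.conjNormal_apply, hz x.1 x.2]
    rfl
  have h := isSquare_card_of_quaternion_action (A := Additive N) I J ?_ ?_ ?_ hodd
  · exact h
  · intro x
    rw [hIdef, hIdef, toMul_ofMul, ← MulAut.mul_apply, ← map_mul, hii, hzN]
    rfl
  · intro x
    rw [hJdef, hJdef, toMul_ofMul, ← MulAut.mul_apply, ← map_mul, hjj, hzN]
    rfl
  · intro x
    have h1 : ∀ y : N, (MulAut.conjNormal j (MulAut.conjNormal i y : N) : N) =
        (MulAut.conjNormal i (MulAut.conjNormal j y : N) : N)⁻¹ := by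
      intro y
      rw [← MulAut.mul_apply, ← map_mul, hji, map_mul, map_mul, MulAut.mul_apply, MulAut.mul_apply,
        hzN, map_inv, map_inv]
    rw [hIdef, hJdef, hJdef, hIdef, toMul_ofMul, toMul_ofMul, h1, ofMul_inv, neg_neg]

end Cfsg.Agent.Lib.Helper22
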