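import Mathlib
import Cfsg.Prelude.Def_Transfer
import Cfsg.Prelude.Def_Solvable
import Cfsg.Prelude.Def_Local
import Cfsg.Prelude.Def_OddOrderLocal
import Cfsg.Prelude.Def_CaseTheorems
import Cfsg.Agent.Lib.Helper13.R3Defs2

/-!
# S4404 TYPE2, half (a) (helper22): structure of a group of type (ii)

`G = ⟨x, y, z⟩` of order `3^n`, `n ≥ 4`, `x^3 = y^3 = 1`, `z` central with `z^(3^(n-2)) = 1`,
`x⁻¹ y x = y z^(3^(n-3))`: normal form `x^a y^b z^c`, `o(z) = 3^(n-2)`, the centre is `⟨z⟩`,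
the images of `x, y, z` are a basis of `G/N` when `|G:N| = 27`, elements of order `| 3` lie in `⟨x,y⟩N`.
-/

set_option autoImplicit false
set_option linter.unusedVariables false
set_option linter.unusedSectionVars false

namespace Cfsg.Agent.Lib.Helper22.R3TYPE2A

open scoped commutatorElement

section cls2

variable {G : Type*} [Group G] {u v c : G}

/-- `v^b u = u v^b c^b` when `v u = u v c`, `c` central -/
theorem pow_mul_of_central (hc : ∀ g : G, g * c = c * g) (hvu : v * u = u * v * c) (b : ℕ) :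
    v ^ b * u = u * v ^ b * c ^ b := by
  induction b with
  | zero => simp
  | succ b ih =>
    have hcb : ∀ g : G, g * c ^ b = c ^ b * g := fun g => (Commute.pow_right (hc g) b)
    calc v ^ (b + 1) * u = v ^ b * (v * u) := by rw [pow_succ, mul_assoc]
      _ = v ^ b * (u * v * c) := by rw [hvu]
      _ = (v ^ b * u) * v * c := by simp only [mul_assoc]
      _ = u * v ^ b * c ^ b * v * c := by rw [ih]
      _ = u * v ^ b * (c ^ b * v) * c := by simp only [mul_assoc]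
      _ = u * v ^ b * (v * c ^ b) * c := by rw [hcb v]
      _ = u * v ^ (b + 1) * c ^ (b + 1) := by simp only [pow_succ, mul_assoc]

/-- `v^b u^a = u^a v^b c^(a b)` -/
theorem pow_mul_pow_of_central (hc : ∀ g : G, g * c = c * g) (hvu : v * u = u * v * c) (a b : ℕ) :
    v ^ b * u ^ a = u ^ a * v ^ b * c ^ (a * b) := by
  induction a with
  | zero => simp
  | succ a ih =>
    have hcb : ∀ (k : ℕ) (g : G), g * c ^ k = c ^ k * g := fun k g => (Commute.pow_right (hc g) k)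
    calc v ^ b * u ^ (a + 1) = (v ^ b * u ^ a) * u := by rw [pow_succ, mul_assoc]
      _ = u ^ a * v ^ b * c ^ (a * b) * u := by rw [ih]
      _ = u ^ a * v ^ b * (c ^ (a * b) * u) := by simp only [mul_assoc]
      _ = u ^ a * v ^ b * (u * c ^ (a * b)) := by rw [hcb _ u]
      _ = u ^ a * (v ^ b * u) * c ^ (a * b) := by simp only [mul_assoc]
      _ = u ^ a * (u * v ^ b * c ^ b) * c ^ (a * b) := by rw [pow_mul_of_central hc hvu]
      _ = u ^ (a + 1) * v ^ b * (c ^ b * c ^ (a * b)) := by simp only [pow_succ, mul_assoc]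
      _ = u ^ (a + 1) * v ^ b * c ^ ((a + 1) * b) := by rw [← pow_add]; congr 2; ring

/-- `(u v)^3 = u^3 v^3 c^3` -/
theorem mul_cube_of_central (hc : ∀ g : G, g * c = c * g) (hvu : v * u = u * v * c) :
    (u * v) ^ 3 = u ^ 3 * v ^ 3 * c ^ 3 := by
  have h2 := pow_mul_of_central hc hvu 2
  calc (u * v) ^ 3 = u * (v * u) * (v * u) * v := by simp only [pow_succ, pow_zero, one_mul, mul_assoc]
    _ = u * (u * v * c) * (u * v * c) * v := by rw [hvu]
    _ = u * u * v * (c * u) * v * (c * v) := by simp only [mul_assoc]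
    _ = u * u * v * (u * c) * v * (v * c) := by rw [← hc u, ← hc v]
    _ = u * u * (v * u) * (c * v) * v * c := by simp only [mul_assoc]
    _ = u * u * (u * v * c) * (v * c) * v * c := by rw [hvu, ← hc v]
    _ = u * u * u * v * (c * v) * (c * v) * c := by simp only [mul_assoc]
    _ = u * u * u * v * (v * c) * (v * c) * c := by rw [← hc v]
    _ = u * u * u * v * v * (c * v) * c * c := by simp only [mul_assoc]
    _ = u * u * u * v * v * (v * c) * c * c := by rw [← hc v]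
    _ = u ^ 3 * v ^ 3 * c ^ 3 := by simp only [pow_succ, pow_zero, one_mul, mul_assoc]

end cls2

section main

variable {G : Type*} [Group G] [Finite G]

/-- the frozen hypotheses of TYPE2 on the generators -/
structure T2 (n : ℕ) (x y z : G) : Prop where
  hcard : Nat.card G = 3 ^ n
  hn : 4 ≤ n
  hgen : Subgroup.closure ({x, y, z} : Set G) = ⊤
  hx : x ^ 3 = 1
  hy : y ^ 3 = 1
  hz : z ^ 3 ^ (n - 2) = 1
  hxz : x * z = z * x
  hyz : y * z = z * y
  hxy : x⁻¹ * y * x = y * z ^ 3 ^ (n - 3)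

variable {n : ℕ} {x y z : G}

theorem T2.zc (h : T2 n x y z) (g : G) : g * z = z * g := by
  have hle : Subgroup.closure ({x, y, z} : Set G) ≤ Subgroup.centralizer {z} := by
    rw [Subgroup.closure_le]
    rintro g (rfl | rfl | rfl)
    · exact Subgroup.mem_centralizer_iff.mpr (fun k hk => by
        rw [Set.mem_singleton_iff.mp hk]; exact h.hxz.symm)
    · exact Subgroup.mem_centralizer_iff.mpr (fun k hk => by
        rw [Set.mem_singleton_iff.mp hk]; exact h.hyz.symm)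
    · exact Subgroup.mem_centralizer_iff.mpr (fun k hk => by
        rw [Set.mem_singleton_iff.mp hk])
  have hg : g ∈ Subgroup.centralizer ({z} : Set G) := hle (h.hgen ▸ Subgroup.mem_top g)
  exact (Subgroup.mem_centralizer_iff.mp hg z rfl).symm

theorem T2.zpc (h : T2 n x y z) (k : ℕ) (g : G) : g * z ^ k = z ^ k * g :=
  Commute.pow_right (h.zc g) k

theorem T2.yx (h : T2 n x y z) : y * x = x * y * z ^ 3 ^ (n - 3) := by
  have := h.hxy
  calc y * x = x * (x⁻¹ * y * x) := by group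
    _ = x * (y * z ^ 3 ^ (n - 3)) := by rw [this]
    _ = x * y * z ^ 3 ^ (n - 3) := by rw [mul_assoc]

theorem T2.pow_three (h : T2 n x y z) : 3 ^ (n - 3) * 3 = 3 ^ (n - 2) := by
  have hn := h.hn
  have : n - 2 = (n - 3) + 1 := by omega
  rw [this, pow_succ]

theorem T2.w_cube (h : T2 n x y z) : (z ^ 3 ^ (n - 3)) ^ 3 = 1 := by
  rw [← pow_mul, h.pow_three, h.hz]

theorem T2.mul_x (h : T2 n x y z) (a b c : ℕ) :
    x ^ a * y ^ b * z ^ c * x = x ^ (a + 1) * y ^ b * z ^ (3 ^ (n - 3) * b + c) := by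
  have r := pow_mul_of_central (fun g => h.zpc (3 ^ (n - 3)) g) h.yx b
  calc x ^ a * y ^ b * z ^ c * x = x ^ a * y ^ b * (z ^ c * x) := by simp only [mul_assoc]
    _ = x ^ a * y ^ b * (x * z ^ c) := by rw [h.zpc c x]
    _ = x ^ a * (y ^ b * x) * z ^ c := by simp only [mul_assoc]
    _ = x ^ a * (x * y ^ b * (z ^ 3 ^ (n - 3)) ^ b) * z ^ c := by rw [r]
    _ = x ^ (a + 1) * y ^ b * z ^ (3 ^ (n - 3) * b + c) := by
      simp only [pow_succ, pow_add, pow_mul, mul_assoc]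

theorem T2.mul_y (h : T2 n x y z) (a b c : ℕ) :
    x ^ a * y ^ b * z ^ c * y = x ^ a * y ^ (b + 1) * z ^ c := by
  calc x ^ a * y ^ b * z ^ c * y = x ^ a * y ^ b * (z ^ c * y) := by simp only [mul_assoc]
    _ = x ^ a * y ^ b * (y * z ^ c) := by rw [h.zpc c y]
    _ = x ^ a * y ^ (b + 1) * z ^ c := by simp only [pow_succ, mul_assoc]

theorem T2.mul_z (h : T2 n x y z) (a b c : ℕ) :
    x ^ a * y ^ b * z ^ c * z = x ^ a * y ^ b * z ^ (c + 1) := by
  simp only [pow_succ, mul_assoc]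

/-- normal form -/
theorem T2.normal_form (h : T2 n x y z) (g : G) : ∃ a b c : ℕ, g = x ^ a * y ^ b * z ^ c := by
  have hg : g ∈ Subgroup.closure ({x, y, z} : Set G) := h.hgen ▸ Subgroup.mem_top g
  have hr : ∀ g : G, (∃ a b c : ℕ, g = x ^ a * y ^ b * z ^ c) → ∀ s ∈ ({x, y, z} : Set G),
      ∃ a b c : ℕ, g * s = x ^ a * y ^ b * z ^ c := by
    rintro _ ⟨a, b, c, rfl⟩ s (rfl | rfl | rfl)
    · exact ⟨_, _, _, h.mul_x a b c⟩
    · exact ⟨_, _, _, h.mul_y a b c⟩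
    · exact ⟨_, _, _, h.mul_z a b c⟩
  induction hg using Subgroup.closure_induction_right with
  | one => exact ⟨0, 0, 0, by simp⟩
  | mul_right g hg s hs ih => exact hr g ih s hs
  | mul_inv_cancel g hg s hs ih =>
    -- s⁻¹ is a power of s
    have hinv : s⁻¹ = s ^ (orderOf s - 1) := by
      have hpos : 0 < orderOf s := orderOf_pos s
      apply inv_eq_of_mul_eq_one_right
      rw [← pow_succ', Nat.sub_add_cancel hpos, pow_orderOf_eq_one]
    rw [hinv]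
    generalize orderOf s - 1 = k
    induction k with
    | zero => simpa using ih
    | succ k ihk =>
      rw [pow_succ, ← mul_assoc]
      exact hr _ ihk s hs

theorem T2.nine_mul (h : T2 n x y z) : 9 * 3 ^ (n - 2) = 3 ^ n := by
  have hn := h.hn
  have : n = (n - 2) + 2 := by omega
  conv_rhs => rw [this, pow_add]
  ring

/-- `z` has order exactly `3^(n-2)` -/
theorem T2.orderOf_z (h : T2 n x y z) : orderOf z = 3 ^ (n - 2) := by
  have hdvd : orderOf z ∣ 3 ^ (n - 2) := orderOf_dvd_of_pow_eq_one h.hz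
  have hpos : 0 < orderOf z := orderOf_pos z
  have : NeZero (orderOf z) := ⟨hpos.ne'⟩
  let Ψ : Fin 3 × Fin 3 × Fin (orderOf z) → G := fun t => x ^ (t.1 : ℕ) * y ^ (t.2.1 : ℕ) * z ^ (t.2.2 : ℕ)
  have hsurj : Function.Surjective Ψ := by
    intro g
    obtain ⟨a, b, c, rfl⟩ := h.normal_form g
    refine ⟨(⟨a % 3, Nat.mod_lt _ (by norm_num)⟩, ⟨b % 3, Nat.mod_lt _ (by norm_num)⟩,
      ⟨c % orderOf z, Nat.mod_lt _ hpos⟩), ?_⟩
    change x ^ (a % 3) * y ^ (b % 3) * z ^ (c % orderOf z) = _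
    rw [← pow_eq_pow_mod a h.hx, ← pow_eq_pow_mod b h.hy, pow_mod_orderOf]
  have hle := Nat.card_le_card_of_surjective Ψ hsurj
  rw [h.hcard, Nat.card_prod, Nat.card_prod, Nat.card_fin, Nat.card_fin, ← h.nine_mul] at hle
  have h2 : orderOf z ≤ 3 ^ (n - 2) := Nat.le_of_dvd (by positivity) hdvd
  have h3 : 3 ^ (n - 2) ≤ orderOf z := by
    have : 9 * 3 ^ (n - 2) ≤ 9 * orderOf z := by
      calc 9 * 3 ^ (n - 2) ≤ 3 * (3 * orderOf z) := hle
        _ = 9 * orderOf z := by ring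
    omega
  exact le_antisymm h2 h3

theorem T2.three_dvd_orderOf_z (h : T2 n x y z) : 3 ∣ orderOf z := by
  rw [h.orderOf_z]
  have hn := h.hn
  exact dvd_pow_self 3 (by omega)

/-- `w^k = 1 → 3 ∣ k` for `w = z^(3^(n-3))` -/
theorem T2.three_dvd_of_w_pow (h : T2 n x y z) {k : ℕ} (hk : z ^ (3 ^ (n - 3) * k) = 1) :
    3 ∣ k := by
  have h1 : orderOf z ∣ 3 ^ (n - 3) * k := orderOf_dvd_of_pow_eq_one hk
  rw [h.orderOf_z, ← h.pow_three] at h1
  exact (Nat.mul_dvd_mul_iff_left (by positivity)).mp h1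

theorem T2.x_pow_of_dvd (h : T2 n x y z) {a : ℕ} (ha : 3 ∣ a) : x ^ a = 1 := by
  obtain ⟨k, rfl⟩ := ha
  rw [pow_mul, h.hx, one_pow]

theorem T2.y_pow_of_dvd (h : T2 n x y z) {b : ℕ} (hb : 3 ∣ b) : y ^ b = 1 := by
  obtain ⟨k, rfl⟩ := hb
  rw [pow_mul, h.hy, one_pow]

/-- S1: the centre consists of powers of `z` -/
theorem T2.center_eq_pow (h : T2 n x y z) : ∀ g ∈ Subgroup.center G, ∃ k : ℕ, g = z ^ k := by
  intro g hg
  rw [Subgroup.mem_center_iff] at hg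
  obtain ⟨a, b, c, rfl⟩ := h.normal_form g
  -- commuting with x gives 3 ∣ b
  have hb : 3 ∣ b := by
    have e1 := hg x
    rw [h.mul_x a b c] at e1
    have e2 : x * (x ^ a * y ^ b * z ^ c) = x ^ (a + 1) * y ^ b * z ^ c := by
      simp only [pow_succ', mul_assoc]
    rw [e2] at e1
    have e3 : z ^ c = z ^ (3 ^ (n - 3) * b + c) := mul_left_cancel e1
    rw [pow_add] at e3
    have e4 : z ^ (3 ^ (n - 3) * b) = 1 := by
      have := mul_right_cancel (b := z ^ c) (a := 1) (c := z ^ (3 ^ (n - 3) * b)) (by rw [one_mul]; exact e3)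
      exact this.symm
    exact h.three_dvd_of_w_pow e4
  have hyb : y ^ b = 1 := h.y_pow_of_dvd hb
  rw [hyb, mul_one] at hg ⊢
  -- commuting with y gives 3 ∣ a
  have ha : 3 ∣ a := by
    have e1 := hg y
    have r := pow_mul_pow_of_central (fun g => h.zpc (3 ^ (n - 3)) g) h.yx a 1
    have e2 : y * (x ^ a * z ^ c) = x ^ a * y * (z ^ (3 ^ (n - 3) * a) * z ^ c) := by
      calc y * (x ^ a * z ^ c) = (y ^ 1 * x ^ a) * z ^ c := by rw [pow_one, mul_assoc]
        _ = x ^ a * y ^ 1 * (z ^ 3 ^ (n - 3)) ^ (a * 1) * z ^ c := by rw [r]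
        _ = x ^ a * y * (z ^ (3 ^ (n - 3) * a) * z ^ c) := by
          rw [pow_one, mul_one, ← pow_mul, mul_assoc]
    have e3 : x ^ a * z ^ c * y = x ^ a * y * z ^ c := by
      rw [mul_assoc, ← h.zpc c y, ← mul_assoc]
    rw [e2, e3] at e1
    have e4 : z ^ (3 ^ (n - 3) * a) * z ^ c = z ^ c := mul_left_cancel e1
    have e5 : z ^ (3 ^ (n - 3) * a) = 1 := by
      have := mul_right_cancel (b := z ^ c) (a := z ^ (3 ^ (n - 3) * a)) (c := 1) (by rw [one_mul]; exact e4)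
      exact this
    exact h.three_dvd_of_w_pow e5
  rw [h.x_pow_of_dvd ha, one_mul]
  exact ⟨c, rfl⟩

variable (N : Subgroup G) [N.Normal]

/-- S2: the images of `x, y, z` are a basis of `G/N` -/
theorem T2.dvd_of_mem (h : T2 n x y z) (h3 : ∀ g : G, g ^ 3 ∈ N) (hidx : N.index = 27) :
    ∀ a b c : ℕ, x ^ a * y ^ b * z ^ c ∈ N → 3 ∣ a ∧ 3 ∣ b ∧ 3 ∣ c := by
  let Φ : Fin 3 × Fin 3 × Fin 3 → G ⧸ N := fun t =>
    ((x ^ (t.1 : ℕ) * y ^ (t.2.1 : ℕ) * z ^ (t.2.2 : ℕ) : G) : G ⧸ N)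
  have hred : ∀ a b c : ℕ, ((x ^ a * y ^ b * z ^ c : G) : G ⧸ N) =
      Φ (⟨a % 3, Nat.mod_lt _ (by norm_num)⟩, ⟨b % 3, Nat.mod_lt _ (by norm_num)⟩,
        ⟨c % 3, Nat.mod_lt _ (by norm_num)⟩) := by
    intro a b c
    change _ = ((x ^ (a % 3) * y ^ (b % 3) * z ^ (c % 3) : G) : G ⧸ N)
    rw [← pow_eq_pow_mod a h.hx, ← pow_eq_pow_mod b h.hy]
    have hc : z ^ c = z ^ (c % 3) * (z ^ (c / 3)) ^ 3 := by
      rw [← pow_mul, ← pow_add, mul_comm (c / 3) 3, Nat.mod_add_div]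
    rw [hc, ← mul_assoc]
    exact QuotientGroup.mk_mul_of_mem _ (h3 _)
  have hsurj : Function.Surjective Φ := by
    intro q
    obtain ⟨g, rfl⟩ := QuotientGroup.mk_surjective q
    obtain ⟨a, b, c, rfl⟩ := h.normal_form g
    exact ⟨_, (hred a b c).symm⟩
  have hcard : Nat.card (Fin 3 × Fin 3 × Fin 3) ≤ Nat.card (G ⧸ N) := by
    rw [← Subgroup.index_eq_card, hidx, Nat.card_prod, Nat.card_prod, Nat.card_fin]
  have hinj : Function.Injective Φ := (hsurj.bijective_of_nat_card_le hcard).1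
  intro a b c habc
  have e1 : ((x ^ a * y ^ b * z ^ c : G) : G ⧸ N) = 1 := (QuotientGroup.eq_one_iff _).mpr habc
  have e2 : Φ (0, 0, 0) = 1 := by
    change ((x ^ 0 * y ^ 0 * z ^ 0 : G) : G ⧸ N) = 1
    simp
  rw [hred a b c, ← e2] at e1
  have e3 := hinj e1
  simp only [Prod.mk.injEq, Fin.ext_iff] at e3
  obtain ⟨ha, hb, hc⟩ := e3
  exact ⟨Nat.dvd_of_mod_eq_zero ha, Nat.dvd_of_mod_eq_zero hb, Nat.dvd_of_mod_eq_zero hc⟩

/-- S3: elements of order dividing 3 lie in `⟨x, y⟩ N` -/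
theorem T2.exists_of_cube (h : T2 n x y z) (h3 : ∀ g : G, g ^ 3 ∈ N) :
    ∀ g : G, g ^ 3 = 1 → ∃ a b : ℕ, g * (x ^ a * y ^ b)⁻¹ ∈ N := by
  intro g hg
  obtain ⟨a, b, c, rfl⟩ := h.normal_form g
  refine ⟨a, b, ?_⟩
  have hcomm : Commute (x ^ a * y ^ b) (z ^ c) := h.zpc c _
  have hcube : (x ^ a * y ^ b) ^ 3 = 1 := by
    have hcw : ∀ g : G, g * (z ^ 3 ^ (n - 3)) ^ (a * b) = (z ^ 3 ^ (n - 3)) ^ (a * b) * g := by
      intro g
      rw [← pow_mul]
      exact h.zpc _ g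
    have r := pow_mul_pow_of_central (fun g => h.zpc (3 ^ (n - 3)) g) h.yx a b
    have hxa : (x ^ a) ^ 3 = 1 := by rw [← pow_mul, mul_comm, pow_mul, h.hx, one_pow]
    have hyb : (y ^ b) ^ 3 = 1 := by rw [← pow_mul, mul_comm, pow_mul, h.hy, one_pow]
    have hwab : ((z ^ 3 ^ (n - 3)) ^ (a * b)) ^ 3 = 1 := by
      rw [← pow_mul, mul_comm, pow_mul, h.w_cube, one_pow]
    rw [mul_cube_of_central hcw r, hxa, hyb, hwab, one_mul, one_mul]
  rw [hcomm.mul_pow, hcube, one_mul, ← pow_mul] at hg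
  have h1 : orderOf z ∣ c * 3 := orderOf_dvd_of_pow_eq_one hg
  rw [h.orderOf_z, ← h.pow_three] at h1
  have h2 : 3 ^ (n - 3) ∣ c := (Nat.mul_dvd_mul_iff_right (by norm_num)).mp h1
  have hn := h.hn
  have h4 : 3 ∣ c := dvd_trans (dvd_pow_self 3 (by omega)) h2
  obtain ⟨k, rfl⟩ := h4
  have e : x ^ a * y ^ b * z ^ (3 * k) * (x ^ a * y ^ b)⁻¹ = (z ^ k) ^ 3 := by
    rw [hcomm.eq, mul_assoc, mul_inv_cancel, mul_one, ← pow_mul, mul_comm]
  rw [e]
  exact h3 _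

end main

section unbundled

variable {G : Type*} [Group G] [Finite G]

/-- S1 with the frozen TYPE2 hypotheses. -/
theorem center_eq_pow (n : ℕ) (x y z : G) (hcard : Nat.card G = 3 ^ n) (hn : 4 ≤ n)
    (hgen : Subgroup.closure ({x, y, z} : Set G) = ⊤)
    (hx : x ^ 3 = 1) (hy : y ^ 3 = 1) (hz : z ^ 3 ^ (n - 2) = 1) (hxz : x * z = z * x)
    (hyz : y * z = z * y) (hxy : x⁻¹ * y * x = y * z ^ 3 ^ (n - 3)) :
    ∀ g ∈ Subgroup.center G, ∃ k : ℕ, g = z ^ k :=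
  T2.center_eq_pow ⟨hcard, hn, hgen, hx, hy, hz, hxz, hyz, hxy⟩

/-- S2 with the frozen TYPE2 hypotheses. -/
theorem dvd_of_mem (n : ℕ) (x y z : G) (hcard : Nat.card G = 3 ^ n) (hn : 4 ≤ n)
    (hgen : Subgroup.closure ({x, y, z} : Set G) = ⊤)
    (hx : x ^ 3 = 1) (hy : y ^ 3 = 1) (hz : z ^ 3 ^ (n - 2) = 1) (hxz : x * z = z * x)
    (hyz : y * z = z * y) (hxy : x⁻¹ * y * x = y * z ^ 3 ^ (n - 3))
    (N : Subgroup G) [N.Normal] (h3 : ∀ g : G, g ^ 3 ∈ N) (hidx : N.index = 27) :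
    ∀ a b c : ℕ, x ^ a * y ^ b * z ^ c ∈ N → 3 ∣ a ∧ 3 ∣ b ∧ 3 ∣ c :=
  T2.dvd_of_mem N ⟨hcard, hn, hgen, hx, hy, hz, hxz, hyz, hxy⟩ h3 hidx

/-- S3 with the frozen TYPE2 hypotheses. -/
theorem exists_of_cube (n : ℕ) (x y z : G) (hcard : Nat.card G = 3 ^ n) (hn : 4 ≤ n)
    (hgen : Subgroup.closure ({x, y, z} : Set G) = ⊤)
    (hx : x ^ 3 = 1) (hy : y ^ 3 = 1) (hz : z ^ 3 ^ (n - 2) = 1) (hxz : x * z = z * x)
    (hyz : y * z = z * y) (hxy : x⁻¹ * y * x = y * z ^ 3 ^ (n - 3))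
    (N : Subgroup G) [N.Normal] (h3 : ∀ g : G, g ^ 3 ∈ N) :
    ∀ g : G, g ^ 3 = 1 → ∃ a b : ℕ, g * (x ^ a * y ^ b)⁻¹ ∈ N :=
  T2.exists_of_cube N ⟨hcard, hn, hgen, hx, hy, hz, hxz, hyz, hxy⟩ h3

end unbundled

end Cfsg.Agent.Lib.Helper22.R3TYPE2A
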