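/-
helper22: S4581 leaf (KERA) for planner helper5: a real-valued irreducible character of odd degree
has every normal subgroup of odd order in its kernel (Clifford + odd orbit + Burnside).
-/
import Mathlib
import Cfsg.Prelude.Def_Blocks
import Cfsg.Agent.Lib.Helper6.Clifford
import Cfsg.Agent.Lib.Helper6.CliffordCorr
import Cfsg.Agent.Lib.Helper24.IrrFacts
import Cfsg.Agent.Lib.Lead.FrobSchur
import Cfsg.Agent.Lib.Lead.CharFS
import Cfsg.Agent.Lib.Lead.BlockBasic

set_option autoImplicit false

namespace Cfsg.Agent.Lib.Helper22.RO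

open Cfsg Cfsg.Agent.CharLib Cfsg.Agent.Lib.Helper6 Cfsg.Agent.Lib.Helper24
open scoped ComplexConjugate

universe u

/-- an involution of a finite set of odd size has a fixed point -/
theorem exists_fixed_of_odd_card {α : Type*} [DecidableEq α] (s : Finset α) (π : α → α)
    (hs : ∀ a ∈ s, π a ∈ s) (hinv : ∀ a ∈ s, π (π a) = a) (hodd : Odd s.card) :
    ∃ a ∈ s, π a = a := by
  by_contra h
  push Not at h
  have h0 : (∑ _a ∈ s, (1 : ZMod 2)) = 0 :=
    Finset.sum_involution (fun a _ => π a) (fun a _ => CharTwo.add_self_eq_zero 1)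
      (fun a ha _ => h a ha) (fun a ha => hs a ha) (fun a ha => hinv a ha)
  rw [Finset.sum_const, nsmul_eq_mul, mul_one] at h0
  have h1 : ((s.card : ℕ) : ZMod 2) = 1 := by
    rw [ZMod.natCast_eq_one_iff_odd]
    exact hodd
  rw [h1] at h0
  exact one_ne_zero h0

section
variable {G : Type u} [Group G] [Finite G]

/-- real-valued characters: the conjugate of a constituent is a constituent -/
theorem classInner_conj_right_ne_zero {X : Type u} [Group X] [Fintype X] {φ ψ : X → ℂ}
    (hφ : ∀ x, (φ x).im = 0) (h : classInner φ ψ ≠ 0) :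
    classInner φ (fun x => conj (ψ x)) ≠ 0 := by
  have hconj : ∀ x, conj (φ x) = φ x := fun x => Complex.conj_eq_iff_im.mpr (hφ x)
  have e : classInner φ (fun x => conj (ψ x)) = conj (classInner φ ψ) := by
    simp only [classInner, map_mul, map_inv₀, map_natCast, map_sum, hconj]
  rw [e]
  exact (map_ne_zero (starRingEnd ℂ)).mpr h

/-- (KERA) the whole group. -/
theorem ker_of_odd_normal (M : Subgroup G) [hMn : M.Normal]
    (hM : Odd (Nat.card M)) (χ : IrrCharacter G)
    (hre : ∀ g : G, ((χ : G → ℂ) g).im = 0) (hodd : Odd (charDegree (χ : G → ℂ))) :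
    ∀ m ∈ M, (χ : G → ℂ) m = (χ : G → ℂ) 1 := by
  classical
  let _ : Fintype G := Fintype.ofFinite G
  let _ : Fintype M := Fintype.ofFinite M
  have hχc : IsCharacter G (χ : G → ℂ) := IsIrrCharacter.isCharacter χ.2
  have hresc : IsCharacter M (resFun M (χ : G → ℂ)) := isCharacter_resFun M hχc
  have hne : resFun M (χ : G → ℂ) ≠ 0 := by
    intro h
    have := congrFun h 1
    rw [resFun_apply] at this
    exact irr_apply_one_ne_zero χ this
  obtain ⟨θ, hθ, hc⟩ := IsCharacter.exists_constituent hresc hne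
  -- degree formula
  have hdeg := clifford_degree M χ.2 hθ hc
  obtain ⟨e, he⟩ := IsCharacter.classInner_nat hresc (IsIrrCharacter.isCharacter hθ)
  obtain ⟨d, hd⟩ := IsCharacter.apply_one (IsIrrCharacter.isCharacter hθ)
  have hdegN : charDegree (χ : G → ℂ) = e * (conjOrbit M θ).card * d := by
    apply charDegree_eq_of_apply_one
    rw [hdeg, he, hd]
    push_cast
    ring
  have horb : Odd (conjOrbit M θ).card := by
    rw [hdegN] at hodd
    exact (Nat.odd_mul.mp (Nat.odd_mul.mp hodd).1).2
  -- complex conjugation on the orbit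
  have hresre : ∀ m : M, ((resFun M (χ : G → ℂ)) m).im = 0 := fun m => hre m
  have hmem : ∀ ψ ∈ conjOrbit M θ, (fun x => conj (ψ x)) ∈ conjOrbit M θ := by
    intro ψ hψ
    obtain ⟨g, rfl⟩ := (mem_conjOrbit M).mp hψ
    have hψirr : IsIrrCharacter M (conjFun M g θ) := isIrrCharacter_conjFun M hθ g
    have hψc : classInner (resFun M (χ : G → ℂ)) (conjFun M g θ) ≠ 0 := by
      rw [classInner_resFun_conjFun M (IsCharacter.isClassFunction hχc)]
      exact hc
    have h1 := classInner_conj_right_ne_zero hresre hψc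
    obtain ⟨g', hg'⟩ := exists_conjFun_eq_of_constituent M χ.2 hθ
      (IsIrrCharacter.conj' hψirr) hc h1
    exact (mem_conjOrbit M).mpr ⟨g', hg'⟩
  obtain ⟨ψ, hψ, hfix⟩ := exists_fixed_of_odd_card (conjOrbit M θ)
    (fun ψ => fun x => conj (ψ x)) hmem
    (fun ψ _ => by funext x; simp) horb
  obtain ⟨g, rfl⟩ := (mem_conjOrbit M).mp hψ
  have hψirr : IsIrrCharacter M (conjFun M g θ) := isIrrCharacter_conjFun M hθ g
  have hψre : ∀ m : M, ((conjFun M g θ) m).im = 0 := by
    intro m
    have := congrFun hfix m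
    exact Complex.conj_eq_iff_im.mp this
  have hone : conjFun M g θ = fun _ => 1 :=
    eq_one_of_real_of_odd hM ⟨_, hψirr⟩ hψre
  -- hence `θ = 1`
  have hθ1 : θ = fun _ => 1 := by
    have := congrArg (conjFun M g⁻¹) hone
    rw [conjFun_inv_conjFun] at this
    rw [this]
    rfl
  -- the orbit of `1` is `{1}`
  have hinv : ∀ g : G, conjFun M g θ = θ := by
    intro g
    rw [hθ1]
    rfl
  have hcl := clifford_of_invariant M χ.2 hθ hc hinv
  intro m hm
  have h1 := congrFun hcl ⟨m, hm⟩
  have h2 := congrFun hcl 1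
  rw [resFun_apply, Pi.smul_apply, hθ1] at h1 h2
  change (χ : G → ℂ) m = _ at h1
  change (χ : G → ℂ) 1 = _ at h2
  rw [h1, h2]

/-- (KERA) subgroup version. -/
theorem ker_of_odd_normal_sub (H M : Subgroup G) [M.Normal]
    (hM : Odd (Nat.card M)) (ξ : IrrCharacter H)
    (hre : ∀ g : H, ((ξ : H → ℂ) g).im = 0) (hodd : Odd (charDegree (ξ : H → ℂ))) :
    ∀ n : H, (n : G) ∈ M → (ξ : H → ℂ) n = (ξ : H → ℂ) 1 := by
  have hcard : Odd (Nat.card (M.subgroupOf H)) := by
    have hdvd : Nat.card (M.subgroupOf H) ∣ Nat.card M := by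
      let f : ↥(M.subgroupOf H) →* ↥M :=
        { toFun := fun x => ⟨((x : ↥H) : G), Subgroup.mem_subgroupOf.mp x.2⟩
          map_one' := rfl
          map_mul' := fun _ _ => rfl }
      apply Subgroup.card_dvd_of_injective f
      intro a b hab
      have := congrArg Subtype.val hab
      exact Subtype.ext (Subtype.ext this)
    exact Odd.of_dvd_nat hM hdvd
  intro n hn
  exact ker_of_odd_normal (M.subgroupOf H) hcard ξ hre hodd n (Subgroup.mem_subgroupOf.mpr hn)

end

end Cfsg.Agent.Lib.Helper22.RO
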