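/-
helper22: S4581 leaf (KERB) for planner helper5: a real-valued irreducible character of odd degree
has the squares of a normal 2-subgroup in its kernel (Clifford: the constituents are real linear).
-/
import Mathlib
import Cfsg.Prelude.Def_Blocks
import Cfsg.Agent.Lib.Helper6.Clifford
import Cfsg.Agent.Lib.Helper6.CliffordCorr
import Cfsg.Agent.Lib.Helper6.CharNorm
import Cfsg.Agent.Lib.Helper24.IrrFacts
import Cfsg.Agent.Lib.Helper24.Deflation
import Cfsg.Agent.Lib.Lead.CharFS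
import Cfsg.Agent.Lib.Lead.BlockBasic
import Cfsg.Agent.Lib.Helper5.RODefs
import Cfsg.Agent.Lib.Helper22.ROKERA

set_option autoImplicit false

namespace Cfsg.Agent.Lib.Helper22.RO

open Cfsg Cfsg.Agent.CharLib Cfsg.Agent.Lib.Helper6 Cfsg.Agent.Lib.Helper24
open Cfsg.Agent.Lib.Helper5.RO
open scoped ComplexConjugate

universe u

/-- the kernel of a character is closed under generation -/
theorem char_eq_of_mem_closure {X : Type u} [Group X] [Finite X] {χ : X → ℂ}
    (hχ : IsCharacter X χ) (S : Set X) (hS : ∀ s ∈ S, χ s = χ 1) :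
    ∀ k ∈ Subgroup.closure S, χ k = χ 1 := by
  obtain ⟨n, ρ, rfl⟩ := hχ
  have hone : ρ.character 1 = (Module.finrank ℂ (Fin n → ℂ) : ℂ) := Representation.char_one ρ
  have hle : Subgroup.closure S ≤ (ρ : X →* (Module.End ℂ (Fin n → ℂ))).ker := by
    rw [Subgroup.closure_le]
    intro s hs
    rw [SetLike.mem_coe, MonoidHom.mem_ker]
    exact rep_eq_one_of_char_eq_finrank ρ s ((hS s hs).trans hone)
  intro k hk
  have h1 : ρ k = 1 := MonoidHom.mem_ker.mp (hle hk)
  show LinearMap.trace ℂ (Fin n → ℂ) (ρ k) = LinearMap.trace ℂ (Fin n → ℂ) (ρ 1)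
  have h2 : ρ 1 = 1 := map_one ρ
  rw [h1, h2]

section
variable {G : Type u} [Group G] [Finite G]

/-- (KERB) the whole group. -/
theorem ker_of_sq_normal_two (Q : Subgroup G) [hQn : Q.Normal]
    (hQ : IsPGroup 2 Q) (χ : IrrCharacter G)
    (hre : ∀ g : G, ((χ : G → ℂ) g).im = 0) (hodd : Odd (charDegree (χ : G → ℂ))) :
    ∀ k ∈ sqSub Q, (χ : G → ℂ) k = (χ : G → ℂ) 1 := by
  classical
  let _ : Fintype G := Fintype.ofFinite G
  let _ : Fintype Q := Fintype.ofFinite Q
  have hχc : IsCharacter G (χ : G → ℂ) := IsIrrCharacter.isCharacter χ.2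
  have hresc : IsCharacter Q (resFun Q (χ : G → ℂ)) := isCharacter_resFun Q hχc
  have hne : resFun Q (χ : G → ℂ) ≠ 0 := by
    intro h
    have := congrFun h 1
    rw [resFun_apply] at this
    exact irr_apply_one_ne_zero χ this
  obtain ⟨θ, hθ, hc⟩ := IsCharacter.exists_constituent hresc hne
  have hdeg := clifford_degree Q χ.2 hθ hc
  obtain ⟨e, he⟩ := IsCharacter.classInner_nat hresc (IsIrrCharacter.isCharacter hθ)
  obtain ⟨d, hd⟩ := IsCharacter.apply_one (IsIrrCharacter.isCharacter hθ)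
  have hdegN : charDegree (χ : G → ℂ) = e * (conjOrbit Q θ).card * d := by
    apply charDegree_eq_of_apply_one
    rw [hdeg, he, hd]
    push_cast
    ring
  have horb : Odd (conjOrbit Q θ).card := by
    rw [hdegN] at hodd
    exact (Nat.odd_mul.mp (Nat.odd_mul.mp hodd).1).2
  have hdodd : Odd d := by
    rw [hdegN] at hodd
    exact (Nat.odd_mul.mp hodd).2
  -- `θ` is linear
  have hd1 : d = 1 := by
    have hdd : charDegree (θ : Q → ℂ) = d := charDegree_eq_of_apply_one hd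
    have hdvd : d ∣ Nat.card Q := by
      have := irr_charDegree_dvd_card (⟨θ, hθ⟩ : IrrCharacter Q)
      rwa [hdd] at this
    obtain ⟨k, hk⟩ := IsPGroup.iff_card.mp hQ
    rw [hk] at hdvd
    obtain ⟨j, _, hj⟩ := (Nat.dvd_prime_pow Nat.prime_two).mp hdvd
    rcases Nat.eq_zero_or_pos j with h0 | hpos
    · rw [hj, h0, pow_zero]
    · exfalso
      rw [hj] at hdodd
      have : Even (2 ^ j) := (Nat.even_pow' hpos.ne').mpr even_two
      exact (Nat.not_odd_iff_even.mpr this) hdodd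
  have hθ1 : θ 1 = 1 := by rw [hd, hd1, Nat.cast_one]
  -- complex conjugation on the orbit
  have hresre : ∀ m : Q, ((resFun Q (χ : G → ℂ)) m).im = 0 := fun m => hre m
  have hmem : ∀ ψ ∈ conjOrbit Q θ, (fun x => conj (ψ x)) ∈ conjOrbit Q θ := by
    intro ψ hψ
    obtain ⟨g, rfl⟩ := (mem_conjOrbit Q).mp hψ
    have hψirr : IsIrrCharacter Q (conjFun Q g θ) := isIrrCharacter_conjFun Q hθ g
    have hψc : classInner (resFun Q (χ : G → ℂ)) (conjFun Q g θ) ≠ 0 := by
      rw [classInner_resFun_conjFun Q (IsCharacter.isClassFunction hχc)]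
      exact hc
    have h1 := classInner_conj_right_ne_zero hresre hψc
    obtain ⟨g', hg'⟩ := exists_conjFun_eq_of_constituent Q χ.2 hθ
      (IsIrrCharacter.conj' hψirr) hc h1
    exact (mem_conjOrbit Q).mpr ⟨g', hg'⟩
  obtain ⟨ψ₀, hψ₀, hfix⟩ := exists_fixed_of_odd_card (conjOrbit Q θ)
    (fun ψ => fun x => conj (ψ x)) hmem
    (fun ψ _ => by funext x; simp) horb
  obtain ⟨g₀, rfl⟩ := (mem_conjOrbit Q).mp hψ₀
  have hψ₀re : ∀ m : Q, ((conjFun Q g₀ θ) m).im = 0 := by
    intro m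
    have := congrFun hfix m
    exact Complex.conj_eq_iff_im.mp this
  -- `θ` is real
  have hθre : ∀ m : Q, (θ m).im = 0 := by
    intro m
    have h := congrFun (conjFun_inv_conjFun Q g₀ θ) m
    rw [← h, conjFun_apply]
    exact hψ₀re _
  -- every member of the orbit is a real linear character, so takes the value 1 on squares
  have hsq : ∀ ψ ∈ conjOrbit Q θ, ∀ x : Q, ψ (x * x) = 1 := by
    intro ψ hψ x
    obtain ⟨g, rfl⟩ := (mem_conjOrbit Q).mp hψ
    have hψirr : IsIrrCharacter Q (conjFun Q g θ) := isIrrCharacter_conjFun Q hθ g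
    have hψc : IsCharacter Q (conjFun Q g θ) := IsIrrCharacter.isCharacter hψirr
    have hψ1 : conjFun Q g θ 1 = 1 := by rw [conjFun_apply_one, hθ1]
    have hψre : conj (conjFun Q g θ x) = conjFun Q g θ x := by
      apply Complex.conj_eq_iff_im.mpr
      rw [conjFun_apply]
      exact hθre _
    rw [IsCharacter.map_mul_of_apply_one hψc hψ1]
    have := IsCharacter.mul_conj_eq_one_of_apply_one hψc hψ1 x
    rwa [hψre] at this
  have hcl := clifford Q χ.2 hθ hc
  have hval1 : (χ : G → ℂ) 1 = classInner (resFun Q (χ : G → ℂ)) θ * ((conjOrbit Q θ).card : ℂ) := by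
    rw [hdeg, hθ1, mul_one]
  apply char_eq_of_mem_closure hχc
  rintro y ⟨x, hx, rfl⟩
  have h1 := congrFun hcl (⟨x, hx⟩ * ⟨x, hx⟩)
  rw [resFun_apply, Pi.smul_apply, Finset.sum_apply,
    Finset.sum_congr rfl (fun ψ hψ => hsq ψ hψ ⟨x, hx⟩), Finset.sum_const, nsmul_eq_mul, mul_one,
    smul_eq_mul] at h1
  have h2 : (((⟨x, hx⟩ * ⟨x, hx⟩ : Q) : G)) = x ^ 2 := by rw [pow_two]; rfl
  rw [h2] at h1
  rw [h1, hval1]

/-- (KERB) subgroup version. -/
theorem ker_of_sq_normal_two_sub (H Q : Subgroup G) [Q.Normal]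
    (hQ : IsPGroup 2 Q) (hQH : Q ≤ H) (ξ : IrrCharacter H)
    (hre : ∀ g : H, ((ξ : H → ℂ) g).im = 0) (hodd : Odd (charDegree (ξ : H → ℂ))) :
    ∀ n : H, (n : G) ∈ sqSub Q → (ξ : H → ℂ) n = (ξ : H → ℂ) 1 := by
  have hQ' : IsPGroup 2 ↥(Q.subgroupOf H) := hQ.comap_subtype
  have hmap : (sqSub (Q.subgroupOf H)).map H.subtype = sqSub Q := by
    unfold sqSub
    rw [MonoidHom.map_closure]
    congr 1
    ext y
    constructor
    · rintro ⟨y', ⟨x, hx, rfl⟩, rfl⟩
      exact ⟨(x : G), Subgroup.mem_subgroupOf.mp hx, by simp⟩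
    · rintro ⟨x, hx, rfl⟩
      refine ⟨(⟨x, hQH hx⟩ : H) ^ 2, ⟨⟨x, hQH hx⟩, Subgroup.mem_subgroupOf.mpr hx, rfl⟩, by simp⟩
  intro n hn
  rw [← hmap] at hn
  obtain ⟨n', hn', hnn⟩ := hn
  have : n' = n := Subtype.ext hnn
  subst this
  exact ker_of_sq_normal_two (Q.subgroupOf H) hQ' ξ hre hodd n' hn'

end

end Cfsg.Agent.Lib.Helper22.RO
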