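import Mathlib
import Cfsg.Prelude.Def_CaseTheorems
import Cfsg.Agent.Lib.Helper22.RankTwoCharC

/-!
helper22: `p`-groups (`p` odd) of rank at most two have a proper characteristic subgroup of index
at most `p²`.  Part D: the two non-`p`-central cases and the main lemma.
-/

set_option autoImplicit false
open scoped commutatorElement

namespace Cfsg.Agent.Lib.Helper22.RankTwoChar

universe u

variable {p : ℕ} [Fact p.Prime] {P : Type u} [Group P] [Finite P]

/-- Case 2B: every element of order `p` of the second centre is central. -/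
theorem exists_char_caseB (hp2 : p ≠ 2) (hP : IsPGroup p P) (hr : Cfsg.PRankLE p 2 P) {a : P}
    (ha : a ^ p = 1) (hac : a ∉ Subgroup.center P)
    (hW : ∀ w ∈ omegaZ2 (Fact.out : p.Prime) hp2 P, w ∈ Subgroup.center P) :
    ∃ X : Subgroup P, X.Characteristic ∧ X ≠ ⊤ ∧ X.index ≤ p ^ 2 := by
  have hpp : p.Prime := Fact.out
  have hD := card_omegaCenter hP hr ha hac
  set Y := upsZ2 hpp hp2 P with hY
  -- an element of `Y` outside the centre
  obtain ⟨y₀, hy₀Y, hy₀c⟩ : ∃ y₀ ∈ Y, y₀ ∉ Subgroup.center P := by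
    have hnt : Nontrivial (P ⧸ Subgroup.center P) := by
      rw [← Finite.one_lt_card_iff_nontrivial]
      have h1 : Nat.card (P ⧸ Subgroup.center P) = (Subgroup.center P).index := rfl
      rw [h1]
      have h2 : (Subgroup.center P).index ≠ 1 := by
        intro h
        rw [Subgroup.index_eq_one] at h
        exact hac (by rw [h]; trivial)
      have h3 : (Subgroup.center P).index ≠ 0 := Subgroup.index_ne_zero_of_finite
      omega
    have hQ : IsPGroup p (P ⧸ Subgroup.center P) := hP.to_quotient _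
    have hZnt : Nontrivial (Subgroup.center (P ⧸ Subgroup.center P)) := hQ.center_nontrivial
    obtain ⟨k, hk⟩ := IsPGroup.iff_card.mp (hQ.to_subgroup (Subgroup.center (P ⧸ Subgroup.center P)))
    have hk0 : k ≠ 0 := by
      rintro rfl
      rw [pow_zero] at hk
      have := Finite.one_lt_card (α := Subgroup.center (P ⧸ Subgroup.center P))
      omega
    have hdvd : p ∣ Nat.card (Subgroup.center (P ⧸ Subgroup.center P)) := by
      rw [hk]; exact dvd_pow_self p hk0
    obtain ⟨z, hz⟩ := exists_prime_orderOf_dvd_card' p hdvd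
    obtain ⟨y₀, hy₀⟩ := QuotientGroup.mk_surjective (z : P ⧸ Subgroup.center P)
    have hzp : (z : P ⧸ Subgroup.center P) ^ p = 1 := by
      have := pow_orderOf_eq_one z
      rw [hz] at this
      have h2 := congrArg Subtype.val this
      simpa using h2
    refine ⟨y₀, ⟨?_, ?_⟩, ?_⟩
    · rw [← hy₀, ← QuotientGroup.mk_pow, QuotientGroup.eq_one_iff] at hzp
      exact hzp
    · intro g
      rw [← QuotientGroup.eq_one_iff]
      have h1 : ((⁅y₀, g⁆ : P) : P ⧸ Subgroup.center P)
          = ⁅(y₀ : P ⧸ Subgroup.center P), (g : P ⧸ Subgroup.center P)⁆ := by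
        simp [commutatorElement_def]
      rw [h1, hy₀, commutatorElement_eq_one_iff_commute]
      exact ((Subgroup.mem_center_iff.mp z.2) (g : P ⧸ Subgroup.center P)).symm
    · intro hc
      have h1 : (z : P ⧸ Subgroup.center P) = 1 := by
        rw [← hy₀, QuotientGroup.eq_one_iff]; exact hc
      have h2 : z = 1 := Subtype.ext h1
      rw [h2, orderOf_one] at hz
      exact hpp.one_lt.ne hz
  -- the `p`-power map on `Y`
  have hcardY : Nat.card Y ≤ p * Nat.card (Subgroup.center P) := by
    let ψ : Y →* P :=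
      { toFun := fun y => (y : P) ^ p
        map_one' := by simp
        map_mul' := by
          intro y₁ y₂
          exact z2_mul_pow hpp hp2 y₂.2.2 y₂.2.1 }
    have h1 := ψ.ker.card_mul_index
    rw [Subgroup.index_ker] at h1
    have h2 : Nat.card ψ.range ≤ Nat.card (Subgroup.center P) := by
      apply Subgroup.card_le_of_le
      rintro _ ⟨y, rfl⟩
      exact y.2.1
    have h3 : Nat.card ψ.ker ≤ p := by
      rw [← hD, ← Subgroup.card_map_of_injective (Subgroup.subtype_injective Y)]
      apply Subgroup.card_le_of_le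
      rintro _ ⟨y, hy, rfl⟩
      have hy1 : (y : P) ^ p = 1 := MonoidHom.mem_ker.mp hy
      have hyW : (y : P) ∈ omegaZ2 hpp hp2 P := ⟨hy1, y.2.2⟩
      exact ⟨hW _ hyW, hy1⟩
    rw [← h1]
    exact Nat.mul_le_mul h3 h2
  -- generation
  set S : Set P := (Subgroup.center P : Set P) ∪ {y₀} with hS
  have hSY : Subgroup.closure S ≤ Y := by
    rw [Subgroup.closure_le]
    rintro s (hs | hs)
    · refine ⟨Subgroup.pow_mem _ hs _, fun g => ?_⟩
      have : ⁅s, g⁆ = 1 := by
        rw [commutatorElement_eq_one_iff_commute]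
        exact ((Subgroup.mem_center_iff.mp hs) g).symm
      rw [this]; exact Subgroup.one_mem _
    · rw [Set.mem_singleton_iff] at hs
      rw [hs]; exact hy₀Y
  have hlt : Subgroup.center P < Subgroup.closure S := by
    refine lt_of_le_of_ne ?_ ?_
    · intro x hx
      exact Subgroup.subset_closure (Or.inl hx)
    · intro h
      apply hy₀c
      rw [h]; exact Subgroup.subset_closure (Or.inr rfl)
  have hYS : Y = Subgroup.closure S := by
    symm
    apply Subgroup.eq_of_le_of_card_ge hSY
    exact le_trans hcardY (p_mul_card_le hP hlt)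
  refine ⟨Subgroup.centralizer (Y : Set P), inferInstance, ?_, ?_⟩
  · intro htop
    apply hy₀c
    rw [Subgroup.mem_center_iff]
    intro g
    have hg : g ∈ Subgroup.centralizer (Y : Set P) := by rw [htop]; trivial
    exact Subgroup.mem_centralizer_iff.mp hg y₀ hy₀Y |>.symm
  · have hle : Subgroup.centralizer ({y₀} : Set P) ≤ Subgroup.centralizer (Y : Set P) := by
      intro g hg
      rw [hYS]
      apply mem_centralizer_closure
      rintro s (hs | hs)
      · exact ((Subgroup.mem_center_iff.mp hs) g).symm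
      · rw [Set.mem_singleton_iff] at hs
        rw [hs]
        exact Subgroup.mem_centralizer_iff.mp hg y₀ rfl
    have h1 := Subgroup.index_dvd_of_le hle
    have h2 := index_centralizer_le (p := p) hy₀Y.2 hy₀Y.1
    rw [hD] at h2
    have h3 : (Subgroup.centralizer ({y₀} : Set P)).index ≠ 0 := Subgroup.index_ne_zero_of_finite
    have h4 := Nat.le_of_dvd (Nat.pos_of_ne_zero h3) h1
    calc (Subgroup.centralizer (Y : Set P)).index ≤ p := le_trans h4 h2
      _ ≤ p ^ 2 := by nlinarith [hpp.one_lt]


/-- `Ω₁(Z₂(P))` has order at most `p³` in rank two. -/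
theorem card_omegaZ2_le (hp2 : p ≠ 2) (hP : IsPGroup p P) (hr : Cfsg.PRankLE p 2 P)
    {w₁ : P} (hw₁ : w₁ ∈ omegaZ2 (Fact.out : p.Prime) hp2 P) (hw₁c : w₁ ∉ Subgroup.center P) :
    Nat.card (omegaZ2 (Fact.out : p.Prime) hp2 P) ≤ p ^ 3 ∧
      p * p ≤ Nat.card (Subgroup.closure ((omegaCenter p P : Set P) ∪ {w₁})) := by
  have hpp : p.Prime := Fact.out
  have hD := card_omegaCenter hP hr hw₁.1 hw₁c
  set W := omegaZ2 hpp hp2 P with hW
  set S₁ : Set P := (omegaCenter p P : Set P) ∪ {w₁} with hS₁
  have hcomm₁ : ∀ x ∈ S₁, ∀ y ∈ S₁, x * y = y * x := by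
    rintro x (hx | hx) y hy
    · exact ((Subgroup.mem_center_iff.mp hx.1) y).symm
    · rcases hy with hy | hy
      · exact (Subgroup.mem_center_iff.mp hy.1) x
      · rw [Set.mem_singleton_iff] at hx hy
        rw [hx, hy]
  have hexp₁ : ∀ x ∈ S₁, x ^ p = 1 := by
    rintro x (hx | hx)
    · exact hx.2
    · rw [Set.mem_singleton_iff] at hx
      rw [hx]; exact hw₁.1
  have hA2 := card_closure_le hr hcomm₁ hexp₁
  have hlt : omegaCenter p P < Subgroup.closure S₁ := by
    refine lt_of_le_of_ne ?_ ?_
    · intro x hx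
      exact Subgroup.subset_closure (Or.inl hx)
    · intro h
      have : w₁ ∈ omegaCenter p P := by
        rw [h]; exact Subgroup.subset_closure (Or.inr rfl)
      exact hw₁c this.1
  have hA1 := p_mul_card_le hP hlt
  rw [hD] at hA1
  refine ⟨?_, hA1⟩
  -- the commutator map on `W`
  let ψ : W →* P := (commHom w₁ hw₁.2).comp W.subtype
  have h1 := ψ.ker.card_mul_index
  rw [Subgroup.index_ker] at h1
  have h2 : Nat.card ψ.range ≤ p := by
    rw [← hD]
    apply Subgroup.card_le_of_le
    rintro _ ⟨w, rfl⟩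
    exact comm_mem_omegaCenter hw₁.2 (by rw [hw₁.1]; exact Subgroup.one_mem _) _
  have h3 : Nat.card ψ.ker ≤ p ^ 2 := by
    refine le_trans ?_ hA2
    rw [← Subgroup.card_map_of_injective (Subgroup.subtype_injective W)]
    apply Subgroup.card_le_of_le
    rintro _ ⟨c, hc, rfl⟩
    have hc1 : ⁅w₁, (c : P)⁆ = 1 := MonoidHom.mem_ker.mp hc
    have hcw : Commute w₁ (c : P) := commutatorElement_eq_one_iff_commute.mp hc1
    set S₂ : Set P := S₁ ∪ {(c : P)} with hS₂
    have hcomm₂ : ∀ x ∈ S₂, ∀ y ∈ S₂, x * y = y * x := by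
      rintro x (hx | hx) y (hy | hy)
      · exact hcomm₁ x hx y hy
      · rw [Set.mem_singleton_iff] at hy
        rw [hy]
        rcases hx with hx | hx
        · exact ((Subgroup.mem_center_iff.mp hx.1) _).symm
        · rw [Set.mem_singleton_iff] at hx
          rw [hx]; exact hcw.eq
      · rw [Set.mem_singleton_iff] at hx
        rw [hx]
        rcases hy with hy | hy
        · exact ((Subgroup.mem_center_iff.mp hy.1) _)
        · rw [Set.mem_singleton_iff] at hy
          rw [hy]; exact hcw.eq.symm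
      · rw [Set.mem_singleton_iff] at hx hy
        rw [hx, hy]
    have hexp₂ : ∀ x ∈ S₂, x ^ p = 1 := by
      rintro x (hx | hx)
      · exact hexp₁ x hx
      · rw [Set.mem_singleton_iff] at hx
        rw [hx]; exact c.2.1
    have hB := card_closure_le hr hcomm₂ hexp₂
    have hle : Subgroup.closure S₁ ≤ Subgroup.closure S₂ :=
      Subgroup.closure_mono Set.subset_union_left
    have heq : Subgroup.closure S₁ = Subgroup.closure S₂ := by
      apply Subgroup.eq_of_le_of_card_ge hle
      calc Nat.card (Subgroup.closure S₂) ≤ p ^ 2 := hB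
        _ = p * p := by ring
        _ ≤ _ := hA1
    show (c : P) ∈ Subgroup.closure S₁
    rw [heq]
    exact Subgroup.subset_closure (Or.inr rfl)
  rw [← h1]
  calc Nat.card ψ.ker * Nat.card ψ.range ≤ p ^ 2 * p := Nat.mul_le_mul h3 h2
    _ = p ^ 3 := by ring

/-- Case 2A: some element of order `p` of the second centre is not central. -/
theorem exists_char_caseA (hp2 : p ≠ 2) (hP : IsPGroup p P) (hr : Cfsg.PRankLE p 2 P)
    {w₁ : P} (hw₁ : w₁ ∈ omegaZ2 (Fact.out : p.Prime) hp2 P) (hw₁c : w₁ ∉ Subgroup.center P) :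
    ∃ X : Subgroup P, X.Characteristic ∧ X ≠ ⊤ ∧ X.index ≤ p ^ 2 := by
  have hpp : p.Prime := Fact.out
  have hD := card_omegaCenter hP hr hw₁.1 hw₁c
  obtain ⟨hW3, hA1⟩ := card_omegaZ2_le hp2 hP hr hw₁ hw₁c
  set W := omegaZ2 hpp hp2 P with hW
  set S₁ : Set P := (omegaCenter p P : Set P) ∪ {w₁} with hS₁
  have hDW : omegaCenter p P ≤ W := by
    intro z hz
    refine ⟨hz.2, fun g => ?_⟩
    have : ⁅z, g⁆ = 1 := by
      rw [commutatorElement_eq_one_iff_commute]
      exact ((Subgroup.mem_center_iff.mp hz.1) g).symm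
    rw [this]; exact Subgroup.one_mem _
  have hS₁W : Subgroup.closure S₁ ≤ W := by
    rw [Subgroup.closure_le]
    rintro s (hs | hs)
    · exact hDW hs
    · rw [Set.mem_singleton_iff] at hs
      rw [hs]; exact hw₁
  -- a second generator
  obtain ⟨w₂, hw₂, hgen⟩ : ∃ w₂ ∈ W, W ≤ Subgroup.closure (S₁ ∪ {w₂}) := by
    by_cases hT : Subgroup.closure S₁ = W
    · refine ⟨w₁, hw₁, ?_⟩
      rw [← hT]
      exact Subgroup.closure_mono Set.subset_union_left
    · obtain ⟨w₂, hw₂, hw₂T⟩ : ∃ w₂ ∈ W, w₂ ∉ Subgroup.closure S₁ := by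
        by_contra hno
        push Not at hno
        exact hT (le_antisymm hS₁W hno)
      refine ⟨w₂, hw₂, ?_⟩
      have hlt : Subgroup.closure S₁ < Subgroup.closure (S₁ ∪ {w₂}) := by
        refine lt_of_le_of_ne (Subgroup.closure_mono Set.subset_union_left) ?_
        intro h
        apply hw₂T
        rw [h]; exact Subgroup.subset_closure (Or.inr rfl)
      have h1 := p_mul_card_le hP hlt
      have hle : Subgroup.closure (S₁ ∪ {w₂}) ≤ W := by
        rw [Subgroup.closure_le]
        rintro s (hs | hs)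
        · exact hS₁W (Subgroup.subset_closure hs)
        · rw [Set.mem_singleton_iff] at hs
          rw [hs]; exact hw₂
      have heq : Subgroup.closure (S₁ ∪ {w₂}) = W := by
        apply Subgroup.eq_of_le_of_card_ge hle
        calc Nat.card W ≤ p ^ 3 := hW3
          _ = p * (p * p) := by ring
          _ ≤ p * Nat.card (Subgroup.closure S₁) := Nat.mul_le_mul_left p hA1
          _ ≤ _ := h1
      rw [heq]
  refine ⟨Subgroup.centralizer (W : Set P), inferInstance, ?_, ?_⟩
  · intro htop
    apply hw₁c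
    rw [Subgroup.mem_center_iff]
    intro g
    have hg : g ∈ Subgroup.centralizer (W : Set P) := by rw [htop]; trivial
    exact Subgroup.mem_centralizer_iff.mp hg w₁ hw₁ |>.symm
  · have hle : Subgroup.centralizer ({w₁} : Set P) ⊓ Subgroup.centralizer ({w₂} : Set P)
        ≤ Subgroup.centralizer (W : Set P) := by
      rintro g ⟨hg1, hg2⟩
      have hg : g ∈ Subgroup.centralizer
          ((Subgroup.closure (S₁ ∪ {w₂}) : Subgroup P) : Set P) := by
        apply mem_centralizer_closure
        rintro s ((hs | hs) | hs)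
        · exact ((Subgroup.mem_center_iff.mp hs.1) g).symm
        · rw [Set.mem_singleton_iff] at hs
          rw [hs]
          exact Subgroup.mem_centralizer_iff.mp hg1 w₁ rfl
        · rw [Set.mem_singleton_iff] at hs
          rw [hs]
          exact Subgroup.mem_centralizer_iff.mp hg2 w₂ rfl
      rw [Subgroup.mem_centralizer_iff] at hg ⊢
      intro t ht
      exact hg t (hgen ht)
    have h1 := Subgroup.index_dvd_of_le hle
    have hwp : ∀ w ∈ W, w ^ p ∈ Subgroup.center P := by
      intro w hw
      rw [hw.1]; exact Subgroup.one_mem _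
    have h2 := index_centralizer_le (p := p) hw₁.2 (hwp _ hw₁)
    have h2' := index_centralizer_le (p := p) hw₂.2 (hwp _ hw₂)
    rw [hD] at h2 h2'
    have h3 : (Subgroup.centralizer ({w₁} : Set P) ⊓ Subgroup.centralizer ({w₂} : Set P)).index
        ≠ 0 := Subgroup.index_ne_zero_of_finite
    have h4 := Nat.le_of_dvd (Nat.pos_of_ne_zero h3) h1
    calc (Subgroup.centralizer (W : Set P)).index
        ≤ (Subgroup.centralizer ({w₁} : Set P) ⊓ Subgroup.centralizer ({w₂} : Set P)).index := h4
      _ ≤ (Subgroup.centralizer ({w₁} : Set P)).index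
          * (Subgroup.centralizer ({w₂} : Set P)).index := Subgroup.index_inf_le
      _ ≤ p * p := Nat.mul_le_mul h2 h2'
      _ = p ^ 2 := by ring

/-- **Main lemma.** A nontrivial finite `p`-group (`p` odd) without elementary abelian subgroup of
order `p³` has a proper characteristic subgroup of index at most `p²`. -/
theorem exists_char_of_rank_two (hp2 : p ≠ 2) [Nontrivial P] (hP : IsPGroup p P)
    (hr : Cfsg.PRankLE p 2 P) :
    ∃ X : Subgroup P, X.Characteristic ∧ X ≠ ⊤ ∧ X.index ≤ p ^ 2 := by
  by_cases hcen : ∀ a : P, a ^ p = 1 → a ∈ Subgroup.center P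
  · exact exists_char_of_pcentral hp2 hP hr hcen
  · push Not at hcen
    obtain ⟨a, ha, hac⟩ := hcen
    by_cases hW : ∀ w ∈ omegaZ2 (Fact.out : p.Prime) hp2 P, w ∈ Subgroup.center P
    · exact exists_char_caseB hp2 hP hr ha hac hW
    · push Not at hW
      obtain ⟨w₁, hw₁, hw₁c⟩ := hW
      exact exists_char_caseA hp2 hP hr hw₁ hw₁c

end Cfsg.Agent.Lib.Helper22.RankTwoChar
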