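import Mathlib

/-!
# S4580 leaf (E1): the normal 2-complement of `L = P C_G(P)`, `P ∈ Syl_2(G)`

`C = C_G(P)`; `P ∩ C = Z(P)` is a central Sylow 2-subgroup of `C`, so by Schur–Zassenhaus
`C = Z(P) × K` with `K` the set of elements of odd order of `C`; `K` is the normal
2-complement of `L = P C`, it is centralized by `P`, and it is `N_G(P)`-invariant.
-/

namespace Cfsg.Agent.Lib.Helper22.RealExt

universe u
variable {G : Type u} [Group G] [Finite G]

omit [Finite G] in
/-- Every element of `P ⊔ C_G(P)` is a product `p * c`. -/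
theorem exists_mul_of_mem_sup_centralizer (P : Subgroup G) {l : G}
    (hl : l ∈ P ⊔ Subgroup.centralizer (P : Set G)) :
    ∃ p ∈ P, ∃ c ∈ Subgroup.centralizer (P : Set G), l = p * c := by
  have h := Subgroup.coe_mul_of_right_le_normalizer_left P (Subgroup.centralizer (P : Set G))
    (Subgroup.centralizer_le_normalizer _)
  have hl' : l ∈ ((P ⊔ Subgroup.centralizer (P : Set G) : Subgroup G) : Set G) := hl
  rw [h] at hl'
  obtain ⟨p, hp, c, hc, rfl⟩ := hl'
  exact ⟨p, hp, c, hc, rfl⟩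

omit [Finite G] in
/-- `N_G(P)` normalizes `C_G(P)`. -/
theorem conj_mem_centralizer_of_mem_normalizer (P : Subgroup G) {n c : G}
    (hn : n ∈ Subgroup.normalizer (P : Set G)) (hc : c ∈ Subgroup.centralizer (P : Set G)) :
    n * c * n⁻¹ ∈ Subgroup.centralizer (P : Set G) := by
  rw [Subgroup.mem_centralizer_iff]
  intro h hh
  have h' : n⁻¹ * h * n ∈ P := (Subgroup.mem_normalizer_iff''.mp hn h).mp hh
  have hcomm : n⁻¹ * h * n * c = c * (n⁻¹ * h * n) := Subgroup.mem_centralizer_iff.mp hc _ h'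
  calc h * (n * c * n⁻¹) = n * (n⁻¹ * h * n * c) * n⁻¹ := by group
    _ = n * (c * (n⁻¹ * h * n)) * n⁻¹ := by rw [hcomm]
    _ = n * c * n⁻¹ * h := by group

/-- The odd part of `C_G(P)`, `P` a Sylow 2-subgroup. -/
theorem exists_odd_part_centralizer (P : Sylow 2 G) :
    ∃ KG : Subgroup G, KG ≤ Subgroup.centralizer ((P : Subgroup G) : Set G) ∧
      Odd (Nat.card KG) ∧
      (∀ c ∈ Subgroup.centralizer ((P : Subgroup G) : Set G),
        ∃ z ∈ (P : Subgroup G), ∃ k ∈ KG, c = z * k) := by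
  classical
  have : Fact (Nat.Prime 2) := ⟨Nat.prime_two⟩
  set C : Subgroup G := Subgroup.centralizer ((P : Subgroup G) : Set G) with hC
  let Q : Sylow 2 C := default
  have hQP : (Q : Subgroup C).map C.subtype ≤ (P : Subgroup G) := by
    have hQ2 : IsPGroup 2 ((Q : Subgroup C).map C.subtype) := Q.2.map _
    have hle : (Q : Subgroup C).map C.subtype ≤ Subgroup.normalizer ((P : Subgroup G) : Set G) :=
      (Subgroup.map_subtype_le _).trans (Subgroup.centralizer_le_normalizer _)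
    have h2 : IsPGroup 2 ((Q : Subgroup C).map C.subtype ⊔ (P : Subgroup G) : Subgroup G) :=
      IsPGroup.to_sup_of_normal_right' hQ2 P.2 hle
    have := P.is_maximal' h2 le_sup_right
    exact this ▸ le_sup_left
  have hQn : (Q : Subgroup C).Normal := by
    constructor
    intro q hq c
    have hqP : (q : G) ∈ (P : Subgroup G) := hQP ⟨q, hq, rfl⟩
    have hcomm : (q : G) * (c : G) = (c : G) * (q : G) :=
      Subgroup.mem_centralizer_iff.mp c.2 q hqP
    have : c * q * c⁻¹ = q := by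
      apply Subtype.ext
      simp only [Subgroup.coe_mul, Subgroup.coe_inv]
      rw [← hcomm]; group
    rw [this]; exact hq
  obtain ⟨K0, hK0⟩ := Subgroup.exists_right_complement'_of_coprime Q.card_coprime_index
  refine ⟨K0.map C.subtype, Subgroup.map_subtype_le _, ?_, ?_⟩
  · have h1 : Nat.card (K0.map C.subtype) = Nat.card K0 :=
      Subgroup.card_map_of_injective C.subtype_injective
    have h2 : (Q : Subgroup C).index = Nat.card K0 := hK0.symm.index_eq_card
    rw [h1, ← h2, ← Nat.not_even_iff_odd, even_iff_two_dvd]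
    exact Q.not_dvd_index
  · intro c hc
    obtain ⟨⟨⟨z, hz⟩, ⟨k, hk⟩⟩, hzk, -⟩ :=
      (Subgroup.isComplement_iff_existsUnique.mp hK0) ⟨c, hc⟩
    refine ⟨(z : G), hQP ⟨z, hz, rfl⟩, (k : G), ⟨k, hk, rfl⟩, ?_⟩
    have := congrArg (fun x : C => (x : G)) hzk
    simpa using this.symm

omit [Finite G] in
/-- The odd part `KG` of `C_G(P)` is exactly the set of elements of odd order of `C_G(P)`. -/
theorem mem_odd_part_iff (P : Sylow 2 G) (KG : Subgroup G)
    (hKC : KG ≤ Subgroup.centralizer ((P : Subgroup G) : Set G)) (hodd : Odd (Nat.card KG))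
    (hdec : ∀ c ∈ Subgroup.centralizer ((P : Subgroup G) : Set G),
      ∃ z ∈ (P : Subgroup G), ∃ k ∈ KG, c = z * k) (x : G) :
    x ∈ KG ↔ x ∈ Subgroup.centralizer ((P : Subgroup G) : Set G) ∧ Odd (orderOf x) := by
  constructor
  · intro hx
    refine ⟨hKC hx, ?_⟩
    have hdvd : orderOf x ∣ Nat.card KG := Subgroup.orderOf_dvd_natCard KG hx
    obtain ⟨d, hd⟩ := hdvd
    rw [hd] at hodd
    exact (Nat.odd_mul.mp hodd).1
  · rintro ⟨hxC, hxo⟩
    obtain ⟨z, hz, k, hk, rfl⟩ := hdec x hxC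
    have hcomm : Commute z k := Subgroup.mem_centralizer_iff.mp (hKC hk) z hz
    set e : ℕ := orderOf (z * k) * Nat.card KG with he
    have heodd : Odd e := Nat.odd_mul.mpr ⟨hxo, hodd⟩
    have hke : k ^ e = 1 := by
      have h1 : k ^ Nat.card KG = 1 := by
        have := Subgroup.orderOf_dvd_natCard KG hk
        exact orderOf_dvd_iff_pow_eq_one.mp this
      rw [he, mul_comm, pow_mul, h1, one_pow]
    have hxe : (z * k) ^ e = 1 := by
      rw [he, pow_mul, pow_orderOf_eq_one, one_pow]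
    have hze : z ^ e = 1 := by
      rw [hcomm.mul_pow, hke, mul_one] at hxe
      exact hxe
    obtain ⟨m, hm⟩ := P.2 ⟨z, hz⟩
    have hzm : z ^ 2 ^ m = 1 := by
      have := congrArg (fun y : (P : Subgroup G) => (y : G)) hm
      simpa using this
    have hcop : Nat.Coprime (2 ^ m) e :=
      Nat.Coprime.pow_left m (Nat.coprime_two_left.mpr heodd)
    have hz1 : z = 1 := by
      have := pow_gcd_eq_one.mpr ⟨hzm, hze⟩
      rwa [hcop.gcd_eq_one, pow_one] at this
    rw [hz1, one_mul]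
    exact hk

/-- **(E1)** group theory: the normal 2-complement `K` of `L = P C_G(P)`, `P ∈ Syl_2(G)`. -/
theorem exists_normal_two_complement (P : Sylow 2 G) :
    ∃ K : Subgroup ↥((P : Subgroup G) ⊔ Subgroup.centralizer ((P : Subgroup G) : Set G)),
      K.Normal ∧ Odd (Nat.card K) ∧ (∃ k : ℕ, K.index = 2 ^ k) ∧
      (∀ l : ↥((P : Subgroup G) ⊔ Subgroup.centralizer ((P : Subgroup G) : Set G)),
        ∃ u ∈ K, ∀ x ∈ K, l * x * l⁻¹ = u * x * u⁻¹) ∧
      (∀ n ∈ Subgroup.normalizer ((P : Subgroup G) : Set G),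
        ∀ x : ↥((P : Subgroup G) ⊔ Subgroup.centralizer ((P : Subgroup G) : Set G)),
          n * (x : G) * n⁻¹ ∈
            (P : Subgroup G) ⊔ Subgroup.centralizer ((P : Subgroup G) : Set G)) ∧
      (∀ n ∈ Subgroup.normalizer ((P : Subgroup G) : Set G),
        ∀ x : ↥((P : Subgroup G) ⊔ Subgroup.centralizer ((P : Subgroup G) : Set G)), x ∈ K →
          ∀ hx : n * (x : G) * n⁻¹ ∈
            (P : Subgroup G) ⊔ Subgroup.centralizer ((P : Subgroup G) : Set G),
          (⟨n * (x : G) * n⁻¹, hx⟩ :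
            ↥((P : Subgroup G) ⊔ Subgroup.centralizer ((P : Subgroup G) : Set G))) ∈ K) := by
  classical
  have : Fact (Nat.Prime 2) := ⟨Nat.prime_two⟩
  obtain ⟨KG, hKC, hodd, hdec⟩ := exists_odd_part_centralizer P
  have hmem := mem_odd_part_iff P KG hKC hodd hdec
  have hPL : (P : Subgroup G) ≤
      (P : Subgroup G) ⊔ Subgroup.centralizer ((P : Subgroup G) : Set G) := le_sup_left
  have hCL : Subgroup.centralizer ((P : Subgroup G) : Set G) ≤
      (P : Subgroup G) ⊔ Subgroup.centralizer ((P : Subgroup G) : Set G) := le_sup_right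
  have hKL : KG ≤ (P : Subgroup G) ⊔ Subgroup.centralizer ((P : Subgroup G) : Set G) :=
    hKC.trans hCL
  -- `N_G(P)` leaves `KG` invariant
  have hinv : ∀ n ∈ Subgroup.normalizer ((P : Subgroup G) : Set G), ∀ x ∈ KG,
      n * x * n⁻¹ ∈ KG := by
    intro n hn x hx
    rw [hmem] at hx ⊢
    refine ⟨conj_mem_centralizer_of_mem_normalizer _ hn hx.1, ?_⟩
    have h1 : orderOf (n * x * n⁻¹) = orderOf x := (MulAut.conj n).orderOf_eq x
    rw [h1]; exact hx.2
  have hLN : (P : Subgroup G) ⊔ Subgroup.centralizer ((P : Subgroup G) : Set G) ≤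
      Subgroup.normalizer ((P : Subgroup G) : Set G) :=
    sup_le Subgroup.le_normalizer (Subgroup.centralizer_le_normalizer _)
  -- `N_G(P)` leaves `L` invariant
  have hLinv : ∀ n ∈ Subgroup.normalizer ((P : Subgroup G) : Set G),
      ∀ x ∈ (P : Subgroup G) ⊔ Subgroup.centralizer ((P : Subgroup G) : Set G),
      n * x * n⁻¹ ∈ (P : Subgroup G) ⊔ Subgroup.centralizer ((P : Subgroup G) : Set G) := by
    intro n hn x hx
    obtain ⟨p, hp, c, hc, rfl⟩ := exists_mul_of_mem_sup_centralizer _ hx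
    have h1 : n * p * n⁻¹ ∈ (P : Subgroup G) := (Subgroup.mem_normalizer_iff.mp hn p).mp hp
    have h2 := conj_mem_centralizer_of_mem_normalizer _ hn hc
    have h3 : n * (p * c) * n⁻¹ = (n * p * n⁻¹) * (n * c * n⁻¹) := by group
    rw [h3]
    exact mul_mem (hPL h1) (hCL h2)
  have hnorm : (KG.subgroupOf
      ((P : Subgroup G) ⊔ Subgroup.centralizer ((P : Subgroup G) : Set G))).Normal := by
    constructor
    intro x hx l
    rw [Subgroup.mem_subgroupOf] at hx ⊢
    simp only [Subgroup.coe_mul, Subgroup.coe_inv]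
    exact hinv _ (hLN l.2) _ hx
  refine ⟨KG.subgroupOf _, hnorm, ?_, ?_, ?_, ?_, ?_⟩
  · -- odd order
    rw [Nat.card_congr (Subgroup.subgroupOfEquivOfLe hKL).toEquiv]
    exact hodd
  · -- index a power of 2
    let ϕ : (P : Subgroup G) →*
        ↥((P : Subgroup G) ⊔ Subgroup.centralizer ((P : Subgroup G) : Set G)) ⧸
          KG.subgroupOf ((P : Subgroup G) ⊔ Subgroup.centralizer ((P : Subgroup G) : Set G)) :=
      (QuotientGroup.mk' _).comp (Subgroup.inclusion hPL)
    have hsurj : Function.Surjective ϕ := by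
      intro y
      obtain ⟨l, rfl⟩ := QuotientGroup.mk_surjective y
      obtain ⟨p, hp, c, hc, hl⟩ := exists_mul_of_mem_sup_centralizer _ l.2
      obtain ⟨z, hz, k, hk, rfl⟩ := hdec c hc
      refine ⟨⟨p * z, mul_mem hp hz⟩, ?_⟩
      change (QuotientGroup.mk (Subgroup.inclusion hPL ⟨p * z, mul_mem hp hz⟩) :
        _ ⧸ KG.subgroupOf _) = QuotientGroup.mk l
      rw [QuotientGroup.eq, Subgroup.mem_subgroupOf]
      simp only [Subgroup.coe_mul, Subgroup.coe_inv, Subgroup.coe_inclusion]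
      rw [hl]
      have h4 : (p * z)⁻¹ * (p * (z * k)) = k := by group
      rw [h4]; exact hk
    have hpg : IsPGroup 2
        (↥((P : Subgroup G) ⊔ Subgroup.centralizer ((P : Subgroup G) : Set G)) ⧸
          KG.subgroupOf ((P : Subgroup G) ⊔ Subgroup.centralizer ((P : Subgroup G) : Set G))) :=
      P.2.of_surjective ϕ hsurj
    obtain ⟨k, hk⟩ := IsPGroup.iff_card.mp hpg
    exact ⟨k, by rw [Subgroup.index_eq_card, hk]⟩
  · -- conjugation by `l` on `K` is inner
    intro l
    obtain ⟨p, hp, c, hc, hl⟩ := exists_mul_of_mem_sup_centralizer _ l.2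
    obtain ⟨z, hz, k, hk, rfl⟩ := hdec c hc
    refine ⟨⟨k, hKL hk⟩, Subgroup.mem_subgroupOf.mpr hk, ?_⟩
    intro x hx
    rw [Subgroup.mem_subgroupOf] at hx
    apply Subtype.ext
    simp only [Subgroup.coe_mul, Subgroup.coe_inv]
    rw [hl]
    have hy : k * (x : G) * k⁻¹ ∈ KG := mul_mem (mul_mem hk hx) (inv_mem hk)
    have hcomm : (p * z) * (k * (x : G) * k⁻¹) = (k * (x : G) * k⁻¹) * (p * z) :=
      Subgroup.mem_centralizer_iff.mp (hKC hy) _ (mul_mem hp hz)
    calc p * (z * k) * (x : G) * (p * (z * k))⁻¹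
        = (p * z) * (k * (x : G) * k⁻¹) * (p * z)⁻¹ := by group
      _ = (k * (x : G) * k⁻¹) * (p * z) * (p * z)⁻¹ := by rw [hcomm]
      _ = k * (x : G) * k⁻¹ := by group
  · intro n hn x
    exact hLinv n hn x x.2
  · intro n hn x hx hx'
    rw [Subgroup.mem_subgroupOf] at hx ⊢
    exact hinv n hn x hx

/-- The statement copied verbatim from `notes/S4580_leaves.lean`. -/
example (P : Sylow 2 G) :
    ∃ K : Subgroup ↥((P : Subgroup G) ⊔ Subgroup.centralizer ((P : Subgroup G) : Set G)),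
      K.Normal ∧ Odd (Nat.card K) ∧ (∃ k : ℕ, K.index = 2 ^ k) ∧
      (∀ l : ↥((P : Subgroup G) ⊔ Subgroup.centralizer ((P : Subgroup G) : Set G)),
        ∃ u ∈ K, ∀ x ∈ K, l * x * l⁻¹ = u * x * u⁻¹) ∧
      (∀ n ∈ Subgroup.normalizer ((P : Subgroup G) : Set G),
        ∀ x : ↥((P : Subgroup G) ⊔ Subgroup.centralizer ((P : Subgroup G) : Set G)),
          n * (x : G) * n⁻¹ ∈
            (P : Subgroup G) ⊔ Subgroup.centralizer ((P : Subgroup G) : Set G)) ∧
      (∀ n ∈ Subgroup.normalizer ((P : Subgroup G) : Set G),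
        ∀ x : ↥((P : Subgroup G) ⊔ Subgroup.centralizer ((P : Subgroup G) : Set G)), x ∈ K →
          ∀ hx : n * (x : G) * n⁻¹ ∈
            (P : Subgroup G) ⊔ Subgroup.centralizer ((P : Subgroup G) : Set G),
          (⟨n * (x : G) * n⁻¹, hx⟩ :
            ↥((P : Subgroup G) ⊔ Subgroup.centralizer ((P : Subgroup G) : Set G))) ∈ K) := exists_normal_two_complement P

end Cfsg.Agent.Lib.Helper22.RealExt
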