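/-
helper22: S4865 leaf (M6) for planner helper12: two `P`-invariant functions on `K ⊴ G` that are
`G`-conjugate are `N_G(P)`-conjugate (Sylow in the stabilizer).
-/
import Mathlib
import Cfsg.Prelude.Def_Blocks
import Cfsg.Agent.Lib.Helper2.GlaubReal
import Cfsg.Agent.Lib.Helper12.RealNDefs
import Cfsg.Agent.Lib.Helper12.RealMDefs

set_option autoImplicit false

namespace Cfsg.Agent.Lib.Helper22.RealM

open Cfsg Cfsg.Agent.Lib.Helper12.RealN
open Cfsg.Agent.Lib.Helper12.RealM Cfsg.Agent.Lib.Helper2.Glaub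

universe u

variable {G : Type u} [Group G] [Finite G]

/-- (M6) Two `P`-invariant functions on `K ⊴ G` that are `G`-conjugate are `N_G(P)`-conjugate. -/
theorem conj_normalizer_of_inv (p : ℕ) [Fact p.Prime] (K : Subgroup G) [hK : K.Normal]
    (P : Sylow p G) (θ θ' : ↥K → ℂ) (hθ : InvUnder K (P : Subgroup G) θ)
    (hθ' : InvUnder K (P : Subgroup G) θ') (g : G) (hg : CB K g θ θ') :
    ∃ n ∈ NP P, CB K n θ θ' := by
  have hnorm : ∀ S : Subgroup G, S ≤ Subgroup.normalizer (K : Set G) := by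
    intro S x _
    rw [Subgroup.normalizer_eq_top]
    exact Subgroup.mem_top x
  have hP : (P : Subgroup G) ≤ invSub K θ' := (invUnder_iff_le_invSub (hnorm _) θ').mp hθ'
  have hQ : ((g • P : Sylow p G) : Subgroup G) ≤ invSub K θ' := by
    intro t ht
    rw [Sylow.coe_subgroup_smul, Subgroup.mem_smul_pointwise_iff_exists] at ht
    obtain ⟨x, hx, rfl⟩ := ht
    refine ⟨hnorm ⊤ (Subgroup.mem_top _), ?_⟩
    intro k k' hk
    rw [MulAut.smul_def, MulAut.conj_apply] at hk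
    -- `k₀ = g⁻¹ k g`, `k₁ = x k₀ x⁻¹`
    have hm0 : g⁻¹ * (k : G) * g ∈ K := by
      have := hK.conj_mem (k : G) k.2 g⁻¹
      simpa using this
    have hm1 : x * (g⁻¹ * (k : G) * g) * x⁻¹ ∈ K := hK.conj_mem _ hm0 x
    have e0 : θ' k = θ ⟨_, hm0⟩ := hg ⟨_, hm0⟩ k (by simp [mul_assoc])
    have e1 : θ' k' = θ ⟨_, hm1⟩ := hg ⟨_, hm1⟩ k' (by rw [hk]; simp [mul_assoc])
    have e2 : θ ⟨_, hm1⟩ = θ ⟨_, hm0⟩ := hθ x hx ⟨_, hm0⟩ ⟨_, hm1⟩ rfl
    rw [e1, e2, e0]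
  obtain ⟨h, hh⟩ := MulAction.exists_smul_eq ↥(invSub K θ')
    ((g • P : Sylow p G).subtype hQ) (P.subtype hP)
  rw [Sylow.smul_subtype] at hh
  have hh' : h • (g • P : Sylow p G) = P := Sylow.subtype_injective hh
  have hn : ((h : G) * g) • P = P := by
    rw [mul_smul]; exact hh'
  refine ⟨(h : G) * g, Sylow.smul_eq_iff_mem_normalizer.mp hn, ?_⟩
  intro k k' hk
  have hm : g * (k : G) * g⁻¹ ∈ K := hK.conj_mem _ k.2 g
  have e1 : θ' ⟨_, hm⟩ = θ k := hg k ⟨_, hm⟩ rfl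
  have e2 : θ' k' = θ' ⟨_, hm⟩ := h.2.2 ⟨_, hm⟩ k' (by rw [hk]; simp [mul_assoc])
  rw [e2, e1]

end Cfsg.Agent.Lib.Helper22.RealM
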