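import Mathlib
import Cfsg.Prelude.Def_PLocal
import Cfsg.Agent.Lib.Helper1.PGroup

/-!
Regular `p`-groups in the sense of `Cfsg.IsRegularPGroup` (helper22).

Main results (`q = p ^ k`, `G` a finite regular `p`-group):
* `isRegularPGroup_subgroup` : regularity passes to subgroups;
* `regular_pow_eq_iff` : `a ^ q = b ^ q ↔ (a * b⁻¹) ^ q = 1`;
* `regular_mul_pow_eq_one` : `x ^ q = 1 → y ^ q = 1 → (x * y) ^ q = 1`.
-/

set_option autoImplicit false

open scoped commutatorElement

namespace Cfsg.Agent.Lib.Helper22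

universe u

theorem map_powerClosure' {G H : Type*} [Group G] [Group H] (f : G →* H) (p n : ℕ)
    (K : Subgroup G) : (Cfsg.powerClosure p n K).map f = Cfsg.powerClosure p n (K.map f) := by
  unfold Cfsg.powerClosure
  rw [MonoidHom.map_closure]
  congr 1
  ext y
  constructor
  · rintro ⟨_, ⟨x, hx, rfl⟩, rfl⟩
    exact ⟨f x, Subgroup.mem_map_of_mem f hx, map_pow f x _⟩
  · rintro ⟨_, ⟨x, hx, rfl⟩, rfl⟩
    exact ⟨x ^ (p ^ n), ⟨x, hx, rfl⟩, map_pow f x _⟩

theorem powerClosure_eq_bot {G : Type*} [Group G] (p n : ℕ) (K : Subgroup G)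
    (h : ∀ x ∈ K, x ^ (p ^ n) = 1) : Cfsg.powerClosure p n K = ⊥ := by
  unfold Cfsg.powerClosure
  rw [Subgroup.closure_eq_bot_iff]
  rintro y ⟨x, hx, rfl⟩
  exact h x hx

/-- Regularity passes to subgroups. -/
theorem isRegularPGroup_subgroup {G : Type*} [Group G] {p : ℕ} (hG : Cfsg.IsRegularPGroup p G)
    (H : Subgroup G) : Cfsg.IsRegularPGroup p H := by
  refine ⟨hG.1.to_subgroup H, ?_⟩
  intro a b n
  obtain ⟨c, hc, hab⟩ := hG.2 (a : G) (b : G) n
  have hmap : Cfsg.powerClosure p n ⁅Subgroup.closure ({(a : G), (b : G)} : Set G),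
      Subgroup.closure ({(a : G), (b : G)} : Set G)⁆ =
      (Cfsg.powerClosure p n ⁅Subgroup.closure ({a, b} : Set H),
        Subgroup.closure ({a, b} : Set H)⁆).map H.subtype := by
    rw [map_powerClosure', Subgroup.map_commutator, MonoidHom.map_closure, Set.image_pair]
    rfl
  rw [hmap] at hc
  obtain ⟨c', hc', rfl⟩ := hc
  refine ⟨c', hc', ?_⟩
  apply Subtype.ext
  simpa using hab

/-- In a regular group, if the derived subgroup of `⟨a, b⟩` has exponent dividing `p ^ k` then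
`(a b)^(p^k) = a^(p^k) b^(p^k)`. -/
theorem regular_mul_pow {G : Type*} [Group G] {p : ℕ} (hG : Cfsg.IsRegularPGroup p G) (k : ℕ)
    (a b : G)
    (h : ∀ x ∈ ⁅Subgroup.closure ({a, b} : Set G), Subgroup.closure ({a, b} : Set G)⁆,
      x ^ (p ^ k) = 1) :
    (a * b) ^ (p ^ k) = a ^ (p ^ k) * b ^ (p ^ k) := by
  obtain ⟨c, hc, hab⟩ := hG.2 a b k
  rw [powerClosure_eq_bot p k _ h, Subgroup.mem_bot] at hc
  rw [hab, hc, mul_one]

/-- If `G = ⟨u, v⟩`, `⁅u, v⁆ ^ q = 1` and the elements of `G'` with trivial `q`-th power are closed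
under multiplication, then `G'` has exponent dividing `q`. -/
theorem commutator_pow_eq_one_of_gen {G : Type*} [Group G] (q : ℕ) (u v : G)
    (hgen : Subgroup.closure ({u, v} : Set G) = ⊤) (huv : ⁅u, v⁆ ^ q = 1)
    (hC : ∀ x ∈ commutator G, ∀ y ∈ commutator G, x ^ q = 1 → y ^ q = 1 → (x * y) ^ q = 1) :
    ∀ x ∈ commutator G, x ^ q = 1 := by
  let W : Subgroup G :=
    { carrier := {x | x ∈ commutator G ∧ x ^ q = 1}
      one_mem' := ⟨one_mem _, one_pow _⟩
      mul_mem' := fun {x y} hx hy => ⟨mul_mem hx.1 hy.1, hC x hx.1 y hy.1 hx.2 hy.2⟩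
      inv_mem' := fun {x} hx => ⟨inv_mem hx.1, by rw [inv_pow, hx.2, inv_one]⟩ }
  have hWn : W.Normal := by
    refine ⟨fun x hx g => ⟨?_, ?_⟩⟩
    · exact (inferInstance : (commutator G).Normal).conj_mem x hx.1 g
    · rw [conj_pow, hx.2]; group
  have huvW : ⁅u, v⁆ ∈ W :=
    ⟨Subgroup.commutator_mem_commutator (Subgroup.mem_top u) (Subgroup.mem_top v), huv⟩
  have hcomm_uv : (QuotientGroup.mk' W u) * (QuotientGroup.mk' W v) =
      (QuotientGroup.mk' W v) * (QuotientGroup.mk' W u) := by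
    have h1 : QuotientGroup.mk' W ⁅u, v⁆ = 1 := (QuotientGroup.eq_one_iff _).2 huvW
    rw [commutatorElement_def, map_mul, map_mul, map_mul, map_inv, map_inv] at h1
    have h2 := mul_inv_eq_one.1 h1
    have h3 := mul_inv_eq_iff_eq_mul.1 h2
    exact h3
  -- every element commutes with `u` and `v` modulo `W`
  have h1 : ∀ g : G, (QuotientGroup.mk' W g) ∈
      Subgroup.centralizer ({QuotientGroup.mk' W u, QuotientGroup.mk' W v} : Set (G ⧸ W)) := by
    intro g
    have hg : g ∈ Subgroup.closure ({u, v} : Set G) := by rw [hgen]; trivial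
    have hle : Subgroup.closure ({u, v} : Set G) ≤
        (Subgroup.centralizer ({QuotientGroup.mk' W u, QuotientGroup.mk' W v} :
          Set (G ⧸ W))).comap (QuotientGroup.mk' W) := by
      rw [Subgroup.closure_le]
      intro z hz
      rw [SetLike.mem_coe, Subgroup.mem_comap, Subgroup.mem_centralizer_iff]
      intro w hw
      rcases hz with rfl | rfl <;> rcases hw with rfl | rfl
      · rfl
      · exact hcomm_uv.symm
      · exact hcomm_uv
      · rfl
    exact hle hg
  have h2 : ∀ g h : G, (QuotientGroup.mk' W g) * (QuotientGroup.mk' W h) =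
      (QuotientGroup.mk' W h) * (QuotientGroup.mk' W g) := by
    intro g h
    have hh : h ∈ Subgroup.closure ({u, v} : Set G) := by rw [hgen]; trivial
    have hle : Subgroup.closure ({u, v} : Set G) ≤
        (Subgroup.centralizer ({QuotientGroup.mk' W g} : Set (G ⧸ W))).comap
          (QuotientGroup.mk' W) := by
      rw [Subgroup.closure_le]
      intro z hz
      rw [SetLike.mem_coe, Subgroup.mem_comap, Subgroup.mem_centralizer_iff]
      intro w hw
      rw [Set.mem_singleton_iff] at hw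
      subst hw
      have h3 := Subgroup.mem_centralizer_iff.1 (h1 g)
      rcases hz with rfl | rfl
      · exact (h3 _ (Set.mem_insert _ _)).symm
      · exact (h3 _ (Set.mem_insert_of_mem _ rfl)).symm
    have h4 := Subgroup.mem_centralizer_iff.1 (hle hh) _ rfl
    exact h4
  have hle : commutator G ≤ W := by
    rw [commutator_def, Subgroup.commutator_le]
    intro g _ h _
    rw [← QuotientGroup.eq_one_iff, ← QuotientGroup.mk'_apply, commutatorElement_def, map_mul,
      map_mul, map_mul, map_inv, map_inv, h2 g h]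
    group
  intro x hx
  exact (hle hx).2

/-- Main induction: in a finite regular `p`-group, `a ^ q = b ^ q` implies `(a b⁻¹) ^ q = 1`. -/
theorem regular_pow_eq_aux (p : ℕ) [Fact p.Prime] (k : ℕ) :
    ∀ (n : ℕ) (G : Type u) [Group G] [Finite G], Nat.card G = n → Cfsg.IsRegularPGroup p G →
      ∀ a b : G, a ^ (p ^ k) = b ^ (p ^ k) → (a * b⁻¹) ^ (p ^ k) = 1 := by
  intro n
  induction n using Nat.strong_induction_on with
  | _ n ih =>
  intro G _ _ hn hG a b hab
  have hcardlt : ∀ L : Subgroup G, L ≠ ⊤ → Nat.card L < n := by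
    intro L hL
    rw [← hn]
    exact lt_of_le_of_ne (Subgroup.card_le_card_group L)
      (fun h' => hL ((Subgroup.card_eq_iff_eq_top L).mp h'))
  -- reduce to `G = ⟨a, b⟩`
  by_cases hgen : Subgroup.closure ({a, b} : Set G) = ⊤
  swap
  · have haH : a ∈ Subgroup.closure ({a, b} : Set G) := Subgroup.subset_closure (by simp)
    have hbH : b ∈ Subgroup.closure ({a, b} : Set G) := Subgroup.subset_closure (by simp)
    have h1 := ih _ (hcardlt _ hgen) (Subgroup.closure ({a, b} : Set G)) rfl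
      (isRegularPGroup_subgroup hG _) ⟨a, haH⟩ ⟨b, hbH⟩ (Subtype.ext (by simpa using hab))
    have h2 := congrArg Subtype.val h1
    simpa using h2
  -- commutative case
  by_cases hcomm : ∀ x y : G, x * y = y * x
  · have hc : Commute a b⁻¹ := hcomm a b⁻¹
    rw [hc.mul_pow, inv_pow, hab, mul_inv_cancel]
  -- noncommutative case
  have hnil : Group.IsNilpotent G := hG.1.isNilpotent
  have hnt : Nontrivial G := by
    by_contra hnt
    rw [not_nontrivial_iff_subsingleton] at hnt
    exact hcomm (fun x y => Subsingleton.elim _ _)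
  have hG'top : commutator G ≠ ⊤ := (Group.IsSolvable.commutator_lt_top_of_nontrivial G).ne
  -- C(G')
  have hC : ∀ x ∈ commutator G, ∀ y ∈ commutator G, x ^ (p ^ k) = 1 → y ^ (p ^ k) = 1 →
      (x * y) ^ (p ^ k) = 1 := by
    intro x hx y hy hxq hyq
    have h1 := ih _ (hcardlt _ hG'top) (commutator G) rfl
      (isRegularPGroup_subgroup hG _) ⟨x, hx⟩ ⟨y⁻¹, inv_mem hy⟩
      (Subtype.ext (by simp [hxq, hyq]))
    have h2 := congrArg Subtype.val h1
    simpa using h2
  -- H₁ = ⟨a⟩ G' is proper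
  have hH₁ : Subgroup.zpowers a ⊔ commutator G ≠ ⊤ := by
    intro htop
    have h1 : Subgroup.zpowers a ⊔ frattini G = ⊤ := by
      rw [eq_top_iff, ← htop]
      exact sup_le_sup_left (Cfsg.Agent.Lib.Helper1.IsPGroup.commutator_le_frattini hG.1) _
    have h2 : Subgroup.zpowers a = ⊤ := frattini_nongenerating h1
    apply hcomm
    intro x y
    have hx : x ∈ Subgroup.zpowers a := by rw [h2]; trivial
    have hy : y ∈ Subgroup.zpowers a := by rw [h2]; trivial
    obtain ⟨i, rfl⟩ := Subgroup.mem_zpowers_iff.1 hx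
    obtain ⟨j, rfl⟩ := Subgroup.mem_zpowers_iff.1 hy
    rw [← zpow_add, ← zpow_add, add_comm]
  -- the commutator ⁅a, b⁻¹⁆ has trivial q-th power
  have haH₁ : a ∈ Subgroup.zpowers a ⊔ commutator G :=
    Subgroup.mem_sup_left (Subgroup.mem_zpowers a)
  have hbab : b⁻¹ * a * b ∈ Subgroup.zpowers a ⊔ commutator G := by
    have h1 : b⁻¹ * a * b = a * ⁅a⁻¹, b⁻¹⁆ := by rw [commutatorElement_def]; group
    rw [h1]
    exact mul_mem haH₁ (Subgroup.mem_sup_right
      (Subgroup.commutator_mem_commutator (Subgroup.mem_top _) (Subgroup.mem_top _)))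
  have hpow : (b⁻¹ * a * b) ^ (p ^ k) = a ^ (p ^ k) := by
    have h1 : b⁻¹ * a * b = b⁻¹ * a * (b⁻¹)⁻¹ := by rw [inv_inv]
    rw [h1, conj_pow, hab, inv_inv]
    group
  have hkey : ⁅a, b⁻¹⁆ ^ (p ^ k) = 1 := by
    have h1 := ih _ (hcardlt _ hH₁) (Subgroup.zpowers a ⊔ commutator G : Subgroup G) rfl
      (isRegularPGroup_subgroup hG _) ⟨a, haH₁⟩ ⟨b⁻¹ * a * b, hbab⟩
      (Subtype.ext (by simpa using hpow.symm))
    have h2 := congrArg Subtype.val h1
    have h3 : a * (b⁻¹ * a * b)⁻¹ = ⁅a, b⁻¹⁆ := by rw [commutatorElement_def]; group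
    rw [← h3]
    simpa using h2
  have hgen' : Subgroup.closure ({a, b⁻¹} : Set G) = ⊤ := by
    rw [eq_top_iff, ← hgen, Subgroup.closure_le]
    intro z hz
    rcases hz with rfl | rfl
    · exact Subgroup.subset_closure (by simp)
    · have : z⁻¹ ∈ Subgroup.closure ({a, z⁻¹} : Set G) := Subgroup.subset_closure (by simp)
      simpa using inv_mem this
  have hexp := commutator_pow_eq_one_of_gen (p ^ k) a b⁻¹ hgen' hkey hC
  rw [regular_mul_pow hG k a b⁻¹ (fun x hx => hexp x (by
    rw [commutator_def]; exact Subgroup.commutator_mono le_top le_top hx)), inv_pow, hab,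
    mul_inv_cancel]

section
variable {G : Type*} [Group G] [Finite G] {p : ℕ} [Fact p.Prime]

theorem regular_pow_eq_one_of_pow_eq (hG : Cfsg.IsRegularPGroup p G) (k : ℕ) (a b : G)
    (h : a ^ (p ^ k) = b ^ (p ^ k)) : (a * b⁻¹) ^ (p ^ k) = 1 :=
  regular_pow_eq_aux p k _ G rfl hG a b h

theorem regular_mul_pow_eq_one (hG : Cfsg.IsRegularPGroup p G) (k : ℕ) (x y : G)
    (hx : x ^ (p ^ k) = 1) (hy : y ^ (p ^ k) = 1) : (x * y) ^ (p ^ k) = 1 := by
  have h := regular_pow_eq_one_of_pow_eq hG k x y⁻¹ (by rw [hx, inv_pow, hy, inv_one])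
  simpa using h

/-- the converse direction when `G = ⟨a, b⟩` -/
theorem regular_pow_eq_of_pow_eq_one_of_gen (hG : Cfsg.IsRegularPGroup p G) (k : ℕ) (a b : G)
    (hgen : Subgroup.closure ({a, b} : Set G) = ⊤)
    (h : (a * b⁻¹) ^ (p ^ k) = 1) : a ^ (p ^ k) = b ^ (p ^ k) := by
  have hgen' : Subgroup.closure ({a * b⁻¹, b} : Set G) = ⊤ := by
    rw [eq_top_iff, ← hgen, Subgroup.closure_le]
    intro z hz
    rcases hz with rfl | rfl
    · have h1 : z * b⁻¹ ∈ Subgroup.closure ({z * b⁻¹, b} : Set G) :=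
        Subgroup.subset_closure (by simp)
      have h2 : b ∈ Subgroup.closure ({z * b⁻¹, b} : Set G) := Subgroup.subset_closure (by simp)
      have h3 := mul_mem h1 h2
      simpa using h3
    · exact Subgroup.subset_closure (by simp)
  have hkey : ⁅a * b⁻¹, b⁆ ^ (p ^ k) = 1 := by
    have h1 : ⁅a * b⁻¹, b⁆ = (a * b⁻¹) * (b * (a * b⁻¹)⁻¹ * b⁻¹) := by
      rw [commutatorElement_def]; group
    rw [h1]
    apply regular_mul_pow_eq_one hG k _ _ h
    rw [conj_pow, inv_pow, h]; group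
  have hexp := commutator_pow_eq_one_of_gen (p ^ k) (a * b⁻¹) b hgen' hkey
    (fun x _ y _ hx hy => regular_mul_pow_eq_one hG k x y hx hy)
  have h2 := regular_mul_pow hG k (a * b⁻¹) b (fun x hx => hexp x (by
    rw [commutator_def]; exact Subgroup.commutator_mono le_top le_top hx))
  rw [h, one_mul, inv_mul_cancel_right] at h2
  exact h2

theorem regular_pow_eq_of_pow_eq_one (hG : Cfsg.IsRegularPGroup p G) (k : ℕ) (a b : G)
    (h : (a * b⁻¹) ^ (p ^ k) = 1) : a ^ (p ^ k) = b ^ (p ^ k) := by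
  have haH : a ∈ Subgroup.closure ({a, b} : Set G) := Subgroup.subset_closure (by simp)
  have hbH : b ∈ Subgroup.closure ({a, b} : Set G) := Subgroup.subset_closure (by simp)
  have hgen : Subgroup.closure ({⟨a, haH⟩, ⟨b, hbH⟩} : Set (Subgroup.closure ({a, b} : Set G))) =
      ⊤ := by
    have h1 := Subgroup.closure_closure_coe_preimage (k := ({a, b} : Set G))
    have h2 : ((↑) : Subgroup.closure ({a, b} : Set G) → G) ⁻¹' ({a, b} : Set G) =
        ({⟨a, haH⟩, ⟨b, hbH⟩} : Set (Subgroup.closure ({a, b} : Set G))) := by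
      ext z
      simp [Subtype.ext_iff]
    rw [h2] at h1
    exact h1
  have h3 := regular_pow_eq_of_pow_eq_one_of_gen
    (isRegularPGroup_subgroup hG (Subgroup.closure ({a, b} : Set G))) k ⟨a, haH⟩ ⟨b, hbH⟩ hgen
    (Subtype.ext (by simpa using h))
  have h4 := congrArg Subtype.val h3
  simpa using h4

/-- **P. Hall**: in a finite regular `p`-group `a ^ q = b ^ q ↔ (a b⁻¹) ^ q = 1` (`q = p ^ k`). -/
theorem regular_pow_eq_iff (hG : Cfsg.IsRegularPGroup p G) (k : ℕ) (a b : G) :
    a ^ (p ^ k) = b ^ (p ^ k) ↔ (a * b⁻¹) ^ (p ^ k) = 1 :=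
  ⟨regular_pow_eq_one_of_pow_eq hG k a b, regular_pow_eq_of_pow_eq_one hG k a b⟩

end

end Cfsg.Agent.Lib.Helper22
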