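import Mathlib
import Cfsg.Prelude.Def_PLocal
import Cfsg.Agent.Lib.Helper22.Regular

/-!
Regular `p`-groups (`Cfsg.IsRegularPGroup`), part 2 (helper22): the `p^n`-th powers of the elements
of a subgroup form a subgroup (`regular_powerClosure_eq`), and
`⁅℧_n(H), ℧_n(H)⁆ ≤ ℧_n(H')` (`regular_commutator_powerClosure_le`).
-/

set_option autoImplicit false

open scoped commutatorElement

namespace Cfsg.Agent.Lib.Helper22

universe u

theorem powerClosure_mono {G : Type*} [Group G] (p n : ℕ) {K L : Subgroup G} (h : K ≤ L) :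
    Cfsg.powerClosure p n K ≤ Cfsg.powerClosure p n L := by
  unfold Cfsg.powerClosure
  apply Subgroup.closure_mono
  rintro y ⟨x, hx, rfl⟩
  exact ⟨x, h hx, rfl⟩

theorem exists_pow_of_mem_powerClosure {G : Type*} [Group G] (p n : ℕ) (K : Subgroup G)
    (hQ : ∀ a ∈ K, ∀ b ∈ K, ∃ e ∈ K, a ^ (p ^ n) * b ^ (p ^ n) = e ^ (p ^ n)) :
    ∀ y ∈ Cfsg.powerClosure p n K, ∃ x ∈ K, y = x ^ (p ^ n) := by
  intro y hy
  unfold Cfsg.powerClosure at hy
  induction hy using Subgroup.closure_induction with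
  | mem z hz => exact hz
  | one => exact ⟨1, one_mem _, (one_pow _).symm⟩
  | mul a b _ _ ha hb =>
    obtain ⟨x, hx, rfl⟩ := ha
    obtain ⟨y, hy, rfl⟩ := hb
    obtain ⟨e, he, h⟩ := hQ x hx y hy
    exact ⟨e, he, h⟩
  | inv a _ ha =>
    obtain ⟨x, hx, rfl⟩ := ha
    exact ⟨x⁻¹, inv_mem hx, (inv_pow _ _).symm⟩

/-- Main induction: in a finite regular `p`-group a product of two `q`-th powers is a `q`-th power. -/
theorem regular_pow_mul_pow_aux (p : ℕ) [Fact p.Prime] (k : ℕ) :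
    ∀ (n : ℕ) (G : Type u) [Group G] [Finite G], Nat.card G = n → Cfsg.IsRegularPGroup p G →
      ∀ a b : G, ∃ e : G, a ^ (p ^ k) * b ^ (p ^ k) = e ^ (p ^ k) := by
  intro n
  induction n using Nat.strong_induction_on with
  | _ n ih =>
  intro G _ _ hn hG a b
  have hcardlt : ∀ L : Subgroup G, L ≠ ⊤ → Nat.card L < n := by
    intro L hL
    rw [← hn]
    exact lt_of_le_of_ne (Subgroup.card_le_card_group L)
      (fun h' => hL ((Subgroup.card_eq_iff_eq_top L).mp h'))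
  have ihsub : ∀ L : Subgroup G, L ≠ ⊤ → ∀ x ∈ L, ∀ y ∈ L,
      ∃ e ∈ L, x ^ (p ^ k) * y ^ (p ^ k) = e ^ (p ^ k) := by
    intro L hL x hx y hy
    obtain ⟨e, he⟩ := ih _ (hcardlt L hL) L rfl (isRegularPGroup_subgroup hG L) ⟨x, hx⟩ ⟨y, hy⟩
    refine ⟨e, e.2, ?_⟩
    have h2 := congrArg Subtype.val he
    simpa using h2
  by_cases hgen : Subgroup.closure ({a, b} : Set G) = ⊤
  swap
  · have haH : a ∈ Subgroup.closure ({a, b} : Set G) := Subgroup.subset_closure (by simp)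
    have hbH : b ∈ Subgroup.closure ({a, b} : Set G) := Subgroup.subset_closure (by simp)
    obtain ⟨e, _, he⟩ := ihsub _ hgen a haH b hbH
    exact ⟨e, he⟩
  by_cases hcomm : ∀ x y : G, x * y = y * x
  · have hc : Commute a b := hcomm a b
    exact ⟨a * b, by rw [hc.mul_pow]⟩
  have hnil : Group.IsNilpotent G := hG.1.isNilpotent
  have hnt : Nontrivial G := by
    by_contra hnt
    rw [not_nontrivial_iff_subsingleton] at hnt
    exact hcomm (fun x y => Subsingleton.elim _ _)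
  have hG'top : commutator G ≠ ⊤ := (Group.IsSolvable.commutator_lt_top_of_nontrivial G).ne
  have hH₁ : Subgroup.zpowers (a * b) ⊔ commutator G ≠ ⊤ := by
    intro htop
    have h1 : Subgroup.zpowers (a * b) ⊔ frattini G = ⊤ := by
      rw [eq_top_iff, ← htop]
      exact sup_le_sup_left (Cfsg.Agent.Lib.Helper1.IsPGroup.commutator_le_frattini hG.1) _
    have h2 : Subgroup.zpowers (a * b) = ⊤ := frattini_nongenerating h1
    apply hcomm
    intro x y
    have hx : x ∈ Subgroup.zpowers (a * b) := by rw [h2]; trivial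
    have hy : y ∈ Subgroup.zpowers (a * b) := by rw [h2]; trivial
    obtain ⟨i, rfl⟩ := Subgroup.mem_zpowers_iff.1 hx
    obtain ⟨j, rfl⟩ := Subgroup.mem_zpowers_iff.1 hy
    rw [← zpow_add, ← zpow_add, add_comm]
  obtain ⟨c, hc, hab⟩ := hG.2 a b k
  rw [hgen, ← commutator_def] at hc
  obtain ⟨d, hd, hcd⟩ := exists_pow_of_mem_powerClosure p k (commutator G) (ihsub _ hG'top) c⁻¹
    (inv_mem hc)
  have h1 : a ^ (p ^ k) * b ^ (p ^ k) = (a * b) ^ (p ^ k) * d ^ (p ^ k) := by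
    rw [hab, ← hcd]; group
  obtain ⟨e, _, he⟩ := ihsub _ hH₁ (a * b) (Subgroup.mem_sup_left (Subgroup.mem_zpowers _)) d
    (Subgroup.mem_sup_right hd)
  exact ⟨e, by rw [h1, he]⟩

section
variable {G : Type*} [Group G] [Finite G] {p : ℕ} [Fact p.Prime]

theorem regular_pow_mul_pow (hG : Cfsg.IsRegularPGroup p G) (k : ℕ) (a b : G) :
    ∃ e : G, a ^ (p ^ k) * b ^ (p ^ k) = e ^ (p ^ k) :=
  regular_pow_mul_pow_aux p k _ G rfl hG a b

/-- In a regular `p`-group the `p^n`-th powers of the elements of a subgroup `H` form the subgroup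
`℧_n(H)`. -/
theorem regular_powerClosure_eq (hG : Cfsg.IsRegularPGroup p G) (H : Subgroup G) (n : ℕ) :
    {y : G | ∃ x ∈ H, y = x ^ (p ^ n)} = (Cfsg.powerClosure p n H : Set G) := by
  apply Set.Subset.antisymm
  · rintro y ⟨x, hx, rfl⟩
    exact Subgroup.subset_closure ⟨x, hx, rfl⟩
  · intro y hy
    refine exists_pow_of_mem_powerClosure p n H (fun a ha b hb => ?_) y hy
    obtain ⟨e, he⟩ := regular_pow_mul_pow (isRegularPGroup_subgroup hG H) n ⟨a, ha⟩ ⟨b, hb⟩
    refine ⟨e, e.2, ?_⟩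
    have h2 := congrArg Subtype.val he
    simpa using h2

/-- Regularity passes to quotients. -/
theorem isRegularPGroup_quotient {G : Type*} [Group G] {p : ℕ} (hG : Cfsg.IsRegularPGroup p G)
    (N : Subgroup G) [N.Normal] : Cfsg.IsRegularPGroup p (G ⧸ N) := by
  refine ⟨hG.1.to_quotient N, ?_⟩
  intro a b n
  obtain ⟨a, rfl⟩ := QuotientGroup.mk_surjective a
  obtain ⟨b, rfl⟩ := QuotientGroup.mk_surjective b
  obtain ⟨c, hc, hab⟩ := hG.2 a b n
  refine ⟨QuotientGroup.mk' N c, ?_, ?_⟩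
  · have h1 := Subgroup.mem_map_of_mem (QuotientGroup.mk' N) hc
    rw [map_powerClosure', Subgroup.map_commutator, MonoidHom.map_closure, Set.image_pair] at h1
    exact h1
  · have := congrArg (QuotientGroup.mk' N) hab
    simpa using this

theorem powerClosure_commutator_normal (G : Type*) [Group G] (p n : ℕ) :
    (Cfsg.powerClosure p n (commutator G)).Normal := by
  have hchar : (Cfsg.powerClosure p n (commutator G)).Characteristic := by
    rw [Subgroup.characteristic_iff_map_le]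
    intro ϕ
    rw [map_powerClosure']
    apply powerClosure_mono
    rw [commutator_def, Subgroup.map_commutator]
    exact Subgroup.commutator_mono le_top le_top
  exact Subgroup.normal_of_characteristic _

/-- In a finite regular `p`-group `⁅a^q, b^q⁆ ∈ ℧_n(G')`. -/
theorem regular_commutator_pow_mem (hG : Cfsg.IsRegularPGroup p G) (n : ℕ) (a b : G) :
    ⁅a ^ (p ^ n), b ^ (p ^ n)⁆ ∈ Cfsg.powerClosure p n (commutator G) := by
  have hN : (Cfsg.powerClosure p n (commutator G)).Normal := powerClosure_commutator_normal G p n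
  have hQ : Cfsg.IsRegularPGroup p (G ⧸ Cfsg.powerClosure p n (commutator G)) :=
    isRegularPGroup_quotient hG _
  -- key: b⁻¹ a^q b (a^q)⁻¹ ∈ N for all a b
  have key : ∀ a b : G, b⁻¹ * a ^ (p ^ n) * b * (a ^ (p ^ n))⁻¹ ∈
      Cfsg.powerClosure p n (commutator G) := by
    intro a b
    have h1 : (b⁻¹ * a * b * a⁻¹) ^ (p ^ n) ∈ Cfsg.powerClosure p n (commutator G) := by
      apply Subgroup.subset_closure
      refine ⟨b⁻¹ * a * b * a⁻¹, ?_, rfl⟩
      have : b⁻¹ * a * b * a⁻¹ = ⁅b⁻¹, a⁆ := by rw [commutatorElement_def]; group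
      rw [this]
      exact Subgroup.commutator_mem_commutator (Subgroup.mem_top _) (Subgroup.mem_top _)
    have h2 : ((QuotientGroup.mk' (Cfsg.powerClosure p n (commutator G)) (b⁻¹ * a * b)) *
        (QuotientGroup.mk' (Cfsg.powerClosure p n (commutator G)) a)⁻¹) ^ (p ^ n) = 1 := by
      rw [← map_inv, ← map_mul, ← map_pow]
      exact (QuotientGroup.eq_one_iff _).2 h1
    have h3 := (regular_pow_eq_iff hQ n _ _).2 h2
    rw [← map_pow, ← map_pow] at h3
    have h4 : (b⁻¹ * a * b) ^ (p ^ n) = b⁻¹ * a ^ (p ^ n) * b := by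
      have : b⁻¹ * a * b = b⁻¹ * a * (b⁻¹)⁻¹ := by rw [inv_inv]
      rw [this, conj_pow, inv_inv]
    rw [h4] at h3
    have h5 := (QuotientGroup.eq (s := Cfsg.powerClosure p n (commutator G))).1 h3.symm
    -- h5 : (a^q)⁻¹ * (b⁻¹ a^q b) ∈ N ; conjugate
    have h6 : b⁻¹ * a ^ (p ^ n) * b * (a ^ (p ^ n))⁻¹ =
        (a ^ (p ^ n)) * ((a ^ (p ^ n))⁻¹ * (b⁻¹ * a ^ (p ^ n) * b)) * (a ^ (p ^ n))⁻¹ := by group
    rw [h6]
    exact hN.conj_mem _ h5 _
  have h1 := key a ((b ^ (p ^ n))⁻¹)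
  rw [inv_inv] at h1
  have h2 : ⁅a ^ (p ^ n), b ^ (p ^ n)⁆ =
      ((b ^ (p ^ n)) * (a ^ (p ^ n)) * (b ^ (p ^ n))⁻¹ * (a ^ (p ^ n))⁻¹)⁻¹ := by
    rw [commutatorElement_def]; group
  rw [h2]
  exact inv_mem h1

/-- In a finite regular `p`-group `⁅℧_n(H), ℧_n(H)⁆ ≤ ℧_n(H')`. -/
theorem regular_commutator_powerClosure_le (hG : Cfsg.IsRegularPGroup p G) (H : Subgroup G)
    (n : ℕ) :
    ⁅Cfsg.powerClosure p n H, Cfsg.powerClosure p n H⁆ ≤ Cfsg.powerClosure p n ⁅H, H⁆ := by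
  rw [Subgroup.commutator_le]
  intro g₁ hg₁ g₂ hg₂
  have hset := regular_powerClosure_eq hG H n
  have h1 : g₁ ∈ {y : G | ∃ x ∈ H, y = x ^ (p ^ n)} := by rw [hset]; exact hg₁
  have h2 : g₂ ∈ {y : G | ∃ x ∈ H, y = x ^ (p ^ n)} := by rw [hset]; exact hg₂
  obtain ⟨a, ha, rfl⟩ := h1
  obtain ⟨b, hb, rfl⟩ := h2
  have h3 := regular_commutator_pow_mem (isRegularPGroup_subgroup hG H) n ⟨a, ha⟩ ⟨b, hb⟩
  have h4 := Subgroup.mem_map_of_mem H.subtype h3
  rw [map_powerClosure', Subgroup.map_subtype_commutator] at h4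
  simpa using h4

end

end Cfsg.Agent.Lib.Helper22
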