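import Mathlib
import Cfsg.Prelude.Def_PLocal
import Cfsg.Agent.Lib.Helper22.Regular
import Cfsg.Agent.Lib.Helper22.RegularAgemo

/-!
Regularity of a `p`-group at a fixed level `k` (helper22): `IsRegAt p k G`.  `Cfsg.IsRegularPGroup p G`
is `∀ k, IsRegAt p k G`.  All the lemmas of `Regular.lean` / `RegularAgemo.lean` at the exponent
`p ^ k` only use level `k`; this file restates them in that generality (namespace
`Cfsg.Agent.Lib.Helper22.RegAt`) and proves P. Hall's theorem that level `1` implies every level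
(`isRegAt_of_one`), hence Kemhadze's criterion.
-/

set_option autoImplicit false

open scoped commutatorElement

namespace Cfsg.Agent.Lib.Helper22.RegAt

universe u

/-- regularity at the fixed level `k` -/
def IsRegAt (p k : ℕ) (G : Type*) [Group G] : Prop :=
  IsPGroup p G ∧ ∀ a b : G,
    ∃ c ∈ Cfsg.powerClosure p k ⁅Subgroup.closure ({a, b} : Set G),
        Subgroup.closure ({a, b} : Set G)⁆,
      (a * b) ^ (p ^ k) = a ^ (p ^ k) * b ^ (p ^ k) * c

theorem isRegularPGroup_iff {p : ℕ} {G : Type*} [Group G] :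
    Cfsg.IsRegularPGroup p G ↔ ∀ k, IsRegAt p k G := by
  constructor
  · intro h k
    exact ⟨h.1, fun a b => h.2 a b k⟩
  · intro h
    exact ⟨(h 0).1, fun a b n => (h n).2 a b⟩

/-- Regularity passes to subgroups. -/
theorem isRegularPGroup_subgroup {G : Type*} [Group G] {p n : ℕ} (hG : IsRegAt p n G)
    (H : Subgroup G) : IsRegAt p n H := by
  refine ⟨hG.1.to_subgroup H, ?_⟩
  intro a b
  obtain ⟨c, hc, hab⟩ := hG.2 (a : G) (b : G)
  have hmap : Cfsg.powerClosure p n ⁅Subgroup.closure ({(a : G), (b : G)} : Set G),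
      Subgroup.closure ({(a : G), (b : G)} : Set G)⁆ =
      (Cfsg.powerClosure p n ⁅Subgroup.closure ({a, b} : Set H),
        Subgroup.closure ({a, b} : Set H)⁆).map H.subtype := by
    rw [map_powerClosure', Subgroup.map_commutator, MonoidHom.map_closure, Set.image_pair]
    rfl
  rw [hmap] at hc
  obtain ⟨c', hc', rfl⟩ := hc
  refine ⟨c', hc', ?_⟩
  apply Subtype.ext
  simpa using hab

/-- In a regular group, if the derived subgroup of `⟨a, b⟩` has exponent dividing `p ^ k` then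
`(a b)^(p^k) = a^(p^k) b^(p^k)`. -/
theorem regular_mul_pow {G : Type*} [Group G] {p : ℕ} (k : ℕ) (hG : IsRegAt p k G)
    (a b : G)
    (h : ∀ x ∈ ⁅Subgroup.closure ({a, b} : Set G), Subgroup.closure ({a, b} : Set G)⁆,
      x ^ (p ^ k) = 1) :
    (a * b) ^ (p ^ k) = a ^ (p ^ k) * b ^ (p ^ k) := by
  obtain ⟨c, hc, hab⟩ := hG.2 a b
  rw [powerClosure_eq_bot p k _ h, Subgroup.mem_bot] at hc
  rw [hab, hc, mul_one]

/-- Main induction: in a finite regular `p`-group, `a ^ q = b ^ q` implies `(a b⁻¹) ^ q = 1`. -/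
theorem regular_pow_eq_aux (p : ℕ) [Fact p.Prime] (k : ℕ) :
    ∀ (n : ℕ) (G : Type u) [Group G] [Finite G], Nat.card G = n → IsRegAt p k G →
      ∀ a b : G, a ^ (p ^ k) = b ^ (p ^ k) → (a * b⁻¹) ^ (p ^ k) = 1 := by
  intro n
  induction n using Nat.strong_induction_on with
  | _ n ih =>
  intro G _ _ hn hG a b hab
  have hcardlt : ∀ L : Subgroup G, L ≠ ⊤ → Nat.card L < n := by
    intro L hL
    rw [← hn]
    exact lt_of_le_of_ne (Subgroup.card_le_card_group L)
      (fun h' => hL ((Subgroup.card_eq_iff_eq_top L).mp h'))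
  -- reduce to `G = ⟨a, b⟩`
  by_cases hgen : Subgroup.closure ({a, b} : Set G) = ⊤
  swap
  · have haH : a ∈ Subgroup.closure ({a, b} : Set G) := Subgroup.subset_closure (by simp)
    have hbH : b ∈ Subgroup.closure ({a, b} : Set G) := Subgroup.subset_closure (by simp)
    have h1 := ih _ (hcardlt _ hgen) (Subgroup.closure ({a, b} : Set G)) rfl
      (isRegularPGroup_subgroup hG _) ⟨a, haH⟩ ⟨b, hbH⟩ (Subtype.ext (by simpa using hab))
    have h2 := congrArg Subtype.val h1
    simpa using h2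
  -- commutative case
  by_cases hcomm : ∀ x y : G, x * y = y * x
  · have hc : Commute a b⁻¹ := hcomm a b⁻¹
    rw [hc.mul_pow, inv_pow, hab, mul_inv_cancel]
  -- noncommutative case
  have hnil : Group.IsNilpotent G := hG.1.isNilpotent
  have hnt : Nontrivial G := by
    by_contra hnt
    rw [not_nontrivial_iff_subsingleton] at hnt
    exact hcomm (fun x y => Subsingleton.elim _ _)
  have hG'top : commutator G ≠ ⊤ := (Group.IsSolvable.commutator_lt_top_of_nontrivial G).ne
  -- C(G')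
  have hC : ∀ x ∈ commutator G, ∀ y ∈ commutator G, x ^ (p ^ k) = 1 → y ^ (p ^ k) = 1 →
      (x * y) ^ (p ^ k) = 1 := by
    intro x hx y hy hxq hyq
    have h1 := ih _ (hcardlt _ hG'top) (commutator G) rfl
      (isRegularPGroup_subgroup hG _) ⟨x, hx⟩ ⟨y⁻¹, inv_mem hy⟩
      (Subtype.ext (by simp [hxq, hyq]))
    have h2 := congrArg Subtype.val h1
    simpa using h2
  -- H₁ = ⟨a⟩ G' is proper
  have hH₁ : Subgroup.zpowers a ⊔ commutator G ≠ ⊤ := by
    intro htop
    have h1 : Subgroup.zpowers a ⊔ frattini G = ⊤ := by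
      rw [eq_top_iff, ← htop]
      exact sup_le_sup_left (Cfsg.Agent.Lib.Helper1.IsPGroup.commutator_le_frattini hG.1) _
    have h2 : Subgroup.zpowers a = ⊤ := frattini_nongenerating h1
    apply hcomm
    intro x y
    have hx : x ∈ Subgroup.zpowers a := by rw [h2]; trivial
    have hy : y ∈ Subgroup.zpowers a := by rw [h2]; trivial
    obtain ⟨i, rfl⟩ := Subgroup.mem_zpowers_iff.1 hx
    obtain ⟨j, rfl⟩ := Subgroup.mem_zpowers_iff.1 hy
    rw [← zpow_add, ← zpow_add, add_comm]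
  -- the commutator ⁅a, b⁻¹⁆ has trivial q-th power
  have haH₁ : a ∈ Subgroup.zpowers a ⊔ commutator G :=
    Subgroup.mem_sup_left (Subgroup.mem_zpowers a)
  have hbab : b⁻¹ * a * b ∈ Subgroup.zpowers a ⊔ commutator G := by
    have h1 : b⁻¹ * a * b = a * ⁅a⁻¹, b⁻¹⁆ := by rw [commutatorElement_def]; group
    rw [h1]
    exact mul_mem haH₁ (Subgroup.mem_sup_right
      (Subgroup.commutator_mem_commutator (Subgroup.mem_top _) (Subgroup.mem_top _)))
  have hpow : (b⁻¹ * a * b) ^ (p ^ k) = a ^ (p ^ k) := by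
    have h1 : b⁻¹ * a * b = b⁻¹ * a * (b⁻¹)⁻¹ := by rw [inv_inv]
    rw [h1, conj_pow, hab, inv_inv]
    group
  have hkey : ⁅a, b⁻¹⁆ ^ (p ^ k) = 1 := by
    have h1 := ih _ (hcardlt _ hH₁) (Subgroup.zpowers a ⊔ commutator G : Subgroup G) rfl
      (isRegularPGroup_subgroup hG _) ⟨a, haH₁⟩ ⟨b⁻¹ * a * b, hbab⟩
      (Subtype.ext (by simpa using hpow.symm))
    have h2 := congrArg Subtype.val h1
    have h3 : a * (b⁻¹ * a * b)⁻¹ = ⁅a, b⁻¹⁆ := by rw [commutatorElement_def]; group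
    rw [← h3]
    simpa using h2
  have hgen' : Subgroup.closure ({a, b⁻¹} : Set G) = ⊤ := by
    rw [eq_top_iff, ← hgen, Subgroup.closure_le]
    intro z hz
    rcases hz with rfl | rfl
    · exact Subgroup.subset_closure (by simp)
    · have : z⁻¹ ∈ Subgroup.closure ({a, z⁻¹} : Set G) := Subgroup.subset_closure (by simp)
      simpa using inv_mem this
  have hexp := commutator_pow_eq_one_of_gen (p ^ k) a b⁻¹ hgen' hkey hC
  rw [regular_mul_pow k hG a b⁻¹ (fun x hx => hexp x (by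
    rw [commutator_def]; exact Subgroup.commutator_mono le_top le_top hx)), inv_pow, hab,
    mul_inv_cancel]

section
variable {G : Type*} [Group G] [Finite G] {p : ℕ} [Fact p.Prime]

theorem regular_pow_eq_one_of_pow_eq (k : ℕ) (hG : IsRegAt p k G) (a b : G)
    (h : a ^ (p ^ k) = b ^ (p ^ k)) : (a * b⁻¹) ^ (p ^ k) = 1 :=
  regular_pow_eq_aux p k _ G rfl hG a b h

theorem regular_mul_pow_eq_one (k : ℕ) (hG : IsRegAt p k G) (x y : G)
    (hx : x ^ (p ^ k) = 1) (hy : y ^ (p ^ k) = 1) : (x * y) ^ (p ^ k) = 1 := by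
  have h := regular_pow_eq_one_of_pow_eq k hG x y⁻¹ (by rw [hx, inv_pow, hy, inv_one])
  simpa using h

/-- the converse direction when `G = ⟨a, b⟩` -/
theorem regular_pow_eq_of_pow_eq_one_of_gen (k : ℕ) (hG : IsRegAt p k G) (a b : G)
    (hgen : Subgroup.closure ({a, b} : Set G) = ⊤)
    (h : (a * b⁻¹) ^ (p ^ k) = 1) : a ^ (p ^ k) = b ^ (p ^ k) := by
  have hgen' : Subgroup.closure ({a * b⁻¹, b} : Set G) = ⊤ := by
    rw [eq_top_iff, ← hgen, Subgroup.closure_le]
    intro z hz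
    rcases hz with rfl | rfl
    · have h1 : z * b⁻¹ ∈ Subgroup.closure ({z * b⁻¹, b} : Set G) :=
        Subgroup.subset_closure (by simp)
      have h2 : b ∈ Subgroup.closure ({z * b⁻¹, b} : Set G) := Subgroup.subset_closure (by simp)
      have h3 := mul_mem h1 h2
      simpa using h3
    · exact Subgroup.subset_closure (by simp)
  have hkey : ⁅a * b⁻¹, b⁆ ^ (p ^ k) = 1 := by
    have h1 : ⁅a * b⁻¹, b⁆ = (a * b⁻¹) * (b * (a * b⁻¹)⁻¹ * b⁻¹) := by
      rw [commutatorElement_def]; group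
    rw [h1]
    apply regular_mul_pow_eq_one k hG _ _ h
    rw [conj_pow, inv_pow, h]; group
  have hexp := commutator_pow_eq_one_of_gen (p ^ k) (a * b⁻¹) b hgen' hkey
    (fun x _ y _ hx hy => regular_mul_pow_eq_one k hG x y hx hy)
  have h2 := regular_mul_pow k hG (a * b⁻¹) b (fun x hx => hexp x (by
    rw [commutator_def]; exact Subgroup.commutator_mono le_top le_top hx))
  rw [h, one_mul, inv_mul_cancel_right] at h2
  exact h2

theorem regular_pow_eq_of_pow_eq_one (k : ℕ) (hG : IsRegAt p k G) (a b : G)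
    (h : (a * b⁻¹) ^ (p ^ k) = 1) : a ^ (p ^ k) = b ^ (p ^ k) := by
  have haH : a ∈ Subgroup.closure ({a, b} : Set G) := Subgroup.subset_closure (by simp)
  have hbH : b ∈ Subgroup.closure ({a, b} : Set G) := Subgroup.subset_closure (by simp)
  have hgen : Subgroup.closure ({⟨a, haH⟩, ⟨b, hbH⟩} : Set (Subgroup.closure ({a, b} : Set G))) =
      ⊤ := by
    have h1 := Subgroup.closure_closure_coe_preimage (k := ({a, b} : Set G))
    have h2 : ((↑) : Subgroup.closure ({a, b} : Set G) → G) ⁻¹' ({a, b} : Set G) =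
        ({⟨a, haH⟩, ⟨b, hbH⟩} : Set (Subgroup.closure ({a, b} : Set G))) := by
      ext z
      simp [Subtype.ext_iff]
    rw [h2] at h1
    exact h1
  have h3 := regular_pow_eq_of_pow_eq_one_of_gen k
    (isRegularPGroup_subgroup hG (Subgroup.closure ({a, b} : Set G))) ⟨a, haH⟩ ⟨b, hbH⟩ hgen
    (Subtype.ext (by simpa using h))
  have h4 := congrArg Subtype.val h3
  simpa using h4

/-- **P. Hall**: in a finite regular `p`-group `a ^ q = b ^ q ↔ (a b⁻¹) ^ q = 1` (`q = p ^ k`). -/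
theorem regular_pow_eq_iff (k : ℕ) (hG : IsRegAt p k G) (a b : G) :
    a ^ (p ^ k) = b ^ (p ^ k) ↔ (a * b⁻¹) ^ (p ^ k) = 1 :=
  ⟨regular_pow_eq_one_of_pow_eq k hG a b, regular_pow_eq_of_pow_eq_one k hG a b⟩

end

/-- Main induction: in a finite regular `p`-group a product of two `q`-th powers is a `q`-th power. -/
theorem regular_pow_mul_pow_aux (p : ℕ) [Fact p.Prime] (k : ℕ) :
    ∀ (n : ℕ) (G : Type u) [Group G] [Finite G], Nat.card G = n → IsRegAt p k G →
      ∀ a b : G, ∃ e : G, a ^ (p ^ k) * b ^ (p ^ k) = e ^ (p ^ k) := by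
  intro n
  induction n using Nat.strong_induction_on with
  | _ n ih =>
  intro G _ _ hn hG a b
  have hcardlt : ∀ L : Subgroup G, L ≠ ⊤ → Nat.card L < n := by
    intro L hL
    rw [← hn]
    exact lt_of_le_of_ne (Subgroup.card_le_card_group L)
      (fun h' => hL ((Subgroup.card_eq_iff_eq_top L).mp h'))
  have ihsub : ∀ L : Subgroup G, L ≠ ⊤ → ∀ x ∈ L, ∀ y ∈ L,
      ∃ e ∈ L, x ^ (p ^ k) * y ^ (p ^ k) = e ^ (p ^ k) := by
    intro L hL x hx y hy
    obtain ⟨e, he⟩ := ih _ (hcardlt L hL) L rfl (isRegularPGroup_subgroup hG L) ⟨x, hx⟩ ⟨y, hy⟩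
    refine ⟨e, e.2, ?_⟩
    have h2 := congrArg Subtype.val he
    simpa using h2
  by_cases hgen : Subgroup.closure ({a, b} : Set G) = ⊤
  swap
  · have haH : a ∈ Subgroup.closure ({a, b} : Set G) := Subgroup.subset_closure (by simp)
    have hbH : b ∈ Subgroup.closure ({a, b} : Set G) := Subgroup.subset_closure (by simp)
    obtain ⟨e, _, he⟩ := ihsub _ hgen a haH b hbH
    exact ⟨e, he⟩
  by_cases hcomm : ∀ x y : G, x * y = y * x
  · have hc : Commute a b := hcomm a b
    exact ⟨a * b, by rw [hc.mul_pow]⟩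
  have hnil : Group.IsNilpotent G := hG.1.isNilpotent
  have hnt : Nontrivial G := by
    by_contra hnt
    rw [not_nontrivial_iff_subsingleton] at hnt
    exact hcomm (fun x y => Subsingleton.elim _ _)
  have hG'top : commutator G ≠ ⊤ := (Group.IsSolvable.commutator_lt_top_of_nontrivial G).ne
  have hH₁ : Subgroup.zpowers (a * b) ⊔ commutator G ≠ ⊤ := by
    intro htop
    have h1 : Subgroup.zpowers (a * b) ⊔ frattini G = ⊤ := by
      rw [eq_top_iff, ← htop]
      exact sup_le_sup_left (Cfsg.Agent.Lib.Helper1.IsPGroup.commutator_le_frattini hG.1) _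
    have h2 : Subgroup.zpowers (a * b) = ⊤ := frattini_nongenerating h1
    apply hcomm
    intro x y
    have hx : x ∈ Subgroup.zpowers (a * b) := by rw [h2]; trivial
    have hy : y ∈ Subgroup.zpowers (a * b) := by rw [h2]; trivial
    obtain ⟨i, rfl⟩ := Subgroup.mem_zpowers_iff.1 hx
    obtain ⟨j, rfl⟩ := Subgroup.mem_zpowers_iff.1 hy
    rw [← zpow_add, ← zpow_add, add_comm]
  obtain ⟨c, hc, hab⟩ := hG.2 a b
  rw [hgen, ← commutator_def] at hc
  obtain ⟨d, hd, hcd⟩ := exists_pow_of_mem_powerClosure p k (commutator G) (ihsub _ hG'top) c⁻¹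
    (inv_mem hc)
  have h1 : a ^ (p ^ k) * b ^ (p ^ k) = (a * b) ^ (p ^ k) * d ^ (p ^ k) := by
    rw [hab, ← hcd]; group
  obtain ⟨e, _, he⟩ := ihsub _ hH₁ (a * b) (Subgroup.mem_sup_left (Subgroup.mem_zpowers _)) d
    (Subgroup.mem_sup_right hd)
  exact ⟨e, by rw [h1, he]⟩

section
variable {G : Type*} [Group G] [Finite G] {p : ℕ} [Fact p.Prime]

theorem regular_pow_mul_pow (k : ℕ) (hG : IsRegAt p k G) (a b : G) :
    ∃ e : G, a ^ (p ^ k) * b ^ (p ^ k) = e ^ (p ^ k) :=
  regular_pow_mul_pow_aux p k _ G rfl hG a b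

/-- In a regular `p`-group the `p^n`-th powers of the elements of a subgroup `H` form the subgroup
`℧_n(H)`. -/
theorem regular_powerClosure_eq (n : ℕ) (hG : IsRegAt p n G) (H : Subgroup G) :
    {y : G | ∃ x ∈ H, y = x ^ (p ^ n)} = (Cfsg.powerClosure p n H : Set G) := by
  apply Set.Subset.antisymm
  · rintro y ⟨x, hx, rfl⟩
    exact Subgroup.subset_closure ⟨x, hx, rfl⟩
  · intro y hy
    refine exists_pow_of_mem_powerClosure p n H (fun a ha b hb => ?_) y hy
    obtain ⟨e, he⟩ := regular_pow_mul_pow n (isRegularPGroup_subgroup hG H) ⟨a, ha⟩ ⟨b, hb⟩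
    refine ⟨e, e.2, ?_⟩
    have h2 := congrArg Subtype.val he
    simpa using h2

/-- Regularity passes to quotients. -/
theorem isRegularPGroup_quotient {G : Type*} [Group G] {p n : ℕ} (hG : IsRegAt p n G)
    (N : Subgroup G) [N.Normal] : IsRegAt p n (G ⧸ N) := by
  refine ⟨hG.1.to_quotient N, ?_⟩
  intro a b
  obtain ⟨a, rfl⟩ := QuotientGroup.mk_surjective a
  obtain ⟨b, rfl⟩ := QuotientGroup.mk_surjective b
  obtain ⟨c, hc, hab⟩ := hG.2 a b
  refine ⟨QuotientGroup.mk' N c, ?_, ?_⟩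
  · have h1 := Subgroup.mem_map_of_mem (QuotientGroup.mk' N) hc
    rw [map_powerClosure', Subgroup.map_commutator, MonoidHom.map_closure, Set.image_pair] at h1
    exact h1
  · have := congrArg (QuotientGroup.mk' N) hab
    simpa using this

/-- In a finite regular `p`-group `⁅a^q, b^q⁆ ∈ ℧_n(G')`. -/
theorem regular_commutator_pow_mem (n : ℕ) (hG : IsRegAt p n G) (a b : G) :
    ⁅a ^ (p ^ n), b ^ (p ^ n)⁆ ∈ Cfsg.powerClosure p n (commutator G) := by
  have hN : (Cfsg.powerClosure p n (commutator G)).Normal := powerClosure_commutator_normal G p n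
  have hQ : IsRegAt p n (G ⧸ Cfsg.powerClosure p n (commutator G)) :=
    isRegularPGroup_quotient hG _
  -- key: b⁻¹ a^q b (a^q)⁻¹ ∈ N for all a b
  have key : ∀ a b : G, b⁻¹ * a ^ (p ^ n) * b * (a ^ (p ^ n))⁻¹ ∈
      Cfsg.powerClosure p n (commutator G) := by
    intro a b
    have h1 : (b⁻¹ * a * b * a⁻¹) ^ (p ^ n) ∈ Cfsg.powerClosure p n (commutator G) := by
      apply Subgroup.subset_closure
      refine ⟨b⁻¹ * a * b * a⁻¹, ?_, rfl⟩
      have : b⁻¹ * a * b * a⁻¹ = ⁅b⁻¹, a⁆ := by rw [commutatorElement_def]; group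
      rw [this]
      exact Subgroup.commutator_mem_commutator (Subgroup.mem_top _) (Subgroup.mem_top _)
    have h2 : ((QuotientGroup.mk' (Cfsg.powerClosure p n (commutator G)) (b⁻¹ * a * b)) *
        (QuotientGroup.mk' (Cfsg.powerClosure p n (commutator G)) a)⁻¹) ^ (p ^ n) = 1 := by
      rw [← map_inv, ← map_mul, ← map_pow]
      exact (QuotientGroup.eq_one_iff _).2 h1
    have h3 := (regular_pow_eq_iff n hQ _ _).2 h2
    rw [← map_pow, ← map_pow] at h3
    have h4 : (b⁻¹ * a * b) ^ (p ^ n) = b⁻¹ * a ^ (p ^ n) * b := by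
      have : b⁻¹ * a * b = b⁻¹ * a * (b⁻¹)⁻¹ := by rw [inv_inv]
      rw [this, conj_pow, inv_inv]
    rw [h4] at h3
    have h5 := (QuotientGroup.eq (s := Cfsg.powerClosure p n (commutator G))).1 h3.symm
    -- h5 : (a^q)⁻¹ * (b⁻¹ a^q b) ∈ N ; conjugate
    have h6 : b⁻¹ * a ^ (p ^ n) * b * (a ^ (p ^ n))⁻¹ =
        (a ^ (p ^ n)) * ((a ^ (p ^ n))⁻¹ * (b⁻¹ * a ^ (p ^ n) * b)) * (a ^ (p ^ n))⁻¹ := by group
    rw [h6]
    exact hN.conj_mem _ h5 _
  have h1 := key a ((b ^ (p ^ n))⁻¹)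
  rw [inv_inv] at h1
  have h2 : ⁅a ^ (p ^ n), b ^ (p ^ n)⁆ =
      ((b ^ (p ^ n)) * (a ^ (p ^ n)) * (b ^ (p ^ n))⁻¹ * (a ^ (p ^ n))⁻¹)⁻¹ := by
    rw [commutatorElement_def]; group
  rw [h2]
  exact inv_mem h1

/-- In a finite regular `p`-group `⁅℧_n(H), ℧_n(H)⁆ ≤ ℧_n(H')`. -/
theorem regular_commutator_powerClosure_le (n : ℕ) (hG : IsRegAt p n G) (H : Subgroup G) :
    ⁅Cfsg.powerClosure p n H, Cfsg.powerClosure p n H⁆ ≤ Cfsg.powerClosure p n ⁅H, H⁆ := by
  rw [Subgroup.commutator_le]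
  intro g₁ hg₁ g₂ hg₂
  have hset := regular_powerClosure_eq n hG H
  have h1 : g₁ ∈ {y : G | ∃ x ∈ H, y = x ^ (p ^ n)} := by rw [hset]; exact hg₁
  have h2 : g₂ ∈ {y : G | ∃ x ∈ H, y = x ^ (p ^ n)} := by rw [hset]; exact hg₂
  obtain ⟨a, ha, rfl⟩ := h1
  obtain ⟨b, hb, rfl⟩ := h2
  have h3 := regular_commutator_pow_mem n (isRegularPGroup_subgroup hG H) ⟨a, ha⟩ ⟨b, hb⟩
  have h4 := Subgroup.mem_map_of_mem H.subtype h3
  rw [map_powerClosure', Subgroup.map_subtype_commutator] at h4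
  simpa using h4

end

section Hall
variable {G : Type*} [Group G] [Finite G] {p : ℕ} [Fact p.Prime]

/-- `℧_1(℧_n(K)) ≤ ℧_{n+1}(K)` when `℧_n(K)` consists of `p^n`-th powers. -/
theorem powerClosure_one_powerClosure_le (n : ℕ) (hG : IsRegAt p n G) (K : Subgroup G) :
    Cfsg.powerClosure p 1 (Cfsg.powerClosure p n K) ≤ Cfsg.powerClosure p (n + 1) K := by
  have hset := regular_powerClosure_eq n hG K
  show Subgroup.closure _ ≤ _
  rw [Subgroup.closure_le]
  rintro y ⟨z, hz, rfl⟩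
  have hz' : z ∈ {y : G | ∃ x ∈ K, y = x ^ (p ^ n)} := by rw [hset]; exact hz
  obtain ⟨e, he, rfl⟩ := hz'
  apply Subgroup.subset_closure
  exact ⟨e, he, by rw [← pow_mul, pow_one, pow_succ]⟩

/-- **P. Hall**: regularity at level `1` implies regularity at every level. -/
theorem isRegAt_of_one (h1 : IsRegAt p 1 G) : ∀ n, IsRegAt p n G := by
  intro n
  induction n with
  | zero => exact ⟨h1.1, fun a b => ⟨1, one_mem _, by simp⟩⟩
  | succ n ih =>
    rcases Nat.eq_zero_or_pos n with rfl | _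
    · exact h1
    refine ⟨h1.1, fun a b => ?_⟩
    obtain ⟨c₁, hc₁, hab⟩ := ih.2 a b
    obtain ⟨d₁, hd₁, h2⟩ := h1.2 (a ^ (p ^ n) * b ^ (p ^ n)) c₁
    obtain ⟨d₂, hd₂, h3⟩ := h1.2 (a ^ (p ^ n)) (b ^ (p ^ n))
    have haH : a ∈ Subgroup.closure ({a, b} : Set G) := Subgroup.subset_closure (by simp)
    have hbH : b ∈ Subgroup.closure ({a, b} : Set G) := Subgroup.subset_closure (by simp)
    have haq : a ^ (p ^ n) ∈ Cfsg.powerClosure p n (Subgroup.closure ({a, b} : Set G)) :=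
      Subgroup.subset_closure ⟨a, haH, rfl⟩
    have hbq : b ^ (p ^ n) ∈ Cfsg.powerClosure p n (Subgroup.closure ({a, b} : Set G)) :=
      Subgroup.subset_closure ⟨b, hbH, rfl⟩
    have hc₁H : c₁ ∈ Cfsg.powerClosure p n (Subgroup.closure ({a, b} : Set G)) :=
      powerClosure_mono p n (Subgroup.commutator_le_self _) hc₁
    -- general claim
    have claim : ∀ x ∈ Cfsg.powerClosure p n (Subgroup.closure ({a, b} : Set G)),
        ∀ y ∈ Cfsg.powerClosure p n (Subgroup.closure ({a, b} : Set G)),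
        Cfsg.powerClosure p 1 ⁅Subgroup.closure ({x, y} : Set G),
          Subgroup.closure ({x, y} : Set G)⁆ ≤
        Cfsg.powerClosure p (n + 1) ⁅Subgroup.closure ({a, b} : Set G),
          Subgroup.closure ({a, b} : Set G)⁆ := by
      intro x hx y hy
      have hle : Subgroup.closure ({x, y} : Set G) ≤
          Cfsg.powerClosure p n (Subgroup.closure ({a, b} : Set G)) := by
        rw [Subgroup.closure_le]
        intro z hz
        rcases hz with rfl | rfl
        · exact hx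
        · exact hy
      refine le_trans (powerClosure_mono p 1 ?_)
        (powerClosure_one_powerClosure_le n ih ⁅Subgroup.closure ({a, b} : Set G),
          Subgroup.closure ({a, b} : Set G)⁆)
      exact le_trans (Subgroup.commutator_mono hle hle)
        (regular_commutator_powerClosure_le n ih (Subgroup.closure ({a, b} : Set G)))
    refine ⟨d₂ * c₁ ^ p * d₁, ?_, ?_⟩
    · refine mul_mem (mul_mem (claim _ haq _ hbq hd₂) ?_) (claim _ (mul_mem haq hbq) _ hc₁H hd₁)
      have hset := regular_powerClosure_eq n ih ⁅Subgroup.closure ({a, b} : Set G),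
          Subgroup.closure ({a, b} : Set G)⁆
      have hc' : c₁ ∈ {y : G | ∃ x ∈ ⁅Subgroup.closure ({a, b} : Set G),
          Subgroup.closure ({a, b} : Set G)⁆, y = x ^ (p ^ n)} := by rw [hset]; exact hc₁
      obtain ⟨e, he, rfl⟩ := hc'
      apply Subgroup.subset_closure
      exact ⟨e, he, by rw [← pow_mul, pow_succ]⟩
    · rw [pow_one] at h2 h3
      rw [pow_succ, pow_mul, hab, h2, h3, ← pow_mul, ← pow_mul]
      group

/-- Kemhadze's criterion. -/
theorem isRegularPGroup_iff_kemhadze (hG : IsPGroup p G) :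
    Cfsg.IsRegularPGroup p G ↔ ∀ a b : G,
      ∃ c ∈ ⁅Subgroup.closure ({a, b} : Set G), Subgroup.closure ({a, b} : Set G)⁆,
        (a * b) ^ p = a ^ p * b ^ p * c ^ p := by
  constructor
  · intro h a b
    have h1 : IsRegAt p 1 G := isRegularPGroup_iff.1 h 1
    obtain ⟨c₀, hc₀, hab⟩ := h1.2 a b
    have hset := regular_powerClosure_eq 1 h1 ⁅Subgroup.closure ({a, b} : Set G),
      Subgroup.closure ({a, b} : Set G)⁆
    have hc' : c₀ ∈ {y : G | ∃ x ∈ ⁅Subgroup.closure ({a, b} : Set G),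
        Subgroup.closure ({a, b} : Set G)⁆, y = x ^ (p ^ 1)} := by rw [hset]; exact hc₀
    obtain ⟨e, he, rfl⟩ := hc'
    rw [pow_one] at hab
    exact ⟨e, he, hab⟩
  · intro h
    rw [isRegularPGroup_iff]
    apply isRegAt_of_one
    refine ⟨hG, fun a b => ?_⟩
    obtain ⟨c, hc, hab⟩ := h a b
    refine ⟨c ^ p, Subgroup.subset_closure ⟨c, hc, by rw [pow_one]⟩, ?_⟩
    rw [pow_one]
    exact hab

end Hall

end Cfsg.Agent.Lib.Helper22.RegAt
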