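import Mathlib

set_option autoImplicit false

/-! # 2×2 matrices: the centralizer of a non-scalar matrix

For S1906: the centralizer of a non-scalar `2 × 2` matrix `z` over a field is `F[z]`
(hence commutative), and the involutions commuting with a non-scalar involution `a`
are `1, -1, a, -a` when `2 ≠ 0`. -/

namespace Cfsg.Agent.Lib.Helper22.S1906Mat

open Matrix

variable {F : Type*} [Field F]

/-- Entrywise criterion for `a = x + y z`. -/
theorem eq_add_smul_of_entries (z a : Matrix (Fin 2) (Fin 2) F) (x y : F)
    (h00 : a 0 0 = x + y * z 0 0) (h01 : a 0 1 = y * z 0 1) (h10 : a 1 0 = y * z 1 0)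
    (h11 : a 1 1 = x + y * z 1 1) :
    a = x • (1 : Matrix (Fin 2) (Fin 2) F) + y • z := by
  ext i j
  fin_cases i <;> fin_cases j
  · simpa [Matrix.add_apply, Matrix.smul_apply] using h00
  · simpa [Matrix.add_apply, Matrix.smul_apply] using h01
  · simpa [Matrix.add_apply, Matrix.smul_apply] using h10
  · simpa [Matrix.add_apply, Matrix.smul_apply] using h11

/-- The centralizer of a non-scalar `2 × 2` matrix `z` is `{x + y z}`. -/
theorem exists_eq_add_smul (z a : Matrix (Fin 2) (Fin 2) F)
    (hz : ∀ c : F, z ≠ c • (1 : Matrix (Fin 2) (Fin 2) F)) (ha : z * a = a * z) :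
    ∃ x y : F, a = x • (1 : Matrix (Fin 2) (Fin 2) F) + y • z := by
  have h00 := congrFun (congrFun ha 0) 0
  have h01 := congrFun (congrFun ha 0) 1
  have h10 := congrFun (congrFun ha 1) 0
  simp only [Matrix.mul_apply, Fin.sum_univ_two] at h00 h01 h10
  by_cases hq : z 0 1 = 0
  · by_cases hr : z 1 0 = 0
    · by_cases hps : z 0 0 = z 1 1
      · exfalso
        apply hz (z 0 0)
        have := eq_add_smul_of_entries z z (z 0 0) 0 (by ring) (by rw [hq]; ring)
          (by rw [hr]; ring) (by rw [hps]; ring)
        simpa using this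
      · have hps' : z 0 0 - z 1 1 ≠ 0 := sub_ne_zero.mpr hps
        have hv : a 0 1 = 0 := by
          have : (z 0 0 - z 1 1) * a 0 1 = 0 := by
            rw [hq] at h01; linear_combination h01
          rcases mul_eq_zero.mp this with h | h
          · exact absurd h hps'
          · exact h
        have hw : a 1 0 = 0 := by
          have : (z 0 0 - z 1 1) * a 1 0 = 0 := by
            rw [hr] at h10; linear_combination -h10
          rcases mul_eq_zero.mp this with h | h
          · exact absurd h hps'
          · exact h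
        refine ⟨a 0 0 - (a 0 0 - a 1 1) / (z 0 0 - z 1 1) * z 0 0,
          (a 0 0 - a 1 1) / (z 0 0 - z 1 1), ?_⟩
        apply eq_add_smul_of_entries
        · ring
        · rw [hv, hq, mul_zero]
        · rw [hw, hr, mul_zero]
        · field_simp
          ring
    · refine ⟨a 0 0 - a 1 0 / z 1 0 * z 0 0, a 1 0 / z 1 0, ?_⟩
      have hv : a 0 1 = 0 := by
        rw [hq] at h00
        have : a 0 1 * z 1 0 = 0 := by linear_combination -h00
        rcases mul_eq_zero.mp this with h | h
        · exact h
        · exact absurd h hr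
      apply eq_add_smul_of_entries
      · ring
      · rw [hv, hq, mul_zero]
      · field_simp
      · field_simp
        linear_combination -h10
  · refine ⟨a 0 0 - a 0 1 / z 0 1 * z 0 0, a 0 1 / z 0 1, ?_⟩
    apply eq_add_smul_of_entries
    · ring
    · field_simp
    · field_simp
      linear_combination h00
    · field_simp
      linear_combination h01

/-- Two matrices commuting with a non-scalar `2 × 2` matrix commute with each other. -/
theorem mul_comm_of_commute_nonscalar (z a b : Matrix (Fin 2) (Fin 2) F)
    (hz : ∀ c : F, z ≠ c • (1 : Matrix (Fin 2) (Fin 2) F))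
    (ha : z * a = a * z) (hb : z * b = b * z) : a * b = b * a := by
  obtain ⟨x, y, rfl⟩ := exists_eq_add_smul z a hz ha
  obtain ⟨x', y', rfl⟩ := exists_eq_add_smul z b hz hb
  simp only [add_mul, mul_add, smul_mul_assoc, mul_smul_comm, one_mul, mul_one, smul_add,
    smul_smul]
  rw [mul_comm x' x, mul_comm y' x, mul_comm x' y, mul_comm y' y]
  abel

/-- An involution commuting with a non-scalar involution `a` is one of `1, -1, a, -a`
(when `2 ≠ 0`). -/
theorem involution_cases (h2 : (2 : F) ≠ 0) (a b : Matrix (Fin 2) (Fin 2) F)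
    (ha : ∀ c : F, a ≠ c • (1 : Matrix (Fin 2) (Fin 2) F)) (ha2 : a * a = 1)
    (hb2 : b * b = 1) (hab : a * b = b * a) :
    b = 1 ∨ b = -1 ∨ b = a ∨ b = -a := by
  obtain ⟨x, y, rfl⟩ := exists_eq_add_smul a b ha hab
  have hsq : (x • (1 : Matrix (Fin 2) (Fin 2) F) + y • a) * (x • 1 + y • a) =
      (x * x + y * y) • (1 : Matrix (Fin 2) (Fin 2) F) + (2 * x * y) • a := by
    simp only [add_mul, mul_add, smul_mul_assoc, mul_smul_comm, one_mul, mul_one, smul_add,
      smul_smul, ha2]
    rw [add_smul, two_mul, add_mul, add_smul, mul_comm y x]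
    abel
  rw [hsq] at hb2
  have hxy : x * y = 0 := by
    by_contra hne
    have h2xy : 2 * x * y ≠ 0 := by
      rw [mul_assoc]; exact mul_ne_zero h2 hne
    apply ha ((1 - (x * x + y * y)) / (2 * x * y))
    have : (2 * x * y) • a = (1 - (x * x + y * y)) • (1 : Matrix (Fin 2) (Fin 2) F) := by
      rw [sub_smul, one_smul, eq_sub_iff_add_eq, add_comm]; exact hb2
    calc a = (2 * x * y)⁻¹ • ((2 * x * y) • a) := by
          rw [smul_smul, inv_mul_cancel₀ h2xy, one_smul]
      _ = _ := by rw [this, smul_smul]; congr 1; field_simp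
  have h1 : x * x + y * y = 1 := by
    have h2xy : 2 * x * y = 0 := by rw [mul_assoc, hxy, mul_zero]
    rw [h2xy, zero_smul, add_zero] at hb2
    have := congrFun (congrFun hb2 0) 0
    simpa using this
  rcases mul_eq_zero.mp hxy with hx | hy
  · subst hx
    have hy2 : y * y = 1 := by simpa using h1
    rcases mul_self_eq_one_iff.mp hy2 with hy | hy
    · right; right; left; simp [hy]
    · right; right; right; simp [hy]
  · subst hy
    have hx2 : x * x = 1 := by simpa using h1
    rcases mul_self_eq_one_iff.mp hx2 with hx | hx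
    · left; simp [hx]
    · right; left; simp [hx]

/-- A scalar involution is `1` or `-1`. -/
theorem scalar_involution_cases (c : F)
    (h : (c • (1 : Matrix (Fin 2) (Fin 2) F)) * (c • 1) = 1) : c = 1 ∨ c = -1 := by
  have := congrFun (congrFun h 0) 0
  simp only [smul_mul_assoc, mul_smul_comm, one_mul, smul_smul, Matrix.smul_apply,
    Matrix.one_apply_eq, smul_eq_mul, mul_one] at this
  exact mul_self_eq_one_iff.mp this

end Cfsg.Agent.Lib.Helper22.S1906Mat
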