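import Mathlib
import Cfsg.Prelude.Def_Transfer
import Cfsg.Agent.Lib.Helper22.S1906Mat
import Cfsg.Agent.Lib.Helper11.Extremal
import Cfsg.Agent.Lib.Helper11.TwoGroupE8
import Cfsg.Agent.Lib.Helper12.Basic

set_option autoImplicit false

/-! # S1906, the group-theoretic core

`X` a finite `2`-group with an injective hom `ρ : X →* GL₂(F) × Fˣ` (`2 ≠ 0` in `F`).
If `X` is a Sylow `2`-subgroup of a group without subgroups of index `2` and `X` contains an
elementary abelian subgroup of order `8`, then `X` is abelian. -/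

namespace Cfsg.Agent.Lib.Helper22.S1906Core

open Matrix Cfsg.Agent.Lib.Helper22.S1906Mat

section Abstract

variable {X : Type*} [Group X] {F : Type*} [Field F]
  (ρ : X →* GL (Fin 2) F × Fˣ)

/-- The matrix of the `GL₂`-part. -/
def M (x : X) : Matrix (Fin 2) (Fin 2) F := ((ρ x).1 : Matrix (Fin 2) (Fin 2) F)

theorem M_mul (x y : X) : M ρ (x * y) = M ρ x * M ρ y := by
  simp [M, map_mul]

theorem M_one : M ρ (1 : X) = 1 := by
  simp [M, map_one]

theorem M_comm_of_comm {x y : X} (h : x * y = y * x) : M ρ x * M ρ y = M ρ y * M ρ x := by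
  rw [← M_mul, ← M_mul, h]

theorem M_sq {x : X} (h : x ^ 2 = 1) : M ρ x * M ρ x = 1 := by
  rw [← M_mul, ← pow_two, h, M_one]

/-- `ρ x = ρ y` as soon as the matrices and the scalar parts agree. -/
theorem rho_ext {x y : X} (h1 : M ρ x = M ρ y) (h2 : (ρ x).2 = (ρ y).2) : ρ x = ρ y :=
  Prod.ext (Units.ext h1) h2

/-- If the `GL₂`-parts of `x` and `y` commute then `x` and `y` commute. -/
theorem comm_of_M_comm (hρ : Function.Injective ρ) {x y : X}
    (h : M ρ x * M ρ y = M ρ y * M ρ x) : x * y = y * x := by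
  apply hρ
  apply rho_ext
  · rw [M_mul, M_mul, h]
  · rw [map_mul, map_mul, Prod.snd_mul, Prod.snd_mul, mul_comm]

/-- In a nonabelian `X` every central element has a scalar `GL₂`-part. -/
theorem central_scalar (hρ : Function.Injective ρ) (hna : ∃ x y : X, x * y ≠ y * x)
    {z : X} (hz : z ∈ Subgroup.center X) :
    ∃ c : F, M ρ z = c • (1 : Matrix (Fin 2) (Fin 2) F) := by
  by_contra hc
  push Not at hc
  obtain ⟨x, y, hxy⟩ := hna
  apply hxy
  apply comm_of_M_comm ρ hρ
  have hzx : z * x = x * z := (Subgroup.mem_center_iff.mp hz x).symm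
  have hzy : z * y = y * z := (Subgroup.mem_center_iff.mp hz y).symm
  exact mul_comm_of_commute_nonscalar (M ρ z) (M ρ x) (M ρ y) hc
    (M_comm_of_comm ρ hzx) (M_comm_of_comm ρ hzy)

/-- In a nonabelian `X`, a central involution with trivial scalar part has `GL₂`-part `-1`. -/
theorem central_involution_M (hρ : Function.Injective ρ) (hna : ∃ x y : X, x * y ≠ y * x)
    {z : X} (hz : z ∈ Subgroup.center X) (hz2 : z ^ 2 = 1) (hz1 : z ≠ 1) (hl : (ρ z).2 = 1) :
    M ρ z = -1 := by
  obtain ⟨c, hc⟩ := central_scalar ρ hρ hna hz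
  have hsq := M_sq ρ hz2
  rw [hc] at hsq
  rcases scalar_involution_cases c hsq with h | h
  · exfalso
    apply hz1
    apply hρ
    rw [map_one]
    have : ρ z = ρ 1 := by
      apply rho_ext
      · rw [hc, h, one_smul, M_one]
      · rw [hl, map_one, Prod.snd_one]
    rw [this, map_one]
  · rw [hc, h, neg_smul, one_smul]

/-- In a nonabelian `X` there is at most one central involution in the kernel of the
scalar part. -/
theorem central_involution_unique (hρ : Function.Injective ρ) (hna : ∃ x y : X, x * y ≠ y * x)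
    {z z' : X} (hz : z ∈ Subgroup.center X) (hz2 : z ^ 2 = 1) (hz1 : z ≠ 1) (hl : (ρ z).2 = 1)
    (hz' : z' ∈ Subgroup.center X) (hz2' : z' ^ 2 = 1) (hz1' : z' ≠ 1) (hl' : (ρ z').2 = 1) :
    z = z' := by
  apply hρ
  apply rho_ext
  · rw [central_involution_M ρ hρ hna hz hz2 hz1 hl,
      central_involution_M ρ hρ hna hz' hz2' hz1' hl']
  · rw [hl, hl']

/-- An elementary abelian subgroup of order `8` contains a nontrivial element with trivial
`GL₂`-part. -/
theorem exists_ne_one_M_eq_one [Finite X] (h2 : (2 : F) ≠ 0) (E : Subgroup X)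
    (hEc : ∀ a ∈ E, ∀ b ∈ E, a * b = b * a) (hE2 : ∀ a ∈ E, a ^ 2 = 1)
    (hE8 : Nat.card E = 8) : ∃ t ∈ E, t ≠ 1 ∧ M ρ t = 1 := by
  classical
  by_contra hno
  push Not at hno
  -- the map `e ↦ M e` is injective on `E`
  have hinj : ∀ a ∈ E, ∀ b ∈ E, M ρ a = M ρ b → a = b := by
    intro a ha b hb hab
    by_contra hne
    have hne' : a * b⁻¹ ≠ 1 := fun h => hne (mul_inv_eq_one.mp h)
    apply hno (a * b⁻¹) (E.mul_mem ha (E.inv_mem hb)) hne'
    have hbb : M ρ b * M ρ b⁻¹ = 1 := by rw [← M_mul, mul_inv_cancel, M_one]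
    rw [M_mul, hab, hbb]
  -- all images lie in `{1, -1, a, -a}` for a suitable `a`
  have hkey : ∃ a : Matrix (Fin 2) (Fin 2) F, ∀ e ∈ E,
      M ρ e ∈ ({1, -1, a, -a} : Finset (Matrix (Fin 2) (Fin 2) F)) := by
    by_cases hsc : ∀ e ∈ E, ∃ c : F, M ρ e = c • (1 : Matrix (Fin 2) (Fin 2) F)
    · refine ⟨1, fun e he => ?_⟩
      obtain ⟨c, hc⟩ := hsc e he
      have hsq := M_sq ρ (hE2 e he)
      rw [hc] at hsq
      rcases scalar_involution_cases c hsq with h | h
      · rw [hc, h, one_smul]; simp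
      · rw [hc, h, neg_smul, one_smul]; simp
    · push Not at hsc
      obtain ⟨e₀, he₀, hns⟩ := hsc
      refine ⟨M ρ e₀, fun e he => ?_⟩
      have := involution_cases h2 (M ρ e₀) (M ρ e) hns (M_sq ρ (hE2 e₀ he₀))
        (M_sq ρ (hE2 e he)) (M_comm_of_comm ρ (hEc e₀ he₀ e he))
      simp only [Finset.mem_insert, Finset.mem_singleton]
      exact this
  obtain ⟨a, ha⟩ := hkey
  let S : Finset (Matrix (Fin 2) (Fin 2) F) := {1, -1, a, -a}
  let g : E → S := fun e => ⟨M ρ e.1, ha e.1 e.2⟩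
  have hg : Function.Injective g := by
    intro e e' hee
    have : M ρ e.1 = M ρ e'.1 := congrArg Subtype.val hee
    exact Subtype.ext (hinj e.1 e.2 e'.1 e'.2 this)
  have h1 : Nat.card E ≤ Nat.card S := Nat.card_le_card_of_injective g hg
  have h2 : Nat.card S ≤ 4 := by
    rw [Nat.card_eq_fintype_card, Fintype.card_coe]
    exact Finset.card_le_four
  omega

end Abstract

section Sylow

variable {G : Type*} [Group G] [Finite G]

/-- The quotient by a subgroup equal to the kernel of a hom into the units of a field is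
cyclic. -/
theorem isCyclic_quot_of_eq_ker {Y : Type*} [Group Y] [Finite Y] {F : Type*} [Field F]
    (l : Y →* Fˣ) (N : Subgroup Y) [N.Normal] (hN : N = l.ker) : IsCyclic (Y ⧸ N) := by
  subst hN
  have : Finite l.range := Finite.of_surjective l.rangeRestrict l.rangeRestrict_surjective
  have : IsCyclic l.range := isCyclic_subgroup_units l.range
  exact (MulEquiv.isCyclic (QuotientGroup.quotientKerEquivRange l)).mpr inferInstance

/-- **Core of S1906.** -/
theorem sylow_comm_of_hom (hG : ∀ H : Subgroup G, H.index ≠ 2) (X : Sylow 2 G)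
    {F : Type*} [Field F] (h2 : (2 : F) ≠ 0)
    (ρ : ↥(X : Subgroup G) →* GL (Fin 2) F × Fˣ) (hρ : Function.Injective ρ)
    (E : Subgroup G) (hE : E ≤ (X : Subgroup G)) (hEa : Cfsg.IsElementaryAbelian 2 E)
    (hE8 : Nat.card E = 8) : IsMulCommutative (X : Subgroup G) := by
  classical
  have : Fact (Nat.Prime 2) := ⟨Nat.prime_two⟩
  by_contra hnc
  have hna : ∃ x y : ↥(X : Subgroup G), x * y ≠ y * x := by
    by_contra h
    push Not at h
    exact hnc ⟨⟨h⟩⟩
  have hres : Cfsg.pResidual 2 G = ⊤ :=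
    Cfsg.Agent.Lib.Helper11.pResidual_two_eq_top_of_no_index_two hG
  have hXp : IsPGroup 2 ↥(X : Subgroup G) := X.2
  -- the scalar part
  let l : ↥(X : Subgroup G) →* Fˣ := (MonoidHom.snd (GL (Fin 2) F) Fˣ).comp ρ
  have hl : ∀ x, l x = (ρ x).2 := fun x => rfl
  -- the element `t`
  let E' : Subgroup ↥(X : Subgroup G) := E.subgroupOf (X : Subgroup G)
  have hE'8 : Nat.card E' = 8 := by
    rw [← hE8]; exact Nat.card_congr (Subgroup.subgroupOfEquivOfLe hE).toEquiv
  have hE'c : ∀ a ∈ E', ∀ b ∈ E', a * b = b * a := by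
    intro a ha b hb
    have ha' : (a : G) ∈ E := Subgroup.mem_subgroupOf.mp ha
    have hb' : (b : G) ∈ E := Subgroup.mem_subgroupOf.mp hb
    have := hEa.1.is_comm.comm (⟨a, ha'⟩ : ↥E) ⟨b, hb'⟩
    apply Subtype.ext
    exact congrArg (fun e : ↥E => (e : G)) this
  have hE'2 : ∀ a ∈ E', a ^ 2 = 1 := by
    intro a ha
    have ha' : (a : G) ∈ E := Subgroup.mem_subgroupOf.mp ha
    apply Subtype.ext
    simpa using hEa.2 _ ha'
  obtain ⟨t, htE, ht1, htM⟩ := exists_ne_one_M_eq_one ρ h2 E' hE'c hE'2 hE'8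
  have ht2 : t ^ 2 = 1 := hE'2 t htE
  -- `l t = -1`
  have hlt : l t ≠ 1 := by
    intro h
    apply ht1
    apply hρ
    have : ρ t = ρ 1 := by
      apply rho_ext
      · rw [htM, M_one]
      · rw [← hl, h, map_one, Prod.snd_one]
    exact this
  -- `t` is central
  have htc : t ∈ Subgroup.center ↥(X : Subgroup G) := by
    rw [Subgroup.mem_center_iff]
    intro w
    apply comm_of_M_comm ρ hρ
    rw [htM, mul_one, one_mul]
  -- the subgroup `T`
  let T : Subgroup G := l.ker.map (X : Subgroup G).subtype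
  have hTS : T ≤ (X : Subgroup G) := Subgroup.map_subtype_le _
  have hTM : T.subgroupOf (X : Subgroup G) = l.ker := by
    show (l.ker.map (X : Subgroup G).subtype).subgroupOf (X : Subgroup G) = l.ker
    rw [Subgroup.subgroupOf,
      Subgroup.comap_map_eq_self_of_injective (Subgroup.subtype_injective _)]
  have hTn : (T.subgroupOf (X : Subgroup G)).Normal := by
    rw [hTM]; infer_instance
  have hcyc : IsCyclic (↥(X : Subgroup G) ⧸ T.subgroupOf (X : Subgroup G)) :=
    isCyclic_quot_of_eq_ker l _ hTM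
  have hmemT : ∀ x : ↥(X : Subgroup G), (x : G) ∈ T ↔ l x = 1 := by
    intro x
    constructor
    · rintro ⟨u, hu, hux⟩
      have : u = x := Subtype.ext hux
      rw [← this]; exact MonoidHom.mem_ker.mp hu
    · intro h
      exact ⟨x, MonoidHom.mem_ker.mpr h, rfl⟩
  have htT : (t : G) ∉ T := fun h => hlt ((hmemT t).mp h)
  have hto : orderOf (t : G) = 2 := by
    apply orderOf_eq_prime
    · have := congrArg Subtype.val ht2
      simpa using this
    · intro h
      apply ht1
      exact Subtype.ext h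
  obtain ⟨g, hgT, -, hgC⟩ := Cfsg.Agent.Lib.Helper11.exists_extremal_conj X T hTS hcyc hres
    (t : G) hto t.2 htT
  -- `X ≤ C(t)`
  have hXt : (X : Subgroup G) ⊓ Subgroup.centralizer {(t : G)} = (X : Subgroup G) := by
    apply inf_eq_left.mpr
    intro w hw
    rw [Subgroup.mem_centralizer_iff]
    intro h hh
    rw [Set.mem_singleton_iff] at hh
    subst hh
    have := Subgroup.mem_center_iff.mp htc ⟨w, hw⟩
    exact (congrArg Subtype.val this).symm
  rw [hXt] at hgC
  have hXg : (X : Subgroup G).map (MulAut.conj g).toMonoidHom = (X : Subgroup G) := by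
    apply Subgroup.eq_of_le_of_card_ge (le_trans hgC inf_le_left)
    rw [Subgroup.card_map_of_injective (MulAut.conj g).injective]
  have hXc : (X : Subgroup G) ≤ Subgroup.centralizer {g * (t : G) * g⁻¹} := by
    calc (X : Subgroup G) = (X : Subgroup G).map (MulAut.conj g).toMonoidHom := hXg.symm
      _ ≤ _ := le_trans hgC inf_le_right
  -- the element `t' = g t g⁻¹` of `X`
  let t' : ↥(X : Subgroup G) := ⟨g * (t : G) * g⁻¹, hTS hgT⟩
  have ht'c : t' ∈ Subgroup.center ↥(X : Subgroup G) := by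
    rw [Subgroup.mem_center_iff]
    intro w
    have := Subgroup.mem_centralizer_iff.mp (hXc w.2) (g * (t : G) * g⁻¹) rfl
    apply Subtype.ext
    exact this.symm
  have ht'2 : t' ^ 2 = 1 := by
    apply Subtype.ext
    show (g * (t : G) * g⁻¹) ^ 2 = 1
    rw [conj_pow]
    have := congrArg Subtype.val ht2
    simp only [Subgroup.coe_pow, Subgroup.coe_one] at this
    rw [this, mul_one, mul_inv_cancel]
  have ht'1 : t' ≠ 1 := by
    intro h
    have h' : g * (t : G) * g⁻¹ = 1 := congrArg Subtype.val h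
    apply ht1
    apply Subtype.ext
    have : (t : G) = g⁻¹ * (g * (t : G) * g⁻¹) * g := by group
    rw [this, h']; simp
  have ht'l : (ρ t').2 = 1 := (hmemT t').mp hgT
  -- an involution `s` in `[X,X] ∩ Z(X)`
  have hcomm_ne : commutator ↥(X : Subgroup G) ≠ ⊥ := by
    intro h
    obtain ⟨x, y, hxy⟩ := hna
    apply hxy
    have hc := (commutator_eq_bot_iff_center_eq_top ↥(X : Subgroup G)).mp h
    have hy : y ∈ Subgroup.center ↥(X : Subgroup G) := hc ▸ Subgroup.mem_top y
    exact Subgroup.mem_center_iff.mp hy x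
  let N : Subgroup ↥(X : Subgroup G) :=
    commutator ↥(X : Subgroup G) ⊓ Subgroup.center ↥(X : Subgroup G)
  have hN1 : Nontrivial N := by
    obtain ⟨x, hxN, hx1, hxc⟩ :=
      Cfsg.Agent.Lib.Helper12.exists_ne_one_mem_center_of_normal hXp
        (commutator ↥(X : Subgroup G)) hcomm_ne
    exact ⟨⟨⟨x, ⟨hxN, hxc⟩⟩, 1, fun h => hx1 (congrArg Subtype.val h)⟩⟩
  have hN2 : 2 ∣ Nat.card N := by
    obtain ⟨n, hn0, hn⟩ := (hXp.to_subgroup N).nontrivial_iff_card.mp hN1
    rw [hn]; exact dvd_pow_self 2 (ne_of_gt hn0)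
  obtain ⟨s, hs⟩ := exists_prime_orderOf_dvd_card' 2 hN2
  have hs2 : (s : ↥(X : Subgroup G)) ^ 2 = 1 := by
    have := pow_orderOf_eq_one s
    rw [hs] at this
    exact_mod_cast congrArg Subtype.val this
  have hs1 : (s : ↥(X : Subgroup G)) ≠ 1 := by
    intro h
    have : s = 1 := Subtype.ext h
    rw [this, orderOf_one] at hs
    omega
  have hsl : (ρ (s : ↥(X : Subgroup G))).2 = 1 := by
    have : (s : ↥(X : Subgroup G)) ∈ l.ker :=
      Abelianization.commutator_subset_ker l s.2.1
    exact MonoidHom.mem_ker.mp this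
  have hst : t' = (s : ↥(X : Subgroup G)) :=
    central_involution_unique ρ hρ hna ht'c ht'2 ht'1 ht'l s.2.2 hs2 hs1 hsl
  -- hence `t' ∈ [X, X]` and so `t ∈ [X, X]`
  have ht'comm : g * (t : G) * g⁻¹ ∈ ⁅(X : Subgroup G), (X : Subgroup G)⁆ := by
    rw [← Subgroup.map_subtype_commutator]
    exact ⟨t', hst ▸ s.2.1, rfl⟩
  have hcg : (⁅(X : Subgroup G), (X : Subgroup G)⁆).map (MulAut.conj g).toMonoidHom =
      ⁅(X : Subgroup G), (X : Subgroup G)⁆ := by
    rw [Subgroup.map_commutator, hXg]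
  rw [← hcg] at ht'comm
  obtain ⟨u, hu, hut⟩ := ht'comm
  have hut' : u = (t : G) := by
    have : g * u * g⁻¹ = g * (t : G) * g⁻¹ := by simpa [MulAut.conj_apply] using hut
    exact mul_left_cancel (mul_right_cancel this)
  rw [hut', ← Subgroup.map_subtype_commutator] at hu
  obtain ⟨v, hv, hvt⟩ := hu
  have hvt' : v = t := Subtype.ext hvt
  rw [hvt'] at hv
  exact hlt (MonoidHom.mem_ker.mp (Abelianization.commutator_subset_ker l hv))

end Sylow

end Cfsg.Agent.Lib.Helper22.S1906Core
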