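import Mathlib
import Cfsg.Agent.Lib.Helper7.SimpleTools
import Cfsg.Agent.Lib.Helper4.S168a
import Cfsg.Agent.Lib.Helper22.SylowPrimeCount

set_option autoImplicit false
set_option linter.style.haveILetI false
set_option linter.unusedSectionVars false

/-!
# Simple groups of order 4080: basic Sylow facts
-/

namespace Cfsg.Agent.Lib.Helper22.S4080

open Subgroup Cfsg.Agent.Lib.Helper7 Cfsg.Agent.Lib.Helper4

variable {G : Type*} [Group G] [Finite G] [IsSimpleGroup G]

theorem not_comm (h : Nat.card G = 4080) : ¬ IsMulCommutative G :=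
  not_comm_of_card_not_prime (by rw [h]; norm_num)

theorem card_P17 (h : Nat.card G = 4080) (P : Sylow 17 G) :
    Nat.card (P : Subgroup G) = 17 ∧ (P : Subgroup G).index = 240 :=
  haveI : Fact (Nat.Prime 17) := ⟨by norm_num⟩
  sylow_card_index_of_exact (p := 17) (m := 240) (by rw [h]) (by norm_num) P

theorem card_P5 (h : Nat.card G = 4080) (P : Sylow 5 G) :
    Nat.card (P : Subgroup G) = 5 ∧ (P : Subgroup G).index = 816 :=
  haveI : Fact (Nat.Prime 5) := ⟨by norm_num⟩
  sylow_card_index_of_exact (p := 5) (m := 816) (by rw [h]) (by norm_num) P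

theorem card_P3 (h : Nat.card G = 4080) (P : Sylow 3 G) :
    Nat.card (P : Subgroup G) = 3 ∧ (P : Subgroup G).index = 1360 :=
  haveI : Fact (Nat.Prime 3) := ⟨by norm_num⟩
  sylow_card_index_of_exact (p := 3) (m := 1360) (by rw [h]) (by norm_num) P

theorem card_P2 (h : Nat.card G = 4080) (P : Sylow 2 G) :
    Nat.card (P : Subgroup G) = 2 ^ 4 ∧ (P : Subgroup G).index = 255 :=
  haveI : Fact (Nat.Prime 2) := ⟨by norm_num⟩
  sylow_card_index_of_pow (p := 2) (k := 4) (m := 255) (by rw [h]; norm_num) (by norm_num) P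

theorem index_gt_sixteen (h : Nat.card G = 4080) (H : Subgroup G) (hH : H ≠ ⊤) :
    16 < H.index := by
  by_contra hle
  rw [not_lt] at hle
  have := card_dvd_factorial_of_index_le H hH hle
  rw [h] at this
  norm_num [Nat.factorial] at this

theorem card_le_of_ne_top (h : Nat.card G = 4080) (H : Subgroup G) (hH : H ≠ ⊤) :
    Nat.card H ≤ 240 := by
  have h1 := index_gt_sixteen h H hH
  have h2 := H.card_mul_index
  rw [h] at h2
  by_contra hlt
  rw [not_le] at hlt
  have : 241 * 17 ≤ Nat.card H * H.index := Nat.mul_le_mul hlt h1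
  omega

theorem card_sylow17 (h : Nat.card G = 4080) : Nat.card (Sylow 17 G) = 120 := by
  haveI : Fact (Nat.Prime 17) := ⟨by norm_num⟩
  obtain ⟨P⟩ : Nonempty (Sylow 17 G) := Sylow.nonempty
  obtain ⟨hPc, hPi⟩ := card_P17 h P
  have h1 : Nat.card (Sylow 17 G) ≡ 1 [MOD 17] := card_sylow_modEq_one 17 G
  have h2 : Nat.card (Sylow 17 G) ∣ 240 := by rw [← hPi]; exact Sylow.card_dvd_index P
  have h3 : Nat.card (Sylow 17 G) ≠ 1 :=
    card_sylow_ne_one P (by rw [hPc]; norm_num) (by rw [hPc, h]; norm_num)
  have h4 : Nat.card (Sylow 17 G) ∈ Nat.divisors 240 := Nat.mem_divisors.mpr ⟨h2, by norm_num⟩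
  have hd : Nat.divisors 240 =
      {1, 2, 3, 4, 5, 6, 8, 10, 12, 15, 16, 20, 24, 30, 40, 48, 60, 80, 120, 240} := by decide
  rw [hd] at h4
  simp only [Finset.mem_insert, Finset.mem_singleton] at h4
  rcases h4 with h' | h' | h' | h' | h' | h' | h' | h' | h' | h' | h' | h' | h' | h' | h' | h' |
    h' | h' | h' | h'
  all_goals first
    | exact h'
    | exact absurd h' h3
    | (rw [h'] at h1; exact absurd h1 (by decide))

theorem card_N17 (h : Nat.card G = 4080) (P : Sylow 17 G) :
    Nat.card (normalizer ((P : Subgroup G) : Set G)) = 34 := by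
  haveI : Fact (Nat.Prime 17) := ⟨by norm_num⟩
  have := card_sylow_mul_card_normalizer P
  rw [card_sylow17 h, h] at this
  omega

theorem cent17 (h : Nat.card G = 4080) (x : G) (hx : orderOf x = 17) :
    centralizer ({x} : Set G) = zpowers x :=
  haveI : Fact (Nat.Prime 17) := ⟨by norm_num⟩
  cent_eq_zpowers_of_card_normalizer (not_comm h) (p := 17) (q := 2) Nat.prime_two
    (fun P => (card_P17 h P).1) (fun P => by rw [card_N17 h P]) x hx

theorem card_orderOf_seventeen (h : Nat.card G = 4080) :
    Nat.card {g : G // orderOf g = 17} = 1920 := by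
  haveI : Fact (Nat.Prime 17) := ⟨by norm_num⟩
  obtain ⟨x, hx⟩ := exists_prime_orderOf_dvd_card' (G := G) 17 (by rw [h]; norm_num)
  rw [psc_card_orderOf_eq (by norm_num) hx (cent17 h x hx), card_sylow17 h]

/-- An element commuting with an element of order `17` has order `1` or `17`. -/
theorem orderOf_dvd_seventeen_of_commute (h : Nat.card G = 4080) (x g : G) (hx : orderOf x = 17)
    (hg : g * x = x * g) : orderOf g ∣ 17 := by
  have hmem : g ∈ zpowers x := by
    rw [← cent17 h x hx, mem_centralizer_singleton_iff]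
    exact hg
  have := Subgroup.orderOf_dvd_natCard _ hmem
  rwa [Nat.card_zpowers, hx] at this

/-- The order of a subgroup containing no element of order `17` is prime to `17`. -/
theorem not_seventeen_dvd_card_centralizer (h : Nat.card G = 4080) (y : G) (hy : ¬ orderOf y ∣ 17) :
    ¬ 17 ∣ Nat.card (centralizer ({y} : Set G)) := by
  haveI : Fact (Nat.Prime 17) := ⟨by norm_num⟩
  intro h17
  obtain ⟨c, hc⟩ := exists_prime_orderOf_dvd_card' (G := centralizer ({y} : Set G)) 17 h17
  have hc' : orderOf (c : G) = 17 := by rw [Subgroup.orderOf_coe]; exact hc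
  have hcy : y * (c : G) = (c : G) * y := (mem_centralizer_singleton_iff.mp c.2).symm
  exact hy (orderOf_dvd_seventeen_of_commute h (c : G) y hc' hcy)

end Cfsg.Agent.Lib.Helper22.S4080
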