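import Cfsg.Agent.Lib.Helper22.S4080a

set_option autoImplicit false
set_option linter.style.haveILetI false
set_option linter.unusedSectionVars false

namespace Cfsg.Agent.Lib.Helper22.S4080

open Subgroup Cfsg.Agent.Lib.Helper7 Cfsg.Agent.Lib.Helper4 Cfsg.Agent.Lib.Helper22.SylowPrimeCount

variable {G : Type*} [Group G] [Finite G] [IsSimpleGroup G]

/-- Numerical data attached to a Sylow subgroup of prime order. -/
theorem sylow_prime_data (h : Nat.card G = 4080) {r : ℕ} [Fact r.Prime] (P : Sylow r G)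
    (hPc : Nat.card (P : Subgroup G) = r) :
    ∃ c e : ℕ, Nat.card (centralizer ((P : Subgroup G) : Set G)) = r * c ∧ e ∣ r - 1 ∧ e ≠ 1 ∧
      Nat.card (normalizer ((P : Subgroup G) : Set G)) = r * c * e ∧
      Nat.card (Sylow r G) * (r * c * e) = 4080 := by
  have hrp : r.Prime := Fact.out
  have hrel := relIndex_centralizer_normalizer_dvd_of_prime (P : Subgroup G) hPc
  have hmul := card_centralizer_mul_relIndex (P : Subgroup G)
  have hN := card_sylow_mul_card_normalizer P
  rw [h] at hN
  have hPcomm := comm_of_card_prime (p := r) (P : Subgroup G) hPc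
  have hPC : (P : Subgroup G) ≤ centralizer ((P : Subgroup G) : Set G) := by
    intro a ha
    rw [mem_centralizer_iff]
    intro b hb
    exact hPcomm b hb a ha
  have hdvd : r ∣ Nat.card (centralizer ((P : Subgroup G) : Set G)) := by
    have := Subgroup.card_dvd_of_le hPC
    rwa [hPc] at this
  obtain ⟨c, hc⟩ := hdvd
  refine ⟨c, (centralizer ((P : Subgroup G) : Set G)).relIndex
    (normalizer ((P : Subgroup G) : Set G)), hc, hrel, ?_, ?_, ?_⟩
  · intro h1
    rw [h1, mul_one] at hmul
    have heq : centralizer ((P : Subgroup G) : Set G) = normalizer ((P : Subgroup G) : Set G) :=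
      Subgroup.eq_of_le_of_card_ge (centralizer_le_normalizer _) (by rw [hmul])
    exact not_normalizer_le_centralizer (not_comm h) P (by rw [hPc]; exact hrp.one_lt) hPcomm
      (by rw [heq])
  · rw [← hmul, hc]
  · rw [← hc, hmul]; exact hN

theorem card_S3 (h : Nat.card G = 4080) : 1360 ≤ Nat.card {g : G // 3 ∣ orderOf g} := by
  haveI : Fact (Nat.Prime 3) := ⟨by norm_num⟩
  apply le_card_dvd_orderOf (fun P => (card_P3 h P).1)
  intro P
  obtain ⟨c, e, hc, he, he1, -, hn⟩ := sylow_prime_data h P (card_P3 h P).1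
  have he2 : e = 2 := by
    have : e ∣ 2 := he
    rcases (Nat.dvd_prime Nat.prime_two).mp this with h1 | h1
    · exact absurd h1 he1
    · exact h1
  rw [hc, Nat.mul_div_cancel_left _ (by norm_num : 0 < 3)]
  rw [he2] at hn
  generalize Nat.card (Sylow 3 G) = n at *
  nlinarith

theorem card_S5 (h : Nat.card G = 4080) : 816 ≤ Nat.card {g : G // 5 ∣ orderOf g} := by
  haveI : Fact (Nat.Prime 5) := ⟨by norm_num⟩
  apply le_card_dvd_orderOf (fun P => (card_P5 h P).1)
  intro P
  obtain ⟨c, e, hc, he, he1, -, hn⟩ := sylow_prime_data h P (card_P5 h P).1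
  have he4 : e ≤ 4 := Nat.le_of_dvd (by norm_num) he
  rw [hc, Nat.mul_div_cancel_left _ (by norm_num : 0 < 5)]
  generalize Nat.card (Sylow 5 G) = n at *
  have h1 : n * (5 * c * e) ≤ n * (5 * c * 4) := Nat.mul_le_mul_left _ (Nat.mul_le_mul_left _ he4)
  have : (5 - 1 : ℕ) = 4 := rfl
  rw [this]
  nlinarith

/-- There is an element of order divisible by `15`. -/
theorem exists_fifteen_dvd_orderOf (h : Nat.card G = 4080) : ∃ g : G, 15 ∣ orderOf g := by
  classical
  by_contra hcon
  push Not at hcon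
  have h17 := card_orderOf_seventeen h
  have h3 := card_S3 h
  have h5 := card_S5 h
  let f : ({g : G // 3 ∣ orderOf g} ⊕ {g : G // 5 ∣ orderOf g}) ⊕ {g : G // orderOf g = 17} → G :=
    Sum.elim (Sum.elim (fun a => a.1) (fun a => a.1)) (fun a => a.1)
  have hf : Function.Injective f := by
    rintro ((⟨a, ha⟩ | ⟨a, ha⟩) | ⟨a, ha⟩) ((⟨b, hb⟩ | ⟨b, hb⟩) | ⟨b, hb⟩) hab
    all_goals
      change a = b at hab
      subst hab
    · rfl
    · exact absurd (Nat.Coprime.mul_dvd_of_dvd_of_dvd (by norm_num : Nat.Coprime 3 5) ha hb) (hcon a)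
    · rw [hb] at ha; norm_num at ha
    · exact absurd (Nat.Coprime.mul_dvd_of_dvd_of_dvd (by norm_num : Nat.Coprime 3 5) hb ha) (hcon a)
    · rfl
    · rw [hb] at ha; norm_num at ha
    · rw [ha] at hb; norm_num at hb
    · rw [ha] at hb; norm_num at hb
    · rfl
  have := Nat.card_le_card_of_injective f hf
  rw [Nat.card_sum, Nat.card_sum, h, h17] at this
  omega


/-- There are commuting elements of orders `3` and `5`. -/
theorem exists_commuting (h : Nat.card G = 4080) :
    ∃ y₃ y₅ : G, orderOf y₃ = 3 ∧ orderOf y₅ = 5 ∧ y₃ * y₅ = y₅ * y₃ := by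
  obtain ⟨g, k, hk⟩ := exists_fifteen_dvd_orderOf h
  have hpos : 0 < orderOf g := orderOf_pos g
  have hk0 : k ≠ 0 := by
    rintro rfl
    rw [mul_zero] at hk
    omega
  refine ⟨g ^ (5 * k), g ^ (3 * k), ?_, ?_, ?_⟩
  · rw [orderOf_pow_of_dvd (by omega) ⟨3, by rw [hk]; ring⟩, hk]
    rw [show 15 * k = 3 * (5 * k) by ring, Nat.mul_div_cancel _ (by omega)]
  · rw [orderOf_pow_of_dvd (by omega) ⟨5, by rw [hk]; ring⟩, hk]
    rw [show 15 * k = 5 * (3 * k) by ring, Nat.mul_div_cancel _ (by omega)]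
  · rw [← pow_add, ← pow_add, add_comm]

/-- An element of prime order `r` generates a Sylow `r`-subgroup, when these have order `r`. -/
theorem exists_sylow_eq_zpowers {r : ℕ} [Fact r.Prime]
    (hr : ∀ P : Sylow r G, Nat.card (P : Subgroup G) = r) (y : G) (hy : orderOf y = r) :
    ∃ P : Sylow r G, (P : Subgroup G) = zpowers y := by
  have hyp : IsPGroup r (zpowers y) :=
    IsPGroup.of_card (n := 1) (by rw [Nat.card_zpowers, hy, pow_one])
  obtain ⟨P, hP⟩ := hyp.exists_le_sylow
  refine ⟨P, ?_⟩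
  symm
  apply Subgroup.eq_of_le_of_card_ge hP
  rw [Nat.card_zpowers, hy, hr P]

theorem mem_centralizer_zpowers_of_commute (a y : G) (hay : a * y = y * a) :
    a ∈ centralizer ((zpowers y : Subgroup G) : Set G) := by
  rw [← centralizer_singleton_eq_centralizer_zpowers, mem_centralizer_singleton_iff]
  exact hay

theorem card_sylow5_aux (h : Nat.card G = 4080) :
    Nat.card (Sylow 5 G) = 136 := by
  haveI : Fact (Nat.Prime 5) := ⟨by norm_num⟩
  obtain ⟨y₃, y₅, hy₃, hy₅, hcomm⟩ := exists_commuting h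
  obtain ⟨P, hP⟩ := exists_sylow_eq_zpowers (fun P => (card_P5 h P).1) y₅ hy₅
  obtain ⟨c, e, hc, he, he1, hN, hn⟩ := sylow_prime_data h P (card_P5 h P).1
  have h1 : Nat.card (Sylow 5 G) ≡ 1 [MOD 5] := card_sylow_modEq_one 5 G
  have h3 : 3 ∣ 5 * c := by
    rw [← hc, ← hy₃]
    apply Subgroup.orderOf_dvd_natCard
    rw [hP]
    exact mem_centralizer_zpowers_of_commute y₃ y₅ hcomm
  have h17 : ¬ 17 ∣ 5 * c := by
    rw [← hc, hP, ← centralizer_singleton_eq_centralizer_zpowers]
    exact not_seventeen_dvd_card_centralizer h y₅ (by rw [hy₅]; norm_num)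
  have h3c : 3 ∣ c := (Nat.Coprime.dvd_of_dvd_mul_left (by norm_num : Nat.Coprime 3 5) h3)
  obtain ⟨c', rfl⟩ := h3c
  have he' : e = 2 ∨ e = 4 := by
    have hd : e ∈ Nat.divisors 4 := Nat.mem_divisors.mpr ⟨he, by norm_num⟩
    have : Nat.divisors 4 = {1, 2, 4} := by decide
    rw [this] at hd
    simp only [Finset.mem_insert, Finset.mem_singleton] at hd
    rcases hd with h' | h' | h'
    · exact absurd h' he1
    · left; exact h'
    · right; exact h'
  generalize Nat.card (Sylow 5 G) = n at *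
  have hmain : n * c' * e = 272 := by nlinarith
  have hc17 : Nat.Coprime c' 17 := by
    rw [Nat.coprime_comm, Nat.Prime.coprime_iff_not_dvd (by norm_num)]
    intro h'
    exact h17 (Dvd.dvd.mul_left (Dvd.dvd.mul_left h' 3) 5)
  have hc16 : c' ∣ 16 := by
    have : c' ∣ 16 * 17 := ⟨n * e, by nlinarith⟩
    exact hc17.dvd_of_dvd_mul_right this
  have hd : c' ∈ Nat.divisors 16 := Nat.mem_divisors.mpr ⟨hc16, by norm_num⟩
  have : Nat.divisors 16 = {1, 2, 4, 8, 16} := by decide
  rw [this] at hd
  simp only [Finset.mem_insert, Finset.mem_singleton] at hd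
  unfold Nat.ModEq at h1
  rcases he' with rfl | rfl <;> rcases hd with rfl | rfl | rfl | rfl | rfl <;> omega


theorem card_C5 (h : Nat.card G = 4080) (P : Sylow 5 G) :
    Nat.card (centralizer ((P : Subgroup G) : Set G)) = 15 ∧
      Nat.card (normalizer ((P : Subgroup G) : Set G)) = 30 := by
  haveI : Fact (Nat.Prime 5) := ⟨by norm_num⟩
  obtain ⟨c, e, hc, he, he1, hN, hn⟩ := sylow_prime_data h P (card_P5 h P).1
  rw [card_sylow5_aux h] at hn
  have he' : e = 2 ∨ e = 4 := by
    have hd : e ∈ Nat.divisors 4 := Nat.mem_divisors.mpr ⟨he, by norm_num⟩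
    have : Nat.divisors 4 = {1, 2, 4} := by decide
    rw [this] at hd
    simp only [Finset.mem_insert, Finset.mem_singleton] at hd
    rcases hd with h' | h' | h'
    · exact absurd h' he1
    · left; exact h'
    · right; exact h'
  rw [hc, hN]
  rcases he' with rfl | rfl <;> constructor <;> omega

/-- The centralizer of an element of order `5` has order `15`. -/
theorem card_centralizer_five (h : Nat.card G = 4080) (y : G) (hy : orderOf y = 5) :
    Nat.card (centralizer ({y} : Set G)) = 15 := by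
  haveI : Fact (Nat.Prime 5) := ⟨by norm_num⟩
  obtain ⟨P, hP⟩ := exists_sylow_eq_zpowers (fun P => (card_P5 h P).1) y hy
  rw [centralizer_singleton_eq_centralizer_zpowers, ← hP]
  exact (card_C5 h P).1

theorem card_sylow3_aux (h : Nat.card G = 4080) :
    Nat.card (Sylow 3 G) = 136 := by
  haveI : Fact (Nat.Prime 5) := ⟨by norm_num⟩
  haveI : Fact (Nat.Prime 3) := ⟨by norm_num⟩
  obtain ⟨y₃, y₅, hy₃, hy₅, hcomm⟩ := exists_commuting h
  obtain ⟨P, hP⟩ := exists_sylow_eq_zpowers (fun P => (card_P3 h P).1) y₃ hy₃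
  obtain ⟨Q, hQ⟩ := exists_sylow_eq_zpowers (fun P => (card_P5 h P).1) y₅ hy₅
  obtain ⟨c, e, hc, he, he1, hN, hn⟩ := sylow_prime_data h P (card_P3 h P).1
  have he2 : e = 2 := by
    have : e ∣ 2 := he
    rcases (Nat.dvd_prime Nat.prime_two).mp this with h1 | h1
    · exact absurd h1 he1
    · exact h1
  subst he2
  have h1 : Nat.card (Sylow 3 G) ≡ 1 [MOD 3] := card_sylow_modEq_one 3 G
  have hy₅C : y₅ ∈ centralizer ((P : Subgroup G) : Set G) := by
    rw [hP]
    exact mem_centralizer_zpowers_of_commute y₅ y₃ hcomm.symm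
  have h5 : 5 ∣ 3 * c := by
    rw [← hc, ← hy₅]
    exact Subgroup.orderOf_dvd_natCard _ hy₅C
  have h17 : ¬ 17 ∣ 3 * c := by
    rw [← hc, hP, ← centralizer_singleton_eq_centralizer_zpowers]
    exact not_seventeen_dvd_card_centralizer h y₃ (by rw [hy₃]; norm_num)
  have h5c : 5 ∣ c := (Nat.Coprime.dvd_of_dvd_mul_left (by norm_num : Nat.Coprime 5 3) h5)
  obtain ⟨c', rfl⟩ := h5c
  -- exclude c' = 4
  have hc4 : c' ≠ 4 := by
    rintro rfl
    have hC60 : Nat.card (centralizer ((P : Subgroup G) : Set G)) = 60 := by rw [hc]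
    set C := centralizer ((P : Subgroup G) : Set G) with hCdef
    have hQC : (Q : Subgroup G) ≤ C := by
      rw [hQ, zpowers_le]; exact hy₅C
    set Q' : Sylow 5 C := Q.subtype hQC with hQ'
    have hmul := card_sylow_mul_card_normalizer Q'
    rw [hC60] at hmul
    have hmod : Nat.card (Sylow 5 C) ≡ 1 [MOD 5] := card_sylow_modEq_one 5 C
    have hNeq : normalizer ((Q' : Subgroup C) : Set C) =
        (normalizer ((Q : Subgroup G) : Set G)).subgroupOf C := by
      rw [hQ', Sylow.coe_subtype, subgroupOf_normalizer_eq hQC]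
    have hd30 : Nat.card (normalizer ((Q' : Subgroup C) : Set C)) ∣ 30 := by
      rw [hNeq, ← (card_C5 h Q).2]
      exact Subgroup.card_comap_dvd_of_injective _ _ C.subtype_injective
    have hy₃C : y₃ ∈ C := by
      rw [hCdef, hP]
      exact mem_centralizer_zpowers_of_commute y₃ y₃ rfl
    have h3d : 3 ∣ Nat.card (normalizer ((Q' : Subgroup C) : Set C)) := by
      have hmem : (⟨y₃, hy₃C⟩ : C) ∈ normalizer ((Q' : Subgroup C) : Set C) := by
        rw [hNeq, mem_subgroupOf]
        apply centralizer_le_normalizer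
        rw [hQ]
        exact mem_centralizer_zpowers_of_commute y₃ y₅ hcomm
      have := Subgroup.orderOf_dvd_natCard _ hmem
      rwa [Subgroup.orderOf_mk, hy₃] at this
    generalize Nat.card (normalizer ((Q' : Subgroup C) : Set C)) = d at *
    generalize Nat.card (Sylow 5 C) = m at *
    have hd : d ∈ Nat.divisors 30 := Nat.mem_divisors.mpr ⟨hd30, by norm_num⟩
    have : Nat.divisors 30 = {1, 2, 3, 5, 6, 10, 15, 30} := by decide
    rw [this] at hd
    simp only [Finset.mem_insert, Finset.mem_singleton] at hd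
    unfold Nat.ModEq at hmod
    rcases hd with rfl | rfl | rfl | rfl | rfl | rfl | rfl | rfl <;> omega
  generalize Nat.card (Sylow 3 G) = n at *
  have hmain : n * c' = 136 := by nlinarith
  have hc17 : Nat.Coprime c' 17 := by
    rw [Nat.coprime_comm, Nat.Prime.coprime_iff_not_dvd (by norm_num)]
    intro h'
    exact h17 (Dvd.dvd.mul_left (Dvd.dvd.mul_left h' 5) 3)
  have hc8 : c' ∣ 8 := by
    have : c' ∣ 8 * 17 := ⟨n, by nlinarith⟩
    exact hc17.dvd_of_dvd_mul_right this
  have hd : c' ∈ Nat.divisors 8 := Nat.mem_divisors.mpr ⟨hc8, by norm_num⟩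
  have : Nat.divisors 8 = {1, 2, 4, 8} := by decide
  rw [this] at hd
  simp only [Finset.mem_insert, Finset.mem_singleton] at hd
  unfold Nat.ModEq at h1
  rcases hd with rfl | rfl | rfl | rfl <;> omega

theorem card_C3 (h : Nat.card G = 4080) (P : Sylow 3 G) :
    Nat.card (centralizer ((P : Subgroup G) : Set G)) = 15 ∧
      Nat.card (normalizer ((P : Subgroup G) : Set G)) = 30 := by
  haveI : Fact (Nat.Prime 3) := ⟨by norm_num⟩
  obtain ⟨c, e, hc, he, he1, hN, hn⟩ := sylow_prime_data h P (card_P3 h P).1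
  rw [card_sylow3_aux h] at hn
  have he2 : e = 2 := by
    have : e ∣ 2 := he
    rcases (Nat.dvd_prime Nat.prime_two).mp this with h1 | h1
    · exact absurd h1 he1
    · exact h1
  subst he2
  rw [hc, hN]
  constructor <;> omega

/-- The centralizer of an element of order `3` has order `15`. -/
theorem card_centralizer_three (h : Nat.card G = 4080) (y : G) (hy : orderOf y = 3) :
    Nat.card (centralizer ({y} : Set G)) = 15 := by
  haveI : Fact (Nat.Prime 3) := ⟨by norm_num⟩
  obtain ⟨P, hP⟩ := exists_sylow_eq_zpowers (fun P => (card_P3 h P).1) y hy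
  rw [centralizer_singleton_eq_centralizer_zpowers, ← hP]
  exact (card_C3 h P).1

end Cfsg.Agent.Lib.Helper22.S4080
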