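import Cfsg.Agent.Lib.Helper22.S4080b
import Cfsg.Agent.Lib.Helper4.PscCount

set_option autoImplicit false
set_option linter.style.haveILetI false
set_option linter.unusedSectionVars false

namespace Cfsg.Agent.Lib.Helper22.S4080

open Subgroup Cfsg.Agent.Lib.Helper7 Cfsg.Agent.Lib.Helper4 Cfsg.Agent.Lib.Helper22.SylowPrimeCount

variable {G : Type*} [Group G] [Finite G] [IsSimpleGroup G]

/-- A group of order `15` with a central element of order `3` or `5` is commutative. -/
theorem comm_of_card_fifteen {H : Type*} [Group H] [Finite H] (hH : Nat.card H = 15) (z : H)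
    (hz : orderOf z = 3 ∨ orderOf z = 5) (hzc : ∀ a : H, a * z = z * a) (a b : H) :
    a * b = b * a := by
  have hzZ : z ∈ center H := by
    rw [mem_center_iff]; exact hzc
  have h1 : orderOf z ∣ Nat.card (center H) := Subgroup.orderOf_dvd_natCard _ hzZ
  have h2 : Nat.card (center H) ∣ 15 := hH ▸ Subgroup.card_subgroup_dvd_card _
  have h3 := (center H).card_mul_index
  rw [hH] at h3
  have hidx : (center H).index = 1 ∨ (center H).index = 3 ∨ (center H).index = 5 := by
    have hd : Nat.card (center H) ∈ Nat.divisors 15 := Nat.mem_divisors.mpr ⟨h2, by norm_num⟩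
    have : Nat.divisors 15 = {1, 3, 5, 15} := by decide
    rw [this] at hd
    simp only [Finset.mem_insert, Finset.mem_singleton] at hd
    rcases hd with h' | h' | h' | h'
    · rw [h'] at h1
      rcases hz with hz | hz <;> rw [hz] at h1 <;> norm_num at h1
    · rw [h'] at h3; right; right; omega
    · rw [h'] at h3; right; left; omega
    · rw [h'] at h3; left; omega
  have hcyc : IsCyclic (H ⧸ center H) := by
    rcases hidx with h' | h' | h'
    · have : Nat.card (H ⧸ center H) = 1 := by rw [← Subgroup.index_eq_card, h']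
      haveI : Subsingleton (H ⧸ center H) := (Nat.card_eq_one_iff_unique.mp this).1
      infer_instance
    · haveI : Fact (Nat.Prime 3) := ⟨by norm_num⟩
      exact isCyclic_of_prime_card (p := 3) (by rw [← Subgroup.index_eq_card, h'])
    · haveI : Fact (Nat.Prime 5) := ⟨by norm_num⟩
      exact isCyclic_of_prime_card (p := 5) (by rw [← Subgroup.index_eq_card, h'])
  exact ((QuotientGroup.mk' (center H)).isMulCommutative_of_isCyclic_of_ker_le_center
    (by rw [QuotientGroup.ker_mk'])).is_comm.comm a b

/-- The centralizer of an element of order `3` or `5` is commutative. -/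
theorem comm_centralizer (h : Nat.card G = 4080) (y : G) (hy : orderOf y = 3 ∨ orderOf y = 5)
    (a b : G) (ha : a ∈ centralizer ({y} : Set G)) (hb : b ∈ centralizer ({y} : Set G)) :
    a * b = b * a := by
  have hcard : Nat.card (centralizer ({y} : Set G)) = 15 := by
    rcases hy with hy | hy
    · exact card_centralizer_three h y hy
    · exact card_centralizer_five h y hy
  have hyC : y ∈ centralizer ({y} : Set G) := by
    rw [mem_centralizer_singleton_iff]
  have := comm_of_card_fifteen hcard ⟨y, hyC⟩ (by rw [Subgroup.orderOf_mk]; exact hy)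
    (fun a => Subtype.ext (mem_centralizer_singleton_iff.mp a.2)) ⟨a, ha⟩ ⟨b, hb⟩
  exact congrArg Subtype.val this

theorem sylow5_eq_of_le_normalizer (h : Nat.card G = 4080) (P Q : Sylow 5 G)
    (hQP : (Q : Subgroup G) ≤ normalizer ((P : Subgroup G) : Set G)) : Q = P := by
  haveI : Fact (Nat.Prime 5) := ⟨by norm_num⟩
  have hsup : IsPGroup 5 ((Q : Subgroup G) ⊔ P : Subgroup G) :=
    IsPGroup.to_sup_of_normal_right' Q.2 P.2 hQP
  have h1 : (Q : Subgroup G) ⊔ P = P := P.is_maximal' hsup le_sup_right
  have hQleP : (Q : Subgroup G) ≤ P := by rw [← h1]; exact le_sup_left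
  apply Sylow.ext
  apply Subgroup.eq_of_le_of_card_ge hQleP
  rw [(card_P5 h P).1, (card_P5 h Q).1]

/-- A nonidentity element lies in the centralizer of at most one Sylow `5`-subgroup. -/
theorem sylow5_eq_of_mem_centralizer (h : Nat.card G = 4080) (P Q : Sylow 5 G) (g : G)
    (hg1 : g ≠ 1) (hgP : g ∈ centralizer ((P : Subgroup G) : Set G))
    (hgQ : g ∈ centralizer ((Q : Subgroup G) : Set G)) : Q = P := by
  have hord : orderOf g ∣ 15 := by
    rw [← (card_C5 h P).1]; exact Subgroup.orderOf_dvd_natCard _ hgP
  -- an element `y` of order `3` or `5` in both centralizers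
  have hy : ∃ y : G, (orderOf y = 3 ∨ orderOf y = 5) ∧
      y ∈ centralizer ((P : Subgroup G) : Set G) ∧ y ∈ centralizer ((Q : Subgroup G) : Set G) := by
    have hd : orderOf g ∈ Nat.divisors 15 := Nat.mem_divisors.mpr ⟨hord, by norm_num⟩
    have : Nat.divisors 15 = {1, 3, 5, 15} := by decide
    rw [this] at hd
    simp only [Finset.mem_insert, Finset.mem_singleton] at hd
    rcases hd with h' | h' | h' | h'
    · rw [orderOf_eq_one_iff] at h'; exact absurd h' hg1
    · exact ⟨g, Or.inl h', hgP, hgQ⟩
    · exact ⟨g, Or.inr h', hgP, hgQ⟩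
    · refine ⟨g ^ 3, Or.inr ?_, pow_mem hgP 3, pow_mem hgQ 3⟩
      rw [orderOf_pow_of_dvd (by norm_num) (by rw [h']; norm_num), h']
  obtain ⟨y, hy, hyP, hyQ⟩ := hy
  apply sylow5_eq_of_le_normalizer h
  intro q hq
  apply centralizer_le_normalizer
  rw [mem_centralizer_iff]
  intro p hp
  have hpC : p ∈ centralizer ({y} : Set G) := by
    rw [mem_centralizer_singleton_iff]
    exact (mem_centralizer_iff.mp hyP) p hp
  have hqC : q ∈ centralizer ({y} : Set G) := by
    rw [mem_centralizer_singleton_iff]
    exact (mem_centralizer_iff.mp hyQ) q hq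
  exact comm_centralizer h y hy p q hpC hqC

/-- There are at least `1905` elements of order dividing `15`. -/
theorem card_orderOf_dvd_fifteen (h : Nat.card G = 4080) :
    1905 ≤ Nat.card {g : G // orderOf g ∣ 15} := by
  classical
  haveI : Fact (Nat.Prime 5) := ⟨by norm_num⟩
  have hmem : ∀ (P : Sylow 5 G) (x : G), x ∈ centralizer ((P : Subgroup G) : Set G) →
      orderOf x ∣ 15 := by
    intro P x hx
    rw [← (card_C5 h P).1]; exact Subgroup.orderOf_dvd_natCard _ hx
  let f : Option (Σ P : Sylow 5 G, {x : centralizer ((P : Subgroup G) : Set G) // x ≠ 1}) →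
      {g : G // orderOf g ∣ 15} :=
    fun o => match o with
      | none => ⟨1, by simp⟩
      | some s => ⟨(s.2.1 : G), hmem s.1 _ s.2.1.2⟩
  have hf : Function.Injective f := by
    intro a b hab
    rcases a with _ | ⟨P, x, hx⟩ <;> rcases b with _ | ⟨Q, y, hy⟩
    · rfl
    · exfalso
      have := congrArg Subtype.val hab
      change (1 : G) = (y : G) at this
      apply hy
      apply Subtype.ext
      exact this.symm
    · exfalso
      have := congrArg Subtype.val hab
      change (x : G) = (1 : G) at this
      apply hx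
      apply Subtype.ext
      exact this
    · have hxy : (x : G) = (y : G) := congrArg Subtype.val hab
      have hx1 : (x : G) ≠ 1 := fun h' => hx (Subtype.ext h')
      have hPQ : Q = P := sylow5_eq_of_mem_centralizer h P Q (x : G) hx1 x.2 (hxy ▸ y.2)
      subst hPQ
      have : x = y := Subtype.ext hxy
      subst this
      rfl
  have hcard := Nat.card_le_card_of_injective f hf
  have h1 : Nat.card (Option (Σ P : Sylow 5 G,
      {x : centralizer ((P : Subgroup G) : Set G) // x ≠ 1})) = 1905 := by
    haveI : Fintype (Sylow 5 G) := Fintype.ofFinite _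
    rw [Finite.card_option, Nat.card_sigma]
    have h2 : ∀ P : Sylow 5 G,
        Nat.card {x : centralizer ((P : Subgroup G) : Set G) // x ≠ 1} = 14 := by
      intro P
      rw [card_subtype_ne', (card_C5 h P).1]
    simp only [h2, Finset.sum_const, Finset.card_univ, smul_eq_mul]
    rw [← Nat.card_eq_fintype_card, card_sylow5_aux h]
  rw [h1] at hcard
  exact hcard

/-- At most `255` elements have order different from `17` and not dividing `15`. -/
theorem card_le_255 (h : Nat.card G = 4080) (q : G → Prop)
    (hq : ∀ g, q g → orderOf g ≠ 17 ∧ ¬ orderOf g ∣ 15) : Nat.card {g : G // q g} ≤ 255 := by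
  classical
  have h17 := card_orderOf_seventeen h
  have h15 := card_orderOf_dvd_fifteen h
  let f : ({g : G // q g} ⊕ {g : G // orderOf g = 17}) ⊕ {g : G // orderOf g ∣ 15} → G :=
    Sum.elim (Sum.elim (fun a => a.1) (fun a => a.1)) (fun a => a.1)
  have hf : Function.Injective f := by
    rintro ((⟨a, ha⟩ | ⟨a, ha⟩) | ⟨a, ha⟩) ((⟨b, hb⟩ | ⟨b, hb⟩) | ⟨b, hb⟩) hab
    all_goals
      change a = b at hab
      subst hab
    · rfl
    · exact absurd hb (hq a ha).1
    · exact absurd hb (hq a ha).2
    · exact absurd ha (hq a hb).1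
    · rfl
    · rw [ha] at hb; norm_num at hb
    · exact absurd ha (hq a hb).2
    · rw [hb] at ha; norm_num at ha
    · rfl
  have := Nat.card_le_card_of_injective f hf
  rw [Nat.card_sum, Nat.card_sum, h, h17] at this
  omega


theorem orderOf_eq_of_isConj {a b : G} (hab : IsConj a b) : orderOf a = orderOf b := by
  obtain ⟨c, hc⟩ := isConj_iff.mp hab
  apply SemiconjBy.orderOf_eq c
  change c * a = b * c
  rw [← hc]; group

/-- The centralizer of an involution is an elementary abelian `2`-group. -/
theorem sq_eq_one_of_mem_centralizer (h : Nat.card G = 4080) (t : G) (ht : orderOf t = 2)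
    (c : G) (hc : c ∈ centralizer ({t} : Set G)) : c ^ 2 = 1 := by
  classical
  haveI : Fact (Nat.Prime 3) := ⟨by norm_num⟩
  haveI : Fact (Nat.Prime 5) := ⟨by norm_num⟩
  set C := centralizer ({t} : Set G) with hC
  have hmemC : ∀ g : G, g ∈ C ↔ g * t = t * g := by
    intro g
    rw [hC, mem_centralizer_singleton_iff]
  have h17 : ¬ 17 ∣ Nat.card C :=
    not_seventeen_dvd_card_centralizer h t (by rw [ht]; norm_num)
  have h3 : ¬ 3 ∣ Nat.card C := by
    intro h3
    obtain ⟨a, ha⟩ := exists_prime_orderOf_dvd_card' (G := C) 3 h3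
    have ha' : orderOf (a : G) = 3 := by rw [Subgroup.orderOf_coe]; exact ha
    have htC : t ∈ centralizer ({(a : G)} : Set G) := by
      rw [mem_centralizer_singleton_iff]
      exact ((hmemC a).mp a.2).symm
    have := Subgroup.orderOf_dvd_natCard _ htC
    rw [card_centralizer_three h _ ha', ht] at this
    norm_num at this
  have h5 : ¬ 5 ∣ Nat.card C := by
    intro h5
    obtain ⟨a, ha⟩ := exists_prime_orderOf_dvd_card' (G := C) 5 h5
    have ha' : orderOf (a : G) = 5 := by rw [Subgroup.orderOf_coe]; exact ha
    have htC : t ∈ centralizer ({(a : G)} : Set G) := by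
      rw [mem_centralizer_singleton_iff]
      exact ((hmemC a).mp a.2).symm
    have := Subgroup.orderOf_dvd_natCard _ htC
    rw [card_centralizer_five h _ ha', ht] at this
    norm_num at this
  have hdvd : Nat.card C ∣ 4080 := by rw [← h]; exact Subgroup.card_subgroup_dvd_card C
  have hd16 : Nat.card C ∣ 16 := by
    have hcop : Nat.Coprime (Nat.card C) 255 := by
      rw [show 255 = 3 * 5 * 17 from rfl]
      apply Nat.Coprime.mul_right
      · apply Nat.Coprime.mul_right
        · exact (Nat.Coprime.symm ((Nat.Prime.coprime_iff_not_dvd Nat.prime_three).mpr h3))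
        · exact (Nat.Coprime.symm ((Nat.Prime.coprime_iff_not_dvd (by norm_num)).mpr h5))
      · exact (Nat.Coprime.symm ((Nat.Prime.coprime_iff_not_dvd (by norm_num)).mpr h17))
    exact hcop.dvd_of_dvd_mul_right (by rw [show 16 * 255 = 4080 from rfl]; exact hdvd)
  have hcls := card_eq_card_conj_mul_card_centralizer t
  rw [h, ← hC] at hcls
  have hle := card_le_255 h (fun x => IsConj t x) (fun x hx => by
    have := orderOf_eq_of_isConj hx
    rw [ht] at this
    rw [← this]
    norm_num)
  have hC16 : Nat.card C = 16 := by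
    have hle16 : Nat.card C ≤ 16 := Nat.le_of_dvd (by norm_num) hd16
    by_contra hne
    have : Nat.card C ≤ 15 := by omega
    have : Nat.card {x : G // IsConj t x} * Nat.card C ≤ 255 * 15 :=
      Nat.mul_le_mul hle this
    omega
  have hcls255 : Nat.card {x : G // IsConj t x} = 255 := by
    rw [hC16] at hcls; omega
  by_cases hc1 : c = 1
  · rw [hc1, one_pow]
  have hco : orderOf c ∣ 16 := by
    rw [← hC16]; exact Subgroup.orderOf_dvd_natCard _ hc
  let q : G → Prop := fun g => g ≠ 1 ∧ orderOf g ∣ 16
  have hq : ∀ g, q g → orderOf g ≠ 17 ∧ ¬ orderOf g ∣ 15 := by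
    rintro g ⟨hg1, hg16⟩
    constructor
    · intro h17'; rw [h17'] at hg16; norm_num at hg16
    · intro h15
      have := Nat.dvd_gcd hg16 h15
      norm_num at this
      exact hg1 this
  have hqle := card_le_255 h q hq
  let ι : {x : G // IsConj t x} → {g : G // q g} := fun x => ⟨x.1, by
    have := orderOf_eq_of_isConj x.2
    rw [ht] at this
    constructor
    · intro h1
      rw [h1, orderOf_one] at this
      omega
    · rw [← this]; norm_num⟩
  have hι : Function.Injective ι := by
    intro a b hab
    apply Subtype.ext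
    exact congrArg (fun z : {g : G // q g} => z.1) hab
  have hbij := hι.bijective_of_nat_card_le (by rw [hcls255]; exact hqle)
  obtain ⟨x, hx⟩ := hbij.2 ⟨c, hc1, hco⟩
  have hxc : x.1 = c := congrArg (fun z : {g : G // q g} => z.1) hx
  have := orderOf_eq_of_isConj x.2
  rw [hxc, ht] at this
  rw [this]
  exact pow_orderOf_eq_one c

end Cfsg.Agent.Lib.Helper22.S4080
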