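import Mathlib
import Cfsg.Agent.Lib.Helper7.SimpleTools
import Cfsg.Agent.Lib.Helper7.Involution
import Cfsg.Agent.Lib.Helper4.S168a
import Cfsg.Agent.S1018

set_option autoImplicit false
set_option linter.style.haveILetI false
set_option linter.unusedSectionVars false

/-!
# Simple groups of order 504: Sylow 7-subgroups
-/

namespace Cfsg.Agent.Lib.Helper22.S504

open Subgroup Cfsg.Agent.Lib.Helper7 Cfsg.Agent.Lib.Helper4

variable {G : Type*} [Group G] [Finite G] [IsSimpleGroup G]

theorem not_comm (h : Nat.card G = 504) : ¬ IsMulCommutative G :=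
  not_comm_of_card_not_prime (by rw [h]; norm_num)

theorem card_P7 (h : Nat.card G = 504) (P : Sylow 7 G) :
    Nat.card (P : Subgroup G) = 7 ∧ (P : Subgroup G).index = 72 :=
  haveI : Fact (Nat.Prime 7) := ⟨by norm_num⟩
  sylow_card_index_of_exact (p := 7) (m := 72) (by rw [h]) (by norm_num) P

theorem card_P3 (h : Nat.card G = 504) (P : Sylow 3 G) :
    Nat.card (P : Subgroup G) = 3 ^ 2 ∧ (P : Subgroup G).index = 56 :=
  haveI : Fact (Nat.Prime 3) := ⟨by norm_num⟩
  sylow_card_index_of_pow (p := 3) (k := 2) (m := 56) (by rw [h]; norm_num) (by norm_num) P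

theorem card_P2 (h : Nat.card G = 504) (P : Sylow 2 G) :
    Nat.card (P : Subgroup G) = 2 ^ 3 ∧ (P : Subgroup G).index = 63 :=
  haveI : Fact (Nat.Prime 2) := ⟨by norm_num⟩
  sylow_card_index_of_pow (p := 2) (k := 3) (m := 63) (by rw [h]; norm_num) (by norm_num) P

theorem index_gt_six (h : Nat.card G = 504) (H : Subgroup G) (hH : H ≠ ⊤) : 6 < H.index := by
  by_contra hle
  rw [not_lt] at hle
  have := card_dvd_factorial_of_index_le H hH hle
  rw [h] at this
  norm_num [Nat.factorial] at this

theorem center_trivial (h : Nat.card G = 504) (x : G) (hx : ∀ g : G, g * x = x * g) : x = 1 := by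
  have hxc : x ∈ center G := by
    rw [mem_center_iff]
    exact hx
  rcases (inferInstance : (center G).Normal).eq_bot_or_eq_top with h0 | h0
  · rw [h0, mem_bot] at hxc
    exact hxc
  · exfalso
    apply not_comm h
    refine ⟨⟨fun a b => ?_⟩⟩
    have : a ∈ center G := by rw [h0]; trivial
    exact (mem_center_iff.mp this b).symm

/-- The action of `G` on the cosets of a proper subgroup is faithful. -/
theorem eq_one_of_smul_eq (H : Subgroup G) (hH : H ≠ ⊤) (c : G)
    (hc : ∀ x : G ⧸ H, c • x = x) : c = 1 := by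
  have hcore : H.normalCore = ⊥ := by
    rcases (inferInstance : H.normalCore.Normal).eq_bot_or_eq_top with h0 | h0
    · exact h0
    · exfalso
      apply hH
      rw [eq_top_iff, ← h0]
      exact normalCore_le H
  have : c ∈ H.normalCore := by
    rw [normalCore_eq_ker, MonoidHom.mem_ker]
    ext x
    exact hc x
  rw [hcore, mem_bot] at this
  exact this

theorem card_sylow7_cases (h : Nat.card G = 504) :
    Nat.card (Sylow 7 G) = 8 ∨ Nat.card (Sylow 7 G) = 36 := by
  haveI : Fact (Nat.Prime 7) := ⟨by norm_num⟩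
  obtain ⟨P⟩ : Nonempty (Sylow 7 G) := Sylow.nonempty
  obtain ⟨hPc, hPi⟩ := card_P7 h P
  have h1 : Nat.card (Sylow 7 G) ≡ 1 [MOD 7] := card_sylow_modEq_one 7 G
  have h2 : Nat.card (Sylow 7 G) ∣ 72 := by rw [← hPi]; exact Sylow.card_dvd_index P
  have h3 : Nat.card (Sylow 7 G) ≠ 1 :=
    card_sylow_ne_one P (by rw [hPc]; norm_num) (by rw [hPc, h]; norm_num)
  have h4 : Nat.card (Sylow 7 G) ∈ Nat.divisors 72 := Nat.mem_divisors.mpr ⟨h2, by norm_num⟩
  have hd : Nat.divisors 72 = {1, 2, 3, 4, 6, 8, 9, 12, 18, 24, 36, 72} := by decide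
  rw [hd] at h4
  simp only [Finset.mem_insert, Finset.mem_singleton] at h4
  rcases h4 with h | h | h | h | h | h | h | h | h | h | h | h
  all_goals first
    | (left; exact h)
    | (right; exact h)
    | exact absurd h h3
    | (rw [h] at h1; exact absurd h1 (by decide))

end Cfsg.Agent.Lib.Helper22.S504
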