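import Cfsg.Agent.Lib.Helper22.S504a

set_option autoImplicit false
set_option linter.style.haveILetI false
set_option linter.unusedSectionVars false

namespace Cfsg.Agent.Lib.Helper22.S504

open Subgroup Cfsg.Agent.Lib.Helper7 Cfsg.Agent.Lib.Helper4

variable {G : Type*} [Group G] [Finite G] [IsSimpleGroup G]

/-- Two commuting permutations `σ` (`σ^3=1`) and `τ` (`τ^7 = 1`, exactly one fixed point `x₀`, also fixed
by `σ`) of a set of `8` elements: `σ = 1`. -/
theorem perm_eight_aux {X : Type*} [Fintype X] [DecidableEq X] (hX : Fintype.card X = 8)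
    (σ τ : Equiv.Perm X) (hσ : σ ^ 3 = 1) (hτ : τ ^ 7 = 1) (hcomm : σ * τ = τ * σ)
    (x₀ : X) (hx₀ : σ x₀ = x₀) (hfix : ∀ x, τ x = x → x = x₀) (hτ₀ : τ x₀ = x₀) : σ = 1 := by
  haveI : Fact (Nat.Prime 7) := ⟨by norm_num⟩
  haveI : Fact (Nat.Prime 3) := ⟨by norm_num⟩
  -- the fixed point set of σ
  let p : X → Prop := fun x => σ x = x
  have hp : ∀ x, p (τ x) ↔ p x := by
    intro x
    change σ (τ x) = τ x ↔ σ x = x
    have : σ (τ x) = τ (σ x) := by
      have := congrArg (fun f : Equiv.Perm X => f x) hcomm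
      simpa using this
    rw [this]
    exact τ.injective.eq_iff
  let τ' : Equiv.Perm {x // p x} := τ.subtypePerm hp
  have hτ' : τ' ^ 7 ^ 1 = 1 := by
    rw [pow_one]
    ext x
    simp only [τ', Equiv.Perm.subtypePerm_pow, Equiv.Perm.subtypePerm_apply, hτ]
    simp
  have h1 := Equiv.Perm.card_compl_support_modEq hτ'
  have hsupp : (Equiv.Perm.support τ')ᶜ = {⟨x₀, hx₀⟩} := by
    ext x
    simp only [Finset.mem_compl, Equiv.Perm.mem_support, not_not, Finset.mem_singleton]
    constructor
    · intro hx
      apply Subtype.ext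
      apply hfix
      have := congrArg Subtype.val hx
      simpa [τ'] using this
    · rintro rfl
      apply Subtype.ext
      simp [τ', hτ₀]
  rw [hsupp, Finset.card_singleton] at h1
  have hσ' : σ ^ 3 ^ 1 = 1 := by rw [pow_one]; exact hσ
  have h2 := Equiv.Perm.card_compl_support_modEq hσ'
  have hcard : (Equiv.Perm.support σ)ᶜ.card = Fintype.card {x // p x} := by
    rw [Fintype.card_subtype]
    congr 1
    ext x
    simp [p]
  rw [hcard, hX] at h2
  have hle : Fintype.card {x // p x} ≤ 8 := by
    rw [← hX]; exact Fintype.card_subtype_le p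
  have h8 : Fintype.card {x // p x} = 8 := by
    unfold Nat.ModEq at h1 h2
    omega
  ext x
  have : Fintype.card {x // p x} = Fintype.card X := by rw [h8, hX]
  by_contra hx
  have hlt := Fintype.card_subtype_lt (p := p) (x := x) hx
  omega

theorem card_sylow7 (h : Nat.card G = 504) : Nat.card (Sylow 7 G) = 36 := by
  classical
  haveI : Fact (Nat.Prime 7) := ⟨by norm_num⟩
  haveI : Fact (Nat.Prime 3) := ⟨by norm_num⟩
  rcases card_sylow7_cases h with hn | hn
  swap
  · exact hn
  exfalso
  obtain ⟨P⟩ : Nonempty (Sylow 7 G) := Sylow.nonempty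
  obtain ⟨hPc, hPi⟩ := card_P7 h P
  have hNc : Nat.card (normalizer ((P : Subgroup G) : Set G)) = 63 := by
    have := card_sylow_mul_card_normalizer P
    rw [hn, h] at this
    omega
  have hrel := relIndex_centralizer_normalizer_dvd_of_prime (P : Subgroup G) hPc
  have hmul := card_centralizer_mul_relIndex (P : Subgroup G)
  rw [hNc] at hmul
  have h3C : 3 ∣ Nat.card (centralizer ((P : Subgroup G) : Set G)) := by
    generalize (centralizer ((P : Subgroup G) : Set G)).relIndex
      (normalizer ((P : Subgroup G) : Set G)) = r at hrel hmul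
    generalize Nat.card (centralizer ((P : Subgroup G) : Set G)) = k at hmul
    have hr63 : r ∣ 63 := ⟨k, by rw [← hmul, mul_comm]⟩
    have hr3 : r ∣ 3 := by
      have := Nat.dvd_gcd hr63 hrel
      norm_num at this
      exact this
    rcases (Nat.dvd_prime Nat.prime_three).mp hr3 with h1 | h1
    · rw [h1, mul_one] at hmul
      rw [hmul]; norm_num
    · rw [h1] at hmul
      have : k = 21 := by omega
      rw [this]; norm_num
  obtain ⟨c, hc⟩ := exists_prime_orderOf_dvd_card'
    (G := centralizer ((P : Subgroup G) : Set G)) 3 h3C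
  obtain ⟨y, hy⟩ := exists_prime_orderOf_dvd_card' (G := (P : Subgroup G)) 7 (by rw [hPc])
  have hy' : orderOf (y : G) = 7 := by rw [Subgroup.orderOf_coe]; exact hy
  have hc' : orderOf (c : G) = 3 := by rw [Subgroup.orderOf_coe]; exact hc
  have hcy : (c : G) * (y : G) = (y : G) * (c : G) := by
    have := (mem_centralizer_iff.mp c.2) (y : G) y.2
    exact this.symm
  set N := normalizer ((P : Subgroup G) : Set G) with hN
  have hNtop : N ≠ ⊤ := by
    intro htop
    rw [htop, Subgroup.card_top, h] at hNc
    omega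
  haveI : Fintype (G ⧸ N) := Fintype.ofFinite _
  have hX : Fintype.card (G ⧸ N) = 8 := by
    have hidx : Nat.card (Sylow 7 G) = N.index := Sylow.card_eq_index_normalizer P
    rw [← Nat.card_eq_fintype_card, ← Subgroup.index_eq_card, ← hidx, hn]
  have hfixy := (Cfsg.Agent.S1018.result 7 P hPc).1 (y : G) hy'
  have hcN : (c : G) ∈ N := centralizer_le_normalizer _ c.2
  have hyN : (y : G) ∈ N := le_normalizer y.2
  have hfix0 : ∀ g : G, g ∈ N → g • (QuotientGroup.mk 1 : G ⧸ N) = QuotientGroup.mk 1 := by
    intro g hg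
    rw [MulAction.Quotient.smul_mk, QuotientGroup.eq]
    simpa using hg
  have hfixy' : ∀ x : G ⧸ N, (y : G) • x = x → x = QuotientGroup.mk 1 := by
    intro x hx
    rw [Nat.card_eq_one_iff_unique] at hfixy
    obtain ⟨hsub, -⟩ := hfixy
    have := @Subsingleton.elim _ hsub
      (⟨x, hx⟩ : MulAction.fixedBy (G ⧸ N) (y : G)) ⟨QuotientGroup.mk 1, hfix0 _ hyN⟩
    exact congrArg Subtype.val this
  have hy7 : (y : G) ^ 7 = 1 := by
    have := pow_orderOf_eq_one (y : G)
    rwa [hy'] at this
  have hc3 : (c : G) ^ 3 = 1 := by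
    have := pow_orderOf_eq_one (c : G)
    rwa [hc'] at this
  have hσ1 := perm_eight_aux hX (MulAction.toPermHom G (G ⧸ N) (c : G))
    (MulAction.toPermHom G (G ⧸ N) (y : G))
    (by rw [← map_pow, hc3, map_one])
    (by rw [← map_pow, hy7, map_one])
    (by rw [← map_mul, ← map_mul, hcy])
    (QuotientGroup.mk 1) (hfix0 _ hcN) hfixy' (hfix0 _ hyN)
  have hc1 : (c : G) = 1 := by
    apply eq_one_of_smul_eq N hNtop
    intro x
    have := congrArg (fun f : Equiv.Perm (G ⧸ N) => f x) hσ1
    simpa using this
  rw [hc1, orderOf_one] at hc'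
  omega



theorem card_N7 (h : Nat.card G = 504) (P : Sylow 7 G) :
    Nat.card (normalizer ((P : Subgroup G) : Set G)) = 14 := by
  haveI : Fact (Nat.Prime 7) := ⟨by norm_num⟩
  have := card_sylow_mul_card_normalizer P
  rw [card_sylow7 h, h] at this
  omega

theorem cent7 (h : Nat.card G = 504) (x : G) (hx : orderOf x = 7) :
    centralizer ({x} : Set G) = zpowers x :=
  haveI : Fact (Nat.Prime 7) := ⟨by norm_num⟩
  cent_eq_zpowers_of_card_normalizer (not_comm h) (p := 7) (q := 2) Nat.prime_two
    (fun P => (card_P7 h P).1) (fun P => by rw [card_N7 h P]) x hx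

theorem card_orderOf_seven (h : Nat.card G = 504) :
    Nat.card {g : G // orderOf g = 7} = 216 := by
  haveI : Fact (Nat.Prime 7) := ⟨by norm_num⟩
  obtain ⟨x, hx⟩ := exists_prime_orderOf_dvd_card' (G := G) 7 (by rw [h]; norm_num)
  rw [psc_card_orderOf_eq (by norm_num) hx (cent7 h x hx), card_sylow7 h]

/-- An element commuting with an element of order `7` is a power of it. -/
theorem mem_zpowers_of_commute (h : Nat.card G = 504) (x g : G) (hx : orderOf x = 7)
    (hg : g * x = x * g) : g ∈ zpowers x := by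
  rw [← cent7 h x hx, mem_centralizer_singleton_iff]
  exact hg

/-- An element commuting with an element of order `7` has order `1` or `7`. -/
theorem orderOf_dvd_seven_of_commute (h : Nat.card G = 504) (x g : G) (hx : orderOf x = 7)
    (hg : g * x = x * g) : orderOf g ∣ 7 := by
  have := Subgroup.orderOf_dvd_natCard _ (mem_zpowers_of_commute h x g hx hg)
  rwa [Nat.card_zpowers, hx] at this

/-- A cyclic group of order `7` acting freely on `7` points is transitive. -/
theorem exists_pow_smul_eq {X : Type*} [Fintype X] [MulAction G X] (x : G) (hx : orderOf x = 7)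
    (hX : Fintype.card X = 7) (hfree : ∀ a : X, ∀ k : ℕ, x ^ k • a = a → x ^ k = 1) (a b : X) :
    ∃ i : ℕ, x ^ i • a = b := by
  classical
  let f : Fin 7 → X := fun i => x ^ (i : ℕ) • a
  have hinj : Function.Injective f := by
    have key : ∀ i j : Fin 7, (i : ℕ) ≤ (j : ℕ) → f i = f j → i = j := by
      intro i j hij hf
      have h1 : x ^ ((j : ℕ) - (i : ℕ)) • (x ^ (i : ℕ) • a) = x ^ (i : ℕ) • a := by
        rw [← mul_smul, ← pow_add, Nat.sub_add_cancel hij]
        exact hf.symm
      have h2 := hfree _ _ h1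
      have h3 : 7 ∣ (j : ℕ) - (i : ℕ) := by
        have := orderOf_dvd_of_pow_eq_one h2
        rwa [hx] at this
      apply Fin.ext
      have := i.2
      have := j.2
      omega
    intro i j hf
    rcases le_total (i : ℕ) (j : ℕ) with hij | hij
    · exact key i j hij hf
    · exact (key j i hij hf.symm).symm
  have hsurj : Function.Surjective f :=
    ((Fintype.bijective_iff_injective_and_card f).mpr ⟨hinj, by rw [Fintype.card_fin, hX]⟩).2
  obtain ⟨i, hi⟩ := hsurj b
  exact ⟨i, hi⟩

end Cfsg.Agent.Lib.Helper22.S504
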