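import Cfsg.Agent.Lib.Helper22.S504b
import Cfsg.Agent.Lib.Helper4.S360a

set_option autoImplicit false
set_option linter.style.haveILetI false
set_option linter.unusedSectionVars false

namespace Cfsg.Agent.Lib.Helper22.S504

open Subgroup Cfsg.Agent.Lib.Helper7 Cfsg.Agent.Lib.Helper4

variable {G : Type*} [Group G] [Finite G] [IsSimpleGroup G]

/-- A simple group of order `504` has no subgroup of order `72`. -/
theorem no_card72 (h : Nat.card G = 504) (M : Subgroup G) : Nat.card M ≠ 72 := by
  classical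
  intro hM
  haveI : Fact (Nat.Prime 7) := ⟨by norm_num⟩
  haveI : Fact (Nat.Prime 2) := ⟨Nat.prime_two⟩
  obtain ⟨P⟩ : Nonempty (Sylow 7 G) := Sylow.nonempty
  obtain ⟨hPc, hPi⟩ := card_P7 h P
  have hNc := card_N7 h P
  obtain ⟨y, hy⟩ := exists_prime_orderOf_dvd_card' (G := (P : Subgroup G)) 7 (by rw [hPc])
  obtain ⟨s, hs⟩ := exists_prime_orderOf_dvd_card'
    (G := normalizer ((P : Subgroup G) : Set G)) 2 (by rw [hNc]; norm_num)
  obtain ⟨x, hxP⟩ := y
  obtain ⟨t, htN⟩ := s
  have hx : orderOf x = 7 := by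
    have := Subgroup.orderOf_coe (⟨x, hxP⟩ : (P : Subgroup G))
    rw [hy] at this
    exact this
  have ht : orderOf t = 2 := by
    have := Subgroup.orderOf_coe (⟨t, htN⟩ : normalizer ((P : Subgroup G) : Set G))
    rw [hs] at this
    exact this
  have hx7 : x ^ 7 = 1 := by rw [← hx]; exact pow_orderOf_eq_one x
  have ht2 : t ^ 2 = 1 := by rw [← ht]; exact pow_orderOf_eq_one t
  have hPz : zpowers x = (P : Subgroup G) := by
    apply Subgroup.eq_of_le_of_card_ge
    · rw [zpowers_le]; exact hxP
    · rw [Nat.card_zpowers, hx, hPc]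
  have hMi : M.index = 7 := by
    have := M.card_mul_index
    rw [hM, h] at this
    omega
  haveI : Fintype (G ⧸ M) := Fintype.ofFinite _
  have hX : Fintype.card (G ⧸ M) = 7 := by
    rw [← Nat.card_eq_fintype_card, ← Subgroup.index_eq_card, hMi]
  -- freeness
  have hfree : ∀ a : G ⧸ M, ∀ k : ℕ, x ^ k • a = a → x ^ k = 1 := by
    intro a k hk
    obtain ⟨g, rfl⟩ := QuotientGroup.mk_surjective a
    rw [MulAction.Quotient.smul_mk, QuotientGroup.eq] at hk
    set z := x ^ k with hz
    have hz7 : z ^ 7 = 1 := by rw [hz, ← pow_mul, mul_comm, pow_mul, hx7, one_pow]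
    have hm72 : ((z • g)⁻¹ * g) ^ 72 = 1 := by
      have := pow_card_eq_one' (G := M) (x := ⟨_, hk⟩)
      rw [hM] at this
      have := congrArg Subtype.val this
      simpa using this
    have hzg : z = g * ((z • g)⁻¹ * g)⁻¹ * g⁻¹ := by
      rw [smul_eq_mul]; group
    have hz72 : z ^ 72 = 1 := by
      rw [hzg, conj_pow, inv_pow, hm72]; group
    have h1 : orderOf z ∣ 7 := orderOf_dvd_of_pow_eq_one hz7
    have h2 : orderOf z ∣ 72 := orderOf_dvd_of_pow_eq_one hz72
    have h3 := Nat.dvd_gcd h1 h2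
    norm_num at h3
    exact h3
  have h4 := four_dvd_card_support_of_sq_eq_one (G := G) (X := G ⧸ M) (by rw [h]; norm_num) t ht2
  have h5 := card_support_add_card_fixedBy (G := G) (X := G ⧸ M) t
  rw [hX] at h5
  have hsub : Subsingleton (MulAction.fixedBy (G ⧸ M) t) := by
    refine ⟨fun a b => ?_⟩
    obtain ⟨a, ha⟩ := a
    obtain ⟨b, hb⟩ := b
    rw [MulAction.mem_fixedBy] at ha hb
    apply Subtype.ext
    change a = b
    obtain ⟨i, hi⟩ := exists_pow_smul_eq x hx hX hfree a b
    -- u = t⁻¹ (x^i)⁻¹ t x^i fixes a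
    have hu : (t⁻¹ * (x ^ i)⁻¹ * t * x ^ i) • a = a := by
      rw [mul_smul, hi, mul_smul, hb, mul_smul, ← hi, inv_smul_smul]
      rw [inv_smul_eq_iff, ha]
    have huP : t⁻¹ * (x ^ i)⁻¹ * t * x ^ i ∈ (P : Subgroup G) := by
      have hxi : x ^ i ∈ (P : Subgroup G) := pow_mem hxP i
      have h1 : t⁻¹ * (x ^ i)⁻¹ * t ∈ (P : Subgroup G) := by
        have := (mem_normalizer_iff.mp (inv_mem htN)) ((x ^ i)⁻¹)
        rw [inv_inv] at this
        exact this.mp (inv_mem hxi)
      exact mul_mem h1 hxi
    rw [← hPz, ← mem_powers_iff_mem_zpowers] at huP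
    obtain ⟨j, hj⟩ := huP
    replace hj : x ^ j = t⁻¹ * (x ^ i)⁻¹ * t * x ^ i := hj
    rw [← hj] at hu
    have hu1 := hfree a j hu
    rw [hj] at hu1
    have hcomm : t * x ^ i = x ^ i * t := by
      have : t⁻¹ * (x ^ i)⁻¹ * t * x ^ i = 1 := hu1
      calc t * x ^ i = x ^ i * t * (t⁻¹ * (x ^ i)⁻¹ * t * x ^ i) := by group
        _ = x ^ i * t := by rw [this, mul_one]
    by_cases hxi1 : x ^ i = 1
    · rw [← hi, hxi1, one_smul]
    · exfalso
      have hxi7 : orderOf (x ^ i) = 7 := by
        have : orderOf (x ^ i) ∣ 7 := by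
          apply orderOf_dvd_of_pow_eq_one
          rw [← pow_mul, mul_comm, pow_mul, hx7, one_pow]
        rcases (Nat.dvd_prime (by norm_num : Nat.Prime 7)).mp this with h1 | h1
        · rw [orderOf_eq_one_iff] at h1
          exact absurd h1 hxi1
        · exact h1
      have := orderOf_dvd_seven_of_commute h (x ^ i) t hxi7 hcomm
      rw [ht] at this
      norm_num at this
  have hle : Nat.card (MulAction.fixedBy (G ⧸ M) t) ≤ 1 :=
    Finite.card_le_one_iff_subsingleton.mpr hsub
  omega


theorem card_sylow3 (h : Nat.card G = 504) : Nat.card (Sylow 3 G) = 28 := by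
  haveI : Fact (Nat.Prime 3) := ⟨by norm_num⟩
  obtain ⟨P⟩ : Nonempty (Sylow 3 G) := Sylow.nonempty
  obtain ⟨hPc, hPi⟩ := card_P3 h P
  have h1 : Nat.card (Sylow 3 G) ≡ 1 [MOD 3] := card_sylow_modEq_one 3 G
  have h2 : Nat.card (Sylow 3 G) ∣ 56 := by rw [← hPi]; exact Sylow.card_dvd_index P
  have h3 : Nat.card (Sylow 3 G) ≠ 1 :=
    card_sylow_ne_one P (by rw [hPc]; norm_num) (by rw [hPc, h]; norm_num)
  have hmul := card_sylow_mul_card_normalizer P
  rw [h] at hmul
  have hidx : Nat.card (Sylow 3 G) = (normalizer ((P : Subgroup G) : Set G)).index :=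
    Sylow.card_eq_index_normalizer P
  have hNtop : normalizer ((P : Subgroup G) : Set G) ≠ ⊤ := by
    intro htop
    rw [htop, Subgroup.index_top] at hidx
    exact h3 hidx
  have h6 := index_gt_six h _ hNtop
  rw [← hidx] at h6
  have h72 := no_card72 h (normalizer ((P : Subgroup G) : Set G))
  have h4 : Nat.card (Sylow 3 G) ∈ Nat.divisors 56 := Nat.mem_divisors.mpr ⟨h2, by norm_num⟩
  have hd : Nat.divisors 56 = {1, 2, 4, 7, 8, 14, 28, 56} := by decide
  rw [hd] at h4
  simp only [Finset.mem_insert, Finset.mem_singleton] at h4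
  rcases h4 with h' | h' | h' | h' | h' | h' | h' | h'
  all_goals first
    | exact h'
    | exact absurd h' h3
    | (rw [h'] at h1; exact absurd h1 (by decide))
    | (rw [h'] at h6; omega)
    | (exfalso; rw [h'] at hmul; apply h72; omega)

theorem card_N3 (h : Nat.card G = 504) (P : Sylow 3 G) :
    Nat.card (normalizer ((P : Subgroup G) : Set G)) = 18 := by
  haveI : Fact (Nat.Prime 3) := ⟨by norm_num⟩
  have := card_sylow_mul_card_normalizer P
  rw [card_sylow3 h, h] at this
  omega

/-- A subgroup of order `9` normalized by a Sylow `3`-subgroup equals it. -/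
theorem eq_of_normal9 (h : Nat.card G = 504) (P : Sylow 3 G) (K : Subgroup G)
    (hK : Nat.card K = 9) (hPK : (P : Subgroup G) ≤ normalizer (K : Set G)) :
    (P : Subgroup G) = K := by
  haveI : Fact (Nat.Prime 3) := ⟨by norm_num⟩
  have hKp : IsPGroup 3 K := IsPGroup.of_card (n := 2) (by rw [hK]; norm_num)
  have hsup : IsPGroup 3 ((P : Subgroup G) ⊔ K : Subgroup G) :=
    IsPGroup.to_sup_of_normal_right' P.2 hKp hPK
  have h1 : (P : Subgroup G) ⊔ K = P := P.is_maximal' hsup le_sup_left
  have hKP : K ≤ (P : Subgroup G) := by rw [← h1]; exact le_sup_right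
  symm
  apply Subgroup.eq_of_le_of_card_ge hKP
  rw [hK, (card_P3 h P).1]
  norm_num

/-- Distinct Sylow `3`-subgroups of a simple group of order `504` intersect trivially. -/
theorem sylow3_TI (h : Nat.card G = 504) (P Q : Sylow 3 G) (hPQ : P ≠ Q) (x : G)
    (hxP : x ∈ (P : Subgroup G)) (hxQ : x ∈ (Q : Subgroup G)) : x = 1 := by
  haveI : Fact (Nat.Prime 3) := ⟨by norm_num⟩
  haveI : Fact (Nat.Prime 2) := ⟨Nat.prime_two⟩
  haveI : Fact (Nat.Prime 7) := ⟨by norm_num⟩
  by_contra hx1
  have hPc := (card_P3 h P).1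
  have hQc := (card_P3 h Q).1
  have hPcomm := comm_of_card_prime_sq (p := 3) (P : Subgroup G) hPc
  have hQcomm := comm_of_card_prime_sq (p := 3) (Q : Subgroup G) hQc
  set C := centralizer ({x} : Set G) with hC
  have hmemC : ∀ g : G, g ∈ C ↔ g * x = x * g := by
    intro g
    rw [hC, mem_centralizer_iff]
    constructor
    · intro hg; exact (hg x rfl).symm
    · intro hg y hy; rw [Set.mem_singleton_iff.mp hy]; exact hg.symm
  have hPC : (P : Subgroup G) ≤ C := fun g hg => (hmemC g).mpr (hPcomm g hg x hxP)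
  have hQC : (Q : Subgroup G) ≤ C := fun g hg => (hmemC g).mpr (hQcomm g hg x hxQ)
  have hxord : orderOf x ∣ 3 ^ 2 := by
    rw [← hPc]
    exact Subgroup.orderOf_dvd_natCard _ hxP
  have h9 : 9 ∣ Nat.card C := by
    have := Subgroup.card_dvd_of_le hPC
    rwa [hPc] at this
  obtain ⟨m, hm⟩ := h9
  have hidxmul : C.index * Nat.card C = 504 := by rw [← h]; exact C.index_mul_card
  -- no element of order 7 in C
  have h7 : ¬ 7 ∣ Nat.card C := by
    intro h7
    obtain ⟨c, hc⟩ := exists_prime_orderOf_dvd_card' (G := C) 7 h7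
    have hc' : orderOf (c : G) = 7 := by rw [Subgroup.orderOf_coe]; exact hc
    have hcx : x * (c : G) = (c : G) * x := ((hmemC c).mp c.2).symm
    have h1 := orderOf_dvd_seven_of_commute h (c : G) x hc' hcx
    have h2 := Nat.dvd_gcd h1 hxord
    norm_num at h2
    exact hx1 h2
  -- Sylow 3-subgroups of C
  set P' : Sylow 3 C := P.subtype hPC with hP'
  set Q' : Sylow 3 C := Q.subtype hQC with hQ'
  have hP'Q' : P' ≠ Q' := fun hh => hPQ (Sylow.subtype_injective hh)
  have hP'card : Nat.card (P' : Subgroup C) = 9 := by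
    rw [hP', Sylow.coe_subtype]
    rw [Nat.card_congr (Subgroup.subgroupOfEquivOfLe hPC).toEquiv, hPc]
    norm_num
  have hn1 : Nat.card (Sylow 3 C) ≠ 1 := by
    intro h1
    have hsub : Subsingleton (Sylow 3 C) := (Nat.card_eq_one_iff_unique.mp h1).1
    exact hP'Q' (Subsingleton.elim _ _)
  have hnmod : Nat.card (Sylow 3 C) % 3 = 1 := by
    have := card_sylow_modEq_one 3 C
    unfold Nat.ModEq at this
    rw [this]
  have hndvd : Nat.card (Sylow 3 C) ∣ m := by
    have h1 := Sylow.card_dvd_index P'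
    have h2 : (P' : Subgroup C).index * 9 = 9 * m := by
      have := (P' : Subgroup C).index_mul_card
      rwa [hP'card, hm] at this
    have h3 : (P' : Subgroup C).index = m := by omega
    rwa [h3] at h1
  have hm4 : m = 4 := by
    have h72 := no_card72 h C
    rw [hm] at hidxmul h7 h72
    have hmpos : 0 < m := by
      rcases Nat.eq_zero_or_pos m with h0 | h0
      · rw [h0] at hidxmul; omega
      · exact h0
    have hm56 : m ∣ 56 := by
      refine ⟨C.index, ?_⟩
      nlinarith
    have hmle : m ≤ 56 := Nat.le_of_dvd (by norm_num) hm56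
    have hnle := Nat.le_of_dvd hmpos hndvd
    have hm' : m ∈ Nat.divisors 56 := Nat.mem_divisors.mpr ⟨hm56, by norm_num⟩
    have hd : Nat.divisors 56 = {1, 2, 4, 7, 8, 14, 28, 56} := by decide
    rw [hd] at hm'
    simp only [Finset.mem_insert, Finset.mem_singleton] at hm'
    rcases hm' with h' | h' | h' | h' | h' | h' | h' | h'
    all_goals first
      | exact h'
      | (exfalso; rw [h'] at h72; exact h72 rfl)
      | (exfalso; rw [h'] at h7; revert h7; decide)
      | (exfalso
         rw [h'] at hnle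
         have hnpos : 0 < Nat.card (Sylow 3 C) := Nat.card_pos
         generalize Nat.card (Sylow 3 C) = n at *
         interval_cases n <;> omega)
  have hCcard : Nat.card C = 36 := by rw [hm, hm4]
  -- the central element
  have hxC : x ∈ C := (hmemC x).mpr rfl
  have hord : 3 ∣ orderOf (⟨x, hxC⟩ : C) := by
    rw [Subgroup.orderOf_mk]
    obtain ⟨k, -, hk⟩ := (Nat.dvd_prime_pow Nat.prime_three).mp hxord
    rcases Nat.eq_zero_or_pos k with h0 | h0
    · exfalso
      rw [h0, pow_zero, orderOf_eq_one_iff] at hk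
      exact hx1 hk
    · rw [hk]
      exact dvd_pow_self 3 h0.ne'
  have hcen : ∀ g : C, g * ⟨x, hxC⟩ = ⟨x, hxC⟩ * g := by
    intro g
    apply Subtype.ext
    exact (hmemC g).mp g.2
  rcases s360_l36 hCcard ⟨x, hxC⟩ hord hcen with ⟨T, hTn, hTc⟩ | ⟨K, hKn, hKc⟩
  · -- normal subgroup of order 4
    set T' := T.map C.subtype with hT'
    have hT'c : Nat.card T' = 4 := by
      rw [hT', Subgroup.card_map_of_injective C.subtype_injective, hTc]
    have hCN : C ≤ normalizer (T' : Set G) := by
      have h1 := le_normalizer_map (H := T) C.subtype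
      rw [normalizer_eq_top_iff.mpr hTn, ← MonoidHom.range_eq_map, range_subtype] at h1
      exact h1
    have hT'p : IsPGroup 2 T' := IsPGroup.of_card (n := 2) (by rw [hT'c]; norm_num)
    obtain ⟨S, hTS⟩ := hT'p.exists_le_sylow
    have hSc := (card_P2 h S).1
    have hSN : (S : Subgroup G) ≤ normalizer (T' : Set G) := by
      rw [← normal_subgroupOf_iff_le_normalizer hTS]
      apply normal_of_index_eq_two
      have h1 := Subgroup.relIndex_mul_relIndex (H := ⊥) (K := T') (L := (S : Subgroup G)) bot_le hTS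
      rw [relIndex_bot_left, relIndex_bot_left, hT'c, hSc] at h1
      change T'.relIndex S = 2
      omega
    set N := normalizer (T' : Set G) with hN
    have hNtop : N ≠ ⊤ := by
      intro htop
      have hnorm : T'.Normal := normalizer_eq_top_iff.mp htop
      rcases hnorm.eq_bot_or_eq_top with h0 | h0
      · rw [h0, Subgroup.card_bot] at hT'c; omega
      · rw [h0, Subgroup.card_top, h] at hT'c; omega
    have hNidx := index_gt_six h N hNtop
    have h36 : 36 ∣ Nat.card N := by
      rw [← hCcard]; exact Subgroup.card_dvd_of_le hCN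
    have h8 : 8 ∣ Nat.card N := by
      have := Subgroup.card_dvd_of_le hSN
      rwa [hSc] at this
    have h72 : 72 ∣ Nat.card N := by
      have := Nat.lcm_dvd h36 h8
      norm_num at this
      exact this
    have hNmul : N.index * Nat.card N = 504 := by rw [← h]; exact N.index_mul_card
    have hN72 := no_card72 h N
    obtain ⟨k, hk⟩ := h72
    rw [hk] at hNmul hN72
    have hkpos : 0 < k := by
      rcases Nat.eq_zero_or_pos k with h0 | h0
      · rw [h0] at hNmul; omega
      · exact h0
    have hk1 : k ≠ 1 := by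
      intro h1; rw [h1] at hN72; exact hN72 rfl
    have : N.index * k = 7 := by nlinarith
    have hk7 : k ∣ 7 := ⟨N.index, by rw [← this, mul_comm]⟩
    rcases (Nat.dvd_prime (by norm_num : Nat.Prime 7)).mp hk7 with h1 | h1
    · exact hk1 h1
    · rw [h1] at this; omega
  · -- normal subgroup of order 9
    set K' := K.map C.subtype with hK'
    have hK'c : Nat.card K' = 9 := by
      rw [hK', Subgroup.card_map_of_injective C.subtype_injective, hKc]
    have hCN : C ≤ normalizer (K' : Set G) := by
      have h1 := le_normalizer_map (H := K) C.subtype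
      rw [normalizer_eq_top_iff.mpr hKn, ← MonoidHom.range_eq_map, range_subtype] at h1
      exact h1
    have h1 := eq_of_normal9 h P K' hK'c (hPC.trans hCN)
    have h2 := eq_of_normal9 h Q K' hK'c (hQC.trans hCN)
    exact hPQ (Sylow.ext (h1.trans h2.symm))

end Cfsg.Agent.Lib.Helper22.S504
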