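import Cfsg.Agent.Lib.Helper22.S504c
import Cfsg.Agent.Lib.Helper4.PscCount

set_option autoImplicit false
set_option linter.style.haveILetI false
set_option linter.unusedSectionVars false

namespace Cfsg.Agent.Lib.Helper22.S504

open Subgroup Cfsg.Agent.Lib.Helper7 Cfsg.Agent.Lib.Helper4

variable {G : Type*} [Group G] [Finite G] [IsSimpleGroup G]

/-- There are at least `225` elements of order dividing `9`. -/
theorem card_orderOf_dvd_nine (h : Nat.card G = 504) :
    225 ≤ Nat.card {g : G // orderOf g ∣ 9} := by
  classical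
  haveI : Fact (Nat.Prime 3) := ⟨by norm_num⟩
  have hmem : ∀ (P : Sylow 3 G) (x : G), x ∈ (P : Subgroup G) → orderOf x ∣ 9 := by
    intro P x hx
    have := Subgroup.orderOf_dvd_natCard _ hx
    rwa [(card_P3 h P).1] at this
  let f : Option (Σ P : Sylow 3 G, {x : (P : Subgroup G) // x ≠ 1}) → {g : G // orderOf g ∣ 9} :=
    fun o => match o with
      | none => ⟨1, by simp⟩
      | some s => ⟨(s.2.1 : G), hmem s.1 _ s.2.1.2⟩
  have hf : Function.Injective f := by
    intro a b hab
    rcases a with _ | ⟨P, x, hx⟩ <;> rcases b with _ | ⟨Q, y, hy⟩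
    · rfl
    · exfalso
      have := congrArg Subtype.val hab
      change (1 : G) = (y : G) at this
      apply hy
      apply Subtype.ext
      exact this.symm
    · exfalso
      have := congrArg Subtype.val hab
      change (x : G) = (1 : G) at this
      apply hx
      apply Subtype.ext
      exact this
    · have hxy : (x : G) = (y : G) := congrArg Subtype.val hab
      have hPQ : P = Q := by
        by_contra hne
        apply hx
        apply Subtype.ext
        exact sylow3_TI h P Q hne (x : G) x.2 (hxy ▸ y.2)
      subst hPQ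
      have : x = y := Subtype.ext hxy
      subst this
      rfl
  have hcard := Nat.card_le_card_of_injective f hf
  have h1 : Nat.card (Option (Σ P : Sylow 3 G, {x : (P : Subgroup G) // x ≠ 1})) = 225 := by
    haveI : Fintype (Sylow 3 G) := Fintype.ofFinite _
    rw [Finite.card_option, Nat.card_sigma]
    have h2 : ∀ P : Sylow 3 G, Nat.card {x : (P : Subgroup G) // x ≠ 1} = 8 := by
      intro P
      rw [card_subtype_ne', (card_P3 h P).1]
      norm_num
    simp only [h2, Finset.sum_const, Finset.card_univ, smul_eq_mul]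
    rw [← Nat.card_eq_fintype_card, card_sylow3 h]
  rw [h1] at hcard
  exact hcard

/-- At most `63` elements have order different from `7` and not dividing `9`. -/
theorem card_le_sixty_three (h : Nat.card G = 504) (q : G → Prop)
    (hq : ∀ g, q g → orderOf g ≠ 7 ∧ ¬ orderOf g ∣ 9) : Nat.card {g : G // q g} ≤ 63 := by
  classical
  have h7 := card_orderOf_seven h
  have h9 := card_orderOf_dvd_nine h
  let f : ({g : G // q g} ⊕ {g : G // orderOf g = 7}) ⊕ {g : G // orderOf g ∣ 9} → G :=
    Sum.elim (Sum.elim (fun a => a.1) (fun a => a.1)) (fun a => a.1)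
  have hf : Function.Injective f := by
    rintro ((⟨a, ha⟩ | ⟨a, ha⟩) | ⟨a, ha⟩) ((⟨b, hb⟩ | ⟨b, hb⟩) | ⟨b, hb⟩) hab
    all_goals
      change a = b at hab
      subst hab
    · rfl
    · exact absurd hb (hq a ha).1
    · exact absurd hb (hq a ha).2
    · exact absurd ha (hq a hb).1
    · rfl
    · rw [ha] at hb; norm_num at hb
    · exact absurd ha (hq a hb).2
    · rw [hb] at ha; norm_num at ha
    · rfl
  have := Nat.card_le_card_of_injective f hf
  rw [Nat.card_sum, Nat.card_sum, h, h7] at this
  omega


theorem orderOf_eq_of_isConj {a b : G} (hab : IsConj a b) : orderOf a = orderOf b := by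
  obtain ⟨c, hc⟩ := isConj_iff.mp hab
  apply SemiconjBy.orderOf_eq c
  change c * a = b * c
  rw [← hc]; group

/-- The centralizer of an element of order `3` lies in the normalizer of a Sylow `3`-subgroup
containing it. -/
theorem mem_normalizer_of_commute (h : Nat.card G = 504) (P : Sylow 3 G) (y g : G)
    (hyP : y ∈ (P : Subgroup G)) (hy1 : y ≠ 1) (hg : g * y = y * g) :
    g ∈ normalizer ((P : Subgroup G) : Set G) := by
  haveI : Fact (Nat.Prime 3) := ⟨by norm_num⟩
  have : g • P = P := by
    by_contra hne
    apply hy1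
    apply sylow3_TI h (g • P) P hne y _ hyP
    rw [Sylow.coe_subgroup_smul, Subgroup.mem_smul_pointwise_iff_exists]
    refine ⟨y, hyP, ?_⟩
    rw [MulAut.smul_def, MulAut.conj_apply, hg]
    group
  exact Sylow.smul_eq_iff_mem_normalizer.mp this

/-- No involution commutes with an element of order `3`. -/
theorem not_commute_two_three (h : Nat.card G = 504) (t y : G) (ht : orderOf t = 2)
    (hy : orderOf y = 3) (hty : t * y = y * t) : False := by
  classical
  haveI : Fact (Nat.Prime 3) := ⟨by norm_num⟩
  haveI : Fact (Nat.Prime 2) := ⟨Nat.prime_two⟩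
  have hcomm : Commute t y := hty
  have ht2 : t ^ 2 = 1 := by rw [← ht]; exact pow_orderOf_eq_one t
  have hy3 : y ^ 3 = 1 := by rw [← hy]; exact pow_orderOf_eq_one y
  have hw6 : orderOf (t * y) = 6 := by
    rw [hcomm.orderOf_mul_eq_mul_orderOf_of_coprime (by rw [ht, hy]; norm_num), ht, hy]
  have hw4 : (t * y) ^ 4 = y := by
    rw [hcomm.mul_pow]
    have : t ^ 4 = 1 := by rw [show 4 = 2 * 2 from rfl, pow_mul, ht2, one_pow]
    rw [this, one_mul, show 4 = 3 + 1 from rfl, pow_add, hy3, one_mul, pow_one]
  have hw3 : (t * y) ^ 3 = t := by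
    rw [hcomm.mul_pow, hy3, mul_one, show 3 = 2 + 1 from rfl, pow_add, ht2, one_mul, pow_one]
  set w := t * y with hw
  have hyp : IsPGroup 3 (zpowers y) :=
    IsPGroup.of_card (n := 1) (by rw [Nat.card_zpowers, hy]; norm_num)
  obtain ⟨P, hP⟩ := hyp.exists_le_sylow
  have hyP : y ∈ (P : Subgroup G) := hP (mem_zpowers y)
  have hy1 : y ≠ 1 := by intro h1; rw [h1, orderOf_one] at hy; omega
  have hPc := (card_P3 h P).1
  have hNc := card_N3 h P
  have hPcomm := comm_of_card_prime_sq (p := 3) (P : Subgroup G) hPc
  set N := normalizer ((P : Subgroup G) : Set G) with hN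
  have hmemC : ∀ g : G, g ∈ centralizer ({w} : Set G) ↔ g * w = w * g := by
    intro g
    rw [mem_centralizer_singleton_iff, eq_comm]
  have hCN : centralizer ({w} : Set G) ≤ N := by
    intro g hg
    rw [hmemC] at hg
    apply mem_normalizer_of_commute h P y g hyP hy1
    rw [← hw4]
    exact ((Commute.pow_right (show Commute g w from hg) 4)).eq
  have h6 : 6 ∣ Nat.card (centralizer ({w} : Set G)) := by
    have hle : zpowers w ≤ centralizer ({w} : Set G) := by
      rw [zpowers_le, hmemC]
    have := Subgroup.card_dvd_of_le hle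
    rwa [Nat.card_zpowers, hw6] at this
  have h18 : Nat.card (centralizer ({w} : Set G)) ∣ 18 := by
    rw [← hNc]; exact Subgroup.card_dvd_of_le hCN
  obtain ⟨k, hk⟩ := h6
  have hk3 : k ∣ 3 := by
    rw [hk] at h18
    exact Nat.dvd_of_mul_dvd_mul_left (by norm_num : 0 < 6) (by simpa using h18)
  rcases (Nat.dvd_prime Nat.prime_three).mp hk3 with h1 | h1
  · -- |C(w)| = 6: the class of w is too large
    rw [h1, mul_one] at hk
    have hcls := card_eq_card_conj_mul_card_centralizer w
    rw [h, hk] at hcls
    have hle := card_le_sixty_three h (fun x => IsConj w x) (fun x hx => by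
      have := orderOf_eq_of_isConj hx
      rw [hw6] at this
      rw [← this]
      norm_num)
    omega
  · -- C(w) = N(P): then N(P) ≤ C(P)
    rw [h1] at hk
    have hCeq : centralizer ({w} : Set G) = N := by
      apply Subgroup.eq_of_le_of_card_ge hCN
      rw [hk, hNc]
    have htP : t ∈ centralizer ((P : Subgroup G) : Set G) := by
      rw [mem_centralizer_iff]
      intro p hp
      have hpw : p * w = w * p := by
        rw [← hmemC, hCeq]
        exact le_normalizer hp
      rw [← hw3]
      exact ((Commute.pow_right (show Commute p w from hpw) 3)).eq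
    have hPC : (P : Subgroup G) ≤ centralizer ((P : Subgroup G) : Set G) := by
      intro a ha
      rw [mem_centralizer_iff]
      intro b hb
      exact hPcomm b hb a ha
    have h9 : 9 ∣ Nat.card (centralizer ((P : Subgroup G) : Set G)) := by
      have := Subgroup.card_dvd_of_le hPC
      rwa [hPc] at this
    have h2 : 2 ∣ Nat.card (centralizer ((P : Subgroup G) : Set G)) := by
      have := Subgroup.orderOf_dvd_natCard _ htP
      rwa [ht] at this
    have h18' : 18 ∣ Nat.card (centralizer ((P : Subgroup G) : Set G)) := by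
      have := Nat.lcm_dvd h9 h2
      norm_num at this
      exact this
    have hCPN : centralizer ((P : Subgroup G) : Set G) = N := by
      apply Subgroup.eq_of_le_of_card_ge (centralizer_le_normalizer _)
      rw [hNc]
      exact Nat.le_of_dvd Nat.card_pos h18'
    exact not_normalizer_le_centralizer (not_comm h) P (by rw [hPc]; norm_num) hPcomm
      (by rw [hCPN])

/-- The centralizer of an involution is an elementary abelian `2`-group. -/
theorem sq_eq_one_of_mem_centralizer (h : Nat.card G = 504) (t : G) (ht : orderOf t = 2)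
    (c : G) (hc : c ∈ centralizer ({t} : Set G)) : c ^ 2 = 1 := by
  classical
  haveI : Fact (Nat.Prime 3) := ⟨by norm_num⟩
  haveI : Fact (Nat.Prime 2) := ⟨Nat.prime_two⟩
  haveI : Fact (Nat.Prime 7) := ⟨by norm_num⟩
  set C := centralizer ({t} : Set G) with hC
  have hmemC : ∀ g : G, g ∈ C ↔ g * t = t * g := by
    intro g
    rw [hC, mem_centralizer_singleton_iff, eq_comm]
  have h7 : ¬ 7 ∣ Nat.card C := by
    intro h7
    obtain ⟨a, ha⟩ := exists_prime_orderOf_dvd_card' (G := C) 7 h7
    have ha' : orderOf (a : G) = 7 := by rw [Subgroup.orderOf_coe]; exact ha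
    have := orderOf_dvd_seven_of_commute h (a : G) t ha' ((hmemC a).mp a.2).symm
    rw [ht] at this
    norm_num at this
  have h3 : ¬ 3 ∣ Nat.card C := by
    intro h3
    obtain ⟨a, ha⟩ := exists_prime_orderOf_dvd_card' (G := C) 3 h3
    have ha' : orderOf (a : G) = 3 := by rw [Subgroup.orderOf_coe]; exact ha
    exact not_commute_two_three h t (a : G) ht ha' ((hmemC a).mp a.2).symm
  have hdvd : Nat.card C ∣ 504 := by rw [← h]; exact Subgroup.card_subgroup_dvd_card C
  have hd8 : Nat.card C ∣ 8 := by
    have hcop : Nat.Coprime (Nat.card C) 63 := by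
      rw [show 63 = 3 ^ 2 * 7 from rfl]
      apply Nat.Coprime.mul_right
      · apply Nat.Coprime.pow_right
        exact (Nat.Coprime.symm ((Nat.Prime.coprime_iff_not_dvd Nat.prime_three).mpr h3))
      · exact (Nat.Coprime.symm ((Nat.Prime.coprime_iff_not_dvd (by norm_num)).mpr h7))
    exact hcop.dvd_of_dvd_mul_right (by rw [show 8 * 63 = 504 from rfl]; exact hdvd)
  have hcls := card_eq_card_conj_mul_card_centralizer t
  rw [h, ← hC] at hcls
  have hle := card_le_sixty_three h (fun x => IsConj t x) (fun x hx => by
    have := orderOf_eq_of_isConj hx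
    rw [ht] at this
    rw [← this]
    norm_num)
  have hC8 : Nat.card C = 8 := by
    have hle8 : Nat.card C ≤ 8 := Nat.le_of_dvd (by norm_num) hd8
    by_contra hne
    have : Nat.card C ≤ 7 := by omega
    have : Nat.card {x : G // IsConj t x} * Nat.card C ≤ 63 * 7 :=
      Nat.mul_le_mul hle this
    omega
  have hcls63 : Nat.card {x : G // IsConj t x} = 63 := by
    rw [hC8] at hcls; omega
  -- every nonidentity element of order dividing 8 is conjugate to t
  by_cases hc1 : c = 1
  · rw [hc1, one_pow]
  have hco : orderOf c ∣ 8 := by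
    rw [← hC8]; exact Subgroup.orderOf_dvd_natCard _ hc
  let q : G → Prop := fun g => g ≠ 1 ∧ orderOf g ∣ 8
  have hq : ∀ g, q g → orderOf g ≠ 7 ∧ ¬ orderOf g ∣ 9 := by
    rintro g ⟨hg1, hg8⟩
    constructor
    · intro h7; rw [h7] at hg8; norm_num at hg8
    · intro h9
      have := Nat.dvd_gcd hg8 h9
      norm_num at this
      exact hg1 this
  have hqle := card_le_sixty_three h q hq
  let ι : {x : G // IsConj t x} → {g : G // q g} := fun x => ⟨x.1, by
    have := orderOf_eq_of_isConj x.2
    rw [ht] at this
    constructor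
    · intro h1
      rw [h1, orderOf_one] at this
      omega
    · rw [← this]; norm_num⟩
  have hι : Function.Injective ι := by
    intro a b hab
    apply Subtype.ext
    exact congrArg (fun z : {g : G // q g} => z.1) hab
  have hbij := hι.bijective_of_nat_card_le (by rw [hcls63]; exact hqle)
  obtain ⟨x, hx⟩ := hbij.2 ⟨c, hc1, hco⟩
  have hxc : x.1 = c := congrArg (fun z : {g : G // q g} => z.1) hx
  have := orderOf_eq_of_isConj x.2
  rw [hxc, ht] at this
  rw [this]
  exact pow_orderOf_eq_one c

end Cfsg.Agent.Lib.Helper22.S504
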