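import Mathlib
import Cfsg.Statements.S2752
import Cfsg.Agent.Lib.Helper16.SFDefs
import Cfsg.Agent.Lib.Helper8.ThTwoA
import Cfsg.Agent.Lib.Helper8.ThTwoE
import Cfsg.Agent.Lib.Helper14.SFpslTorus
import Cfsg.Agent.Lib.Helper15.SFpslOuter
import Cfsg.Agent.Lib.Helper26.SFpslAutOf
import Cfsg.Agent.Lib.Helper29.SFs3_of_inverts
import Cfsg.Agent.Lib.Helper22.SFnormPslOf

/-! helper22: S2752 market "SF", leaf normPsl (exact statement; proof in `SFnormPslOf`, over helper26's `pslAut_of`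
[with the conjunct `β ≠ 1`], helper15's `pslOuter`, helper14's `pslTorus` and helper29's `s3_of_inverts`). -/

set_option autoImplicit false
universe u v
open Cfsg Cfsg.Agent.Lib.Helper16.SF Cfsg.Agent.Lib.Helper8.ThTwo

namespace Cfsg.Agent.Lib.Helper22.SFLeaf

section grp
variable {H : Type u} [Group H] [Finite H]

/-- **normPsl** -/
theorem normPsl (hb : ¬ Cfsg.Involves (Equiv.Perm (Fin 3)) H)
    (A : Subgroup H) (hAe : Cfsg.IsElementaryAbelian 2 A) (K : Subgroup H)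
    (hK : Cfsg.IsQuasisimple ↥K) (hZ : Odd (Nat.card ↥(Subgroup.center ↥K)))
    {F : Type} [Field F] [Fintype F] (n : ℕ) (hF : Fintype.card F = 3 ^ (2 * n + 1))
    (e : Nonempty (↥K ⧸ Subgroup.center ↥K ≃* Matrix.ProjectiveSpecialLinearGroup (Fin 2) F))
    (hAN : A ≤ Subgroup.normalizer (K : Set H))
    (h4 : 4 ≤ (A ⊓ Subgroup.centralizer (K : Set H)).relIndex A) : ConfD A :=
  Cfsg.Agent.Lib.Helper22.SFnormPslOf.normPsl_of
    (fun a u ha hu hau => Cfsg.Agent.Lib.Helper29.SFLeaf.s3_of_inverts a u ha hu hau) hb A hAe K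
    (fun E hE h4' => Cfsg.Agent.Lib.Helper26.SFLeaf.pslAut_of hK hZ n hF
      (fun hn α h2 => Cfsg.Agent.Lib.Helper15.SFLeaf.pslOuter n hn hF α h2)
      (fun hn s t hs ht hs1 ht1 hst hc =>
        Cfsg.Agent.Lib.Helper14.SFLeaf.pslTorus n hn hF s t hs ht hs1 ht1 hst hc) e E hE h4')
    hAN h4

end grp

end Cfsg.Agent.Lib.Helper22.SFLeaf
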