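import Mathlib
import Cfsg.Prelude.Def_LocalEven
import Cfsg.Prelude.Def_Local
import Cfsg.Agent.Lib.Helper16.SFDefs
import Cfsg.Agent.Lib.Helper22.SFredBetaOf

/-! helper22: S2752 market "SF", leaf redAlpha in `_of` form: the leaves `exists_compl_ea`, `diag`, `qs_odd` and the
fact that a conjugate `K^g ≠ K` of a component commutes elementwise with `K` enter as hypotheses; the exact leaf is in
`SFredAlpha`. -/

set_option autoImplicit false
universe u
open Cfsg Cfsg.Agent.Lib.Helper16.SF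

namespace Cfsg.Agent.Lib.Helper22.SFredAlphaOf

open Cfsg.Agent.Lib.Helper22.SFredBetaOf

variable {H : Type u} [Group H]

/-- the product of two commuting elements of odd order has odd order -/
theorem odd_orderOf_mul {x y : H} (hc : Commute x y) (hx : Odd (orderOf x)) (hy : Odd (orderOf y)) :
    Odd (orderOf (x * y)) := by
  have h1 : (x * y) ^ (orderOf x * orderOf y) = 1 := by
    rw [hc.mul_pow, pow_mul, pow_orderOf_eq_one, one_pow, mul_comm (orderOf x), pow_mul,
      pow_orderOf_eq_one, one_pow, one_mul]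
  have h2 : orderOf (x * y) ∣ orderOf x * orderOf y := orderOf_dvd_of_pow_eq_one h1
  exact Odd.of_dvd_nat (hx.mul hy) h2

/-- **redAlpha**, over `exists_compl_ea`, `diag`, `qs_odd` and commuting of distinct conjugates of `K` -/
theorem redAlpha_of (A : Subgroup H) (hAe : Cfsg.IsElementaryAbelian 2 A) (K : Subgroup H)
    (hcompl : ∀ B : Subgroup H, B ≤ A → ∃ C : Subgroup H, C ≤ A ∧ C ⊓ B = ⊥ ∧ C ⊔ B = A)
    (hdiag : ∀ C : Subgroup H, Cfsg.IsElementaryAbelian 2 C →
      C ⊓ Subgroup.normalizer (K : Set H) = ⊥ →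
      ∃ δ : ↥K →* H,
        (∀ c ∈ C, ∀ y : ↥K, c * δ y = δ y * c) ∧
        (∀ g : H, (∀ c ∈ C, g * c = c * g) → ∀ y z : ↥K, g * (y : H) * g⁻¹ = (z : H) →
          g * δ y * g⁻¹ = δ z) ∧
        δ.ker ≤ Subgroup.center ↥K ∧
        (∀ y : ↥K, δ y ∈ ⨆ c : ↥C, K.map (MulAut.conj (c : H)).toMonoidHom) ∧
        (∀ y : ↥K, ∃ r : H, δ y = (y : H) * r ∧ ∀ k ∈ K, r * k = k * r))
    (hqs : ∃ y : ↥K, Odd (orderOf y) ∧ y ∉ Subgroup.center ↥K)
    (hcomm : ∀ g : H, g ∉ Subgroup.normalizer (K : Set H) → ∀ k ∈ K, ∀ k' ∈ K,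
      (g * k * g⁻¹) * k' = k' * (g * k * g⁻¹))
    (hAK : ¬ K ≤ Subgroup.centralizer (A : Set H))
    (hα : A ⊓ Subgroup.normalizer (K : Set H) ≤ Subgroup.centralizer (K : Set H)) : ConfD A := by
  classical
  have hsq : ∀ a ∈ A, a * a = 1 := by
    intro a ha
    have := hAe.2 a ha
    rwa [pow_two] at this
  -- `c₀ ∈ A ∖ N(K)`
  obtain ⟨c₀, hc₀A, hc₀N⟩ : ∃ c₀ ∈ A, c₀ ∉ Subgroup.normalizer (K : Set H) := by
    by_contra hcon
    push Not at hcon
    apply hAK
    intro k hk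
    rw [Subgroup.mem_centralizer_iff]
    intro a ha
    have h1 := hα ⟨ha, hcon a ha⟩
    exact ((Subgroup.mem_centralizer_iff.mp h1) k hk).symm
  set N : Subgroup H := A ⊓ Subgroup.normalizer (K : Set H) with hNdef
  have hNA : N ≤ A := inf_le_left
  have hzA : Subgroup.zpowers c₀ ≤ A := by
    rw [Subgroup.zpowers_le]; exact hc₀A
  obtain ⟨C, hCA, hCN1, hCsup⟩ := hcompl (N ⊔ Subgroup.zpowers c₀) (sup_le hNA hzA)
  have hCe : Cfsg.IsElementaryAbelian 2 C := ea_of_le' hAe hCA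
  have hCK : C ⊓ Subgroup.normalizer (K : Set H) = ⊥ := by
    rw [eq_bot_iff]
    intro c hc
    rw [← hCN1]
    exact ⟨hc.1, Subgroup.mem_sup_left ⟨hCA hc.1, hc.2⟩⟩
  -- `c₀ c ∉ N(K)` for `c ∈ C`
  have hc₀c : ∀ c ∈ C, c₀ * c ∉ Subgroup.normalizer (K : Set H) := by
    intro c hc hmem
    have h1 : c₀ * c ∈ N := ⟨A.mul_mem hc₀A (hCA hc), hmem⟩
    have h2 : c ∈ N ⊔ Subgroup.zpowers c₀ := by
      have : c = c₀⁻¹ * (c₀ * c) := by group
      rw [this]
      exact Subgroup.mul_mem _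
        (Subgroup.mem_sup_right (Subgroup.inv_mem _ (Subgroup.mem_zpowers c₀)))
        (Subgroup.mem_sup_left h1)
    have h3 : c ∈ C ⊓ (N ⊔ Subgroup.zpowers c₀) := ⟨hc, h2⟩
    rw [hCN1, Subgroup.mem_bot] at h3
    rw [h3, mul_one] at hmem
    exact hc₀N hmem
  obtain ⟨δ, hd1, hd2, hd3, hd4, hd5⟩ := hdiag C hCe hCK
  obtain ⟨y, hyo, hyZ⟩ := hqs
  set x' : H := δ y with hx'
  set z : H := c₀ * x' * c₀⁻¹ with hz
  -- `K^(g c)`, `g ∉ N(K)·…`, is centralized by `K^(c')`
  -- first: `z` lies in the join of the `K^(c₀ c)`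
  have hzmem : z ∈ ⨆ c : ↥C, K.map (MulAut.conj (c₀ * (c : H))).toMonoidHom := by
    have h1 : (⨆ c : ↥C, K.map (MulAut.conj (c : H)).toMonoidHom).map (MulAut.conj c₀).toMonoidHom
        ≤ ⨆ c : ↥C, K.map (MulAut.conj (c₀ * (c : H))).toMonoidHom := by
      rw [Subgroup.map_iSup]
      apply iSup_le
      intro c
      refine le_trans ?_ (le_iSup _ c)
      rw [Subgroup.map_map]
      apply le_of_eq
      congr 1
      ext k
      simp [MulAut.conj_apply, mul_assoc]
    apply h1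
    exact ⟨x', hd4 y, rfl⟩
  -- conjugates `K^g`, `K^(g')` with `g⁻¹ g' ∉ N(K)` commute elementwise
  have hcomm2 : ∀ g g' : H, g⁻¹ * g' ∉ Subgroup.normalizer (K : Set H) →
      K.map (MulAut.conj g').toMonoidHom ≤
        Subgroup.centralizer (K.map (MulAut.conj g).toMonoidHom : Set H) := by
    rintro g g' hgg _ ⟨k, hk, rfl⟩
    rw [Subgroup.mem_centralizer_iff]
    rintro _ ⟨k', hk', rfl⟩
    have h1 := hcomm (g⁻¹ * g') hgg k hk k' hk'
    simp only [MulEquiv.coe_toMonoidHom, MulAut.conj_apply]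
    have h2 : g' * k * g'⁻¹ = g * ((g⁻¹ * g') * k * (g⁻¹ * g')⁻¹) * g⁻¹ := by group
    rw [h2]
    calc g * k' * g⁻¹ * (g * ((g⁻¹ * g') * k * (g⁻¹ * g')⁻¹) * g⁻¹)
        = g * (k' * ((g⁻¹ * g') * k * (g⁻¹ * g')⁻¹)) * g⁻¹ := by group
      _ = g * (((g⁻¹ * g') * k * (g⁻¹ * g')⁻¹) * k') * g⁻¹ := by rw [h1]
      _ = g * ((g⁻¹ * g') * k * (g⁻¹ * g')⁻¹) * g⁻¹ * (g * k' * g⁻¹) := by group
  -- `z` centralizes `K`
  have hzK : ∀ k ∈ K, z * k = k * z := by
    have h1 : (⨆ c : ↥C, K.map (MulAut.conj (c₀ * (c : H))).toMonoidHom) ≤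
        Subgroup.centralizer (K : Set H) := by
      apply iSup_le
      intro c
      have h2 := hcomm2 1 (c₀ * (c : H)) (by rw [inv_one, one_mul]; exact hc₀c c c.2)
      have h3 : K.map (MulAut.conj (1 : H)).toMonoidHom = K := by
        ext k
        simp
      rw [h3] at h2
      exact h2
    intro k hk
    exact ((Subgroup.mem_centralizer_iff.mp (h1 hzmem)) k hk).symm
  -- `x'` and `z` commute
  have hxz : x' * z = z * x' := by
    have h1 : ∀ c : ↥C, (⨆ c' : ↥C, K.map (MulAut.conj (c₀ * (c' : H))).toMonoidHom) ≤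
        Subgroup.centralizer (K.map (MulAut.conj (c : H)).toMonoidHom : Set H) := by
      intro c
      apply iSup_le
      intro c'
      apply hcomm2
      intro hmem
      -- `c⁻¹ c₀ c' = c₀ (c⁻¹ c')`
      have h2 : (c : H)⁻¹ * (c₀ * (c' : H)) = c₀ * ((c : H)⁻¹ * (c' : H)) := by
        have := ea_comm' hAe (A.inv_mem (hCA c.2)) hc₀A
        rw [← mul_assoc, this, mul_assoc]
      rw [h2] at hmem
      exact hc₀c _ (C.mul_mem (C.inv_mem c.2) c'.2) hmem
    have h2 : (⨆ c : ↥C, K.map (MulAut.conj (c : H)).toMonoidHom) ≤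
        Subgroup.centralizer ({z} : Set H) := by
      apply iSup_le
      intro c w hw
      rw [Subgroup.mem_centralizer_iff]
      rintro _ rfl
      exact ((Subgroup.mem_centralizer_iff.mp (h1 c hzmem)) w hw).symm
    have h3 := h2 (hd4 y)
    exact ((Subgroup.mem_centralizer_iff.mp h3) z rfl).symm
  -- orders
  have hx'o : Odd (orderOf x') := Odd.of_dvd_nat hyo (orderOf_map_dvd δ y)
  have hzo : Odd (orderOf z) := by
    have : z = MulAut.conj c₀ x' := by simp [hz, MulAut.conj_apply]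
    rw [this, MulEquiv.orderOf_eq]
    exact hx'o
  -- the configuration
  refine ⟨C ⊔ N, c₀, x'⁻¹ * z, sup_le hCA hNA, hc₀A, ?_, ?_, ?_, ?_, ?_, ?_⟩
  · -- `c₀ ∉ C ⊔ N`
    intro hmem
    have hCNn : C ≤ Subgroup.normalizer (N : Set H) := by
      intro c hc
      rw [Subgroup.mem_normalizer_iff]
      intro n
      have e : ∀ n ∈ A, c * n * c⁻¹ = n := by
        intro n hn
        rw [ea_comm' hAe (hCA hc) hn]
        group
      constructor
      · intro hn
        rw [e n (hNA hn)]; exact hn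
      · intro hn
        have hnA : n ∈ A := by
          have h1 : c * n * c⁻¹ ∈ A := hNA hn
          have h2 : n = c⁻¹ * (c * n * c⁻¹) * c := by group
          rw [h2]
          exact A.mul_mem (A.mul_mem (A.inv_mem (hCA hc)) h1) (hCA hc)
        rw [e n hnA] at hn; exact hn
    rw [← SetLike.mem_coe, Subgroup.coe_mul_of_left_le_normalizer_right _ _ hCNn] at hmem
    obtain ⟨c, hc, n, hn, hcn'⟩ := hmem
    have hcn : c * n = c₀ := hcn'
    have h1 : c ∈ C ⊓ (N ⊔ Subgroup.zpowers c₀) := by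
      refine ⟨hc, ?_⟩
      have : c = c₀ * n⁻¹ := by rw [← hcn]; group
      rw [this]
      exact Subgroup.mul_mem _ (Subgroup.mem_sup_right (Subgroup.mem_zpowers c₀))
        (Subgroup.mem_sup_left (N.inv_mem hn))
    rw [hCN1, Subgroup.mem_bot] at h1
    rw [h1, one_mul] at hcn
    rw [← hcn] at hc₀N
    exact hc₀N hn.2
  · -- `A ≤ (C ⊔ N) ⊔ <c₀>`
    rw [sup_assoc, hCsup]
  · -- `x ≠ 1`
    intro h1
    have h2 : x' = z := by
      have := congrArg (fun t => x' * t) h1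
      simpa using this.symm
    obtain ⟨r, hr1, hr2⟩ := hd5 y
    apply hyZ
    rw [Subgroup.mem_center_iff]
    intro k
    apply Subtype.ext
    rw [Subgroup.coe_mul, Subgroup.coe_mul]
    -- `y = z r⁻¹` centralizes `K`
    have hy : (y : H) = z * r⁻¹ := by
      rw [← h2, hx', hr1]; group
    have hrinv : r⁻¹ * (k : H) = (k : H) * r⁻¹ := by
      have := hr2 k k.2
      calc r⁻¹ * (k : H) = r⁻¹ * ((k : H) * r) * r⁻¹ := by group
        _ = r⁻¹ * (r * (k : H)) * r⁻¹ := by rw [this]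
        _ = (k : H) * r⁻¹ := by group
    rw [hy]
    calc (k : H) * (z * r⁻¹) = ((k : H) * z) * r⁻¹ := by group
      _ = (z * (k : H)) * r⁻¹ := by rw [hzK k k.2]
      _ = z * ((k : H) * r⁻¹) := by group
      _ = z * (r⁻¹ * (k : H)) := by rw [hrinv]
      _ = z * r⁻¹ * (k : H) := by group
  · -- odd order
    apply odd_orderOf_mul
    · exact (Commute.inv_left (show Commute x' z from hxz))
    · rw [orderOf_inv]; exact hx'o
    · exact hzo
  · -- `C ⊔ N` centralizes `x`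
    have hcen : C ⊔ N ≤ Subgroup.centralizer ({x'⁻¹ * z} : Set H) := by
      apply sup_le
      · intro c hc
        rw [Subgroup.mem_centralizer_iff]
        rintro _ rfl
        have h1 : c * x' = x' * c := hd1 c hc y
        have h2 : c * z = z * c := by
          have hcc : c * c₀ = c₀ * c := ea_comm' hAe (hCA hc) hc₀A
          have hcc' : c * c₀⁻¹ = c₀⁻¹ * c := by
            calc c * c₀⁻¹ = c₀⁻¹ * (c₀ * c) * c₀⁻¹ := by group
              _ = c₀⁻¹ * (c * c₀) * c₀⁻¹ := by rw [hcc]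
              _ = c₀⁻¹ * c := by group
          calc c * z = (c * c₀) * x' * c₀⁻¹ := by rw [hz]; group
            _ = c₀ * (c * x') * c₀⁻¹ := by rw [hcc]; group
            _ = c₀ * x' * (c * c₀⁻¹) := by rw [h1]; group
            _ = z * c := by rw [hcc', hz]; group
        have h1' : c * x'⁻¹ = x'⁻¹ * c := by
          calc c * x'⁻¹ = x'⁻¹ * (x' * c) * x'⁻¹ := by group
            _ = x'⁻¹ * (c * x') * x'⁻¹ := by rw [h1]
            _ = x'⁻¹ * c := by group
        calc x'⁻¹ * z * c = x'⁻¹ * (z * c) := by group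
          _ = x'⁻¹ * (c * z) := by rw [h2]
          _ = (x'⁻¹ * c) * z := by group
          _ = (c * x'⁻¹) * z := by rw [h1']
          _ = c * (x'⁻¹ * z) := by group
      · intro n hn
        rw [Subgroup.mem_centralizer_iff]
        rintro _ rfl
        have hnK := hα hn
        have h0 : n * (y : H) * n⁻¹ = (y : H) := by
          have := (Subgroup.mem_centralizer_iff.mp hnK) (y : H) y.2
          rw [← this]; group
        have h1 : n * x' * n⁻¹ = x' :=
          hd2 n (fun c hc => ea_comm' hAe (hNA hn) (hCA hc)) y y h0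
        have h1a : n * x' = x' * n := by
          calc n * x' = n * x' * n⁻¹ * n := by group
            _ = x' * n := by rw [h1]
        have hnc : n * c₀ = c₀ * n := ea_comm' hAe (hNA hn) hc₀A
        have hnc' : n * c₀⁻¹ = c₀⁻¹ * n := by
          calc n * c₀⁻¹ = c₀⁻¹ * (c₀ * n) * c₀⁻¹ := by group
            _ = c₀⁻¹ * (n * c₀) * c₀⁻¹ := by rw [hnc]
            _ = c₀⁻¹ * n := by group
        have h2 : n * z = z * n := by
          calc n * z = (n * c₀) * x' * c₀⁻¹ := by rw [hz]; group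
            _ = c₀ * (n * x') * c₀⁻¹ := by rw [hnc]; group
            _ = c₀ * x' * (n * c₀⁻¹) := by rw [h1a]; group
            _ = z * n := by rw [hnc', hz]; group
        have h1' : n * x'⁻¹ = x'⁻¹ * n := by
          calc n * x'⁻¹ = x'⁻¹ * (x' * n) * x'⁻¹ := by group
            _ = x'⁻¹ * (n * x') * x'⁻¹ := by rw [h1a]
            _ = x'⁻¹ * n := by group
        calc x'⁻¹ * z * n = x'⁻¹ * (z * n) := by group
          _ = x'⁻¹ * (n * z) := by rw [h2]
          _ = (x'⁻¹ * n) * z := by group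
          _ = (n * x'⁻¹) * z := by rw [h1']
          _ = n * (x'⁻¹ * z) := by group
    intro b hb
    exact ((Subgroup.mem_centralizer_iff.mp (hcen hb)) _ rfl).symm
  · -- `c₀` inverts `x`
    have hc2 : c₀ * c₀ = 1 := hsq c₀ hc₀A
    have hcinv : c₀⁻¹ = c₀ := inv_eq_of_mul_eq_one_left hc2
    rw [hz]
    calc c₀ * (x'⁻¹ * (c₀ * x' * c₀⁻¹)) * c₀⁻¹ = c₀ * x'⁻¹ * c₀ * x' * (c₀ * c₀)⁻¹ := by group
      _ = c₀ * x'⁻¹ * c₀ * x' := by rw [hc2, inv_one, mul_one]
      _ = c₀ * x'⁻¹ * c₀⁻¹ * x' := by rw [hcinv]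
      _ = (x'⁻¹ * (c₀ * x' * c₀⁻¹))⁻¹ := by group

end Cfsg.Agent.Lib.Helper22.SFredAlphaOf
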