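import Mathlib
import Cfsg.Agent.Lib.Helper1.LowDimO

/-!
# S5798 block (O): the Eichler (Siegel) element and step (1b)  (helper22)

`eichler`: for `x` singular and `B(x,v) = 0` the map
`z ↦ z + B(z,v) x - B(z,x) v - Q(v) B(z,x) x` is an isometry of determinant one (a product of two transvections).
`key_all_l`: step (1b) of `notes/S5798_plan.md`.
-/

set_option autoImplicit false
set_option linter.unusedSectionVars false
set_option linter.unusedVariables false
set_option linter.unusedSimpArgs false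

noncomputable section

namespace Cfsg.Agent.Lib.Helper22.SL6OLeaf
open Cfsg Matrix QuadraticMap Module Cfsg.Agent.Lib.Helper5 Cfsg.Agent.Lib.Helper5.SpMax
  Cfsg.Agent.Lib.Helper5.TMCalc Cfsg.Agent.Lib.Helper5.OSL Cfsg.Agent.S5644.S5644aux

variable {F : Type*} [Field F] {n : ℕ}
variable (Qf : QuadraticForm F (Fin n → F))

theorem eichler (x v : Fin n → F) (hx : Qf x = 0) (hxv : polar Qf x v = 0) :
    ∃ h : GL (Fin n) F,
      h ∈ Cfsg.Geo.quadSimilarityGroup (⇑Qf) ⊓ Cfsg.Geo.specialLinear (Fin n) F ∧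
      (∀ z, Qf ((h : Matrix (Fin n) (Fin n) F) *ᵥ z) = Qf z) ∧
      ∀ z, (h : Matrix (Fin n) (Fin n) F) *ᵥ z =
        z + polar Qf z v • x - polar Qf z x • v - (Qf v * polar Qf z x) • x := by
  have hxx : polar Qf x x = 0 := by rw [pself, hx, mul_zero]
  obtain ⟨t₁, ht₁, ht₁v⟩ := exists_rank_one (-(bL Qf x)) v
    (by rw [LinearMap.neg_apply, bL_apply, hxv, neg_zero])
  obtain ⟨t₂, ht₂, ht₂v⟩ := exists_rank_one (bL Qf (v + Qf v • x)) x
    (by rw [bL_apply, polar_add_left, polar_smul_left, hxx, polar_comm, hxv, smul_zero, add_zero])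
  have hform : ∀ z, ((t₂ * t₁ : GL (Fin n) F) : Matrix (Fin n) (Fin n) F) *ᵥ z =
      z + polar Qf z v • x - polar Qf z x • v - (Qf v * polar Qf z x) • x := by
    intro z
    rw [Units.val_mul, ← Matrix.mulVec_mulVec, ht₁v, ht₂v]
    simp only [LinearMap.neg_apply, bL_apply, map_add, map_smul, polar_add_left, polar_smul_left,
      polar_add_right, polar_smul_right, smul_eq_mul, pself, hxx, hxv, polar_comm Qf v x,
      polar_comm Qf x z, polar_comm Qf v z, neg_smul, map_neg]
    module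
  have hQ : ∀ z, Qf (((t₂ * t₁ : GL (Fin n) F) : Matrix (Fin n) (Fin n) F) *ᵥ z) = Qf z := by
    intro z
    rw [hform]
    have e1 : z + polar Qf z v • x - polar Qf z x • v - (Qf v * polar Qf z x) • x =
        z + ((polar Qf z v - Qf v * polar Qf z x) • x - polar Qf z x • v) := by module
    rw [e1, Q_add, Q_sub, Q_smul, Q_smul, hx, polar_sub_right, polar_smul_right, polar_smul_right,
      polar_smul_left, polar_smul_right, hxv]
    simp only [smul_eq_mul]
    ring
  refine ⟨t₂ * t₁, Subgroup.mem_inf.mpr ⟨?_, ?_⟩, hQ, hform⟩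
  · rw [mem_qsim_iff]
    refine ⟨1, fun z => ?_⟩
    rw [hQ, Units.val_one, one_mul]
  · exact (Cfsg.Geo.specialLinear (Fin n) F).mul_mem ht₂ ht₁

/-- if `B(x,y) = 0 → B(a,y) = 0` for all `y`, then `a` is a multiple of `x` -/
lemma eq_smul_of_ker_le (hnd : (polarBilin Qf).Nondegenerate) (x a : Fin n → F) (hx0 : x ≠ 0)
    (h : ∀ y, polar Qf x y = 0 → polar Qf a y = 0) : ∃ c : F, a = c • x := by
  obtain ⟨y₀, hy₀⟩ := exists_polar_ne Qf hnd x hx0
  refine ⟨polar Qf a y₀ / polar Qf x y₀, ?_⟩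
  have h0 : a - (polar Qf a y₀ / polar Qf x y₀) • x = 0 := by
    apply hnd.1
    intro y
    rw [polarBilin_apply_apply, polar_sub_left, polar_smul_left, smul_eq_mul]
    have h1 : polar Qf x (y - (polar Qf x y / polar Qf x y₀) • y₀) = 0 := by
      rw [polar_sub_right, polar_smul_right, smul_eq_mul, div_mul_cancel₀ _ hy₀, sub_self]
    have h3 := h _ h1
    rw [polar_sub_right, polar_smul_right, smul_eq_mul, sub_eq_zero] at h3
    rw [h3]
    field_simp
    ring
  exact sub_eq_zero.mp h0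

/-- step (1b) of the plan -/
theorem key_all_l (hnd : (polarBilin Qf).Nondegenerate) (h2 : (2 : F) ≠ 0) (hn : 5 ≤ n)
    {M : Subgroup (GL (Fin n) F)}
    (hHM : Cfsg.Geo.quadSimilarityGroup (⇑Qf) ⊓ Cfsg.Geo.specialLinear (Fin n) F ≤ M)
    (x : Fin n → F) (hx0 : x ≠ 0) (hx : Qf x = 0) (ψ : (Fin n → F) →ₗ[F] F) (hψ : ψ ≠ 0)
    (hT : ∀ t : F, TM M (t • ψ) x) : ∀ l : F, TT Qf M (l • x) x := by
  obtain ⟨a, ha⟩ := exists_repr Qf hnd ψ
  have hxx : polar Qf x x = 0 := by rw [pself, hx, mul_zero]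
  have hψx : ψ x = 0 := by
    have := (hT 1).1
    rwa [one_smul] at this
  have hax : polar Qf a x = 0 := by rw [← ha]; exact hψx
  have hTa : ∀ t : F, TT Qf M (t • a) x := by
    intro t
    unfold TT
    refine TM_of_eq (fun z => ?_) (hT t)
    rw [LinearMap.smul_apply, ha, bL_apply, polar_smul_left]
  by_cases hc : ∃ c : F, a = c • x
  · obtain ⟨c, hc⟩ := hc
    have hc0 : c ≠ 0 := by
      rintro rfl
      apply hψ
      apply LinearMap.ext
      intro z
      rw [ha, hc, zero_smul, polar_zero_left, LinearMap.zero_apply]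
    intro l
    have := hTa (l / c)
    rwa [hc, smul_smul, div_mul_cancel₀ _ hc0] at this
  · -- `a` is not a multiple of `x`
    have hy : ∃ y, polar Qf x y = 0 ∧ polar Qf a y ≠ 0 := by
      by_contra hcon
      push Not at hcon
      exact hc (eq_smul_of_ker_le Qf hnd x a hx0 hcon)
    obtain ⟨y, hxy, hay⟩ := hy
    obtain ⟨v₁, hv₁, hlv₁, hav₁⟩ := exists_ns_ne Qf hnd h2 ![bL Qf x] (bL Qf a) y
      (Fin.forall_fin_one.mpr (by simpa using hxy)) (by simpa using hay) (by omega)
    have hxv₁ : polar Qf x v₁ = 0 := by simpa using hlv₁ 0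
    have hav₁' : polar Qf a v₁ ≠ 0 := by simpa using hav₁
    intro l
    obtain ⟨e, heH, heQ, hez⟩ := eichler Qf x ((l / polar Qf a v₁) • v₁) hx
      (by rw [polar_smul_right, hxv₁, smul_zero])
    have h5 := TT_conj Qf (hHM heH) heQ (by have := hTa 1; rwa [one_smul] at this)
    have hex : (e : Matrix (Fin n) (Fin n) F) *ᵥ x = x := by
      rw [hez, hxx, polar_smul_right, hxv₁]
      simp
    have hea : (e : Matrix (Fin n) (Fin n) F) *ᵥ a = a + l • x := by
      rw [hez, hax, polar_smul_right, smul_eq_mul, div_mul_cancel₀ _ hav₁']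
      simp
    rw [hex, hea] at h5
    have h6 := TT_add_left Qf h5 (TT_neg_left Qf (by have := hTa 1; rwa [one_smul] at this))
    have h7 : a + l • x + -a = l • x := by abel
    rwa [h7] at h6

end Cfsg.Agent.Lib.Helper22.SL6OLeaf
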