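import Mathlib
import Cfsg.Agent.Lib.Helper22.SL6OEichler
import Cfsg.Agent.Lib.Helper19.SL6OC

/-!
# S5798 block (O): the commutator transvection `comm_TM`  (helper22)
-/

set_option autoImplicit false
set_option linter.unusedSectionVars false
set_option linter.unusedVariables false
set_option linter.unusedSimpArgs false

noncomputable section

namespace Cfsg.Agent.Lib.Helper22.SL6OLeaf
open Cfsg Matrix QuadraticMap Module Cfsg.Agent.Lib.Helper5 Cfsg.Agent.Lib.Helper5.SpMax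
  Cfsg.Agent.Lib.Helper5.TMCalc Cfsg.Agent.Lib.Helper5.OSL Cfsg.Agent.S5644.S5644aux
open Cfsg.Agent.Lib.Helper19.SL6OLeaf (eichler_comm)

variable {F : Type*} [Field F] {n : ℕ}
variable (Qf : QuadraticForm F (Fin n → F))

/-- the commutator of `E_{x,v}` (for `Qf`, in `H ≤ M`) and `E'_{x,v'}` (for `Qg Qf g`, in `g H g⁻¹ ≤ M`) -/
theorem comm_TM {M : Subgroup (GL (Fin n) F)}
    (hHM : Cfsg.Geo.quadSimilarityGroup (⇑Qf) ⊓ Cfsg.Geo.specialLinear (Fin n) F ≤ M)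
    {g : GL (Fin n) F} (hgM : g ∈ M) (x v v' : Fin n → F) (hx : Qf x = 0) (hx' : Qg Qf g x = 0)
    (h1 : polar Qf v x = 0) (h2 : polar (Qg Qf g) v x = 0)
    (h3 : polar Qf v' x = 0) (h4 : polar (Qg Qf g) v' x = 0) :
    TM M (polar (Qg Qf g) v v' • bL Qf x - polar Qf v v' • bL (Qg Qf g) x) x := by
  obtain ⟨e, heH, -, he⟩ := eichler Qf x v hx (by rw [polar_comm]; exact h1)
  obtain ⟨e₀, he₀H, -, he₀⟩ := eichler Qf
    (((g⁻¹ : GL (Fin n) F) : Matrix (Fin n) (Fin n) F) *ᵥ x)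
    (((g⁻¹ : GL (Fin n) F) : Matrix (Fin n) (Fin n) F) *ᵥ v')
    (by rw [← Qg_apply]; exact hx') (by rw [← polar_Qg, polar_comm]; exact h4)
  have heM : e ∈ M := hHM heH
  have he'M : g * e₀ * g⁻¹ ∈ M := M.mul_mem (M.mul_mem hgM (hHM he₀H)) (M.inv_mem hgM)
  have he' : ∀ z, ((g * e₀ * g⁻¹ : GL (Fin n) F) : Matrix (Fin n) (Fin n) F) *ᵥ z =
      z + polar (Qg Qf g) z v' • x - polar (Qg Qf g) z x • v' -
        (Qg Qf g v' * polar (Qg Qf g) z x) • x := by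
    intro z
    rw [Units.val_mul, Units.val_mul, ← Matrix.mulVec_mulVec, ← Matrix.mulVec_mulVec, he₀,
      Matrix.mulVec_sub, Matrix.mulVec_sub, Matrix.mulVec_add, Matrix.mulVec_smul,
      Matrix.mulVec_smul, Matrix.mulVec_smul, mul_inv_mulVec, mul_inv_mulVec, mul_inv_mulVec,
      ← Qg_apply, ← polar_Qg, ← polar_Qg]
  have hxx : polar Qf x x = 0 := by rw [pself, hx, mul_zero]
  have hxx' : polar (Qg Qf g) x x = 0 := by rw [pself, hx', mul_zero]
  refine ⟨?_, e * (g * e₀ * g⁻¹) * e⁻¹ * (g * e₀ * g⁻¹)⁻¹,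
    M.mul_mem (M.mul_mem (M.mul_mem heM he'M) (M.inv_mem heM)) (M.inv_mem he'M), fun z => ?_⟩
  · rw [LinearMap.sub_apply, LinearMap.smul_apply, LinearMap.smul_apply, bL_apply, bL_apply, hxx,
      hxx', smul_zero, smul_zero, sub_zero]
  · rw [eichler_comm Qf (Qg Qf g) x v v' hx hx' h1 h2 h3 h4 e (g * e₀ * g⁻¹) he he' z,
      LinearMap.sub_apply, LinearMap.smul_apply, LinearMap.smul_apply, bL_apply, bL_apply,
      polar_comm Qf z x, polar_comm (Qg Qf g) z x, smul_eq_mul, smul_eq_mul]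

end Cfsg.Agent.Lib.Helper22.SL6OLeaf
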