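import Mathlib
import Cfsg.Agent.Lib.Helper22.SL6OComm
import Cfsg.Agent.Lib.Helper19.SL6O2bc
import Cfsg.Agent.Lib.Helper12.SL6O1c
import Cfsg.Agent.Lib.Helper28.SL6OW
import Cfsg.Agent.Lib.Helper11.SL6O2f
import Cfsg.Agent.Lib.Helper17.SL6OCW

/-!
# S5798 block (O): `main_five`  (helper22, assembly)

The similitude group of a non-degenerate quadratic form on `F^n`, `q` odd, `5 ≤ n`, is maximal in `SL_n(F)`.
Paper proof: `notes/S5798_plan.md` section (O) (helper24); leaves: `notes/S5798_O_leaves.lean`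
(helper19 O-C, O-2bc; helper12 O-1c; helper28 O-W; helper11 O-2def; helper17 O-CW).
-/

set_option autoImplicit false
set_option linter.unusedSectionVars false
set_option linter.unusedVariables false
set_option linter.unusedSimpArgs false

noncomputable section

namespace Cfsg.Agent.Lib.Helper22.SL6OLeaf
open Cfsg Matrix QuadraticMap Module Cfsg.Agent.Lib.Helper5 Cfsg.Agent.Lib.Helper5.SpMax
  Cfsg.Agent.Lib.Helper5.TMCalc Cfsg.Agent.Lib.Helper5.OSL Cfsg.Agent.S5644.S5644aux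

variable {F : Type*} [Field F] {n : ℕ}
variable (Qf : QuadraticForm F (Fin n → F))

theorem main_five [Fintype F] (hodd : Odd (Fintype.card F)) (hnd : (polarBilin Qf).Nondegenerate)
    (hn : 5 ≤ n) :
    Cfsg.Geo.IsMaximalIn (Cfsg.Geo.specialLinear (Fin n) F)
      (Cfsg.Geo.quadSimilarityGroup (⇑Qf) ⊓ Cfsg.Geo.specialLinear (Fin n) F) := by
  have h2 : (2 : F) ≠ 0 := two_ne_zero_of_odd hodd
  refine ⟨?_, ?_⟩
  · rw [lt_iff_le_and_ne]
    refine ⟨inf_le_right, fun h => ?_⟩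
    obtain ⟨t, htSL, ht⟩ := exists_not_sim Qf hnd h2 (by omega)
    rw [← h] at htSL
    exact ht htSL.1
  · intro M hHM hMS
    by_cases hMH : M = Cfsg.Geo.quadSimilarityGroup (⇑Qf) ⊓ Cfsg.Geo.specialLinear (Fin n) F
    · left; exact hMH
    right
    apply le_antisymm hMS
    obtain ⟨g, hgM, hgH⟩ : ∃ g ∈ M,
        g ∉ Cfsg.Geo.quadSimilarityGroup (⇑Qf) ⊓ Cfsg.Geo.specialLinear (Fin n) F := by
      by_contra hcon
      push Not at hcon
      exact hMH (le_antisymm hcon hHM)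
    have hgS : g ∉ Cfsg.Geo.quadSimilarityGroup (⇑Qf) := fun h => hgH ⟨h, hMS hgM⟩
    -- Phase 1
    obtain ⟨x, v, v', hx0, hx, hx', k1, k2, k3, k4, hψ⟩ :=
      Cfsg.Agent.Lib.Helper12.SL6OLeaf.exists_good Qf hnd h2 hn g hgS
        (Cfsg.Agent.Lib.Helper17.SL6OLeaf.exists_common_singular Qf (Qg Qf g) h2 hn)
        (fun ℓ₁ ℓ₂ => Cfsg.Agent.Lib.Helper17.SL6OLeaf.exists_singular_perp Qf h2 ℓ₁ ℓ₂ hn)
    have hkey : ∀ l : F, TT Qf M (l • x) x := by
      refine key_all_l Qf hnd h2 hn hHM x hx0 hx _ hψ (fun t => ?_)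
      have h5 := comm_TM Qf hHM hgM x (t • v) v' hx hx'
        (by rw [polar_smul_left, k1, smul_zero]) (by rw [polar_smul_left, k2, smul_zero]) k3 k4
      refine TM_of_eq (fun z => ?_) h5
      simp only [polar_smul_left, LinearMap.sub_apply, LinearMap.smul_apply, smul_eq_mul]
      ring
    -- Phase 2
    have hS : ∀ y : Fin n → F, y ≠ 0 → Qf y = 0 → ∀ l : F, TT Qf M (l • y) y := by
      intro y hy0 hy l
      obtain ⟨h, hH, hQ, hxy⟩ :=
        Cfsg.Agent.Lib.Helper28.SL6OLeaf.witt_sing Qf hnd h2 hn x y hx0 hy0 hx hy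
      have h5 := TT_conj Qf (hHM hH) hQ (hkey l)
      rwa [Matrix.mulVec_smul, hxy] at h5
    exact le_of_all_TM (by omega)
      (Cfsg.Agent.Lib.Helper11.SL6OLeaf.step_2f Qf hodd hnd h2 hn hS
        (Cfsg.Agent.Lib.Helper19.SL6OLeaf.step_2c Qf hnd h2 hS) x hx0 hx)

end Cfsg.Agent.Lib.Helper22.SL6OLeaf
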