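import Mathlib
import Cfsg.Agent.Lib.Helper22.GLClsF

/-! `q^(n-1) < k(SL_n(q))`. -/

set_option autoImplicit false

namespace Cfsg.Agent.Lib.Helper22.SLCls

open Polynomial Cfsg.Agent.Lib.Helper22.GLCls

universe u

variable {F : Type u} [Field F]

theorem charpoly_eq_of_isConj_SL {n : ℕ} {s t : Matrix.SpecialLinearGroup (Fin n) F}
    (h : IsConj s t) :
    (s : Matrix (Fin n) (Fin n) F).charpoly = (t : Matrix (Fin n) (Fin n) F).charpoly := by
  obtain ⟨c, hc⟩ := isConj_iff.mp h
  rw [← hc]
  have h1 : ((c * s * c⁻¹ : Matrix.SpecialLinearGroup (Fin n) F) : Matrix (Fin n) (Fin n) F)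
      = ((Matrix.SpecialLinearGroup.toGL c : (Matrix (Fin n) (Fin n) F)ˣ) : Matrix (Fin n) (Fin n) F)
        * (s : Matrix (Fin n) (Fin n) F)
        * (((Matrix.SpecialLinearGroup.toGL c)⁻¹ : (Matrix (Fin n) (Fin n) F)ˣ) :
            Matrix (Fin n) (Fin n) F) := by
    rw [← map_inv]
    rfl
  rw [h1, Matrix.coe_units_inv, Matrix.charpoly_units_conj]

theorem charpoly_out_mk {n : ℕ} (s : Matrix.SpecialLinearGroup (Fin n) F) :
    ((Quotient.out (ConjClasses.mk s) : Matrix.SpecialLinearGroup (Fin n) F) :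
      Matrix (Fin n) (Fin n) F).charpoly = (s : Matrix (Fin n) (Fin n) F).charpoly := by
  have e1 : ConjClasses.mk (Quotient.out (ConjClasses.mk s)) = ConjClasses.mk s :=
    Quotient.out_eq _
  exact charpoly_eq_of_isConj_SL (ConjClasses.mk_eq_mk_iff_isConj.mp e1)

theorem charpoly_transvection (b : ℕ) :
    (Matrix.transvection (0 : Fin (b + 2)) 1 (1 : F)).charpoly
      = (1 : Matrix (Fin (b + 2)) (Fin (b + 2)) F).charpoly := by
  have hU : (Matrix.transvection (0 : Fin (b + 2)) 1 (1 : F)).IsUpperTriangular := by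
    intro i j hij
    simp only [id] at hij
    rw [Matrix.transvection, Matrix.add_apply, Matrix.one_apply_ne (ne_of_gt hij),
      Matrix.single_apply, zero_add, if_neg]
    rintro ⟨rfl, rfl⟩
    exact absurd hij (by simp)
  rw [Matrix.charpoly_of_isUpperTriangular _ hU, Matrix.charpoly_one]
  rw [Finset.prod_congr rfl (g := fun _ => (X - 1 : F[X]))]
  · rw [Finset.prod_const, Finset.card_univ]
  · intro i _
    rw [Matrix.transvection, Matrix.add_apply, Matrix.one_apply_eq, Matrix.single_apply, if_neg]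
    · simp
    · rintro ⟨rfl, h⟩
      exact absurd h (by simp)

variable [Fintype F]

theorem lt_card_conjClasses_SL (n : ℕ) (hn : 2 ≤ n) :
    Fintype.card F ^ (n - 1)
      < Nat.card (ConjClasses (Matrix.SpecialLinearGroup (Fin n) F)) := by
  classical
  obtain ⟨b, rfl⟩ : ∃ b, n = b + 2 := ⟨n - 2, by omega⟩
  haveI : Fintype (ConjClasses (Matrix.SpecialLinearGroup (Fin (b + 2)) F)) := Fintype.ofFinite _
  rw [Nat.card_eq_fintype_card, ← Finset.card_univ]
  have e1 : b + 2 - 1 = b + 1 := by omega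
  rw [e1]
  set f : ConjClasses (Matrix.SpecialLinearGroup (Fin (b + 2)) F) → F[X] :=
    fun c => ((Quotient.out c : Matrix.SpecialLinearGroup (Fin (b + 2)) F) :
      Matrix (Fin (b + 2)) (Fin (b + 2)) F).charpoly with hf
  have hfmk : ∀ s : Matrix.SpecialLinearGroup (Fin (b + 2)) F,
      f (ConjClasses.mk s) = (s : Matrix (Fin (b + 2)) (Fin (b + 2)) F).charpoly :=
    fun s => charpoly_out_mk s
  set c0 : F := (-1) ^ (b + 2) with hc0
  have hc0ne : c0 ≠ 0 := pow_ne_zero _ (by norm_num)
  have hex : ∀ w : Fin (b + 1) → F, ∃ s : Matrix.SpecialLinearGroup (Fin (b + 2)) F,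
      (s : Matrix (Fin (b + 2)) (Fin (b + 2)) F).charpoly
        = polyOf (b + 2) (Fin.cons c0 w : Fin (b + 2) → F) := by
    intro w
    have hcoef : (polyOf (b + 2) (Fin.cons c0 w : Fin (b + 2) → F)).coeff 0 = c0 := by
      have := polyOf_coeff (b + 2) (Fin.cons c0 w : Fin (b + 2) → F) 0
      simpa using this
    obtain ⟨g, hg⟩ := exists_unit_of_charpoly (b + 2) _ (polyOf_monic _ _)
      (polyOf_natDegree _ (Fin.cons c0 w : Fin (b + 2) → F)) (by rw [hcoef]; exact hc0ne)
    have hdet : (g : Matrix (Fin (b + 2)) (Fin (b + 2)) F).det = 1 := by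
      rw [Matrix.det_eq_sign_charpoly_coeff, hg, hcoef, Fintype.card_fin, hc0, ← mul_pow]
      norm_num
    exact ⟨⟨(g : Matrix (Fin (b + 2)) (Fin (b + 2)) F), hdet⟩, hg⟩
  choose sw hsw using hex
  set I : Finset F[X] := Finset.univ.image f with hI
  have h1 : Fintype.card F ^ (b + 1) ≤ I.card := by
    have hcard : (Finset.univ : Finset (Fin (b + 1) → F)).card = Fintype.card F ^ (b + 1) := by
      rw [Finset.card_univ, Fintype.card_fun, Fintype.card_fin]
    rw [← hcard]
    apply Finset.card_le_card_of_injOn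
      (fun w => polyOf (b + 2) (Fin.cons c0 w : Fin (b + 2) → F))
    · intro w _
      rw [Finset.mem_coe, hI, Finset.mem_image]
      exact ⟨ConjClasses.mk (sw w), Finset.mem_univ _, by rw [hfmk, hsw]⟩
    · intro w _ w' _ hww
      have := polyOf_injective (b + 2) hww
      exact Fin.cons_right_injective _ this
  have h2 : I.card < (Finset.univ :
      Finset (ConjClasses (Matrix.SpecialLinearGroup (Fin (b + 2)) F))).card := by
    by_contra hnot
    have hle : I.card ≤ (Finset.univ :
        Finset (ConjClasses (Matrix.SpecialLinearGroup (Fin (b + 2)) F))).card :=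
      Finset.card_image_le
    have heq : I.card = (Finset.univ :
        Finset (ConjClasses (Matrix.SpecialLinearGroup (Fin (b + 2)) F))).card := by omega
    have hinj := Finset.card_image_iff.mp heq
    set t : Matrix.SpecialLinearGroup (Fin (b + 2)) F :=
      ⟨Matrix.transvection (0 : Fin (b + 2)) 1 (1 : F),
        Matrix.det_transvection_of_ne _ _ (by simp) _⟩ with ht
    have h3 : f (ConjClasses.mk 1) = f (ConjClasses.mk t) := by
      rw [hfmk, hfmk]
      exact (charpoly_transvection b).symm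
    have h4 := hinj (Finset.mem_coe.mpr (Finset.mem_univ _)) (Finset.mem_coe.mpr (Finset.mem_univ _)) h3
    rw [ConjClasses.mk_eq_mk_iff_isConj, isConj_one_right] at h4
    have h5 := congrArg (fun s : Matrix.SpecialLinearGroup (Fin (b + 2)) F =>
      (s : Matrix (Fin (b + 2)) (Fin (b + 2)) F) 0 1) h4
    simp only [ht, Matrix.SpecialLinearGroup.coe_one] at h5
    rw [Matrix.one_apply_ne (by simp)] at h5
    change Matrix.transvection (0 : Fin (b + 2)) 1 (1 : F) 0 1 = 0 at h5
    rw [Matrix.transvection, Matrix.add_apply, Matrix.one_apply_ne (by simp),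
      Matrix.single_apply_same, zero_add] at h5
    exact one_ne_zero h5
  exact lt_of_le_of_lt h1 h2

end Cfsg.Agent.Lib.Helper22.SLCls
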