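import Mathlib
import Cfsg.Agent.Lib.Helper17.SLMDefs
import Cfsg.Agent.Lib.Helper1.SLMN12

/-!
helper22: SLnMax stage 2, leaf Q7 `planes4_three` of `notes/SLnMax_stage2_leaves.lean` (helper17; row S5781):
`q = 3`, two planes in `F^4`: the stabiliser of the decomposition intersected with `SL_4(3)` lies in `CSp_4(3)`.
-/

set_option autoImplicit false
set_option linter.unusedSectionVars false
set_option linter.unusedVariables false

namespace Cfsg.Agent.Lib.Helper22.SLMLeaf

open Cfsg.Geo Matrix Module Cfsg.Agent.Lib.Helper17.SLM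

variable {F : Type*} [Field F] [Fintype F]

/-- the standard alternating form on `F^2` -/
def om2 (x y : Fin 2 → F) : F := x 0 * y 1 - x 1 * y 0

theorem om2_mulVec (A : Matrix (Fin 2) (Fin 2) F) (x y : Fin 2 → F) :
    om2 (A *ᵥ x) (A *ᵥ y) = A.det * om2 x y := by
  unfold om2
  simp only [Matrix.mulVec, dotProduct, Fin.sum_univ_two, Matrix.det_fin_two]
  ring

/-- the symplectic form attached to a basis indexed by `Fin 2 ⊕ Fin 2` -/
noncomputable def fQ7 (B : Basis (Fin 2 ⊕ Fin 2) F (Fin 4 → F)) (u v : Fin 4 → F) : F :=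
  om2 (fun k => B.repr u (Sum.inl k)) (fun k => B.repr v (Sum.inl k)) +
    om2 (fun k => B.repr u (Sum.inr k)) (fun k => B.repr v (Sum.inr k))

theorem fQ7_symp (B : Basis (Fin 2 ⊕ Fin 2) F (Fin 4 → F)) : IsSymplecticForm (fQ7 B) := by
  have hskew : ∀ v w, fQ7 B v w = - fQ7 B w v := by
    intro v w
    unfold fQ7 om2
    ring
  refine ⟨⟨?_, ?_, ?_, ?_⟩, hskew, ?_, ?_⟩
  · intro x y v
    unfold fQ7 om2
    simp only [map_add, Finsupp.add_apply]
    ring
  · intro c x v
    unfold fQ7 om2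
    simp only [map_smul, Finsupp.smul_apply, smul_eq_mul]
    ring
  · intro v x y
    unfold fQ7 om2
    simp only [map_add, Finsupp.add_apply]
    ring
  · intro c v x
    unfold fQ7 om2
    simp only [map_smul, Finsupp.smul_apply, smul_eq_mul]
    ring
  · intro v
    unfold fQ7 om2
    ring
  · intro v hv
    have hr : B.repr v ≠ 0 := fun h => hv (B.repr.map_eq_zero_iff.1 h)
    obtain ⟨idx, hidx⟩ : ∃ idx, B.repr v idx ≠ 0 := by
      by_contra hcon
      push Not at hcon
      exact hr (Finsupp.ext hcon)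
    have key : ∃ x, fQ7 B x v ≠ 0 := by
      rcases idx with k | k
      · fin_cases k
        · refine ⟨B (Sum.inl 1), ?_⟩
          unfold fQ7 om2
          simp only [Basis.repr_self]
          simpa using hidx
        · refine ⟨B (Sum.inl 0), ?_⟩
          unfold fQ7 om2
          simp only [Basis.repr_self]
          simpa using hidx
      · fin_cases k
        · refine ⟨B (Sum.inr 1), ?_⟩
          unfold fQ7 om2
          simp only [Basis.repr_self]
          simpa using hidx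
        · refine ⟨B (Sum.inr 0), ?_⟩
          unfold fQ7 om2
          simp only [Basis.repr_self]
          simpa using hidx
    obtain ⟨x, hx⟩ := key
    exact ⟨⟨x, hx⟩, ⟨x, by rw [hskew]; exact neg_ne_zero.2 hx⟩⟩

/-- the sign of the block swap on `Fin 2 ⊕ Fin 2` -/
theorem sign_sumComm22 : Equiv.Perm.sign (Equiv.sumComm (Fin 2) (Fin 2)) = 1 := by decide

/-- determinant of an anti-diagonal block matrix with `2 × 2` blocks -/
theorem det_antiBlocks (B' C : Matrix (Fin 2) (Fin 2) F) :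
    (Matrix.fromBlocks 0 B' C 0).det = C.det * B'.det := by
  have e : Matrix.fromBlocks 0 B' C 0 =
      (Matrix.fromBlocks C 0 0 B').submatrix (Equiv.sumComm (Fin 2) (Fin 2)) id := by
    ext i j
    rcases i with i | i <;> rcases j with j | j <;> simp
  rw [e, Matrix.det_permute, sign_sumComm22, Matrix.det_fromBlocks_zero₂₁]
  simp

/-- in `F_3` the nonzero elements square to `1` -/
theorem sq_eq_one_of_card_three (hq : Fintype.card F = 3) {x : F} (hx : x ≠ 0) : x * x = 1 := by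
  have := FiniteField.pow_card_sub_one_eq_one x hx
  rw [hq] at this
  rw [← this]
  ring

/-- coordinates of the image in terms of the blocks of the matrix of `g` -/
theorem repr_blocks (B : Basis (Fin 2 ⊕ Fin 2) F (Fin 4 → F)) (g : Matrix (Fin 4) (Fin 4) F)
    (u : Fin 4 → F) :
    (fun k => B.repr (g *ᵥ u) (Sum.inl k)) =
        (LinearMap.toMatrix B B (Matrix.toLin' g)).toBlocks₁₁ *ᵥ (fun k => B.repr u (Sum.inl k)) +
        (LinearMap.toMatrix B B (Matrix.toLin' g)).toBlocks₁₂ *ᵥ (fun k => B.repr u (Sum.inr k)) ∧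
    (fun k => B.repr (g *ᵥ u) (Sum.inr k)) =
        (LinearMap.toMatrix B B (Matrix.toLin' g)).toBlocks₂₁ *ᵥ (fun k => B.repr u (Sum.inl k)) +
        (LinearMap.toMatrix B B (Matrix.toLin' g)).toBlocks₂₂ *ᵥ (fun k => B.repr u (Sum.inr k)) := by
  have h := LinearMap.toMatrix_mulVec_repr B B (Matrix.toLin' g) u
  rw [Matrix.toLin'_apply] at h
  constructor
  · funext k
    have hk := congrFun h (Sum.inl k)
    rw [← hk]
    simp only [Matrix.mulVec, dotProduct, Fintype.sum_sum_type, Pi.add_apply, Matrix.toBlocks₁₁,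
      Matrix.toBlocks₁₂, Matrix.of_apply]
  · funext k
    have hk := congrFun h (Sum.inr k)
    rw [← hk]
    simp only [Matrix.mulVec, dotProduct, Fintype.sum_sum_type, Pi.add_apply, Matrix.toBlocks₂₁,
      Matrix.toBlocks₂₂, Matrix.of_apply]

/-- Q7 with `t = 2` -/
theorem planes4_three_two (hq : Fintype.card F = 3) {D : Fin 2 → Submodule F (Fin 4 → F)}
    (hD : IsMDecomposition 2 D) :
    ∃ f : (Fin 4 → F) → (Fin 4 → F) → F, IsSymplecticForm f ∧
      decompositionStabilizer D ⊓ specialLinear (Fin 4) F ≤ similarityGroup f := by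
  classical
  -- the two planes are complementary
  have hdisj : Disjoint (D 0) (D 1) := hD.indep.pairwiseDisjoint (by decide)
  have hsup : D 0 ⊔ D 1 = ⊤ := by
    rw [eq_top_iff, ← hD.iSup_eq_top]
    apply iSup_le
    intro i
    fin_cases i
    · exact le_sup_left
    · exact le_sup_right
  have hcompl : IsCompl (D 0) (D 1) := ⟨hdisj, codisjoint_iff.2 hsup⟩
  let b₀ : Basis (Fin 2) F (D 0) := Module.finBasisOfFinrankEq F (D 0) (hD.finrank_eq 0)
  let b₁ : Basis (Fin 2) F (D 1) := Module.finBasisOfFinrankEq F (D 1) (hD.finrank_eq 1)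
  let e := Submodule.prodEquivOfIsCompl (D 0) (D 1) hcompl
  let B : Basis (Fin 2 ⊕ Fin 2) F (Fin 4 → F) := (b₀.prod b₁).map e
  have hB0 : ∀ k, B (Sum.inl k) ∈ D 0 := by
    intro k
    have : B (Sum.inl k) = ((b₀ k : D 0) : Fin 4 → F) := by
      simp [B, e, Basis.map_apply, Basis.prod_apply]
    rw [this]
    exact (b₀ k).2
  have hB1 : ∀ k, B (Sum.inr k) ∈ D 1 := by
    intro k
    have : B (Sum.inr k) = ((b₁ k : D 1) : Fin 4 → F) := by
      simp [B, e, Basis.map_apply, Basis.prod_apply]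
    rw [this]
    exact (b₁ k).2
  have hr0 : ∀ x ∈ D 0, ∀ l, B.repr x (Sum.inr l) = 0 := by
    intro x hx l
    have h1 : B.repr x = (b₀.prod b₁).repr (e.symm x) := by
      simp [B, Basis.map_repr]
    have h3 : e.symm x = ((⟨x, hx⟩ : ↥(D 0)), (0 : ↥(D 1))) :=
      Submodule.prodEquivOfIsCompl_symm_apply_left (p := D 0) (q := D 1) hcompl (⟨x, hx⟩ : ↥(D 0))
    rw [h1, h3, Basis.prod_repr_inr]
    simp
  have hr1 : ∀ x ∈ D 1, ∀ l, B.repr x (Sum.inl l) = 0 := by
    intro x hx l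
    have h1 : B.repr x = (b₀.prod b₁).repr (e.symm x) := by
      simp [B, Basis.map_repr]
    have h3 : e.symm x = ((0 : ↥(D 0)), (⟨x, hx⟩ : ↥(D 1))) :=
      Submodule.prodEquivOfIsCompl_symm_apply_right (p := D 0) (q := D 1) hcompl (⟨x, hx⟩ : ↥(D 1))
    rw [h1, h3, Basis.prod_repr_inl]
    simp
  refine ⟨fQ7 B, fQ7_symp B, ?_⟩
  rintro g ⟨⟨σ, hσ⟩, hdet⟩
  have hdet1 : g.1.det = 1 := by
    have : g ∈ (Matrix.GeneralLinearGroup.det : GL (Fin 4) F →* Fˣ).ker := hdet
    rw [MonoidHom.mem_ker] at this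
    have := congrArg Units.val this
    simpa using this
  obtain ⟨M, hM⟩ : ∃ M, M = LinearMap.toMatrix B B (Matrix.toLin' g.1) := ⟨_, rfl⟩
  have hMdet : M.det = 1 := by
    rw [hM, LinearMap.det_toMatrix, LinearMap.det_toLin', hdet1]
  have hmap : ∀ i, ∀ x ∈ D i, g.1 *ᵥ x ∈ D (σ i) := by
    intro i x hx
    rw [← hσ i]
    exact ⟨x, hx, by rw [Matrix.toLin'_apply]⟩
  have hentry : ∀ i j, M i j = B.repr (g.1 *ᵥ B j) i := by
    intro i j
    rw [hM, LinearMap.toMatrix_apply, Matrix.toLin'_apply]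
  have hblocks := fun u => repr_blocks B g.1 u
  rw [← hM] at hblocks
  have hM4 : M = Matrix.fromBlocks M.toBlocks₁₁ M.toBlocks₁₂ M.toBlocks₂₁ M.toBlocks₂₂ :=
    (Matrix.fromBlocks_toBlocks M).symm
  have hσ01 : (σ 0 = 0 ∧ σ 1 = 1) ∨ (σ 0 = 1 ∧ σ 1 = 0) := by
    have hinj := σ.injective
    have h2 : ∀ x : Fin 2, x = 0 ∨ x = 1 := by decide
    rcases h2 (σ 0) with h0 | h0 <;> rcases h2 (σ 1) with h1 | h1
    · exact absurd (hinj (h0.trans h1.symm)) (by decide)
    · exact Or.inl ⟨h0, h1⟩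
    · exact Or.inr ⟨h0, h1⟩
    · exact absurd (hinj (h0.trans h1.symm)) (by decide)
  rcases hσ01 with ⟨h0, h1⟩ | ⟨h0, h1⟩
  · -- block diagonal
    have z21 : M.toBlocks₂₁ = 0 := by
      ext l k
      rw [Matrix.toBlocks₂₁, Matrix.of_apply, hentry]
      exact hr0 _ (h0 ▸ hmap 0 _ (hB0 k)) l
    have z12 : M.toBlocks₁₂ = 0 := by
      ext l k
      rw [Matrix.toBlocks₁₂, Matrix.of_apply, hentry]
      exact hr1 _ (h1 ▸ hmap 1 _ (hB1 k)) l
    have hdd : M.toBlocks₁₁.det * M.toBlocks₂₂.det = 1 := by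
      rw [← hMdet]
      conv_rhs => rw [hM4, z21]
      rw [Matrix.det_fromBlocks_zero₂₁]
    have hne1 : M.toBlocks₁₁.det ≠ 0 := fun h => by rw [h, zero_mul] at hdd; exact zero_ne_one hdd
    have hne2 : M.toBlocks₂₂.det ≠ 0 := fun h => by rw [h, mul_zero] at hdd; exact zero_ne_one hdd
    have heq : M.toBlocks₂₂.det = M.toBlocks₁₁.det := by
      have s2 := sq_eq_one_of_card_three hq hne1
      calc M.toBlocks₂₂.det = (M.toBlocks₁₁.det * M.toBlocks₁₁.det) * M.toBlocks₂₂.det := by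
            rw [s2, one_mul]
        _ = M.toBlocks₁₁.det * (M.toBlocks₁₁.det * M.toBlocks₂₂.det) := by ring
        _ = M.toBlocks₁₁.det := by rw [hdd, mul_one]
    refine ⟨Units.mk0 _ hne1, fun u v => ?_⟩
    obtain ⟨hu1, hu2⟩ := hblocks u
    obtain ⟨hv1, hv2⟩ := hblocks v
    unfold fQ7
    rw [hu1, hu2, hv1, hv2, z12, z21]
    simp only [Matrix.zero_mulVec, add_zero, zero_add, om2_mulVec, heq, Units.val_mk0]
    ring
  · -- block anti-diagonal
    have z11 : M.toBlocks₁₁ = 0 := by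
      ext l k
      rw [Matrix.toBlocks₁₁, Matrix.of_apply, hentry]
      exact hr1 _ (h0 ▸ hmap 0 _ (hB0 k)) l
    have z22 : M.toBlocks₂₂ = 0 := by
      ext l k
      rw [Matrix.toBlocks₂₂, Matrix.of_apply, hentry]
      exact hr0 _ (h1 ▸ hmap 1 _ (hB1 k)) l
    have hdd : M.toBlocks₂₁.det * M.toBlocks₁₂.det = 1 := by
      rw [← hMdet]
      conv_rhs => rw [hM4, z11, z22]
      rw [det_antiBlocks]
    have hne1 : M.toBlocks₂₁.det ≠ 0 := fun h => by rw [h, zero_mul] at hdd; exact zero_ne_one hdd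
    have hne2 : M.toBlocks₁₂.det ≠ 0 := fun h => by rw [h, mul_zero] at hdd; exact zero_ne_one hdd
    have heq : M.toBlocks₁₂.det = M.toBlocks₂₁.det := by
      have s2 := sq_eq_one_of_card_three hq hne1
      calc M.toBlocks₁₂.det = (M.toBlocks₂₁.det * M.toBlocks₂₁.det) * M.toBlocks₁₂.det := by
            rw [s2, one_mul]
        _ = M.toBlocks₂₁.det * (M.toBlocks₂₁.det * M.toBlocks₁₂.det) := by ring
        _ = M.toBlocks₂₁.det := by rw [hdd, mul_one]
    refine ⟨Units.mk0 _ hne1, fun u v => ?_⟩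
    obtain ⟨hu1, hu2⟩ := hblocks u
    obtain ⟨hv1, hv2⟩ := hblocks v
    unfold fQ7
    rw [hu1, hu2, hv1, hv2, z11, z22]
    simp only [Matrix.zero_mulVec, add_zero, zero_add, om2_mulVec, heq, Units.val_mk0]
    ring

/-- Q7 (S5781).  `q = 3`, two planes in `F^4`. -/
theorem planes4_three (hq : Fintype.card F = 3) {t : ℕ} {D : Fin t → Submodule F (Fin 4 → F)}
    (hD : IsMDecomposition 2 D) :
    ∃ f : (Fin 4 → F) → (Fin 4 → F) → F, IsSymplecticForm f ∧
      decompositionStabilizer D ⊓ specialLinear (Fin 4) F ≤ similarityGroup f := by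
  have ht : t = 2 := by
    have := Cfsg.Agent.Lib.Helper1.SLMLeaf.mdec_card hD
    omega
  subst ht
  exact planes4_three_two hq hD

end Cfsg.Agent.Lib.Helper22.SLMLeaf
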