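import Mathlib
import Cfsg.Agent.Lib.Helper28.SLBNU
import Cfsg.Agent.Lib.Helper6.BNStA
import Cfsg.Agent.Lib.Helper22.PermLen

/-! The Weyl group of helper28's (B,N)-pair `slBN` of `SL_n(F)` is `Perm (Fin n)`; Coxeter length =
inversion number; the longest element; `|U| = q ^ ℓ(w₀)` (helper22, S4538 leaf). -/

set_option autoImplicit false

namespace Cfsg.Agent.Lib.Helper22.SLWeyl

open Matrix Equiv Cfsg.Agent.Lib.Helper3.BN Cfsg.Agent.Lib.Helper3.WordLen
  Cfsg.Agent.Lib.Helper6.GLBN Cfsg.Agent.Lib.Helper28.SLBN Cfsg.Agent.Lib.Helper22.PermLen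

/-- transport of the word length along an isomorphism -/
theorem len_map_mulEquiv {W W' : Type*} [Group W] [Group W'] (e : W ≃* W') (S : Set W) (S' : Set W')
    (h1 : ∀ s ∈ S, e s ∈ S') (h2 : ∀ s' ∈ S', e.symm s' ∈ S) (w : W) :
    len S' (e w) = len S w := by
  unfold len
  congr 1
  ext k
  constructor
  · rintro ⟨L, hL, hp, hl⟩
    refine ⟨L.map e.symm, ?_, ?_, by rw [List.length_map, hl]⟩
    · intro x hx
      rw [List.mem_map] at hx
      obtain ⟨y, hy, rfl⟩ := hx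
      exact h2 y (hL y hy)
    · rw [← map_list_prod, hp, MulEquiv.symm_apply_apply]
  · rintro ⟨L, hL, hp, hl⟩
    refine ⟨L.map e, ?_, ?_, by rw [List.length_map, hl]⟩
    · intro x hx
      rw [List.mem_map] at hx
      obtain ⟨y, hy, rfl⟩ := hx
      exact h1 y (hL y hy)
    · rw [← map_list_prod, hp]

variable {n : ℕ} {F : Type*} [Field F]

/-- the sign of a permutation as a unit of `F` -/
def sgnU (σ : Perm (Fin n)) : Fˣ := Units.map (Int.castRingHom F : ℤ →* F) (Perm.sign σ)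

theorem coe_sgnU (σ : Perm (Fin n)) :
    ((sgnU (F := F) σ : Fˣ) : F) = (((Perm.sign σ : ℤˣ) : ℤ) : F) := rfl

/-- a signed permutation matrix of determinant one -/
def liftSL (hn : 0 < n) (σ : Perm (Fin n)) : SpecialLinearGroup (Fin n) F :=
  ⟨mono σ (fun j => ((oneAt ⟨0, hn⟩ (sgnU σ) j : Fˣ) : F)), by
    rw [det_mono, prod_oneAt, coe_sgnU, ← Int.cast_mul, ← Units.val_mul, Int.units_mul_self]
    simp⟩

theorem toGL_liftSL (hn : 0 < n) (σ : Perm (Fin n)) :
    SpecialLinearGroup.toGL (liftSL (F := F) hn σ) = monoGL σ (oneAt ⟨0, hn⟩ (sgnU σ)) := by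
  apply Units.ext
  rfl

theorem liftSL_mem_N (hn : 0 < n) (σ : Perm (Fin n)) :
    liftSL (F := F) hn σ ∈ (slBN (F := F) hn).N := by
  rw [mem_slBN_N, toGL_liftSL]
  exact ⟨σ, _, rfl⟩

theorem inv_mul_mem_Bup (σ : Perm (Fin n)) (c d : Fin n → Fˣ) :
    (monoGL σ c : GL (Fin n) F)⁻¹ * monoGL σ d ∈ Bup n F := by
  rw [monoGL_inv, monoGL_mul]
  exact (monoGL_mem_Bup_iff _ _).mpr (inv_mul_cancel σ)

/-- two monomial elements of `SL_n` with the same permutation have the same class in `W` -/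
theorem mkW_eq_of_toGL (hn : 0 < n) {g g' : SpecialLinearGroup (Fin n) F}
    (hg : g ∈ (slBN (F := F) hn).N) (hg' : g' ∈ (slBN (F := F) hn).N)
    {σ : Perm (Fin n)} {c d : Fin n → Fˣ}
    (h : SpecialLinearGroup.toGL g = monoGL σ c) (h' : SpecialLinearGroup.toGL g' = monoGL σ d) :
    mkW (slBN (F := F) hn) g hg = mkW (slBN (F := F) hn) g' hg' := by
  rw [mkW_eq_iff, mem_slBN_B', map_mul, map_inv, h, h']
  exact inv_mul_mem_Bup σ c d

/-- the homomorphism from the symmetric group onto the Weyl group of `SL_n(F)` -/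
noncomputable def weylHom (hn : 0 < n) : Perm (Fin n) →* W (slBN (F := F) hn) where
  toFun σ := mkW _ (liftSL hn σ) (liftSL_mem_N hn σ)
  map_one' := by
    rw [mkW_eq_one_iff, mem_slBN_B', toGL_liftSL]
    exact (monoGL_mem_Bup_iff _ _).mpr rfl
  map_mul' σ τ := by
    rw [← mkW_mul]
    apply mkW_eq_of_toGL hn _ _ (toGL_liftSL hn (σ * τ))
    rw [map_mul, toGL_liftSL, toGL_liftSL, monoGL_mul]

theorem weylHom_apply (hn : 0 < n) (σ : Perm (Fin n)) :
    weylHom (F := F) hn σ = mkW _ (liftSL hn σ) (liftSL_mem_N hn σ) := rfl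

/-- the class of any monomial element with permutation `σ` -/
theorem mkW_eq_weylHom (hn : 0 < n) {g : SpecialLinearGroup (Fin n) F}
    (hg : g ∈ (slBN (F := F) hn).N) {σ : Perm (Fin n)} {c : Fin n → Fˣ}
    (h : SpecialLinearGroup.toGL g = monoGL σ c) :
    mkW (slBN (F := F) hn) g hg = weylHom hn σ :=
  mkW_eq_of_toGL hn _ _ h (toGL_liftSL hn σ)

theorem exists_perm_of_mem_N (hn : 0 < n) {g : SpecialLinearGroup (Fin n) F}
    (hg : g ∈ (slBN (F := F) hn).N) :
    ∃ (σ : Perm (Fin n)) (c : Fin n → Fˣ), SpecialLinearGroup.toGL g = monoGL σ c :=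
  (mem_slBN_N hn g).mp hg

theorem weylHom_injective (hn : 0 < n) : Function.Injective (weylHom (F := F) hn) := by
  rw [injective_iff_map_eq_one]
  intro σ h
  rw [weylHom_apply, mkW_eq_one_iff, mem_slBN_B', toGL_liftSL] at h
  exact (monoGL_mem_Bup_iff σ _).mp h

theorem weylHom_surjective (hn : 0 < n) : Function.Surjective (weylHom (F := F) hn) := by
  intro w
  obtain ⟨m, hm, rfl⟩ := mkW_surj (slBN (F := F) hn) w
  obtain ⟨σ, c, hσ⟩ := exists_perm_of_mem_N hn hm
  exact ⟨σ, (mkW_eq_weylHom hn hm hσ).symm⟩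

/-- **the Weyl group of `SL_n(F)` is the symmetric group** -/
noncomputable def weylSL (hn : 0 < n) : Perm (Fin n) ≃* W (slBN (F := F) hn) :=
  MulEquiv.ofBijective (weylHom hn) ⟨weylHom_injective hn, weylHom_surjective hn⟩

theorem weylSL_apply (hn : 0 < n) (σ : Perm (Fin n)) :
    weylSL (F := F) hn σ = mkW _ (liftSL hn σ) (liftSL_mem_N hn σ) := rfl

theorem mkW_eq_weylSL (hn : 0 < n) {g : SpecialLinearGroup (Fin n) F}
    (hg : g ∈ (slBN (F := F) hn).N) {σ : Perm (Fin n)} {c : Fin n → Fˣ}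
    (h : SpecialLinearGroup.toGL g = monoGL σ c) :
    mkW (slBN (F := F) hn) g hg = weylSL hn σ :=
  mkW_eq_weylHom hn hg h

/-- the class of the signed adjacent transposition -/
theorem sb_sSL (hn : 0 < n) {k k' : Fin n} (hk : k'.val = k.val + 1)
    (hs : sSL (F := F) k k' ∈ (slBN (F := F) hn).S) :
    sb (slBN (F := F) hn) (sSL k k') hs = weylSL hn (swap k k') :=
  mkW_eq_weylSL hn _ (toGL_sSL' (adj_ne hk))

theorem sSL_mem_S (hn : 0 < n) {k k' : Fin n} (hk : k'.val = k.val + 1) :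
    sSL (F := F) k k' ∈ (slBN (F := F) hn).S :=
  (mem_slBN_S hn _).mpr ⟨k, k', hk, rfl⟩

/-- the simple reflections of `W(SL_n)` are the adjacent transpositions -/
theorem Sbar_eq (hn : 0 < n) : Sbar (slBN (F := F) hn) = weylSL hn '' adj n := by
  ext w
  constructor
  · rintro ⟨s, hs, rfl⟩
    obtain ⟨k, k', hk, rfl⟩ := (mem_slBN_S hn s).mp hs
    refine ⟨swap k k', ?_, (sb_sSL hn hk hs).symm⟩
    have hlt : k.val + 1 < n := by have := k'.isLt; omega
    refine ⟨k, hlt, ?_⟩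
    congr 1
    exact Fin.ext hk
  · rintro ⟨_, ⟨i, h, rfl⟩, rfl⟩
    have hk : (⟨i.val + 1, h⟩ : Fin n).val = i.val + 1 := rfl
    exact ⟨sSL i ⟨i.val + 1, h⟩, sSL_mem_S hn hk, sb_sSL hn hk (sSL_mem_S hn hk)⟩

/-- Coxeter length in `W(SL_n)` = Coxeter length in the symmetric group (= inversion number) -/
theorem len_weylSL (hn : 0 < n) (σ : Perm (Fin n)) :
    len (Sbar (slBN (F := F) hn)) (weylSL hn σ) = len (adj n) σ := by
  apply len_map_mulEquiv (weylSL (F := F) hn) (adj n) (Sbar (slBN (F := F) hn))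
  · intro s hs
    rw [Sbar_eq]
    exact ⟨s, hs, rfl⟩
  · intro s' hs'
    rw [Sbar_eq] at hs'
    obtain ⟨s, hs, rfl⟩ := hs'
    rw [MulEquiv.symm_apply_apply]
    exact hs

theorem weylSL_mem_Sbar (hn : 0 < n) {s : Perm (Fin n)} (hs : s ∈ adj n) :
    weylSL (F := F) hn s ∈ Sbar (slBN (F := F) hn) := by
  rw [Sbar_eq]
  exact ⟨s, hs, rfl⟩

section longest

open Cfsg.Agent.Lib.Helper6.BNSt Cfsg.Agent.Lib.Helper18.PSLnAut

variable [Finite F]

/-- the longest element of `W(SL_n)` is the class of the order-reversing permutation -/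
theorem w0_eq (hn : 0 < n) : w0 (slBN (F := F) hn) = weylSL hn Fin.revPerm := by
  symm
  apply eq_w0_of_left
  intro s hs
  rw [Sbar_eq] at hs
  obtain ⟨t, ht, rfl⟩ := hs
  rw [← map_mul, len_weylSL, len_weylSL]
  exact revPerm_descents t ht

theorem len_w0 (hn : 0 < n) :
    len (Sbar (slBN (F := F) hn)) (w0 (slBN (F := F) hn)) = ∑ j : Fin n, (j : ℕ) := by
  rw [w0_eq, len_weylSL, len_revPerm]

/-- **`|U| = q ^ ℓ(w₀)`** (the field `hcardU` of the split BN-pair of `SL_n`) -/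
theorem card_unitri_eq [Fintype F] (hn : 0 < n) :
    Nat.card (unitri n F) =
      Fintype.card F ^ len (Sbar (slBN (F := F) hn)) (w0 (slBN (F := F) hn)) := by
  rw [len_w0, card_unitri, Finset.prod_pow_eq_pow_sum]

end longest

end Cfsg.Agent.Lib.Helper22.SLWeyl
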