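import Mathlib
import Cfsg.Agent.Lib.Helper22.SLWeyl

/-! The field `hpos` of the split BN-pair of `SL_n(F)`: if `ℓ(s_i w) > ℓ(w)` then `m⁻¹ X_i m ≤ U` for
every monomial `m` of class `w` (helper22, S4538 leaf). -/

set_option autoImplicit false

namespace Cfsg.Agent.Lib.Helper22.SLWeyl

open Matrix Equiv Cfsg.Agent.Lib.Helper3.BN Cfsg.Agent.Lib.Helper3.WordLen
  Cfsg.Agent.Lib.Helper6.GLBN Cfsg.Agent.Lib.Helper28.SLBN Cfsg.Agent.Lib.Helper22.PermLen
  Cfsg.Agent.Lib.Helper18.PSLnAut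

variable {n : ℕ} {F : Type*} [Field F]

/-- an upper transvection is unitriangular -/
theorem isUni_transvection {p q : Fin n} (hpq : p < q) (t : F) : IsUni (transvection p q t) := by
  constructor
  · intro i j hji
    rw [transvection_apply', if_neg (ne_of_gt hji), if_neg, add_zero]
    rintro ⟨rfl, rfl⟩
    exact absurd hpq (lt_asymm hji)
  · intro i
    rw [transvection_apply', if_pos rfl, if_neg, add_zero]
    rintro ⟨rfl, h⟩
    exact absurd h (ne_of_lt hpq)

/-- conjugating the root element `1 + t E_{k k'}` by a monomial matrix with permutation `σ` -/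
theorem conj_transvection {k k' : Fin n} (hne : k ≠ k')
    {m x : SpecialLinearGroup (Fin n) F} {σ : Perm (Fin n)} {c : Fin n → Fˣ}
    (hσ : SpecialLinearGroup.toGL m = monoGL σ c) {t : F}
    (hx : (x : Matrix (Fin n) (Fin n) F) = transvection k k' t) :
    ((m⁻¹ * x * m : SpecialLinearGroup (Fin n) F) : Matrix (Fin n) (Fin n) F) =
      transvection (σ⁻¹ k) (σ⁻¹ k') (t * c (σ⁻¹ k') / c (σ⁻¹ k)) := by
  have hxGL : SpecialLinearGroup.toGL x = xGL k k' hne t := by
    apply Units.ext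
    rw [SpecialLinearGroup.coe_GL_coe_matrix, hx, coe_xGL]
  have key : SpecialLinearGroup.toGL (m⁻¹ * x * m) =
      xGL (σ⁻¹ k) (σ⁻¹ k') (fun h => hne (by simpa using h)) (t * c (σ⁻¹ k') / c (σ⁻¹ k)) := by
    rw [map_mul, map_mul, map_inv, hσ, hxGL, mul_assoc, xGL_mul_monoGL, ← mul_assoc,
      inv_mul_cancel, one_mul]
  have := congrArg (fun g : GL (Fin n) F => (g : Matrix (Fin n) (Fin n) F)) key
  simp only [SpecialLinearGroup.coe_GL_coe_matrix, coe_xGL] at this
  exact this

/-- **`hpos`, matrix form**: if left multiplication by the class of `sSL k k'` (`k' = k + 1`) makes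
the class of the monomial element `m` longer, then `m⁻¹ (1 + t E_{k k'}) m` is upper unitriangular -/
theorem hpos_mat [Finite F] (hn : 0 < n) {k k' : Fin n} (hk : k'.val = k.val + 1)
    (hs : sSL (F := F) k k' ∈ (slBN (F := F) hn).S)
    {m : SpecialLinearGroup (Fin n) F} (hm : m ∈ (slBN (F := F) hn).N)
    (hlen : len (Sbar (slBN (F := F) hn)) (mkW (slBN (F := F) hn) m hm) <
      len (Sbar (slBN (F := F) hn)) (sb (slBN (F := F) hn) (sSL k k') hs * mkW (slBN (F := F) hn) m hm))
    (x : SpecialLinearGroup (Fin n) F) (t : F)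
    (hx : (x : Matrix (Fin n) (Fin n) F) = transvection k k' t) :
    m⁻¹ * x * m ∈ unitri n F := by
  obtain ⟨σ, c, hσ⟩ := exists_perm_of_mem_N hn hm
  rw [mkW_eq_weylSL hn hm hσ, sb_sSL hn hk hs, ← map_mul, len_weylSL, len_weylSL] at hlen
  have hlt : k.val + 1 < n := by have := k'.isLt; omega
  have hk' : k' = ⟨k.val + 1, hlt⟩ := Fin.ext hk
  rw [hk', len_swap_mul_gt_iff] at hlen
  rw [← hk'] at hlen
  rw [mem_unitri, conj_transvection (adj_ne hk) hσ hx]
  exact isUni_transvection hlen _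

/-- **`hpos`** for the generators `sOfSL n F i` -/
theorem hpos_sOfSL [Finite F] (hn : 0 < n) (i : Fin (n - 1))
    (hs : sOfSL n F i ∈ (slBN (F := F) hn).S)
    (m : SpecialLinearGroup (Fin n) F) (hm : m ∈ (slBN (F := F) hn).N)
    (hlen : len (Sbar (slBN (F := F) hn)) (mkW (slBN (F := F) hn) m hm) <
      len (Sbar (slBN (F := F) hn))
        (sb (slBN (F := F) hn) (sOfSL n F i) hs * mkW (slBN (F := F) hn) m hm))
    (x : SpecialLinearGroup (Fin n) F) (t : F)
    (hx : (x : Matrix (Fin n) (Fin n) F) =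
      transvection (⟨i.val, by omega⟩ : Fin n) ⟨i.val + 1, by omega⟩ t) :
    m⁻¹ * x * m ∈ unitri n F :=
  hpos_mat hn (k := ⟨i.val, by omega⟩) (k' := ⟨i.val + 1, by omega⟩) rfl hs hm hlen x t hx

end Cfsg.Agent.Lib.Helper22.SLWeyl
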