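import Mathlib
import Cfsg.Agent.Lib.Helper22.SLPos
import Cfsg.Agent.Lib.Helper28.SLBNX

/-! The field `hpos` of `SplitBN (slBN hn) (unitri n F) q` verbatim, on helper28's root subgroups
`Xsl n F i` (helper22, S4538 leaf). -/

set_option autoImplicit false

namespace Cfsg.Agent.Lib.Helper22.SLWeyl

open Matrix Equiv Cfsg.Agent.Lib.Helper3.BN Cfsg.Agent.Lib.Helper3.WordLen
  Cfsg.Agent.Lib.Helper28.SLBN Cfsg.Agent.Lib.Helper18.PSLnAut

variable {n : ℕ} {F : Type*} [Field F]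

/-- **the field `hpos`** of the split BN-pair of `SL_n(F)` -/
theorem hpos_Xsl [Finite F] (hn : 0 < n) :
    ∀ (i : Fin (n - 1)) (hs : sOfSL n F i ∈ (slBN (F := F) hn).S)
      (m : SpecialLinearGroup (Fin n) F) (hm : m ∈ (slBN (F := F) hn).N),
      len (Sbar (slBN (F := F) hn)) (mkW (slBN (F := F) hn) m hm) <
        len (Sbar (slBN (F := F) hn))
          (sb (slBN (F := F) hn) (sOfSL n F i) hs * mkW (slBN (F := F) hn) m hm) →
      ∀ x ∈ Xsl n F i, m⁻¹ * x * m ∈ unitri n F := by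
  intro i hs m hm hlen x hx
  obtain ⟨t, rfl⟩ := hx
  exact hpos_mat hn (hi_val i) hs hm hlen _ t (coe_xSL _ _ _ t)

end Cfsg.Agent.Lib.Helper22.SLWeyl
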