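/-
helper22: S3713 leaf YLEMMA (`ylemma`): coset enumeration over a point stabiliser with three double
cosets `Ph`, `Ph y Ph`, `Ph n Ph`.  Pure group theory: the graph subgroup of `G × H`.
-/
import Cfsg.Agent.Lib.Helper18.SPDec
import Cfsg.Agent.Lib.Helper18.SPHom

set_option autoImplicit false

namespace Cfsg.Agent.Lib.Helper22.SPYLEMMA

open Cfsg.Agent.Lib.Helper18.SP

section abstract
variable {G H : Type*} [Group G] [Group H]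

/-- the three representatives -/
def Reps (n y : G) (nt yt : H) : Set (G × H) := {((1 : G), (1 : H)), (y, yt), (n, nt)}

/-- the union of the three double cosets of the graph of `φ` on `Ph` -/
def InD (Ph : Subgroup G) (φ : G → H) (n y : G) (nt yt : H) (z : G × H) : Prop :=
  ∃ p₁ ∈ Ph, ∃ p₂ ∈ Ph, ∃ s ∈ Reps n y nt yt, z = (p₁ * s.1 * p₂, φ p₁ * s.2 * φ p₂)

/-- the graph subgroup -/
def Gam (Ph : Subgroup G) (φ : G → H) (n : G) (nt : H) : Subgroup (G × H) :=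
  Subgroup.closure ({z | ∃ g ∈ Ph, z = (g, φ g)} ∪ {(n, nt)})

variable (Ph : Subgroup G) (φ : G → H) (hφ : HomOn Ph φ) (n y : G) (nt yt : H)

include hφ in
theorem one_mem_InD : InD Ph φ n y nt yt 1 := by
  refine ⟨1, Ph.one_mem, 1, Ph.one_mem, (1, 1), Or.inl rfl, ?_⟩
  rw [hφ.map_one]
  simp
  rfl

include hφ in
/-- left multiplication by the graph of `φ` -/
theorem graph_mul_InD {q : G} (hq : q ∈ Ph) {z : G × H} (hz : InD Ph φ n y nt yt z) :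
    InD Ph φ n y nt yt ((q, φ q) * z) := by
  obtain ⟨p₁, hp₁, p₂, hp₂, s, hs, rfl⟩ := hz
  refine ⟨q * p₁, Ph.mul_mem hq hp₁, p₂, hp₂, s, hs, ?_⟩
  rw [hφ.map_mul hq hp₁]
  simp only [Prod.mk_mul_mk, mul_assoc]

include hφ in
/-- left multiplication by `(n, nt)` -/
theorem n_mul_InD
    (hstep : ∀ g ∈ Ph, ∀ s ∈ Reps n y nt yt, ∃ q₁ ∈ Ph, ∃ q₂ ∈ Ph, ∃ s' ∈ Reps n y nt yt,
      n * g * s.1 = q₁ * s'.1 * q₂ ∧ nt * φ g * s.2 = φ q₁ * s'.2 * φ q₂)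
    {z : G × H} (hz : InD Ph φ n y nt yt z) : InD Ph φ n y nt yt ((n, nt) * z) := by
  obtain ⟨p₁, hp₁, p₂, hp₂, s, hs, rfl⟩ := hz
  obtain ⟨q₁, hq₁, q₂, hq₂, s', hs', h1, h2⟩ := hstep p₁ hp₁ s hs
  refine ⟨q₁, hq₁, q₂ * p₂, Ph.mul_mem hq₂ hp₂, s', hs', ?_⟩
  rw [hφ.map_mul hq₂ hp₂]
  simp only [Prod.mk_mul_mk]
  have e1 : n * (p₁ * s.1 * p₂) = (n * p₁ * s.1) * p₂ := by group
  have e2 : nt * (φ p₁ * s.2 * φ p₂) = (nt * φ p₁ * s.2) * φ p₂ := by group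
  rw [e1, e2, h1, h2]
  simp only [mul_assoc]

include hφ in
/-- `Γ₀ ⊆ D` in the strong form: `D` is stable under left multiplication by `Γ₀` -/
theorem gam_mul_InD
    (hninv : ∃ p₁ ∈ Ph, ∃ p₂ ∈ Ph, n⁻¹ = p₁ * n * p₂ ∧ nt⁻¹ = φ p₁ * nt * φ p₂)
    (hstep : ∀ g ∈ Ph, ∀ s ∈ Reps n y nt yt, ∃ q₁ ∈ Ph, ∃ q₂ ∈ Ph, ∃ s' ∈ Reps n y nt yt,
      n * g * s.1 = q₁ * s'.1 * q₂ ∧ nt * φ g * s.2 = φ q₁ * s'.2 * φ q₂)
    {γ : G × H} (hγ : γ ∈ Gam Ph φ n nt) :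
    ∀ z, InD Ph φ n y nt yt z → InD Ph φ n y nt yt (γ * z) ∧ InD Ph φ n y nt yt (γ⁻¹ * z) := by
  unfold Gam at hγ
  induction hγ using Subgroup.closure_induction with
  | mem x hx =>
    intro z hz
    rcases hx with ⟨g, hg, rfl⟩ | hx
    · refine ⟨graph_mul_InD Ph φ hφ n y nt yt hg hz, ?_⟩
      have : ((g, φ g) : G × H)⁻¹ = (g⁻¹, φ g⁻¹) := by
        rw [hφ.map_inv hg]
        rfl
      rw [this]
      exact graph_mul_InD Ph φ hφ n y nt yt (Ph.inv_mem hg) hz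
    · rw [Set.mem_singleton_iff] at hx
      subst hx
      refine ⟨n_mul_InD Ph φ hφ n y nt yt hstep hz, ?_⟩
      obtain ⟨p₁, hp₁, p₂, hp₂, h1, h2⟩ := hninv
      have : ((n, nt) : G × H)⁻¹ = (p₁, φ p₁) * ((n, nt) * (p₂, φ p₂)) := by
        show (n⁻¹, nt⁻¹) = _
        rw [h1, h2]
        simp only [Prod.mk_mul_mk, mul_assoc]
      rw [this, mul_assoc, mul_assoc]
      exact graph_mul_InD Ph φ hφ n y nt yt hp₁
        (n_mul_InD Ph φ hφ n y nt yt hstep (graph_mul_InD Ph φ hφ n y nt yt hp₂ hz))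
  | one =>
    intro z hz
    rw [inv_one, one_mul]
    exact ⟨hz, hz⟩
  | mul a b _ _ iha ihb =>
    intro z hz
    constructor
    · rw [mul_assoc]
      exact (iha _ (ihb z hz).1).1
    · rw [mul_inv_rev, mul_assoc]
      exact (ihb _ (iha z hz).2).2
  | inv a _ iha =>
    intro z hz
    rw [inv_inv]
    exact ⟨(iha z hz).2, (iha z hz).1⟩

include hφ in
theorem gam_sub_InD
    (hninv : ∃ p₁ ∈ Ph, ∃ p₂ ∈ Ph, n⁻¹ = p₁ * n * p₂ ∧ nt⁻¹ = φ p₁ * nt * φ p₂)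
    (hstep : ∀ g ∈ Ph, ∀ s ∈ Reps n y nt yt, ∃ q₁ ∈ Ph, ∃ q₂ ∈ Ph, ∃ s' ∈ Reps n y nt yt,
      n * g * s.1 = q₁ * s'.1 * q₂ ∧ nt * φ g * s.2 = φ q₁ * s'.2 * φ q₂)
    {γ : G × H} (hγ : γ ∈ Gam Ph φ n nt) : InD Ph φ n y nt yt γ := by
  have := (gam_mul_InD Ph φ hφ n y nt yt hninv hstep hγ 1 (one_mem_InD Ph φ hφ n y nt yt)).1
  rwa [mul_one] at this

include hφ in
/-- the projection to `G` is injective on `Γ₀` -/
theorem gam_fst_inj (hn : n ∉ Ph) (hy : y ∉ Ph)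
    (hninv : ∃ p₁ ∈ Ph, ∃ p₂ ∈ Ph, n⁻¹ = p₁ * n * p₂ ∧ nt⁻¹ = φ p₁ * nt * φ p₂)
    (hstep : ∀ g ∈ Ph, ∀ s ∈ Reps n y nt yt, ∃ q₁ ∈ Ph, ∃ q₂ ∈ Ph, ∃ s' ∈ Reps n y nt yt,
      n * g * s.1 = q₁ * s'.1 * q₂ ∧ nt * φ g * s.2 = φ q₁ * s'.2 * φ q₂)
    {g : G} {h h' : H} (h1 : (g, h) ∈ Gam Ph φ n nt) (h2 : (g, h') ∈ Gam Ph φ n nt) : h = h' := by
  have hmem : ((g, h) : G × H)⁻¹ * (g, h') ∈ Gam Ph φ n nt :=
    (Gam Ph φ n nt).mul_mem ((Gam Ph φ n nt).inv_mem h1) h2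
  have hform : ((g, h) : G × H)⁻¹ * (g, h') = (1, h⁻¹ * h') := by
    show (g⁻¹ * g, h⁻¹ * h') = _
    rw [inv_mul_cancel]
  rw [hform] at hmem
  obtain ⟨p₁, hp₁, p₂, hp₂, s, hs, heq⟩ := gam_sub_InD Ph φ hφ n y nt yt hninv hstep hmem
  have heq1 : (1 : G) = p₁ * s.1 * p₂ := congrArg Prod.fst heq
  have heq2 : h⁻¹ * h' = φ p₁ * s.2 * φ p₂ := congrArg Prod.snd heq
  have hsPh : s.1 ∈ Ph := by
    have : s.1 = p₁⁻¹ * p₂⁻¹ := by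
      have e : p₁⁻¹ * (p₁ * s.1 * p₂) * p₂⁻¹ = s.1 := by group
      rw [← e, ← heq1, mul_one]
    rw [this]
    exact Ph.mul_mem (Ph.inv_mem hp₁) (Ph.inv_mem hp₂)
  have hs1 : s = (1, 1) := by
    rcases hs with hs | hs | hs
    · exact hs
    · exfalso
      rw [hs] at hsPh
      exact hy hsPh
    · exfalso
      rw [Set.mem_singleton_iff] at hs
      rw [hs] at hsPh
      exact hn hsPh
  rw [hs1] at heq1 heq2
  simp only [mul_one] at heq1 heq2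
  rw [← hφ.map_mul hp₁ hp₂, ← heq1, hφ.map_one] at heq2
  exact inv_mul_eq_one.mp heq2

/-- `Γ₀` projects onto `closure (Ph ∪ {n})` -/
theorem exists_mem_gam {g : G} (hg : g ∈ Subgroup.closure ((Ph : Set G) ∪ {n})) :
    ∃ h : H, (g, h) ∈ Gam Ph φ n nt := by
  induction hg using Subgroup.closure_induction with
  | mem x hx =>
    rcases hx with hx | hx
    · exact ⟨φ x, Subgroup.subset_closure (Or.inl ⟨x, hx, rfl⟩)⟩
    · rw [Set.mem_singleton_iff] at hx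
      subst hx
      exact ⟨nt, Subgroup.subset_closure (Or.inr rfl)⟩
  | one => exact ⟨1, (Gam Ph φ n nt).one_mem⟩
  | mul a b _ _ iha ihb =>
    obtain ⟨h1, hh1⟩ := iha
    obtain ⟨h2, hh2⟩ := ihb
    exact ⟨h1 * h2, (Gam Ph φ n nt).mul_mem hh1 hh2⟩
  | inv a _ iha =>
    obtain ⟨h1, hh1⟩ := iha
    exact ⟨h1⁻¹, (Gam Ph φ n nt).inv_mem hh1⟩

end abstract

section main
variable {G H : Type*} [Group G] [Group H]

/-- **YLEMMA** (coset enumeration over a point stabiliser with three double cosets `Ph`, `Ph y Ph`, `Ph n Ph`). -/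
theorem ylemma (K Ph : Subgroup G) (hPhK : Ph ≤ K) (φ : G → H) (hφ : HomOn Ph φ) (n y : G) (nt yt : H)
    (hnK : n ∈ K) (hn : n ∉ Ph) (hy : y ∉ Ph)
    (hgen : K ≤ Subgroup.closure ((Ph : Set G) ∪ {n}))
    (hninv : ∃ p₁ ∈ Ph, ∃ p₂ ∈ Ph, n⁻¹ = p₁ * n * p₂ ∧ nt⁻¹ = φ p₁ * nt * φ p₂)
    (hyin : ∃ x ∈ Ph, y = n * x * n⁻¹ ∧ yt = nt * φ x * nt⁻¹)
    (hstep_n : ∀ g ∈ Ph, ∃ p₁ ∈ Ph, ∃ p₂ ∈ Ph,
      (n * g * n = p₁ * p₂ ∧ nt * φ g * nt = φ p₁ * φ p₂) ∨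
      (n * g * n = p₁ * y * p₂ ∧ nt * φ g * nt = φ p₁ * yt * φ p₂) ∨
      (n * g * n = p₁ * n * p₂ ∧ nt * φ g * nt = φ p₁ * nt * φ p₂))
    (hstep_y : ∀ g ∈ Ph, ∃ p₁ ∈ Ph, ∃ p₂ ∈ Ph,
      (n * g * y = p₁ * p₂ ∧ nt * φ g * yt = φ p₁ * φ p₂) ∨
      (n * g * y = p₁ * y * p₂ ∧ nt * φ g * yt = φ p₁ * yt * φ p₂) ∨
      (n * g * y = p₁ * n * p₂ ∧ nt * φ g * yt = φ p₁ * nt * φ p₂)) :
    ∃ Φ : G → H, HomOn K Φ ∧ (∀ g ∈ Ph, Φ g = φ g) ∧ Φ n = nt ∧ Φ y = yt := by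
  classical
  -- the uniform step
  have hstep : ∀ g ∈ Ph, ∀ s ∈ Reps n y nt yt, ∃ q₁ ∈ Ph, ∃ q₂ ∈ Ph, ∃ s' ∈ Reps n y nt yt,
      n * g * s.1 = q₁ * s'.1 * q₂ ∧ nt * φ g * s.2 = φ q₁ * s'.2 * φ q₂ := by
    intro g hg s hs
    have hone : ((1 : G), (1 : H)) ∈ Reps n y nt yt := Or.inl rfl
    have hyy : (y, yt) ∈ Reps n y nt yt := Or.inr (Or.inl rfl)
    have hnn : (n, nt) ∈ Reps n y nt yt := Or.inr (Or.inr rfl)
    have conv : ∀ a : G, ∀ b : H, (∃ p₁ ∈ Ph, ∃ p₂ ∈ Ph,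
        (a = p₁ * p₂ ∧ b = φ p₁ * φ p₂) ∨ (a = p₁ * y * p₂ ∧ b = φ p₁ * yt * φ p₂) ∨
        (a = p₁ * n * p₂ ∧ b = φ p₁ * nt * φ p₂)) →
        ∃ q₁ ∈ Ph, ∃ q₂ ∈ Ph, ∃ s' ∈ Reps n y nt yt,
          a = q₁ * s'.1 * q₂ ∧ b = φ q₁ * s'.2 * φ q₂ := by
      rintro a b ⟨p₁, hp₁, p₂, hp₂, h | h | h⟩
      · exact ⟨p₁, hp₁, p₂, hp₂, (1, 1), hone, by rw [mul_one]; exact h.1, by rw [mul_one]; exact h.2⟩
      · exact ⟨p₁, hp₁, p₂, hp₂, (y, yt), hyy, h.1, h.2⟩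
      · exact ⟨p₁, hp₁, p₂, hp₂, (n, nt), hnn, h.1, h.2⟩
    rcases hs with hs | hs | hs
    · rw [hs]
      refine ⟨1, Ph.one_mem, g, hg, (n, nt), hnn, ?_, ?_⟩
      · simp only [mul_one, one_mul]
      · rw [hφ.map_one]
        simp only [mul_one, one_mul]
    · rw [hs]
      exact conv _ _ (hstep_y g hg)
    · rw [Set.mem_singleton_iff] at hs
      rw [hs]
      exact conv _ _ (hstep_n g hg)
  -- the function
  let Φ : G → H := fun g => if h : ∃ h' : H, (g, h') ∈ Gam Ph φ n nt then h.choose else 1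
  have hΦ : ∀ g : G, ∀ h' : H, (g, h') ∈ Gam Ph φ n nt → Φ g = h' := by
    intro g h' hmem
    have hex : ∃ h' : H, (g, h') ∈ Gam Ph φ n nt := ⟨h', hmem⟩
    have hval : Φ g = hex.choose := dif_pos hex
    rw [hval]
    exact gam_fst_inj Ph φ hφ n y nt yt hn hy hninv hstep hex.choose_spec hmem
  have hn_mem : (n, nt) ∈ Gam Ph φ n nt := Subgroup.subset_closure (Or.inr rfl)
  have hgraph : ∀ g ∈ Ph, (g, φ g) ∈ Gam Ph φ n nt :=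
    fun g hg => Subgroup.subset_closure (Or.inl ⟨g, hg, rfl⟩)
  have hy_mem : (y, yt) ∈ Gam Ph φ n nt := by
    obtain ⟨x, hx, h1, h2⟩ := hyin
    have : ((y, yt) : G × H) = (n, nt) * (x, φ x) * (n, nt)⁻¹ := by
      rw [h1, h2]
      rfl
    rw [this]
    exact (Gam Ph φ n nt).mul_mem ((Gam Ph φ n nt).mul_mem hn_mem (hgraph x hx))
      ((Gam Ph φ n nt).inv_mem hn_mem)
  refine ⟨Φ, ?_, fun g hg => hΦ g _ (hgraph g hg), hΦ n nt hn_mem, hΦ y yt hy_mem⟩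
  intro a ha b hb
  obtain ⟨h1, hh1⟩ := exists_mem_gam Ph φ n nt (hgen ha)
  obtain ⟨h2, hh2⟩ := exists_mem_gam Ph φ n nt (hgen hb)
  rw [hΦ a h1 hh1, hΦ b h2 hh2]
  exact hΦ (a * b) (h1 * h2) ((Gam Ph φ n nt).mul_mem hh1 hh2)

end main

end Cfsg.Agent.Lib.Helper22.SPYLEMMA
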