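import Cfsg.Agent.Lib.Helper22.SUM2FrameB

/-!
# SUnMax stage 2, leaf E1b `su4_three_frame_not_max` (S5784, `q = 3`): assembly (helper22)

The stabiliser `4^3 : S_4` of an orthonormal frame in `SU_4(3)` is not maximal: it lies in `N(R) ∩ SU_4(3)`,
`R = B (4 ∘ 2^{1+4}) B⁻¹` (`B` = the matrix of the frame), which also contains the conjugate of the Walsh-Hadamard matrix
(not monomial in the frame) and does not contain the conjugate of a unitary transvection.
-/

set_option autoImplicit false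
set_option linter.unusedSectionVars false
set_option linter.unusedVariables false

namespace Cfsg.Agent.Lib.Helper22.SUMLeaf

open Cfsg.Geo Matrix Module Cfsg.Agent.Lib.Helper4.SUM Cfsg.Agent.Lib.Helper24.SLMQ8 Cfsg.Agent.Lib.Helper14

variable {F : Type*} [Field F] [Fintype F]

theorem fin4_succ_ne : ∀ s : Fin 4, s + 1 ≠ s := by decide

theorem su4_three_frame_not_max (hF : Fintype.card F = 3 ^ 2) (D : Fin 4 → Submodule F (Fin 4 → F))
    (hD : IsNondegenerateMDecomposition (Cfsg.hermForm 4 F 3) 1 D) :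
    ¬ IsMaximalIn (Cfsg.GU 4 F 3 ⊓ specialLinear (Fin 4) F)
      (decompositionStabilizer D ⊓ (Cfsg.GU 4 F 3 ⊓ specialLinear (Fin 4) F)) := by
  classical
  rintro ⟨-, hmax⟩
  have h3 := nine_three hF
  obtain ⟨i, hi⟩ := nine_exists_i hF
  obtain ⟨v, hv, hvD, hspan⟩ := exists_frame9 hF D hD
  -- the matrix of the frame
  let M0 : Matrix (Fin 4) (Fin 4) F := Matrix.of fun x y => v y x
  have hM0 : OrthoN F 3 4 4 (fun j i => M0 i j) := hv
  let B : GL (Fin 4) F := Matrix.GeneralLinearGroup.mkOfDetNeZero M0 (det_ne_zero_of_orthoN hF M0 hM0)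
  have hBval : (B : Matrix (Fin 4) (Fin 4) F) = M0 := rfl
  have hBcomb : ∀ u, (B : Matrix (Fin 4) (Fin 4) F) *ᵥ u = comb v u := fun u => by
    rw [hBval]; exact mulVec_eq_comb M0 u
  have hBcol : ∀ y, (B : Matrix (Fin 4) (Fin 4) F) *ᵥ Pi.single y 1 = v y := by
    intro y
    ext x
    rw [Matrix.mulVec_single_one]
    rfl
  have hBU : B ∈ Cfsg.GU 4 F 3 := fun x y => hermForm_mulVec_of_orthoN hF M0 hM0 x y
  have hBinv : ∀ y, ((B⁻¹ : GL (Fin 4) F) : Matrix (Fin 4) (Fin 4) F) *ᵥ v y = Pi.single y 1 := by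
    intro y
    rw [← hBcol y, Matrix.mulVec_mulVec, ← Units.val_mul, inv_mul_cancel, Units.val_one, Matrix.one_mulVec]
  -- conjugation by `B` preserves `SU`
  have hconjSU : ∀ g, g ∈ SUg 4 F 3 → B * g * B⁻¹ ∈ SUg 4 F 3 := by
    rintro g ⟨hgU, hgS⟩
    refine ⟨(Cfsg.GU 4 F 3).mul_mem ((Cfsg.GU 4 F 3).mul_mem hBU hgU) ((Cfsg.GU 4 F 3).inv_mem hBU), ?_⟩
    have hN : (specialLinear (Fin 4) F).Normal := by unfold specialLinear; infer_instance
    exact hN.conj_mem g hgS B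
  -- the overgroup
  obtain ⟨N, hNdef⟩ : ∃ N : Subgroup (GL (Fin 4) F),
      N = Subgroup.normalizer ((R0 i hi : Subgroup (GL (Fin 4) F)) : Set (GL (Fin 4) F)) := ⟨_, rfl⟩
  have hmemL : ∀ n, n ∈ N → B * n * B⁻¹ ∈ N.map (MulAut.conj B).toMonoidHom := fun n hn => ⟨n, hn, rfl⟩
  have hofL : ∀ n, B * n * B⁻¹ ∈ N.map (MulAut.conj B).toMonoidHom → n ∈ N := by
    rintro n ⟨m, hm, hmn⟩
    have : m = n := (MulAut.conj B).injective hmn
    rwa [← this]
  have hML : decompositionStabilizer D ⊓ (Cfsg.GU 4 F 3 ⊓ specialLinear (Fin 4) F) ≤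
      N.map (MulAut.conj B).toMonoidHom ⊓ SUg 4 F 3 := by
    rintro g ⟨hgD, hgSU⟩
    refine ⟨?_, hgSU⟩
    obtain ⟨hgU, hgS⟩ := hgSU
    obtain ⟨σ, hσ⟩ := hgD
    have hgv : ∀ y, ∃ a : F, (g : Matrix (Fin 4) (Fin 4) F) *ᵥ v y = a • v (σ y) := by
      intro y
      apply hspan (σ y)
      rw [← hσ y]
      exact ⟨v y, hvD y, by rw [Matrix.toLin'_apply]⟩
    choose c hc using hgv
    have hc4 : ∀ y, c y ^ 4 = 1 := by
      intro y
      have h : Cfsg.hermForm 4 F 3 ((g : Matrix (Fin 4) (Fin 4) F) *ᵥ v y) ((g : Matrix (Fin 4) (Fin 4) F) *ᵥ v y) =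
          Cfsg.hermForm 4 F 3 (v y) (v y) := hgU (v y) (v y)
      rw [hc y, hermForm_smul_left, hermForm_smul_right, hv, hv, if_pos rfl, if_pos rfl] at h
      linear_combination h
    have hc0 : ∀ y, c y ≠ 0 := by
      intro y h0
      have := hc4 y
      rw [h0] at this
      have h10 : (1 : F) = 0 := by linear_combination -this
      exact one_ne_zero h10
    have hg0 : ((B⁻¹ * g * B : GL (Fin 4) F) : Matrix (Fin 4) (Fin 4) F) = mono σ c := by
      ext x y
      have h1 : ((B⁻¹ * g * B : GL (Fin 4) F) : Matrix (Fin 4) (Fin 4) F) *ᵥ Pi.single y 1 =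
          c y • Pi.single (σ y) 1 := by
        rw [Units.val_mul, Units.val_mul, ← Matrix.mulVec_mulVec, ← Matrix.mulVec_mulVec, hBcol, hc,
          Matrix.mulVec_smul, hBinv]
      have h2' := congrFun h1 x
      rw [Matrix.mulVec_single_one] at h2'
      rw [mono_apply]
      simpa [Pi.single_apply, eq_comm] using h2'
    have hdet : ((B⁻¹ * g * B : GL (Fin 4) F) : Matrix (Fin 4) (Fin 4) F).det = 1 := by
      have hg1 : (g : Matrix (Fin 4) (Fin 4) F).det = 1 := by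
        have h' : Matrix.GeneralLinearGroup.det g = 1 := hgS
        simpa using congrArg Units.val h'
      rw [Units.val_mul, Units.val_mul, Matrix.det_units_conj', hg1]
    have hnorm := mono_mem_normalizer' i hi (B⁻¹ * g * B) σ c hc0 hc4 hg0 hdet
    rw [← hNdef] at hnorm
    refine ⟨B⁻¹ * g * B, hnorm, ?_⟩
    show B * (B⁻¹ * g * B) * B⁻¹ = g
    group
  rcases hmax _ hML inf_le_right with h | h
  · -- the Walsh-Hadamard matrix is in the overgroup but does not stabilise the frame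
    have hW : B * WHu h3 * B⁻¹ ∈ N.map (MulAut.conj B).toMonoidHom ⊓ SUg 4 F 3 :=
      ⟨hmemL _ (by rw [hNdef]; exact WHu_mem_normalizer h3 i hi), hconjSU _ (WHu_mem_SUg hF h3)⟩
    rw [h] at hW
    obtain ⟨σ, hσ⟩ := hW.1
    have hmem : ((B * WHu h3 * B⁻¹ : GL (Fin 4) F) : Matrix (Fin 4) (Fin 4) F) *ᵥ v 0 ∈ D (σ 0) := by
      rw [← hσ 0]
      exact ⟨v 0, hvD 0, by rw [Matrix.toLin'_apply]⟩
    obtain ⟨a, ha⟩ := hspan (σ 0) _ hmem
    have hval : ((B * WHu h3 * B⁻¹ : GL (Fin 4) F) : Matrix (Fin 4) (Fin 4) F) *ᵥ v 0 =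
        comb v ((WH : Matrix (Fin 4) (Fin 4) F) *ᵥ Pi.single 0 1) := by
      rw [Units.val_mul, Units.val_mul, ← Matrix.mulVec_mulVec, ← Matrix.mulVec_mulVec, hBinv, hBcomb, WHu_val]
    have hj : σ 0 + 1 ≠ σ 0 := fin4_succ_ne (σ 0)
    have h1 := hermForm_comb_left hv ((WH : Matrix (Fin 4) (Fin 4) F) *ᵥ Pi.single 0 1) (σ 0 + 1)
    rw [← hval, ha, hermForm_smul_left, hv, if_neg hj.symm, mul_zero, Matrix.mulVec_single_one] at h1
    exact WH_ne_zero (σ 0 + 1) 0 h1.symm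
  · -- a unitary transvection is not in the overgroup
    have hi3 : i ^ 3 = -i := by linear_combination i * hi
    obtain ⟨g, hgSU, hgval⟩ := Cfsg.Agent.Lib.Helper4.SUMLeaf.tv_mem hF (herm_centre h3) hi3
    have hgL : B * g * B⁻¹ ∈ N.map (MulAut.conj B).toMonoidHom ⊓ SUg 4 F 3 := by
      rw [h]
      exact hconjSU g hgSU
    have hgN := hofL g hgL.1
    rw [hNdef] at hgN
    exact tv_not_normalizer h3 i hi g (by rw [hgval, ut_eq_TM]) hgN

end Cfsg.Agent.Lib.Helper22.SUMLeaf
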