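import Cfsg.Agent.Lib.Helper4.SUMT
import Cfsg.Agent.Lib.Helper14.Unitary
import Cfsg.Agent.Lib.Helper24.SLMQ8

/-!
# SUnMax stage 2, leaf E1b `su4_three_frame_not_max` (S5784, `q = 3`), part A (helper22)

Facts on a field with nine elements, an orthonormal frame of a non-degenerate decomposition of `F_9^4` into lines, and the
generalisation of helper24's `conj_mem_R0`: a monomial matrix of determinant one whose entries are fourth roots of unity
normalises `R₀ = 4 ∘ 2^{1+4}`.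
-/

set_option autoImplicit false
set_option linter.unusedSectionVars false
set_option linter.unusedVariables false

namespace Cfsg.Agent.Lib.Helper22.SUMLeaf

open Cfsg.Geo Matrix Module Cfsg.Agent.Lib.Helper4.SUM Cfsg.Agent.Lib.Helper24.SLMQ8 Cfsg.Agent.Lib.Helper14

variable {F : Type*} [Field F]

/-! ## A field with nine elements -/

theorem nine_three [Fintype F] (hF : Fintype.card F = 3 ^ 2) : (3 : F) = 0 := by
  have h9 : ((Fintype.card F : ℕ) : F) = 0 := Nat.cast_card_eq_zero F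
  rw [hF] at h9
  have h : (3 : F) * 3 = 0 := by
    push_cast at h9
    linear_combination h9
  exact mul_self_eq_zero.mp h

theorem nine_exists_i [Fintype F] (hF : Fintype.card F = 3 ^ 2) : ∃ i : F, i * i = -1 := by
  have h : IsSquare (-1 : F) := by
    rw [FiniteField.isSquare_neg_one_iff, hF]
    decide
  obtain ⟨r, hr⟩ := h
  exact ⟨r, hr.symm⟩

/-- `ω = 1 + i` has `ω⁴ = -1` -/
theorem omega_pow_four (h3 : (3 : F) = 0) {i : F} (hi : i * i = -1) : (1 + i) ^ 4 = -1 := by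
  linear_combination (i * i + 4 * i + 5) * hi - h3

/-! ## An orthonormal frame -/

theorem exists_frame9 [Fintype F] (hF : Fintype.card F = 3 ^ 2) (D : Fin 4 → Submodule F (Fin 4 → F))
    (hD : IsNondegenerateMDecomposition (Cfsg.hermForm 4 F 3) 1 D) :
    ∃ v : Fin 4 → Fin 4 → F, OrthoN F 3 4 4 v ∧ (∀ i, v i ∈ D i) ∧ ∀ i, ∀ w ∈ D i, ∃ a : F, w = a • v i := by
  classical
  have h3 := nine_three hF
  obtain ⟨i0, hi0⟩ := nine_exists_i hF
  have hex : ∀ i, ∃ v : Fin 4 → F, v ∈ D i ∧ Cfsg.hermForm 4 F 3 v v = 1 ∧ ∀ w ∈ D i, ∃ a : F, w = a • v := by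
    intro i
    obtain ⟨v, hv0, hv⟩ := finrank_eq_one_iff'.mp (hD.decomp.finrank_eq i)
    have hv0' : v.1 ≠ 0 := fun h => hv0 (Subtype.ext h)
    have hspan : ∀ w ∈ D i, ∃ a : F, w = a • v.1 := by
      intro w hw
      obtain ⟨a, ha⟩ := hv ⟨w, hw⟩
      exact ⟨a, (congrArg Subtype.val ha).symm⟩
    obtain ⟨⟨x, hx, hxv⟩, -⟩ := hD.nondegenerate i v.1 v.2 hv0'
    obtain ⟨a, rfl⟩ := hspan x hx
    have hn0 : Cfsg.hermForm 4 F 3 v.1 v.1 ≠ 0 := by
      intro h
      apply hxv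
      rw [hermForm_smul_left, h, mul_zero]
    have hN := hermForm_self_pow hF v.1
    obtain ⟨N, hNdef⟩ : ∃ N, N = Cfsg.hermForm 4 F 3 v.1 v.1 := ⟨_, rfl⟩
    rw [← hNdef] at hN hn0
    have hN2 : (N - 1) * (N + 1) = 0 := by
      have : N * ((N - 1) * (N + 1)) = 0 := by linear_combination hN
      rcases mul_eq_zero.mp this with h | h
      · exact absurd h hn0
      · exact h
    rcases mul_eq_zero.mp hN2 with h | h
    · refine ⟨v.1, v.2, ?_, hspan⟩
      rw [← hNdef]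
      linear_combination h
    · have hω := omega_pow_four h3 hi0
      have hω0 : (1 + i0) ≠ 0 := by
        intro h0
        rw [h0] at hω
        have : (1 : F) = 0 := by linear_combination hω
        exact one_ne_zero this
      refine ⟨(1 + i0) • v.1, (D i).smul_mem _ v.2, ?_, ?_⟩
      · rw [hermForm_smul_left, hermForm_smul_right, ← hNdef]
        linear_combination N * hω - h
      · intro w hw
        obtain ⟨a, ha⟩ := hspan w hw
        refine ⟨a * (1 + i0)⁻¹, ?_⟩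
        rw [smul_smul, mul_assoc, inv_mul_cancel₀ hω0, mul_one, ha]
  choose v hvD hv1 hspan using hex
  refine ⟨v, ?_, hvD, hspan⟩
  intro i j
  by_cases hij : i = j
  · subst hij
    rw [if_pos rfl]
    exact hv1 i
  · rw [if_neg hij]
    exact hD.orthogonal i j hij (v i) (hvD i) (v j) (hvD j)

/-! ## Monomial matrices with entries of order dividing four normalise `R₀` -/

theorem conj_mem_R0' (i : F) (hi : i * i = -1) (g : GL (Fin 4) F)
    (σ : Equiv.Perm (Fin 4)) (c : Fin 4 → F) (hc : ∀ y, c y ≠ 0) (h4 : ∀ y, c y ^ 4 = 1)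
    (hg : (g : Matrix (Fin 4) (Fin 4) F) = mono σ c)
    (hdet : (g : Matrix (Fin 4) (Fin 4) F).det = 1) (h : GL (Fin 4) F) (hh : h ∈ R0 i hi) :
    g * h * g⁻¹ ∈ R0 i hi := by
  obtain ⟨p, rfl⟩ := hh
  obtain ⟨a', ha'⟩ := Cfsg.Agent.Lib.Helper12.SLMQ8Leaf.klein_normal σ p.a
  obtain ⟨hW1, hW2, hW3⟩ := Cfsg.Agent.Lib.Helper12.SLMQ8Leaf.Wc_props i hi p
  set d : Fin 4 → F := fun z => c (vx (σ.symm z) p.a) * Wc i p (σ.symm z) * (c (σ.symm z))⁻¹ with hd
  have hmat : ((g * WGL i hi p * g⁻¹ : GL (Fin 4) F) : Matrix (Fin 4) (Fin 4) F) =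
      mono (fun z => vx z a') d := by
    rw [Units.val_mul, Units.val_mul, Cfsg.Agent.Lib.Helper24.SLMLeaf.inv_mono g σ c hc hg, hg, WGL_val]
    unfold Wm
    rw [mono_mul, mono_mul]
    congr 1
    funext z
    exact ha' z
  have hs : ∀ y, (c y * c y) * (c y * c y) = 1 := fun y => by
    have := h4 y; rw [← this]; ring
  have hprod : ∏ y, (c y * c y) = 1 := by
    rw [Finset.prod_mul_distrib, ← Cfsg.Agent.Lib.Helper12.SLMQ8Leaf.det_mono_sq σ c, ← hg, hdet, mul_one]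
  have hcos := Cfsg.Agent.Lib.Helper12.SLMQ8Leaf.coset_prod (fun y => c y * c y) hs hprod
  have key : ∀ z, d z * d z = (c p.a * c p.a) * (c 0 * c 0) * (Wc i p 0 * Wc i p 0) := by
    intro z
    have e1 := hcos p.a (σ.symm z)
    have e2 := hs (σ.symm z)
    have e3 := hW1 (σ.symm z)
    have hne := hc (σ.symm z)
    have e4 : (c (σ.symm z))⁻¹ * (c (σ.symm z))⁻¹ = c (σ.symm z) * c (σ.symm z) := by
      field_simp
      linear_combination (-1 : F) * e2
    simp only [hd]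
    calc c (vx (σ.symm z) p.a) * Wc i p (σ.symm z) * (c (σ.symm z))⁻¹ *
          (c (vx (σ.symm z) p.a) * Wc i p (σ.symm z) * (c (σ.symm z))⁻¹)
        = (c (vx (σ.symm z) p.a) * c (vx (σ.symm z) p.a)) * ((c (σ.symm z))⁻¹ * (c (σ.symm z))⁻¹) *
          (Wc i p (σ.symm z) * Wc i p (σ.symm z)) := by ring
      _ = _ := by
        rw [e4, e3, e1]
  have h1 : ∀ z, d z * d z = d 0 * d 0 := fun z => by rw [key z, key 0]
  have h2 : ∏ z, d z = 1 := by
    rw [← Equiv.prod_comp σ d]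
    simp only [hd, Equiv.symm_apply_apply]
    rw [Finset.prod_mul_distrib, Finset.prod_mul_distrib, hW2, mul_one, Finset.prod_inv_distrib]
    have : ∏ y, c (vx y p.a) = ∏ y, c y := Equiv.prod_comp (Cfsg.Agent.Lib.Helper24.SLMLeaf.vxEquiv p.a) c
    rw [this]
    exact mul_inv_cancel₀ (Finset.prod_ne_zero_iff.mpr fun y _ => hc y)
  have hW4 : ∀ y, Wc i p y ^ 4 = 1 := by
    intro y
    have : Wc i p y ^ 4 = (Wc i p y * Wc i p y) * (Wc i p y * Wc i p y) := by ring
    rw [this, hW1 y, ← hW3]; ring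
  have h3 : d 0 ^ 4 = 1 := by
    simp only [hd]
    rw [mul_pow, mul_pow, inv_pow, h4, h4, hW4]; simp
  obtain ⟨k, b, hkb⟩ := Cfsg.Agent.Lib.Helper12.SLMQ8Leaf.exists_Wc_eq i hi d h1 h2 h3
  refine ⟨⟨k, a', b⟩, Units.ext ?_⟩
  rw [hmat, WGL_val]
  unfold Wm
  rw [hkb a']

theorem mono_mem_normalizer' (i : F) (hi : i * i = -1) (g : GL (Fin 4) F)
    (σ : Equiv.Perm (Fin 4)) (c : Fin 4 → F) (hc : ∀ y, c y ≠ 0) (h4 : ∀ y, c y ^ 4 = 1)
    (hg : (g : Matrix (Fin 4) (Fin 4) F) = mono σ c)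
    (hdet : (g : Matrix (Fin 4) (Fin 4) F).det = 1) :
    g ∈ Subgroup.normalizer ((R0 i hi : Subgroup (GL (Fin 4) F)) : Set (GL (Fin 4) F)) := by
  rw [Subgroup.mem_normalizer_iff]
  intro h
  constructor
  · exact conj_mem_R0' i hi g σ c hc h4 hg hdet h
  · intro hh
    have hginv := Cfsg.Agent.Lib.Helper24.SLMLeaf.inv_mono g σ c hc hg
    have hdet' : ((g⁻¹ : GL (Fin 4) F) : Matrix (Fin 4) (Fin 4) F).det = 1 := by
      have h1 : ((g⁻¹ : GL (Fin 4) F) : Matrix (Fin 4) (Fin 4) F).det * (g : Matrix (Fin 4) (Fin 4) F).det = 1 := by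
        rw [← Matrix.det_mul, ← Units.val_mul, inv_mul_cancel, Units.val_one, Matrix.det_one]
      rwa [hdet, mul_one] at h1
    have := conj_mem_R0' i hi g⁻¹ σ.symm _ (fun z => inv_ne_zero (hc _))
      (fun z => by rw [inv_pow, h4, inv_one]) hginv hdet' _ hh
    simpa [mul_assoc] using this

end Cfsg.Agent.Lib.Helper22.SUMLeaf
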