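import Cfsg.Agent.Lib.Helper22.SUM2FrameA

/-!
# SUnMax stage 2, leaf E1b `su4_three_frame_not_max` (S5784, `q = 3`), part B (helper22)

The Walsh-Hadamard matrix `(-1)^(x·y)` lies in `SU_4(3)` and normalises `R₀ = 4 ∘ 2^{1+4}`; the unitary transvection with
centre `(1,1,1,0)` does not normalise `R₀`.
-/

set_option autoImplicit false
set_option linter.unusedSectionVars false
set_option linter.unusedVariables false

namespace Cfsg.Agent.Lib.Helper22.SUMLeaf

open Cfsg.Geo Matrix Module Cfsg.Agent.Lib.Helper4.SUM Cfsg.Agent.Lib.Helper24.SLMQ8 Cfsg.Agent.Lib.Helper14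

variable {F : Type*} [Field F]

/-! ## Products with `W(k,a,b)` -/

theorem mul_Wm_apply (A : Matrix (Fin 4) (Fin 4) F) (i : F) (p : G64) (x y : Fin 4) :
    (A * Wm i p) x y = A x (vx y p.a) * Wc i p y := by
  rw [Matrix.mul_apply, Finset.sum_eq_single (vx y p.a)]
  · unfold Wm
    rw [mono_apply, if_pos rfl]
  · intro z _ hz
    unfold Wm
    rw [mono_apply, if_neg hz, mul_zero]
  · intro h; exact absurd (Finset.mem_univ _) h

theorem Wm_mul_apply (A : Matrix (Fin 4) (Fin 4) F) (i : F) (p : G64) (x y : Fin 4) :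
    (Wm i p * A) x y = Wc i p (vx x p.a) * A (vx x p.a) y := by
  rw [Matrix.mul_apply, Finset.sum_eq_single (vx x p.a)]
  · unfold Wm
    rw [mono_apply, if_pos (vx_vx_cancel x p.a).symm]
  · intro z _ hz
    unfold Wm
    rw [mono_apply, if_neg, zero_mul]
    intro hx
    apply hz
    rw [hx, vx_vx_cancel]
  · intro h; exact absurd (Finset.mem_univ _) h

/-! ## The Walsh-Hadamard matrix -/

/-- the integral Walsh-Hadamard matrix -/
def WHZ : Matrix (Fin 4) (Fin 4) ℤ := fun x y => (-1) ^ dt x y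

theorem WHZ_sq : ∀ x y : Fin 4, ∑ z, WHZ x z * WHZ z y = if x = y then 4 else 0 := by decide +kernel

theorem WHZ_det : WHZ.det = 16 := by
  rw [Matrix.det_apply]
  decide +kernel

/-- the Walsh-Hadamard matrix over `F` -/
def WH : Matrix (Fin 4) (Fin 4) F := fun x y => (-1) ^ dt x y

theorem WH_apply (x y : Fin 4) : (WH : Matrix (Fin 4) (Fin 4) F) x y = (-1) ^ dt x y := rfl

theorem WH_eq_map : (WH : Matrix (Fin 4) (Fin 4) F) = WHZ.map (Int.castRingHom F) := by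
  ext x y
  simp [WH, WHZ]

theorem WH_symm (x y : Fin 4) : (WH : Matrix (Fin 4) (Fin 4) F) x y = WH y x := by
  rw [WH_apply, WH_apply, dt_comm]

theorem WH_ne_zero (x y : Fin 4) : (WH : Matrix (Fin 4) (Fin 4) F) x y ≠ 0 := by
  rw [WH_apply]
  exact pow_ne_zero _ (neg_ne_zero.mpr one_ne_zero)

theorem WH_pow_three (x y : Fin 4) : ((WH : Matrix (Fin 4) (Fin 4) F) x y) ^ 3 = WH x y := by
  rw [WH_apply]
  rcases neg_one_pow_eq_or F (dt x y) with h | h <;> rw [h] <;> ring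

theorem WH_mul_self (h3 : (3 : F) = 0) : (WH : Matrix (Fin 4) (Fin 4) F) * WH = 1 := by
  ext x y
  rw [Matrix.mul_apply, WH_eq_map]
  simp only [Matrix.map_apply]
  have h := congrArg (Int.castRingHom F) (WHZ_sq x y)
  rw [map_sum] at h
  simp only [map_mul] at h
  rw [h, Matrix.one_apply]
  split_ifs
  · simp only [eq_intCast, Int.cast_ofNat]
    linear_combination h3
  · simp

theorem WH_det (h3 : (3 : F) = 0) : (WH : Matrix (Fin 4) (Fin 4) F).det = 1 := by
  rw [WH_eq_map, ← RingHom.mapMatrix_apply, ← RingHom.map_det, WHZ_det]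
  simp only [eq_intCast, Int.cast_ofNat]
  linear_combination 5 * h3

/-- the Walsh-Hadamard matrix as an element of the general linear group -/
def WHu (h3 : (3 : F) = 0) : GL (Fin 4) F := ⟨WH, WH, WH_mul_self h3, WH_mul_self h3⟩

theorem WHu_val (h3 : (3 : F) = 0) : ((WHu h3 : GL (Fin 4) F) : Matrix (Fin 4) (Fin 4) F) = WH := rfl

theorem WHu_mul_self (h3 : (3 : F) = 0) : WHu h3 * WHu h3 = 1 := Units.ext (WH_mul_self h3)

theorem WHu_inv (h3 : (3 : F) = 0) : (WHu h3)⁻¹ = WHu h3 := inv_eq_of_mul_eq_one_right (WHu_mul_self h3)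

theorem WH_orthoN (h3 : (3 : F) = 0) : OrthoN F 3 4 4 (fun j i => (WH : Matrix (Fin 4) (Fin 4) F) i j) := by
  intro j l
  have h := congrFun (congrFun (WH_mul_self h3) j) l
  rw [Matrix.mul_apply, Matrix.one_apply] at h
  rw [← h]
  unfold Cfsg.hermForm
  refine Finset.sum_congr rfl fun x _ => ?_
  show WH x j * (WH x l) ^ 3 = WH j x * WH x l
  rw [WH_pow_three, WH_symm x j]

theorem WHu_mem_SUg [Fintype F] (hF : Fintype.card F = 3 ^ 2) (h3 : (3 : F) = 0) : WHu h3 ∈ SUg 4 F 3 := by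
  classical
  rw [Cfsg.Agent.Lib.Helper4.SUMLeaf.mem_SUg_iff]
  exact ⟨fun x y => hermForm_mulVec_of_orthoN hF WH (WH_orthoN h3) x y, WH_det h3⟩

theorem WH_rel_aux : ∀ k a b x y : Fin 4,
    (2 * dt x (vx y a) + (k.val + 2 * dt b y)) % 4 =
      ((k + tw a b).val + 2 * dt a (vx x b) + 2 * dt (vx x b) y) % 4 := by decide +kernel

theorem WH_mul_Wm {i : F} (hi : i * i = -1) (k a b : Fin 4) :
    (WH : Matrix (Fin 4) (Fin 4) F) * Wm i ⟨k, a, b⟩ = Wm i ⟨k + tw a b, b, a⟩ * WH := by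
  have hm1 : (-1 : F) = i ^ 2 := by rw [pow_two, hi]
  have hi4 : i ^ 4 = 1 := by
    have : i ^ 4 = (i * i) * (i * i) := by ring
    rw [this, hi]; ring
  ext x y
  rw [mul_Wm_apply, Wm_mul_apply]
  show WH x (vx y a) * Wc i ⟨k, a, b⟩ y = Wc i ⟨k + tw a b, b, a⟩ (vx x b) * WH (vx x b) y
  unfold Wc
  rw [WH_apply, WH_apply]
  show (-1 : F) ^ dt x (vx y a) * (i ^ k.val * (-1) ^ dt b y) =
    i ^ (k + tw a b).val * (-1) ^ dt a (vx x b) * (-1) ^ dt (vx x b) y
  have hL : (-1 : F) ^ dt x (vx y a) * (i ^ k.val * (-1) ^ dt b y) =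
      i ^ (2 * dt x (vx y a) + (k.val + 2 * dt b y)) := by
    rw [hm1, ← pow_mul, ← pow_mul, ← pow_add, ← pow_add]
  have hR : i ^ (k + tw a b).val * (-1) ^ dt a (vx x b) * (-1) ^ dt (vx x b) y =
      i ^ ((k + tw a b).val + 2 * dt a (vx x b) + 2 * dt (vx x b) y) := by
    rw [hm1, ← pow_mul, ← pow_mul, ← pow_add, ← pow_add]
  rw [hL, hR, pow_eq_pow_mod _ hi4, pow_eq_pow_mod ((k + tw a b).val + _ + _) hi4]
  congr 1
  exact WH_rel_aux k a b x y

theorem WHu_conj_mem (h3 : (3 : F) = 0) (i : F) (hi : i * i = -1) (h : GL (Fin 4) F) (hh : h ∈ R0 i hi) :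
    WHu h3 * h * (WHu h3)⁻¹ ∈ R0 i hi := by
  obtain ⟨⟨k, a, b⟩, rfl⟩ := hh
  refine ⟨⟨k + tw a b, b, a⟩, ?_⟩
  rw [eq_mul_inv_iff_mul_eq]
  apply Units.ext
  rw [Units.val_mul, Units.val_mul, WGL_val, WGL_val, WHu_val]
  exact (WH_mul_Wm hi k a b).symm

theorem WHu_mem_normalizer (h3 : (3 : F) = 0) (i : F) (hi : i * i = -1) :
    WHu h3 ∈ Subgroup.normalizer ((R0 i hi : Subgroup (GL (Fin 4) F)) : Set (GL (Fin 4) F)) := by
  rw [Subgroup.mem_normalizer_iff]
  intro h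
  constructor
  · exact WHu_conj_mem h3 i hi h
  · intro hh
    have := WHu_conj_mem h3 i hi _ hh
    rw [WHu_inv] at this
    have e : WHu h3 * (WHu h3 * h * WHu h3) * WHu h3 = h := by
      calc WHu h3 * (WHu h3 * h * WHu h3) * WHu h3 = (WHu h3 * WHu h3) * h * (WHu h3 * WHu h3) := by group
        _ = h := by rw [WHu_mul_self]; group
    rwa [e] at this

/-! ## A unitary transvection which does not normalise `R₀` -/

/-- the matrix of the unitary transvection with centre `(1,1,1,0)` and parameter `i` -/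
def TM (i : F) : Matrix (Fin 4) (Fin 4) F :=
  !![1 + i, i, i, 0; i, 1 + i, i, 0; i, i, 1 + i, 0; 0, 0, 0, 1]

theorem ut_apply' {n q : ℕ} (v : Fin n → F) (c : F) (x y : Fin n) :
    Cfsg.unitaryTransvection n q v c x y = (if x = y then 1 else 0) + c * (v x * v y ^ q) := by
  unfold Cfsg.unitaryTransvection
  rw [Matrix.add_apply, Matrix.smul_apply, Matrix.vecMulVec_apply, Matrix.one_apply, smul_eq_mul]

theorem ut_eq_TM (i : F) : Cfsg.unitaryTransvection 4 3 ![1, 1, 1, 0] i = TM i := by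
  ext x y
  rw [ut_apply']
  fin_cases x <;> fin_cases y <;> simp [TM]

theorem herm_centre (h3 : (3 : F) = 0) : Cfsg.hermForm 4 F 3 ![1, 1, 1, 0] ![1, 1, 1, 0] = 0 := by
  unfold Cfsg.hermForm
  rw [Fin.sum_univ_four]
  simp
  linear_combination h3

theorem Wc_r (i : F) : Wc i ⟨0, 0, 1⟩ 0 = 1 ∧ Wc i ⟨0, 0, 1⟩ 1 = -1 ∧ Wc i ⟨0, 0, 1⟩ 2 = 1 ∧ Wc i ⟨0, 0, 1⟩ 3 = -1 := by
  have d0 : dt 1 0 = 0 := by decide
  have d1 : dt 1 1 = 1 := by decide
  have d2 : dt 1 2 = 0 := by decide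
  have d3 : dt 1 3 = 1 := by decide
  unfold Wc
  simp [d0, d1, d2, d3]

theorem TM_key (h3 : (3 : F) = 0) (i : F) (hi : i * i = -1) (a' : Fin 4) (w : F)
    (e0 : TM i 0 0 * 1 = w * TM i a' 0) (e1 : TM i 0 1 * (-1) = w * TM i a' 1)
    (e2 : TM i 0 2 * 1 = w * TM i a' 2) (e3 : TM i 0 3 * (-1) = w * TM i a' 3) : False := by
  have h00 : TM i 0 0 = 1 + i := rfl
  have h01 : TM i 0 1 = i := rfl
  have h02 : TM i 0 2 = i := rfl
  have h03 : TM i 0 3 = 0 := rfl
  have h10 : TM i 1 0 = i := rfl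
  have h11 : TM i 1 1 = 1 + i := rfl
  have h12 : TM i 1 2 = i := rfl
  have h20 : TM i 2 0 = i := rfl
  have h21 : TM i 2 1 = i := rfl
  have h22 : TM i 2 2 = 1 + i := rfl
  have h30 : TM i 3 0 = 0 := rfl
  have hone : (1 : F) = 0 := by
    fin_cases a'
    · change TM i 0 1 * (-1) = w * TM i 0 1 at e1
      change TM i 0 2 * 1 = w * TM i 0 2 at e2
      rw [h01] at e1
      rw [h02] at e2
      linear_combination h3 - 2 * hi + i * (e2 - e1)
    · change TM i 0 0 * 1 = w * TM i 1 0 at e0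
      change TM i 0 2 * 1 = w * TM i 1 2 at e2
      rw [h00, h10] at e0
      rw [h02, h12] at e2
      linear_combination e0 - e2
    · change TM i 0 0 * 1 = w * TM i 2 0 at e0
      change TM i 0 1 * (-1) = w * TM i 2 1 at e1
      rw [h00, h20] at e0
      rw [h01, h21] at e1
      linear_combination h3 - hi + (i + 1) * (-(e0 - e1) + i * h3)
    · change TM i 0 0 * 1 = w * TM i 3 0 at e0
      rw [h00, h30] at e0
      linear_combination h3 - hi + (i - 1) * e0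
  exact one_ne_zero hone

theorem tv_not_normalizer (h3 : (3 : F) = 0) (i : F) (hi : i * i = -1) (g : GL (Fin 4) F)
    (hg : (g : Matrix (Fin 4) (Fin 4) F) = TM i) :
    g ∉ Subgroup.normalizer ((R0 i hi : Subgroup (GL (Fin 4) F)) : Set (GL (Fin 4) F)) := by
  intro hn
  rw [Subgroup.mem_normalizer_iff] at hn
  have hr : WGL i hi ⟨0, 0, 1⟩ ∈ R0 i hi := ⟨_, rfl⟩
  obtain ⟨p', hp'⟩ := (hn _).mp hr
  have hrel : TM i * Wm i ⟨0, 0, 1⟩ = Wm i p' * TM i := by
    have h1 : g * WGL i hi ⟨0, 0, 1⟩ = WGL i hi p' * g := by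
      rw [hp']; group
    have h2 := congrArg Units.val h1
    rw [Units.val_mul, Units.val_mul, WGL_val, WGL_val, hg] at h2
    exact h2
  have e : ∀ y, TM i 0 (vx y 0) * Wc i ⟨0, 0, 1⟩ y = Wc i p' (vx 0 p'.a) * TM i (vx 0 p'.a) y := by
    intro y
    have := congrFun (congrFun hrel 0) y
    rwa [mul_Wm_apply, Wm_mul_apply] at this
  obtain ⟨hr0, hr1, hr2, hr3⟩ := Wc_r i
  have e0 := e 0
  have e1 := e 1
  have e2 := e 2
  have e3 := e 3
  rw [vx_zero, zero_vx] at e0 e1 e2 e3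
  rw [hr0] at e0
  rw [hr1] at e1
  rw [hr2] at e2
  rw [hr3] at e3
  exact TM_key h3 i hi p'.a _ e0 e1 e2 e3

end Cfsg.Agent.Lib.Helper22.SUMLeaf
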