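/-
helper22: S4395 leaf IDX (planner helper21, `notes/S4395_leaves.lean`): the additive subgroup generated by the
`ω^m + ω^-m` is a subfield `k'` with `K = k' + k' ω`, so its index is at most `p ^ bb a`.
-/
import Mathlib
import Cfsg.Prelude.Def_Transfer
import Cfsg.Agent.Lib.Helper21.SchDefs

set_option autoImplicit false
set_option linter.unusedSectionVars false
set_option linter.unusedVariables false
universe u v
open Cfsg
open Cfsg.Agent.Lib.Helper21.Sch

namespace Cfsg.Agent.Lib.Helper22.SchIDX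

variable {K : Type*} [Field K]

/-- the additive subgroup generated by the `ω^m + ω⁻¹^m` -/
def kk (ω : K) : AddSubgroup K := AddSubgroup.closure {x | ∃ m : ℕ, x = ω ^ m + ω⁻¹ ^ m}

theorem gen_mem (ω : K) (m : ℕ) : ω ^ m + ω⁻¹ ^ m ∈ kk ω :=
  AddSubgroup.subset_closure ⟨m, rfl⟩

theorem gen_mul_gen_aux (ω : K) (hω0 : ω ≠ 0) (n k : ℕ) :
    (ω ^ (n + k) + ω⁻¹ ^ (n + k)) * (ω ^ n + ω⁻¹ ^ n) ∈ kk ω := by
  have hu : ω ^ n * ω⁻¹ ^ n = 1 := by
    rw [← mul_pow, mul_inv_cancel₀ hω0, one_pow]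
  have h : (ω ^ (n + k) + ω⁻¹ ^ (n + k)) * (ω ^ n + ω⁻¹ ^ n) =
      (ω ^ (n + k + n) + ω⁻¹ ^ (n + k + n)) + (ω ^ k + ω⁻¹ ^ k) := by
    simp only [pow_add]
    linear_combination (ω ^ k + ω⁻¹ ^ k) * hu
  rw [h]
  exact (kk ω).add_mem (gen_mem ω _) (gen_mem ω _)

theorem gen_mul_gen (ω : K) (hω0 : ω ≠ 0) (m n : ℕ) :
    (ω ^ m + ω⁻¹ ^ m) * (ω ^ n + ω⁻¹ ^ n) ∈ kk ω := by
  rcases le_total n m with h | h
  · obtain ⟨k, rfl⟩ := Nat.exists_eq_add_of_le h
    exact gen_mul_gen_aux ω hω0 n k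
  · obtain ⟨k, rfl⟩ := Nat.exists_eq_add_of_le h
    rw [mul_comm]
    exact gen_mul_gen_aux ω hω0 m k

theorem kk_mul_mem (ω : K) (hω0 : ω ≠ 0) {x y : K} (hx : x ∈ kk ω) (hy : y ∈ kk ω) :
    x * y ∈ kk ω := by
  have h1 : ∀ m : ℕ, ∀ y ∈ kk ω, (ω ^ m + ω⁻¹ ^ m) * y ∈ kk ω := by
    intro m y hy
    refine AddSubgroup.closure_induction (p := fun y _ => (ω ^ m + ω⁻¹ ^ m) * y ∈ kk ω)
      ?_ ?_ ?_ ?_ hy
    · rintro y ⟨n, rfl⟩
      exact gen_mul_gen ω hω0 m n
    · rw [mul_zero]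
      exact (kk ω).zero_mem
    · intro a b _ _ ha hb
      rw [mul_add]
      exact (kk ω).add_mem ha hb
    · intro a _ ha
      rw [mul_neg]
      exact (kk ω).neg_mem ha
  refine AddSubgroup.closure_induction (p := fun x _ => x * y ∈ kk ω) ?_ ?_ ?_ ?_ hx
  · rintro x ⟨m, rfl⟩
    exact h1 m y hy
  · rw [zero_mul]
    exact (kk ω).zero_mem
  · intro a b _ _ ha hb
    rw [add_mul]
    exact (kk ω).add_mem ha hb
  · intro a _ ha
    rw [neg_mul]
    exact (kk ω).neg_mem ha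

theorem kk_pow_succ_mem (ω : K) (hω0 : ω ≠ 0) {x : K} (hx : x ∈ kk ω) (n : ℕ) :
    x ^ (n + 1) ∈ kk ω := by
  induction n with
  | zero => simpa using hx
  | succ n ih =>
    rw [pow_succ]
    exact kk_mul_mem ω hω0 ih hx

section finite

variable [Finite K]

theorem x0_ne_zero (p q : ℕ) [Fact p.Prime] [Fact q.Prime] [CharP K p] (hpq : p ≠ q) (ω : K)
    (hω : orderOf ω = q) : ω + ω⁻¹ ≠ 0 := by
  have hq : q.Prime := Fact.out
  have hω0 : ω ≠ 0 := by
    rintro rfl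
    rw [orderOf_zero] at hω   -- order of 0 in a monoid with zero
    exact hq.ne_zero hω.symm
  intro h
  have h2 : ω ^ 2 = -1 := by
    have : ω * (ω + ω⁻¹) = 0 := by rw [h, mul_zero]
    rw [mul_add, mul_inv_cancel₀ hω0] at this
    linear_combination this
  have h4 : ω ^ 4 = 1 := by
    have : ω ^ 4 = (ω ^ 2) ^ 2 := by ring
    rw [this, h2]; ring
  have hq4 : q ∣ 4 := by
    rw [← hω]
    exact orderOf_dvd_of_pow_eq_one h4
  have hq2 : q = 2 := by
    have : q ∣ 2 ^ 2 := by simpa using hq4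
    exact (Nat.prime_dvd_prime_iff_eq hq Nat.prime_two).mp (hq.dvd_of_dvd_pow this)
  have hω2 : ω ^ 2 = 1 := by
    rw [← hq2, ← hω]
    exact pow_orderOf_eq_one ω
  -- so `1 = -1`, characteristic two
  have h11 : (2 : K) = 0 := by
    have : (1 : K) = -1 := hω2.symm.trans h2
    linear_combination this
  have hp2 : p ∣ 2 := by
    have := (CharP.cast_eq_zero_iff K p 2).mp (by exact_mod_cast h11)
    exact this
  have : p = 2 := (Nat.prime_dvd_prime_iff_eq Fact.out Nat.prime_two).mp hp2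
  exact hpq (this.trans hq2.symm)

theorem one_mem_kk (p q : ℕ) [Fact p.Prime] [Fact q.Prime] [CharP K p] (hpq : p ≠ q) (ω : K)
    (hω : orderOf ω = q) (hω0 : ω ≠ 0) : (1 : K) ∈ kk ω := by
  classical
  have := Fintype.ofFinite K
  have hx : ω + ω⁻¹ ∈ kk ω := by
    have := gen_mem ω 1
    simpa using this
  have hx0 := x0_ne_zero p q hpq ω hω
  have h1 := FiniteField.pow_card_sub_one_eq_one (ω + ω⁻¹) hx0
  have hc : 2 ≤ Fintype.card K := Fintype.one_lt_card
  obtain ⟨n, hn⟩ : ∃ n, Fintype.card K - 1 = n + 1 := ⟨Fintype.card K - 2, by omega⟩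
  rw [hn] at h1
  rw [← h1]
  exact kk_pow_succ_mem ω hω0 hx n

theorem inv_mem_kk (p q : ℕ) [Fact p.Prime] [Fact q.Prime] [CharP K p] (hpq : p ≠ q) (ω : K)
    (hω : orderOf ω = q) (hω0 : ω ≠ 0) {x : K} (hx : x ∈ kk ω) : x⁻¹ ∈ kk ω := by
  classical
  have := Fintype.ofFinite K
  by_cases hx0 : x = 0
  · rw [hx0, inv_zero]
    exact (kk ω).zero_mem
  have h1 := FiniteField.pow_card_sub_one_eq_one x hx0
  have hc : 2 ≤ Fintype.card K := Fintype.one_lt_card
  by_cases hc2 : Fintype.card K = 2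
  · rw [hc2] at h1
    have : x = 1 := by simpa using h1
    rw [this, inv_one]
    exact one_mem_kk p q hpq ω hω hω0
  obtain ⟨n, hn⟩ : ∃ n, Fintype.card K - 1 = (n + 1) + 1 := ⟨Fintype.card K - 3, by omega⟩
  rw [hn, pow_succ] at h1
  have : x⁻¹ = x ^ (n + 1) := by
    rw [eq_comm, ← mul_inv_eq_one₀ (inv_ne_zero hx0), inv_inv]
    exact h1
  rw [this]
  exact kk_pow_succ_mem ω hω0 hx n

/-- `kk ω` is a subfield -/
theorem exists_subfield (p q : ℕ) [Fact p.Prime] [Fact q.Prime] [CharP K p] (hpq : p ≠ q) (ω : K)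
    (hω : orderOf ω = q) (hω0 : ω ≠ 0) : ∃ S : Subfield K, ∀ x, x ∈ S ↔ x ∈ kk ω :=
  ⟨{ carrier := kk ω
     mul_mem' := fun hx hy => kk_mul_mem ω hω0 hx hy
     one_mem' := one_mem_kk p q hpq ω hω hω0
     add_mem' := fun hx hy => (kk ω).add_mem hx hy
     zero_mem' := (kk ω).zero_mem
     neg_mem' := fun hx => (kk ω).neg_mem hx
     inv_mem' := fun x hx => inv_mem_kk p q hpq ω hω hω0 hx }, fun x => Iff.rfl⟩

/-- `K = k' + k' ω` -/
theorem exists_decomp (p q : ℕ) [Fact p.Prime] [Fact q.Prime] [CharP K p] (hpq : p ≠ q) (ω : K)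
    (hω : orderOf ω = q) (hω0 : ω ≠ 0)
    (hspan : ∀ S : AddSubgroup K, (1 : K) ∈ S → (∀ v ∈ S, ω * v ∈ S) → S = ⊤) (x : K) :
    ∃ s ∈ kk ω, ∃ t ∈ kk ω, x = s + t * ω := by
  let S : AddSubgroup K :=
    { carrier := {x | ∃ s ∈ kk ω, ∃ t ∈ kk ω, x = s + t * ω}
      zero_mem' := ⟨0, (kk ω).zero_mem, 0, (kk ω).zero_mem, by simp⟩
      add_mem' := by
        rintro _ _ ⟨s, hs, t, ht, rfl⟩ ⟨s', hs', t', ht', rfl⟩
        exact ⟨s + s', (kk ω).add_mem hs hs', t + t', (kk ω).add_mem ht ht', by ring⟩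
      neg_mem' := by
        rintro _ ⟨s, hs, t, ht, rfl⟩
        exact ⟨-s, (kk ω).neg_mem hs, -t, (kk ω).neg_mem ht, by ring⟩ }
  have hx0 : ω + ω⁻¹ ∈ kk ω := by
    have := gen_mem ω 1
    simpa using this
  have hS : S = ⊤ := by
    apply hspan S
    · exact ⟨1, one_mem_kk p q hpq ω hω hω0, 0, (kk ω).zero_mem, by simp⟩
    · rintro _ ⟨s, hs, t, ht, rfl⟩
      refine ⟨-t, (kk ω).neg_mem ht, s + t * (ω + ω⁻¹),
        (kk ω).add_mem hs (kk_mul_mem ω hω0 ht hx0), ?_⟩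
      have : ω⁻¹ * ω = 1 := inv_mul_cancel₀ hω0
      linear_combination (-t) * this
  have : x ∈ S := by rw [hS]; exact AddSubgroup.mem_top x
  exact this

end finite

/-- **TAG IDX** -/
theorem index_le {K : Type*} [Field K] [Finite K] (p q : ℕ) [Fact p.Prime] [Fact q.Prime] [CharP K p]
    (hpq : p ≠ q) (a : ℕ) (hK : Nat.card K = p ^ a) (ω : K) (hω : orderOf ω = q)
    (hspan : ∀ S : AddSubgroup K, (1 : K) ∈ S → (∀ v ∈ S, ω * v ∈ S) → S = ⊤)
    (N : AddSubgroup K) (hN : ∀ m : ℕ, ω ^ m + ω⁻¹ ^ m ∈ N) : N.index ≤ p ^ bb a := by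
  classical
  have hp : p.Prime := Fact.out
  have hq : q.Prime := Fact.out
  have hω0 : ω ≠ 0 := by
    rintro rfl
    rw [orderOf_zero] at hω
    exact hq.ne_zero hω.symm
  -- reduce to `kk ω`
  have hle : kk ω ≤ N := by
    unfold kk
    rw [AddSubgroup.closure_le]
    rintro x ⟨m, rfl⟩
    exact hN m
  have hidx : N.index ≤ (kk ω).index := by
    have hdvd := AddSubgroup.index_dvd_of_le hle
    have hne : (kk ω).index ≠ 0 := AddSubgroup.index_ne_zero_of_finite
    exact Nat.le_of_dvd (Nat.pos_of_ne_zero hne) hdvd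
  refine hidx.trans ?_
  obtain ⟨S, hS⟩ := exists_subfield p q hpq ω hω hω0
  -- cardinalities
  set c := Nat.card (kk ω) with hc
  have hcS : Nat.card S = c := by
    apply Nat.card_congr
    exact { toFun := fun x => ⟨x.1, (hS x.1).mp x.2⟩
            invFun := fun x => ⟨x.1, (hS x.1).mpr x.2⟩
            left_inv := fun x => rfl
            right_inv := fun x => rfl }
  have hpow : Nat.card K = c ^ Module.finrank S K := by
    rw [← hcS]
    exact Module.natCard_eq_pow_finrank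
  set d := Module.finrank S K with hd
  have hmul : (kk ω).index * c = Nat.card K := AddSubgroup.index_mul_card _
  -- `|K| ≤ c²`
  have hsq : Nat.card K ≤ c ^ 2 := by
    have hsurj : Function.Surjective (fun st : (kk ω) × (kk ω) => (st.1 : K) + (st.2 : K) * ω) := by
      intro x
      obtain ⟨s, hs, t, ht, rfl⟩ := exists_decomp p q hpq ω hω hω0 hspan x
      exact ⟨(⟨s, hs⟩, ⟨t, ht⟩), rfl⟩
    have := Nat.card_le_card_of_surjective _ hsurj
    rw [Nat.card_prod, ← hc] at this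
    rw [pow_two]
    exact this
  have hc2 : 2 ≤ c := by
    rw [hc]
    have h01 : (⟨0, (kk ω).zero_mem⟩ : kk ω) ≠ ⟨1, one_mem_kk p q hpq ω hω hω0⟩ := by
      intro h
      exact zero_ne_one (congrArg Subtype.val h)
    have : 1 < Nat.card (kk ω) := by
      rw [Finite.one_lt_card_iff_nontrivial]
      exact ⟨⟨_, _, h01⟩⟩
    exact this
  have hd2 : d ≤ 2 := by
    rw [hpow] at hsq
    exact (Nat.pow_le_pow_iff_right hc2).mp hsq
  have hd0 : d ≠ 0 := by
    intro h0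
    rw [h0, pow_zero] at hpow
    have : 1 < Nat.card K := Finite.one_lt_card
    omega
  have hcpos : 0 < c := by omega
  have hd12 : d = 1 ∨ d = 2 := by omega
  rcases hd12 with h1 | h2
  · -- index one
    rw [h1, pow_one] at hpow
    rw [hpow] at hmul
    have : (kk ω).index = 1 := by
      have := Nat.eq_of_mul_eq_mul_right hcpos (by rw [one_mul]; exact hmul : (kk ω).index * c = 1 * c)
      exact this
    rw [this]
    exact Nat.one_le_pow _ _ hp.pos
  · rw [h2] at hpow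
    rw [hpow, pow_two] at hmul
    have hic : (kk ω).index = c := Nat.eq_of_mul_eq_mul_right hcpos hmul
    -- `c` is a power of `p`
    have hcdvd : c ∣ p ^ a := by
      rw [← hK, hpow]
      exact dvd_pow_self c two_ne_zero
    obtain ⟨e, _, hce⟩ := (Nat.dvd_prime_pow hp).mp hcdvd
    have hae : a = 2 * e := by
      have : p ^ a = p ^ (2 * e) := by
        rw [← hK, hpow, hce, ← pow_mul, mul_comm]
      exact Nat.pow_right_injective hp.two_le this
    have hbb : bb a = e := by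
      unfold bb
      rw [hae]
      have : 2 * e % 2 ≠ 1 := by omega
      rw [if_neg this]
      omega
    rw [hic, hbb, hce]

end Cfsg.Agent.Lib.Helper22.SchIDX
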