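import Mathlib
import Cfsg.Agent.Lib.Helper1.MinNormal
import Cfsg.Agent.Lib.Helper22.Basic

/-!
Helper lemmas of helper22: maximal subgroups of solvable groups.
-/

set_option autoImplicit false

namespace Cfsg.Agent.Lib.Helper22

open Subgroup
open scoped commutatorElement

variable {G : Type*} [Group G]

/-- A maximal subgroup of a finite solvable group has prime power index. -/
theorem exists_prime_pow_index_of_isCoatom [Finite G] (hG : Group.IsSolvable G) (M : Subgroup G)
    (hM : IsCoatom M) : ∃ p k : ℕ, p.Prime ∧ M.index = p ^ k := by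
  classical
  have := hG
  -- choose N minimal among normal subgroups not contained in M
  let S : Set (Subgroup G) := {N | N.Normal ∧ ¬ N ≤ M}
  have hS : S.Nonempty := ⟨⊤, Subgroup.normal_top, fun h => hM.1 (top_le_iff.mp h)⟩
  obtain ⟨N, ⟨hNn, hNM⟩, hmin⟩ := (wellFounded_lt (α := Subgroup G)).has_min S hS
  have hmin' : ∀ K : Subgroup G, K.Normal → K < N → K ≤ M := by
    intro K hK hlt
    by_contra h
    exact hmin K ⟨hK, h⟩ hlt
  haveI := hNn
  have hNbot : N ≠ ⊥ := by
    rintro rfl
    exact hNM bot_le
  have hD : ⁅N, N⁆ ≤ M :=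
    hmin' _ inferInstance (Group.IsSolvable.commutator_lt_of_ne_bot hNbot)
  have hDN : ⁅N, N⁆ ≤ N := Subgroup.commutator_le_left N N
  have hsup : N ⊔ M = ⊤ := by
    apply hM.2
    apply lt_of_le_of_ne le_sup_right
    intro h
    exact hNM (h ▸ le_sup_left)
  have hidx : M.index = (N ⊓ M).relIndex N := by
    rw [relIndex_inf_eq_relIndex_sup N M (le_trans le_top (Subgroup.normalizer_eq_top_iff.mpr hNn).ge),
      hsup, Subgroup.relIndex_top_right]
  set N₀ := N ⊓ M with hN₀
  -- N₀ is normal in G
  have hN₀n : N₀.Normal := by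
    rw [← Subgroup.normalizer_eq_top_iff, eq_top_iff, ← hsup]
    apply sup_le
    · intro n hn
      rw [Subgroup.mem_normalizer_iff]
      intro x
      have key : ∀ (n : G), n ∈ N → ∀ x, x ∈ N₀ → n * x * n⁻¹ ∈ N₀ := by
        intro n hn x hx
        have h1 : ⁅n, x⁆ ∈ N₀ :=
          ⟨hDN (Subgroup.commutator_mem_commutator hn hx.1),
            hD (Subgroup.commutator_mem_commutator hn hx.1)⟩
        have : n * x * n⁻¹ = ⁅n, x⁆ * x := by
          rw [commutatorElement_def]; group
        rw [this]
        exact N₀.mul_mem h1 hx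
      constructor
      · exact key n hn x
      · intro hx
        have := key n⁻¹ (N.inv_mem hn) _ hx
        have e : n⁻¹ * (n * x * n⁻¹) * n⁻¹⁻¹ = x := by group
        rwa [e] at this
    · intro m hm
      rw [Subgroup.mem_normalizer_iff]
      intro x
      constructor
      · intro hx
        exact ⟨hNn.conj_mem x hx.1 m, M.mul_mem (M.mul_mem hm hx.2) (M.inv_mem hm)⟩
      · intro hx
        refine ⟨?_, ?_⟩
        · have := hNn.conj_mem _ hx.1 m⁻¹
          have e : m⁻¹ * (m * x * m⁻¹) * m⁻¹⁻¹ = x := by group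
          rwa [e] at this
        · have := M.mul_mem (M.mul_mem (M.inv_mem hm) hx.2) hm
          have e : m⁻¹ * (m * x * m⁻¹) * m = x := by group
          rwa [e] at this
  -- N / N₀ is a minimal normal subgroup of G / N₀
  have hker : (QuotientGroup.mk' N₀).ker = N₀ := QuotientGroup.ker_mk' N₀
  have hsurj : Function.Surjective (QuotientGroup.mk' N₀) := QuotientGroup.mk'_surjective N₀
  have hminN : Cfsg.Agent.Lib.Helper1.IsMinNormal (N.map (QuotientGroup.mk' N₀)) := by
    refine ⟨Subgroup.Normal.map hNn _ hsurj, ?_, ?_⟩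
    · intro h
      rw [Subgroup.map_eq_bot_iff, hker] at h
      exact hNM (h.trans inf_le_right)
    · intro B hB hBN
      have hcn : (B.comap (QuotientGroup.mk' N₀)).Normal := hB.comap _
      have hle : B.comap (QuotientGroup.mk' N₀) ≤ N := by
        have := Subgroup.comap_mono (f := QuotientGroup.mk' N₀) hBN
        rw [Subgroup.comap_map_eq, hker, sup_of_le_left inf_le_left] at this
        exact this
      rcases eq_or_lt_of_le hle with h | h
      · right
        rw [← h, Subgroup.map_comap_eq_self_of_surjective hsurj]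
      · left
        have h1 : B.comap (QuotientGroup.mk' N₀) ≤ N₀ := le_inf hle (hmin' _ hcn h)
        have h2 := Subgroup.map_mono (f := QuotientGroup.mk' N₀) h1
        rw [Subgroup.map_comap_eq_self_of_surjective hsurj] at h2
        rw [eq_bot_iff]
        refine h2.trans (le_of_eq ?_)
        rw [Subgroup.map_eq_bot_iff, hker]
  obtain ⟨p, hp, hpg⟩ := hminN.exists_prime_isPGroup
  haveI : Fact p.Prime := ⟨hp⟩
  obtain ⟨k, hk⟩ := (IsPGroup.iff_card.mp hpg)
  refine ⟨p, k, hp, ?_⟩
  rw [hidx, ← hk]
  have := Subgroup.relIndex_ker (K := N) (QuotientGroup.mk' N₀)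
  rw [hker] at this
  exact this

/-- If all `p'`-elements of a finite group lie in a maximal subgroup `M`, then `M` is normal. -/
theorem normal_of_isCoatom_of_coprime_mem [Finite G] (M : Subgroup G) (hM : IsCoatom M)
    (p : ℕ) [hp : Fact p.Prime] (h : ∀ x : G, (orderOf x).Coprime p → x ∈ M) : M.Normal := by
  classical
  set K : Subgroup G := Subgroup.closure {g : G | (orderOf g).Coprime p} with hK
  have hKM : K ≤ M := (Subgroup.closure_le M).mpr (fun x hx => h x hx)
  have hKn : K.Normal := by
    constructor
    intro x hx g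
    refine Subgroup.closure_induction (p := fun y _ => g * y * g⁻¹ ∈ K) ?_ ?_ ?_ ?_ hx
    · intro y hy
      apply Subgroup.subset_closure
      show (orderOf (g * y * g⁻¹)).Coprime p
      have : orderOf (g * y * g⁻¹) = orderOf y := by
        rw [← MulAut.conj_apply, MulEquiv.orderOf_eq]
      rw [this]; exact hy
    · simp
    · intro a b _ _ ha hb
      have : g * (a * b) * g⁻¹ = (g * a * g⁻¹) * (g * b * g⁻¹) := by group
      rw [this]; exact K.mul_mem ha hb
    · intro a _ ha
      have : g * a⁻¹ * g⁻¹ = (g * a * g⁻¹)⁻¹ := by group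
      rw [this]; exact K.inv_mem ha
  -- G / K is a p-group
  have hpq : IsPGroup p (G ⧸ K) := by
    intro y
    obtain ⟨g, rfl⟩ := QuotientGroup.mk'_surjective K y
    have hn : orderOf g ≠ 0 := (orderOf_pos g).ne'
    obtain ⟨a, m, hm, hnm⟩ := Nat.exists_eq_pow_mul_and_not_dvd hn p hp.1.ne_one
    refine ⟨a, ?_⟩
    rw [← map_pow]
    apply (QuotientGroup.eq_one_iff _).mpr
    apply Subgroup.subset_closure
    show (orderOf (g ^ p ^ a)).Coprime p
    have hdvd : orderOf (g ^ p ^ a) ∣ m := by
      apply orderOf_dvd_of_pow_eq_one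
      rw [← pow_mul, ← hnm, pow_orderOf_eq_one]
    exact Nat.Coprime.coprime_dvd_left hdvd ((Nat.Prime.coprime_iff_not_dvd hp.1).mpr hm).symm
  have : Group.IsNilpotent (G ⧸ K) := hpq.isNilpotent
  have hcoatom_normal : ∀ B : Subgroup (G ⧸ K), IsCoatom B → B.Normal :=
    (Group.isNilpotent_of_finite_tfae (G := G ⧸ K)).out 0 2 rfl rfl |>.mp inferInstance
  have hsurj : Function.Surjective (QuotientGroup.mk' K) := QuotientGroup.mk'_surjective K
  have hker : (QuotientGroup.mk' K).ker = K := QuotientGroup.ker_mk' K
  have hcm : (M.map (QuotientGroup.mk' K)).comap (QuotientGroup.mk' K) = M := by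
    rw [Subgroup.comap_map_eq, hker, sup_of_le_left hKM]
  have hMbar : IsCoatom (M.map (QuotientGroup.mk' K)) := by
    constructor
    · intro htop
      have := congrArg (Subgroup.comap (QuotientGroup.mk' K)) htop
      rw [hcm, Subgroup.comap_top] at this
      exact hM.1 this
    · intro B hB
      have h1 : M ≤ B.comap (QuotientGroup.mk' K) := by
        rw [← hcm]; exact Subgroup.comap_mono hB.le
      have h2 : M ≠ B.comap (QuotientGroup.mk' K) := by
        intro heq
        have := congrArg (Subgroup.map (QuotientGroup.mk' K)) heq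
        rw [Subgroup.map_comap_eq_self_of_surjective hsurj] at this
        exact hB.ne this
      have h3 := hM.2 _ (lt_of_le_of_ne h1 h2)
      have := congrArg (Subgroup.map (QuotientGroup.mk' K)) h3
      rw [Subgroup.map_comap_eq_self_of_surjective hsurj, Subgroup.map_top_of_surjective _ hsurj] at this
      exact this
  have := (hcoatom_normal _ hMbar).comap (QuotientGroup.mk' K)
  rwa [hcm] at this

end Cfsg.Agent.Lib.Helper22
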