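import Mathlib
import Cfsg.Agent.Lib.Helper11.Sp2Calc
import Cfsg.Agent.Lib.Helper23.Sp2P

set_option autoImplicit false

namespace Cfsg.Agent.Lib.Helper22.Sp2Leaf

open Cfsg.Agent.Lib.Helper11.Sp2 MulAction

variable {F V G : Type*} [Field F] [AddCommGroup V] [Module F V] [Group G] [DistribMulAction G V]
  (S : Setting F V G)

/-- abstract existence core: the stabiliser of a quadratic function `f0` polarising to `B`, under
precomposition, has index the number of zeros of `f0` (if that is not half of `|V|`) -/
theorem exists_index_eq_card_zeros [Finite V] [Finite G] (f0 : V → F)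
    (hq : ∀ u v, f0 (u + v) = f0 u + f0 v + S.B u v)
    (hne : 2 * Nat.card {a : V // f0 a = 0} ≠ Nat.card V) :
    ∃ H : Subgroup G, H.index = Nat.card {a : V // f0 a = 0} := by
  classical
  haveI : Finite F := Cfsg.Agent.Lib.Helper23.Sp2Leaf.finite_F S
  haveI : Module.Finite F V := Module.Finite.of_finite
  letI : MulAction G (V → F) := arrowAction
  have hsm : ∀ (g : G) (f : V → F) (x : V), (g • f) x = f (g⁻¹ • x) := fun g f x => rfl
  have hf00 : f0 0 = 0 := by
    have := hq 0 0
    rw [add_zero, S.Bzero_left, add_zero] at this
    exact left_eq_add.mp this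
  have hfs : ∀ (c : F) (a : V), f0 (c • a) = c * f0 a := by
    intro c a
    rcases S.h01 c with rfl | rfl
    · rw [zero_smul, zero_mul, hf00]
    · rw [one_smul, one_mul]
  have hshift : ∀ x a : V, f0 x + S.B x a = f0 (x + a) + f0 a := by
    intro x a
    rw [hq x a, add_assoc, add_assoc, add_comm (S.B x a), ← add_assoc (f0 a), S.fadd_self, zero_add]
  refine ⟨stabilizer G f0, ?_⟩
  rw [MulAction.index_stabilizer]
  have key : orbit G f0
      = Set.range (fun a : {a : V // f0 a = 0} => fun x => f0 x + S.B x a.1) := by
    ext f
    constructor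
    · rintro ⟨g, rfl⟩
      -- the difference is additive
      have hadd : ∀ u v, (f0 (g⁻¹ • (u + v)) + f0 (u + v))
          = (f0 (g⁻¹ • u) + f0 u) + (f0 (g⁻¹ • v) + f0 v) := by
        intro u v
        rw [smul_add, hq, hq, S.iso]
        have := S.fadd_self (S.B u v)
        linear_combination this
      let φ : V →ₗ[F] F :=
        { toFun := fun x => f0 (g⁻¹ • x) + f0 x
          map_add' := hadd
          map_smul' := by
            intro c x
            rcases S.h01 c with rfl | rfl
            · simp [hf00]
            · simp }
      set a : V := (S.B.toDual (Cfsg.Agent.Lib.Helper23.Sp2Leaf.nondegenerate_B S)).symm φ with ha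
      have haφ : ∀ x, S.B a x = f0 (g⁻¹ • x) + f0 x := by
        intro x
        have := LinearMap.BilinForm.apply_toDual_symm_apply
          (hB := Cfsg.Agent.Lib.Helper23.Sp2Leaf.nondegenerate_B S) φ x
        exact this
      have hgf : ∀ x, (g • f0) x = f0 x + S.B x a := by
        intro x
        rw [hsm, S.B_symm x a, haφ x, add_comm (f0 (g⁻¹ • x)), ← add_assoc, S.fadd_self, zero_add]
      have ha0 : f0 a = 0 := by
        by_contra hne1
        have ha1 : f0 a = 1 := S.eq_one_of_ne_zero hne1
        apply hne
        -- zeros of g • f0 ↔ zeros of f0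
        have e1 : {x : V // f0 x = 0} ≃ {x : V // (g • f0) x = 0} :=
          { toFun := fun x => ⟨g • x.1, by rw [hsm, inv_smul_smul]; exact x.2⟩
            invFun := fun x => ⟨g⁻¹ • x.1, by have := x.2; rw [hsm] at this; exact this⟩
            left_inv := fun x => by simp
            right_inv := fun x => by simp }
        have e2 : {x : V // (g • f0) x = 0} ≃ {x : V // ¬ f0 x = 0} :=
          { toFun := fun x => ⟨x.1 + a, by
              have := x.2
              rw [hgf, hshift, ha1] at this
              intro h0
              rw [h0, zero_add] at this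
              exact one_ne_zero this⟩
            invFun := fun x => ⟨x.1 + a, by
              rw [hgf, hshift, ha1, add_assoc, S.vadd_self, add_zero, S.eq_one_of_ne_zero x.2,
                S.one_add_one]⟩
            left_inv := fun x => by
              apply Subtype.ext
              simp only [add_assoc, S.vadd_self, add_zero]
            right_inv := fun x => by
              apply Subtype.ext
              simp only [add_assoc, S.vadd_self, add_zero] }
        have h1 : Nat.card {x : V // f0 x = 0} = Nat.card {x : V // ¬ f0 x = 0} :=
          Nat.card_congr (e1.trans e2)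
        have h2 : Nat.card {x : V // f0 x = 0} + Nat.card {x : V // ¬ f0 x = 0} = Nat.card V := by
          rw [← Nat.card_sum]
          exact Nat.card_congr (Equiv.sumCompl (fun x : V => f0 x = 0))
        omega
      exact ⟨⟨a, ha0⟩, (funext hgf).symm⟩
    · rintro ⟨⟨a, ha0⟩, rfl⟩
      refine ⟨S.tv a, ?_⟩
      funext x
      change (S.tv a • f0) x = _
      rw [hsm, S.tv_inv, S.tv_smul, hq, hfs, ha0, mul_zero, add_zero, S.Bsmul_right, S.fmul_self]
  rw [key, ← Nat.card_coe_set_eq]
  apply Nat.card_range_of_injective
  intro a b hab
  apply Subtype.ext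
  have h1 : ∀ x, S.B x a.1 = S.B x b.1 := by
    intro x
    have := congrFun hab x
    exact add_left_cancel this
  have h2 : a.1 + b.1 = 0 := by
    apply S.nondeg
    intro y
    rw [S.B_symm, S.Badd_right, h1 y, S.fadd_self]
  exact S.vadd_eq_zero_iff.mp h2

end Cfsg.Agent.Lib.Helper22.Sp2Leaf
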