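import Mathlib
import Cfsg.Agent.Lib.Helper11.Sp2Inst
import Cfsg.Agent.Lib.Helper23.Sp2P
import Cfsg.Agent.Lib.Helper22.Sp2Ecore
import Cfsg.Agent.Lib.Helper14.Sp2E3

set_option autoImplicit false

namespace Cfsg.Agent.Lib.Helper22.Sp2Leaf

open Cfsg.Agent.Lib.Helper11.Sp2 MulAction Cfsg.Agent.Lib.Helper11.Sp2Inst

/-- the minus-type quadratic function on `F^(2m)` -/
def f0 {F : Type*} [Field F] (m : ℕ) (i0 : Fin m) (v : Fin m ⊕ Fin m → F) : F :=
  (∑ i, v (Sum.inl i) * v (Sum.inr i)) + v (Sum.inl i0) + v (Sum.inr i0)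

theorem f0_add {F : Type*} [Field F] [Fintype F] (hF : Fintype.card F = 2) (m : ℕ) (i0 : Fin m)
    (u v : Fin m ⊕ Fin m → F) :
    f0 m i0 (u + v) = f0 m i0 u + f0 m i0 v + Cfsg.sympForm m F u v := by
  have h2 : (2 : F) = 0 := by
    have h1 : (1 : F) + 1 = 0 := by
      rcases zero_or_one_of_card hF ((1 : F) + 1) with h | h
      · exact h
      · exfalso
        have : (1 : F) = 0 := by
          have := h
          linear_combination this
        exact one_ne_zero this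
    rw [← h1]; norm_num
  rw [Cfsg.Agent.Lib.Helper15.sympForm_eq]
  unfold f0
  simp only [Pi.add_apply]
  have e : ∑ i, (u (Sum.inl i) + v (Sum.inl i)) * (u (Sum.inr i) + v (Sum.inr i))
      = (∑ i, u (Sum.inl i) * u (Sum.inr i)) + (∑ i, v (Sum.inl i) * v (Sum.inr i))
        + ∑ i, (u (Sum.inr i) * v (Sum.inl i) - u (Sum.inl i) * v (Sum.inr i)) := by
    rw [← Finset.sum_add_distrib, ← Finset.sum_add_distrib]
    refine Finset.sum_congr rfl fun i _ => ?_
    linear_combination (u (Sum.inl i) * v (Sum.inr i)) * h2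
  rw [e]
  ring

theorem exists_index_eq {F : Type*} [Field F] [Fintype F] (hF : Fintype.card F = 2) (m : ℕ) (hm : 1 ≤ m) :
    ∃ H : Subgroup (Matrix.symplecticGroup (Fin m) F), H.index = 2 ^ (m - 1) * (2 ^ m - 1) := by
  classical
  letI := spAct F m
  have hz := Cfsg.Agent.Lib.Helper14.Sp2Leaf.card_zeros_minus hF m hm ⟨0, hm⟩
  have hz' : Nat.card {a : Fin m ⊕ Fin m → F // f0 m ⟨0, hm⟩ a = 0} = 2 ^ (m - 1) * (2 ^ m - 1) := hz
  have hV : Nat.card (Fin m ⊕ Fin m → F) = 2 ^ m * 2 ^ m := by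
    rw [Nat.card_eq_fintype_card, Fintype.card_fun, Fintype.card_sum, Fintype.card_fin, hF, pow_add]
  have hne : 2 * Nat.card {a : Fin m ⊕ Fin m → F // f0 m ⟨0, hm⟩ a = 0}
      ≠ Nat.card (Fin m ⊕ Fin m → F) := by
    rw [hz', hV]
    obtain ⟨k, rfl⟩ : ∃ k, m = k + 1 := ⟨m - 1, by omega⟩
    have e2 : k + 1 - 1 = k := by omega
    rw [e2]
    have hpos : 0 < 2 ^ k := by positivity
    have h1 : 2 ^ (k + 1) = 2 * 2 ^ k := by ring
    intro h
    have h3 : 2 * (2 ^ k * (2 ^ (k + 1) - 1)) = 2 ^ (k + 1) * (2 ^ (k + 1) - 1) := by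
      rw [h1]; ring
    rw [h3] at h
    have h4 : 2 ^ (k + 1) - 1 = 2 ^ (k + 1) := Nat.eq_of_mul_eq_mul_left (by positivity) h
    have : 0 < 2 ^ (k + 1) := by positivity
    omega
  obtain ⟨H, hH⟩ := exists_index_eq_card_zeros (spSetting m hF) (f0 m ⟨0, hm⟩)
    (fun u v => by
      rw [f0_add hF]
      congr 1
      exact (Cfsg.Agent.Lib.Helper15.sympBilin_apply m u v).symm) hne
  exact ⟨H, by rw [hH, hz']⟩

end Cfsg.Agent.Lib.Helper22.Sp2Leaf
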