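import Mathlib
import Cfsg.Prelude.Def_GeometricClasses
import Cfsg.Agent.Lib.Helper5.Symp
import Cfsg.Agent.Lib.Helper15.SympChar2
import Cfsg.Agent.Lib.Helper15.PolarPairs

/-! Helper22 library (S5976): extension-field subalgebras of degree 2 of the matrix algebra that are closed under
adjoints for the symplectic form but not self-adjoint: the skew generator `J` with `J * J = ε • 1`. -/

set_option autoImplicit false

namespace Cfsg.Agent.Lib.Helper22.SpGU

open Matrix Cfsg.Agent.Lib.Helper5 Cfsg.Agent.Lib.Helper15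

section general

variable {ι : Type} [Fintype ι] [DecidableEq ι] {F : Type*} [Field F]

theorem one_ne_zero_of_field (K : Subalgebra F (Matrix ι ι F)) (hK : Cfsg.Geo.IsFieldSubalgebra 2 K) :
    (1 : Matrix ι ι F) ≠ 0 := by
  intro h
  have h1 : ∀ k : K, k = 0 := by
    intro k
    apply Subtype.ext
    have : (k : Matrix ι ι F) = (k : Matrix ι ι F) * 1 := (Matrix.mul_one _).symm
    rw [this, h, Matrix.mul_zero]
    rfl
  have h2 : Module.finrank F K = 0 := by
    have : Subsingleton K := ⟨fun a b => by rw [h1 a, h1 b]⟩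
    exact Module.finrank_zero_of_subsingleton
  rw [hK.finrank_eq] at h2
  omega

/-- in degree 2 every element is `a + b κ` -/
theorem exists_repr (K : Subalgebra F (Matrix ι ι F)) (hK : Cfsg.Geo.IsFieldSubalgebra 2 K)
    (κ : Matrix ι ι F) (hκ : κ ∈ K) (hns : ∀ c : F, κ ≠ c • 1) (k : Matrix ι ι F) (hk : k ∈ K) :
    ∃ a b : F, k = a • 1 + b • κ := by
  classical
  have h10 := one_ne_zero_of_field K hK
  let v : Fin 2 → K := ![1, ⟨κ, hκ⟩]
  have hli : LinearIndependent F v := by
    rw [LinearIndependent.pair_iff]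
    intro s t hst
    have hst' : s • (1 : Matrix ι ι F) + t • κ = 0 := by
      have := congrArg (Subtype.val) hst
      simpa using this
    by_cases ht : t = 0
    · subst ht
      rw [zero_smul, add_zero] at hst'
      refine ⟨?_, rfl⟩
      by_contra hs
      apply h10
      have := congrArg (fun M => s⁻¹ • M) hst'
      simpa [smul_smul, inv_mul_cancel₀ hs] using this
    · exfalso
      apply hns (-(s / t))
      have h1 : t • κ = -(s • (1 : Matrix ι ι F)) := by
        rw [eq_neg_iff_add_eq_zero, add_comm]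
        exact hst'
      have h2 := congrArg (fun M => t⁻¹ • M) h1
      simp only [smul_smul, inv_mul_cancel₀ ht, one_smul, smul_neg] at h2
      rw [h2, neg_smul]
      congr 2
      field_simp
  have hcard : Fintype.card (Fin 2) = Module.finrank F K := by
    rw [hK.finrank_eq]
    rfl
  have : FiniteDimensional F K := Module.finite_of_finrank_pos (by rw [hK.finrank_eq]; norm_num)
  let bas := basisOfLinearIndependentOfCardEqFinrank hli hcard
  have hrep := bas.sum_repr ⟨k, hk⟩
  rw [Fin.sum_univ_two] at hrep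
  have hb0 : bas 0 = 1 := by
    simp only [bas, coe_basisOfLinearIndependentOfCardEqFinrank, v]
    rfl
  have hb1 : bas 1 = ⟨κ, hκ⟩ := by
    simp only [bas, coe_basisOfLinearIndependentOfCardEqFinrank, v]
    rfl
  rw [hb0, hb1] at hrep
  refine ⟨bas.repr ⟨k, hk⟩ 0, bas.repr ⟨k, hk⟩ 1, ?_⟩
  have := congrArg Subtype.val hrep
  exact this.symm

/-- an invertible matrix commuting or anticommuting with the generator normalizes `K` -/
theorem mem_normalizer_of_comm (K : Subalgebra F (Matrix ι ι F)) (J : Matrix ι ι F) (hJ : J ∈ K)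
    (hrepr : ∀ k ∈ K, ∃ a b : F, k = a • 1 + b • J) (y : GL ι F) (s : F) (hs : s * s = 1)
    (hy : (y : Matrix ι ι F) * J = s • (J * (y : Matrix ι ι F))) :
    y ∈ Cfsg.Geo.subalgebraNormalizer K := by
  obtain ⟨Y, hY⟩ : ∃ Y : Matrix ι ι F, Y = (y : Matrix ι ι F) := ⟨_, rfl⟩
  obtain ⟨Yi, hYi⟩ : ∃ Yi : Matrix ι ι F, Yi = ((y⁻¹ : GL ι F) : Matrix ι ι F) := ⟨_, rfl⟩
  have hYYi : Y * Yi = 1 := by rw [hY, hYi, ← Units.val_mul, mul_inv_cancel, Units.val_one]
  have hYiY : Yi * Y = 1 := by rw [hY, hYi, ← Units.val_mul, inv_mul_cancel, Units.val_one]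
  rw [← hY] at hy
  have h1 : Y * J * Yi = s • J := by
    rw [hy, Matrix.smul_mul, Matrix.mul_assoc, hYYi, Matrix.mul_one]
  have h2 : Yi * J * Y = s • J := by
    have h3 : Yi * (Y * J) = s • (Yi * J * Y) := by
      rw [hy, Matrix.mul_smul, Matrix.mul_assoc]
    rw [← Matrix.mul_assoc, hYiY, Matrix.one_mul] at h3
    have h4 := congrArg (fun M => s • M) h3
    simp only [smul_smul, hs, one_smul] at h4
    exact h4.symm
  show ∀ k : Matrix ι ι F, k ∈ K ↔
    (y : Matrix ι ι F) * k * ((y⁻¹ : GL ι F) : Matrix ι ι F) ∈ K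
  intro k
  rw [← hY, ← hYi]
  constructor
  · intro hk
    obtain ⟨a, b, rfl⟩ := hrepr k hk
    have : Y * (a • 1 + b • J) * Yi = a • 1 + (b * s) • J := by
      rw [Matrix.mul_add, Matrix.add_mul, Matrix.mul_smul, Matrix.smul_mul, Matrix.mul_one, hYYi,
        Matrix.mul_smul, Matrix.smul_mul, h1, smul_smul]
    rw [this]
    exact K.add_mem (K.smul_mem K.one_mem a) (K.smul_mem hJ _)
  · intro hk
    obtain ⟨a, b, hab⟩ := hrepr _ hk
    have h5 : k = Yi * (Y * k * Yi) * Y := by
      rw [Matrix.mul_assoc Y k Yi, ← Matrix.mul_assoc Yi Y, hYiY, Matrix.one_mul, Matrix.mul_assoc,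
        hYiY, Matrix.mul_one]
    rw [h5, hab]
    have : Yi * (a • 1 + b • J) * Y = a • 1 + (b * s) • J := by
      rw [Matrix.mul_add, Matrix.add_mul, Matrix.mul_smul, Matrix.smul_mul, Matrix.mul_one, hYiY,
        Matrix.mul_smul, Matrix.smul_mul, h2, smul_smul]
    rw [this]
    exact K.add_mem (K.smul_mem K.one_mem a) (K.smul_mem hJ _)

end general

section symp

variable {F : Type*} [Field F] {d : ℕ}

/-- `J` is skew-adjoint for the symplectic form and `J * J = ε`. -/
structure IsJ (J : Matrix (Fin d ⊕ Fin d) (Fin d ⊕ Fin d) F) (ε : F) : Prop where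
  sq : J * J = ε • 1
  skew : ∀ u v, Cfsg.sympForm d F (J *ᵥ u) v = - Cfsg.sympForm d F u (J *ᵥ v)

theorem eq_zero_of_forall_right (w : Fin d ⊕ Fin d → F) (h : ∀ v, Cfsg.sympForm d F v w = 0) :
    w = 0 := by
  apply PolarPairs.eq_zero_of_forall
  intro v
  rw [sympForm_swap, h v, neg_zero]

/-- a matrix with `B (M u) v = 0` for all `u v` vanishes -/
theorem matrix_eq_zero_of_form (M : Matrix (Fin d ⊕ Fin d) (Fin d ⊕ Fin d) F)
    (h : ∀ u v, Cfsg.sympForm d F (M *ᵥ u) v = 0) : M = 0 := by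
  have h1 : ∀ u, M *ᵥ u = 0 := fun u => PolarPairs.eq_zero_of_forall _ (h u)
  ext i j
  have := congrFun (h1 (Pi.single j 1)) i
  simpa using this

/-- the skew generator of an adjoint-closed, not self-adjoint field subalgebra of degree 2 -/
theorem exists_J (h2 : (2 : F) ≠ 0) (K : Subalgebra F (Matrix (Fin d ⊕ Fin d) (Fin d ⊕ Fin d) F))
    (hK : Cfsg.Geo.IsFieldSubalgebra 2 K)
    (hKf : Cfsg.Geo.IsAdjointClosedFor (Cfsg.sympForm d F) K)
    (hKns : ¬ Cfsg.Geo.IsSelfAdjointFor (Cfsg.sympForm d F) K) :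
    ∃ J ∈ K, ∃ ε : F, IsJ J ε ∧ ¬ IsSquare ε ∧ ∀ k ∈ K, ∃ a b : F, k = a • 1 + b • J := by
  unfold Cfsg.Geo.IsSelfAdjointFor at hKns
  push Not at hKns
  obtain ⟨k, hk, u₀, v₀, hne⟩ := hKns
  obtain ⟨k', hk', hadj⟩ := hKf k hk
  have hadj' : ∀ u v, Cfsg.sympForm d F (k' *ᵥ u) v = Cfsg.sympForm d F u (k *ᵥ v) := by
    intro u v
    rw [sympForm_swap, ← hadj v u, sympForm_swap, neg_neg]
  set J := k - k' with hJdef
  have hJK : J ∈ K := K.sub_mem hk hk'
  have hskew : ∀ u v, Cfsg.sympForm d F (J *ᵥ u) v = - Cfsg.sympForm d F u (J *ᵥ v) := by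
    intro u v
    rw [hJdef, Matrix.sub_mulVec, Matrix.sub_mulVec, sympForm_sub_left, sympForm_sub_right,
      hadj, hadj']
    ring
  have hJ0 : J ≠ 0 := by
    intro h0
    have hkk : k = k' := sub_eq_zero.1 h0
    apply hne
    rw [hadj, ← hkk]
  have hB : ∃ u v, Cfsg.sympForm d F u v ≠ 0 := by
    by_contra hcon
    push Not at hcon
    apply hJ0
    apply matrix_eq_zero_of_form
    intro u v
    exact hcon _ _
  obtain ⟨u₁, v₁, hB1⟩ := hB
  have hJns : ∀ c : F, J ≠ c • 1 := by
    intro c hc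
    have h1 := hskew u₁ v₁
    rw [hc, Matrix.smul_mulVec, Matrix.smul_mulVec, Matrix.one_mulVec, Matrix.one_mulVec,
      sympForm_smul_left, sympForm_smul_right] at h1
    have h3 : (2 * c) * Cfsg.sympForm d F u₁ v₁ = 0 := by linear_combination h1
    rcases mul_eq_zero.1 h3 with h4 | h4
    · rcases mul_eq_zero.1 h4 with h5 | h5
      · exact h2 h5
      · apply hJ0
        rw [hc, h5, zero_smul]
    · exact hB1 h4
  have hrepr := exists_repr K hK J hJK hJns
  obtain ⟨a, b, hab⟩ := hrepr (J * J) (K.mul_mem hJK hJK)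
  have hb : b = 0 := by
    by_contra hb0
    apply hJ0
    apply matrix_eq_zero_of_form
    intro u v
    have h1 : Cfsg.sympForm d F ((J * J) *ᵥ u) v = Cfsg.sympForm d F u ((J * J) *ᵥ v) := by
      rw [← Matrix.mulVec_mulVec, ← Matrix.mulVec_mulVec, hskew (J *ᵥ u) v]
      have := hskew u (J *ᵥ v)
      rw [this, neg_neg]
    rw [hab, Matrix.add_mulVec, Matrix.add_mulVec, Matrix.smul_mulVec, Matrix.smul_mulVec,
      Matrix.smul_mulVec, Matrix.smul_mulVec, Matrix.one_mulVec, Matrix.one_mulVec,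
      sympForm_add_left, sympForm_add_right, sympForm_smul_left, sympForm_smul_right,
      sympForm_smul_left, sympForm_smul_right] at h1
    have h4' := hskew u v
    have h3 : (2 * b) * Cfsg.sympForm d F (J *ᵥ u) v = 0 := by linear_combination h1 + b * h4'
    rcases mul_eq_zero.1 h3 with h4 | h4
    · rcases mul_eq_zero.1 h4 with h5 | h5
      · exact absurd h5 h2
      · exact absurd h5 hb0
    · exact h4
  rw [hb, zero_smul, add_zero] at hab
  refine ⟨J, hJK, a, ⟨hab, hskew⟩, ?_, hrepr⟩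
  rintro ⟨c, hc⟩
  have hprod : (J - c • 1) * (J + c • 1) = 0 := by
    rw [Matrix.sub_mul, Matrix.mul_add, Matrix.mul_add, hab, hc]
    simp only [Matrix.mul_smul, Matrix.smul_mul, Matrix.mul_one, Matrix.one_mul, smul_smul]
    abel
  by_cases h0 : J - c • 1 = 0
  · exact hJns c (sub_eq_zero.1 h0)
  · obtain ⟨y, hy, hxy⟩ := hK.inv (J - c • 1) (K.sub_mem hJK (K.smul_mem K.one_mem c)) h0
    have hcomm := hK.comm (J - c • 1) (K.sub_mem hJK (K.smul_mem K.one_mem c)) y hy
    have h5 : J + c • 1 = 0 := by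
      have := congrArg (fun M => y * M) hprod
      simp only [Matrix.mul_zero] at this
      rw [← Matrix.mul_assoc, ← hcomm, hxy, Matrix.one_mul] at this
      exact this
    apply hJns (-c)
    rw [neg_smul]
    exact eq_neg_of_add_eq_zero_left h5

end symp

end Cfsg.Agent.Lib.Helper22.SpGU
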