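import Mathlib
import Cfsg.Agent.Lib.Helper22.SpGUA
import Cfsg.Agent.Lib.Helper15.HermSub
import Cfsg.Agent.Lib.Helper9.FieldNorm
import Cfsg.Agent.Lib.Helper14.SympCount

/-! Helper22 library (S5976): the hermitian form `h(u,v) = B(ju,v) + B(u,v) j` attached to a skew generator `j`
of a quadratic extension field acting on the symplectic space. -/

set_option autoImplicit false

namespace Cfsg.Agent.Lib.Helper22.SpGU

open Matrix Module Cfsg.Agent.Lib.Helper5 Cfsg.Agent.Lib.Helper14 Cfsg.Agent.Lib.Helper15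
  Cfsg.Agent.Lib.Helper15.HermSub

section setup

variable {F : Type*} [Field F] [Fintype F] {d : ℕ}
variable {E : Type*} [Field E] [Fintype E] [Algebra F E] [Module E (Fin d ⊕ Fin d → F)]
  [IsScalarTower F E (Fin d ⊕ Fin d → F)]

/-- the data of a quadratic extension `E = F(j)` acting on `F^{2d}` with `j` skew for the symplectic form -/
structure JSetup (q : ℕ) (j : E) (ε : F) (J : Matrix (Fin d ⊕ Fin d) (Fin d ⊕ Fin d) F) : Prop where
  card : Fintype.card F = q
  odd : Odd q
  sq : j * j = algebraMap F E ε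
  nonsq : ¬ IsSquare ε
  act : ∀ v : Fin d ⊕ Fin d → F, j • v = J *ᵥ v
  skew : ∀ u v, Cfsg.sympForm d F (J *ᵥ u) v = - Cfsg.sympForm d F u (J *ᵥ v)
  repr : ∀ x : E, ∃ a b : F, x = algebraMap F E a + b • j

/-- the hermitian form -/
noncomputable def hf (j : E) (u v : Fin d ⊕ Fin d → F) : E :=
  algebraMap F E (Cfsg.sympForm d F (j • u) v) + Cfsg.sympForm d F u v • j

namespace JSetup

variable {q : ℕ} {j : E} {ε : F} {J : Matrix (Fin d ⊕ Fin d) (Fin d ⊕ Fin d) F}

theorem indep (S : JSetup q j ε J) (a b : F) (h : algebraMap F E a + b • j = 0) : a = 0 ∧ b = 0 := by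
  by_cases hb : b = 0
  · subst hb
    rw [zero_smul, add_zero] at h
    exact ⟨(map_eq_zero (algebraMap F E)).1 h, rfl⟩
  · exfalso
    apply S.nonsq
    have h1 : j = algebraMap F E (-(a / b)) := by
      have h2 : b • j = - algebraMap F E a := eq_neg_of_add_eq_zero_right h
      have h3 := congrArg (fun x => b⁻¹ • x) h2
      simp only [smul_smul, inv_mul_cancel₀ hb, one_smul] at h3
      rw [h3, Algebra.smul_def, ← map_neg, ← map_mul]
      congr 1
      field_simp
    have h4 := S.sq
    rw [h1, ← map_mul] at h4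
    exact ⟨-(a / b), ((algebraMap F E).injective h4).symm⟩

theorem card_E (S : JSetup q j ε J) : Fintype.card E = q ^ 2 := by
  have hbij : Function.Bijective (fun p : F × F => algebraMap F E p.1 + p.2 • j) := by
    constructor
    · rintro ⟨a, b⟩ ⟨a', b'⟩ h
      have h1 : algebraMap F E (a - a') + (b - b') • j = 0 := by
        simp only at h
        rw [map_sub, sub_smul]
        linear_combination h
      obtain ⟨h2, h3⟩ := S.indep _ _ h1
      rw [sub_eq_zero.1 h2, sub_eq_zero.1 h3]
    · intro x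
      obtain ⟨a, b, hab⟩ := S.repr x
      exact ⟨(a, b), hab.symm⟩
  rw [← Fintype.card_of_bijective hbij, Fintype.card_prod, S.card, pow_two]

theorem two_le (S : JSetup q j ε J) : 2 ≤ q := by
  classical
  have := S.card_E
  exact herm_two_le this

theorem two_ne_zero (S : JSetup q j ε J) : (2 : F) ≠ 0 := by
  intro h2
  obtain ⟨p, hp⟩ := CharP.exists F
  obtain ⟨n, hprime, hcard⟩ := FiniteField.card F p
  have h1 : ((2 : ℕ) : F) = 0 := by exact_mod_cast h2
  have hp2 : p ∣ 2 := (CharP.cast_eq_zero_iff F p 2).1 h1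
  have hp2' : p = 2 := (Nat.prime_dvd_prime_iff_eq hprime Nat.prime_two).1 hp2
  have hodd := S.odd
  rw [← S.card, hcard, hp2'] at hodd
  have : Even (2 ^ (n : ℕ)) := (Nat.even_pow.2 ⟨even_two, n.pos.ne'⟩)
  exact (Nat.not_even_iff_odd.2 hodd) this

theorem ringChar_ne_two (S : JSetup q j ε J) : ringChar F ≠ 2 := by
  intro h
  apply S.two_ne_zero
  have := ringChar.Nat.cast_ringChar (R := F)
  rw [h] at this
  exact_mod_cast this

theorem eps_ne_zero (S : JSetup q j ε J) : ε ≠ 0 := by
  intro h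
  apply S.nonsq
  rw [h]
  exact ⟨0, (mul_zero 0).symm⟩

theorem eps_pow (S : JSetup q j ε J) : ε ^ (q / 2) = -1 := by
  have h1 := FiniteField.pow_dichotomy S.ringChar_ne_two S.eps_ne_zero
  rw [S.card] at h1
  rcases h1 with h1 | h1
  · exfalso
    apply S.nonsq
    have := (FiniteField.isSquare_iff S.ringChar_ne_two S.eps_ne_zero).2
    rw [S.card] at this
    exact this h1
  · exact h1

theorem j_pow (S : JSetup q j ε J) : j ^ q = - j := by
  obtain ⟨m, hm⟩ := S.odd
  have hm2 : q / 2 = m := by omega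
  have h1 := S.eps_pow
  rw [hm2] at h1
  rw [hm, pow_succ, pow_mul, pow_two, S.sq, ← map_pow, h1, map_neg, map_one, neg_one_mul]

theorem frob (S : JSetup q j ε J) (a b : F) :
    (algebraMap F E a + b • j) ^ q = algebraMap F E a - b • j := by
  have h1 := (Cfsg.Agent.Lib.Helper9.FieldNorm.frobLin F E 1).map_add (algebraMap F E a) (b • j)
  rw [Cfsg.Agent.Lib.Helper9.FieldNorm.frobLin_apply, Cfsg.Agent.Lib.Helper9.FieldNorm.frobLin_apply,
    Cfsg.Agent.Lib.Helper9.FieldNorm.frobLin_apply, pow_one, S.card] at h1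
  rw [h1, ← map_pow, Algebra.smul_def, mul_pow, ← map_pow, S.j_pow]
  have ha : a ^ q = a := by rw [← S.card]; exact FiniteField.pow_card a
  have hb : b ^ q = b := by rw [← S.card]; exact FiniteField.pow_card b
  rw [ha, hb]
  ring

theorem smul_eq (S : JSetup q j ε J) (a b : F) (v : Fin d ⊕ Fin d → F) :
    (algebraMap F E a + b • j) • v = a • v + b • (J *ᵥ v) := by
  rw [add_smul, algebraMap_smul, smul_assoc, S.act]

theorem J_J (S : JSetup q j ε J) (v : Fin d ⊕ Fin d → F) : J *ᵥ (J *ᵥ v) = ε • v := by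
  rw [← S.act, ← S.act, smul_smul, S.sq, algebraMap_smul]

theorem isJ (S : JSetup q j ε J) : IsJ J ε := by
  refine ⟨?_, S.skew⟩
  ext a b
  have := congrFun (S.J_J (Pi.single b 1)) a
  rw [Matrix.mulVec_mulVec] at this
  simp only [Matrix.mulVec_single_one, Matrix.col_apply, Pi.smul_apply, smul_eq_mul, Pi.single_apply] at this
  rw [this, Matrix.smul_apply, Matrix.one_apply, smul_eq_mul]

theorem hf_eq (S : JSetup q j ε J) (u v : Fin d ⊕ Fin d → F) :
    hf j u v = algebraMap F E (Cfsg.sympForm d F (J *ᵥ u) v) + Cfsg.sympForm d F u v • j := by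
  unfold hf
  rw [S.act]

theorem isHerm (S : JSetup q j ε J) : IsHerm q (hf (F := F) (d := d) j) := by
  refine ⟨?_, ?_, ?_⟩
  · intro x y v
    rw [S.hf_eq, S.hf_eq, S.hf_eq, Matrix.mulVec_add, sympForm_add_left, sympForm_add_left, map_add,
      add_smul]
    abel
  · intro c x v
    obtain ⟨a, b, rfl⟩ := S.repr c
    rw [S.hf_eq, S.hf_eq, S.smul_eq, Matrix.mulVec_add, Matrix.mulVec_smul, Matrix.mulVec_smul,
      S.J_J, sympForm_add_left, sympForm_add_left, sympForm_smul_left, sympForm_smul_left,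
      sympForm_smul_left, sympForm_smul_left, sympForm_smul_left]
    simp only [Algebra.smul_def, map_add, map_mul]
    linear_combination (algebraMap F E b * algebraMap F E (Cfsg.sympForm d F x v)) * S.sq.symm
  · intro v w
    rw [S.hf_eq, S.hf_eq, S.frob, S.skew v w, sympForm_swap d v (J *ᵥ w), neg_neg, sympForm_swap d v w,
      neg_smul, sub_eq_add_neg]

theorem hf_eq_zero (S : JSetup q j ε J) (u v : Fin d ⊕ Fin d → F) (h : hf j u v = 0) :
    Cfsg.sympForm d F (J *ᵥ u) v = 0 ∧ Cfsg.sympForm d F u v = 0 := by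
  rw [S.hf_eq] at h
  exact S.indep _ _ h

theorem hf_eq_one (S : JSetup q j ε J) (u v : Fin d ⊕ Fin d → F) (h : hf j u v = 1) :
    Cfsg.sympForm d F (J *ᵥ u) v = 1 ∧ Cfsg.sympForm d F u v = 0 := by
  rw [S.hf_eq] at h
  have h1 : algebraMap F E (Cfsg.sympForm d F (J *ᵥ u) v - 1) + Cfsg.sympForm d F u v • j = 0 := by
    rw [map_sub, map_one]
    linear_combination h
  obtain ⟨h2, h3⟩ := S.indep _ _ h1
  exact ⟨sub_eq_zero.1 h2, h3⟩

theorem ndOn_top (S : JSetup q j ε J) : NdOn (hf (F := F) (d := d) j) (⊤ : Submodule E (Fin d ⊕ Fin d → F)) := by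
  intro u _ hu
  obtain ⟨v, hv⟩ := sympForm_nondeg u hu
  refine ⟨v, Submodule.mem_top, fun h => hv (S.hf_eq_zero u v h).2⟩

theorem finrank_FE (S : JSetup q j ε J) : finrank F E = 2 := by
  have h1 := Module.card_eq_pow_finrank (K := F) (V := E)
  rw [S.card_E, S.card] at h1
  exact (Nat.pow_right_injective S.two_le h1).symm

theorem finrank_EV (S : JSetup q j ε J) : finrank E (Fin d ⊕ Fin d → F) = d := by
  haveI : Module.Finite E (Fin d ⊕ Fin d → F) := Module.Finite.of_restrictScalars_finite F E _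
  have h1 := Module.finrank_mul_finrank F E (Fin d ⊕ Fin d → F)
  rw [S.finrank_FE, Module.finrank_fintype_fun_eq_card, Fintype.card_sum, Fintype.card_fin] at h1
  omega

/-- an orthonormal basis for the hermitian form gives a hyperbolic system `(e, J e)` -/
theorem exists_Jbasis (S : JSetup q j ε J) :
    ∃ e : Fin d → (Fin d ⊕ Fin d → F), HypSys F d d e (fun i => J *ᵥ e i) := by
  classical
  haveI : Module.Finite E (Fin d ⊕ Fin d → F) := Module.Finite.of_restrictScalars_finite F E _
  obtain ⟨n, hn, Φ, hΦ⟩ : ∃ n, n = d ∧ ∃ Φ : (Fin n → E) ≃ₗ[E] (⊤ : Submodule E (Fin d ⊕ Fin d → F)),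
      ∀ a b : Fin n → E, hf j (Φ a : Fin d ⊕ Fin d → F) (Φ b : Fin d ⊕ Fin d → F) =
        Cfsg.hermForm n E q a b := by
    obtain ⟨Φ, hΦ⟩ := exists_orthonormal_equiv S.isHerm S.card_E ⊤ S.ndOn_top
    refine ⟨_, ?_, Φ, hΦ⟩
    rw [finrank_top, S.finrank_EV]
  subst hn
  have hq1 : 1 ≤ q := by have := S.two_le; omega
  have hherm : ∀ k l : Fin n, Cfsg.hermForm n E q (Pi.single k 1) (Pi.single l 1) =
      if k = l then 1 else 0 := by
    intro k l
    unfold Cfsg.hermForm
    rw [Finset.sum_eq_single k]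
    · by_cases hkl : k = l
      · subst hkl
        rw [Pi.single_eq_same, one_pow, mul_one, if_pos rfl]
      · rw [if_neg hkl, Pi.single_eq_of_ne hkl, zero_pow (by omega), mul_zero]
    · intro i _ hik
      rw [Pi.single_eq_of_ne hik, zero_mul]
    · intro h
      exact absurd (Finset.mem_univ k) h
  let e : Fin n → (Fin n ⊕ Fin n → F) := fun k => (Φ (Pi.single k 1) : Fin n ⊕ Fin n → F)
  have hee : ∀ k l, hf j (e k) (e l) = if k = l then 1 else 0 := by
    intro k l
    rw [← hherm]
    exact hΦ _ _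
  have h0 : ∀ k l, Cfsg.sympForm n F (e k) (e l) = 0 := by
    intro k l
    by_cases hkl : k = l
    · have := hee k l
      rw [if_pos hkl] at this
      exact (S.hf_eq_one _ _ this).2
    · have := hee k l
      rw [if_neg hkl] at this
      exact (S.hf_eq_zero _ _ this).2
  refine ⟨e, ⟨h0, ?_, ?_⟩⟩
  · intro k l
    rw [S.skew, S.J_J, sympForm_smul_right, h0, mul_zero, neg_zero]
  · intro k l
    by_cases hkl : k = l
    · have := hee k l
      rw [if_pos hkl] at this
      rw [if_pos hkl]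
      exact (S.hf_eq_one _ _ this).1
    · have := hee k l
      rw [if_neg hkl] at this
      rw [if_neg hkl]
      exact (S.hf_eq_zero _ _ this).1

end JSetup

end setup

end Cfsg.Agent.Lib.Helper22.SpGU
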