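import Mathlib
import Cfsg.Agent.Lib.Helper22.SpGUB
import Cfsg.Agent.Lib.Helper12.SpG

/-! Helper22 library (S5976): an element of odd prime order `r` of `Sp_{2d}(q)` commuting with the skew generator
`J` acts as a hermitian isometry; if `[V, A]` has dimension `2n` then `r ∣ q^n - (-1)^n`. -/

set_option autoImplicit false

namespace Cfsg.Agent.Lib.Helper22.SpGU

open Matrix Module Cfsg.Agent.Lib.Helper5 Cfsg.Agent.Lib.Helper14 Cfsg.Agent.Lib.Helper15
  Cfsg.Agent.Lib.Helper12.Elus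

section fpf

variable {F : Type*} [Field F] [Fintype F] {d : ℕ}
variable {E : Type*} [Field E] [Fintype E] [Algebra F E] [Module E (Fin d ⊕ Fin d → F)]
  [IsScalarTower F E (Fin d ⊕ Fin d → F)]
variable {q : ℕ} {j : E} {ε : F} {J : Matrix (Fin d ⊕ Fin d) (Fin d ⊕ Fin d) F}

theorem JSetup.dvd_of_comm (S : JSetup q j ε J) {p : ℕ} [Fact p.Prime] [CharP F p]
    (A : Matrix (Fin d ⊕ Fin d) (Fin d ⊕ Fin d) F) (hA : A ∈ Matrix.symplecticGroup (Fin d) F)
    (hAJ : A * J = J * A) (r : ℕ) [Fact r.Prime] (hrp : r ≠ p) (hAr : A ^ r = 1) (n : ℕ)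
    (hn : finrank F (movR (Matrix.toLin' A)) = 2 * n) :
    (r : ℤ) ∣ (q : ℤ) ^ n - (-1) ^ n := by
  classical
  have hr : r.Prime := Fact.out
  have hp : p.Prime := Fact.out
  haveI : Module.Finite E (Fin d ⊕ Fin d → F) := Module.Finite.of_restrictScalars_finite F E _
  set y : (Fin d ⊕ Fin d → F) →ₗ[F] (Fin d ⊕ Fin d → F) := Matrix.toLin' A with hy
  have hyv : ∀ v, y v = A *ᵥ v := fun v => Matrix.toLin'_apply A v
  have hAJv : ∀ v, A *ᵥ (J *ᵥ v) = J *ᵥ (A *ᵥ v) := by
    intro v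
    rw [Matrix.mulVec_mulVec, Matrix.mulVec_mulVec, hAJ]
  have hr0 : (r : F) ≠ 0 := by
    rw [Ne, CharP.cast_eq_zero_iff F p]
    intro hd
    exact hrp ((Nat.prime_dvd_prime_iff_eq hp hr).1 hd).symm
  have hyr : y ^ r = 1 := by
    rw [hy, ← Matrix.toLin'_pow, hAr, Matrix.toLin'_one]
    rfl
  -- the E-linear map
  let x : (Fin d ⊕ Fin d → F) →ₗ[E] (Fin d ⊕ Fin d → F) :=
    { toFun := fun v => A *ᵥ v
      map_add' := fun v w => Matrix.mulVec_add A v w
      map_smul' := by
        intro c v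
        obtain ⟨a, b, rfl⟩ := S.repr c
        simp only [RingHom.id_apply]
        rw [S.smul_eq, S.smul_eq, Matrix.mulVec_add, Matrix.mulVec_smul, Matrix.mulVec_smul, hAJv] }
  have hxv : ∀ v, x v = A *ᵥ v := fun v => rfl
  have hxpow : ∀ (k : ℕ) v, (x ^ k) v = (A ^ k) *ᵥ v := by
    intro k
    induction k with
    | zero => intro v; simp
    | succ k ih =>
      intro v
      rw [pow_succ', Module.End.mul_apply, ih, hxv, Matrix.mulVec_mulVec, ← pow_succ']
  -- the E-subspace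
  let C : Submodule E (Fin d ⊕ Fin d → F) :=
    { carrier := {w | w ∈ movR y}
      add_mem' := fun {a b} ha hb => (movR y).add_mem ha hb
      zero_mem' := (movR y).zero_mem
      smul_mem' := by
        intro c w hw
        obtain ⟨a, b, rfl⟩ := S.repr c
        show (algebraMap F E a + b • j) • w ∈ movR y
        rw [S.smul_eq]
        refine (movR y).add_mem ((movR y).smul_mem a hw) ((movR y).smul_mem b ?_)
        obtain ⟨w₀, rfl⟩ := hw
        refine ⟨J *ᵥ w₀, ?_⟩
        rw [LinearMap.sub_apply, LinearMap.sub_apply, Module.End.one_apply, Module.End.one_apply, hyv,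
          hyv, hAJv, Matrix.mulVec_sub] }
  have hCmem : ∀ w, w ∈ C ↔ w ∈ movR y := fun w => Iff.rfl
  have hB_alt : ∀ v, sympBilin d (F := F) v v = 0 := Cfsg.Agent.Lib.Helper12.Sp.stdB_alt d
  have hiso : ∀ u v, sympBilin d (F := F) (y u) (y v) = sympBilin d u v :=
    Cfsg.Agent.Lib.Helper12.Sp.std_iso d A hA
  have hndtop : Cfsg.Agent.Lib.Helper12.Sp.NdOn (sympBilin d (F := F)) ⊤ := by
    intro u _ hu
    obtain ⟨v, hv⟩ := sympForm_nondeg u hu
    exact ⟨v, Submodule.mem_top, by rw [sympBilin_apply]; exact hv⟩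
  have hndmov := Cfsg.Agent.Lib.Helper12.Sp.ndOn_inf_mov (sympBilin d (F := F)) y hB_alt hiso r hyr hr0 ⊤
    (fun v _ => Submodule.mem_top) hndtop
  rw [top_inf_eq] at hndmov
  have hC : HermSub.NdOn (hf (F := F) (d := d) j) C := by
    intro u hu hu0
    obtain ⟨v, hv, hne⟩ := hndmov u hu hu0
    rw [sympBilin_apply] at hne
    exact ⟨v, hv, fun h => hne (S.hf_eq_zero u v h).2⟩
  have hxC : ∀ c ∈ C, x c ∈ C := by
    rintro _ ⟨w₀, rfl⟩
    refine ⟨y w₀, ?_⟩
    rw [hxv, LinearMap.sub_apply, LinearMap.sub_apply, Module.End.one_apply, Module.End.one_apply,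
      ← hyv, map_sub]
  have hxiso : ∀ a ∈ C, ∀ b ∈ C, hf j (x a) (x b) = hf j a b := by
    intro a _ b _
    rw [S.hf_eq, S.hf_eq, hxv, hxv, ← hAJv, sympForm_mulVec_of_mem hA, sympForm_mulVec_of_mem hA]
  have hxr : ∀ c ∈ C, (x ^ r) c = c := by
    intro c _
    rw [hxpow, hAr, Matrix.one_mulVec]
  have hfix : ∀ c ∈ C, x c = c → c = 0 := by
    intro c hc hcc
    have h1 : c ∈ fixE y ⊓ movR y := ⟨(mem_fixE y c).2 (by rw [hyv]; exact hcc), hc⟩
    rw [fix_inf_mov y r hyr hr0] at h1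
    exact (Submodule.mem_bot F).1 h1
  have hrq : ¬ r ∣ q := by
    intro hrq
    obtain ⟨k, hprime, hcard⟩ := FiniteField.card F p
    rw [← S.card, hcard] at hrq
    exact hrp ((Nat.prime_dvd_prime_iff_eq hr hp).1 (hr.dvd_of_dvd_pow hrq))
  have hmain := HermSub.dvd_of_fpf S.isHerm S.card_E C hC x hxC hxiso r hr hxr hfix hrq
  -- dimension
  have hdim : finrank E C = n := by
    have h1 := Module.finrank_mul_finrank F E C
    rw [S.finrank_FE] at h1
    have h2 : finrank F C = finrank F (movR y) := by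
      apply LinearEquiv.finrank_eq
      exact
        { toFun := fun c => ⟨c.1, c.2⟩
          invFun := fun c => ⟨c.1, c.2⟩
          left_inv := fun c => rfl
          right_inv := fun c => rfl
          map_add' := fun a b => rfl
          map_smul' := fun a b => rfl }
    rw [h2, hn] at h1
    omega
  rw [hdim] at hmain
  exact hmain

end fpf

end Cfsg.Agent.Lib.Helper22.SpGU
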