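import Mathlib
import Cfsg.Agent.Lib.Helper22.SpGUB
import Cfsg.Agent.Lib.Helper14.Unitary

/-! Helper22 library (S5976): `GU_d(q)` embeds in the centralizer of the skew generator `J` in `Sp_{2d}(q)`. -/

set_option autoImplicit false

namespace Cfsg.Agent.Lib.Helper22.SpGU

open Matrix Module Cfsg.Agent.Lib.Helper5 Cfsg.Agent.Lib.Helper14 Cfsg.Agent.Lib.Helper15
  Cfsg.Agent.Lib.Helper15.HermSub

section embed

variable {F : Type*} [Field F] [Fintype F] {d : ℕ}
variable {E : Type*} [Field E] [Fintype E] [Algebra F E] [Module E (Fin d ⊕ Fin d → F)]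
  [IsScalarTower F E (Fin d ⊕ Fin d → F)]
variable {q : ℕ} {j : E} {ε : F} {J : Matrix (Fin d ⊕ Fin d) (Fin d ⊕ Fin d) F}

/-- the orthonormal coordinate system -/
theorem JSetup.exists_orthonormal_top (S : JSetup q j ε J) :
    ∃ Φ : (Fin d → E) ≃ₗ[E] (Fin d ⊕ Fin d → F),
      ∀ a b : Fin d → E, hf j (Φ a) (Φ b) = Cfsg.hermForm d E q a b := by
  classical
  haveI : Module.Finite E (Fin d ⊕ Fin d → F) := Module.Finite.of_restrictScalars_finite F E _
  obtain ⟨n, hn, Φ, hΦ⟩ : ∃ n, n = d ∧ ∃ Φ : (Fin n → E) ≃ₗ[E] (⊤ : Submodule E (Fin d ⊕ Fin d → F)),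
      ∀ a b : Fin n → E, hf j (Φ a : Fin d ⊕ Fin d → F) (Φ b : Fin d ⊕ Fin d → F) =
        Cfsg.hermForm n E q a b := by
    obtain ⟨Φ, hΦ⟩ := exists_orthonormal_equiv S.isHerm S.card_E ⊤ S.ndOn_top
    refine ⟨_, ?_, Φ, hΦ⟩
    rw [finrank_top, S.finrank_EV]
  subst hn
  exact ⟨Φ.trans Submodule.topEquiv, fun a b => hΦ a b⟩

theorem JSetup.hf_congr (S : JSetup q j ε J) (u v u' v' : Fin d ⊕ Fin d → F)
    (h : hf j u v = hf j u' v') : Cfsg.sympForm d F u v = Cfsg.sympForm d F u' v' := by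
  rw [S.hf_eq, S.hf_eq] at h
  have h1 : algebraMap F E (Cfsg.sympForm d F (J *ᵥ u) v - Cfsg.sympForm d F (J *ᵥ u') v') +
      (Cfsg.sympForm d F u v - Cfsg.sympForm d F u' v') • j = 0 := by
    rw [map_sub, sub_smul]
    linear_combination h
  exact sub_eq_zero.1 (S.indep _ _ h1).2

/-- the order of `GU_d(q)` divides the order of every subgroup containing the symplectic centralizer of `J` -/
theorem JSetup.card_GU_dvd (S : JSetup q j ε J) (H : Subgroup (GL (Fin d ⊕ Fin d) F))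
    (hH : ∀ g : GL (Fin d ⊕ Fin d) F, g ∈ Cfsg.spGL d F →
      (g : Matrix (Fin d ⊕ Fin d) (Fin d ⊕ Fin d) F) * J = J * (g : Matrix (Fin d ⊕ Fin d) (Fin d ⊕ Fin d) F) →
      g ∈ H) :
    Nat.card (Cfsg.GU d E q) ∣ Nat.card H := by
  classical
  obtain ⟨Φ, hΦ⟩ := S.exists_orthonormal_top
  -- the monoid hom into endomorphisms
  let ψ : GL (Fin d) E →* Module.End F (Fin d ⊕ Fin d → F) :=
    { toFun := fun U => ((Φ.toLinearMap ∘ₗ Matrix.toLin' (U : Matrix (Fin d) (Fin d) E)) ∘ₗ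
        Φ.symm.toLinearMap).restrictScalars F
      map_one' := by
        apply LinearMap.ext
        intro v
        simp
      map_mul' := by
        intro U U'
        apply LinearMap.ext
        intro v
        simp [Matrix.toLin'_mul] }
  have hψ : ∀ (U : GL (Fin d) E) v, ψ U v = Φ ((U : Matrix (Fin d) (Fin d) E) *ᵥ Φ.symm v) := by
    intro U v
    rfl
  let Ψ : GL (Fin d) E →* Matrix (Fin d ⊕ Fin d) (Fin d ⊕ Fin d) F :=
    ((LinearMap.toMatrixAlgEquiv' : Module.End F (Fin d ⊕ Fin d → F) ≃ₐ[F] _) :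
      Module.End F (Fin d ⊕ Fin d → F) →* _).comp ψ
  have hΨ : ∀ (U : GL (Fin d) E) v, Ψ U *ᵥ v = Φ ((U : Matrix (Fin d) (Fin d) E) *ᵥ Φ.symm v) := by
    intro U v
    rw [← hψ]
    show LinearMap.toMatrix' (ψ U) *ᵥ v = _
    rw [← Matrix.toLin'_apply, Matrix.toLin'_toMatrix']
  let φ : GL (Fin d) E →* GL (Fin d ⊕ Fin d) F := Ψ.toHomUnits
  have hφ : ∀ (U : GL (Fin d) E) v, ((φ U : GL (Fin d ⊕ Fin d) F) :
      Matrix (Fin d ⊕ Fin d) (Fin d ⊕ Fin d) F) *ᵥ v =
      Φ ((U : Matrix (Fin d) (Fin d) E) *ᵥ Φ.symm v) := by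
    intro U v
    rw [← hΨ]
    rfl
  have hmem : ∀ U : GL (Fin d) E, U ∈ Cfsg.GU d E q → φ U ∈ H := by
    intro U hU
    rw [mem_GU_iff] at hU
    apply hH
    · intro u v
      show Cfsg.sympForm d F (((φ U : GL (Fin d ⊕ Fin d) F) :
        Matrix (Fin d ⊕ Fin d) (Fin d ⊕ Fin d) F) *ᵥ u) (((φ U : GL (Fin d ⊕ Fin d) F) :
        Matrix (Fin d ⊕ Fin d) (Fin d ⊕ Fin d) F) *ᵥ v) = Cfsg.sympForm d F u v
      apply S.hf_congr
      rw [hφ, hφ, hΦ]
      have h1 := hU (Φ.symm u) (Φ.symm v)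
      rw [h1, ← hΦ, LinearEquiv.apply_symm_apply, LinearEquiv.apply_symm_apply]
    · apply Matrix.toLin'.injective
      apply LinearMap.ext
      intro v
      rw [Matrix.toLin'_apply, Matrix.toLin'_apply, ← Matrix.mulVec_mulVec, ← Matrix.mulVec_mulVec,
        hφ, hφ, ← S.act, ← S.act, map_smul, ← Matrix.toLin'_apply, map_smul, map_smul,
        Matrix.toLin'_apply]
  have hinj : Function.Injective φ := by
    rw [injective_iff_map_eq_one]
    intro U hU
    apply Units.ext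
    apply Matrix.toLin'.injective
    apply LinearMap.ext
    intro a
    rw [Matrix.toLin'_apply, Units.val_one, Matrix.toLin'_one, LinearMap.id_apply]
    have h1 := hφ U (Φ a)
    rw [hU, Units.val_one, Matrix.one_mulVec, LinearEquiv.symm_apply_apply] at h1
    exact (Φ.injective h1).symm
  let f : Cfsg.GU d E q →* H :=
    { toFun := fun U => ⟨φ U.1, hmem U.1 U.2⟩
      map_one' := by
        apply Subtype.ext
        show φ 1 = 1
        exact map_one φ
      map_mul' := by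
        intro a b
        apply Subtype.ext
        show φ (a.1 * b.1) = φ a.1 * φ b.1
        exact map_mul φ _ _ }
  apply Subgroup.card_dvd_of_injective f
  intro a b hab
  apply Subtype.ext
  apply hinj
  exact congrArg Subtype.val hab

end embed

end Cfsg.Agent.Lib.Helper22.SpGU
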