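import Mathlib
import Cfsg.Agent.Lib.Helper22.SpGUC
import Cfsg.Agent.Lib.Helper22.SpGUD

/-! Helper22 library (S5976): the subalgebra `F[J]` for a skew `J` with `J * J = ε`, `ε` a nonsquare; consequences
stated over the ground field. -/

set_option autoImplicit false

namespace Cfsg.Agent.Lib.Helper22.SpGU

open Matrix Module Cfsg.Agent.Lib.Helper5 Cfsg.Agent.Lib.Helper14 Cfsg.Agent.Lib.Helper15
  Cfsg.Agent.Lib.Helper12.Elus

section KJ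

variable {F : Type*} [Field F] {d : ℕ}

/-- the subalgebra `{a + b J}` -/
def KJ (J : Matrix (Fin d ⊕ Fin d) (Fin d ⊕ Fin d) F) (ε : F) (hsq : J * J = ε • 1) :
    Subalgebra F (Matrix (Fin d ⊕ Fin d) (Fin d ⊕ Fin d) F) where
  carrier := {k | ∃ a b : F, k = a • 1 + b • J}
  mul_mem' := by
    rintro _ _ ⟨a, b, rfl⟩ ⟨a', b', rfl⟩
    refine ⟨a * a' + b * b' * ε, a * b' + a' * b, ?_⟩
    simp only [Matrix.add_mul, Matrix.mul_add, Matrix.smul_mul, Matrix.mul_smul, Matrix.one_mul,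
      Matrix.mul_one, hsq]
    module
  add_mem' := by
    rintro _ _ ⟨a, b, rfl⟩ ⟨a', b', rfl⟩
    refine ⟨a + a', b + b', ?_⟩
    rw [add_smul, add_smul]
    abel
  algebraMap_mem' := by
    intro a
    refine ⟨a, 0, ?_⟩
    rw [zero_smul, add_zero, Algebra.algebraMap_eq_smul_one]

theorem mem_KJ (J : Matrix (Fin d ⊕ Fin d) (Fin d ⊕ Fin d) F) (ε : F) (hsq : J * J = ε • 1)
    (k : Matrix (Fin d ⊕ Fin d) (Fin d ⊕ Fin d) F) :
    k ∈ KJ J ε hsq ↔ ∃ a b : F, k = a • 1 + b • J := Iff.rfl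

theorem J_mem_KJ (J : Matrix (Fin d ⊕ Fin d) (Fin d ⊕ Fin d) F) (ε : F) (hsq : J * J = ε • 1) :
    J ∈ KJ J ε hsq := ⟨0, 1, by rw [zero_smul, zero_add, one_smul]⟩

theorem KJ_comm (J : Matrix (Fin d ⊕ Fin d) (Fin d ⊕ Fin d) F) (ε : F) (hsq : J * J = ε • 1) :
    ∀ x ∈ KJ J ε hsq, ∀ y ∈ KJ J ε hsq, x * y = y * x := by
  rintro _ ⟨a, b, rfl⟩ _ ⟨a', b', rfl⟩
  simp only [Matrix.add_mul, Matrix.mul_add, Matrix.smul_mul, Matrix.mul_smul, Matrix.one_mul,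
    Matrix.mul_one]
  module

theorem KJ_inv (J : Matrix (Fin d ⊕ Fin d) (Fin d ⊕ Fin d) F) (ε : F) (hsq : J * J = ε • 1)
    (hε : ¬ IsSquare ε) (h10 : (1 : Matrix (Fin d ⊕ Fin d) (Fin d ⊕ Fin d) F) ≠ 0) :
    ∀ x ∈ KJ J ε hsq, x ≠ 0 → ∃ y ∈ KJ J ε hsq, x * y = 1 := by
  rintro _ ⟨a, b, rfl⟩ hx
  have hN : a * a - ε * b * b ≠ 0 := by
    intro h
    by_cases hb : b = 0
    · subst hb
      rw [mul_zero, sub_zero] at h
      have ha : a = 0 := mul_self_eq_zero.1 h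
      apply hx
      rw [ha, zero_smul, zero_smul, add_zero]
    · apply hε
      refine ⟨a / b, ?_⟩
      field_simp
      linear_combination -h
  refine ⟨(a / (a * a - ε * b * b)) • 1 + (-b / (a * a - ε * b * b)) • J, ⟨_, _, rfl⟩, ?_⟩
  simp only [Matrix.add_mul, Matrix.mul_add, Matrix.smul_mul, Matrix.mul_smul, Matrix.one_mul,
    Matrix.mul_one, hsq]
  have h2 : a / (a * a - ε * b * b) * a + -b / (a * a - ε * b * b) * b * ε = 1 := by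
    rw [div_mul_eq_mul_div, div_mul_eq_mul_div, div_mul_eq_mul_div, ← add_div, div_eq_one_iff_eq hN]
    ring
  have h3 : a / (a * a - ε * b * b) * b + -b / (a * a - ε * b * b) * a = 0 := by
    field_simp
    ring
  have h1 : (a / (a * a - ε * b * b)) • (a • (1 : Matrix (Fin d ⊕ Fin d) (Fin d ⊕ Fin d) F) + b • J) +
      (-b / (a * a - ε * b * b)) • (a • J + b • ε • 1) =
      (a / (a * a - ε * b * b) * a + -b / (a * a - ε * b * b) * b * ε) • 1 +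
      (a / (a * a - ε * b * b) * b + -b / (a * a - ε * b * b) * a) • J := by
    module
  rw [h1, h2, h3, one_smul, zero_smul, add_zero]

end KJ

section inst

open Cfsg.Agent.Lib.Helper9

variable {F : Type*} [Field F] [Fintype F] {d : ℕ}

theorem matrix_one_ne_zero (hd : 1 ≤ d) : (1 : Matrix (Fin d ⊕ Fin d) (Fin d ⊕ Fin d) F) ≠ 0 := by
  intro h
  have := congrFun (congrFun h (Sum.inl ⟨0, hd⟩)) (Sum.inl ⟨0, hd⟩)
  rw [Matrix.one_apply_eq, Matrix.zero_apply] at this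
  exact one_ne_zero this

/-- the setup for `E = F[J]` -/
theorem jsetup_KJ {q : ℕ} (hq : Fintype.card F = q) (hodd : Odd q) (hd : 1 ≤ d)
    (J : Matrix (Fin d ⊕ Fin d) (Fin d ⊕ Fin d) F) (ε : F) (hJ : IsJ J ε) (hε : ¬ IsSquare ε) :
    haveI : Nonempty (Fin d ⊕ Fin d) := ⟨Sum.inl ⟨0, hd⟩⟩
    letI := FieldNorm.fieldOf (KJ J ε hJ.sq) (KJ_comm J ε hJ.sq)
      (KJ_inv J ε hJ.sq hε (matrix_one_ne_zero hd))
    letI : Fintype ↥(KJ J ε hJ.sq) := Fintype.ofFinite _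
    letI := FieldNorm.modOf (KJ J ε hJ.sq).val
    haveI := FieldNorm.isScalarTower (KJ J ε hJ.sq).val
    JSetup q (⟨J, J_mem_KJ J ε hJ.sq⟩ : ↥(KJ J ε hJ.sq)) ε J := by
  haveI : Nonempty (Fin d ⊕ Fin d) := ⟨Sum.inl ⟨0, hd⟩⟩
  letI := FieldNorm.fieldOf (KJ J ε hJ.sq) (KJ_comm J ε hJ.sq)
    (KJ_inv J ε hJ.sq hε (matrix_one_ne_zero hd))
  letI : Fintype ↥(KJ J ε hJ.sq) := Fintype.ofFinite _
  letI := FieldNorm.modOf (KJ J ε hJ.sq).val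
  haveI := FieldNorm.isScalarTower (KJ J ε hJ.sq).val
  refine ⟨hq, hodd, ?_, hε, ?_, hJ.skew, ?_⟩
  · apply Subtype.ext
    show J * J = algebraMap F (Matrix (Fin d ⊕ Fin d) (Fin d ⊕ Fin d) F) ε
    rw [hJ.sq, Algebra.algebraMap_eq_smul_one]
  · intro v
    exact FieldNorm.smul_def (KJ J ε hJ.sq).val ⟨J, J_mem_KJ J ε hJ.sq⟩ v
  · rintro ⟨x, a, b, rfl⟩
    refine ⟨a, b, ?_⟩
    apply Subtype.ext
    show a • 1 + b • J = algebraMap F (Matrix (Fin d ⊕ Fin d) (Fin d ⊕ Fin d) F) a + b • J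
    rw [Algebra.algebraMap_eq_smul_one]

/-- a hyperbolic system `(e, J e)` -/
theorem isJ_jbasis {q : ℕ} (hq : Fintype.card F = q) (hodd : Odd q) (hd : 1 ≤ d)
    (J : Matrix (Fin d ⊕ Fin d) (Fin d ⊕ Fin d) F) (ε : F) (hJ : IsJ J ε) (hε : ¬ IsSquare ε) :
    ∃ e : Fin d → (Fin d ⊕ Fin d → F), HypSys F d d e (fun i => J *ᵥ e i) := by
  haveI : Nonempty (Fin d ⊕ Fin d) := ⟨Sum.inl ⟨0, hd⟩⟩
  letI := FieldNorm.fieldOf (KJ J ε hJ.sq) (KJ_comm J ε hJ.sq)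
    (KJ_inv J ε hJ.sq hε (matrix_one_ne_zero hd))
  letI : Fintype ↥(KJ J ε hJ.sq) := Fintype.ofFinite _
  letI := FieldNorm.modOf (KJ J ε hJ.sq).val
  haveI := FieldNorm.isScalarTower (KJ J ε hJ.sq).val
  exact (jsetup_KJ hq hodd hd J ε hJ hε).exists_Jbasis

/-- elements of odd prime order commuting with `J` -/
theorem isJ_dvd_of_comm {q : ℕ} (hq : Fintype.card F = q) (hodd : Odd q) (hd : 1 ≤ d)
    (J : Matrix (Fin d ⊕ Fin d) (Fin d ⊕ Fin d) F) (ε : F) (hJ : IsJ J ε) (hε : ¬ IsSquare ε)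
    {p : ℕ} [Fact p.Prime] [CharP F p]
    (A : Matrix (Fin d ⊕ Fin d) (Fin d ⊕ Fin d) F) (hA : A ∈ Matrix.symplecticGroup (Fin d) F)
    (hAJ : A * J = J * A) (r : ℕ) [Fact r.Prime] (hrp : r ≠ p) (hAr : A ^ r = 1) (n : ℕ)
    (hn : finrank F (movR (Matrix.toLin' A)) = 2 * n) :
    (r : ℤ) ∣ (q : ℤ) ^ n - (-1) ^ n := by
  haveI : Nonempty (Fin d ⊕ Fin d) := ⟨Sum.inl ⟨0, hd⟩⟩
  letI := FieldNorm.fieldOf (KJ J ε hJ.sq) (KJ_comm J ε hJ.sq)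
    (KJ_inv J ε hJ.sq hε (matrix_one_ne_zero hd))
  letI : Fintype ↥(KJ J ε hJ.sq) := Fintype.ofFinite _
  letI := FieldNorm.modOf (KJ J ε hJ.sq).val
  haveI := FieldNorm.isScalarTower (KJ J ε hJ.sq).val
  exact (jsetup_KJ hq hodd hd J ε hJ hε).dvd_of_comm A hA hAJ r hrp hAr n hn

/-- the order of `GU_d(q)` divides the order of any subgroup containing the symplectic centralizer of `J` -/
theorem isJ_card_dvd {q : ℕ} (hq : Fintype.card F = q) (hodd : Odd q) (hd : 1 ≤ d)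
    (J : Matrix (Fin d ⊕ Fin d) (Fin d ⊕ Fin d) F) (ε : F) (hJ : IsJ J ε) (hε : ¬ IsSquare ε)
    (H : Subgroup (GL (Fin d ⊕ Fin d) F))
    (hH : ∀ g : GL (Fin d ⊕ Fin d) F, g ∈ Cfsg.spGL d F →
      (g : Matrix (Fin d ⊕ Fin d) (Fin d ⊕ Fin d) F) * J = J * (g : Matrix (Fin d ⊕ Fin d) (Fin d ⊕ Fin d) F) →
      g ∈ H) :
    q ^ (d * (d - 1) / 2) *
      ∏ i ∈ Finset.range d, (if Even i then q ^ (i + 1) + 1 else q ^ (i + 1) - 1) ∣ Nat.card H := by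
  haveI : Nonempty (Fin d ⊕ Fin d) := ⟨Sum.inl ⟨0, hd⟩⟩
  letI := FieldNorm.fieldOf (KJ J ε hJ.sq) (KJ_comm J ε hJ.sq)
    (KJ_inv J ε hJ.sq hε (matrix_one_ne_zero hd))
  letI : Fintype ↥(KJ J ε hJ.sq) := Fintype.ofFinite _
  letI := FieldNorm.modOf (KJ J ε hJ.sq).val
  haveI := FieldNorm.isScalarTower (KJ J ε hJ.sq).val
  have S := jsetup_KJ hq hodd hd J ε hJ hε
  have h1 := S.card_GU_dvd H hH
  classical
  rw [card_GU S.card_E d] at h1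
  exact h1

end inst

end Cfsg.Agent.Lib.Helper22.SpGU
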