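import Mathlib
import Cfsg.Agent.Lib.Helper22.SpGUE
import Cfsg.Agent.Lib.Helper22.NdCount

/-! Helper22 library (S5976): conjugacy of skew generators with the same square under the symplectic group. -/

set_option autoImplicit false

namespace Cfsg.Agent.Lib.Helper22.SpGU

open Matrix Module Cfsg.Agent.Lib.Helper5 Cfsg.Agent.Lib.Helper14 Cfsg.Agent.Lib.Helper15
  Cfsg.Agent.Lib.Helper22.NdCount

section conj

variable {F : Type*} [Field F] {d : ℕ}

theorem hspan_eq_top {e f : Fin d → (Fin d ⊕ Fin d → F)} (h : HypSys F d d e f) :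
    hspan e f = ⊤ := by
  apply Submodule.eq_top_of_finrank_eq
  rw [finrank_hspan h, Module.finrank_pi, Fintype.card_sum, Fintype.card_fin]
  ring

/-- two matrices agreeing on a full hyperbolic system are equal -/
theorem matrix_eq_of_hypSys {e f : Fin d → (Fin d ⊕ Fin d → F)} (h : HypSys F d d e f)
    (M N : Matrix (Fin d ⊕ Fin d) (Fin d ⊕ Fin d) F) (he : ∀ i, M *ᵥ e i = N *ᵥ e i)
    (hf : ∀ i, M *ᵥ f i = N *ᵥ f i) : M = N := by
  apply Matrix.toLin'.injective
  apply LinearMap.ext_on_range (v := Sum.elim e f)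
  · exact hspan_eq_top h
  · intro x
    rcases x with i | i
    · rw [Matrix.toLin'_apply, Matrix.toLin'_apply]
      exact he i
    · rw [Matrix.toLin'_apply, Matrix.toLin'_apply]
      exact hf i

/-- skew generators with the same square and full hyperbolic systems `(e, J e)` are conjugate under the
symplectic group -/
theorem conj_of_jbasis (J J' : Matrix (Fin d ⊕ Fin d) (Fin d ⊕ Fin d) F) (ε : F)
    (hJ : J * J = ε • 1) (hJ' : J' * J' = ε • 1)
    {e e' : Fin d → (Fin d ⊕ Fin d → F)} (h : HypSys F d d e (fun i => J *ᵥ e i))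
    (h' : HypSys F d d e' (fun i => J' *ᵥ e' i)) :
    ∃ A : Matrix.symplecticGroup (Fin d) F,
      (A : Matrix (Fin d ⊕ Fin d) (Fin d ⊕ Fin d) F) * J =
        J' * (A : Matrix (Fin d ⊕ Fin d) (Fin d ⊕ Fin d) F) := by
  obtain ⟨A, hAe, hAf⟩ := exists_sp_of_hypSys h h'
  refine ⟨A, ?_⟩
  apply matrix_eq_of_hypSys h
  · intro i
    rw [← Matrix.mulVec_mulVec, ← Matrix.mulVec_mulVec, hAf i, hAe i]
  · intro i
    show _ *ᵥ (J *ᵥ e i) = _ *ᵥ (J *ᵥ e i)
    have h1 : J *ᵥ (J *ᵥ e i) = ε • e i := by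
      rw [Matrix.mulVec_mulVec, hJ, Matrix.smul_mulVec, Matrix.one_mulVec]
    have h2 : J' *ᵥ (J' *ᵥ e' i) = ε • e' i := by
      rw [Matrix.mulVec_mulVec, hJ', Matrix.smul_mulVec, Matrix.one_mulVec]
    rw [← Matrix.mulVec_mulVec, ← Matrix.mulVec_mulVec, h1, hAf i, h2, Matrix.mulVec_smul, hAe i]

end conj

end Cfsg.Agent.Lib.Helper22.SpGU
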