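import Mathlib
import Cfsg.Agent.Lib.Helper22.SpGUF
import Cfsg.Agent.Lib.Helper5.SpMax
import Cfsg.Agent.Lib.Helper12.SpK

/-! Helper22 library (S5976): the order of `spGL`, the arithmetic of the index of the unitary-type subgroup, and the
arithmetic that rules out a commuting skew generator for the minimal model of odd prime order. -/

set_option autoImplicit false

namespace Cfsg.Agent.Lib.Helper22.SpGU

open Matrix Module Cfsg.Agent.Lib.Helper5 Cfsg.Agent.Lib.Helper14 Cfsg.Agent.Lib.Helper15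
  Cfsg.Agent.Lib.Helper12.Sp

section glOf

variable {F : Type*} [Field F] {d : ℕ}

/-- symplectic matrices as elements of the general linear group -/
def glOfSp (A : Matrix.symplecticGroup (Fin d) F) : GL (Fin d ⊕ Fin d) F :=
  ⟨A.1, (A⁻¹ : Matrix.symplecticGroup (Fin d) F).1,
    congrArg Subtype.val (mul_inv_cancel A), congrArg Subtype.val (inv_mul_cancel A)⟩

theorem glOfSp_val (A : Matrix.symplecticGroup (Fin d) F) :
    ((glOfSp A : GL (Fin d ⊕ Fin d) F) : Matrix (Fin d ⊕ Fin d) (Fin d ⊕ Fin d) F) = A.1 := rfl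

theorem glOfSp_mem (A : Matrix.symplecticGroup (Fin d) F) : glOfSp A ∈ Cfsg.spGL d F :=
  fun u v => sympForm_mulVec_of_mem A.2 u v

theorem card_spGL : Nat.card (Cfsg.spGL d F) = Nat.card (Matrix.symplecticGroup (Fin d) F) := by
  apply Nat.card_congr
  refine ⟨fun g => ⟨(g.1 : Matrix (Fin d ⊕ Fin d) (Fin d ⊕ Fin d) F), SpMax.val_mem_symplectic g.2⟩,
    fun A => ⟨glOfSp A, glOfSp_mem A⟩, ?_, ?_⟩
  · intro g
    apply Subtype.ext
    apply Units.ext
    rfl
  · intro A
    rfl

end glOf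

section arith

theorem relIndex_mul_card_of_le {G : Type*} [Group G] (H K : Subgroup G) (h : H ≤ K) :
    H.relIndex K * Nat.card H = Nat.card K := by
  rw [Subgroup.relIndex, ← Subgroup.card_mul_index (H.subgroupOf K), mul_comm,
    Nat.card_congr (Subgroup.subgroupOfEquivOfLe h).toEquiv]

variable {F : Type*} [Field F] [Fintype F] {d : ℕ}

/-- a prime dividing the index of a subgroup containing the symplectic centralizer of `J` and not dividing `q`
divides one of the complementary factors -/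
theorem exists_factor_of_dvd_relIndex {q : ℕ} (hq : Fintype.card F = q) (hodd : Odd q) (hd : 1 ≤ d)
    (J : Matrix (Fin d ⊕ Fin d) (Fin d ⊕ Fin d) F) (ε : F) (hJ : IsJ J ε) (hε : ¬ IsSquare ε)
    (N : Subgroup (GL (Fin d ⊕ Fin d) F))
    (hN : ∀ g : GL (Fin d ⊕ Fin d) F, g ∈ Cfsg.spGL d F →
      (g : Matrix (Fin d ⊕ Fin d) (Fin d ⊕ Fin d) F) * J = J * (g : Matrix (Fin d ⊕ Fin d) (Fin d ⊕ Fin d) F) →
      g ∈ N)
    (r : ℕ) (hr : r.Prime) (hrq : ¬ r ∣ q) (hΩ : r ∣ N.relIndex (Cfsg.spGL d F)) :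
    ∃ i < d, r ∣ (if Even i then q ^ (i + 1) - 1 else q ^ (i + 1) + 1) := by
  have hq1 : 1 ≤ q := hodd.pos
  have h1 := isJ_card_dvd hq hodd hd J ε hJ hε (N ⊓ Cfsg.spGL d F)
    (fun g hg hgJ => ⟨hN g hg hgJ, hg⟩)
  have h2 := relIndex_mul_card_of_le (N ⊓ Cfsg.spGL d F) (Cfsg.spGL d F) inf_le_right
  rw [Subgroup.inf_relIndex_right, card_spGL, card_symplectic, hq] at h2
  have h3 : ∏ i ∈ Finset.range d, (q ^ (2 * (i + 1)) - 1) =
      (∏ i ∈ Finset.range d, (if Even i then q ^ (i + 1) + 1 else q ^ (i + 1) - 1)) *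
      ∏ i ∈ Finset.range d, (if Even i then q ^ (i + 1) - 1 else q ^ (i + 1) + 1) := by
    rw [← Finset.prod_mul_distrib]
    apply Finset.prod_congr rfl
    intro i _
    have h4 : 1 ≤ q ^ (i + 1) := Nat.one_le_pow _ _ hq1
    have h5 : q ^ (2 * (i + 1)) - 1 = (q ^ (i + 1) - 1) * (q ^ (i + 1) + 1) := by
      obtain ⟨t, ht⟩ : ∃ t, q ^ (i + 1) = t + 1 := ⟨q ^ (i + 1) - 1, by omega⟩
      rw [mul_comm 2, pow_mul, ht]
      simp only [Nat.add_sub_cancel]
      have : (t + 1) ^ 2 = t * (t + 1 + 1) + 1 := by ring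
      rw [this, Nat.add_sub_cancel]
    rw [h5]
    split_ifs
    · rw [mul_comm]
    · rfl
  have h6 : r ∣ q ^ (d ^ 2) * ((∏ i ∈ Finset.range d, (if Even i then q ^ (i + 1) + 1 else q ^ (i + 1) - 1)) *
      ∏ i ∈ Finset.range d, (if Even i then q ^ (i + 1) - 1 else q ^ (i + 1) + 1)) := by
    rw [← h3, ← h2]
    exact Dvd.dvd.mul_right hΩ _
  obtain ⟨m, hm⟩ := h1
  set A := ∏ i ∈ Finset.range d, (if Even i then q ^ (i + 1) + 1 else q ^ (i + 1) - 1) with hA
  set B := ∏ i ∈ Finset.range d, (if Even i then q ^ (i + 1) - 1 else q ^ (i + 1) + 1) with hB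
  have hApos : 0 < A := by
    apply Finset.prod_pos
    intro i _
    have h4 : 1 ≤ q ^ (i + 1) := Nat.one_le_pow _ _ hq1
    have h4' : q ^ (i + 1) ≠ 1 := by
      intro h
      have h5 : q = 1 := by
        rcases Nat.pow_eq_one.1 h with h | h
        · exact h
        · omega
      apply hrq
      rw [h5]
      -- r divides relIndex which divides ... ; with q = 1 impossible: the field has at least two elements
      exfalso
      have := Fintype.one_lt_card (α := F)
      omega
    split_ifs <;> omega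
  rw [h3, hm] at h2
  -- relIndex * (q^.. * A * m) = q^(d^2) * (A * B)
  have h7 : N.relIndex (Cfsg.spGL d F) * (q ^ (d * (d - 1) / 2) * m) = q ^ (d ^ 2) * B := by
    apply Nat.eq_of_mul_eq_mul_left hApos
    calc A * (N.relIndex (Cfsg.spGL d F) * (q ^ (d * (d - 1) / 2) * m))
        = N.relIndex (Cfsg.spGL d F) * (q ^ (d * (d - 1) / 2) * A * m) := by ring
      _ = q ^ (d ^ 2) * (A * B) := h2
      _ = A * (q ^ (d ^ 2) * B) := by ring
  have h8 : r ∣ q ^ (d ^ 2) * B := by
    rw [← h7]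
    exact Dvd.dvd.mul_right hΩ _
  rcases hr.dvd_mul.1 h8 with h | h
  · exact absurd (hr.dvd_of_dvd_pow h) hrq
  · rw [hB, hr.prime.dvd_finsetProd_iff] at h
    obtain ⟨i, hi, hri⟩ := h
    exact ⟨i, Finset.mem_range.1 hi, hri⟩

/-- the arithmetic obstruction -/
theorem blockDim_arith (q r : ℕ) [Fact r.Prime] (hr2 : r ≠ 2) (hrq : ¬ r ∣ q) (i₀ : ℕ)
    (h : r ∣ (if Even i₀ then q ^ (i₀ + 1) - 1 else q ^ (i₀ + 1) + 1)) :
    blockDim q r ≤ 2 * (i₀ + 1) ∧
      ∀ n, blockDim q r = 2 * n → ¬ ((r : ℤ) ∣ (q : ℤ) ^ n - (-1) ^ n) := by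
  have hr : r.Prime := Fact.out
  have hq1 : 1 ≤ q := by
    rcases Nat.eq_zero_or_pos q with h0 | h0
    · exact absurd (h0 ▸ dvd_zero r) hrq
    · exact h0
  have h2ne : (2 : ZMod r) ≠ 0 := by
    intro h2
    have h3 : ((2 : ℕ) : ZMod r) = 0 := by exact_mod_cast h2
    rw [ZMod.natCast_eq_zero_iff] at h3
    exact hr2 ((Nat.prime_dvd_prime_iff_eq hr Nat.prime_two).1 h3)
  have hcast : ∀ n : ℕ, (r : ℤ) ∣ (q : ℤ) ^ n - (-1) ^ n → (q : ZMod r) ^ n = (-1) ^ n := by
    intro n hn
    have h3 := (ZMod.intCast_zmod_eq_zero_iff_dvd _ r).2 hn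
    push_cast at h3
    exact sub_eq_zero.1 h3
  set x : ZMod r := (q : ZMod r) with hx
  set i := orderOf x with hi
  by_cases hev : Even i₀
  · rw [if_pos hev] at h
    have h4 : 1 ≤ q ^ (i₀ + 1) := Nat.one_le_pow _ _ hq1
    have h3 : x ^ (i₀ + 1) = 1 := by
      have := (ZMod.natCast_eq_zero_iff _ r).2 h
      rw [Nat.cast_sub h4] at this
      push_cast at this
      exact sub_eq_zero.1 this
    have hdvd : i ∣ i₀ + 1 := orderOf_dvd_of_pow_eq_one h3
    have hiodd : Odd i := by
      have : Odd (i₀ + 1) := hev.add_one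
      exact Odd.of_dvd_nat this hdvd
    have hbd : blockDim q r = 2 * i := by
      rw [blockDim, if_neg (Nat.not_even_iff_odd.2 hiodd)]
    refine ⟨?_, ?_⟩
    · rw [hbd]
      have := Nat.le_of_dvd (by omega) hdvd
      omega
    · intro n hn hdiv
      have hni : n = i := by omega
      subst hni
      have h5 := hcast _ hdiv
      rw [hiodd.neg_one_pow, pow_orderOf_eq_one] at h5
      apply h2ne
      linear_combination h5
  · rw [if_neg hev] at h
    have hodd0 : Odd i₀ := Nat.not_even_iff_odd.1 hev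
    have hjev : Even (i₀ + 1) := hodd0.add_one
    have h3 : x ^ (i₀ + 1) = -1 := by
      have := (ZMod.natCast_eq_zero_iff _ r).2 h
      push_cast at this
      exact eq_neg_of_add_eq_zero_left this
    have h3' : x ^ (2 * (i₀ + 1)) = 1 := by
      rw [mul_comm, pow_mul, h3]
      norm_num
    have hdvd : i ∣ 2 * (i₀ + 1) := orderOf_dvd_of_pow_eq_one h3'
    have hndvd : ¬ i ∣ i₀ + 1 := by
      intro hd
      have h5 : x ^ (i₀ + 1) = 1 := orderOf_dvd_iff_pow_eq_one.1 hd
      rw [h3] at h5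
      apply h2ne
      linear_combination -h5
    have hiev : Even i := by
      by_contra hne
      have hio : Odd i := Nat.not_even_iff_odd.1 hne
      exact hndvd ((Nat.Coprime.dvd_of_dvd_mul_left (Nat.coprime_two_right.2 hio)) hdvd)
    have hbd : blockDim q r = i := by
      rw [blockDim, if_pos hiev]
    have hipos : 0 < i := by
      rcases Nat.eq_zero_or_pos i with h0 | h0
      · rw [h0] at hdvd
        have := zero_dvd_iff.1 hdvd
        omega
      · exact h0
    refine ⟨?_, ?_⟩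
    · rw [hbd]
      exact Nat.le_of_dvd (by omega) hdvd
    · intro n hn hdiv
      rw [hbd] at hn
      have hnj : n ∣ i₀ + 1 := by
        rw [hn] at hdvd
        exact (Nat.mul_dvd_mul_iff_left (by norm_num)).1 hdvd
      obtain ⟨t, ht⟩ := hnj
      have htodd : Odd t := by
        by_contra hte
        rw [Nat.not_odd_iff_even] at hte
        obtain ⟨s, hs⟩ := hte
        apply hndvd
        rw [hn, ht, hs]
        exact ⟨s, by ring⟩
      have hnev : Even n := by
        rw [ht] at hjev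
        rcases Nat.even_mul.1 hjev with h | h
        · exact h
        · exact absurd htodd (Nat.not_odd_iff_even.2 h)
      have h5 := hcast _ hdiv
      rw [hnev.neg_one_pow] at h5
      have h6 : i ∣ n := orderOf_dvd_of_pow_eq_one h5
      have := Nat.le_of_dvd (by omega) h6
      omega

end arith

end Cfsg.Agent.Lib.Helper22.SpGU
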