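import Mathlib
import Cfsg.Agent.Lib.Helper22.SpGUG

/-! Helper22 library (S5976): elements of odd order normalizing `F[J]` commute with `J`; conjugates of `J`;
transvections do not commute with any skew generator. -/

set_option autoImplicit false

namespace Cfsg.Agent.Lib.Helper22.SpGU

open Matrix Module Cfsg.Agent.Lib.Helper5 Cfsg.Agent.Lib.Helper14 Cfsg.Agent.Lib.Helper15

section comm

variable {F : Type*} [Field F] {d : ℕ}

theorem indep_one_J (h10 : (1 : Matrix (Fin d ⊕ Fin d) (Fin d ⊕ Fin d) F) ≠ 0)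
    (J : Matrix (Fin d ⊕ Fin d) (Fin d ⊕ Fin d) F) (ε : F) (hsq : J * J = ε • 1) (hε : ¬ IsSquare ε)
    (a b : F) (h : a • (1 : Matrix (Fin d ⊕ Fin d) (Fin d ⊕ Fin d) F) + b • J = 0) : a = 0 ∧ b = 0 := by
  have hsm : ∀ c : F, c • (1 : Matrix (Fin d ⊕ Fin d) (Fin d ⊕ Fin d) F) = 0 → c = 0 := by
    intro c hc
    by_contra hc0
    apply h10
    have := congrArg (fun M => c⁻¹ • M) hc
    simpa [smul_smul, inv_mul_cancel₀ hc0] using this
  by_cases hb : b = 0
  · subst hb
    rw [zero_smul, add_zero] at h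
    exact ⟨hsm a h, rfl⟩
  · exfalso
    apply hε
    have h1 : J = (-(a / b)) • (1 : Matrix (Fin d ⊕ Fin d) (Fin d ⊕ Fin d) F) := by
      have h2 : b • J = -(a • (1 : Matrix (Fin d ⊕ Fin d) (Fin d ⊕ Fin d) F)) := by
        rw [eq_neg_iff_add_eq_zero, add_comm]
        exact h
      have h3 := congrArg (fun M => b⁻¹ • M) h2
      simp only [smul_smul, inv_mul_cancel₀ hb, one_smul, smul_neg] at h3
      rw [h3, neg_smul]
      congr 2
      field_simp
    have h4 : (ε - (-(a / b)) * (-(a / b))) • (1 : Matrix (Fin d ⊕ Fin d) (Fin d ⊕ Fin d) F) = 0 := by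
      rw [sub_smul, ← hsq, h1]
      simp only [Matrix.smul_mul, Matrix.mul_smul, Matrix.mul_one, smul_smul]
      rw [sub_self]
    refine ⟨-(a / b), ?_⟩
    exact sub_eq_zero.1 (hsm _ h4)

/-- an element of the normalizer of `F[J]` whose odd power is scalar commutes with `J` -/
theorem comm_of_mem_normalizer (h2 : (2 : F) ≠ 0)
    (h10 : (1 : Matrix (Fin d ⊕ Fin d) (Fin d ⊕ Fin d) F) ≠ 0)
    (K : Subalgebra F (Matrix (Fin d ⊕ Fin d) (Fin d ⊕ Fin d) F))
    (J : Matrix (Fin d ⊕ Fin d) (Fin d ⊕ Fin d) F) (hJK : J ∈ K) (ε : F) (hsq : J * J = ε • 1)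
    (hε : ¬ IsSquare ε) (hrepr : ∀ k ∈ K, ∃ a b : F, k = a • 1 + b • J)
    (y : GL (Fin d ⊕ Fin d) F) (hy : y ∈ Cfsg.Geo.subalgebraNormalizer K) (r : ℕ) (hr : Odd r) (z : F)
    (hyr : ((y ^ r : GL (Fin d ⊕ Fin d) F) : Matrix (Fin d ⊕ Fin d) (Fin d ⊕ Fin d) F) = z • 1) :
    (y : Matrix (Fin d ⊕ Fin d) (Fin d ⊕ Fin d) F) * J = J * (y : Matrix (Fin d ⊕ Fin d) (Fin d ⊕ Fin d) F) := by
  obtain ⟨Y, hY⟩ : ∃ Y : Matrix (Fin d ⊕ Fin d) (Fin d ⊕ Fin d) F, Y = (y : Matrix _ _ F) := ⟨_, rfl⟩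
  obtain ⟨Yi, hYi⟩ : ∃ Yi : Matrix (Fin d ⊕ Fin d) (Fin d ⊕ Fin d) F,
    Yi = ((y⁻¹ : GL (Fin d ⊕ Fin d) F) : Matrix _ _ F) := ⟨_, rfl⟩
  have hYYi : Y * Yi = 1 := by rw [hY, hYi, ← Units.val_mul, mul_inv_cancel, Units.val_one]
  have hYiY : Yi * Y = 1 := by rw [hY, hYi, ← Units.val_mul, inv_mul_cancel, Units.val_one]
  have hε0 : ε ≠ 0 := by
    rintro rfl
    exact hε ⟨0, by ring⟩
  have hmem : Y * J * Yi ∈ K := by
    have := (hy J).1 hJK
    rw [← hY, ← hYi] at this
    exact this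
  obtain ⟨a, b, hab⟩ := hrepr _ hmem
  have hsq' : (Y * J * Yi) * (Y * J * Yi) = ε • 1 := by
    calc (Y * J * Yi) * (Y * J * Yi) = Y * J * (Yi * Y) * J * Yi := by
          simp only [Matrix.mul_assoc]
      _ = Y * (J * J) * Yi := by rw [hYiY, Matrix.mul_one, Matrix.mul_assoc Y J J]
      _ = ε • 1 := by
          rw [hsq, Matrix.mul_smul, Matrix.smul_mul, Matrix.mul_one, hYYi]
  rw [hab] at hsq'
  have h3 : (a * a + b * b * ε - ε) • (1 : Matrix (Fin d ⊕ Fin d) (Fin d ⊕ Fin d) F) + (2 * a * b) • J = 0 := by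
    have h4 : (a • (1 : Matrix (Fin d ⊕ Fin d) (Fin d ⊕ Fin d) F) + b • J) * (a • 1 + b • J) =
        (a * a + b * b * ε) • 1 + (2 * a * b) • J := by
      simp only [Matrix.add_mul, Matrix.mul_add, Matrix.smul_mul, Matrix.mul_smul, Matrix.one_mul,
        Matrix.mul_one, hsq]
      module
    rw [h4] at hsq'
    have h5 : (a * a + b * b * ε) • (1 : Matrix (Fin d ⊕ Fin d) (Fin d ⊕ Fin d) F) =
        ε • 1 - (2 * a * b) • J := by
      rw [← hsq']
      abel
    rw [sub_smul, h5]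
    abel
  obtain ⟨h5, h6⟩ := indep_one_J h10 J ε hsq hε _ _ h3
  have ha : a = 0 := by
    rcases mul_eq_zero.1 h6 with h | h
    · rcases mul_eq_zero.1 h with h | h
      · exact absurd h h2
      · exact h
    · exfalso
      apply hε
      refine ⟨a, ?_⟩
      rw [h, mul_zero, zero_mul, add_zero] at h5
      exact (sub_eq_zero.1 h5).symm
  have hbb : b * b = 1 := by
    rw [ha, mul_zero, zero_add] at h5
    have : (b * b - 1) * ε = 0 := by linear_combination h5
    rcases mul_eq_zero.1 this with h | h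
    · exact sub_eq_zero.1 h
    · exact absurd h hε0
  rw [ha, zero_smul, zero_add] at hab
  have hYJ : Y * J = b • (J * Y) := by
    have := congrArg (fun M => M * Y) hab
    simp only [Matrix.mul_assoc, hYiY, Matrix.mul_one, Matrix.smul_mul] at this
    exact this
  have hb : b = 1 ∨ b = -1 := by
    have : (b - 1) * (b + 1) = 0 := by linear_combination hbb
    rcases mul_eq_zero.1 this with h | h
    · exact Or.inl (sub_eq_zero.1 h)
    · exact Or.inr (eq_neg_of_add_eq_zero_left h)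
  rw [← hY]
  rcases hb with hb | hb
  · rw [hYJ, hb, one_smul]
  · exfalso
    rw [hb] at hYJ
    have hpow : ∀ n : ℕ, Y ^ n * J = ((-1 : F) ^ n) • (J * Y ^ n) := by
      intro n
      induction n with
      | zero => simp
      | succ n ih =>
        rw [pow_succ, Matrix.mul_assoc, hYJ, Matrix.mul_smul, ← Matrix.mul_assoc, ih, Matrix.smul_mul,
          smul_smul, Matrix.mul_assoc, pow_succ]
        congr 1
        ring
    have h7 := hpow r
    rw [hr.neg_one_pow] at h7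
    have h8 : Y ^ r = z • 1 := by
      rw [hY, ← Units.val_pow_eq_pow_val]
      exact hyr
    rw [h8, Matrix.smul_mul, Matrix.one_mul, Matrix.mul_smul, Matrix.mul_one, smul_smul] at h7
    have h9 : (0 : F) • (1 : Matrix (Fin d ⊕ Fin d) (Fin d ⊕ Fin d) F) + (2 * z) • J = 0 := by
      rw [zero_smul, zero_add]
      have : (2 * z) • J = z • J - (-1 * z) • J := by
        rw [← sub_smul]
        congr 1
        ring
      rw [this, ← h7, sub_self]
    obtain ⟨-, h10'⟩ := indep_one_J h10 J ε hsq hε _ _ h9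
    rcases mul_eq_zero.1 h10' with h | h
    · exact h2 h
    · rw [h, zero_smul] at h8
      have h11 : (1 : Matrix (Fin d ⊕ Fin d) (Fin d ⊕ Fin d) F) = Yi ^ r * Y ^ r := by
        have hc : Commute Yi Y := by
          show Yi * Y = Y * Yi
          rw [hYiY, hYYi]
        rw [← hc.mul_pow, hYiY, one_pow]
      rw [h8, Matrix.mul_zero] at h11
      exact h10 h11

end comm

end Cfsg.Agent.Lib.Helper22.SpGU
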