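import Mathlib
import Cfsg.Agent.Lib.Helper22.SpGUH

/-! Helper22 library (S5976): conjugates of the skew generator; transvections do not commute with any skew
generator with nonsquare square. -/

set_option autoImplicit false

namespace Cfsg.Agent.Lib.Helper22.SpGU

open Matrix Module Cfsg.Agent.Lib.Helper5 Cfsg.Agent.Lib.Helper14 Cfsg.Agent.Lib.Helper15

section conj

variable {F : Type*} [Field F] {d : ℕ}

theorem gl_mul_inv (g : GL (Fin d ⊕ Fin d) F) :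
    (g : Matrix (Fin d ⊕ Fin d) (Fin d ⊕ Fin d) F) * ((g⁻¹ : GL (Fin d ⊕ Fin d) F) : Matrix _ _ F) = 1 := by
  rw [← Units.val_mul, mul_inv_cancel, Units.val_one]

theorem gl_inv_mul (g : GL (Fin d ⊕ Fin d) F) :
    ((g⁻¹ : GL (Fin d ⊕ Fin d) F) : Matrix _ _ F) * (g : Matrix (Fin d ⊕ Fin d) (Fin d ⊕ Fin d) F) = 1 := by
  rw [← Units.val_mul, inv_mul_cancel, Units.val_one]

/-- conjugating a skew generator by a symplectic transformation -/
theorem isJ_conj {J : Matrix (Fin d ⊕ Fin d) (Fin d ⊕ Fin d) F} {ε : F} (hJ : IsJ J ε)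
    (g : GL (Fin d ⊕ Fin d) F) (hg : g ∈ Cfsg.spGL d F) :
    IsJ ((g : Matrix (Fin d ⊕ Fin d) (Fin d ⊕ Fin d) F) * J *
      ((g⁻¹ : GL (Fin d ⊕ Fin d) F) : Matrix _ _ F)) ε := by
  obtain ⟨G, hG⟩ : ∃ G : Matrix (Fin d ⊕ Fin d) (Fin d ⊕ Fin d) F, G = (g : Matrix _ _ F) := ⟨_, rfl⟩
  obtain ⟨Gi, hGi⟩ : ∃ Gi : Matrix (Fin d ⊕ Fin d) (Fin d ⊕ Fin d) F,
    Gi = ((g⁻¹ : GL (Fin d ⊕ Fin d) F) : Matrix _ _ F) := ⟨_, rfl⟩
  have hGGi : G * Gi = 1 := by rw [hG, hGi]; exact gl_mul_inv g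
  have hGiG : Gi * G = 1 := by rw [hG, hGi]; exact gl_inv_mul g
  have hpres : ∀ u v, Cfsg.sympForm d F (G *ᵥ u) (G *ᵥ v) = Cfsg.sympForm d F u v := by
    intro u v
    rw [hG]
    exact SpMax.mem_spGL.1 hg u v
  rw [← hG, ← hGi]
  constructor
  · calc (G * J * Gi) * (G * J * Gi) = G * J * (Gi * G) * J * Gi := by
          simp only [Matrix.mul_assoc]
      _ = G * (J * J) * Gi := by rw [hGiG, Matrix.mul_one, Matrix.mul_assoc G J J]
      _ = ε • 1 := by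
          rw [hJ.sq, Matrix.mul_smul, Matrix.smul_mul, Matrix.mul_one, hGGi]
  · intro u v
    have hu : u = G *ᵥ (Gi *ᵥ u) := by rw [Matrix.mulVec_mulVec, hGGi, Matrix.one_mulVec]
    have hv : v = G *ᵥ (Gi *ᵥ v) := by rw [Matrix.mulVec_mulVec, hGGi, Matrix.one_mulVec]
    have h1 : (G * J * Gi) *ᵥ u = G *ᵥ (J *ᵥ (Gi *ᵥ u)) := by
      rw [Matrix.mulVec_mulVec, Matrix.mulVec_mulVec, Matrix.mul_assoc]
    have h2 : (G * J * Gi) *ᵥ v = G *ᵥ (J *ᵥ (Gi *ᵥ v)) := by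
      rw [Matrix.mulVec_mulVec, Matrix.mulVec_mulVec, Matrix.mul_assoc]
    rw [h1, h2]
    conv_lhs => rw [hv]
    conv_rhs => rw [hu]
    rw [hpres, hpres, hJ.skew]

/-- commuting with `J` after conjugation is commuting with the conjugate of `J` -/
theorem comm_conj (x g : GL (Fin d ⊕ Fin d) F) (J : Matrix (Fin d ⊕ Fin d) (Fin d ⊕ Fin d) F)
    (h : ((g⁻¹ * x * g : GL (Fin d ⊕ Fin d) F) : Matrix _ _ F) * J =
      J * ((g⁻¹ * x * g : GL (Fin d ⊕ Fin d) F) : Matrix _ _ F)) :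
    (x : Matrix (Fin d ⊕ Fin d) (Fin d ⊕ Fin d) F) *
      ((g : Matrix (Fin d ⊕ Fin d) (Fin d ⊕ Fin d) F) * J * ((g⁻¹ : GL (Fin d ⊕ Fin d) F) : Matrix _ _ F)) =
      ((g : Matrix (Fin d ⊕ Fin d) (Fin d ⊕ Fin d) F) * J * ((g⁻¹ : GL (Fin d ⊕ Fin d) F) : Matrix _ _ F)) *
        (x : Matrix (Fin d ⊕ Fin d) (Fin d ⊕ Fin d) F) := by
  obtain ⟨G, hG⟩ : ∃ G : Matrix (Fin d ⊕ Fin d) (Fin d ⊕ Fin d) F, G = (g : Matrix _ _ F) := ⟨_, rfl⟩
  obtain ⟨Gi, hGi⟩ : ∃ Gi : Matrix (Fin d ⊕ Fin d) (Fin d ⊕ Fin d) F,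
    Gi = ((g⁻¹ : GL (Fin d ⊕ Fin d) F) : Matrix _ _ F) := ⟨_, rfl⟩
  obtain ⟨X, hX⟩ : ∃ X : Matrix (Fin d ⊕ Fin d) (Fin d ⊕ Fin d) F, X = (x : Matrix _ _ F) := ⟨_, rfl⟩
  have hGGi : G * Gi = 1 := by rw [hG, hGi]; exact gl_mul_inv g
  have hGiG : Gi * G = 1 := by rw [hG, hGi]; exact gl_inv_mul g
  rw [Units.val_mul, Units.val_mul, ← hG, ← hGi, ← hX] at h
  rw [← hG, ← hGi, ← hX]
  have h1 : G * (Gi * X * G * J) * Gi = G * (J * (Gi * X * G)) * Gi := by rw [h]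
  calc X * (G * J * Gi) = (G * Gi) * X * (G * J * Gi) := by rw [hGGi, Matrix.one_mul]
    _ = G * (Gi * X * G * J) * Gi := by simp only [Matrix.mul_assoc]
    _ = G * (J * (Gi * X * G)) * Gi := h1
    _ = (G * J * Gi) * X * (G * Gi) := by simp only [Matrix.mul_assoc]
    _ = (G * J * Gi) * X := by rw [hGGi, Matrix.mul_one]

end conj

section tvc

variable {F : Type*} [Field F] {d : ℕ}

theorem tvc_mul (a : Fin d ⊕ Fin d → F) (c c' : F) :
    SpMax.tvc a c * SpMax.tvc a c' = SpMax.tvc a (c + c') := by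
  apply Units.ext
  show Cfsg.sympTransvection d a c * Cfsg.sympTransvection d a c' = Cfsg.sympTransvection d a (c + c')
  exact sympTransvection_mul d a c c'

theorem tvc_zero (a : Fin d ⊕ Fin d → F) : SpMax.tvc a 0 = 1 := by
  apply Units.ext
  show Cfsg.sympTransvection d a 0 = 1
  unfold Cfsg.sympTransvection
  rw [zero_smul, add_zero]

theorem tvc_pow (a : Fin d ⊕ Fin d → F) (c : F) (n : ℕ) :
    (SpMax.tvc a c) ^ n = SpMax.tvc a (n * c) := by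
  induction n with
  | zero => rw [pow_zero, Nat.cast_zero, zero_mul, tvc_zero]
  | succ n ih =>
    rw [pow_succ, ih, tvc_mul]
    congr 1
    push_cast
    ring

theorem tvc_pow_char {p : ℕ} [CharP F p] (a : Fin d ⊕ Fin d → F) (c : F) :
    (SpMax.tvc a c) ^ p = 1 := by
  rw [tvc_pow, CharP.cast_eq_zero, zero_mul, tvc_zero]

theorem exists_form_ne_zero (a : Fin d ⊕ Fin d → F) (ha : a ≠ 0) :
    ∃ u, Cfsg.sympForm d F u a ≠ 0 := by
  by_contra hcon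
  push Not at hcon
  exact ha (eq_zero_of_forall_right a hcon)

theorem tvc_nonscalar (a : Fin d ⊕ Fin d → F) (ha : a ≠ 0) (z : F) :
    ((SpMax.tvc a 1 : GL (Fin d ⊕ Fin d) F) : Matrix (Fin d ⊕ Fin d) (Fin d ⊕ Fin d) F) ≠ z • 1 := by
  intro h
  have h1 : ∀ u, u + (1 * Cfsg.sympForm d F u a) • a = z • u := by
    intro u
    rw [← SpMax.tvc_mulVec, h, Matrix.smul_mulVec, Matrix.one_mulVec]
  have hz : z = 1 := by
    have h2 := h1 a
    rw [sympForm_self, mul_zero, zero_smul, add_zero] at h2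
    by_contra hz
    apply ha
    have h3 : (1 - z) • a = 0 := by
      rw [sub_smul, one_smul, ← h2, sub_self]
    rcases smul_eq_zero.1 h3 with h4 | h4
    · exact absurd (sub_eq_zero.1 h4).symm hz
    · exact h4
  obtain ⟨u, hu⟩ := exists_form_ne_zero a ha
  have h2 := h1 u
  rw [hz, one_smul, one_mul] at h2
  have h3 : Cfsg.sympForm d F u a • a = 0 := by
    have := congrArg (fun w => w - u) h2
    simpa using this
  rcases smul_eq_zero.1 h3 with h4 | h4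
  · exact hu h4
  · exact ha h4

/-- a transvection commutes with no skew generator with nonsquare square -/
theorem tvc_not_comm (a : Fin d ⊕ Fin d → F) (ha : a ≠ 0)
    (J : Matrix (Fin d ⊕ Fin d) (Fin d ⊕ Fin d) F) (ε : F) (hsq : J * J = ε • 1) (hε : ¬ IsSquare ε) :
    ((SpMax.tvc a 1 : GL (Fin d ⊕ Fin d) F) : Matrix (Fin d ⊕ Fin d) (Fin d ⊕ Fin d) F) * J ≠
      J * ((SpMax.tvc a 1 : GL (Fin d ⊕ Fin d) F) : Matrix (Fin d ⊕ Fin d) (Fin d ⊕ Fin d) F) := by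
  intro h
  obtain ⟨u, hu⟩ := exists_form_ne_zero a ha
  have h1 := congrArg (fun M => M *ᵥ u) h
  simp only [← Matrix.mulVec_mulVec] at h1
  rw [SpMax.tvc_mulVec, SpMax.tvc_mulVec, Matrix.mulVec_add, Matrix.mulVec_smul, one_mul, one_mul] at h1
  have h2 : Cfsg.sympForm d F (J *ᵥ u) a • a = Cfsg.sympForm d F u a • (J *ᵥ a) := add_left_cancel h1
  set c := Cfsg.sympForm d F (J *ᵥ u) a / Cfsg.sympForm d F u a with hc
  have h3 : J *ᵥ a = c • a := by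
    have := congrArg (fun w => (Cfsg.sympForm d F u a)⁻¹ • w) h2
    simp only [smul_smul, inv_mul_cancel₀ hu, one_smul] at this
    rw [← this, hc, div_eq_inv_mul]
  have h4 : J *ᵥ (J *ᵥ a) = ε • a := by
    rw [Matrix.mulVec_mulVec, hsq, Matrix.smul_mulVec, Matrix.one_mulVec]
  rw [h3, Matrix.mulVec_smul, h3, smul_smul] at h4
  have h5 : (c * c - ε) • a = 0 := by
    rw [sub_smul, h4, sub_self]
  rcases smul_eq_zero.1 h5 with h6 | h6
  · exact hε ⟨c, (sub_eq_zero.1 h6).symm⟩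
  · exact ha h6

end tvc

end Cfsg.Agent.Lib.Helper22.SpGU
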