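import Mathlib
import Cfsg.Agent.Lib.Helper22.SpGUI

/-! Helper22 library (S5976): the forward direction — for an odd prime dividing the index there is an element of
that order with no conjugate in the normalizer of `K`. -/

set_option autoImplicit false

namespace Cfsg.Agent.Lib.Helper22.SpGU

open Matrix Module Cfsg.Agent.Lib.Helper5 Cfsg.Agent.Lib.Helper14 Cfsg.Agent.Lib.Helper15
  Cfsg.Agent.Lib.Helper12.Sp Cfsg.Agent.Lib.Helper12.Elus

section forward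

variable {F : Type*} [Field F] [Fintype F] {d : ℕ}

theorem two_ne_zero_of_odd {q : ℕ} (hq : Fintype.card F = q) (hodd : Odd q) : (2 : F) ≠ 0 := by
  intro h2
  obtain ⟨p, hp⟩ := CharP.exists F
  obtain ⟨n, hprime, hcard⟩ := FiniteField.card F p
  have h1 : ((2 : ℕ) : F) = 0 := by exact_mod_cast h2
  have hp2 : p ∣ 2 := (CharP.cast_eq_zero_iff F p 2).1 h1
  have hp2' : p = 2 := (Nat.prime_dvd_prime_iff_eq hprime Nat.prime_two).1 hp2
  rw [← hq, hcard, hp2'] at hodd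
  have : Even (2 ^ (n : ℕ)) := (Nat.even_pow.2 ⟨even_two, n.pos.ne'⟩)
  exact (Nat.not_even_iff_odd.2 hodd) this

theorem forward {p : ℕ} [Fact p.Prime] [CharP F p] {q : ℕ} (hq : Fintype.card F = q) (hodd : Odd q)
    (hd : 1 ≤ d)
    (K : Subalgebra F (Matrix (Fin d ⊕ Fin d) (Fin d ⊕ Fin d) F)) (hK : Cfsg.Geo.IsFieldSubalgebra 2 K)
    (hKf : Cfsg.Geo.IsAdjointClosedFor (Cfsg.sympForm d F) K)
    (hKns : ¬ Cfsg.Geo.IsSelfAdjointFor (Cfsg.sympForm d F) K)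
    (r : ℕ) [Fact r.Prime]
    (hΩ : r ∣ (Cfsg.Geo.subalgebraNormalizer K).relIndex (Cfsg.spGL d F))
    (H : ∀ x ∈ Cfsg.spGL d F, (∃ z : F, ((x ^ r : GL (Fin d ⊕ Fin d) F) :
        Matrix (Fin d ⊕ Fin d) (Fin d ⊕ Fin d) F) = z • (1 : Matrix (Fin d ⊕ Fin d) (Fin d ⊕ Fin d) F)) →
      (∀ z : F, (x : Matrix (Fin d ⊕ Fin d) (Fin d ⊕ Fin d) F) ≠
        z • (1 : Matrix (Fin d ⊕ Fin d) (Fin d ⊕ Fin d) F)) →
      ∃ g ∈ Cfsg.spGL d F, g⁻¹ * x * g ∈ Cfsg.Geo.subalgebraNormalizer K) : r = 2 := by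
  subst hq
  by_contra hr2
  have hr : r.Prime := Fact.out
  have hrodd : Odd r := hr.odd_of_ne_two hr2
  have h2 := two_ne_zero_of_odd (F := F) rfl hodd
  have h10 := matrix_one_ne_zero (F := F) hd
  obtain ⟨J, hJK, ε, hJ, hε, hrepr⟩ := exists_J h2 K hK hKf hKns
  have key : ∀ x ∈ Cfsg.spGL d F, x ^ r = 1 →
      (∀ z : F, (x : Matrix (Fin d ⊕ Fin d) (Fin d ⊕ Fin d) F) ≠ z • 1) →
      ∃ J' : Matrix (Fin d ⊕ Fin d) (Fin d ⊕ Fin d) F, IsJ J' ε ∧
        (x : Matrix (Fin d ⊕ Fin d) (Fin d ⊕ Fin d) F) * J' = J' * (x : Matrix _ _ F) := by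
    intro x hx hxr hxns
    obtain ⟨g, hg, hgN⟩ := H x hx ⟨1, by rw [hxr, one_smul]; rfl⟩ hxns
    have hyr : (((g⁻¹ * x * g) ^ r : GL (Fin d ⊕ Fin d) F) :
        Matrix (Fin d ⊕ Fin d) (Fin d ⊕ Fin d) F) = (1 : F) • 1 := by
      have h3 : (g⁻¹ * x * g) ^ r = 1 := by
        have : g⁻¹ * x * g = g⁻¹ * x * g⁻¹⁻¹ := by rw [inv_inv]
        rw [this, conj_pow, hxr, mul_one, mul_inv_cancel]
      rw [h3, one_smul]
      rfl
    have hc := comm_of_mem_normalizer h2 h10 K J hJK ε hJ.sq hε hrepr _ hgN r hrodd 1 hyr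
    exact ⟨_, isJ_conj hJ g hg, comm_conj x g J hc⟩
  by_cases hrp : r = p
  · subst hrp
    let a : Fin d ⊕ Fin d → F := Pi.single (Sum.inl ⟨0, hd⟩) 1
    have ha : a ≠ 0 := by
      intro h
      have := congrFun h (Sum.inl ⟨0, hd⟩)
      simp [a] at this
    obtain ⟨J', hJ', hc⟩ := key (SpMax.tvc a 1) (SpMax.tvc_mem a 1) (tvc_pow_char (p := r) a 1)
      (tvc_nonscalar a ha)
    exact tvc_not_comm a ha J' ε hJ'.sq hε hc
  · have hrq : ¬ r ∣ Fintype.card F := card_not_dvd r hr hrp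
    obtain ⟨i₀, hi₀, hdiv⟩ := exists_factor_of_dvd_relIndex (F := F) rfl hodd hd J ε hJ hε
      (Cfsg.Geo.subalgebraNormalizer K)
      (fun g _ hgJ => mem_normalizer_of_comm K J hJK hrepr g 1 (one_mul 1)
        (by rw [one_smul]; exact hgJ)) r hr hrq hΩ
    obtain ⟨hle, hno⟩ := blockDim_arith (Fintype.card F) r hr2 hrq i₀ hdiv
    obtain ⟨n, hn⟩ := even_blockDim r (Fintype.card F)
    have hcpos := blockDim_pos (F := F) r hrp
    obtain ⟨A, hA, hAr, hfix, -⟩ := exists_sp_model (F := F) r hr2 hrp d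
      (2 * d - blockDim (Fintype.card F) r) 1 (by omega)
    have hns := nonscalar_of_fix d hd r hr2 A hA hAr (by rw [hfix]; omega)
    obtain ⟨J', hJ', hc⟩ := key (glOfSp ⟨A, hA⟩) (glOfSp_mem _)
      (by
        apply Units.ext
        rw [Units.val_pow_eq_pow_val, glOfSp_val]
        exact hAr) hns
    have hmov : finrank F (movR (Matrix.toLin' A)) = 2 * n := by
      have := finrank_fix_add_mov (Matrix.toLin' A)
      rw [hfix, std_finrank] at this
      omega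
    have hdvd := isJ_dvd_of_comm (F := F) rfl hodd hd J' ε hJ' hε A hA hc r hrp hAr n hmov
    exact hno n (by omega) hdvd

end forward

end Cfsg.Agent.Lib.Helper22.SpGU
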