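import Mathlib
import Cfsg.Agent.Lib.Helper22.SpGUI

/-! Helper22 library (S5976): the model lemma (an isometry acting by scalars on the members of a full hyperbolic
system is conjugate into the centralizer or anticentralizer of `J`), joins of hyperbolic systems, eigenspaces. -/

set_option autoImplicit false

namespace Cfsg.Agent.Lib.Helper22.SpGU

open Matrix Module Cfsg.Agent.Lib.Helper5 Cfsg.Agent.Lib.Helper14 Cfsg.Agent.Lib.Helper15
  Cfsg.Agent.Lib.Helper22.NdCount

section model

variable {F : Type*} [Field F] {d : ℕ}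

theorem sp_inv_mul (A : Matrix.symplecticGroup (Fin d) F) :
    (A⁻¹ : Matrix.symplecticGroup (Fin d) F).1 * A.1 = 1 :=
  congrArg Subtype.val (inv_mul_cancel A)

theorem sp_mul_inv (A : Matrix.symplecticGroup (Fin d) F) :
    A.1 * (A⁻¹ : Matrix.symplecticGroup (Fin d) F).1 = 1 :=
  congrArg Subtype.val (mul_inv_cancel A)

/-- the model lemma -/
theorem exists_conj_of_planes (J : Matrix (Fin d ⊕ Fin d) (Fin d ⊕ Fin d) F) (ε : F)
    (hsq : J * J = ε • 1) {e : Fin d → (Fin d ⊕ Fin d → F)}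
    (h : HypSys F d d e (fun i => J *ᵥ e i))
    (X : Matrix (Fin d ⊕ Fin d) (Fin d ⊕ Fin d) F) {e' f' : Fin d → (Fin d ⊕ Fin d → F)}
    (h' : HypSys F d d e' f') (a : Fin d → F) (σ : F) (hσ : σ * σ = 1)
    (he : ∀ i, X *ᵥ e' i = a i • e' i) (hf : ∀ i, X *ᵥ f' i = (σ * a i) • f' i) :
    ∃ A : Matrix.symplecticGroup (Fin d) F,
      ((A⁻¹ : Matrix.symplecticGroup (Fin d) F).1 * X * A.1) * J =
        σ • (J * ((A⁻¹ : Matrix.symplecticGroup (Fin d) F).1 * X * A.1)) := by
  obtain ⟨A, hAe, hAf⟩ := exists_sp_of_hypSys h h'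
  refine ⟨A, ?_⟩
  obtain ⟨Ai, hAi⟩ : ∃ Ai : Matrix (Fin d ⊕ Fin d) (Fin d ⊕ Fin d) F,
    Ai = (A⁻¹ : Matrix.symplecticGroup (Fin d) F).1 := ⟨_, rfl⟩
  have hAiA : Ai * A.1 = 1 := by rw [hAi]; exact sp_inv_mul A
  rw [← hAi]
  have hie : ∀ i, Ai *ᵥ e' i = e i := by
    intro i
    rw [← hAe i, Matrix.mulVec_mulVec, hAiA, Matrix.one_mulVec]
  have hif : ∀ i, Ai *ᵥ f' i = J *ᵥ e i := by
    intro i
    rw [← hAf i, Matrix.mulVec_mulVec, hAiA, Matrix.one_mulVec]
  have hJJ : ∀ v, J *ᵥ (J *ᵥ v) = ε • v := by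
    intro v
    rw [Matrix.mulVec_mulVec, hsq, Matrix.smul_mulVec, Matrix.one_mulVec]
  have hL : ∀ v, ((Ai * X * A.1) * J) *ᵥ v = Ai *ᵥ (X *ᵥ (A.1 *ᵥ (J *ᵥ v))) := by
    intro v
    simp only [Matrix.mulVec_mulVec, Matrix.mul_assoc]
  have hR : ∀ v, (σ • (J * (Ai * X * A.1))) *ᵥ v = σ • (J *ᵥ (Ai *ᵥ (X *ᵥ (A.1 *ᵥ v)))) := by
    intro v
    rw [Matrix.smul_mulVec]
    simp only [Matrix.mulVec_mulVec, Matrix.mul_assoc]
  apply matrix_eq_of_hypSys h
  · intro i
    rw [hL, hR, hAf i, hf i, Matrix.mulVec_smul, hif i, hAe i, he i, Matrix.mulVec_smul, hie i,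
      Matrix.mulVec_smul, smul_smul]
  · intro i
    show _ *ᵥ (J *ᵥ e i) = _ *ᵥ (J *ᵥ e i)
    rw [hL, hR, hJJ, Matrix.mulVec_smul, hAe i, Matrix.mulVec_smul, he i, Matrix.mulVec_smul,
      Matrix.mulVec_smul, hie i, hAf i, hf i, Matrix.mulVec_smul, hif i, Matrix.mulVec_smul, hJJ,
      smul_smul, smul_smul, smul_smul]
    congr 1
    linear_combination (-(a i) * ε) * hσ

end model

section append

variable {F : Type*} [Field F] {d : ℕ}

/-- the join of two mutually orthogonal hyperbolic systems -/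
theorem hypSys_append {a b : ℕ} {e₁ f₁ : Fin a → (Fin d ⊕ Fin d → F)}
    {e₂ f₂ : Fin b → (Fin d ⊕ Fin d → F)} (h₁ : HypSys F d a e₁ f₁) (h₂ : HypSys F d b e₂ f₂)
    (U₁ U₂ : Submodule F (Fin d ⊕ Fin d → F))
    (hU : ∀ u ∈ U₁, ∀ v ∈ U₂, Cfsg.sympForm d F u v = 0)
    (he₁ : ∀ i, e₁ i ∈ U₁) (hf₁ : ∀ i, f₁ i ∈ U₁) (he₂ : ∀ i, e₂ i ∈ U₂) (hf₂ : ∀ i, f₂ i ∈ U₂) :
    HypSys F d (a + b) (Fin.append e₁ e₂) (Fin.append f₁ f₂) := by
  have hU' : ∀ u ∈ U₂, ∀ v ∈ U₁, Cfsg.sympForm d F u v = 0 := by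
    intro u hu v hv
    rw [sympForm_swap, hU v hv u hu, neg_zero]
  have hne : ∀ (i : Fin a) (j : Fin b), Fin.castAdd b i ≠ Fin.natAdd a j := by
    intro i j hij
    have := congrArg Fin.val hij
    simp only [Fin.val_castAdd, Fin.val_natAdd] at this
    omega
  constructor
  · intro i j
    induction i using Fin.addCases with
    | left i =>
      induction j using Fin.addCases with
      | left j => rw [Fin.append_left, Fin.append_left]; exact h₁.ee i j
      | right j => rw [Fin.append_left, Fin.append_right]; exact hU _ (he₁ i) _ (he₂ j)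
    | right i =>
      induction j using Fin.addCases with
      | left j => rw [Fin.append_right, Fin.append_left]; exact hU' _ (he₂ i) _ (he₁ j)
      | right j => rw [Fin.append_right, Fin.append_right]; exact h₂.ee i j
  · intro i j
    induction i using Fin.addCases with
    | left i =>
      induction j using Fin.addCases with
      | left j => rw [Fin.append_left, Fin.append_left]; exact h₁.ff i j
      | right j => rw [Fin.append_left, Fin.append_right]; exact hU _ (hf₁ i) _ (hf₂ j)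
    | right i =>
      induction j using Fin.addCases with
      | left j => rw [Fin.append_right, Fin.append_left]; exact hU' _ (hf₂ i) _ (hf₁ j)
      | right j => rw [Fin.append_right, Fin.append_right]; exact h₂.ff i j
  · intro i j
    induction i using Fin.addCases with
    | left i =>
      induction j using Fin.addCases with
      | left j =>
        rw [Fin.append_left, Fin.append_left, h₁.fe i j]
        simp only [Fin.castAdd_inj]
      | right j =>
        rw [Fin.append_left, Fin.append_right, if_neg (hne i j)]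
        exact hU _ (hf₁ i) _ (he₂ j)
    | right i =>
      induction j using Fin.addCases with
      | left j =>
        rw [Fin.append_right, Fin.append_left, if_neg (Ne.symm (hne j i))]
        exact hU' _ (hf₂ i) _ (he₁ j)
      | right j =>
        rw [Fin.append_right, Fin.append_right, h₂.fe i j]
        simp only [Fin.natAdd_inj]

end append

end Cfsg.Agent.Lib.Helper22.SpGU
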