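import Mathlib
import Cfsg.Agent.Lib.Helper22.SpGUK

/-! Helper22 library (S5976): eigenspaces of an isometry with scalar square and adapted full hyperbolic systems. -/

set_option autoImplicit false

namespace Cfsg.Agent.Lib.Helper22.SpGU

open Matrix Module Cfsg.Agent.Lib.Helper5 Cfsg.Agent.Lib.Helper14 Cfsg.Agent.Lib.Helper15
  Cfsg.Agent.Lib.Helper22.NdCount Cfsg.Agent.Lib.Helper12.Sp

section eig

variable {F : Type*} [Field F] {d : ℕ}

/-- the eigenspace -/
def eigS (X : Matrix (Fin d ⊕ Fin d) (Fin d ⊕ Fin d) F) (c : F) : Submodule F (Fin d ⊕ Fin d → F) where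
  carrier := {v | X *ᵥ v = c • v}
  add_mem' := by
    intro u v hu hv
    simp only [Set.mem_ofPred_eq] at *
    rw [Matrix.mulVec_add, hu, hv, smul_add]
  zero_mem' := by
    simp only [Set.mem_ofPred_eq]
    rw [Matrix.mulVec_zero, smul_zero]
  smul_mem' := by
    intro t v hv
    simp only [Set.mem_ofPred_eq] at *
    rw [Matrix.mulVec_smul, hv, smul_comm]

theorem mem_eigS (X : Matrix (Fin d ⊕ Fin d) (Fin d ⊕ Fin d) F) (c : F) (v : Fin d ⊕ Fin d → F) :
    v ∈ eigS X c ↔ X *ᵥ v = c • v := Iff.rfl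

theorem eigS_isCompl (h2 : (2 : F) ≠ 0) (X : Matrix (Fin d ⊕ Fin d) (Fin d ⊕ Fin d) F) (c : F)
    (hc : c ≠ 0) (hX : X * X = (c * c) • 1) : IsCompl (eigS X c) (eigS X (-c)) := by
  have hXX : ∀ v, X *ᵥ (X *ᵥ v) = (c * c) • v := by
    intro v
    rw [Matrix.mulVec_mulVec, hX, Matrix.smul_mulVec, Matrix.one_mulVec]
  constructor
  · rw [Submodule.disjoint_def]
    intro v hv hv'
    rw [mem_eigS] at hv hv'
    have h1 : (2 * c) • v = 0 := by
      have : (2 * c) • v = c • v - (-c) • v := by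
        rw [← sub_smul]
        congr 1
        ring
      rw [this, ← hv, ← hv', sub_self]
    rcases smul_eq_zero.1 h1 with h | h
    · rcases mul_eq_zero.1 h with h | h
      · exact absurd h h2
      · exact absurd h hc
    · exact h
  · rw [codisjoint_iff, eq_top_iff]
    intro v _
    have h2c : 2 * c ≠ 0 := mul_ne_zero h2 hc
    have hv : v = (2 * c)⁻¹ • (c • v + X *ᵥ v) + (2 * c)⁻¹ • (c • v - X *ᵥ v) := by
      rw [← smul_add, add_add_sub_cancel, ← add_smul, smul_smul]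
      have : (2 * c)⁻¹ * (c + c) = 1 := by
        field_simp
        ring
      rw [this, one_smul]
    rw [hv]
    apply Submodule.add_mem_sup
    · apply Submodule.smul_mem
      rw [mem_eigS, Matrix.mulVec_add, Matrix.mulVec_smul, hXX, smul_add, smul_smul, add_comm]
    · apply Submodule.smul_mem
      rw [mem_eigS, Matrix.mulVec_sub, Matrix.mulVec_smul, hXX]
      module

theorem eigS_form (X : Matrix (Fin d ⊕ Fin d) (Fin d ⊕ Fin d) F)
    (hpres : ∀ u v, Cfsg.sympForm d F (X *ᵥ u) (X *ᵥ v) = Cfsg.sympForm d F u v)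
    (c₁ c₂ : F) (u v : Fin d ⊕ Fin d → F) (hu : u ∈ eigS X c₁) (hv : v ∈ eigS X c₂) :
    (1 - c₁ * c₂) * Cfsg.sympForm d F u v = 0 := by
  have h := hpres u v
  rw [(mem_eigS X c₁ u).1 hu, (mem_eigS X c₂ v).1 hv, sympForm_smul_left, sympForm_smul_right] at h
  linear_combination -h

/-- nondegeneracy of the eigenspaces of an involution -/
theorem eigS_nd (h2 : (2 : F) ≠ 0) (X : Matrix (Fin d ⊕ Fin d) (Fin d ⊕ Fin d) F)
    (hpres : ∀ u v, Cfsg.sympForm d F (X *ᵥ u) (X *ᵥ v) = Cfsg.sympForm d F u v)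
    (hX : X * X = 1) (c : F) (hc : c * c = 1) :
    ∀ u ∈ eigS X c, u ≠ 0 → ∃ v ∈ eigS X c, Cfsg.sympForm d F u v ≠ 0 := by
  intro u hu hu0
  have hXX : ∀ v, X *ᵥ (X *ᵥ v) = v := by
    intro v
    rw [Matrix.mulVec_mulVec, hX, Matrix.one_mulVec]
  have hc0 : c ≠ 0 := by
    rintro rfl
    rw [mul_zero] at hc
    exact zero_ne_one hc
  obtain ⟨v, hv⟩ : ∃ v, Cfsg.sympForm d F u v ≠ 0 := by
    by_contra hcon
    push Not at hcon
    exact hu0 (PolarPairs.eq_zero_of_forall u hcon)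
  refine ⟨c • v + X *ᵥ v, ?_, ?_⟩
  · rw [mem_eigS, Matrix.mulVec_add, Matrix.mulVec_smul, hXX, smul_add, smul_smul, hc, one_smul,
      add_comm]
  · have h3 : Cfsg.sympForm d F u (X *ᵥ v) = c * Cfsg.sympForm d F u v := by
      have := hpres u (X *ᵥ v)
      rw [hXX, (mem_eigS X c u).1 hu, sympForm_smul_left] at this
      exact this.symm
    rw [sympForm_add_right, sympForm_smul_right, h3]
    intro h
    have : (2 * c) * Cfsg.sympForm d F u v = 0 := by linear_combination h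
    rcases mul_eq_zero.1 this with h | h
    · rcases mul_eq_zero.1 h with h | h
      · exact h2 h
      · exact hc0 h
    · exact hv h

/-- an adapted hyperbolic system for an involution -/
theorem exists_hypSys_involution (h2 : (2 : F) ≠ 0) (X : Matrix (Fin d ⊕ Fin d) (Fin d ⊕ Fin d) F)
    (hpres : ∀ u v, Cfsg.sympForm d F (X *ᵥ u) (X *ᵥ v) = Cfsg.sympForm d F u v)
    (hX : X * X = 1) :
    ∃ (e' f' : Fin d → (Fin d ⊕ Fin d → F)) (s : Fin d → F), HypSys F d d e' f' ∧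
      (∀ i, X *ᵥ e' i = s i • e' i) ∧ (∀ i, X *ᵥ f' i = (1 * s i) • f' i) := by
  have hnd₁ := eigS_nd h2 X hpres hX 1 (one_mul 1)
  have hnd₂ := eigS_nd h2 X hpres hX (-1) (by ring)
  have hcompl := eigS_isCompl h2 X 1 one_ne_zero (by rw [one_mul, one_smul]; exact hX)
  have hev₁ : Even (finrank F (eigS X 1)) := by
    apply even_finrank_of_ndOn (sympBilin d (F := F)) (stdB_alt d)
    intro u hu hu0
    obtain ⟨v, hv, hne⟩ := hnd₁ u hu hu0
    exact ⟨v, hv, by rw [sympBilin_apply]; exact hne⟩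
  have hev₂ : Even (finrank F (eigS X (-1))) := by
    apply even_finrank_of_ndOn (sympBilin d (F := F)) (stdB_alt d)
    intro u hu hu0
    obtain ⟨v, hv, hne⟩ := hnd₂ u hu hu0
    exact ⟨v, hv, by rw [sympBilin_apply]; exact hne⟩
  obtain ⟨a, ha⟩ := hev₁
  obtain ⟨b, hb⟩ := hev₂
  have hsum := Submodule.finrank_add_eq_of_isCompl hcompl
  rw [std_finrank] at hsum
  have hdab : d = a + b := by omega
  obtain ⟨e₁, f₁, h₁, hs₁⟩ := exists_hypSys_of_nd (k := a) (eigS X 1) (by omega) hnd₁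
  obtain ⟨e₂, f₂, h₂, hs₂⟩ := exists_hypSys_of_nd (k := b) (eigS X (-1)) (by omega) hnd₂
  have he₁ : ∀ i, e₁ i ∈ eigS X 1 := fun i => hs₁ ▸ e_mem_hspan e₁ f₁ i
  have hf₁ : ∀ i, f₁ i ∈ eigS X 1 := fun i => hs₁ ▸ f_mem_hspan e₁ f₁ i
  have he₂ : ∀ i, e₂ i ∈ eigS X (-1) := fun i => hs₂ ▸ e_mem_hspan e₂ f₂ i
  have hf₂ : ∀ i, f₂ i ∈ eigS X (-1) := fun i => hs₂ ▸ f_mem_hspan e₂ f₂ i
  have horth : ∀ u ∈ eigS X 1, ∀ v ∈ eigS X (-1), Cfsg.sympForm d F u v = 0 := by
    intro u hu v hv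
    have := eigS_form X hpres 1 (-1) u v hu hv
    have h3 : (2 : F) * Cfsg.sympForm d F u v = 0 := by linear_combination this
    rcases mul_eq_zero.1 h3 with h | h
    · exact absurd h h2
    · exact h
  subst hdab
  refine ⟨Fin.append e₁ e₂, Fin.append f₁ f₂, Fin.append (fun _ => 1) (fun _ => -1),
    hypSys_append h₁ h₂ _ _ horth he₁ hf₁ he₂ hf₂, ?_, ?_⟩
  · intro i
    induction i using Fin.addCases with
    | left i =>
      rw [Fin.append_left, Fin.append_left]
      exact (mem_eigS X 1 _).1 (he₁ i)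
    | right i =>
      rw [Fin.append_right, Fin.append_right]
      exact (mem_eigS X (-1) _).1 (he₂ i)
  · intro i
    induction i using Fin.addCases with
    | left i =>
      rw [Fin.append_left, Fin.append_left, one_mul]
      exact (mem_eigS X 1 _).1 (hf₁ i)
    | right i =>
      rw [Fin.append_right, Fin.append_right, one_mul]
      exact (mem_eigS X (-1) _).1 (hf₂ i)

/-- an adapted hyperbolic system for an isometry with square `-1` when `-1` is a square -/
theorem exists_hypSys_polar (h2 : (2 : F) ≠ 0) (X : Matrix (Fin d ⊕ Fin d) (Fin d ⊕ Fin d) F)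
    (hpres : ∀ u v, Cfsg.sympForm d F (X *ᵥ u) (X *ᵥ v) = Cfsg.sympForm d F u v)
    (ι : F) (hι : ι * ι = -1) (hX : X * X = (-1 : F) • 1) :
    ∃ (e' f' : Fin d → (Fin d ⊕ Fin d → F)), HypSys F d d e' f' ∧
      (∀ i, X *ᵥ e' i = ι • e' i) ∧ (∀ i, X *ᵥ f' i = (-1 * ι) • f' i) := by
  have hι0 : ι ≠ 0 := by
    rintro rfl
    rw [mul_zero] at hι
    have : (1 : F) = 0 := by linear_combination hι
    exact one_ne_zero this
  have hcompl := eigS_isCompl h2 X ι hι0 (by rw [hι]; exact hX)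
  have hti : ∀ c : F, c * c = -1 → ∀ u ∈ eigS X c, ∀ v ∈ eigS X c, Cfsg.sympForm d F u v = 0 := by
    intro c hc u hu v hv
    have := eigS_form X hpres c c u v hu hv
    rw [hc] at this
    have h3 : (2 : F) * Cfsg.sympForm d F u v = 0 := by linear_combination this
    rcases mul_eq_zero.1 h3 with h | h
    · exact absurd h h2
    · exact h
  have hP : PolarPairs.IsPolarPair (eigS X ι) (eigS X (-ι)) :=
    ⟨hcompl, hti ι hι, hti (-ι) (by rw [neg_mul_neg]; exact hι)⟩
  obtain ⟨hfU, -⟩ := hP.finrank_eq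
  let bas := Module.finBasisOfFinrankEq F (eigS X ι) hfU
  let e' : Fin d → (Fin d ⊕ Fin d → F) := fun i => (bas i : Fin d ⊕ Fin d → F)
  have hspan : Submodule.span F (Set.range e') = eigS X ι := by
    have h1 : Set.range e' = (eigS X ι).subtype '' Set.range bas := by
      ext w
      constructor
      · rintro ⟨i, rfl⟩
        exact ⟨bas i, ⟨i, rfl⟩, rfl⟩
      · rintro ⟨_, ⟨i, rfl⟩, rfl⟩
        exact ⟨i, rfl⟩
    rw [h1, ← Submodule.map_span, bas.span_eq, Submodule.map_top, Submodule.range_subtype]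
  obtain ⟨f', hf'W, hdual⟩ := hP.exists_dual e' hspan
  refine ⟨e', f', ⟨?_, ?_, hdual⟩, ?_, ?_⟩
  · intro i j
    exact hti ι hι _ (bas i).2 _ (bas j).2
  · intro i j
    exact hti (-ι) (by rw [neg_mul_neg]; exact hι) _ (hf'W i) _ (hf'W j)
  · intro i
    exact (mem_eigS X ι _).1 (bas i).2
  · intro i
    rw [neg_one_mul]
    exact (mem_eigS X (-ι) _).1 (hf'W i)

end eig

end Cfsg.Agent.Lib.Helper22.SpGU
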