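import Mathlib
import Cfsg.Agent.Lib.Helper22.SpGUL
import Cfsg.Agent.Lib.Helper22.SpGUJ

/-! Helper22 library (S5976): the backward direction — every symplectic transformation with scalar square has a
conjugate in the normalizer of `K`. -/

set_option autoImplicit false

namespace Cfsg.Agent.Lib.Helper22.SpGU

open Matrix Module Cfsg.Agent.Lib.Helper5 Cfsg.Agent.Lib.Helper14 Cfsg.Agent.Lib.Helper15
  Cfsg.Agent.Lib.Helper22.NdCount

section backward

variable {F : Type*} [Field F] [Fintype F] {d : ℕ}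

/-- the product of two nonsquares is a square -/
theorem exists_neg_sq {q : ℕ} (hq : Fintype.card F = q) (hodd : Odd q) (ε : F) (hε : ¬ IsSquare ε)
    (hm : ¬ IsSquare (-1 : F)) : ∃ c : F, c ≠ 0 ∧ ε = -(c * c) := by
  have h2 := two_ne_zero_of_odd hq hodd
  have hch : ringChar F ≠ 2 := by
    intro h
    apply h2
    have := ringChar.Nat.cast_ringChar (R := F)
    rw [h] at this
    exact_mod_cast this
  have hε0 : ε ≠ 0 := by
    rintro rfl
    exact hε ⟨0, by ring⟩
  have hm0 : (-1 : F) ≠ 0 := neg_ne_zero.2 one_ne_zero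
  have h1 : ε ^ (Fintype.card F / 2) = -1 := by
    rcases FiniteField.pow_dichotomy hch hε0 with h | h
    · exact absurd ((FiniteField.isSquare_iff hch hε0).2 h) hε
    · exact h
  have h3 : (-1 : F) ^ (Fintype.card F / 2) = -1 := by
    rcases FiniteField.pow_dichotomy hch hm0 with h | h
    · exact absurd ((FiniteField.isSquare_iff hch hm0).2 h) hm
    · exact h
  have h4 : (-ε) ^ (Fintype.card F / 2) = 1 := by
    rw [neg_eq_neg_one_mul, mul_pow, h1, h3]
    ring
  obtain ⟨c, hc⟩ := (FiniteField.isSquare_iff hch (neg_ne_zero.2 hε0)).2 h4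
  refine ⟨c, ?_, ?_⟩
  · rintro rfl
    rw [mul_zero] at hc
    exact hε0 (neg_eq_zero.1 hc)
  · rw [← hc, neg_neg]

/-- the common core: some symplectic conjugate commutes or anticommutes with `J` -/
theorem exists_conj_comm {q : ℕ} (hq : Fintype.card F = q) (hodd : Odd q) (hd : 1 ≤ d)
    (J : Matrix (Fin d ⊕ Fin d) (Fin d ⊕ Fin d) F) (ε : F) (hJ : IsJ J ε) (hε : ¬ IsSquare ε)
    (X : Matrix (Fin d ⊕ Fin d) (Fin d ⊕ Fin d) F)
    (hpres : ∀ u v, Cfsg.sympForm d F (X *ᵥ u) (X *ᵥ v) = Cfsg.sympForm d F u v)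
    (z : F) (hXX : X * X = z • 1) :
    ∃ (A : Matrix.symplecticGroup (Fin d) F) (σ : F), σ * σ = 1 ∧
      ((A⁻¹ : Matrix.symplecticGroup (Fin d) F).1 * X * A.1) * J =
        σ • (J * ((A⁻¹ : Matrix.symplecticGroup (Fin d) F).1 * X * A.1)) := by
  have h2 := two_ne_zero_of_odd hq hodd
  obtain ⟨e, he⟩ := isJ_jbasis hq hodd hd J ε hJ hε
  -- z is ±1
  have hzz : z * z = 1 := by
    let a : Fin d ⊕ Fin d → F := Pi.single (Sum.inl ⟨0, hd⟩) 1
    have ha : a ≠ 0 := by
      intro h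
      have := congrFun h (Sum.inl ⟨0, hd⟩)
      simp [a] at this
    obtain ⟨u, hu⟩ := exists_form_ne_zero a ha
    have hXXv : ∀ v, X *ᵥ (X *ᵥ v) = z • v := by
      intro v
      rw [Matrix.mulVec_mulVec, hXX, Matrix.smul_mulVec, Matrix.one_mulVec]
    have h1 := hpres (X *ᵥ u) (X *ᵥ a)
    rw [hpres u a, hXXv, hXXv, sympForm_smul_left, sympForm_smul_right] at h1
    have h3 : (z * z - 1) * Cfsg.sympForm d F u a = 0 := by linear_combination h1
    rcases mul_eq_zero.1 h3 with h | h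
    · exact sub_eq_zero.1 h
    · exact absurd h hu
  have hz : z = 1 ∨ z = -1 := by
    have : (z - 1) * (z + 1) = 0 := by linear_combination hzz
    rcases mul_eq_zero.1 this with h | h
    · exact Or.inl (sub_eq_zero.1 h)
    · exact Or.inr (eq_neg_of_add_eq_zero_left h)
  rcases hz with hz | hz
  · -- involution
    rw [hz, one_smul] at hXX
    obtain ⟨e', f', s, h', hes, hfs⟩ := exists_hypSys_involution h2 X hpres hXX
    obtain ⟨A, hA⟩ := exists_conj_of_planes J ε hJ.sq he X h' s 1 (one_mul 1) hes hfs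
    exact ⟨A, 1, one_mul 1, hA⟩
  · rw [hz] at hXX
    by_cases hm : IsSquare (-1 : F)
    · obtain ⟨ι, hι⟩ := hm
      obtain ⟨e', f', h', hes, hfs⟩ := exists_hypSys_polar h2 X hpres ι hι.symm hXX
      obtain ⟨A, hA⟩ := exists_conj_of_planes J ε hJ.sq he X h' (fun _ => ι) (-1) (by ring) hes hfs
      exact ⟨A, -1, by ring, hA⟩
    · obtain ⟨c, hc0, hc⟩ := exists_neg_sq hq hodd ε hε hm
      have hXXv : ∀ v, X *ᵥ (X *ᵥ v) = -v := by
        intro v
        rw [Matrix.mulVec_mulVec, hXX, Matrix.smul_mulVec, Matrix.one_mulVec, neg_one_smul]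
      have hJ' : IsJ (c • X) ε := by
        constructor
        · rw [Matrix.smul_mul, Matrix.mul_smul, hXX, smul_smul, smul_smul, hc]
          congr 1
          ring
        · intro u v
          have h1 := hpres u (X *ᵥ v)
          rw [hXXv, sympForm_neg_right] at h1
          rw [Matrix.smul_mulVec, Matrix.smul_mulVec, sympForm_smul_left, sympForm_smul_right]
          linear_combination (-c) * h1
      obtain ⟨e', he'⟩ := isJ_jbasis hq hodd hd (c • X) ε hJ' hε
      obtain ⟨A, hA⟩ := conj_of_jbasis J (c • X) ε hJ.sq hJ'.sq he he'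
      refine ⟨A, 1, one_mul 1, ?_⟩
      have h3 : (A⁻¹ : Matrix.symplecticGroup (Fin d) F).1 * X * A.1 = c⁻¹ • J := by
        have h4 : X * A.1 = c⁻¹ • (A.1 * J) := by
          rw [hA, Matrix.smul_mul, smul_smul, inv_mul_cancel₀ hc0, one_smul]
        rw [Matrix.mul_assoc, h4, Matrix.mul_smul, ← Matrix.mul_assoc, sp_inv_mul, Matrix.one_mul]
      rw [h3, one_smul, Matrix.smul_mul, Matrix.mul_smul]

theorem backward {q : ℕ} (hq : Fintype.card F = q) (hodd : Odd q) (hd : 1 ≤ d)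
    (K : Subalgebra F (Matrix (Fin d ⊕ Fin d) (Fin d ⊕ Fin d) F)) (hK : Cfsg.Geo.IsFieldSubalgebra 2 K)
    (hKf : Cfsg.Geo.IsAdjointClosedFor (Cfsg.sympForm d F) K)
    (hKns : ¬ Cfsg.Geo.IsSelfAdjointFor (Cfsg.sympForm d F) K)
    (x : GL (Fin d ⊕ Fin d) F) (hx : x ∈ Cfsg.spGL d F) (z : F)
    (hz : ((x ^ 2 : GL (Fin d ⊕ Fin d) F) : Matrix (Fin d ⊕ Fin d) (Fin d ⊕ Fin d) F) = z • 1) :
    ∃ g ∈ Cfsg.spGL d F, g⁻¹ * x * g ∈ Cfsg.Geo.subalgebraNormalizer K := by
  have h2 := two_ne_zero_of_odd hq hodd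
  obtain ⟨J, hJK, ε, hJ, hε, hrepr⟩ := exists_J h2 K hK hKf hKns
  have hXX : (x : Matrix (Fin d ⊕ Fin d) (Fin d ⊕ Fin d) F) * (x : Matrix _ _ F) = z • 1 := by
    rw [← hz, Units.val_pow_eq_pow_val, pow_two]
  obtain ⟨A, σ, hσ, hA⟩ := exists_conj_comm hq hodd hd J ε hJ hε (x : Matrix _ _ F)
    (SpMax.mem_spGL.1 hx) z hXX
  refine ⟨glOfSp A, glOfSp_mem A, ?_⟩
  apply mem_normalizer_of_comm K J hJK hrepr _ σ hσ
  exact hA

end backward

end Cfsg.Agent.Lib.Helper22.SpGU
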