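import Mathlib
import Cfsg.Agent.Lib.Helper27.SpMS4bDefs
import Cfsg.Agent.Lib.Helper5.Symp
import Cfsg.Agent.Lib.Helper5.SpMax

/-!
# SpnMax stage 2, leaf S4b-N (helper27's split of S4b), part a (helper22): a square root `i` of `-1` in a quadratic field
subalgebra `K` of `M_n(F_3)`, and the roots of `x² = -1` in `K`.
-/

set_option autoImplicit false
set_option linter.unusedSectionVars false
set_option linter.unusedVariables false

namespace Cfsg.Agent.Lib.Helper22.SpMLeaf

open Cfsg Cfsg.Geo Matrix Module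

variable {F : Type*} [Field F] [Fintype F]

/-! ### the field with three elements -/

lemma two_ne_zero_of_card3 (hq : Fintype.card F = 3) : (2 : F) ≠ 0 := by
  intro h2
  have h3 : ((Fintype.card F : ℕ) : F) = 0 := Nat.cast_card_eq_zero F
  rw [hq] at h3
  have h3' : (3 : F) = 0 := by exact_mod_cast h3
  have : (1 : F) = 3 - 2 := by norm_num
  rw [h3', h2, sub_zero] at this
  exact one_ne_zero this

lemma three_eq_zero_of_card3 (hq : Fintype.card F = 3) : (3 : F) = 0 := by
  have h3 : ((Fintype.card F : ℕ) : F) = 0 := Nat.cast_card_eq_zero F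
  rw [hq] at h3
  exact_mod_cast h3

lemma cases_of_card3 (hq : Fintype.card F = 3) (x : F) : x = 0 ∨ x = 1 ∨ x = -1 := by
  classical
  have h2 := two_ne_zero_of_card3 hq
  have h1 : (1 : F) ≠ -1 := by
    intro h
    apply h2
    linear_combination h
  have h0 : (0 : F) ≠ -1 := by
    intro h
    have : (1 : F) = 0 := by linear_combination h
    exact one_ne_zero this
  have hcard : ({0, 1, -1} : Finset F).card = 3 := by
    rw [Finset.card_insert_of_notMem, Finset.card_insert_of_notMem, Finset.card_singleton]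
    · simpa using h1
    · simp only [Finset.mem_insert, Finset.mem_singleton, not_or]
      exact ⟨zero_ne_one, h0⟩
  have huniv := Finset.eq_univ_of_card _ (hcard.trans hq.symm)
  have hx : x ∈ ({0, 1, -1} : Finset F) := by
    rw [huniv]
    exact Finset.mem_univ x
  simpa using hx

lemma sq_ne_neg_one_of_card3 (hq : Fintype.card F = 3) (c : F) : c * c ≠ -1 := by
  have h2 := two_ne_zero_of_card3 hq
  intro h
  rcases cases_of_card3 hq c with rfl | rfl | rfl
  · have : (1 : F) = 0 := by linear_combination h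
    exact one_ne_zero this
  · apply h2
    linear_combination h
  · apply h2
    linear_combination h

/-- `x² = 1` in `F_3` for `x ≠ 0` -/
lemma sq_eq_one_of_card3 (hq : Fintype.card F = 3) {c : F} (hc : c ≠ 0) : c * c = 1 := by
  rcases cases_of_card3 hq c with rfl | rfl | rfl
  · exact absurd rfl hc
  · ring
  · ring

section field
variable {ι : Type} [Fintype ι] [DecidableEq ι] [Nonempty ι]

lemma smul_one_eq_zero {a : F} (h : a • (1 : Matrix ι ι F) = 0) : a = 0 := by
  obtain ⟨j⟩ := ‹Nonempty ι›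
  have := congrFun (congrFun h j) j
  simpa using this

/-- in a module of dimension two, every vector is a combination of two independent ones -/
lemma exists_coeffs_of_finrank_two {M : Type*} [AddCommGroup M] [Module F M] [Module.Finite F M]
    {S : Submodule F M} (hfin : finrank F S = 2) {e k : M} (he : e ∈ S) (hk : k ∈ S)
    (hind : ∀ a b : F, a • e + b • k = 0 → a = 0 ∧ b = 0) {x : M} (hx : x ∈ S) :
    ∃ a b : F, x = a • e + b • k := by
  have hdep : ¬ LinearIndependent F ![(⟨e, he⟩ : S), ⟨k, hk⟩, ⟨x, hx⟩] := by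
    intro hli
    have := hli.fintype_card_le_finrank
    rw [hfin, Fintype.card_fin] at this
    omega
  rw [Fintype.not_linearIndependent_iff] at hdep
  obtain ⟨g, hg, j, hj⟩ := hdep
  rw [Fin.sum_univ_three] at hg
  have hg' : g 0 • e + g 1 • k + g 2 • x = 0 := by
    have := congrArg (Subtype.val) hg
    simpa using this
  have hg2 : g 2 ≠ 0 := by
    intro h0
    rw [h0, zero_smul, add_zero] at hg'
    obtain ⟨h1, h2⟩ := hind _ _ hg'
    fin_cases j
    · exact hj h1
    · exact hj h2
    · exact hj h0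
  refine ⟨-(g 0) / g 2, -(g 1) / g 2, ?_⟩
  have hx' : g 2 • x = -(g 0 • e + g 1 • k) := eq_neg_of_add_eq_zero_right hg'
  have : x = (g 2)⁻¹ • (g 2 • x) := by rw [smul_smul, inv_mul_cancel₀ hg2, one_smul]
  rw [this, hx', smul_neg, smul_add, smul_smul, smul_smul]
  rw [neg_add, ← neg_smul, ← neg_smul]
  congr 1 <;> congr 1 <;> field_simp

/-- no zero divisors in a field subalgebra -/
lemma eq_zero_of_mul_eq_zero {r : ℕ} {K : Subalgebra F (Matrix ι ι F)} (hK : IsFieldSubalgebra r K)
    {x y : Matrix ι ι F} (hx : x ∈ K) (hy : y ∈ K) (hxy : x * y = 0) : x = 0 ∨ y = 0 := by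
  by_cases hx0 : x = 0
  · exact Or.inl hx0
  · right
    obtain ⟨x', hx', hxx'⟩ := hK.inv x hx hx0
    have h1 : x' * x = 1 := by rw [hK.comm x' hx' x hx, hxx']
    calc y = (x' * x) * y := by rw [h1, one_mul]
      _ = x' * (x * y) := by rw [mul_assoc]
      _ = 0 := by rw [hxy, mul_zero]

/-- Step 0: a square root of `-1` in a quadratic field subalgebra over `F_3`, and `K = F + F i` -/
theorem exists_sq_neg_one (hq : Fintype.card F = 3) {K : Subalgebra F (Matrix ι ι F)}
    (hK : IsFieldSubalgebra 2 K) :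
    ∃ i ∈ K, i * i = -1 ∧ ∀ k ∈ K, ∃ a b : F, k = a • (1 : Matrix ι ι F) + b • i := by
  have h3 := three_eq_zero_of_card3 hq
  have hfin : finrank F (Subalgebra.toSubmodule K) = 2 := hK.finrank_eq
  -- a non-scalar element
  obtain ⟨k, hkK, hk⟩ : ∃ k ∈ K, ∀ c : F, k ≠ c • (1 : Matrix ι ι F) := by
    by_contra hcon
    push Not at hcon
    have hsub : Subalgebra.toSubmodule K ≤ Submodule.span F {(1 : Matrix ι ι F)} := by
      intro k hk
      obtain ⟨c, rfl⟩ := hcon k hk
      exact Submodule.smul_mem _ _ (Submodule.subset_span rfl)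
    have h1 := Submodule.finrank_mono hsub
    have h3 : finrank F (Submodule.span F {(1 : Matrix ι ι F)}) ≤ 1 := by
      have := finrank_span_finset_le_card (R := F) ({(1 : Matrix ι ι F)} : Finset (Matrix ι ι F))
      rw [Finset.coe_singleton, Finset.card_singleton] at this
      exact this
    omega
  have hind : ∀ a b : F, a • (1 : Matrix ι ι F) + b • k = 0 → a = 0 ∧ b = 0 := by
    intro a b hab
    have hb : b = 0 := by
      by_contra hb
      apply hk (-a / b)
      have : b • k = -(a • (1 : Matrix ι ι F)) := eq_neg_of_add_eq_zero_right hab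
      calc k = b⁻¹ • (b • k) := by rw [smul_smul, inv_mul_cancel₀ hb, one_smul]
        _ = (-a / b) • (1 : Matrix ι ι F) := by
          rw [this, smul_neg, smul_smul, ← neg_smul]
          congr 1
          field_simp
    subst hb
    rw [zero_smul, add_zero] at hab
    exact ⟨smul_one_eq_zero hab, rfl⟩
  have h1K : (1 : Matrix ι ι F) ∈ K := K.one_mem
  have hcoef : ∀ x ∈ K, ∃ a b : F, x = a • (1 : Matrix ι ι F) + b • k := fun x hx =>
    exists_coeffs_of_finrank_two hfin (show (1 : Matrix ι ι F) ∈ Subalgebra.toSubmodule K from h1K)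
      (show k ∈ Subalgebra.toSubmodule K from hkK) hind (show x ∈ Subalgebra.toSubmodule K from hx)
  obtain ⟨a, b, hab⟩ := hcoef (k * k) (K.mul_mem hkK hkK)
  -- complete the square
  obtain ⟨i₀, hi₀⟩ : ∃ i₀ : Matrix ι ι F, i₀ = k + b • (1 : Matrix ι ι F) := ⟨_, rfl⟩
  have hi₀K : i₀ ∈ K := by
    rw [hi₀]
    exact K.add_mem hkK (K.smul_mem h1K b)
  have hi₀sq : i₀ * i₀ = (a + b * b) • (1 : Matrix ι ι F) := by
    have e1 : i₀ * i₀ = k * k + (2 * b) • k + (b * b) • (1 : Matrix ι ι F) := by
      rw [hi₀]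
      simp only [add_mul, mul_add, Matrix.mul_smul, Matrix.smul_mul, mul_one, one_mul, smul_smul]
      module
    rw [e1, hab]
    have e2 : a • (1 : Matrix ι ι F) + b • k + (2 * b) • k + (b * b) • (1 : Matrix ι ι F) =
        (a + b * b) • (1 : Matrix ι ι F) + (3 * b) • k := by
      module
    rw [e2, h3, zero_mul, zero_smul, add_zero]
  have hi₀ns : ∀ c : F, i₀ ≠ c • (1 : Matrix ι ι F) := by
    intro c hc
    apply hk (c - b)
    rw [sub_smul, ← hc, hi₀, add_sub_cancel_right]
  have hcoef' : ∀ x ∈ K, ∃ a' b' : F, x = a' • (1 : Matrix ι ι F) + b' • i₀ := by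
    intro x hx
    obtain ⟨a', b', rfl⟩ := hcoef x hx
    refine ⟨a' - b' * b, b', ?_⟩
    rw [hi₀, smul_add, smul_smul, sub_smul]
    abel
  rcases cases_of_card3 hq (a + b * b) with hc | hc | hc
  · -- `i₀² = 0`
    exfalso
    rw [hc, zero_smul] at hi₀sq
    rcases eq_zero_of_mul_eq_zero hK hi₀K hi₀K hi₀sq with h | h <;>
    · apply hi₀ns 0
      rw [h, zero_smul]
  · -- `i₀² = 1`
    exfalso
    rw [hc, one_smul] at hi₀sq
    have hprod : (i₀ - 1) * (i₀ + 1) = 0 := by
      have : (i₀ - 1) * (i₀ + 1) = i₀ * i₀ - 1 := by noncomm_ring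
      rw [this, hi₀sq, sub_self]
    rcases eq_zero_of_mul_eq_zero hK (K.sub_mem hi₀K h1K) (K.add_mem hi₀K h1K) hprod with h | h
    · apply hi₀ns 1
      rw [one_smul]
      exact sub_eq_zero.mp h
    · apply hi₀ns (-1)
      rw [neg_smul, one_smul]
      exact eq_neg_of_add_eq_zero_left h
  · refine ⟨i₀, hi₀K, ?_, hcoef'⟩
    rw [hi₀sq, hc, neg_smul, one_smul]

end field

end Cfsg.Agent.Lib.Helper22.SpMLeaf
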