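import Mathlib
import Cfsg.Agent.Lib.Helper22.SpMS4bNa

/-!
# SpnMax stage 2, leaf S4b-N, part b (helper22): the roots of `x² = -1` in `K = F_3 + F_3 i`, the adjoint of `i`, the normaliser of `K`.
-/

set_option autoImplicit false
set_option linter.unusedSectionVars false
set_option linter.unusedVariables false

namespace Cfsg.Agent.Lib.Helper22.SpMLeaf

open Cfsg Cfsg.Geo Matrix Module Cfsg.Agent.Lib.Helper5

variable {F : Type*} [Field F] [Fintype F]

section field
variable {ι : Type} [Fintype ι] [DecidableEq ι] [Nonempty ι]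

/-- `1, i` are independent when `i² = -1` (no square root of `-1` in `F_3`) -/
lemma indep_one_i (hq : Fintype.card F = 3) {i : Matrix ι ι F} (hi : i * i = -1) {a b : F}
    (h : a • (1 : Matrix ι ι F) + b • i = 0) : a = 0 ∧ b = 0 := by
  have hb : b = 0 := by
    by_contra hb
    have hi' : i = (-a / b) • (1 : Matrix ι ι F) := by
      have : b • i = -(a • (1 : Matrix ι ι F)) := eq_neg_of_add_eq_zero_right h
      calc i = b⁻¹ • (b • i) := by rw [smul_smul, inv_mul_cancel₀ hb, one_smul]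
        _ = (-a / b) • (1 : Matrix ι ι F) := by
          rw [this, smul_neg, smul_smul, ← neg_smul]
          congr 1
          field_simp
    have h1 : ((-a / b) * (-a / b)) • (1 : Matrix ι ι F) = (-1 : F) • (1 : Matrix ι ι F) := by
      rw [neg_smul, one_smul, ← hi]
      conv_rhs => rw [hi']
      rw [Matrix.smul_mul, Matrix.mul_smul, mul_one, smul_smul]
    have h2 : ((-a / b) * (-a / b) - (-1)) • (1 : Matrix ι ι F) = 0 := by
      rw [sub_smul, h1, sub_self]
    exact sq_ne_neg_one_of_card3 hq (-a / b) (sub_eq_zero.mp (smul_one_eq_zero h2))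
  subst hb
  rw [zero_smul, add_zero] at h
  exact ⟨smul_one_eq_zero h, rfl⟩

/-- the square of `a + b i` -/
lemma sq_of_coeffs {i : Matrix ι ι F} (hi : i * i = -1) (a b : F) :
    (a • (1 : Matrix ι ι F) + b • i) * (a • (1 : Matrix ι ι F) + b • i) =
      (a * a - b * b) • (1 : Matrix ι ι F) + (2 * a * b) • i := by
  simp only [add_mul, mul_add, Matrix.mul_smul, Matrix.smul_mul, mul_one, one_mul, smul_smul, hi]
  module

/-- the roots of `x² = -1` in `F + F i` -/
lemma root_cases (hq : Fintype.card F = 3) {i : Matrix ι ι F} (hi : i * i = -1) {a b : F}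
    (h : (a • (1 : Matrix ι ι F) + b • i) * (a • (1 : Matrix ι ι F) + b • i) = -1) :
    a = 0 ∧ (b = 1 ∨ b = -1) := by
  have h2 := two_ne_zero_of_card3 hq
  rw [sq_of_coeffs hi] at h
  have h' : (a * a - b * b + 1) • (1 : Matrix ι ι F) + (2 * a * b) • i = 0 := by
    rw [add_smul (a * a - b * b), one_smul, add_assoc, add_comm (1 : Matrix ι ι F), ← add_assoc, h]
    simp
  obtain ⟨e1, e2⟩ := indep_one_i hq hi h'
  have hab : a = 0 ∨ b = 0 := by
    rcases mul_eq_zero.mp e2 with h3 | h3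
    · rcases mul_eq_zero.mp h3 with h4 | h4
      · exact absurd h4 h2
      · exact Or.inl h4
    · exact Or.inr h3
  rcases hab with rfl | rfl
  · refine ⟨rfl, ?_⟩
    rcases cases_of_card3 hq b with rfl | rfl | rfl
    · exfalso
      have : (1 : F) = 0 := by linear_combination e1
      exact one_ne_zero this
    · exact Or.inl rfl
    · exact Or.inr rfl
  · exfalso
    exact sq_ne_neg_one_of_card3 hq a (by linear_combination e1)

/-- the roots of `x² = -1` in `K` -/
lemma eq_or_eq_neg_of_sq (hq : Fintype.card F = 3) {i : Matrix ι ι F} (hi : i * i = -1) {k : Matrix ι ι F}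
    (hk : ∃ a b : F, k = a • (1 : Matrix ι ι F) + b • i) (hk2 : k * k = -1) : k = i ∨ k = -i := by
  obtain ⟨a, b, rfl⟩ := hk
  obtain ⟨rfl, hb | hb⟩ := root_cases hq hi hk2
  · left
    rw [hb, zero_smul, zero_add, one_smul]
  · right
    rw [hb, zero_smul, zero_add, neg_smul, one_smul]

end field

section symp

/-- uniqueness of right adjoints for the symplectic form -/
lemma eq_of_sympForm_right {m : ℕ} {A B : Matrix (Fin m ⊕ Fin m) (Fin m ⊕ Fin m) F}
    (h : ∀ u v, sympForm m F u (A *ᵥ v) = sympForm m F u (B *ᵥ v)) : A = B := by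
  apply Cfsg.Agent.Lib.Helper5.SpMax.mat_eq_of_mulVec
  intro v
  by_contra hne
  have hx : A *ᵥ v - B *ᵥ v ≠ 0 := sub_ne_zero.mpr hne
  obtain ⟨a, ha⟩ := sympForm_nondeg (A *ᵥ v - B *ᵥ v) hx
  apply ha
  rw [sympForm_swap, sympForm_sub_right, h, sub_self, neg_zero]

/-- Step 1: the adjoint of `i` is `-i` -/
theorem adj_i (hq : Fintype.card F = 3) {m : ℕ} [NeZero m]
    {K : Subalgebra F (Matrix (Fin m ⊕ Fin m) (Fin m ⊕ Fin m) F)}
    (hac : IsAdjointClosedFor (sympForm m F) K) (hnsa : ¬ IsSelfAdjointFor (sympForm m F) K)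
    {i : Matrix (Fin m ⊕ Fin m) (Fin m ⊕ Fin m) F} (hiK : i ∈ K) (hi : i * i = -1)
    (hcoef : ∀ k ∈ K, ∃ a b : F, k = a • (1 : Matrix (Fin m ⊕ Fin m) (Fin m ⊕ Fin m) F) + b • i) :
    ∀ u v, sympForm m F (i *ᵥ u) v = - sympForm m F u (i *ᵥ v) := by
  have : Nonempty (Fin m ⊕ Fin m) := ⟨Sum.inl ⟨0, Nat.pos_of_ne_zero (NeZero.ne m)⟩⟩
  obtain ⟨i', hi'K, hi'⟩ := hac i hiK
  have hsq : i' * i' = -1 := by
    apply eq_of_sympForm_right (m := m)
    intro u v
    rw [← Matrix.mulVec_mulVec, ← hi', ← hi', Matrix.mulVec_mulVec, hi, Matrix.neg_mulVec, Matrix.neg_mulVec,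
      Matrix.one_mulVec, Matrix.one_mulVec, sympForm_neg_left, sympForm_neg_right]
  rcases eq_or_eq_neg_of_sq hq hi (hcoef i' hi'K) hsq with h | h
  · exfalso
    apply hnsa
    intro k hk u v
    obtain ⟨a, b, rfl⟩ := hcoef k hk
    rw [Matrix.add_mulVec, Matrix.add_mulVec, Matrix.smul_mulVec, Matrix.smul_mulVec, Matrix.smul_mulVec,
      Matrix.smul_mulVec, Matrix.one_mulVec, Matrix.one_mulVec, sympForm_add_left, sympForm_add_right,
      sympForm_smul_left, sympForm_smul_left, sympForm_smul_right, sympForm_smul_right, hi', h]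
  · intro u v
    rw [hi', h, Matrix.neg_mulVec, sympForm_neg_right]

end symp

section normalizer
variable {ι : Type} [Fintype ι] [DecidableEq ι] [Nonempty ι]

/-- Step 3: the normaliser of `K = F + F i`: `g i = ± i g` -/
theorem mem_normalizer_iff (hq : Fintype.card F = 3) {K : Subalgebra F (Matrix ι ι F)}
    {i : Matrix ι ι F} (hiK : i ∈ K) (hi : i * i = -1)
    (hcoef : ∀ k ∈ K, ∃ a b : F, k = a • (1 : Matrix ι ι F) + b • i) (g : GL ι F) :
    g ∈ subalgebraNormalizer K ↔
      ((g : Matrix ι ι F) * i = i * (g : Matrix ι ι F) ∨ (g : Matrix ι ι F) * i = -(i * (g : Matrix ι ι F))) := by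
  have h1 : (g : Matrix ι ι F) * ((g⁻¹ : GL ι F) : Matrix ι ι F) = 1 := by
    rw [← Units.val_mul, mul_inv_cancel, Units.val_one]
  have h2 : ((g⁻¹ : GL ι F) : Matrix ι ι F) * (g : Matrix ι ι F) = 1 := by
    rw [← Units.val_mul, inv_mul_cancel, Units.val_one]
  have hmemK : ∀ a b : F, a • (1 : Matrix ι ι F) + b • i ∈ K := fun a b =>
    K.add_mem (K.smul_mem K.one_mem a) (K.smul_mem hiK b)
  constructor
  · intro hg
    have hc : (g : Matrix ι ι F) * i * ((g⁻¹ : GL ι F) : Matrix ι ι F) ∈ K := (hg i).mp hiK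
    have hsq : ((g : Matrix ι ι F) * i * ((g⁻¹ : GL ι F) : Matrix ι ι F)) *
        ((g : Matrix ι ι F) * i * ((g⁻¹ : GL ι F) : Matrix ι ι F)) = -1 := by
      calc ((g : Matrix ι ι F) * i * ((g⁻¹ : GL ι F) : Matrix ι ι F)) *
          ((g : Matrix ι ι F) * i * ((g⁻¹ : GL ι F) : Matrix ι ι F))
          = (g : Matrix ι ι F) * i * (((g⁻¹ : GL ι F) : Matrix ι ι F) * (g : Matrix ι ι F)) * i *
              ((g⁻¹ : GL ι F) : Matrix ι ι F) := by simp only [Matrix.mul_assoc]
        _ = (g : Matrix ι ι F) * (i * i) * ((g⁻¹ : GL ι F) : Matrix ι ι F) := by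
            rw [h2, Matrix.mul_one]; simp only [Matrix.mul_assoc]
        _ = -1 := by rw [hi, Matrix.mul_neg, Matrix.mul_one, Matrix.neg_mul, h1]
    rcases eq_or_eq_neg_of_sq hq hi (hcoef _ hc) hsq with h | h
    · left
      calc (g : Matrix ι ι F) * i = (g : Matrix ι ι F) * i * (((g⁻¹ : GL ι F) : Matrix ι ι F) * (g : Matrix ι ι F)) := by
            rw [h2, Matrix.mul_one]
        _ = ((g : Matrix ι ι F) * i * ((g⁻¹ : GL ι F) : Matrix ι ι F)) * (g : Matrix ι ι F) := by
            simp only [Matrix.mul_assoc]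
        _ = i * (g : Matrix ι ι F) := by rw [h]
    · right
      calc (g : Matrix ι ι F) * i = (g : Matrix ι ι F) * i * (((g⁻¹ : GL ι F) : Matrix ι ι F) * (g : Matrix ι ι F)) := by
            rw [h2, Matrix.mul_one]
        _ = ((g : Matrix ι ι F) * i * ((g⁻¹ : GL ι F) : Matrix ι ι F)) * (g : Matrix ι ι F) := by
            simp only [Matrix.mul_assoc]
        _ = -(i * (g : Matrix ι ι F)) := by rw [h, Matrix.neg_mul]
  · intro hg
    -- `g i g⁻¹ = ε i` and `g⁻¹ i g = ε i`
    obtain ⟨ε, hε, hgi⟩ : ∃ ε : F, ε * ε = 1 ∧ (g : Matrix ι ι F) * i = ε • (i * (g : Matrix ι ι F)) := by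
      rcases hg with h | h
      · exact ⟨1, by ring, by rw [h, one_smul]⟩
      · exact ⟨-1, by ring, by rw [h, neg_smul, one_smul]⟩
    have hconj : (g : Matrix ι ι F) * i * ((g⁻¹ : GL ι F) : Matrix ι ι F) = ε • i := by
      rw [hgi, Matrix.smul_mul, Matrix.mul_assoc, h1, Matrix.mul_one]
    have hconj' : ((g⁻¹ : GL ι F) : Matrix ι ι F) * i * (g : Matrix ι ι F) = ε • i := by
      have : i * (g : Matrix ι ι F) = ε • ((g : Matrix ι ι F) * i) := by
        rw [hgi, smul_smul, hε, one_smul]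
      rw [Matrix.mul_assoc, this, Matrix.mul_smul, ← Matrix.mul_assoc, h2, Matrix.one_mul]
    intro k
    constructor
    · intro hk
      obtain ⟨a, b, rfl⟩ := hcoef k hk
      have : (g : Matrix ι ι F) * (a • (1 : Matrix ι ι F) + b • i) * ((g⁻¹ : GL ι F) : Matrix ι ι F) =
          a • (1 : Matrix ι ι F) + (b * ε) • i := by
        rw [Matrix.mul_add, Matrix.add_mul, Matrix.mul_smul, Matrix.mul_smul, Matrix.smul_mul, Matrix.smul_mul,
          Matrix.mul_one, h1, hconj, smul_smul]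
      rw [this]
      exact hmemK _ _
    · intro hk
      obtain ⟨a, b, hab⟩ := hcoef _ hk
      have : k = ((g⁻¹ : GL ι F) : Matrix ι ι F) * ((g : Matrix ι ι F) * k * ((g⁻¹ : GL ι F) : Matrix ι ι F)) *
          (g : Matrix ι ι F) := by
        calc k = (((g⁻¹ : GL ι F) : Matrix ι ι F) * (g : Matrix ι ι F)) * k *
              (((g⁻¹ : GL ι F) : Matrix ι ι F) * (g : Matrix ι ι F)) := by rw [h2, Matrix.one_mul, Matrix.mul_one]
          _ = _ := by simp only [Matrix.mul_assoc]
      rw [this, hab, Matrix.mul_add, Matrix.add_mul, Matrix.mul_smul, Matrix.mul_smul, Matrix.smul_mul,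
        Matrix.smul_mul, Matrix.mul_one, h2, hconj', smul_smul]
      exact hmemK _ _

end normalizer

end Cfsg.Agent.Lib.Helper22.SpMLeaf
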