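import Mathlib
import Cfsg.Agent.Lib.Helper22.SpMS4bNb

/-!
# SpnMax stage 2, leaf S4b-N, part c (helper22): the hermitian geometry of `i` (`i² = -1`, adjoint `-i`) over `F_3`:
two `K`-orthogonal vectors of norm `-1` and the symplectic matrix `P` with `i P = P J`.
-/

set_option autoImplicit false
set_option linter.unusedSectionVars false
set_option linter.unusedVariables false

namespace Cfsg.Agent.Lib.Helper22.SpMLeaf

open Cfsg Cfsg.Geo Matrix Module Cfsg.Agent.Lib.Helper5

variable {F : Type*} [Field F] [Fintype F] {m : ℕ}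

section herm
variable {i : Matrix (Fin m ⊕ Fin m) (Fin m ⊕ Fin m) F} (hi : i * i = -1)
  (hadj : ∀ u v, sympForm m F (i *ᵥ u) v = - sympForm m F u (i *ᵥ v))

include hi in
lemma ii_mulVec (v : Fin m ⊕ Fin m → F) : i *ᵥ (i *ᵥ v) = -v := by
  rw [Matrix.mulVec_mulVec, hi, Matrix.neg_mulVec, Matrix.one_mulVec]

include hi hadj in
lemma f_ii (u v : Fin m ⊕ Fin m → F) : sympForm m F (i *ᵥ u) (i *ᵥ v) = sympForm m F u v := by
  rw [hadj, ii_mulVec hi, sympForm_neg_right, neg_neg]

include hadj in
lemma s_symm (u v : Fin m ⊕ Fin m → F) : sympForm m F u (i *ᵥ v) = sympForm m F v (i *ᵥ u) := by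
  rw [sympForm_swap m v, hadj, neg_neg]

include hadj in
lemma nu_add (u v : Fin m ⊕ Fin m → F) :
    sympForm m F (u + v) (i *ᵥ (u + v)) =
      sympForm m F u (i *ᵥ u) + sympForm m F v (i *ᵥ v) + 2 * sympForm m F u (i *ᵥ v) := by
  rw [Matrix.mulVec_add, sympForm_add_left, sympForm_add_right, sympForm_add_right, s_symm hadj v u]
  ring

lemma nu_smul (c : F) (v : Fin m ⊕ Fin m → F) :
    sympForm m F (c • v) (i *ᵥ (c • v)) = c * c * sympForm m F v (i *ᵥ v) := by
  rw [Matrix.mulVec_smul, sympForm_smul_left, sympForm_smul_right]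
  ring

include hi hadj in
lemma nu_add_i (v : Fin m ⊕ Fin m → F) :
    sympForm m F (v + i *ᵥ v) (i *ᵥ (v + i *ᵥ v)) = 2 * sympForm m F v (i *ᵥ v) := by
  rw [nu_add hadj, f_ii hi hadj, ii_mulVec hi, sympForm_neg_right, sympForm_self]
  ring

include hi hadj in
/-- (a) the norm form `ν v = f(v, i v)` is not identically zero -/
lemma exists_nu_ne_zero [NeZero m] (h2 : (2 : F) ≠ 0) : ∃ v, sympForm m F v (i *ᵥ v) ≠ 0 := by
  by_contra hcon
  push Not at hcon
  have hs : ∀ u v, sympForm m F u (i *ᵥ v) = 0 := by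
    intro u v
    have := nu_add hadj u v
    rw [hcon, hcon, hcon, zero_add, zero_add] at this
    rcases mul_eq_zero.mp this.symm with h | h
    · exact absurd h h2
    · exact h
  have hi0 : i = 0 := by
    apply eq_of_sympForm_right (m := m)
    intro u v
    rw [hs, Matrix.zero_mulVec]
    unfold sympForm
    rw [Matrix.mulVec_zero, dotProduct_zero]
  rw [hi0, zero_mul] at hi
  have : Nonempty (Fin m ⊕ Fin m) := ⟨Sum.inl ⟨0, Nat.pos_of_ne_zero (NeZero.ne m)⟩⟩
  have h1 : (1 : F) • (1 : Matrix (Fin m ⊕ Fin m) (Fin m ⊕ Fin m) F) = 0 := by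
    rw [one_smul]
    have := congrArg (fun M => -M) hi
    simpa using this.symm
  exact one_ne_zero (smul_one_eq_zero h1)

include hi hadj in
/-- (b) a vector of norm `-1` -/
lemma exists_nu_neg_one [NeZero m] (hq : Fintype.card F = 3) : ∃ v, sympForm m F v (i *ᵥ v) = -1 := by
  have h2 := two_ne_zero_of_card3 hq
  have h3 := three_eq_zero_of_card3 hq
  obtain ⟨v, hv⟩ := exists_nu_ne_zero hi hadj h2
  rcases cases_of_card3 hq (sympForm m F v (i *ᵥ v)) with h | h | h
  · exact absurd h hv
  · refine ⟨v + i *ᵥ v, ?_⟩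
    rw [nu_add_i hi hadj, h]
    linear_combination h3
  · exact ⟨v, h⟩

include hi hadj in
/-- (c), (d) a second vector of norm `-1`, `K`-orthogonal to the first -/
theorem exists_second (hq : Fintype.card F = 3) (hm : 2 ≤ m) {v₁ : Fin m ⊕ Fin m → F}
    (hv₁ : sympForm m F v₁ (i *ᵥ v₁) = -1) :
    ∃ v₂, sympForm m F v₁ v₂ = 0 ∧ sympForm m F (i *ᵥ v₁) v₂ = 0 ∧ sympForm m F v₂ (i *ᵥ v₂) = -1 := by
  classical
  have h2 := two_ne_zero_of_card3 hq
  have h3 := three_eq_zero_of_card3 hq
  have hiv : sympForm m F (i *ᵥ v₁) v₁ = 1 := by rw [sympForm_swap, hv₁, neg_neg]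
  -- the projection onto `⟨v₁, i v₁⟩^⊥`
  set π : (Fin m ⊕ Fin m → F) → (Fin m ⊕ Fin m → F) := fun x =>
    x - sympForm m F (i *ᵥ v₁) x • v₁ + sympForm m F v₁ x • (i *ᵥ v₁) with hπ
  have hπ1 : ∀ x, sympForm m F v₁ (π x) = 0 := by
    intro x
    simp only [hπ, sympForm_add_right, sympForm_sub_right, sympForm_smul_right, sympForm_self, hv₁]
    ring
  have hπ2 : ∀ x, sympForm m F (i *ᵥ v₁) (π x) = 0 := by
    intro x
    simp only [hπ, sympForm_add_right, sympForm_sub_right, sympForm_smul_right, sympForm_self, hiv]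
    ring
  have hπadd : ∀ x y, π (x + y) = π x + π y := by
    intro x y
    simp only [hπ, sympForm_add_right, add_smul]
    abel
  have hexp : ∀ x, x = π x + sympForm m F (i *ᵥ v₁) x • v₁ - sympForm m F v₁ x • (i *ᵥ v₁) := by
    intro x
    simp only [hπ]
    abel
  obtain ⟨x, hx⟩ : ∃ x, sympForm m F (π x) (i *ᵥ π x) ≠ 0 := by
    by_contra hcon
    push Not at hcon
    have hs : ∀ x y, sympForm m F (π x) (i *ᵥ π y) = 0 := by
      intro x y
      have := nu_add hadj (π x) (π y)
      rw [← hπadd, hcon, hcon, hcon, zero_add, zero_add] at this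
      rcases mul_eq_zero.mp this.symm with h | h
      · exact absurd h h2
      · exact h
    have hπ0 : ∀ y, π y = 0 := by
      intro y
      have hz : i *ᵥ π y = 0 := by
        by_contra hne
        obtain ⟨a, ha⟩ := sympForm_nondeg (i *ᵥ π y) hne
        apply ha
        rw [sympForm_swap, hexp a, sympForm_sub_left, sympForm_add_left, sympForm_smul_left, sympForm_smul_left,
          hs, f_ii hi hadj, hπ1]
        have : sympForm m F v₁ (i *ᵥ π y) = 0 := by
          have := hadj v₁ (π y)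
          rw [hπ2] at this
          linear_combination this
        rw [this]
        ring
      have := ii_mulVec hi (π y)
      rw [hz, Matrix.mulVec_zero] at this
      exact neg_eq_zero.mp this.symm
    have htop : (⊤ : Submodule F (Fin m ⊕ Fin m → F)) ≤
        Submodule.span F (({v₁, i *ᵥ v₁} : Finset (Fin m ⊕ Fin m → F)) : Set (Fin m ⊕ Fin m → F)) := by
      intro y _
      rw [hexp y, hπ0 y, zero_add]
      refine Submodule.sub_mem _ (Submodule.smul_mem _ _ (Submodule.subset_span ?_))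
        (Submodule.smul_mem _ _ (Submodule.subset_span ?_))
      · simp
      · simp
    have h1 := Submodule.finrank_mono htop
    have h4 : finrank F (Submodule.span F
        (({v₁, i *ᵥ v₁} : Finset (Fin m ⊕ Fin m → F)) : Set (Fin m ⊕ Fin m → F))) ≤
        ({v₁, i *ᵥ v₁} : Finset (Fin m ⊕ Fin m → F)).card :=
      finrank_span_finset_le_card (R := F) ({v₁, i *ᵥ v₁} : Finset (Fin m ⊕ Fin m → F))
    have h5 : ({v₁, i *ᵥ v₁} : Finset (Fin m ⊕ Fin m → F)).card ≤ 2 := Finset.card_le_two
    rw [finrank_top, Module.finrank_fintype_fun_eq_card, Fintype.card_sum, Fintype.card_fin] at h1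
    omega
  have hw1 := hπ1 x
  have hw2 := hπ2 x
  set w := π x with hw
  rcases cases_of_card3 hq (sympForm m F w (i *ᵥ w)) with h | h | h
  · exact absurd h hx
  · refine ⟨w + i *ᵥ w, ?_, ?_, ?_⟩
    · rw [sympForm_add_right, hw1, zero_add]
      have := hadj v₁ w
      rw [hw2] at this
      linear_combination this
    · rw [sympForm_add_right, hw2, zero_add, f_ii hi hadj, hw1]
    · rw [nu_add_i hi hadj, h]
      linear_combination h3
  · exact ⟨w, hw1, hw2, h⟩

end herm

end Cfsg.Agent.Lib.Helper22.SpMLeaf
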