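import Mathlib
import Cfsg.Agent.Lib.Helper27.SpMS4bDefs
import Cfsg.Agent.Lib.Helper22.SpMS4bNc

/-!
# SpnMax stage 2, leaf S4b-N `c3u_normal_form` (helper27's split of S4b; helper22), EXACT signature of `notes/SpnMax_S4b_leaves.lean`.
`K = F_3 + F_3 i` with `i² = -1`, adjoint of `i` is `-i`; `v₁, v₂` `K`-orthogonal of norm `-1`; `P` = the matrix with columns
`v₁, v₂ | i v₁, i v₂` is symplectic with `i P = P J`; `N(K) = {g | g i = ± i g}`.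
-/

set_option autoImplicit false
set_option linter.unusedSectionVars false
set_option linter.unusedVariables false

namespace Cfsg.Agent.Lib.Helper22.SpMLeaf

open Cfsg Cfsg.Geo Matrix Module Cfsg.Agent.Lib.Helper27.SpM Cfsg.Agent.Lib.Helper27.SpM4b
open Cfsg.Agent.Lib.Helper5

variable {F : Type*} [Field F] [Fintype F]

section colmat
variable {m : ℕ}

/-- the matrix with prescribed columns -/
def colMat (c : Fin m ⊕ Fin m → (Fin m ⊕ Fin m → F)) : Matrix (Fin m ⊕ Fin m) (Fin m ⊕ Fin m) F :=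
  Matrix.of fun r j => c j r

lemma colMat_gram (c : Fin m ⊕ Fin m → (Fin m ⊕ Fin m → F)) (a b : Fin m ⊕ Fin m) :
    ((colMat c)ᵀ * Matrix.J (Fin m) F * colMat c) a b = sympForm m F (c a) (c b) := by
  rw [Matrix.mul_assoc, Matrix.mul_apply]
  rfl

lemma mul_colMat (A : Matrix (Fin m ⊕ Fin m) (Fin m ⊕ Fin m) F) (c : Fin m ⊕ Fin m → (Fin m ⊕ Fin m → F)) :
    A * colMat c = colMat fun j => A *ᵥ c j := by
  ext r j
  rw [Matrix.mul_apply]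
  rfl

lemma colMat_mul_J (c : Fin m ⊕ Fin m → (Fin m ⊕ Fin m → F)) :
    colMat c * Matrix.J (Fin m) F = colMat (Sum.elim (fun k => c (Sum.inr k)) (fun k => -c (Sum.inl k))) := by
  ext r j
  rw [Matrix.mul_apply, Fintype.sum_sum_type]
  rcases j with k | k
  · simp [colMat, Matrix.J, Matrix.one_apply]
  · simp [colMat, Matrix.J, Matrix.one_apply]

/-- the matrix with columns `v k | i v k` for a "unitary basis" `v` is symplectic and intertwines `i` with `J` -/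
theorem colMat_props {i : Matrix (Fin m ⊕ Fin m) (Fin m ⊕ Fin m) F} (hi : i * i = -1)
    (hadj : ∀ u v, sympForm m F (i *ᵥ u) v = - sympForm m F u (i *ᵥ v))
    (v : Fin m → (Fin m ⊕ Fin m → F)) (h1 : ∀ k l, sympForm m F (v k) (v l) = 0)
    (h2 : ∀ k l, sympForm m F (v k) (i *ᵥ v l) = if k = l then -1 else 0) :
    (colMat (Sum.elim v fun k => i *ᵥ v k))ᵀ * Matrix.J (Fin m) F * colMat (Sum.elim v fun k => i *ᵥ v k) =
        Matrix.J (Fin m) F ∧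
      i * colMat (Sum.elim v fun k => i *ᵥ v k) = colMat (Sum.elim v fun k => i *ᵥ v k) * Matrix.J (Fin m) F := by
  constructor
  · ext a b
    rw [colMat_gram]
    rcases a with k | k <;> rcases b with l | l
    · simp [Matrix.J, h1]
    · simp only [Sum.elim_inl, Sum.elim_inr, h2, Matrix.J, Matrix.fromBlocks_apply₁₂, Matrix.neg_apply,
        Matrix.one_apply]
      split_ifs <;> simp
    · simp only [Sum.elim_inl, Sum.elim_inr, Matrix.J, Matrix.fromBlocks_apply₂₁, Matrix.one_apply]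
      rw [sympForm_swap, h2]
      by_cases hkl : k = l
      · subst hkl; simp
      · rw [if_neg hkl, if_neg (Ne.symm hkl)]; simp
    · simp only [Sum.elim_inr, Matrix.J, Matrix.fromBlocks_apply₂₂, Matrix.zero_apply]
      rw [f_ii hi hadj, h1]
  · rw [mul_colMat, colMat_mul_J]
    congr 1
    funext j
    rcases j with k | k
    · simp
    · simp only [Sum.elim_inr, Sum.elim_inl]
      rw [ii_mulVec hi]

end colmat

/-- S4b-N. -/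
theorem c3u_normal_form (hq : Fintype.card F = 3) {K : Subalgebra F (Matrix (Fin 2 ⊕ Fin 2) (Fin 2 ⊕ Fin 2) F)}
    (hK : IsFieldSubalgebra 2 K) (hac : IsAdjointClosedFor (sympForm 2 F) K)
    (hnsa : ¬ IsSelfAdjointFor (sympForm 2 F) K) :
    ∃ P : GL (Fin 2 ⊕ Fin 2) F, P ∈ spGL 2 F ∧
      subalgebraNormalizer K ⊓ spGL 2 F = (pmComm F ⊓ spGL 2 F).map (MulAut.conj P).toMonoidHom := by
  obtain ⟨i, hiK, hi, hcoef⟩ := exists_sq_neg_one hq hK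
  have hadj := adj_i hq hac hnsa hiK hi hcoef
  obtain ⟨v₁, hv₁⟩ := exists_nu_neg_one hi hadj hq
  obtain ⟨v₂, h12, hi12, hv₂⟩ := exists_second hi hadj hq le_rfl hv₁
  -- the unitary basis
  set v : Fin 2 → (Fin 2 ⊕ Fin 2 → F) := ![v₁, v₂] with hv
  have h1 : ∀ k l, sympForm 2 F (v k) (v l) = 0 := by
    intro k l
    fin_cases k <;> fin_cases l
    · exact sympForm_self 2 _
    · exact h12
    · show sympForm 2 F v₂ v₁ = 0
      rw [sympForm_swap, h12, neg_zero]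
    · exact sympForm_self 2 _
  have h2 : ∀ k l, sympForm 2 F (v k) (i *ᵥ v l) = if k = l then -1 else 0 := by
    intro k l
    fin_cases k <;> fin_cases l
    · show sympForm 2 F v₁ (i *ᵥ v₁) = if (0 : Fin 2) = 0 then -1 else 0
      rw [if_pos rfl, hv₁]
    · show sympForm 2 F v₁ (i *ᵥ v₂) = if (0 : Fin 2) = 1 then -1 else 0
      have := hadj v₁ v₂
      rw [hi12] at this
      rw [if_neg (by decide)]
      linear_combination this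
    · show sympForm 2 F v₂ (i *ᵥ v₁) = if (1 : Fin 2) = 0 then -1 else 0
      rw [if_neg (by decide), sympForm_swap, hi12, neg_zero]
    · show sympForm 2 F v₂ (i *ᵥ v₂) = if (1 : Fin 2) = 1 then -1 else 0
      rw [if_pos rfl, hv₂]
  obtain ⟨hPJ, hiP⟩ := colMat_props hi hadj v h1 h2
  set P₀ := colMat (Sum.elim v fun k => i *ᵥ v k) with hP₀
  have hsymp : P₀ ∈ Matrix.symplecticGroup (Fin 2) F := SymplecticGroup.mem_iff'.mpr hPJ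
  have hdet : IsUnit P₀.det := SymplecticGroup.symplectic_det hsymp
  set P : GL (Fin 2 ⊕ Fin 2) F := Matrix.GeneralLinearGroup.mk'' P₀ hdet with hP
  have hPval : (P : Matrix (Fin 2 ⊕ Fin 2) (Fin 2 ⊕ Fin 2) F) = P₀ := rfl
  have hPsp : P ∈ spGL 2 F := by
    rw [Cfsg.Agent.Lib.Helper5.SpMax.mem_spGL]
    intro u w
    rw [hPval]
    exact sympForm_mulVec_of_mem hsymp u w
  have hP1 : (P : Matrix (Fin 2 ⊕ Fin 2) (Fin 2 ⊕ Fin 2) F) *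
      ((P⁻¹ : GL (Fin 2 ⊕ Fin 2) F) : Matrix (Fin 2 ⊕ Fin 2) (Fin 2 ⊕ Fin 2) F) = 1 := by
    rw [← Units.val_mul, mul_inv_cancel, Units.val_one]
  have hP2 : ((P⁻¹ : GL (Fin 2 ⊕ Fin 2) F) : Matrix (Fin 2 ⊕ Fin 2) (Fin 2 ⊕ Fin 2) F) *
      (P : Matrix (Fin 2 ⊕ Fin 2) (Fin 2 ⊕ Fin 2) F) = 1 := by
    rw [← Units.val_mul, inv_mul_cancel, Units.val_one]
  -- `J = P⁻¹ i P`
  have hJ : Matrix.J (Fin 2) F = ((P⁻¹ : GL (Fin 2 ⊕ Fin 2) F) : Matrix (Fin 2 ⊕ Fin 2) (Fin 2 ⊕ Fin 2) F) * i *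
      (P : Matrix (Fin 2 ⊕ Fin 2) (Fin 2 ⊕ Fin 2) F) := by
    rw [Matrix.mul_assoc, hPval, hiP, ← hPval, ← Matrix.mul_assoc, hP2, Matrix.one_mul]
  refine ⟨P, hPsp, ?_⟩
  ext g
  rw [Subgroup.mem_map_equiv, Subgroup.mem_inf, Subgroup.mem_inf, MulAut.conj_symm_apply]
  have hsp_iff : P⁻¹ * g * P ∈ spGL 2 F ↔ g ∈ spGL 2 F := by
    constructor
    · intro h
      have : g = P * (P⁻¹ * g * P) * P⁻¹ := by group
      rw [this]
      exact (spGL 2 F).mul_mem ((spGL 2 F).mul_mem hPsp h) ((spGL 2 F).inv_mem hPsp)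
    · intro h
      exact (spGL 2 F).mul_mem ((spGL 2 F).mul_mem ((spGL 2 F).inv_mem hPsp) h) hPsp
  rw [hsp_iff, mem_normalizer_iff hq hiK hi hcoef g, mem_pmComm]
  -- transport the (anti)commutation relations
  have hval : ((P⁻¹ * g * P : GL (Fin 2 ⊕ Fin 2) F) : Matrix (Fin 2 ⊕ Fin 2) (Fin 2 ⊕ Fin 2) F) =
      ((P⁻¹ : GL (Fin 2 ⊕ Fin 2) F) : Matrix (Fin 2 ⊕ Fin 2) (Fin 2 ⊕ Fin 2) F) *
        (g : Matrix (Fin 2 ⊕ Fin 2) (Fin 2 ⊕ Fin 2) F) * (P : Matrix (Fin 2 ⊕ Fin 2) (Fin 2 ⊕ Fin 2) F) := by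
    rw [Units.val_mul, Units.val_mul]
  have hl : ((P⁻¹ * g * P : GL (Fin 2 ⊕ Fin 2) F) : Matrix (Fin 2 ⊕ Fin 2) (Fin 2 ⊕ Fin 2) F) * Matrix.J (Fin 2) F =
      ((P⁻¹ : GL (Fin 2 ⊕ Fin 2) F) : Matrix (Fin 2 ⊕ Fin 2) (Fin 2 ⊕ Fin 2) F) *
        ((g : Matrix (Fin 2 ⊕ Fin 2) (Fin 2 ⊕ Fin 2) F) * i) * (P : Matrix (Fin 2 ⊕ Fin 2) (Fin 2 ⊕ Fin 2) F) := by
    rw [hval, hJ]
    calc _ = ((P⁻¹ : GL (Fin 2 ⊕ Fin 2) F) : Matrix (Fin 2 ⊕ Fin 2) (Fin 2 ⊕ Fin 2) F) *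
          (g : Matrix (Fin 2 ⊕ Fin 2) (Fin 2 ⊕ Fin 2) F) * ((P : Matrix (Fin 2 ⊕ Fin 2) (Fin 2 ⊕ Fin 2) F) *
          ((P⁻¹ : GL (Fin 2 ⊕ Fin 2) F) : Matrix (Fin 2 ⊕ Fin 2) (Fin 2 ⊕ Fin 2) F)) * i *
          (P : Matrix (Fin 2 ⊕ Fin 2) (Fin 2 ⊕ Fin 2) F) := by simp only [Matrix.mul_assoc]
      _ = _ := by rw [hP1, Matrix.mul_one]; simp only [Matrix.mul_assoc]
  have hr : Matrix.J (Fin 2) F * ((P⁻¹ * g * P : GL (Fin 2 ⊕ Fin 2) F) : Matrix (Fin 2 ⊕ Fin 2) (Fin 2 ⊕ Fin 2) F) =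
      ((P⁻¹ : GL (Fin 2 ⊕ Fin 2) F) : Matrix (Fin 2 ⊕ Fin 2) (Fin 2 ⊕ Fin 2) F) *
        (i * (g : Matrix (Fin 2 ⊕ Fin 2) (Fin 2 ⊕ Fin 2) F)) * (P : Matrix (Fin 2 ⊕ Fin 2) (Fin 2 ⊕ Fin 2) F) := by
    rw [hval, hJ]
    calc _ = ((P⁻¹ : GL (Fin 2 ⊕ Fin 2) F) : Matrix (Fin 2 ⊕ Fin 2) (Fin 2 ⊕ Fin 2) F) * i *
          ((P : Matrix (Fin 2 ⊕ Fin 2) (Fin 2 ⊕ Fin 2) F) *
          ((P⁻¹ : GL (Fin 2 ⊕ Fin 2) F) : Matrix (Fin 2 ⊕ Fin 2) (Fin 2 ⊕ Fin 2) F)) *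
          (g : Matrix (Fin 2 ⊕ Fin 2) (Fin 2 ⊕ Fin 2) F) *
          (P : Matrix (Fin 2 ⊕ Fin 2) (Fin 2 ⊕ Fin 2) F) := by simp only [Matrix.mul_assoc]
      _ = _ := by rw [hP1, Matrix.mul_one]; simp only [Matrix.mul_assoc]
  -- conjugation by `P` is injective
  have hinj : ∀ A B : Matrix (Fin 2 ⊕ Fin 2) (Fin 2 ⊕ Fin 2) F,
      ((P⁻¹ : GL (Fin 2 ⊕ Fin 2) F) : Matrix (Fin 2 ⊕ Fin 2) (Fin 2 ⊕ Fin 2) F) * A *
        (P : Matrix (Fin 2 ⊕ Fin 2) (Fin 2 ⊕ Fin 2) F) =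
      ((P⁻¹ : GL (Fin 2 ⊕ Fin 2) F) : Matrix (Fin 2 ⊕ Fin 2) (Fin 2 ⊕ Fin 2) F) * B *
        (P : Matrix (Fin 2 ⊕ Fin 2) (Fin 2 ⊕ Fin 2) F) ↔ A = B := by
    intro A B
    constructor
    · intro h
      have := congrArg (fun M => (P : Matrix (Fin 2 ⊕ Fin 2) (Fin 2 ⊕ Fin 2) F) * M *
        ((P⁻¹ : GL (Fin 2 ⊕ Fin 2) F) : Matrix (Fin 2 ⊕ Fin 2) (Fin 2 ⊕ Fin 2) F)) h
      simp only [Matrix.mul_assoc, hP1, Matrix.mul_one] at this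
      simp only [← Matrix.mul_assoc, hP1, Matrix.one_mul] at this
      exact this
    · rintro rfl
      rfl
  rw [hl, hr]
  constructor
  · rintro ⟨hg, hgsp⟩
    refine ⟨?_, hgsp⟩
    rcases hg with h | h
    · left; rw [h]
    · right; rw [h, Matrix.mul_neg, Matrix.neg_mul]
  · rintro ⟨hg, hgsp⟩
    refine ⟨?_, hgsp⟩
    rcases hg with h | h
    · left; exact (hinj _ _).mp h
    · right
      rw [← Matrix.neg_mul, ← Matrix.mul_neg] at h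
      exact (hinj _ _).mp h

end Cfsg.Agent.Lib.Helper22.SpMLeaf
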