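import Mathlib
import Cfsg.Agent.Lib.Helper27.SpUDefs
import Cfsg.Agent.Lib.Helper5.Symp

/-!
S2316 (planner helper27), leaf L5 `exists_rad` (helper22): a non-identity `p`-element `g` of `Sp_{2m}(F)`,
`char F = p`, has a non-zero fixed vector that is perpendicular to all fixed vectors.
-/

set_option autoImplicit false

namespace Cfsg.Agent.Lib.Helper27.SpU

open Cfsg Matrix Cfsg.Agent.S0775

variable {F : Type*} [Field F]

namespace L5aux

/-- `(A - 1)^(p^k) = A^(p^k) - 1` in characteristic `p`. -/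
lemma sub_one_pow_char_pow {n : Type*} [Fintype n] [DecidableEq n] [Nonempty n] (p : ℕ) [Fact p.Prime]
    [CharP F p] (A : Matrix n n F) (k : ℕ) : (A - 1) ^ p ^ k = A ^ p ^ k - 1 := by
  have : CharP (Matrix n n F) p := Matrix.charP p
  have h := sub_pow_char_pow_of_commute (R := Matrix n n F) p k (Commute.one_right A)
  rw [h, one_pow]

end L5aux

/-- L5 (RAD). -/
theorem exists_rad {m : ℕ} (p : ℕ) [Fact p.Prime] [CharP F p]
    (g : Matrix.symplecticGroup (Fin m) F) (hg : IsPElt p g) (hg1 : g ≠ 1) :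
    ∃ r : Fin m ⊕ Fin m → F, r ≠ 0 ∧ r ∈ fixSp g ∧ ∀ v ∈ fixSp g, Cfsg.sympForm m F r v = 0 := by
  classical
  obtain ⟨k, hk⟩ := hg
  -- `m ≠ 0`
  have hm : Nonempty (Fin m ⊕ Fin m) := by
    by_contra hne
    rw [not_nonempty_iff] at hne
    apply hg1
    apply Subtype.ext
    apply Matrix.ext
    intro i
    exact (hne.false i).elim
  set A : Matrix (Fin m ⊕ Fin m) (Fin m ⊕ Fin m) F := g.1 with hA
  have hApow : A ^ p ^ k = 1 := by
    have h1 : g ^ p ^ k = 1 := by rw [← hk]; exact pow_orderOf_eq_one g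
    have h2 := congrArg (fun x : Matrix.symplecticGroup (Fin m) F => x.1) h1
    simpa using h2
  set N : Matrix (Fin m ⊕ Fin m) (Fin m ⊕ Fin m) F := A - 1 with hN
  have hNnil : N ^ p ^ k = 0 := by
    rw [hN, L5aux.sub_one_pow_char_pow p A k, hApow, sub_self]
  have hN0 : N ≠ 0 := by
    intro h
    apply hg1
    apply Subtype.ext
    have : A = 1 := sub_eq_zero.mp h
    exact this
  -- the least exponent killing `N`
  have hex : ∃ n : ℕ, N ^ n = 0 := ⟨p ^ k, hNnil⟩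
  set n₀ := Nat.find hex with hn₀
  have hn₀spec : N ^ n₀ = 0 := Nat.find_spec hex
  have hn₀min : ∀ n < n₀, N ^ n ≠ 0 := fun n hn => Nat.find_min hex hn
  have hn₀2 : 2 ≤ n₀ := by
    by_contra hlt
    push Not at hlt
    interval_cases n₀
    · rw [pow_zero] at hn₀spec
      exact one_ne_zero hn₀spec
    · rw [pow_one] at hn₀spec
      exact hN0 hn₀spec
  obtain ⟨j, hj⟩ : ∃ j, n₀ = j + 2 := ⟨n₀ - 2, by omega⟩
  have hNj : N ^ (j + 1) ≠ 0 := hn₀min (j + 1) (by omega)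
  -- a vector not killed by `N^(j+1)`
  obtain ⟨x, hx⟩ : ∃ x : Fin m ⊕ Fin m → F, N ^ (j + 1) *ᵥ x ≠ 0 := by
    by_contra hcon
    push Not at hcon
    apply hNj
    apply Matrix.toLin'.injective
    apply LinearMap.ext
    intro x
    rw [Matrix.toLin'_apply, hcon x, map_zero, LinearMap.zero_apply]
  refine ⟨N ^ (j + 1) *ᵥ x, hx, ?_, ?_⟩
  · rw [mem_fixSp]
    have h1 : N *ᵥ (N ^ (j + 1) *ᵥ x) = 0 := by
      rw [Matrix.mulVec_mulVec, ← pow_succ', ← hj, hn₀spec, Matrix.zero_mulVec]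
    rw [hN, Matrix.sub_mulVec, Matrix.one_mulVec, sub_eq_zero] at h1
    exact h1
  · intro v hv
    rw [mem_fixSp] at hv
    have h1 : N ^ (j + 1) *ᵥ x = N *ᵥ (N ^ j *ᵥ x) := by
      rw [Matrix.mulVec_mulVec, ← pow_succ']
    rw [h1, hN, Matrix.sub_mulVec, Matrix.one_mulVec, Cfsg.Agent.Lib.Helper5.sympForm_sub_left]
    conv_lhs => rw [← hv]
    rw [Cfsg.Agent.Lib.Helper5.sympForm_mulVec_of_mem g.2, hv, sub_self]

end Cfsg.Agent.Lib.Helper27.SpU
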