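import Cfsg.Agent.Lib.Helper22.SqfD2
import Cfsg.Agent.Lib.Helper18.SqfD1

set_option autoImplicit false

namespace Cfsg.Agent.Lib.Helper22.SqfLeaf

open Subgroup Cfsg.Agent.Lib.Helper1.Sqf

/-- Leaf D2 of S4130: a supersolvable group with squarefree class sizes and no nontrivial normal
`p`-subgroup has order not divisible by `p ^ 2`. -/
theorem not_sq_dvd_card {Γ : Type*} [Group Γ] [Finite Γ] (p : ℕ) [Fact p.Prime]
    (h : SF Γ) (hss : Cfsg.IsSupersolvable Γ)
    (hO : ∀ N : Subgroup Γ, N.Normal → IsPGroup p N → N = ⊥) : ¬ p ^ 2 ∣ Nat.card Γ :=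
  not_sq_dvd_card_of p
    (fun _ _ q _ V P _ hVab hVp hP hPab hfaith horb =>
      Cfsg.Agent.Lib.Helper18.SqfLeaf.card_le_of_small_orbits q V P hVab hVp hP hPab hfaith horb)
    h hss hO

end Cfsg.Agent.Lib.Helper22.SqfLeaf
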