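import Mathlib
import Cfsg.Agent.Lib.Helper22.SubfRC
import Cfsg.Agent.Lib.Helper22.SubfRI
import Cfsg.Agent.Lib.Helper22.SubfRJ
import Cfsg.Agent.Lib.Helper22.SubfRO

/-! The block element of `SL_n(F)` is not conjugate into the subfield subgroup. -/

set_option autoImplicit false
open scoped MatrixGroups

namespace Cfsg.Agent.Lib.Helper22.SubfR

open Polynomial Matrix Cfsg.Agent.Lib.Helper9.SubfieldA

/-- the arithmetic contradiction -/
theorem order_contra (r q₀ k d : ℕ) [Fact r.Prime] (hq₀ : 1 ≤ q₀) (hd1 : 1 ≤ d)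
    (hA : r ∣ q₀ ^ d - 1) (hB : ∀ m, 1 ≤ m → r ∣ (q₀ ^ k) ^ m - 1 → d ≤ m)
    (hdiff : ∃ m', r ∣ (q₀ ^ k) ^ m' - 1 ∧ ¬ r ∣ q₀ ^ m' - 1) : False := by
  have hqk : 1 ≤ q₀ ^ k := Nat.one_le_pow _ _ hq₀
  set a : ZMod r := (q₀ : ZMod r) with ha
  have had : a ^ d = 1 := (dvd_pow_sub_one_iff r q₀ d hq₀).1 hA
  have hcast : ((q₀ ^ k : ℕ) : ZMod r) = a ^ k := by rw [Nat.cast_pow]
  have hakd : (a ^ k) ^ d = 1 := by rw [← pow_mul, mul_comm, pow_mul, had, one_pow]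
  set i := orderOf (a ^ k) with hi
  have hid : i ∣ d := orderOf_dvd_of_pow_eq_one hakd
  have hi1 : 1 ≤ i := by
    rcases Nat.eq_zero_or_pos i with h0 | h0
    · rw [h0, zero_dvd_iff] at hid
      omega
    · exact h0
  have hdi : d ≤ i := by
    apply hB i hi1
    rw [dvd_pow_sub_one_iff r (q₀ ^ k) i hqk, hcast]
    exact pow_orderOf_eq_one _
  have hile : i ≤ d := Nat.le_of_dvd (by omega) hid
  have hid' : i = d := le_antisymm hile hdi
  obtain ⟨m', h1, h2⟩ := hdiff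
  rw [dvd_pow_sub_one_iff r (q₀ ^ k) m' hqk, hcast] at h1
  have h3 : i ∣ m' := orderOf_dvd_of_pow_eq_one h1
  rw [hid'] at h3
  obtain ⟨s, rfl⟩ := h3
  apply h2
  rw [dvd_pow_sub_one_iff r q₀ _ hq₀, pow_mul, had, one_pow]

variable {F : Type*} [Field F] [Fintype F]

theorem bad_irred (p : ℕ) [Fact p.Prime] [CharP F p] (F₀ : Subfield F) (q₀ e k : ℕ)
    (hF₀ : Nat.card F₀ = q₀) (hq₀ : q₀ = p ^ e) (hq : Fintype.card F = q₀ ^ k)
    (r : ℕ) (hr : r.Prime) (hr2 : r ≠ 2) (hrp : r ≠ p) (hrq : ¬ r ∣ Fintype.card F - 1)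
    (n m : ℕ) (hm1 : 1 ≤ m) (hmn : m ≤ n) (hrm : r ∣ Fintype.card F ^ m - 1)
    (hdiff : ∃ m', r ∣ (q₀ ^ k) ^ m' - 1 ∧ ¬ r ∣ q₀ ^ m' - 1) :
    ∃ x : Matrix.SpecialLinearGroup (Fin n) F,
      (∃ z : F, (x : Matrix (Fin n) (Fin n) F) ^ r = z • 1) ∧
      (∀ z : F, (x : Matrix (Fin n) (Fin n) F) ≠ z • 1) ∧
      ∀ P : Matrix.SpecialLinearGroup (Fin n) F, P⁻¹ * x * P ∉ HH F₀ n := by
  classical
  have : Fact r.Prime := ⟨hr⟩
  have hp : p.Prime := Fact.out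
  have : Fintype F₀ := Fintype.ofFinite F₀
  have hcard₀ : Fintype.card F₀ = q₀ := by rw [← Nat.card_eq_fintype_card, hF₀]
  have hq₀1 : 1 < q₀ := by
    rw [← hcard₀]
    exact Fintype.one_lt_card
  obtain ⟨g, M, hirr, hmon, hdvd, hg1, hdn, hM, hMr, hdet, hns⟩ :=
    exists_block_matrix p r hr hr2 hrp hrq n m hm1 hmn hrm
  set d := g.natDegree with hd
  have hd1 : 1 ≤ d := by
    rcases Nat.eq_zero_or_pos d with h0 | h0
    · exfalso
      have := hirr.natDegree_pos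
      omega
    · exact h0
  refine ⟨⟨M, hdet⟩, ⟨1, ?_⟩, hns, ?_⟩
  · show M ^ r = (1 : F) • 1
    rw [hMr, one_smul]
  intro P hP
  obtain ⟨y₀, c, hc, hy₀, hxP⟩ := exists_of_conj_mem F₀ ⟨M, hdet⟩ P hP
  set Pm : Matrix (Fin n) (Fin n) F := (P : Matrix (Fin n) (Fin n) F) with hPm
  set Pi : Matrix (Fin n) (Fin n) F :=
    ((P⁻¹ : Matrix.SpecialLinearGroup (Fin n) F) : Matrix (Fin n) (Fin n) F) with hPi
  have h1 : Pm * Pi = 1 := by
    rw [hPm, hPi, ← Matrix.SpecialLinearGroup.coe_mul, mul_inv_cancel,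
      Matrix.SpecialLinearGroup.coe_one]
  have h2 : Pi * Pm = 1 := by
    rw [hPm, hPi, ← Matrix.SpecialLinearGroup.coe_mul, inv_mul_cancel,
      Matrix.SpecialLinearGroup.coe_one]
  set Y : Matrix (Fin n) (Fin n) F := y₀.map (F₀.subtype : F₀ →+* F) with hY
  set Z : Matrix (Fin n) (Fin n) F := c • Y with hZ
  have hMP : M * Pm = Pm * Z := hxP
  have hZr : Z ^ r = 1 := by
    have h3 := conj_pow_eq Pm Z M hMP.symm r
    rw [hMr, Matrix.one_mul] at h3
    calc Z ^ r = (Pi * Pm) * Z ^ r := by rw [h2, Matrix.one_mul]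
      _ = Pi * (Pm * Z ^ r) := by rw [Matrix.mul_assoc]
      _ = 1 := by rw [h3, h2]
  -- c ^ r lies in the subfield
  have hn0 : 0 < n := by omega
  let i₀ : Fin n := ⟨0, hn0⟩
  have hZr' : c ^ r • (y₀ ^ r).map (F₀.subtype : F₀ →+* F) = 1 := by
    rw [Matrix.map_pow, ← hY, ← _root_.smul_pow]
    exact hZr
  have hentry := congrFun (congrFun hZr' i₀) i₀
  simp only [Matrix.smul_apply, Matrix.map_apply, Matrix.one_apply_eq, smul_eq_mul] at hentry
  set b : F₀ := (y₀ ^ r) i₀ i₀ with hb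
  have hbq : ((b : F)) ^ q₀ = (b : F) := (mem_subfield_iff_pow F₀ q₀ hF₀ _).1 b.2
  have hcrq : (c ^ r) ^ q₀ = c ^ r := by
    have hb0 : (b : F) ≠ 0 := by
      intro h0
      have : c ^ r * (b : F) = 1 := hentry
      rw [h0, mul_zero] at this
      exact zero_ne_one this
    have h3 : c ^ r = ((b : F))⁻¹ := eq_inv_of_mul_eq_one_left hentry
    rw [h3, inv_pow, hbq]
  have hcq : c ^ q₀ = c := by
    have h3 : (c ^ q₀ * c⁻¹) ^ r = 1 := by
      rw [mul_pow, ← pow_mul, mul_comm q₀ r, pow_mul, hcrq, inv_pow,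
        mul_inv_cancel₀ (pow_ne_zero _ hc)]
    have h4 := eq_one_of_pow_eq_one r hr hrq _ h3
    calc c ^ q₀ = (c ^ q₀ * c⁻¹) * c := by rw [mul_assoc, inv_mul_cancel₀ hc, mul_one]
      _ = c := by rw [h4, one_mul]
  have hcmem : c ∈ F₀ := (mem_subfield_iff_pow F₀ q₀ hF₀ c).2 hcq
  set c₀ : F₀ := ⟨c, hcmem⟩ with hc₀
  have hZmap : Z = (c₀ • y₀).map (F₀.subtype : F₀ →+* F) := by
    ext i j
    simp [hZ, hY, hc₀]
  -- the characteristic polynomial of M descends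
  have hMconj : M = Pm * Z * Pi := by
    rw [← hMP, Matrix.mul_assoc, h1, Matrix.mul_one]
  have hMchar : M.charpoly = ((c₀ • y₀).charpoly).map (F₀.subtype : F₀ →+* F) := by
    rw [hMconj, charpoly_conj_of_inv Pm Pi Z h1 h2, hZmap, Matrix.charpoly_map]
  set h₀ : F₀[X] := (c₀ • y₀).charpoly with hh₀
  have hinj : Function.Injective (F₀.subtype : F₀ →+* F) := Subtype.val_injective
  have hXC : (X - 1 : F[X]) = X - C 1 := by simp
  have hXm : (X - 1 : F[X]).Monic := by rw [hXC]; exact monic_X_sub_C 1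
  have hXC₀ : (X - 1 : F₀[X]) = X - C 1 := by simp
  have hXm₀ : (X - 1 : F₀[X]).Monic := by rw [hXC₀]; exact monic_X_sub_C 1
  set g₀ : F₀[X] := h₀ /ₘ (X - 1) ^ (n - d) with hg₀
  have hg₀map : g₀.map (F₀.subtype : F₀ →+* F) = g := by
    rw [hg₀, map_divByMonic _ (hXm₀.pow _), ← hMchar, hM, Polynomial.map_pow, Polynomial.map_sub,
      Polynomial.map_X, Polynomial.map_one]
    exact mul_divByMonic_cancel_left g (hXm.pow _)
  have hg₀mon : g₀.Monic := by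
    apply Polynomial.monic_of_injective hinj
    rw [hg₀map]
    exact hmon
  have hg₀irr : Irreducible g₀ := by
    apply Monic.irreducible_of_irreducible_map (F₀.subtype : F₀ →+* F) g₀ hg₀mon
    rw [hg₀map]
    exact hirr
  have hg₀dvd : g₀ ∣ X ^ r - 1 := by
    rw [← map_dvd_map (F₀.subtype : F₀ →+* F) hinj hg₀mon, hg₀map, Polynomial.map_sub,
      Polynomial.map_pow, Polynomial.map_X, Polynomial.map_one]
    exact hdvd
  have hg₀1 : g₀.eval 1 ≠ 0 := by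
    intro h0
    apply hg1
    rw [← hg₀map, eval_map]
    have := eval₂_at_apply (p := g₀) (F₀.subtype : F₀ →+* F) 1
    rw [map_one] at this
    rw [this, h0, map_zero]
  have hg₀deg : g₀.natDegree = d := by
    rw [hd, ← hg₀map, natDegree_map]
  have hA := dvd_card_pow_natDegree_sub_one g₀ hg₀irr r hr hg₀dvd hg₀1
  rw [hcard₀, hg₀deg] at hA
  have hcharF₀ : CharP F₀ p := by
    exact (RingHom.charP_iff (F₀.subtype : F₀ →+* F) hinj p).2 inferInstance
  refine order_contra r q₀ k d (by omega) hd1 hA ?_ hdiff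
  intro m' hm' hrm'
  rw [← hq] at hrm'
  exact natDegree_le_of_dvd p g hirr r hdvd m' hm' hrm'

end Cfsg.Agent.Lib.Helper22.SubfR
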