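import Mathlib
import Cfsg.Agent.Lib.Helper22.SubfRQ

/-! Existence of bad elements when `r ∣ q - 1` and `r ∤ q₀ - 1`. -/

set_option autoImplicit false
open scoped MatrixGroups

namespace Cfsg.Agent.Lib.Helper22.SubfR

open Polynomial Matrix Cfsg.Agent.Lib.Helper9.SubfieldA

variable {F : Type*} [Field F] [Fintype F]

/-- the element `diag(μλ, μ, …, μ)`, `n ≥ 3` -/
theorem bad_of_mu (p : ℕ) [Fact p.Prime] [CharP F p] (F₀ : Subfield F)
    (q₀ e : ℕ) (hF₀ : Nat.card F₀ = q₀) (hq₀ : q₀ = p ^ e) (r : ℕ) (hr3 : 3 ≤ r) (lam μ : F)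
    (hlam : IsPrimitiveRoot lam r) (hfix : lam ^ q₀ ≠ lam) (hμ : μ ≠ 0) (n : ℕ) (hn : 3 ≤ n)
    (hdet : μ ^ n * lam = 1) :
    ∃ x : Matrix.SpecialLinearGroup (Fin n) F,
      (∃ z : F, (x : Matrix (Fin n) (Fin n) F) ^ r = z • 1) ∧
      (∀ z : F, (x : Matrix (Fin n) (Fin n) F) ≠ z • 1) ∧
      ∀ P : Matrix.SpecialLinearGroup (Fin n) F, P⁻¹ * x * P ∉ HH F₀ n := by
  have hlamr : lam ^ r = 1 := hlam.pow_eq_one
  have hlam1 : lam ≠ 1 := hlam.ne_one (by omega)
  have hlam0 : lam ≠ 0 := by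
    rintro rfl
    rw [zero_pow (by omega)] at hlamr
    exact zero_ne_one hlamr
  have h21 : lam ^ 2 ≠ lam := by
    intro h
    have := hlam.pow_inj (i := 2) (j := 1) (by omega) (by omega) (by rw [h, pow_one])
    omega
  have h20 : lam ^ 2 ≠ 1 := by
    intro h
    have := hlam.pow_inj (i := 2) (j := 0) (by omega) (by omega) (by rw [h, pow_zero])
    omega
  obtain ⟨t, rfl⟩ : ∃ t, n = 1 + t + 0 := ⟨n - 1, by omega⟩
  refine bad_block p F₀ q₀ e hF₀ hq₀ r 1 t 0 lam μ (μ * lam ^ 2) hlamr hlam1 hfix (by omega)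
    (by omega) (by omega) (Or.inl rfl) hμ ?_ ?_ ?_ ?_
  · intro h
    exact h21 (mul_left_cancel₀ hμ h)
  · intro h
    have : μ * lam ^ 2 = μ * 1 := by rw [h, mul_one]
    exact h20 (mul_left_cancel₀ hμ this)
  · rw [mul_pow, ← pow_mul, mul_comm 2 r, pow_mul, hlamr, one_pow, mul_one]
  · rw [pow_one, pow_zero, mul_one, ← hdet]
    ring

theorem exists_bad_of_dvd (p : ℕ) [Fact p.Prime] [CharP F p] (F₀ : Subfield F)
    (q₀ e k : ℕ) (hF₀ : Nat.card F₀ = q₀) (hq₀ : q₀ = p ^ e) (hq : Fintype.card F = q₀ ^ k)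
    (hk : k.Prime) (r : ℕ) (hr : r.Prime) (hr2 : r ≠ 2) (h1 : r ∣ Fintype.card F - 1)
    (h0 : ¬ r ∣ q₀ - 1) (n : ℕ) (hn : 2 ≤ n) (hgap : ¬ (n = 6 ∧ r = 3))
    (hexc : ¬ (k = 2 ∧ r = n ∧ (n = 3 ∨ n = 5) ∧ padicValNat r (q₀ + 1) = 1))
    (hn2 : ¬ (n = 2 ∧ k = 2)) :
    ∃ x : Matrix.SpecialLinearGroup (Fin n) F,
      (∃ z : F, (x : Matrix (Fin n) (Fin n) F) ^ r = z • 1) ∧
      (∀ z : F, (x : Matrix (Fin n) (Fin n) F) ≠ z • 1) ∧
      ∀ P : Matrix.SpecialLinearGroup (Fin n) F, P⁻¹ * x * P ∉ HH F₀ n := by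
  classical
  have : Fact r.Prime := ⟨hr⟩
  have : Fintype F₀ := Fintype.ofFinite F₀
  have hcard₀ : Fintype.card F₀ = q₀ := by rw [← Nat.card_eq_fintype_card, hF₀]
  have hq₀1 : 1 < q₀ := by
    rw [← hcard₀]
    exact Fintype.one_lt_card
  have hr3 : 3 ≤ r := by
    have := hr.two_le
    omega
  obtain ⟨lam, hlam⟩ := exists_primitive_root r hr h1
  have hlamr : lam ^ r = 1 := hlam.pow_eq_one
  have hlam1 : lam ≠ 1 := hlam.ne_one (by omega)
  have hlam0 : lam ≠ 0 := by
    rintro rfl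
    rw [zero_pow (by omega)] at hlamr
    exact zero_ne_one hlamr
  have hfix : lam ^ q₀ ≠ lam := by
    intro h
    have h2 : lam ^ (q₀ - 1) = 1 := by
      have h3 : lam ^ (q₀ - 1) * lam = 1 * lam := by
        rw [← pow_succ, Nat.sub_add_cancel (by omega), h, one_mul]
      exact mul_right_cancel₀ hlam0 h3
    exact h0 ((hlam.pow_eq_one_iff_dvd _).1 h2)
  -- congruence facts
  have hak : (q₀ : ZMod r) ^ k = 1 := by
    rw [hq] at h1
    exact (dvd_pow_sub_one_iff r q₀ k (by omega)).1 h1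
  have ha1 : (q₀ : ZMod r) ≠ 1 := by
    intro h
    apply h0
    have := (dvd_pow_sub_one_iff r q₀ 1 (by omega)).2 (by rw [pow_one]; exact h)
    rwa [pow_one] at this
  have h21 : lam ^ 2 ≠ lam := by
    intro h
    have := hlam.pow_inj (i := 2) (j := 1) (by omega) (by omega) (by rw [h, pow_one])
    omega
  have h20 : lam ^ 2 ≠ 1 := by
    intro h
    have := hlam.pow_inj (i := 2) (j := 0) (by omega) (by omega) (by rw [h, pow_zero])
    omega
  by_cases hrn : r ∣ n
  · by_cases hA : r ≠ 3 ∧ 6 ≤ n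
    · -- diag(λ, λ, 1, …, 1, λ^(r-2))
      obtain ⟨hr3', hn6⟩ := hA
      have hr5 : 5 ≤ r := by
        by_contra h
        have : r = 4 := by omega
        rw [this] at hr
        exact absurd hr (by decide)
      obtain ⟨t, rfl⟩ : ∃ t, n = 2 + t + 1 := ⟨n - 3, by omega⟩
      refine bad_block p F₀ q₀ e hF₀ hq₀ r 2 t 1 lam 1 (lam ^ (r - 2)) hlamr hlam1 hfix
        (by omega) (by omega) (by omega) (Or.inr ⟨by omega, by omega⟩) one_ne_zero ?_ ?_ ?_ ?_
      · intro h
        rw [one_mul] at h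
        have := hlam.pow_inj (i := r - 2) (j := 1) (by omega) (by omega) (by rw [h, pow_one])
        omega
      · intro h
        have := hlam.pow_inj (i := r - 2) (j := 0) (by omega) (by omega) (by rw [h, pow_zero])
        omega
      · rw [← pow_mul, mul_comm, pow_mul, hlamr, one_pow, one_pow]
      · rw [one_mul, one_pow, mul_one, pow_one, ← pow_add]
        have : 2 + (r - 2) = r := by omega
        rw [this, hlamr]
    · by_cases hB : r = 3 ∧ 9 ≤ n
      · obtain ⟨rfl, hn9⟩ := hB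
        obtain ⟨t, rfl⟩ : ∃ t, n = 3 + t + 0 := ⟨n - 3, by omega⟩
        refine bad_block p F₀ q₀ e hF₀ hq₀ 3 3 t 0 lam 1 (lam ^ 2) hlamr hlam1 hfix
          (by omega) (by omega) (by omega) (Or.inl rfl) one_ne_zero ?_ ?_ ?_ ?_
        · rw [one_mul]
          exact h21
        · exact h20
        · rw [← pow_mul, mul_comm, pow_mul, hlamr, one_pow, one_pow]
        · rw [one_mul, one_pow, mul_one, pow_zero, mul_one, hlamr]
      · -- n = r ∈ {3, 5}
        have hnr : n = r ∧ (r = 3 ∨ r = 5) := by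
          have hrle : r ≤ n := Nat.le_of_dvd (by omega) hrn
          by_cases h3 : r = 3
          · subst h3
            have hn9 : n < 9 := by
              by_contra h
              exact hB ⟨rfl, by omega⟩
            have hn6 : n ≠ 6 := fun h => hgap ⟨h, rfl⟩
            obtain ⟨s, rfl⟩ := hrn
            have : s = 1 := by omega
            subst this
            exact ⟨rfl, Or.inl rfl⟩
          · have hr5 : 5 ≤ r := by
              by_contra h
              have : r = 4 := by omega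
              rw [this] at hr
              exact absurd hr (by decide)
            have hn6 : n < 6 := by
              by_contra h
              exact hA ⟨h3, by omega⟩
            have : r = 5 := by omega
            subst this
            obtain ⟨s, rfl⟩ := hrn
            have : s = 1 := by omega
            subst this
            exact ⟨rfl, Or.inr rfl⟩
        obtain ⟨rfl, hr35⟩ := hnr
        have hk2 : k = 2 := k_eq_two n k q₀ hr35 hk hak ha1
        subst hk2
        have hdvd1 : n ∣ q₀ + 1 := dvd_add_one_of_sq n q₀ hak ha1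
        have hv : padicValNat n (q₀ + 1) ≠ 1 := by
          intro hv
          apply hexc
          refine ⟨rfl, rfl, ?_, hv⟩
          rcases hr35 with h | h
          · left; exact h
          · right; exact h
        have hv2 : 2 ≤ padicValNat n (q₀ + 1) := by
          have : 1 ≤ padicValNat n (q₀ + 1) :=
            one_le_padicValNat_of_dvd (by omega) hdvd1
          omega
        have hsq : n ^ 2 ∣ q₀ + 1 := (padicValNat_dvd_iff_le (by omega)).2 hv2
        have hfac : Fintype.card F - 1 = (q₀ - 1) * (q₀ + 1) := by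
          rw [hq]
          obtain ⟨t, rfl⟩ : ∃ t, q₀ = t + 1 := ⟨q₀ - 1, by omega⟩
          simp only [Nat.add_sub_cancel]
          have : (t + 1) ^ 2 = t * (t + 1 + 1) + 1 := by ring
          rw [this, Nat.add_sub_cancel]
        have hsq' : n ^ 2 ∣ Fintype.card F - 1 := by
          rw [hfac]
          exact Dvd.dvd.mul_left hsq _
        obtain ⟨B', hB'⟩ := hsq'
        have hAB : Fintype.card F - 1 = n * (n * B') := by rw [hB']; ring
        have hcardpos : Fintype.card F - 1 ≠ 0 := by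
          have : 1 < Fintype.card F := Fintype.one_lt_card
          omega
        have hB0 : n * B' ≠ 0 := by
          intro h
          rw [h, mul_zero] at hAB
          exact hcardpos hAB
        obtain ⟨μ, hμ0, hμ⟩ := exists_pow_eq_of_pow_eq_one n (n * B') hAB (lam⁻¹) (by
          rw [inv_pow, pow_mul, hlamr, one_pow, inv_one]) hB0
        refine bad_of_mu p F₀ q₀ e hF₀ hq₀ n hr3 lam μ hlam hfix hμ0 n hr3 ?_
        rw [hμ, inv_mul_cancel₀ hlam0]
  · -- r ∤ n: the scalar μ = λ^m₀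
    have hnz : (n : ZMod r) ≠ 0 := by
      intro h
      exact hrn ((ZMod.natCast_eq_zero_iff _ _).1 h)
    set m₀ : ℕ := (-(n : ZMod r)⁻¹).val with hm₀
    have hm₀' : (m₀ : ZMod r) = -(n : ZMod r)⁻¹ := ZMod.natCast_zmod_val _
    have hdvd : r ∣ m₀ * n + 1 := by
      rw [← ZMod.natCast_eq_zero_iff]
      push_cast
      rw [hm₀', neg_mul, inv_mul_cancel₀ hnz, neg_add_cancel]
    set μ : F := lam ^ m₀ with hμ
    have hμ0 : μ ≠ 0 := pow_ne_zero _ hlam0
    have hdet : μ ^ n * lam = 1 := by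
      rw [hμ, ← pow_mul, ← pow_succ]
      exact (hlam.pow_eq_one_iff_dvd _).2 hdvd
    by_cases hn3 : 3 ≤ n
    · exact bad_of_mu p F₀ q₀ e hF₀ hq₀ r hr3 lam μ hlam hfix hμ0 n hn3 hdet
    · have hn2' : n = 2 := by omega
      have hk2 : k ≠ 2 := fun h => hn2 ⟨hn2', h⟩
      have hfix2 : lam ^ (q₀ ^ 2) ≠ lam := by
        intro h
        have h2 : lam ^ (q₀ ^ 2 - 1) = 1 := by
          have hq1 : 1 ≤ q₀ ^ 2 := Nat.one_le_pow _ _ (by omega)
          have h3 : lam ^ (q₀ ^ 2 - 1) * lam = 1 * lam := by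
            rw [← pow_succ, Nat.sub_add_cancel hq1, h, one_mul]
          exact mul_right_cancel₀ hlam0 h3
        have h4 : r ∣ q₀ ^ 2 - 1 := (hlam.pow_eq_one_iff_dvd _).1 h2
        have h5 : (q₀ : ZMod r) ^ 2 = 1 := (dvd_pow_sub_one_iff r q₀ 2 (by omega)).1 h4
        have hcop : Nat.Coprime 2 k := by
          rw [Nat.coprime_primes Nat.prime_two hk]
          exact fun h => hk2 h.symm
        exact ha1 ((pow_eq_one_iff_of_coprime hcop).1 ⟨h5, hak⟩)
      obtain rfl : n = 1 + 1 + 0 := by omega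
      refine bad_pair p F₀ q₀ e hF₀ hq₀ r lam μ hlamr hlam1 hfix2 hμ0 ?_
      rw [← hdet]
      ring

end Cfsg.Agent.Lib.Helper22.SubfR
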