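import Mathlib
import Cfsg.Agent.Lib.Helper20.SuzCenter3

set_option autoImplicit false

/-!
# Suzuki 2-groups: basic facts (helper22)

Semiregularity of the cyclic group `K`, fixed points on invariant sections, restriction of the
set-up to invariant subgroups.  Builds on helper20's `SuzTwist.Setup`.
-/

namespace Cfsg.Agent.Lib.Helper22.Suz

open Cfsg.Agent.Lib.Helper20.SuzTwist

variable {P : Type*} [Group P]

/-- `K`-invariance of a subgroup. -/
def KInv (K : Subgroup (MulAut P)) (H : Subgroup P) : Prop := ∀ φ ∈ K, ∀ x ∈ H, φ x ∈ H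

theorem KInv.inv_mem {K : Subgroup (MulAut P)} {H : Subgroup P} (hH : KInv K H) {φ : MulAut P}
    (hφ : φ ∈ K) {x : P} (hx : x ∈ H) : φ⁻¹ x ∈ H := hH φ⁻¹ (K.inv_mem hφ) x hx

theorem KInv.mem_iff {K : Subgroup (MulAut P)} {H : Subgroup P} (hH : KInv K H) {φ : MulAut P}
    (hφ : φ ∈ K) {x : P} : φ x ∈ H ↔ x ∈ H := by
  constructor
  · intro h
    have := hH.inv_mem hφ h
    simpa using this
  · exact hH φ hφ x

theorem kinv_center (K : Subgroup (MulAut P)) : KInv K (Subgroup.center P) := by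
  intro φ _ a ha
  rw [Subgroup.mem_center_iff]
  intro g
  exact (central_map φ a (fun y => (Subgroup.mem_center_iff.mp ha y).symm) g).symm

theorem kinv_top (K : Subgroup (MulAut P)) : KInv K (⊤ : Subgroup P) := fun _ _ _ _ => trivial

theorem kinv_bot (K : Subgroup (MulAut P)) : KInv K (⊥ : Subgroup P) := by
  intro φ _ x hx
  rw [Subgroup.mem_bot] at hx ⊢
  rw [hx, map_one]

/-- A nonidentity element of a finite `2`-group has an involution among its powers. -/
theorem exists_pow_invol [Finite P] (hP : IsPGroup 2 P) (x : P) (hx : x ≠ 1) :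
    ∃ j : ℕ, x ^ j ≠ 1 ∧ x ^ j * x ^ j = 1 := by
  obtain ⟨k, hk⟩ := (IsPGroup.iff_orderOf.mp hP) x
  have hk0 : k ≠ 0 := by
    intro h
    rw [h, pow_zero, orderOf_eq_one_iff] at hk
    exact hx hk
  obtain ⟨k', rfl⟩ := Nat.exists_eq_succ_of_ne_zero hk0
  refine ⟨2 ^ k', ?_, ?_⟩
  · intro h
    have hd := orderOf_dvd_of_pow_eq_one h
    rw [hk] at hd
    have := Nat.le_of_dvd (by positivity) hd
    have hlt : 2 ^ k' < 2 ^ (k' + 1) := Nat.pow_lt_pow_right (by norm_num) (by omega)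
    omega
  · rw [← pow_add, ← two_mul, ← pow_succ', ← hk, pow_orderOf_eq_one]

/-- Nonidentity elements of `K` fix no nonidentity element. -/
theorem semireg {K : Subgroup (MulAut P)} (S : Setup P K) {φ : MulAut P} (hφ : φ ∈ K)
    (hφ1 : φ ≠ 1) {x : P} (hx : φ x = x) : x = 1 := by
  haveI := S.fin
  by_contra hx1
  obtain ⟨j, hj1, hj2⟩ := exists_pow_invol S.pg x hx1
  have hfix : φ (x ^ j) = x ^ j := by rw [map_pow, hx]
  obtain ⟨k0, -, huniq⟩ := S.reg _ _ hj1 hj2 hj1 hj2
  have e1 : (⟨φ, hφ⟩ : K) = k0 := huniq ⟨φ, hφ⟩ hfix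
  have e2 : (1 : K) = k0 := huniq 1 (by simp)
  have := congrArg Subtype.val (e1.trans e2.symm)
  exact hφ1 (by simpa using this)

/-- Fixed points on sections lift: if `φ ∈ K`, `φ ≠ 1` stabilises the subgroup `N` and
`x⁻¹ φ(x) ∈ N`, then `x ∈ N`. -/
theorem mem_of_twist_mem {K : Subgroup (MulAut P)} (S : Setup P K) {φ : MulAut P} (hφ : φ ∈ K)
    (hφ1 : φ ≠ 1) (N : Subgroup P) (hN : ∀ x ∈ N, φ x ∈ N) {x : P} (hx : x⁻¹ * φ x ∈ N) :
    x ∈ N := by
  haveI := S.fin
  let f : N → N := fun n => ⟨(n : P)⁻¹ * φ n, N.mul_mem (N.inv_mem n.2) (hN n n.2)⟩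
  have hinj : Function.Injective f := by
    intro n m hnm
    have h : (n : P)⁻¹ * φ n = (m : P)⁻¹ * φ m := congrArg Subtype.val hnm
    have h2 : φ ((n : P) * (m : P)⁻¹) = (n : P) * (m : P)⁻¹ := by
      have h3 : φ (n : P) = (n : P) * (m : P)⁻¹ * φ m := by
        have := congrArg (fun t => (n : P) * t) h
        simpa [mul_assoc] using this
      rw [map_mul, map_inv, h3]
      group
    have h4 := semireg S hφ hφ1 h2
    exact Subtype.ext (mul_inv_eq_one.mp h4)
  obtain ⟨n, hn⟩ := Finite.surjective_of_injective hinj ⟨x⁻¹ * φ x, hx⟩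
  have h : (n : P)⁻¹ * φ n = x⁻¹ * φ x := congrArg Subtype.val hn
  have h2 : φ (x * (n : P)⁻¹) = x * (n : P)⁻¹ := by
    have h3 : φ x = x * (n : P)⁻¹ * φ n := by
      have := congrArg (fun t => x * t) h
      simpa [mul_assoc] using this.symm
    rw [map_mul, map_inv, h3]
    group
  have h4 := semireg S hφ hφ1 h2
  have : x = n := mul_inv_eq_one.mp h4
  rw [this]
  exact n.2

/-! ### Restriction to invariant subgroups -/

/-- The restriction homomorphism `K → Aut H` for a `K`-invariant subgroup `H`. -/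
def resHom (K : Subgroup (MulAut P)) (H : Subgroup P) (hH : KInv K H) : K →* MulAut H where
  toFun k :=
    { toFun := fun x => ⟨(k : MulAut P) x, hH k k.2 x x.2⟩
      invFun := fun x => ⟨(k : MulAut P)⁻¹ x, hH.inv_mem k.2 x.2⟩
      left_inv := fun x => Subtype.ext (by simp)
      right_inv := fun x => Subtype.ext (by simp)
      map_mul' := fun x y => Subtype.ext (by simp) }
  map_one' := by
    ext x
    simp
  map_mul' := fun k k' => by
    ext x
    simp [MulAut.mul_apply]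

@[simp] theorem resHom_apply (K : Subgroup (MulAut P)) (H : Subgroup P) (hH : KInv K H) (k : K)
    (x : H) : ((resHom K H hH k x : H) : P) = (k : MulAut P) x := rfl

/-- The set-up restricts to nontrivial invariant subgroups. -/
theorem subSetup {K : Subgroup (MulAut P)} (S : Setup P K) (H : Subgroup P) (hH : KInv K H)
    (hne : H ≠ ⊥) : Setup H (resHom K H hH).range := by
  haveI := S.fin
  haveI := S.cyc
  obtain ⟨h0, hh01⟩ := (Subgroup.ne_bot_iff_exists_ne_one).mp hne
  have hh0P : (h0 : P) ≠ 1 := fun h => hh01 (Subtype.ext h)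
  obtain ⟨j, hj1, hj2⟩ := exists_pow_invol S.pg (h0 : P) hh0P
  have hwH : (h0 : P) ^ j ∈ H := H.pow_mem h0.2 j
  have hallinv : ∀ y : P, y ≠ 1 → y * y = 1 → y ∈ H := by
    intro y hy1 hy2
    obtain ⟨k, hk, -⟩ := S.reg _ _ hj1 hj2 hy1 hy2
    rw [← hk]
    exact hH k k.2 _ hwH
  refine ⟨inferInstance, S.pg.to_subgroup H, ?_, ?_, ?_⟩
  · exact isCyclic_of_surjective (resHom K H hH).rangeRestrict
      (resHom K H hH).rangeRestrict_surjective
  · intro x y hx1 hx2 hy1 hy2
    have hx1' : (x : P) ≠ 1 := fun h => hx1 (Subtype.ext h)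
    have hy1' : (y : P) ≠ 1 := fun h => hy1 (Subtype.ext h)
    have hx2' : (x : P) * x = 1 := congrArg Subtype.val hx2
    have hy2' : (y : P) * y = 1 := congrArg Subtype.val hy2
    obtain ⟨k, hk, huniq⟩ := S.reg _ _ hx1' hx2' hy1' hy2'
    refine ⟨⟨resHom K H hH k, ⟨k, rfl⟩⟩, Subtype.ext hk, ?_⟩
    rintro ⟨_, ⟨k', rfl⟩⟩ hk'
    have h1 : (k' : MulAut P) x = y := congrArg Subtype.val hk'
    have := huniq k' h1
    subst this
    rfl
  · obtain ⟨x, y, hxy, hx1, hx2, hy1, hy2⟩ := S.two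
    refine ⟨⟨x, hallinv x hx1 hx2⟩, ⟨y, hallinv y hy1 hy2⟩, ?_, ?_, ?_, ?_, ?_⟩
    · intro h; exact hxy (congrArg Subtype.val h)
    · intro h; exact hx1 (congrArg Subtype.val h)
    · exact Subtype.ext hx2
    · intro h; exact hy1 (congrArg Subtype.val h)
    · exact Subtype.ext hy2

/-- In a nonabelian invariant subgroup, central elements have square one. -/
theorem sub_center_sq {K : Subgroup (MulAut P)} (S : Setup P K) (H : Subgroup P) (hH : KInv K H)
    (hnab : ∃ x ∈ H, ∃ y ∈ H, x * y ≠ y * x) {z : P} (hz : z ∈ H)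
    (hzc : ∀ y ∈ H, z * y = y * z) : z * z = 1 := by
  obtain ⟨x, hx, y, hy, hxy⟩ := hnab
  have hne : H ≠ ⊥ := by
    intro h
    rw [h, Subgroup.mem_bot] at hx hy
    apply hxy
    rw [hx, hy]
  have S' := subSetup S H hH hne
  have h := center_sq_eq_one S' ⟨⟨x, hx⟩, ⟨y, hy⟩, fun h => hxy (congrArg Subtype.val h)⟩
    ⟨z, hz⟩ (by
      rw [Subgroup.mem_center_iff]
      intro g
      exact Subtype.ext (hzc g g.2).symm)
  exact congrArg Subtype.val h

end Cfsg.Agent.Lib.Helper22.Suz
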