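import Mathlib
import Cfsg.Agent.Lib.Helper20.RegField

set_option autoImplicit false

/-!
# Simple modules for a semiregular cyclic operator of order `2 ^ n - 1` (helper22)

An elementary abelian `2`-group `A` with an endomorphism `e`, `e ^ (2 ^ n - 1) = 1`, whose
nontrivial powers fix no nonzero element, and with no proper nonzero `e`-invariant subgroup, has
order `2 ^ n`, the powers of `e` permute its nonzero elements transitively, and `A` can be
identified with `GaloisField 2 n` so that `e` becomes multiplication by a generator.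
-/

namespace Cfsg.Agent.Lib.Helper22.Suz

open Polynomial in
theorem simple_regular {A : Type*} [AddCommGroup A] [Finite A] (h2 : ∀ a : A, a + a = 0)
    (hnt : ∃ a : A, a ≠ 0) (e : AddMonoid.End A) (n : ℕ) (hn : 1 ≤ n)
    (hord : e ^ (2 ^ n - 1) = 1)
    (hsemi : ∀ i, 0 < i → i < 2 ^ n - 1 → ∀ a, (e ^ i) a = a → a = 0)
    (hsimple : ∀ U : AddSubgroup A, (∀ a ∈ U, e a ∈ U) → U = ⊥ ∨ U = ⊤) :
    Nat.card A = 2 ^ n ∧ ∀ a b, a ≠ 0 → b ≠ 0 → ∃ i : ℕ, (e ^ i) a = b := by
  classical
  obtain ⟨a0, ha0⟩ := hnt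
  have hq1 : 1 ≤ 2 ^ n - 1 := by
    have : 2 ^ 1 ≤ 2 ^ n := Nat.pow_le_pow_right (by norm_num) hn
    omega
  have hq : 2 ^ n - 1 + 1 = 2 ^ n := by omega
  -- the subring generated by `e`
  obtain ⟨R, hRdef⟩ : ∃ R : Subring (AddMonoid.End A), R = Subring.closure {e} := ⟨_, rfl⟩
  have heR : e ∈ R := by rw [hRdef]; exact Subring.subset_closure rfl
  have hRe : ∀ r ∈ R, r * e = e * r := by
    intro r hr
    have hle : R ≤ Subring.centralizer {e} := by
      rw [hRdef, Subring.closure_le]
      intro x hx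
      rw [Set.mem_singleton_iff] at hx
      subst hx
      rw [SetLike.mem_coe, Subring.mem_centralizer_iff]
      intro g hg
      rw [Set.mem_singleton_iff] at hg
      rw [hg]
    have := hle hr
    rw [Subring.mem_centralizer_iff] at this
    exact (this e rfl).symm
  have hRcomm : ∀ r ∈ R, ∀ r' ∈ R, r * r' = r' * r := by
    intro r hr r' hr'
    have hle : R ≤ Subring.centralizer {r} := by
      rw [hRdef, Subring.closure_le]
      intro x hx
      rw [Set.mem_singleton_iff] at hx
      subst hx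
      rw [SetLike.mem_coe, Subring.mem_centralizer_iff]
      intro g hg
      rw [Set.mem_singleton_iff] at hg
      rw [hg]
      exact hRe r hr
    have := hle hr'
    rw [Subring.mem_centralizer_iff] at this
    exact this r rfl
  -- characteristic two
  have hone : (1 : AddMonoid.End A) ≠ 0 := by
    intro h
    apply ha0
    have := congrArg (fun f : AddMonoid.End A => f a0) h
    simpa using this
  have htwo : (2 : AddMonoid.End A) = 0 := by
    ext a
    have : (2 : AddMonoid.End A) a = a + a := by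
      rw [← one_add_one_eq_two]
      rfl
    rw [this, h2]
    rfl
  haveI : CharP (AddMonoid.End A) 2 := CharTwo.of_one_ne_zero_of_two_eq_zero hone htwo
  haveI : Fact (Nat.Prime 2) := ⟨Nat.prime_two⟩
  -- Frobenius is the identity on `R`
  have hfrob : ∀ r ∈ R, r ^ 2 ^ n = r := by
    intro r hr
    rw [hRdef] at hr
    induction hr using Subring.closure_induction with
    | mem x hx =>
      rw [Set.mem_singleton_iff] at hx
      subst hx
      rw [← hq, pow_succ, hord, one_mul]
    | zero => exact zero_pow (by positivity)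
    | one => exact one_pow _
    | add x y hx hy ihx ihy =>
      rw [← hRdef] at hx hy
      rw [add_pow_char_pow_of_commute 2 n (hRcomm x hx y hy), ihx, ihy]
    | neg x hx ihx =>
      have : -x = x := by
        rw [neg_eq_iff_add_eq_zero, ← two_mul, htwo, zero_mul]
      rw [this, ihx]
    | mul x y hx hy ihx ihy =>
      rw [← hRdef] at hx hy
      have hc : Commute x y := hRcomm x hx y hy
      rw [hc.mul_pow, ihx, ihy]
  -- nonzero elements of `R` are injective
  have hker : ∀ r ∈ R, ∀ a : A, a ≠ 0 → r a = 0 → r = 0 := by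
    intro r hr a ha hra
    obtain ⟨U, hU⟩ : ∃ U : AddSubgroup A, ∀ b, b ∈ U ↔ r b = 0 :=
      ⟨{ carrier := {b | r b = 0}
         add_mem' := by
           intro b c hb hc
           show r (b + c) = 0
           rw [map_add, hb, hc, add_zero]
         zero_mem' := map_zero r
         neg_mem' := by
           intro b hb
           show r (-b) = 0
           rw [map_neg, hb, neg_zero] }, fun b => Iff.rfl⟩
    have h := hsimple U (by
      intro b hb
      rw [hU] at hb ⊢
      have : r (e b) = e (r b) := by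
        have := congrArg (fun f : AddMonoid.End A => f b) (hRe r hr)
        exact this
      rw [this, hb, map_zero])
    rcases h with h | h
    · exfalso
      apply ha
      have : a ∈ U := (hU a).mpr hra
      rw [h] at this
      exact this
    · ext b
      have : b ∈ U := by rw [h]; trivial
      exact (hU b).mp this
  -- evaluation at `a0`
  have hevinj : ∀ r ∈ R, ∀ r' ∈ R, r a0 = r' a0 → r = r' := by
    intro r hr r' hr' h
    have := hker (r - r') (R.sub_mem hr hr') a0 ha0 (by
      show r a0 - r' a0 = 0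
      rw [h, sub_self])
    exact sub_eq_zero.mp this
  have hevsurj : ∀ b : A, ∃ r ∈ R, r a0 = b := by
    obtain ⟨U, hU⟩ : ∃ U : AddSubgroup A, ∀ b, b ∈ U ↔ ∃ r ∈ R, r a0 = b :=
      ⟨{ carrier := {b | ∃ r ∈ R, r a0 = b}
         add_mem' := by
           rintro _ _ ⟨r, hr, rfl⟩ ⟨r', hr', rfl⟩
           exact ⟨r + r', R.add_mem hr hr', rfl⟩
         zero_mem' := ⟨0, R.zero_mem, rfl⟩
         neg_mem' := by
           rintro _ ⟨r, hr, rfl⟩
           exact ⟨-r, R.neg_mem hr, rfl⟩ }, fun b => Iff.rfl⟩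
    have h := hsimple U (by
      intro b hb
      rw [hU] at hb ⊢
      obtain ⟨r, hr, rfl⟩ := hb
      exact ⟨e * r, R.mul_mem heR hr, rfl⟩)
    rcases h with h | h
    · exfalso
      apply ha0
      have : a0 ∈ U := (hU a0).mpr ⟨1, R.one_mem, rfl⟩
      rw [h] at this
      exact this
    · intro b
      have : b ∈ U := by rw [h]; trivial
      exact (hU b).mp this
  -- `R` is a commutative domain all of whose elements are roots of `X ^ q - X`
  letI : CommRing R :=
    { (inferInstance : Ring R) with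
      mul_comm := fun x y => Subtype.ext (hRcomm x x.2 y y.2) }
  haveI : Nontrivial R := ⟨⟨1, 0, fun h => hone (congrArg Subtype.val h)⟩⟩
  haveI : NoZeroDivisors R := by
    refine ⟨?_⟩
    intro x y hxy
    by_contra hcon
    push Not at hcon
    obtain ⟨hx, hy⟩ := hcon
    have hy' : (y : AddMonoid.End A) a0 ≠ 0 := by
      intro h
      exact hy (Subtype.ext (hker y y.2 a0 ha0 h))
    have hxy' : (x : AddMonoid.End A) ((y : AddMonoid.End A) a0) = 0 := by
      have := congrArg (fun f : R => (f : AddMonoid.End A) a0) hxy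
      exact this
    exact hx (Subtype.ext (hker x x.2 _ hy' hxy'))
  haveI : IsDomain R := NoZeroDivisors.to_isDomain R
  haveI : Finite R := by
    refine Finite.of_injective (fun r : R => (r : AddMonoid.End A) a0) ?_
    intro r r' h
    exact Subtype.ext (hevinj r r.2 r' r'.2 h)
  have hcardR : Nat.card R = Nat.card A := by
    refine Nat.card_congr (Equiv.ofBijective (fun r : R => (r : AddMonoid.End A) a0) ⟨?_, ?_⟩)
    · intro r r' h
      exact Subtype.ext (hevinj r r.2 r' r'.2 h)
    · intro b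
      obtain ⟨r, hr, hb⟩ := hevsurj b
      exact ⟨⟨r, hr⟩, hb⟩
  have hqgt : 1 < 2 ^ n := by omega
  have hRle : Nat.card R ≤ 2 ^ n := by
    letI : Fintype R := Fintype.ofFinite R
    have h1 : (X : R[X]).degree < (X ^ 2 ^ n : R[X]).degree := by
      rw [degree_X_pow, degree_X]
      exact_mod_cast hqgt
    have hdeg : ((X : R[X]) ^ 2 ^ n - X).natDegree = 2 ^ n := by
      rw [natDegree_eq_of_degree_eq (degree_sub_eq_left_of_degree_lt h1), natDegree_X_pow]
    have hne : ((X : R[X]) ^ 2 ^ n - X) ≠ 0 := by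
      apply ne_zero_of_natDegree_gt (n := 1)
      rw [hdeg]
      exact hqgt
    have hsub : (Finset.univ : Finset R).val ⊆ ((X : R[X]) ^ 2 ^ n - X).roots := by
      intro r _
      rw [mem_roots hne, IsRoot.def, eval_sub, eval_pow, eval_X, sub_eq_zero]
      apply Subtype.ext
      rw [SubmonoidClass.coe_pow]
      exact hfrob r r.2
    have := card_le_degree_of_subset_roots hsub
    rw [hdeg, Finset.card_univ, ← Nat.card_eq_fintype_card] at this
    exact this
  have hAle : Nat.card A ≤ 2 ^ n := hcardR ▸ hRle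
  -- orbits
  have hpowinj : ∀ i : ℕ, i ≤ 2 ^ n - 1 → ∀ b c : A, (e ^ i) b = (e ^ i) c → b = c := by
    intro i hi b c hbc
    have h : e ^ (2 ^ n - 1 - i) * e ^ i = 1 := by
      rw [← pow_add, Nat.sub_add_cancel hi, hord]
    have hb : (e ^ (2 ^ n - 1 - i)) ((e ^ i) b) = b :=
      congrArg (fun f : AddMonoid.End A => f b) h
    have hc : (e ^ (2 ^ n - 1 - i)) ((e ^ i) c) = c :=
      congrArg (fun f : AddMonoid.End A => f c) h
    rw [← hb, ← hc, hbc]
  have horb : ∀ a : A, a ≠ 0 → ∀ i j, i < 2 ^ n - 1 → j < 2 ^ n - 1 → (e ^ i) a = (e ^ j) a →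
      i = j := by
    have key : ∀ a : A, a ≠ 0 → ∀ i j, i < j → j < 2 ^ n - 1 → (e ^ i) a ≠ (e ^ j) a := by
      intro a ha i j hij hj h
      apply ha
      apply hsemi (j - i) (by omega) (by omega) a
      apply hpowinj i (by omega)
      have h3 : e ^ i * e ^ (j - i) = e ^ j := by
        rw [← pow_add, Nat.add_sub_cancel' hij.le]
      have h4 : (e ^ i) ((e ^ (j - i)) a) = (e ^ j) a :=
        congrArg (fun f : AddMonoid.End A => f a) h3
      rw [h4, ← h]
    intro a ha i j hi hj h
    rcases lt_trichotomy i j with hlt | heq | hgt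
    · exact absurd h (key a ha i j hlt hj)
    · exact heq
    · exact absurd h.symm (key a ha j i hgt hi)
  haveI : Fintype A := Fintype.ofFinite A
  have hcount : ∀ a : A, a ≠ 0 → 2 ^ n ≤ Nat.card A ∧
      (Nat.card A = 2 ^ n → ∀ b, b ≠ 0 → ∃ i : ℕ, (e ^ i) a = b) := by
    intro a ha
    let f : Fin (2 ^ n - 1) → {b : A // b ≠ 0} := fun i => ⟨(e ^ (i : ℕ)) a, by
      intro h
      apply ha
      apply hpowinj i i.2.le
      rw [h, map_zero]⟩
    have hf : Function.Injective f := by
      intro i j hij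
      have h : (e ^ (i : ℕ)) a = (e ^ (j : ℕ)) a := congrArg Subtype.val hij
      exact Fin.ext (horb a ha i j i.2 j.2 h)
    have hc1 : Fintype.card {b : A // b ≠ 0} = Fintype.card A - 1 := by
      rw [Fintype.card_subtype_compl, Fintype.card_subtype_eq]
    have hle := Fintype.card_le_of_injective f hf
    rw [Fintype.card_fin, hc1] at hle
    have hpos : 0 < Fintype.card A := Fintype.card_pos_iff.mpr ⟨a⟩
    rw [Nat.card_eq_fintype_card]
    refine ⟨by omega, fun hcard b hb => ?_⟩
    have hbij : Function.Bijective f := by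
      rw [Fintype.bijective_iff_injective_and_card]
      refine ⟨hf, ?_⟩
      rw [Fintype.card_fin, hc1, hcard]
    obtain ⟨i, hi⟩ := hbij.2 ⟨b, hb⟩
    exact ⟨i, congrArg Subtype.val hi⟩
  have hcard : Nat.card A = 2 ^ n := le_antisymm hAle (hcount a0 ha0).1
  exact ⟨hcard, fun a b ha hb => (hcount a ha).2 hcard b hb⟩

end Cfsg.Agent.Lib.Helper22.Suz

namespace Cfsg.Agent.Lib.Helper22.Suz

/-- Coordinates on a simple module: an additive bijection onto `GaloisField 2 n` turning the
operator into multiplication by a generator of the multiplicative group. -/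
theorem simple_coord {A : Type*} [AddCommGroup A] [Finite A] (h2 : ∀ a : A, a + a = 0)
    (hnt : ∃ a : A, a ≠ 0) (e : AddMonoid.End A) (n : ℕ) (hn : 1 ≤ n)
    (hord : e ^ (2 ^ n - 1) = 1)
    (hsemi : ∀ i, 0 < i → i < 2 ^ n - 1 → ∀ a, (e ^ i) a = a → a = 0)
    (hsimple : ∀ U : AddSubgroup A, (∀ a ∈ U, e a ∈ U) → U = ⊥ ∨ U = ⊤) :
    ∃ (ι : A → GaloisField 2 n) (μ : GaloisField 2 n), Function.Bijective ι ∧
      (∀ a b, ι (a + b) = ι a + ι b) ∧ (∀ a, ι (e a) = μ * ι a) ∧
      (∀ f : GaloisField 2 n, f ≠ 0 → ∃ i : ℕ, f = μ ^ i) := by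
  classical
  haveI : Fact (Nat.Prime 2) := ⟨Nat.prime_two⟩
  obtain ⟨hcard, htrans⟩ := simple_regular h2 hnt e n hn hord hsemi hsimple
  obtain ⟨a0, ha0⟩ := hnt
  have hq1 : 1 ≤ 2 ^ n - 1 := by
    have : 2 ^ 1 ≤ 2 ^ n := Nat.pow_le_pow_right (by norm_num) hn
    omega
  -- `e` as a unit
  have hinv1 : e * e ^ (2 ^ n - 1 - 1) = 1 := by
    rw [← pow_succ', Nat.sub_add_cancel hq1, hord]
  have hinv2 : e ^ (2 ^ n - 1 - 1) * e = 1 := by
    rw [← pow_succ, Nat.sub_add_cancel hq1, hord]
  let u : (AddMonoid.End A)ˣ := ⟨e, e ^ (2 ^ n - 1 - 1), hinv1, hinv2⟩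
  have hu : (u : AddMonoid.End A) = e := rfl
  have hupow : u ^ (2 ^ n - 1) = 1 := by
    apply Units.ext
    rw [Units.val_pow_eq_pow_val, hu, hord]
    rfl
  have hfin : IsOfFinOrder u := isOfFinOrder_iff_pow_eq_one.mpr ⟨2 ^ n - 1, by omega, hupow⟩
  let K := Subgroup.zpowers u
  have hKpow : ∀ k : K, ∃ i : ℕ, (k : (AddMonoid.End A)ˣ) = u ^ i := by
    intro k
    have := (hfin.mem_powers_iff_mem_zpowers).mpr k.2
    obtain ⟨i, hi⟩ := (Submonoid.mem_powers_iff _ _).mp this
    exact ⟨i, hi.symm⟩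
  have hKc : ∀ k k' : K, k * k' = k' * k := by
    intro k k'
    obtain ⟨i, hi⟩ := hKpow k
    obtain ⟨j, hj⟩ := hKpow k'
    apply Subtype.ext
    show (k : (AddMonoid.End A)ˣ) * k' = k' * k
    rw [hi, hj, ← pow_add, ← pow_add, add_comm]
  obtain ⟨ι, χ, hbij, hadd, hact, hχmul, hχsurj, hι0, hχ1⟩ :=
    Cfsg.Agent.Lib.Helper20.RegField.main_add (A := A) (K := K) hKc
      (fun k => ((k : (AddMonoid.End A)ˣ) : AddMonoid.End A)) rfl (fun k k' => rfl) a0 ha0
      (by
        intro y hy
        obtain ⟨i, hi⟩ := htrans a0 y ha0 hy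
        refine ⟨⟨u ^ i, Subgroup.pow_mem _ (Subgroup.mem_zpowers u) i⟩, ?_⟩
        show ((u ^ i : (AddMonoid.End A)ˣ) : AddMonoid.End A) a0 = y
        rw [Units.val_pow_eq_pow_val, hu]
        exact hi) 2 n hcard
  let k1 : K := ⟨u, Subgroup.mem_zpowers u⟩
  have hχpow : ∀ i : ℕ, χ (k1 ^ i) = χ k1 ^ i := by
    intro i
    induction i with
    | zero => rw [pow_zero, pow_zero, hχ1]
    | succ i ih => rw [pow_succ, hχmul, ih, pow_succ]
  refine ⟨ι, χ k1, hbij, hadd, fun a => hact k1 a, ?_⟩
  intro f hf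
  obtain ⟨k, hk⟩ := hχsurj f hf
  obtain ⟨i, hi⟩ := hKpow k
  refine ⟨i, ?_⟩
  have : k = k1 ^ i := Subtype.ext (by rw [hi]; rfl)
  rw [← hk, this, hχpow]

end Cfsg.Agent.Lib.Helper22.Suz
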