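import Mathlib
import Cfsg.Agent.Lib.Helper22.SuzBasic
import Cfsg.Agent.Lib.Helper22.SuzSimple

set_option autoImplicit false

/-!
# Suzuki 2-groups: coordinates on invariant sections (helper22)
-/

namespace Cfsg.Agent.Lib.Helper22.Suz

open Cfsg.Agent.Lib.Helper20.SuzTwist

variable {P : Type*} [Group P]

/-- The basic context: a nonabelian set-up, a generator `ξ` of `K`, `|Z(P)| = 2 ^ n`. -/
structure PreCtx (K : Subgroup (MulAut P)) (ξ : MulAut P) (n : ℕ) : Prop where
  S : Setup P K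
  nab : ∃ x y : P, x * y ≠ y * x
  ξK : ξ ∈ K
  gen : ∀ φ ∈ K, ∃ m : ℕ, φ = ξ ^ m
  n2 : 2 ≤ n
  cardZ : Nat.card (Subgroup.center P) = 2 ^ n
  cardK : Nat.card K = 2 ^ n - 1
  ordξ : ξ ^ (2 ^ n - 1) = 1
  powne : ∀ i, 0 < i → i < 2 ^ n - 1 → ξ ^ i ≠ 1

theorem PreCtx.Z2 {K : Subgroup (MulAut P)} {ξ : MulAut P} {n : ℕ} (C : PreCtx K ξ n) :
    ∀ z ∈ Subgroup.center P, z * z = 1 := center_sq_eq_one C.S C.nab

theorem PreCtx.memZ {K : Subgroup (MulAut P)} {ξ : MulAut P} {n : ℕ} (C : PreCtx K ξ n) {x : P}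
    (hx : x * x = 1) : x ∈ Subgroup.center P := by
  rw [Subgroup.mem_center_iff]
  intro g
  exact (C.S.cen x hx g).symm

theorem PreCtx.pow_mem {K : Subgroup (MulAut P)} {ξ : MulAut P} {n : ℕ} (C : PreCtx K ξ n)
    (i : ℕ) : ξ ^ i ∈ K := K.pow_mem C.ξK i

theorem exists_prectx {K : Subgroup (MulAut P)} (S : Setup P K)
    (hnab : ∃ x y : P, x * y ≠ y * x) : ∃ (ξ : MulAut P) (n : ℕ), PreCtx K ξ n := by
  classical
  haveI := S.fin
  haveI : Fact (Nat.Prime 2) := ⟨Nat.prime_two⟩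
  have hZ2 := center_sq_eq_one S hnab
  obtain ⟨n, hn⟩ := (S.pg.to_subgroup (Subgroup.center P)).exists_card_eq
  obtain ⟨ξ, hξK, hgen⟩ := exists_gen K S.cyc
  obtain ⟨x0, y0, hxy, hx1, hx2, hy1, hy2⟩ := S.two
  have memZ : ∀ x : P, x * x = 1 → x ∈ Subgroup.center P := by
    intro x hx
    rw [Subgroup.mem_center_iff]
    intro g
    exact (S.cen x hx g).symm
  -- `|K| = 2 ^ n - 1`
  have hcardK : Nat.card K = 2 ^ n - 1 := by
    have hbij : Function.Bijective (fun k : K =>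
        (⟨⟨(k : MulAut P) x0, memZ _ (by rw [← map_mul, hx2, map_one])⟩, by
          intro h
          apply hx1
          have h1 : (k : MulAut P) x0 = 1 := congrArg Subtype.val h
          exact (k : MulAut P).injective (h1.trans (map_one _).symm)⟩ :
          {z : Subgroup.center P // z ≠ 1})) := by
      constructor
      · intro k k' h
        have h1 : (k : MulAut P) x0 = (k' : MulAut P) x0 :=
          congrArg (fun z : {z : Subgroup.center P // z ≠ 1} => ((z : Subgroup.center P) : P)) h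
        have hk'1 : (k' : MulAut P) x0 ≠ 1 := by
          intro h2
          apply hx1
          exact (k' : MulAut P).injective (h2.trans (map_one _).symm)
        have hk'2 : (k' : MulAut P) x0 * (k' : MulAut P) x0 = 1 := by
          rw [← map_mul, hx2, map_one]
        obtain ⟨k0, -, huniq⟩ := S.reg x0 _ hx1 hx2 hk'1 hk'2
        rw [huniq k h1, huniq k' rfl]
      · rintro ⟨⟨z, hz⟩, hz1⟩
        have hz1' : z ≠ 1 := fun h => hz1 (Subtype.ext h)
        obtain ⟨k, hk, -⟩ := S.reg x0 z hx1 hx2 hz1' (hZ2 z hz)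
        exact ⟨k, Subtype.ext (Subtype.ext hk)⟩
    rw [Nat.card_congr (Equiv.ofBijective _ hbij)]
    haveI : Fintype (Subgroup.center P) := Fintype.ofFinite _
    rw [Nat.card_eq_fintype_card, Fintype.card_subtype_compl, Fintype.card_subtype_eq,
      ← Nat.card_eq_fintype_card, hn]
  have hKz : K = Subgroup.zpowers ξ := by
    apply le_antisymm
    · intro φ hφ
      obtain ⟨m, rfl⟩ := hgen φ hφ
      exact Subgroup.pow_mem _ (Subgroup.mem_zpowers ξ) m
    · rw [Subgroup.zpowers_le]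
      exact hξK
  have hord : orderOf ξ = 2 ^ n - 1 := by
    rw [← hcardK, hKz, Nat.card_zpowers]
  have hn2 : 2 ≤ n := by
    by_contra hlt
    have h3 : 3 ≤ Nat.card (Subgroup.center P) := by
      haveI : Fintype (Subgroup.center P) := Fintype.ofFinite _
      rw [Nat.card_eq_fintype_card]
      have : 2 < Fintype.card (Subgroup.center P) := by
        rw [Fintype.two_lt_card_iff]
        refine ⟨1, ⟨x0, memZ x0 hx2⟩, ⟨y0, memZ y0 hy2⟩, ?_, ?_, ?_⟩
        · intro h; exact hx1 (congrArg Subtype.val h).symm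
        · intro h; exact hy1 (congrArg Subtype.val h).symm
        · intro h; exact hxy (congrArg Subtype.val h)
      omega
    rw [hn] at h3
    have : n = 0 ∨ n = 1 := by omega
    rcases this with h | h <;> rw [h] at h3 <;> norm_num at h3
  refine ⟨ξ, n, S, hnab, hξK, hgen, hn2, hn, hcardK, ?_, ?_⟩
  · rw [← hord, pow_orderOf_eq_one]
  · intro i hi hlt
    exact pow_ne_one_of_lt_orderOf (by omega) (by rw [hord]; exact hlt)


/-- Coordinates on an invariant section `H / B` with no proper invariant subsections. -/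
theorem section_coord {K : Subgroup (MulAut P)} {ξ : MulAut P} {n : ℕ} (C : PreCtx K ξ n)
    (B H : Subgroup P) (hB : KInv K B) (hH : KInv K H) (hBH : B ≤ H)
    (hne : ∃ x ∈ H, x ∉ B) (hsq : ∀ x ∈ H, x * x ∈ B)
    (hcm : ∀ x ∈ H, ∀ y ∈ H, x⁻¹ * y⁻¹ * x * y ∈ B)
    (hsimp : ∀ B' : Subgroup P, KInv K B' → B ≤ B' → B' ≤ H → B' = B ∨ B' = H) :
    ∃ (c : P → GaloisField 2 n) (μ : GaloisField 2 n),
      (∀ x ∈ H, ∀ y ∈ H, c (x * y) = c x + c y) ∧ (∀ x ∈ H, c x = 0 ↔ x ∈ B) ∧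
      (∀ f, ∃ x ∈ H, c x = f) ∧ (∀ x ∈ H, c (ξ x) = μ * c x) ∧
      (∀ f : GaloisField 2 n, f ≠ 0 → ∃ i : ℕ, f = μ ^ i) ∧ μ ≠ 1 ∧ μ ≠ 0 := by
  classical
  have S := C.S
  haveI := S.fin
  have hn1 : 1 ≤ n := le_trans (by norm_num) C.n2
  -- the quotient
  haveI hNn : (B.subgroupOf H).Normal := by
    refine ⟨fun b hb h => ?_⟩
    rw [Subgroup.mem_subgroupOf] at hb ⊢
    have h1 : ((h * b * h⁻¹ : H) : P) = (b : P) * ((b : P)⁻¹ * ((h : P)⁻¹)⁻¹ * b * (h : P)⁻¹) := by
      push_cast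
      group
    rw [h1]
    exact B.mul_mem hb (hcm b b.2 _ (H.inv_mem h.2))
  letI : CommGroup (H ⧸ B.subgroupOf H) :=
    { (inferInstance : Group (H ⧸ B.subgroupOf H)) with
      mul_comm := by
        intro a b
        induction a using QuotientGroup.induction_on with
        | H x =>
        induction b using QuotientGroup.induction_on with
        | H y =>
        rw [← QuotientGroup.mk_mul, ← QuotientGroup.mk_mul, QuotientGroup.eq,
          Subgroup.mem_subgroupOf]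
        have h1 : (((x * y)⁻¹ * (y * x) : H) : P) = (y : P)⁻¹ * (x : P)⁻¹ * y * x := by
          push_cast
          group
        rw [h1]
        exact hcm y y.2 x x.2 }
  -- the induced operator
  let ξH : H →* H := (resHom K H hH ⟨ξ, C.ξK⟩).toMonoidHom
  have hξH : ∀ x : H, ((ξH x : H) : P) = ξ x := fun x => rfl
  have hmap : B.subgroupOf H ≤ (B.subgroupOf H).comap ξH := by
    intro x hx
    rw [Subgroup.mem_comap, Subgroup.mem_subgroupOf, hξH]
    exact hB ξ C.ξK _ (Subgroup.mem_subgroupOf.mp hx)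
  let eQ : (H ⧸ B.subgroupOf H) →* (H ⧸ B.subgroupOf H) :=
    QuotientGroup.map (B.subgroupOf H) (B.subgroupOf H) ξH hmap
  let e : AddMonoid.End (Additive (H ⧸ B.subgroupOf H)) := MonoidHom.toAdditive eQ
  let mkH : ∀ x : P, x ∈ H → Additive (H ⧸ B.subgroupOf H) :=
    fun x hx => Additive.ofMul (QuotientGroup.mk (⟨x, hx⟩ : H))
  have hmk_surj : ∀ a : Additive (H ⧸ B.subgroupOf H), ∃ (x : P) (hx : x ∈ H), mkH x hx = a := by
    intro a
    obtain ⟨q, rfl⟩ := Additive.ofMul.surjective a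
    obtain ⟨x, rfl⟩ := QuotientGroup.mk_surjective q
    exact ⟨x, x.2, rfl⟩
  have hmk_mul : ∀ (x y : P) (hx : x ∈ H) (hy : y ∈ H),
      mkH (x * y) (H.mul_mem hx hy) = mkH x hx + mkH y hy := fun x y hx hy => rfl
  have hmk_zero : ∀ (x : P) (hx : x ∈ H), mkH x hx = 0 ↔ x ∈ B := by
    intro x hx
    show (QuotientGroup.mk (⟨x, hx⟩ : H) : H ⧸ B.subgroupOf H) = 1 ↔ x ∈ B
    rw [QuotientGroup.eq_one_iff, Subgroup.mem_subgroupOf]
  have hmk_eq : ∀ (x y : P) (hx : x ∈ H) (hy : y ∈ H), mkH x hx = mkH y hy ↔ x⁻¹ * y ∈ B := by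
    intro x y hx hy
    show (QuotientGroup.mk (⟨x, hx⟩ : H) : H ⧸ B.subgroupOf H) = QuotientGroup.mk ⟨y, hy⟩ ↔ _
    rw [QuotientGroup.eq, Subgroup.mem_subgroupOf]
    rfl
  have he_mk : ∀ (x : P) (hx : x ∈ H), e (mkH x hx) = mkH (ξ x) (hH ξ C.ξK x hx) := by
    intro x hx
    rfl
  have hpowH : ∀ (i : ℕ) (x : P), x ∈ H → (ξ ^ i) x ∈ H :=
    fun i x hx => hH _ (C.pow_mem i) x hx
  have he_pow : ∀ (i : ℕ) (x : P) (hx : x ∈ H),
      (e ^ i) (mkH x hx) = mkH ((ξ ^ i) x) (hpowH i x hx) := by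
    intro i
    induction i with
    | zero => intro x hx; rfl
    | succ i ih =>
      intro x hx
      have h1 : (e ^ (i + 1)) (mkH x hx) = e ((e ^ i) (mkH x hx)) := by
        rw [pow_succ']
        rfl
      rw [h1, ih x hx, he_mk]
      have h2 : ξ ((ξ ^ i) x) = (ξ ^ (i + 1)) x := by
        rw [pow_succ', MulAut.mul_apply]
      simp only [h2]
  -- hypotheses of `simple_coord`
  have h2 : ∀ a : Additive (H ⧸ B.subgroupOf H), a + a = 0 := by
    intro a
    obtain ⟨x, hx, rfl⟩ := hmk_surj a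
    rw [← hmk_mul, hmk_zero]
    exact hsq x hx
  have hnt : ∃ a : Additive (H ⧸ B.subgroupOf H), a ≠ 0 := by
    obtain ⟨x, hx, hxB⟩ := hne
    exact ⟨mkH x hx, fun h => hxB ((hmk_zero x hx).mp h)⟩
  have hord : e ^ (2 ^ n - 1) = 1 := by
    ext a
    obtain ⟨x, hx, rfl⟩ := hmk_surj a
    rw [he_pow _ x hx]
    simp only [C.ordξ]
    rfl
  have hsemi : ∀ i, 0 < i → i < 2 ^ n - 1 → ∀ a, (e ^ i) a = a → a = 0 := by
    intro i hi hlt a ha
    obtain ⟨x, hx, rfl⟩ := hmk_surj a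
    rw [he_pow _ x hx, hmk_eq] at ha
    rw [hmk_zero]
    apply mem_of_twist_mem S (C.pow_mem i) (C.powne i hi hlt) B (hB _ (C.pow_mem i))
    have h1 : x⁻¹ * (ξ ^ i) x = (((ξ ^ i) x)⁻¹ * x)⁻¹ := by group
    rw [h1]
    exact B.inv_mem ha
  have hsimple : ∀ U : AddSubgroup (Additive (H ⧸ B.subgroupOf H)), (∀ a ∈ U, e a ∈ U) →
      U = ⊥ ∨ U = ⊤ := by
    intro U hU
    have hUpow : ∀ (i : ℕ), ∀ a ∈ U, (e ^ i) a ∈ U := by
      intro i
      induction i with
      | zero => intro a ha; exact ha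
      | succ i ih =>
        intro a ha
        have h1 : (e ^ (i + 1)) a = e ((e ^ i) a) := by
          rw [pow_succ']
          rfl
        rw [h1]
        exact hU _ (ih a ha)
    let B' : Subgroup P :=
      { carrier := {x | ∃ hx : x ∈ H, mkH x hx ∈ U}
        mul_mem' := by
          rintro x y ⟨hx, hxU⟩ ⟨hy, hyU⟩
          exact ⟨H.mul_mem hx hy, by rw [hmk_mul x y hx hy]; exact U.add_mem hxU hyU⟩
        one_mem' := ⟨H.one_mem, by
          have : mkH 1 H.one_mem = 0 := (hmk_zero 1 H.one_mem).mpr B.one_mem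
          rw [this]
          exact U.zero_mem⟩
        inv_mem' := by
          rintro x ⟨hx, hxU⟩
          refine ⟨H.inv_mem hx, ?_⟩
          have : mkH x⁻¹ (H.inv_mem hx) = -mkH x hx := by
            rw [eq_neg_iff_add_eq_zero, ← hmk_mul x⁻¹ x (H.inv_mem hx) hx, hmk_zero, inv_mul_cancel]
            exact B.one_mem
          rw [this]
          exact U.neg_mem hxU }
    have hB'mem : ∀ x, x ∈ B' ↔ ∃ hx : x ∈ H, mkH x hx ∈ U := fun x => Iff.rfl
    have hB'K : KInv K B' := by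
      intro φ hφ x hx
      obtain ⟨m, rfl⟩ := C.gen φ hφ
      obtain ⟨hxH, hxU⟩ := hx
      refine ⟨hpowH m x hxH, ?_⟩
      rw [← he_pow m x hxH]
      exact hUpow m _ hxU
    have hBB' : B ≤ B' := by
      intro x hx
      refine ⟨hBH hx, ?_⟩
      rw [(hmk_zero x (hBH hx)).mpr hx]
      exact U.zero_mem
    have hB'H : B' ≤ H := fun x hx => hx.1
    rcases hsimp B' hB'K hBB' hB'H with h | h
    · left
      rw [eq_bot_iff]
      intro a ha
      obtain ⟨x, hx, rfl⟩ := hmk_surj a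
      have : x ∈ B' := ⟨hx, ha⟩
      rw [h] at this
      rw [AddSubgroup.mem_bot, hmk_zero]
      exact this
    · right
      rw [eq_top_iff]
      intro a _
      obtain ⟨x, hx, rfl⟩ := hmk_surj a
      have : x ∈ B' := by rw [h]; exact hx
      obtain ⟨hx', hxU⟩ := this
      exact hxU
  obtain ⟨ι, μ, hbij, hadd, hact, hgen⟩ := simple_coord h2 hnt e n hn1 hord hsemi hsimple
  have hι0 : ι 0 = 0 := by
    have := hadd 0 0
    rw [add_zero] at this
    exact left_eq_add.mp this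
  -- an element different from `0`, `1`
  obtain ⟨f0, hf00, hf01⟩ : ∃ f0 : GaloisField 2 n, f0 ≠ 0 ∧ f0 ≠ 1 := by
    haveI : Fintype (GaloisField 2 n) := Fintype.ofFinite _
    have hcard : Fintype.card (GaloisField 2 n) = 2 ^ n := by
      rw [← Nat.card_eq_fintype_card, GaloisField.card 2 n (by omega)]
    have h4 : 2 < Fintype.card (GaloisField 2 n) := by
      rw [hcard]
      have : 2 ^ 2 ≤ 2 ^ n := Nat.pow_le_pow_right (by norm_num) C.n2
      omega
    obtain ⟨a, b, c, hab, hac, hbc⟩ := Fintype.two_lt_card_iff.mp h4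
    by_cases ha0 : a = 0
    · by_cases hb1 : b = 1
      · exact ⟨c, fun h => hac (ha0.trans h.symm), fun h => hbc (hb1.trans h.symm)⟩
      · exact ⟨b, fun h => hab (ha0.trans h.symm), hb1⟩
    · by_cases ha1 : a = 1
      · by_cases hb0 : b = 0
        · exact ⟨c, fun h => hbc (hb0.trans h.symm), fun h => hac (ha1.trans h.symm)⟩
        · exact ⟨b, hb0, fun h => hab (ha1.trans h.symm)⟩
      · exact ⟨a, ha0, ha1⟩
  obtain ⟨i0, hi0⟩ := hgen f0 hf00
  refine ⟨fun x => if hx : x ∈ H then ι (mkH x hx) else 0, μ, ?_, ?_, ?_, ?_, hgen, ?_, ?_⟩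
  · intro x hx y hy
    simp only [dif_pos hx, dif_pos hy, dif_pos (H.mul_mem hx hy)]
    rw [hmk_mul, hadd]
  · intro x hx
    simp only [dif_pos hx]
    rw [← hmk_zero x hx]
    constructor
    · intro h
      apply hbij.1
      rw [h, hι0]
    · intro h
      rw [h, hι0]
  · intro f
    obtain ⟨a, rfl⟩ := hbij.2 f
    obtain ⟨x, hx, rfl⟩ := hmk_surj a
    exact ⟨x, hx, by simp only [dif_pos hx]⟩
  · intro x hx
    simp only [dif_pos hx, dif_pos (hH ξ C.ξK x hx)]
    rw [← he_mk, hact]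
  · intro h
    apply hf01
    rw [hi0, h, one_pow]
  · intro h
    rw [h] at hi0
    rcases Nat.eq_zero_or_pos i0 with h0 | h0
    · apply hf01
      rw [hi0, h0, pow_zero]
    · apply hf00
      rw [hi0, zero_pow (by omega)]

end Cfsg.Agent.Lib.Helper22.Suz
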