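import Mathlib
import Cfsg.Agent.S1140
import Cfsg.Agent.Lib.Helper20.HigmanQ

set_option autoImplicit false

/-!
# Field computations for Suzuki 2-groups (helper22)

Biadditive maps on a finite field of characteristic two that are semilinear for generators of
the multiplicative group are monomials `c σ(x) τ(y)`; a vanishing criterion for biadditive maps
satisfying two symmetry identities.
-/

namespace Cfsg.Agent.Lib.Helper22.Suz

open Cfsg.Agent.S1140 Cfsg.Agent.Lib.Helper20.HigmanQ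

variable {F : Type*} [Field F] [Fintype F] [CharP F 2]

/-- A biadditive map `b` with `b (μ g) (λ z) = λ b g z`, `λ` a generator and `μ ≠ 1`, is a
monomial `c σ(g) τ(z)` with `σ μ τ λ = λ` and `τ ≠ 1`. -/
theorem monomial_of_equivariant (lam μ : F) (hlam : ∀ x : F, x ≠ 0 → ∃ i : ℕ, x = lam ^ i)
    (hlam0 : lam ≠ 0) (hμ : μ ≠ 1)
    (b : F →+ F →+ F) (hb : ∀ g z, b (μ * g) (lam * z) = lam * b g z)
    (hb0 : ∃ g z, b g z ≠ 0) :
    ∃ (c : F) (σ τ : F ≃+* F), c ≠ 0 ∧ (∀ g z, b g z = c * (σ g * τ z)) ∧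
      σ μ * τ lam = lam ∧ τ ≠ RingEquiv.refl F := by
  classical
  haveI : Finite (F ≃+* F) := finite_aut
  letI : Fintype (F ≃+* F) := Fintype.ofFinite _
  obtain ⟨s, c, hc⟩ := (result (F := F)).2.2 b
  obtain ⟨C, hCdef⟩ : ∃ C : (F ≃+* F) × (F ≃+* F) → F, ∀ p, C p = if p ∈ s then c p else 0 :=
    ⟨_, fun _ => rfl⟩
  have hbC : ∀ x y, b x y = ∑ p : (F ≃+* F) × (F ≃+* F), C p * (p.1 x * p.2 y) := by
    intro x y
    rw [hc x y]
    rw [← Finset.sum_filter_add_sum_filter_not Finset.univ (fun p => p ∈ s)]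
    have h2 : ∑ p ∈ Finset.univ.filter (fun p => ¬ p ∈ s), C p * (p.1 x * p.2 y) = 0 := by
      apply Finset.sum_eq_zero
      intro p hp
      rw [Finset.mem_filter] at hp
      rw [hCdef, if_neg hp.2, zero_mul]
    rw [h2, add_zero]
    have h3 : Finset.univ.filter (fun p => p ∈ s) = s := by
      ext p
      simp
    rw [h3]
    refine Finset.sum_congr rfl (fun p hp => ?_)
    rw [hCdef, if_pos hp]
  -- equivariance on coefficients
  have hcoef : ∀ p, C p * (p.1 μ * p.2 lam - lam) = 0 := by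
    apply indep2
    intro x y
    have h := hb x y
    rw [hbC, hbC, Finset.mul_sum] at h
    rw [← sub_eq_zero, ← Finset.sum_sub_distrib] at h
    rw [← h]
    refine Finset.sum_congr rfl (fun p _ => ?_)
    rw [map_mul, map_mul]
    ring
  have hsupp : ∀ p, C p ≠ 0 → p.1 μ * p.2 lam = lam := by
    intro p hp
    have := hcoef p
    rcases mul_eq_zero.mp this with h | h
    · exact absurd h hp
    · exact sub_eq_zero.mp h
  -- some coefficient is nonzero
  obtain ⟨p0, hp0⟩ : ∃ p0, C p0 ≠ 0 := by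
    by_contra hcon
    push Not at hcon
    obtain ⟨g, z, hgz⟩ := hb0
    apply hgz
    rw [hbC]
    apply Finset.sum_eq_zero
    intro p _
    rw [hcon p, zero_mul]
  have hnot : ∀ p : (F ≃+* F) × (F ≃+* F), p.1 μ * p.2 lam = lam → p.2 ≠ RingEquiv.refl F := by
    intro p hp h
    rw [h] at hp
    have h1 : p.1 μ * lam = 1 * lam := by rw [one_mul]; exact hp
    have h2 : p.1 μ = 1 := mul_right_cancel₀ hlam0 h1
    apply hμ
    have h3 : p.1 μ = p.1 1 := by rw [h2, map_one]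
    exact p.1.injective h3
  -- uniqueness of the support
  have huniq : ∀ p, C p ≠ 0 → p = p0 := by
    intro p hp
    have e0 := hsupp p0 hp0
    have e1 := hsupp p hp
    obtain ⟨σ, τ⟩ := p0
    obtain ⟨σ', τ'⟩ := p
    simp only at e0 e1
    set ρ : F ≃+* F := σ.symm.trans σ' with hρ
    have hρσ : ∀ x, ρ (σ x) = σ' x := by
      intro x
      simp [hρ]
    have hτlam : τ lam ≠ 0 := by
      intro h
      apply hlam0
      have : τ lam = τ 0 := by rw [h, map_zero]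
      exact τ.injective this
    have e2 : ρ lam * τ' lam = (RingEquiv.refl F) lam * (τ.trans ρ) lam := by
      have h1 : ρ (σ μ * τ lam) = ρ lam := by rw [e0]
      rw [map_mul, hρσ] at h1
      -- σ' μ * ρ (τ lam) = ρ lam
      show ρ lam * τ' lam = lam * ρ (τ lam)
      calc ρ lam * τ' lam = (σ' μ * ρ (τ lam)) * τ' lam := by rw [h1]
        _ = (σ' μ * τ' lam) * ρ (τ lam) := by ring
        _ = lam * ρ (τ lam) := by rw [e1]
    have e3 := prod_eq_of_gen lam hlam ρ τ' (RingEquiv.refl F) (τ.trans ρ) e2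
    rcases pair_unique ρ τ' (RingEquiv.refl F) (τ.trans ρ) e3 with ⟨h1, h2⟩ | ⟨h1, h2⟩
    · have hσ : σ' = σ := by
        ext x
        rw [← hρσ, h1]
        rfl
      have hτ : τ' = τ := by
        rw [h2, h1]
        ext x
        rfl
      rw [hσ, hτ]
    · exact absurd h2 (hnot (σ', τ') e1)
  refine ⟨C p0, p0.1, p0.2, hp0, ?_, hsupp p0 hp0, hnot p0 (hsupp p0 hp0)⟩
  intro g z
  rw [hbC]
  apply Finset.sum_eq_single p0
  · intro p _ hp
    by_cases h : C p = 0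
    · rw [h, zero_mul]
    · exact absurd (huniq p h) hp
  · intro h
    exact absurd (Finset.mem_univ _) h

/-- A biadditive map `Γ`, semilinear for `(μ₁, μ₂; λ)`, satisfying the two symmetry identities
with respect to monomial pairings `c₁ σ₁ τ₁`, `c₂ σ₂ τ₂` (with `τ₁, τ₂ ≠ 1`), vanishes. -/
theorem gamma_zero (lam μ₁ μ₂ : F) (hlam : ∀ x : F, x ≠ 0 → ∃ i : ℕ, x = lam ^ i)
    (hlam0 : lam ≠ 0) (c₁ c₂ : F) (σ₁ τ₁ σ₂ τ₂ : F ≃+* F) (hc₁ : c₁ ≠ 0) (hc₂ : c₂ ≠ 0)
    (h₁ : σ₁ μ₁ * τ₁ lam = lam) (h₂ : σ₂ μ₂ * τ₂ lam = lam)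
    (hτ₁ : τ₁ ≠ RingEquiv.refl F) (hτ₂ : τ₂ ≠ RingEquiv.refl F)
    (Γ : F →+ F →+ F) (hΓ : ∀ g h, Γ (μ₁ * g) (μ₂ * h) = lam * Γ g h)
    (sym1 : ∀ g g' h, c₁ * (σ₁ g' * τ₁ (Γ g h)) = c₁ * (σ₁ g * τ₁ (Γ g' h)))
    (sym2 : ∀ g h h', c₂ * (σ₂ h' * τ₂ (Γ g h)) = c₂ * (σ₂ h * τ₂ (Γ g h'))) :
    ∀ g h, Γ g h = 0 := by
  classical
  haveI : Finite (F ≃+* F) := finite_aut
  letI : Fintype (F ≃+* F) := Fintype.ofFinite _
  have hA : ∀ g h, Γ g h = τ₁.symm (σ₁ g) * Γ 1 h := by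
    intro g h
    have := mul_left_cancel₀ hc₁ (sym1 g 1 h)
    rw [map_one, one_mul] at this
    apply τ₁.injective
    rw [this, map_mul, RingEquiv.apply_symm_apply]
  have hB : ∀ g h, Γ g h = τ₂.symm (σ₂ h) * Γ g 1 := by
    intro g h
    have := mul_left_cancel₀ hc₂ (sym2 g h 1)
    rw [map_one, one_mul] at this
    apply τ₂.injective
    rw [this, map_mul, RingEquiv.apply_symm_apply]
  have hAB : ∀ g h, Γ g h = τ₁.symm (σ₁ g) * τ₂.symm (σ₂ h) * Γ 1 1 := by
    intro g h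
    rw [hA g h, hB 1 h]
    ring
  by_cases hc : Γ 1 1 = 0
  · intro g h
    rw [hAB, hc, mul_zero]
  exfalso
  have e1 : τ₁.symm (σ₁ μ₁) * τ₂.symm (σ₂ μ₂) = lam := by
    have h := hΓ 1 1
    rw [mul_one, mul_one, hAB μ₁ μ₂] at h
    exact mul_right_cancel₀ hc h
  have hτ₁lam : τ₁.symm lam ≠ 0 := by
    intro h
    apply hlam0
    have : τ₁.symm lam = τ₁.symm 0 := by rw [h, map_zero]
    exact τ₁.symm.injective this
  -- `τ₁⁻¹ (σ₁ μ₁) * lam = τ₁⁻¹ lam`
  have e2 : τ₁.symm (σ₁ μ₁) * lam = τ₁.symm lam := by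
    have := congrArg τ₁.symm h₁
    rw [map_mul, RingEquiv.symm_apply_apply] at this
    exact this
  have e3 : τ₂.symm (σ₂ μ₂) * lam = τ₂.symm lam := by
    have := congrArg τ₂.symm h₂
    rw [map_mul, RingEquiv.symm_apply_apply] at this
    exact this
  have e4 : τ₁.symm lam * τ₂.symm lam = (RingEquiv.refl F) lam * (frobeniusEquiv F 2) lam := by
    show τ₁.symm lam * τ₂.symm lam = lam * (frobenius F 2) lam
    rw [frobenius_def, ← e2, ← e3]
    calc τ₁.symm (σ₁ μ₁) * lam * (τ₂.symm (σ₂ μ₂) * lam)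
        = (τ₁.symm (σ₁ μ₁) * τ₂.symm (σ₂ μ₂)) * lam * lam := by ring
      _ = lam * lam ^ 2 := by rw [e1]; ring
  have e5 := prod_eq_of_gen lam hlam τ₁.symm τ₂.symm (RingEquiv.refl F) (frobeniusEquiv F 2) e4
  rcases pair_unique _ _ _ _ e5 with ⟨h1, -⟩ | ⟨-, h2⟩
  · apply hτ₁
    ext x
    have := congrArg (fun f : F ≃+* F => f (τ₁ x)) h1
    simp only [RingEquiv.symm_apply_apply, RingEquiv.refl_apply] at this
    exact this.symm
  · apply hτ₂
    ext x
    have := congrArg (fun f : F ≃+* F => f (τ₂ x)) h2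
    simp only [RingEquiv.symm_apply_apply, RingEquiv.refl_apply] at this
    exact this.symm

end Cfsg.Agent.Lib.Helper22.Suz
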