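import Mathlib
import Cfsg.Agent.Lib.Helper22.SuzCoord
import Cfsg.Agent.Lib.Helper22.SuzField

set_option autoImplicit false

/-!
# Suzuki 2-groups: coordinatising bimultiplicative pairings (helper22)
-/

namespace Cfsg.Agent.Lib.Helper22.Suz

open Cfsg.Agent.Lib.Helper20.SuzTwist

variable {P : Type*} [Group P]

/-- A bimultiplicative pairing on `X × Y` with values in `Zt` that only depends on the coordinates
`cX`, `cY` is given in coordinates by a biadditive map. -/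
theorem coord_pairing {F : Type*} [AddCommGroup F] (X Y Zt : Subgroup P) (cX cY cZ : P → F)
    (hXadd : ∀ x ∈ X, ∀ x' ∈ X, cX (x * x') = cX x + cX x') (hXsurj : ∀ f, ∃ x ∈ X, cX x = f)
    (hYadd : ∀ y ∈ Y, ∀ y' ∈ Y, cY (y * y') = cY y + cY y') (hYsurj : ∀ f, ∃ y ∈ Y, cY y = f)
    (hZadd : ∀ z ∈ Zt, ∀ z' ∈ Zt, cZ (z * z') = cZ z + cZ z')
    (π : P → P → P) (hπZ : ∀ x ∈ X, ∀ y ∈ Y, π x y ∈ Zt)
    (hπl : ∀ x ∈ X, ∀ x' ∈ X, ∀ y ∈ Y, π (x * x') y = π x y * π x' y)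
    (hπr : ∀ x ∈ X, ∀ y ∈ Y, ∀ y' ∈ Y, π x (y * y') = π x y * π x y')
    (hπX : ∀ x ∈ X, ∀ y ∈ Y, cX x = 0 → π x y = 1)
    (hπY : ∀ x ∈ X, ∀ y ∈ Y, cY y = 0 → π x y = 1) :
    ∃ b : F →+ F →+ F, ∀ x ∈ X, ∀ y ∈ Y, cZ (π x y) = b (cX x) (cY y) := by
  classical
  choose rX hrX hrX' using hXsurj
  choose rY hrY hrY' using hYsurj
  have hX1 : cX 1 = 0 := by
    have := hXadd 1 X.one_mem 1 X.one_mem
    rw [mul_one] at this
    exact left_eq_add.mp this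
  have hY1 : cY 1 = 0 := by
    have := hYadd 1 Y.one_mem 1 Y.one_mem
    rw [mul_one] at this
    exact left_eq_add.mp this
  have hXinv : ∀ x ∈ X, cX x⁻¹ = -cX x := by
    intro x hx
    have := hXadd x hx x⁻¹ (X.inv_mem hx)
    rw [mul_inv_cancel, hX1] at this
    exact (neg_eq_of_add_eq_zero_right this.symm).symm
  have hYinv : ∀ y ∈ Y, cY y⁻¹ = -cY y := by
    intro y hy
    have := hYadd y hy y⁻¹ (Y.inv_mem hy)
    rw [mul_inv_cancel, hY1] at this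
    exact (neg_eq_of_add_eq_zero_right this.symm).symm
  have key1 : ∀ x ∈ X, ∀ x' ∈ X, cX x = cX x' → ∀ y ∈ Y, π x y = π x' y := by
    intro x hx x' hx' h y hy
    have hd : x * x'⁻¹ ∈ X := X.mul_mem hx (X.inv_mem hx')
    have hcd : cX (x * x'⁻¹) = 0 := by
      rw [hXadd x hx _ (X.inv_mem hx'), hXinv x' hx', h, add_neg_cancel]
    have h1 := hπl _ hd x' hx' y hy
    rw [inv_mul_cancel_right, hπX _ hd y hy hcd, one_mul] at h1
    exact h1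
  have key2 : ∀ x ∈ X, ∀ y ∈ Y, ∀ y' ∈ Y, cY y = cY y' → π x y = π x y' := by
    intro x hx y hy y' hy' h
    have hd : y * y'⁻¹ ∈ Y := Y.mul_mem hy (Y.inv_mem hy')
    have hcd : cY (y * y'⁻¹) = 0 := by
      rw [hYadd y hy _ (Y.inv_mem hy'), hYinv y' hy', h, add_neg_cancel]
    have h1 := hπr x hx _ hd y' hy'
    rw [inv_mul_cancel_right, hπY x hx _ hd hcd, one_mul] at h1
    exact h1
  have addl : ∀ g g' h, cZ (π (rX (g + g')) (rY h)) =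
      cZ (π (rX g) (rY h)) + cZ (π (rX g') (rY h)) := by
    intro g g' h
    have h1 : π (rX (g + g')) (rY h) = π (rX g * rX g') (rY h) := by
      apply key1 _ (hrX _) _ (X.mul_mem (hrX _) (hrX _)) _ _ (hrY _)
      rw [hXadd _ (hrX _) _ (hrX _), hrX', hrX', hrX']
    rw [h1, hπl _ (hrX _) _ (hrX _) _ (hrY _),
      hZadd _ (hπZ _ (hrX _) _ (hrY _)) _ (hπZ _ (hrX _) _ (hrY _))]
  have addr : ∀ g h h', cZ (π (rX g) (rY (h + h'))) =
      cZ (π (rX g) (rY h)) + cZ (π (rX g) (rY h')) := by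
    intro g h h'
    have h1 : π (rX g) (rY (h + h')) = π (rX g) (rY h * rY h') := by
      apply key2 _ (hrX _) _ (hrY _) _ (Y.mul_mem (hrY _) (hrY _))
      rw [hYadd _ (hrY _) _ (hrY _), hrY', hrY', hrY']
    rw [h1, hπr _ (hrX _) _ (hrY _) _ (hrY _),
      hZadd _ (hπZ _ (hrX _) _ (hrY _)) _ (hπZ _ (hrX _) _ (hrY _))]
  refine ⟨AddMonoidHom.mk' (fun g => AddMonoidHom.mk' (fun h => cZ (π (rX g) (rY h))) (addr g))
    (by
      intro g g'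
      ext h
      exact addl g g' h), ?_⟩
  intro x hx y hy
  show cZ (π x y) = cZ (π (rX (cX x)) (rY (cY y)))
  rw [key1 x hx _ (hrX _) (hrX' _).symm y hy, key2 _ (hrX _) y hy _ (hrY _) (hrY' _).symm]

/-- Equivariance of the coordinate form of a pairing. -/
theorem coord_pairing_equiv {F : Type*} [Ring F] (X Y Zt : Subgroup P) (cX cY cZ : P → F)
    (hXsurj : ∀ f, ∃ x ∈ X, cX x = f) (hYsurj : ∀ f, ∃ y ∈ Y, cY y = f)
    (π : P → P → P) (hπZ : ∀ x ∈ X, ∀ y ∈ Y, π x y ∈ Zt)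
    (b : F →+ F →+ F) (hb : ∀ x ∈ X, ∀ y ∈ Y, cZ (π x y) = b (cX x) (cY y))
    (ξ : MulAut P) (μX μY lam : F) (hξX : ∀ x ∈ X, ξ x ∈ X) (hξY : ∀ y ∈ Y, ξ y ∈ Y)
    (hcX : ∀ x ∈ X, cX (ξ x) = μX * cX x) (hcY : ∀ y ∈ Y, cY (ξ y) = μY * cY y)
    (hcZ : ∀ z ∈ Zt, cZ (ξ z) = lam * cZ z)
    (hπξ : ∀ x ∈ X, ∀ y ∈ Y, π (ξ x) (ξ y) = ξ (π x y)) :
    ∀ g h, b (μX * g) (μY * h) = lam * b g h := by
  intro g h
  obtain ⟨x, hx, rfl⟩ := hXsurj g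
  obtain ⟨y, hy, rfl⟩ := hYsurj h
  rw [← hcX x hx, ← hcY y hy, ← hb _ (hξX x hx) _ (hξY y hy), hπξ x hx y hy,
    hcZ _ (hπZ x hx y hy), hb x hx y hy]

end Cfsg.Agent.Lib.Helper22.Suz
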