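import Mathlib
import Cfsg.Agent.Lib.Helper22.SuzPair

set_option autoImplicit false

/-!
# Suzuki 2-groups: the action of a simple section on an abelian invariant subgroup (helper22)
-/

namespace Cfsg.Agent.Lib.Helper22.Suz

open Cfsg.Agent.Lib.Helper20.SuzTwist

variable {P : Type*} [Group P]

/-- Context with coordinates on the centre. -/
structure Ctx (K : Subgroup (MulAut P)) (ξ : MulAut P) (n : ℕ) (cz : P → GaloisField 2 n)
    (lam : GaloisField 2 n) : Prop extends PreCtx K ξ n where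
  cz_mul : ∀ z ∈ Subgroup.center P, ∀ z' ∈ Subgroup.center P, cz (z * z') = cz z + cz z'
  cz_zero : ∀ z ∈ Subgroup.center P, cz z = 0 ↔ z = 1
  cz_surj : ∀ f, ∃ z ∈ Subgroup.center P, cz z = f
  cz_ξ : ∀ z ∈ Subgroup.center P, cz (ξ z) = lam * cz z
  lam_gen : ∀ f : GaloisField 2 n, f ≠ 0 → ∃ i : ℕ, f = lam ^ i
  lam1 : lam ≠ 1
  lam0 : lam ≠ 0

theorem exists_ctx {K : Subgroup (MulAut P)} (S : Setup P K)
    (hnab : ∃ x y : P, x * y ≠ y * x) :
    ∃ (ξ : MulAut P) (n : ℕ) (cz : P → GaloisField 2 n) (lam : GaloisField 2 n),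
      Ctx K ξ n cz lam := by
  obtain ⟨ξ, n, C⟩ := exists_prectx S hnab
  obtain ⟨x0, -, -, hx1, hx2, -, -⟩ := S.two
  obtain ⟨c, μ, h1, h2, h3, h4, h5, h6, h7⟩ := section_coord C ⊥ (Subgroup.center P) (kinv_bot K)
    (kinv_center K) bot_le ⟨x0, C.memZ hx2, fun h => hx1 (Subgroup.mem_bot.mp h)⟩
    (fun x hx => Subgroup.mem_bot.mpr (C.Z2 x hx))
    (fun x hx y _ => by
      rw [Subgroup.mem_bot]
      have : y⁻¹ * x = x * y⁻¹ := Subgroup.mem_center_iff.mp hx y⁻¹
      calc x⁻¹ * y⁻¹ * x * y = x⁻¹ * (y⁻¹ * x) * y := by group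
        _ = x⁻¹ * (x * y⁻¹) * y := by rw [this]
        _ = 1 := by group)
    (by
      intro B' hB' _ hB'Z
      by_cases hbot : B' = ⊥
      · exact Or.inl hbot
      right
      apply le_antisymm hB'Z
      obtain ⟨b, hb1⟩ := (Subgroup.ne_bot_iff_exists_ne_one).mp hbot
      have hb1' : (b : P) ≠ 1 := fun h => hb1 (Subtype.ext h)
      intro z hz
      by_cases hz1 : z = 1
      · rw [hz1]; exact B'.one_mem
      obtain ⟨k, hk, -⟩ := S.reg _ _ hb1' (C.Z2 _ (hB'Z b.2)) hz1 (C.Z2 z hz)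
      rw [← hk]
      exact hB' k k.2 _ b.2)
  exact ⟨ξ, n, c, μ, C, h1, fun z hz => (h2 z hz).trans Subgroup.mem_bot, h3, h4, h5, h6, h7⟩

section pair

variable {K : Subgroup (MulAut P)} {ξ : MulAut P} {n : ℕ} {cz : P → GaloisField 2 n}
  {lam : GaloisField 2 n}

theorem Ctx.cz_one (C : Ctx K ξ n cz lam) : cz 1 = 0 :=
  (C.cz_zero 1 (Subgroup.one_mem _)).mpr rfl

/-- The commutator pairing of a simple section `H / B` with `T / Z`, `T ≤ B` abelian with
`T / Z ≅ Z` by squaring, is a monomial in coordinates. -/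
theorem pair_data (C : Ctx K ξ n cz lam) (B H T : Subgroup P) (gB : Good K B) (gT : Good K T)
    (hH : KInv K H) (hBH : B ≤ H) (hTB : T ≤ B) (hne : ∃ x ∈ H, x ∉ B)
    (hsq : ∀ x ∈ H, x * x ∈ B) (hcm : ∀ x ∈ H, ∀ y ∈ H, x⁻¹ * y⁻¹ * x * y ∈ B)
    (hsimp : ∀ B' : Subgroup P, KInv K B' → B ≤ B' → B' ≤ H → B' = B ∨ B' = H)
    (hTsq : ∀ t ∈ T, t * t ∈ Subgroup.center P)
    (hTsurj : ∀ z ∈ Subgroup.center P, ∃ t ∈ T, t * t = z)
    (hfaith : ∀ x ∈ H, (∀ t ∈ T, x * t = t * x) → x ∈ B) :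
    ∃ (c : P → GaloisField 2 n) (μ a : GaloisField 2 n)
      (σ τ : GaloisField 2 n ≃+* GaloisField 2 n),
      (∀ x ∈ H, ∀ y ∈ H, c (x * y) = c x + c y) ∧ (∀ x ∈ H, c x = 0 ↔ x ∈ B) ∧
      (∀ f, ∃ x ∈ H, c x = f) ∧ (∀ x ∈ H, c (ξ x) = μ * c x) ∧ μ ≠ 1 ∧ μ ≠ 0 ∧ a ≠ 0 ∧
      (∀ x ∈ H, ∀ t ∈ T, cz (dl x t) = a * (σ (c x) * τ (cz (t * t)))) ∧
      σ μ * τ lam = lam ∧ τ ≠ RingEquiv.refl _ := by
  classical
  letI : Fintype (GaloisField 2 n) := Fintype.ofFinite _
  have S := C.S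
  obtain ⟨c, μ, hc1, hc2, hc3, hc4, -, hμ1, hμ0⟩ :=
    section_coord C.toPreCtx B H gB.inv hH hBH hne hsq hcm hsimp
  have hcen : ∀ z ∈ Subgroup.center P, ∀ y : P, z * y = y * z :=
    fun z hz y => (Subgroup.mem_center_iff.mp hz y).symm
  -- the pairing takes central values
  have hdlZ : ∀ x : P, ∀ t ∈ T, dl x t ∈ Subgroup.center P := by
    intro x t ht
    apply C.memZ
    have h1 := gB.dl_pow x (hTB ht) 2
    rw [pow_two, pow_two, dl_central x (t * t) (hcen _ (hTsq t ht))] at h1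
    exact h1.symm
  have hTcomm : ∀ t ∈ T, ∀ t' ∈ T, (t * t') * (t * t') = (t * t) * (t' * t') := by
    intro t ht t' ht'
    have := gT.comm t ht t' ht'
    calc t * t' * (t * t') = t * (t' * t) * t' := by group
      _ = t * (t * t') * t' := by rw [this]
      _ = t * t * (t' * t') := by group
  obtain ⟨b, hb⟩ := coord_pairing H T (Subgroup.center P) c (fun t => cz (t * t)) cz hc1 hc3
    (by
      intro t ht t' ht'
      show cz ((t * t') * (t * t')) = _
      rw [hTcomm t ht t' ht', C.cz_mul _ (hTsq t ht) _ (hTsq t' ht')])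
    (by
      intro f
      obtain ⟨z, hz, rfl⟩ := C.cz_surj f
      obtain ⟨t, ht, rfl⟩ := hTsurj z hz
      exact ⟨t, ht, rfl⟩)
    C.cz_mul dl (fun x _ t ht => hdlZ x t ht)
    (by
      intro x _ x' _ t ht
      rw [gB.dl_mul_left x x' (hTB ht), dl_central x' _ (hcen _ (hdlZ x t ht)), mul_one]
      exact (hcen _ (hdlZ x t ht) _).symm)
    (fun x _ t ht t' ht' => gB.dl_mul x (hTB ht) (hTB ht'))
    (fun x hx t ht h => gB.dl_of_mem ((hc2 x hx).mp h) (hTB ht))
    (by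
      intro x _ t ht h
      have : t * t = 1 := (C.cz_zero _ (hTsq t ht)).mp h
      exact dl_central x t (C.S.cen t this))
  have hbeq := coord_pairing_equiv H T (Subgroup.center P) c (fun t => cz (t * t)) cz hc3
    (by
      intro f
      obtain ⟨z, hz, rfl⟩ := C.cz_surj f
      obtain ⟨t, ht, rfl⟩ := hTsurj z hz
      exact ⟨t, ht, rfl⟩)
    dl (fun x _ t ht => hdlZ x t ht) b hb ξ μ lam lam (fun x hx => hH ξ C.ξK x hx)
    (fun t ht => gT.inv ξ C.ξK t ht) hc4
    (by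
      intro t ht
      show cz (ξ t * ξ t) = lam * cz (t * t)
      rw [← map_mul, C.cz_ξ _ (hTsq t ht)])
    C.cz_ξ (fun x _ t _ => (dl_map ξ x t).symm)
  -- the pairing is nonzero
  have hb0 : ∃ g z, b g z ≠ 0 := by
    obtain ⟨x, hx, hxB⟩ := hne
    have : ¬ ∀ t ∈ T, x * t = t * x := fun h => hxB (hfaith x hx h)
    push Not at this
    obtain ⟨t, ht, hxt⟩ := this
    refine ⟨c x, cz (t * t), ?_⟩
    rw [← hb x hx t ht]
    intro h
    have h1 : dl x t = 1 := (C.cz_zero _ (hdlZ x t ht)).mp h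
    apply hxt
    have h2 : x⁻¹ * t * x = t := by rw [conj_eq_dl, h1, mul_one]
    calc x * t = x * (x⁻¹ * t * x) := by rw [h2]
      _ = t * x := by group
  obtain ⟨a, σ, τ, ha, hform, hστ, hτ⟩ :=
    monomial_of_equivariant lam μ C.lam_gen C.lam0 hμ1 b hbeq hb0
  exact ⟨c, μ, a, σ, τ, hc1, hc2, hc3, hc4, hμ1, hμ0, ha,
    fun x hx t ht => by rw [hb x hx t ht, hform], hστ, hτ⟩


/-- In a finite `2`-group, if `y ^ (2 ^ s) ≠ 1` then some power of `y` has order exactly
`2 ^ (s + 1)`. -/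
theorem exists_pow_exact [Finite P] (hP : IsPGroup 2 P) (y : P) (s : ℕ) (hy : y ^ 2 ^ s ≠ 1) :
    ∃ j : ℕ, (y ^ j) ^ 2 ^ (s + 1) = 1 ∧ (y ^ j) ^ 2 ^ s ≠ 1 := by
  obtain ⟨r, hr⟩ := (IsPGroup.iff_orderOf.mp hP) y
  have hrs : s < r := by
    by_contra hle
    apply hy
    have : orderOf y ∣ 2 ^ s := by
      rw [hr]
      exact pow_dvd_pow 2 (by omega)
    exact orderOf_dvd_iff_pow_eq_one.mp this
  refine ⟨2 ^ (r - s - 1), ?_, ?_⟩
  · rw [← pow_mul, ← pow_add, show r - s - 1 + (s + 1) = r by omega, ← hr, pow_orderOf_eq_one]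
  · rw [← pow_mul, ← pow_add, show r - s - 1 + s = r - 1 by omega]
    intro h
    have hd := orderOf_dvd_of_pow_eq_one h
    rw [hr] at hd
    have := Nat.le_of_dvd (by positivity) hd
    have hlt : 2 ^ (r - 1) < 2 ^ r := Nat.pow_lt_pow_right (by norm_num) (by omega)
    omega

/-- **Key lemma.** Let `B` be an abelian normal invariant subgroup, `H / B` a simple invariant
section acting faithfully on `T = Ω₂(B)`.  Then `B` has exponent at most four and all squares of
elements of `H` are central. -/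
theorem lemmaI (C : Ctx K ξ n cz lam) (B H T : Subgroup P) (gB : Good K B) (gT : Good K T)
    (hH : KInv K H) (hBH : B ≤ H) (hTB : T ≤ B) (hne : ∃ x ∈ H, x ∉ B)
    (hsq : ∀ x ∈ H, x * x ∈ B) (hcm : ∀ x ∈ H, ∀ y ∈ H, x⁻¹ * y⁻¹ * x * y ∈ B)
    (hsimp : ∀ B' : Subgroup P, KInv K B' → B ≤ B' → B' ≤ H → B' = B ∨ B' = H)
    (hTsq : ∀ t ∈ T, t * t ∈ Subgroup.center P)
    (hTsurj : ∀ z ∈ Subgroup.center P, ∃ t ∈ T, t * t = z)
    (hfaith : ∀ x ∈ H, (∀ t ∈ T, x * t = t * x) → x ∈ B)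
    (hT4 : ∀ b ∈ B, b ^ 4 = 1 → b ∈ T) :
    (∀ b ∈ B, b ^ 4 = 1) ∧ ∀ x ∈ H, x * x ∈ Subgroup.center P := by
  classical
  have S := C.S
  haveI := S.fin
  haveI : CharP (GaloisField 2 n) 2 := inferInstance
  obtain ⟨c, μ, a, σ, τ, hc1, hc2, hc3, hc4, hμ1, hμ0, ha, hform, -, -⟩ :=
    pair_data C B H T gB gT hH hBH hTB hne hsq hcm hsimp hTsq hTsurj hfaith
  have hcen : ∀ z ∈ Subgroup.center P, ∀ y : P, z * y = y * z :=
    fun z hz y => (Subgroup.mem_center_iff.mp hz y).symm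
  -- no zero divisors
  have hnzd : ∀ x ∈ H, x ∉ B → ∀ t ∈ T, t * t ≠ 1 → dl x t ≠ 1 := by
    intro x hx hxB t ht htt h
    have h1 := hform x hx t ht
    rw [h, C.cz_one] at h1
    have h2 : c x ≠ 0 := fun h0 => hxB ((hc2 x hx).mp h0)
    have h3 : cz (t * t) ≠ 0 := fun h0 => htt ((C.cz_zero _ (hTsq t ht)).mp h0)
    have h4 : σ (c x) ≠ 0 := fun h0 => h2 (by
      have : σ (c x) = σ 0 := by rw [h0, map_zero]
      exact σ.injective this)
    have h5 : τ (cz (t * t)) ≠ 0 := fun h0 => h3 (by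
      have : τ (cz (t * t)) = τ 0 := by rw [h0, map_zero]
      exact τ.injective this)
    exact (mul_ne_zero ha (mul_ne_zero h4 h5)) h1.symm
  -- squares of elements outside `B` are central
  have hsqZ : ∀ x ∈ H, x ∉ B → x * x ∈ Subgroup.center P := by
    intro x hx hxB
    by_contra hy
    have hyy : (x * x) ^ 2 ^ 1 ≠ 1 := by
      intro h
      apply hy
      apply C.memZ
      rw [← pow_two]
      simpa using h
    obtain ⟨j, hj1, hj2⟩ := exists_pow_exact S.pg (x * x) 1 hyy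
    have htB : (x * x) ^ j ∈ B := B.pow_mem (hsq x hx) j
    have htT : (x * x) ^ j ∈ T := hT4 _ htB (by simpa using hj1)
    have htt : (x * x) ^ j * (x * x) ^ j ≠ 1 := by
      rw [← pow_two]
      simpa using hj2
    apply hnzd x hx hxB _ htT htt
    have hcomm : Commute x ((x * x) ^ j) := ((Commute.refl x).mul_right (Commute.refl x)).pow_right j
    unfold dl
    rw [mul_assoc x⁻¹, ← hcomm.eq]
    group
  -- `B` has exponent at most four
  have hexp : ∀ b ∈ B, b ^ 4 = 1 := by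
    intro b0 hb0
    by_contra hb4
    obtain ⟨j, hj1, hj2⟩ := exists_pow_exact S.pg b0 2 (by simpa using hb4)
    obtain ⟨b, hbdef⟩ : ∃ b, b = b0 ^ j := ⟨_, rfl⟩
    rw [← hbdef] at hj1 hj2
    have hb8 : b ^ 8 = 1 := by simpa using hj1
    have hb4' : b ^ 4 ≠ 1 := by simpa using hj2
    have hbB : b ∈ B := hbdef ▸ B.pow_mem hb0 j
    have htB : b * b ∈ B := B.mul_mem hbB hbB
    have ht4 : (b * b) ^ 4 = 1 := by
      rw [← pow_two, ← pow_mul]
      exact hb8
    have htT : b * b ∈ T := hT4 _ htB ht4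
    have htt : (b * b) * (b * b) = b ^ 4 := by
      simp only [pow_succ, pow_zero, one_mul, mul_assoc]
    have htt1 : (b * b) * (b * b) ≠ 1 := by rw [htt]; exact hb4'
    have htt2 : ((b * b) * (b * b)) * ((b * b) * (b * b)) = 1 := by
      rw [htt, ← pow_add]
      exact hb8
    -- the value of the pairing at `t = b * b`
    have hval : ∀ x ∈ H, x ∉ B → dl x (b * b) = (b * b) * (b * b) := by
      intro x hx hxB
      have hxb : x * b ∈ H := H.mul_mem hx (hBH hbB)
      have hxbB : x * b ∉ B := by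
        intro h
        apply hxB
        have := B.mul_mem h (B.inv_mem hbB)
        simpa using this
      have h1 := hsqZ x hx hxB
      have h2 := hsqZ _ hxb hxbB
      have hd : dl x b ∈ B := gB.dl_mem x hbB
      -- `(x b)(x b) = (x x) (b b d)`
      have h3 : (x * b) * (x * b) = (x * x) * (b * b * dl x b) := by
        have e1 : (x * b) * (x * b) = (x * x) * ((x⁻¹ * b * x) * b) := by group
        rw [e1, conj_eq_dl, mul_assoc b (dl x b) b, gB.comm _ hd b hbB]
        group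
      have h4 : b * b * dl x b ∈ Subgroup.center P := by
        have : b * b * dl x b = (x * x)⁻¹ * ((x * b) * (x * b)) := by rw [h3]; group
        rw [this]
        exact Subgroup.mul_mem _ (Subgroup.inv_mem _ h1) h2
      have h5 := C.Z2 _ h4
      -- `(b b d)(b b d) = b^4 (d d)`
      have h6 : (b * b * dl x b) * (b * b * dl x b) = ((b * b) * (b * b)) * (dl x b * dl x b) := by
        have e := gB.comm _ hd _ htB
        calc b * b * dl x b * (b * b * dl x b)
            = b * b * (dl x b * (b * b)) * dl x b := by group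
          _ = b * b * ((b * b) * dl x b) * dl x b := by rw [e]
          _ = b * b * (b * b) * (dl x b * dl x b) := by group
      rw [h6] at h5
      rw [gB.dl_mul x hbB hbB]
      -- `d d = (t t)⁻¹ = t t`
      have h7 : dl x b * dl x b = ((b * b) * (b * b))⁻¹ := eq_inv_of_mul_eq_one_right h5
      rw [h7]
      exact inv_eq_of_mul_eq_one_left htt2
    -- two elements with independent coordinates
    obtain ⟨x1, hx1, hcx1⟩ := hc3 1
    obtain ⟨x2, hx2, hcx2⟩ := hc3 μ
    have hx1B : x1 ∉ B := by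
      intro h
      have := (hc2 x1 hx1).mpr h
      rw [hcx1] at this
      exact one_ne_zero this
    have hx2B : x2 ∉ B := by
      intro h
      have := (hc2 x2 hx2).mpr h
      rw [hcx2] at this
      exact hμ0 this
    have hx12 : x1 * x2 ∈ H := H.mul_mem hx1 hx2
    have hx12B : x1 * x2 ∉ B := by
      intro h
      have := (hc2 _ hx12).mpr h
      rw [hc1 x1 hx1 x2 hx2, hcx1, hcx2] at this
      exact hμ1 (CharTwo.add_eq_zero.mp this).symm
    have e1 := hval _ hx12 hx12B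
    rw [gB.dl_mul_left x1 x2 htB, hval x1 hx1 hx1B, hval x2 hx2 hx2B] at e1
    have hcZ : (b * b) * (b * b) ∈ Subgroup.center P := C.memZ htt2
    rw [dl_central x2 _ (hcen _ hcZ), mul_one, htt2] at e1
    exact htt1 e1.symm
  refine ⟨hexp, ?_⟩
  intro x hx
  by_cases hxB : x ∈ B
  · apply C.memZ
    have := hexp x hxB
    simp only [pow_succ, pow_zero, one_mul, mul_assoc] at this ⊢
    exact this
  · exact hsqZ x hx hxB

end pair

end Cfsg.Agent.Lib.Helper22.Suz
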