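import Mathlib
import Cfsg.Agent.Lib.Helper22.SuzLemmaI
import Cfsg.Agent.Lib.Helper20.MaschkeGroup

set_option autoImplicit false

/-!
# Suzuki 2-groups: invariant complements and the commuting lemma (helper22)
-/

namespace Cfsg.Agent.Lib.Helper22.Suz

open Cfsg.Agent.Lib.Helper20.SuzTwist

variable {P : Type*} [Group P]

theorem cm_eq_squares (x y : P) :
    x⁻¹ * y⁻¹ * x * y = (x⁻¹ * x⁻¹) * ((x * y⁻¹) * (x * y⁻¹)) * (y * y) := by group

/-- Maschke: invariant complements modulo `T` when `P / T` is elementary abelian. -/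
theorem exists_kinv_compl {K : Subgroup (MulAut P)} {ξ : MulAut P} {n : ℕ} (C : PreCtx K ξ n)
    (T R : Subgroup P) [T.Normal] (hT : KInv K T) (hR : KInv K R)
    (hsq : ∀ x : P, x * x ∈ T) (hcm : ∀ x y : P, x⁻¹ * y⁻¹ * x * y ∈ T) :
    ∃ R' : Subgroup P, KInv K R' ∧ T ≤ R' ∧ R ⊓ R' ≤ T ∧ R ⊔ R' = ⊤ := by
  classical
  have S := C.S
  haveI := S.fin
  haveI : Fact (Nat.Prime 2) := ⟨Nat.prime_two⟩
  letI : CommGroup (P ⧸ T) :=
    { (inferInstance : Group (P ⧸ T)) with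
      mul_comm := by
        intro a b
        induction a using QuotientGroup.induction_on with
        | H x =>
        induction b using QuotientGroup.induction_on with
        | H y =>
        rw [← QuotientGroup.mk_mul, ← QuotientGroup.mk_mul, QuotientGroup.eq]
        have h1 : (x * y)⁻¹ * (y * x) = y⁻¹ * x⁻¹ * y * x := by group
        rw [h1]
        exact hcm y x }
  have hexp : ∀ q : P ⧸ T, q ^ 2 = 1 := by
    intro q
    induction q using QuotientGroup.induction_on with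
    | H x =>
    rw [← QuotientGroup.mk_pow, QuotientGroup.eq_one_iff, pow_two]
    exact hsq x
  let φ : K → ((P ⧸ T) →* (P ⧸ T)) := fun k =>
    QuotientGroup.map T T (k : MulAut P).toMonoidHom (by
      intro x hx
      exact hT k k.2 x hx)
  have hφ : ∀ (k : K) (x : P), φ k (x : P ⧸ T) = (((k : MulAut P) x : P) : P ⧸ T) := fun k x => rfl
  have h1 : φ 1 = MonoidHom.id _ := by
    ext x
    rfl
  have hmul : ∀ a b, φ (a * b) = (φ a).comp (φ b) := by
    intro a b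
    ext x
    rfl
  have hcop : (Nat.card K).Coprime (Nat.card (P ⧸ T)) := by
    obtain ⟨m, hm⟩ := S.pg.exists_card_eq
    have hdvd : Nat.card (P ⧸ T) ∣ 2 ^ m := by
      rw [← hm]
      exact Subgroup.card_quotient_dvd_card T
    have hodd : (2 ^ n - 1).Coprime 2 := by
      rw [Nat.coprime_two_right]
      have : 1 ≤ 2 ^ n := Nat.one_le_two_pow
      have h2n : 2 ∣ 2 ^ n := dvd_pow_self 2 (by have := C.n2; omega)
      rcases h2n with ⟨t, ht⟩
      exact ⟨t - 1, by omega⟩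
    rw [C.cardK]
    exact Nat.Coprime.coprime_dvd_right hdvd (hodd.pow_right m)
  obtain ⟨W, hUW, hsup⟩ := Cfsg.Agent.Lib.Helper20.exists_compl_of_exponent_prime Nat.prime_two
    hexp (R.map (QuotientGroup.mk' T))
  obtain ⟨W', hW'inv, hUW', hsup'⟩ := Cfsg.Agent.Lib.Helper20.exists_invariant_compl φ h1 hmul hcop
    (R.map (QuotientGroup.mk' T)) W (by
      rintro a _ ⟨r, hr, rfl⟩
      exact ⟨(a : MulAut P) r, hR a a.2 r hr, rfl⟩) hUW hsup
  refine ⟨W'.comap (QuotientGroup.mk' T), ?_, ?_, ?_, ?_⟩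
  · intro k hk x hx
    rw [Subgroup.mem_comap] at hx ⊢
    exact hW'inv ⟨k, hk⟩ _ hx
  · intro t ht
    rw [Subgroup.mem_comap]
    have : (QuotientGroup.mk' T) t = 1 := (QuotientGroup.eq_one_iff t).mpr ht
    rw [this]
    exact W'.one_mem
  · rintro x ⟨hxR, hxR'⟩
    have h2 : (QuotientGroup.mk' T) x ∈ R.map (QuotientGroup.mk' T) ⊓ W' :=
      ⟨⟨x, hxR, rfl⟩, hxR'⟩
    rw [hUW', Subgroup.mem_bot] at h2
    exact (QuotientGroup.eq_one_iff x).mp h2
  · rw [eq_top_iff]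
    intro y _
    have hy : (QuotientGroup.mk' T) y ∈ R.map (QuotientGroup.mk' T) ⊔ W' := by
      rw [hsup']; trivial
    obtain ⟨u, ⟨r, hr, rfl⟩, w, hw, huw⟩ := Subgroup.mem_sup.mp hy
    have h3 : (QuotientGroup.mk' T) (r⁻¹ * y) = w := by
      rw [map_mul, map_inv, ← huw]
      group
    have h4 : r⁻¹ * y ∈ W'.comap (QuotientGroup.mk' T) := by
      rw [Subgroup.mem_comap, h3]
      exact hw
    have h5 : y = r * (r⁻¹ * y) := by group
    rw [h5]
    exact Subgroup.mul_mem_sup hr h4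


section comm

variable {K : Subgroup (MulAut P)} {ξ : MulAut P} {n : ℕ} {cz : P → GaloisField 2 n}
  {lam : GaloisField 2 n}

/-- the commutator `x⁻¹ y⁻¹ x y` -/
def cm (x y : P) : P := x⁻¹ * y⁻¹ * x * y

theorem cm_mul_left (x x' y : P) : cm (x * x') y = (x'⁻¹ * cm x y * x') * cm x' y := by
  unfold cm; group

theorem cm_mul_right (x y y' : P) : cm x (y * y') = cm x y' * (y'⁻¹ * cm x y * y') := by
  unfold cm; group

theorem cm_central_left (x y z : P) (hz : ∀ g, z * g = g * z) : cm (x * z) y = cm x y := by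
  calc cm (x * z) y = z⁻¹ * (x⁻¹ * y⁻¹ * x) * (z * y) := by unfold cm; group
    _ = z⁻¹ * (x⁻¹ * y⁻¹ * x) * (y * z) := by rw [hz y]
    _ = z⁻¹ * ((x⁻¹ * y⁻¹ * x * y) * z) := by group
    _ = z⁻¹ * (z * (x⁻¹ * y⁻¹ * x * y)) := by rw [← hz]
    _ = cm x y := by unfold cm; group

theorem cm_central_right (x y z : P) (hz : ∀ g, z * g = g * z) : cm x (y * z) = cm x y := by
  calc cm x (y * z) = (z * x)⁻¹ * (y⁻¹ * x * y) * z := by unfold cm; group
    _ = (x * z)⁻¹ * (y⁻¹ * x * y) * z := by rw [hz x]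
    _ = z⁻¹ * ((x⁻¹ * y⁻¹ * x * y) * z) := by group
    _ = z⁻¹ * (z * (x⁻¹ * y⁻¹ * x * y)) := by rw [← hz]
    _ = cm x y := by unfold cm; group

theorem cm_eq_dl (x y : P) : cm x y = dl y x := by unfold cm dl; group

theorem cm_eq_dl_inv (x y : P) : cm x y = (dl x y)⁻¹ := by unfold cm dl; group

/-- **Commuting lemma.** Two simple sections over a self-centralising `T ≅ (ℤ/4)ⁿ` whose elements
have central squares commute modulo the centre. -/
theorem comm_central (C : Ctx K ξ n cz lam) (T M₁ M₂ : Subgroup P) (gT : Good K T)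
    (hTsq : ∀ t ∈ T, t * t ∈ Subgroup.center P)
    (hTsurj : ∀ z ∈ Subgroup.center P, ∃ t ∈ T, t * t = z)
    (hTP : ∀ (x : P), ∀ t ∈ T, dl x t ∈ Subgroup.center P)
    (hcentT : ∀ x : P, (∀ t ∈ T, x * t = t * x) → x ∈ T)
    (hPsq : ∀ x : P, x * x ∈ T) (hPcm : ∀ x y : P, x⁻¹ * y⁻¹ * x * y ∈ T)
    (hM₁ : KInv K M₁) (hTM₁ : T ≤ M₁) (hne₁ : ∃ x ∈ M₁, x ∉ T)
    (hsimp₁ : ∀ B' : Subgroup P, KInv K B' → T ≤ B' → B' ≤ M₁ → B' = T ∨ B' = M₁)
    (hsqM₁ : ∀ x ∈ M₁, x * x ∈ Subgroup.center P)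
    (hM₂ : KInv K M₂) (hTM₂ : T ≤ M₂) (hne₂ : ∃ x ∈ M₂, x ∉ T)
    (hsimp₂ : ∀ B' : Subgroup P, KInv K B' → T ≤ B' → B' ≤ M₂ → B' = T ∨ B' = M₂)
    (hsqM₂ : ∀ x ∈ M₂, x * x ∈ Subgroup.center P) :
    ∀ x₁ ∈ M₁, ∀ x₂ ∈ M₂, x₁⁻¹ * x₂⁻¹ * x₁ * x₂ ∈ Subgroup.center P := by
  classical
  letI : Fintype (GaloisField 2 n) := Fintype.ofFinite _
  have S := C.S
  have hcen : ∀ z ∈ Subgroup.center P, ∀ y : P, z * y = y * z :=
    fun z hz y => (Subgroup.mem_center_iff.mp hz y).symm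
  obtain ⟨c₁, μ₁, a₁, σ₁, τ₁, hc11, hc12, hc13, hc14, -, -, ha₁, hform₁, hστ₁, hτ₁⟩ :=
    pair_data C T M₁ T gT gT hM₁ hTM₁ le_rfl hne₁ (fun x _ => hPsq x) (fun x _ y _ => hPcm x y)
      hsimp₁ hTsq hTsurj (fun x _ h => hcentT x h)
  obtain ⟨c₂, μ₂, a₂, σ₂, τ₂, hc21, hc22, hc23, hc24, -, -, ha₂, hform₂, hστ₂, hτ₂⟩ :=
    pair_data C T M₂ T gT gT hM₂ hTM₂ le_rfl hne₂ (fun x _ => hPsq x) (fun x _ y _ => hPcm x y)
      hsimp₂ hTsq hTsurj (fun x _ h => hcentT x h)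
  have hcmT : ∀ x y : P, cm x y ∈ T := fun x y => hPcm x y
  have hcmM₁ : ∀ x ∈ M₁, ∀ x' ∈ M₁, cm x x' ∈ Subgroup.center P := by
    intro x hx x' hx'
    unfold cm
    rw [cm_eq_squares]
    exact Subgroup.mul_mem _ (Subgroup.mul_mem _ (hsqM₁ _ (M₁.inv_mem hx))
      (hsqM₁ _ (M₁.mul_mem hx (M₁.inv_mem hx')))) (hsqM₁ _ hx')
  have hcmM₂ : ∀ x ∈ M₂, ∀ x' ∈ M₂, cm x x' ∈ Subgroup.center P := by
    intro x hx x' hx'
    unfold cm
    rw [cm_eq_squares]
    exact Subgroup.mul_mem _ (Subgroup.mul_mem _ (hsqM₂ _ (M₂.inv_mem hx))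
      (hsqM₂ _ (M₂.mul_mem hx (M₂.inv_mem hx')))) (hsqM₂ _ hx')
  -- squares in `T`
  have hsq3 : ∀ u ∈ T, ∀ d ∈ Subgroup.center P, ∀ v ∈ T,
      (u * d * v) * (u * d * v) = (u * u) * (v * v) := by
    intro u hu d hd v hv
    have h1 := gT.comm v hv u hu
    have h2 := hcen d hd
    have h3 := C.Z2 d hd
    calc u * d * v * (u * d * v) = u * (d * (v * u)) * (d * v) := by group
      _ = u * (d * (u * v)) * (d * v) := by rw [h1]
      _ = u * ((d * u) * v) * (d * v) := by group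
      _ = u * ((u * d) * v) * (d * v) := by rw [h2 u]
      _ = u * u * (d * (v * d)) * v := by group
      _ = u * u * (d * (d * v)) * v := by rw [← h2 v]
      _ = u * u * ((d * d) * v) * v := by group
      _ = u * u * (v * v) := by rw [h3]; group
  -- the coordinate form of the squared commutator
  obtain ⟨Γ, hΓ⟩ := coord_pairing M₁ M₂ (Subgroup.center P) c₁ c₂ cz hc11 hc13 hc21 hc23 C.cz_mul
    (fun x y => cm x y * cm x y) (fun x _ y _ => hTsq _ (hcmT x y))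
    (by
      intro x _ x' _ y _
      show cm (x * x') y * cm (x * x') y = _
      rw [cm_mul_left, conj_eq_dl, hsq3 _ (hcmT x y) _ (hTP x' _ (hcmT x y)) _ (hcmT x' y)])
    (by
      intro x _ y _ y' _
      show cm x (y * y') * cm x (y * y') = _
      rw [cm_mul_right, conj_eq_dl]
      have h1 : cm x y' * (cm x y * dl y' (cm x y)) =
          cm x y' * (dl y' (cm x y)) * cm x y := by
        have := hcen _ (hTP y' _ (hcmT x y)) (cm x y)
        rw [mul_assoc (cm x y') _ _, this]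
      rw [h1, hsq3 _ (hcmT x y') _ (hTP y' _ (hcmT x y)) _ (hcmT x y)]
      exact (hcen _ (hTsq _ (hcmT x y')) _))
    (by
      intro x hx y _ h
      have hxT : x ∈ T := (hc12 x hx).mp h
      show cm x y * cm x y = 1
      rw [cm_eq_dl]
      exact C.Z2 _ (hTP y x hxT))
    (by
      intro x _ y hy h
      have hyT : y ∈ T := (hc22 y hy).mp h
      show cm x y * cm x y = 1
      rw [cm_eq_dl_inv]
      exact C.Z2 _ (Subgroup.inv_mem _ (hTP x y hyT)))
  have hΓeq := coord_pairing_equiv M₁ M₂ (Subgroup.center P) c₁ c₂ cz hc13 hc23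
    (fun x y => cm x y * cm x y) (fun x _ y _ => hTsq _ (hcmT x y)) Γ hΓ ξ μ₁ μ₂ lam
    (fun x hx => hM₁ ξ C.ξK x hx) (fun y hy => hM₂ ξ C.ξK y hy) hc14 hc24 C.cz_ξ
    (by
      intro x _ y _
      show cm (ξ x) (ξ y) * cm (ξ x) (ξ y) = ξ (cm x y * cm x y)
      unfold cm
      simp only [map_mul, map_inv])
  -- the symmetry identities
  have hid1 : ∀ x ∈ M₁, ∀ x' ∈ M₁, ∀ y : P, dl x' (cm x y) = dl x (cm x' y) := by
    intro x hx x' hx' y
    have hz := hcmM₁ x hx x' hx'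
    have e0 : x * x' = x' * x * cm x x' := by unfold cm; group
    have e1 : cm (x * x') y = cm (x' * x) y := by
      rw [e0]
      exact cm_central_left _ _ _ (hcen _ hz)
    rw [cm_mul_left, cm_mul_left, conj_eq_dl, conj_eq_dl] at e1
    -- `u d₁ v = v d₂ u`
    have hu := hcmT x y
    have hv := hcmT x' y
    have hd1 := hcen _ (hTP x' _ hu)
    have hd2 := hcen _ (hTP x _ hv)
    have huv := gT.comm _ hu _ hv
    have e2 : cm x y * cm x' y * dl x' (cm x y) = cm x y * cm x' y * dl x (cm x' y) := by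
      calc cm x y * cm x' y * dl x' (cm x y)
          = cm x y * (cm x' y * dl x' (cm x y)) := by group
        _ = cm x y * (dl x' (cm x y) * cm x' y) := by rw [hd1]
        _ = cm x y * dl x' (cm x y) * cm x' y := by group
        _ = cm x' y * dl x (cm x' y) * cm x y := e1
        _ = cm x' y * (dl x (cm x' y) * cm x y) := by group
        _ = cm x' y * (cm x y * dl x (cm x' y)) := by rw [hd2]
        _ = (cm x' y * cm x y) * dl x (cm x' y) := by group
        _ = cm x y * cm x' y * dl x (cm x' y) := by rw [huv]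
    exact mul_left_cancel e2
  have hid2 : ∀ x : P, ∀ y ∈ M₂, ∀ y' ∈ M₂, dl y' (cm x y) = dl y (cm x y') := by
    intro x y hy y' hy'
    have hz := hcmM₂ y hy y' hy'
    have e0 : y * y' = y' * y * cm y y' := by unfold cm; group
    have e1 : cm x (y * y') = cm x (y' * y) := by
      rw [e0]
      exact cm_central_right _ _ _ (hcen _ hz)
    rw [cm_mul_right, cm_mul_right, conj_eq_dl, conj_eq_dl] at e1
    have hu := hcmT x y
    have hv := hcmT x y'
    have huv := gT.comm _ hu _ hv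
    have e2 : cm x y * cm x y' * dl y' (cm x y) = cm x y * cm x y' * dl y (cm x y') := by
      calc cm x y * cm x y' * dl y' (cm x y)
          = (cm x y * cm x y') * dl y' (cm x y) := by group
        _ = (cm x y' * cm x y) * dl y' (cm x y) := by rw [huv]
        _ = cm x y' * (cm x y * dl y' (cm x y)) := by group
        _ = cm x y * (cm x y' * dl y (cm x y')) := e1
        _ = cm x y * cm x y' * dl y (cm x y') := by group
    exact mul_left_cancel e2
  have hΓ0 := gamma_zero lam μ₁ μ₂ C.lam_gen C.lam0 a₁ a₂ σ₁ τ₁ σ₂ τ₂ ha₁ ha₂ hστ₁ hστ₂ hτ₁ hτ₂ Γ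
    hΓeq
    (by
      intro g g' h
      obtain ⟨x, hx, rfl⟩ := hc13 g
      obtain ⟨x', hx', rfl⟩ := hc13 g'
      obtain ⟨y, hy, rfl⟩ := hc23 h
      rw [← hΓ x hx y hy, ← hΓ x' hx' y hy, ← hform₁ x' hx' _ (hcmT x y),
        ← hform₁ x hx _ (hcmT x' y), hid1 x hx x' hx' y])
    (by
      intro g h h'
      obtain ⟨x, hx, rfl⟩ := hc13 g
      obtain ⟨y, hy, rfl⟩ := hc23 h
      obtain ⟨y', hy', rfl⟩ := hc23 h'
      rw [← hΓ x hx y hy, ← hΓ x hx y' hy', ← hform₂ y' hy' _ (hcmT x y),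
        ← hform₂ y hy _ (hcmT x y'), hid2 x y hy y' hy'])
  intro x₁ hx₁ x₂ hx₂
  apply C.memZ
  have h1 := hΓ x₁ hx₁ x₂ hx₂
  rw [hΓ0] at h1
  exact (C.cz_zero _ (hTsq _ (hcmT x₁ x₂))).mp h1

end comm

end Cfsg.Agent.Lib.Helper22.Suz
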