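import Mathlib
import Cfsg.Agent.Lib.Helper22.SuzMainA
import Cfsg.Agent.Lib.Helper10.PGroupBasic

set_option autoImplicit false

/-!
# Suzuki 2-groups: squares are central (helper22)
-/

namespace Cfsg.Agent.Lib.Helper22.Suz

open Cfsg.Agent.Lib.Helper20.SuzTwist

variable {P : Type*} [Group P]

theorem dl_mul_left' (x x' b : P) : dl (x * x') b = dl x' b * dl x b * dl x' (dl x b) := by
  have h1 : dl (x * x') b = b⁻¹ * (x'⁻¹ * (x⁻¹ * b * x) * x') := by unfold dl; group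
  rw [h1, conj_eq_dl x b]
  have h2 : x'⁻¹ * (b * dl x b) * x' = (x'⁻¹ * b * x') * (x'⁻¹ * dl x b * x') := by group
  rw [h2, conj_eq_dl x' b, conj_eq_dl x' (dl x b)]
  group

theorem dl_eq_one_iff (x t : P) : dl x t = 1 ↔ x * t = t * x := by
  unfold dl
  constructor
  · intro h
    have h1 : x⁻¹ * t * x = t := by
      have := inv_mul_eq_one.mp h
      exact this.symm
    calc x * t = x * (x⁻¹ * t * x) := by rw [h1]
      _ = t * x := by group
  · intro h
    rw [mul_assoc x⁻¹, ← h]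
    group

theorem dl_one_left (t : P) : dl 1 t = 1 := by unfold dl; group

/-- Minimal invariant subgroups above `T`. -/
theorem exists_min_above [Finite P] (K : Subgroup (MulAut P)) (T L : Subgroup P) (hL : KInv K L)
    (hTL : T ≤ L) (hne : ∃ x ∈ L, x ∉ T) :
    ∃ M : Subgroup P, KInv K M ∧ T ≤ M ∧ M ≤ L ∧ (∃ x ∈ M, x ∉ T) ∧
      ∀ B' : Subgroup P, KInv K B' → T ≤ B' → B' ≤ M → B' = T ∨ B' = M := by
  classical
  let 𝒮 : Set (Subgroup P) := {M | KInv K M ∧ T ≤ M ∧ M ≤ L ∧ ∃ x ∈ M, x ∉ T}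
  have hne' : 𝒮.Nonempty := ⟨L, hL, hTL, le_rfl, hne⟩
  obtain ⟨M, hM, hmin⟩ := wellFounded_lt.has_min 𝒮 hne'
  obtain ⟨h1, h2, h3, h4⟩ := hM
  refine ⟨M, h1, h2, h3, h4, ?_⟩
  intro B' hB' hTB' hB'M
  by_cases h : B' ≤ T
  · left
    exact le_antisymm h hTB'
  · right
    obtain ⟨x, hx, hxT⟩ := SetLike.not_le_iff_exists.mp h
    have h5 : B' ∈ 𝒮 := ⟨hB', hTB', hB'M.trans h3, x, hx, hxT⟩
    have h6 := hmin B' h5
    exact eq_of_le_of_not_lt hB'M h6

section main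

variable {K : Subgroup (MulAut P)} {ξ : MulAut P} {n : ℕ}

/-- Twisted commutators with a fixed element of `T` are homomorphisms to the centre. -/
theorem dl_hom (T : Subgroup P) (hTP : ∀ (x : P), ∀ t ∈ T, dl x t ∈ Subgroup.center P)
    (x y : P) {t : P} (ht : t ∈ T) : dl (x * y) t = dl x t * dl y t := by
  have hcen : ∀ z ∈ Subgroup.center P, ∀ y : P, z * y = y * z :=
    fun z hz y => (Subgroup.mem_center_iff.mp hz y).symm
  rw [dl_mul_left', dl_central y _ (hcen _ (hTP x t ht)), mul_one]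
  exact (hcen _ (hTP x t ht) _).symm

theorem dl_sq (C : PreCtx K ξ n) (T : Subgroup P)
    (hTP : ∀ (x : P), ∀ t ∈ T, dl x t ∈ Subgroup.center P)
    (x : P) {t : P} (ht : t ∈ T) : dl (x * x) t = 1 := by
  rw [dl_hom T hTP x x ht]
  exact C.Z2 _ (hTP x t ht)

theorem dl_inv_left (C : PreCtx K ξ n) (T : Subgroup P)
    (hTP : ∀ (x : P), ∀ t ∈ T, dl x t ∈ Subgroup.center P)
    (x : P) {t : P} (ht : t ∈ T) : dl x⁻¹ t = dl x t := by
  have h1 := dl_hom T hTP x⁻¹ x ht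
  rw [inv_mul_cancel, dl_one_left] at h1
  have h2 := C.Z2 _ (hTP x t ht)
  calc dl x⁻¹ t = dl x⁻¹ t * (dl x t * dl x t) := by rw [h2, mul_one]
    _ = (dl x⁻¹ t * dl x t) * dl x t := by rw [mul_assoc]
    _ = dl x t := by rw [← h1, one_mul]

theorem dl_cm (C : PreCtx K ξ n) (T : Subgroup P)
    (hTP : ∀ (x : P), ∀ t ∈ T, dl x t ∈ Subgroup.center P)
    (x y : P) {t : P} (ht : t ∈ T) : dl (x⁻¹ * y⁻¹ * x * y) t = 1 := by
  have hcen : ∀ z ∈ Subgroup.center P, ∀ y : P, z * y = y * z :=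
    fun z hz y => (Subgroup.mem_center_iff.mp hz y).symm
  rw [dl_hom T hTP _ y ht, dl_hom T hTP _ x ht, dl_hom T hTP _ y⁻¹ ht, dl_inv_left C T hTP x ht,
    dl_inv_left C T hTP y ht]
  have ha := C.Z2 _ (hTP x t ht)
  have hb := C.Z2 _ (hTP y t ht)
  have hab := hcen _ (hTP x t ht) (dl y t)
  calc dl x t * dl y t * dl x t * dl y t = dl x t * (dl y t * dl x t) * dl y t := by group
    _ = dl x t * (dl x t * dl y t) * dl y t := by rw [← hab]
    _ = (dl x t * dl x t) * (dl y t * dl y t) := by group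
    _ = 1 := by rw [ha, hb, one_mul]

/-- Basic facts on `T = Bsub Z(P)`. -/
theorem T_basic (C : PreCtx K ξ n) :
    Good K (Subgroup.center P) ∧ KInv K (Bsub (Subgroup.center P)) ∧
    Subgroup.center P ≤ Bsub (Subgroup.center P) ∧
    (∀ t ∈ Bsub (Subgroup.center P), t * t ∈ Subgroup.center P) ∧
    (∀ z ∈ Subgroup.center P, ∃ t ∈ Bsub (Subgroup.center P), t * t = z) ∧
    (∀ (x : P), ∀ t ∈ Bsub (Subgroup.center P), dl x t ∈ Subgroup.center P) ∧
    ∃ x₀ ∈ Bsub (Subgroup.center P), x₀ ∉ Subgroup.center P := by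
  have S := C.S
  haveI := S.fin
  have gZ : Good K (Subgroup.center P) :=
    ⟨fun a _ b hb => Subgroup.mem_center_iff.mp hb a, inferInstance, kinv_center K⟩
  have hTK : KInv K (Bsub (Subgroup.center P)) := fun φ hφ x hx => gZ.Bsub_inv φ hφ hx
  have hZne : Subgroup.center P ≠ ⊤ := by
    intro h
    obtain ⟨x, y, hxy⟩ := C.nab
    have hx : x ∈ Subgroup.center P := h ▸ Subgroup.mem_top x
    exact hxy (Subgroup.mem_center_iff.mp hx y).symm
  obtain ⟨x₀, hx₀T, hx₀Z⟩ := exists_mem_Bsub_not_mem S.pg (Subgroup.center P) hZne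
  have hTsq : ∀ t ∈ Bsub (Subgroup.center P), t * t ∈ Subgroup.center P :=
    fun t ht => ((mem_Bsub _ t).mp ht).1
  refine ⟨gZ, hTK, fun z hz => gZ.le_Bsub hz, hTsq, ?_, ?_, x₀, hx₀T, hx₀Z⟩
  · intro z hz
    by_cases hz1 : z = 1
    · exact ⟨1, Subgroup.one_mem _, by rw [hz1, mul_one]⟩
    have hx₀sq : x₀ * x₀ ≠ 1 := fun h => hx₀Z (C.memZ h)
    obtain ⟨k, hk, -⟩ := S.reg _ _ hx₀sq (C.Z2 _ (hTsq x₀ hx₀T)) hz1 (C.Z2 z hz)
    exact ⟨(k : MulAut P) x₀, hTK k k.2 x₀ hx₀T, by rw [← map_mul, hk]⟩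
  · intro x t ht
    have h := ((mem_Bsub _ t).mp ht).2 x
    have e : dl x t = t⁻¹ * x⁻¹ * t * x := by unfold dl; group
    rw [e]
    exact h

variable {cz : P → GaloisField 2 n} {lam : GaloisField 2 n}

/-- If `T` is abelian then it is self-centralising. -/
theorem centT_eq (C : Ctx K ξ n cz lam)
    (hTab : ∀ a ∈ Bsub (Subgroup.center P), ∀ b ∈ Bsub (Subgroup.center P), a * b = b * a) :
    ∀ x : P, (∀ t ∈ Bsub (Subgroup.center P), x * t = t * x) → x ∈ Bsub (Subgroup.center P) := by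
  have S := C.S
  haveI := S.fin
  obtain ⟨gZ, hTK, hZT, hTsq, hTsurj, hTP, x₀, hx₀T, hx₀Z⟩ := T_basic C.toPreCtx
  have hcen : ∀ z ∈ Subgroup.center P, ∀ y : P, z * y = y * z :=
    fun z hz y => (Subgroup.mem_center_iff.mp hz y).symm
  have gT : Good K (Bsub (Subgroup.center P)) := ⟨hTab, Bsub_normal _, hTK⟩
  -- the centraliser
  obtain ⟨A, hAdef⟩ : ∃ A : Subgroup P,
      A = Subgroup.centralizer (Bsub (Subgroup.center P) : Set P) := ⟨_, rfl⟩
  have hAmem : ∀ x, x ∈ A ↔ ∀ t ∈ Bsub (Subgroup.center P), t * x = x * t := by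
    intro x
    rw [hAdef]
    exact Subgroup.mem_centralizer_iff
  have hAK : KInv K A := by
    intro φ hφ a ha
    rw [hAmem] at ha ⊢
    intro t ht
    have h1 := ha (φ⁻¹ t) (hTK.inv_mem hφ ht)
    have h2 := congrArg φ h1
    simpa using h2
  have hAn : A.Normal := by
    rw [hAdef]
    infer_instance
  have hTA : Bsub (Subgroup.center P) ≤ A := by
    intro t' ht'
    rw [hAmem]
    intro t ht
    exact hTab t ht t' ht'
  have hx₀sq : x₀ * x₀ ≠ 1 := fun h => hx₀Z (C.memZ h)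
  have hAab : ∀ a ∈ A, ∀ b ∈ A, a * b = b * a := by
    by_contra hcon
    push Not at hcon
    obtain ⟨a, ha, b, hb, hab⟩ := hcon
    apply hx₀sq
    apply sub_center_sq S A hAK ⟨a, ha, b, hb, hab⟩ (hTA hx₀T)
    intro y hy
    exact (hAmem y).mp hy x₀ hx₀T
  have gA : Good K A := ⟨hAab, hAn, hAK⟩
  have hAsq : ∀ x : P, x * x ∈ A := by
    intro x
    rw [hAmem]
    intro t ht
    exact ((dl_eq_one_iff _ _).mp (dl_sq C.toPreCtx _ hTP x ht)).symm
  have hAcm : ∀ x y : P, x⁻¹ * y⁻¹ * x * y ∈ A := by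
    intro x y
    rw [hAmem]
    intro t ht
    exact ((dl_eq_one_iff _ _).mp (dl_cm C.toPreCtx _ hTP x y ht)).symm
  have hAne : ∃ x ∈ (⊤ : Subgroup P), x ∉ A := by
    by_contra hcon
    push Not at hcon
    apply hx₀Z
    rw [Subgroup.mem_center_iff]
    intro g
    exact ((hAmem g).mp (hcon g trivial) x₀ hx₀T).symm
  obtain ⟨H, hHK, hAH, -, hHne, hHsimp⟩ := exists_min_above K A ⊤ (kinv_top K) le_top hAne
  have hT4 : ∀ a ∈ A, a ^ 4 = 1 → a ∈ Bsub (Subgroup.center P) := by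
    intro a ha ha4
    have h1 : (a * a) * (a * a) = 1 := by
      rw [← ha4]
      simp only [pow_succ, pow_zero, one_mul, mul_assoc]
    obtain ⟨t, ht, htt⟩ := hTsurj _ (C.memZ h1)
    have hat : t * a = a * t := (hAmem a).mp ha t ht
    have h2 : (a * t⁻¹) * (a * t⁻¹) = 1 := by
      have hat' : t⁻¹ * a = a * t⁻¹ := by
        calc t⁻¹ * a = t⁻¹ * (a * t) * t⁻¹ := by group
          _ = t⁻¹ * (t * a) * t⁻¹ := by rw [hat]
          _ = a * t⁻¹ := by group
      calc a * t⁻¹ * (a * t⁻¹) = a * (t⁻¹ * a) * t⁻¹ := by group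
        _ = a * (a * t⁻¹) * t⁻¹ := by rw [hat']
        _ = (a * a) * (t * t)⁻¹ := by group
        _ = 1 := by rw [htt, mul_inv_cancel]
    have h3 : a = (a * t⁻¹) * t := by group
    rw [h3]
    exact Subgroup.mul_mem _ (hZT (C.memZ h2)) ht
  obtain ⟨hexp, -⟩ := lemmaI C A H (Bsub (Subgroup.center P)) gA gT hHK hAH hTA hHne
    (fun x _ => hAsq x) (fun x _ y _ => hAcm x y) hHsimp hTsq hTsurj
    (fun x _ h => (hAmem x).mpr (fun t ht => (h t ht).symm)) hT4
  intro x hx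
  have hxA : x ∈ A := (hAmem x).mpr (fun t ht => (hx t ht).symm)
  exact hT4 x hxA (hexp x hxA)

end main

end Cfsg.Agent.Lib.Helper22.Suz
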