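import Mathlib
import Cfsg.Agent.Lib.Helper22.SuzMainB

set_option autoImplicit false

/-!
# Suzuki 2-groups: `T = Z₂ ∩ Ω` is not abelian (helper22)
-/

namespace Cfsg.Agent.Lib.Helper22.Suz

open Cfsg.Agent.Lib.Helper20.SuzTwist

variable {P : Type*} [Group P]

variable {K : Subgroup (MulAut P)} {ξ : MulAut P} {n : ℕ}
  {cz : P → GaloisField 2 n} {lam : GaloisField 2 n}

theorem cm_one_right (x : P) : cm x 1 = 1 := by unfold cm; group

theorem cm_inv_right (x y : P) : cm x y⁻¹ = y * (cm x y)⁻¹ * y⁻¹ := by unfold cm; group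

theorem cm_swap (x y : P) : cm x y = (cm y x)⁻¹ := by unfold cm; group

theorem cm_map (φ : MulAut P) (x y : P) : φ (cm x y) = cm (φ x) (φ y) := by
  unfold cm; simp

/-- `T` abelian is impossible. -/
theorem abelianT_false (C : Ctx K ξ n cz lam)
    (hTab : ∀ a ∈ Bsub (Subgroup.center P), ∀ b ∈ Bsub (Subgroup.center P), a * b = b * a) :
    False := by
  have S := C.S
  haveI := S.fin
  obtain ⟨gZ, hTK, hZT, hTsq, hTsurj, hTP, x₀, hx₀T, hx₀Z⟩ := T_basic C.toPreCtx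
  have hcen : ∀ z ∈ Subgroup.center P, ∀ y : P, z * y = y * z :=
    fun z hz y => (Subgroup.mem_center_iff.mp hz y).symm
  have gT : Good K (Bsub (Subgroup.center P)) := ⟨hTab, Bsub_normal _, hTK⟩
  have hcentT := centT_eq C hTab
  obtain ⟨T, hTdef⟩ : ∃ T : Subgroup P, T = Bsub (Subgroup.center P) := ⟨_, rfl⟩
  rw [← hTdef] at gT hTK hZT hTsq hTsurj hTP hx₀T hcentT hTab
  haveI hTn : T.Normal := gT.normal
  have hTmem : ∀ x : P, x ∈ T ↔ x * x ∈ Subgroup.center P ∧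
      ∀ y, x⁻¹ * y⁻¹ * x * y ∈ Subgroup.center P := by
    intro x
    rw [hTdef]
    exact mem_Bsub _ x
  have hPsq : ∀ x : P, x * x ∈ T := by
    intro x
    apply hcentT
    intro t ht
    exact (dl_eq_one_iff _ _).mp (dl_sq C.toPreCtx _ hTP x ht)
  have hPcm : ∀ x y : P, x⁻¹ * y⁻¹ * x * y ∈ T := by
    intro x y
    apply hcentT
    intro t ht
    exact (dl_eq_one_iff _ _).mp (dl_cm C.toPreCtx _ hTP x y ht)
  have hTne : ∃ x ∈ (⊤ : Subgroup P), x ∉ T := by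
    by_contra hcon
    push Not at hcon
    obtain ⟨x, y, hxy⟩ := C.nab
    exact hxy (hTab x (hcon x trivial) y (hcon y trivial))
  -- the minimal sections
  obtain ⟨𝓜, h𝓜⟩ : ∃ 𝓜 : Subgroup P → Prop, ∀ M, 𝓜 M ↔ (KInv K M ∧ T ≤ M ∧ (∃ x ∈ M, x ∉ T) ∧
      ∀ B' : Subgroup P, KInv K B' → T ≤ B' → B' ≤ M → B' = T ∨ B' = M) := ⟨_, fun _ => Iff.rfl⟩
  have hMsq : ∀ M, 𝓜 M → ∀ x ∈ M, x * x ∈ Subgroup.center P := by
    intro M hM
    obtain ⟨hMK, hTM, hMne, hMsimp⟩ := (h𝓜 M).mp hM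
    exact (lemmaI C T M T gT gT hMK hTM le_rfl hMne (fun x _ => hPsq x) (fun x _ y _ => hPcm x y)
      hMsimp hTsq hTsurj (fun x _ h => hcentT x h) (fun b hb _ => hb)).2
  have hMM : ∀ M₁, 𝓜 M₁ → ∀ M₂, 𝓜 M₂ → ∀ x₁ ∈ M₁, ∀ x₂ ∈ M₂, cm x₁ x₂ ∈ Subgroup.center P := by
    intro M₁ hM₁ M₂ hM₂
    obtain ⟨hMK₁, hTM₁, hMne₁, hMsimp₁⟩ := (h𝓜 M₁).mp hM₁
    obtain ⟨hMK₂, hTM₂, hMne₂, hMsimp₂⟩ := (h𝓜 M₂).mp hM₂
    exact comm_central C T M₁ M₂ gT hTsq hTsurj hTP hcentT hPsq hPcm hMK₁ hTM₁ hMne₁ hMsimp₁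
      (hMsq M₁ hM₁) hMK₂ hTM₂ hMne₂ hMsimp₂ (hMsq M₂ hM₂)
  -- the subgroup of elements commuting with all minimal sections modulo the centre
  let R : Subgroup P :=
    { carrier := {y | ∀ M, 𝓜 M → ∀ x ∈ M, cm x y ∈ Subgroup.center P}
      one_mem' := by
        intro M _ x _
        rw [cm_one_right]
        exact Subgroup.one_mem _
      mul_mem' := by
        intro y y' hy hy' M hM x hx
        rw [cm_mul_right]
        have h1 := hy M hM x hx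
        have h2 : y'⁻¹ * cm x y * y' = cm x y := by
          rw [mul_assoc, hcen _ h1 y', ← mul_assoc, inv_mul_cancel, one_mul]
        rw [h2]
        exact Subgroup.mul_mem _ (hy' M hM x hx) h1
      inv_mem' := by
        intro y hy M hM x hx
        rw [cm_inv_right]
        have h1 := Subgroup.inv_mem _ (hy M hM x hx)
        have h2 : y * (cm x y)⁻¹ * y⁻¹ = (cm x y)⁻¹ := by
          rw [← hcen _ h1 y, mul_assoc, mul_inv_cancel, mul_one]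
        rw [h2]
        exact h1 }
  have hRmem : ∀ y, y ∈ R ↔ ∀ M, 𝓜 M → ∀ x ∈ M, cm x y ∈ Subgroup.center P := fun _ => Iff.rfl
  have hRK : KInv K R := by
    intro φ hφ y hy
    rw [hRmem] at hy ⊢
    intro M hM x hx
    obtain ⟨hMK, -, -, -⟩ := (h𝓜 M).mp hM
    have h1 := hy M hM (φ⁻¹ x) (hMK.inv_mem hφ hx)
    have h2 := kinv_center K φ hφ _ h1
    rw [cm_map] at h2
    simpa using h2
  have hTR : T ≤ R := by
    intro t ht
    rw [hRmem]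
    intro M _ x _
    rw [cm_swap]
    exact Subgroup.inv_mem _ (((hTmem t).mp ht).2 x)
  have hMR : ∀ M, 𝓜 M → M ≤ R := by
    intro M hM y hy
    rw [hRmem]
    intro M' hM' x hx
    exact hMM M' hM' M hM x hx y hy
  have hRtop : R = ⊤ := by
    by_contra hne
    obtain ⟨R', hR'K, hTR', hRR', hsup⟩ := exists_kinv_compl C.toPreCtx T R hTK hRK hPsq hPcm
    have hR'ne : ∃ x ∈ R', x ∉ T := by
      by_contra hcon
      push Not at hcon
      apply hne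
      rw [← hsup]
      exact (sup_eq_left.mpr (le_trans (fun x hx => hcon x hx) hTR)).symm
    obtain ⟨M, hMK, hTM, hMR', hMne, hMsimp⟩ := exists_min_above K T R' hR'K hTR' hR'ne
    have hM : 𝓜 M := (h𝓜 M).mpr ⟨hMK, hTM, hMne, hMsimp⟩
    obtain ⟨x, hx, hxT⟩ := hMne
    exact hxT (hRR' ⟨hMR M hM hx, hMR' hx⟩)
  obtain ⟨M₀, hMK₀, hTM₀, -, hMne₀, hMsimp₀⟩ := exists_min_above K T ⊤ (kinv_top K) le_top hTne
  have hM₀ : 𝓜 M₀ := (h𝓜 M₀).mpr ⟨hMK₀, hTM₀, hMne₀, hMsimp₀⟩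
  obtain ⟨x, hx, hxT⟩ := hMne₀
  apply hxT
  rw [hTmem]
  refine ⟨hMsq M₀ hM₀ x hx, fun y => ?_⟩
  have hy : y ∈ R := by rw [hRtop]; trivial
  exact (hRmem y).mp hy M₀ hM₀ x hx

end Cfsg.Agent.Lib.Helper22.Suz
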