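import Mathlib
import Cfsg.Agent.Lib.Helper22.SuzMainC
import Cfsg.Agent.Lib.Helper20.QuadCW

set_option autoImplicit false

/-!
# Suzuki 2-groups: Higman's theorem (helper22)
-/

namespace Cfsg.Agent.Lib.Helper22.Suz

open Cfsg.Agent.Lib.Helper20.SuzTwist

variable {P : Type*} [Group P]

variable {K : Subgroup (MulAut P)} {ξ : MulAut P} {n : ℕ}
  {cz : P → GaloisField 2 n} {lam : GaloisField 2 n}

/-- If `T` is not abelian then all squares are central. -/
theorem sq_central_of_nonab (C : PreCtx K ξ n)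
    (hT : ∃ a ∈ Bsub (Subgroup.center P), ∃ b ∈ Bsub (Subgroup.center P), a * b ≠ b * a) :
    ∀ x : P, x * x ∈ Subgroup.center P := by
  have S := C.S
  haveI := S.fin
  haveI : Fact (Nat.Prime 2) := ⟨Nat.prime_two⟩
  obtain ⟨gZ, hTK, hZT, hTsq, hTsurj, hTP, x₀, hx₀T, hx₀Z⟩ := T_basic C
  obtain ⟨A, hAdef⟩ : ∃ A : Subgroup P,
      A = Subgroup.centralizer (Bsub (Subgroup.center P) : Set P) := ⟨_, rfl⟩
  have hAmem : ∀ x, x ∈ A ↔ ∀ t ∈ Bsub (Subgroup.center P), t * x = x * t := by
    intro x
    rw [hAdef]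
    exact Subgroup.mem_centralizer_iff
  haveI hAn : A.Normal := by
    rw [hAdef]
    infer_instance
  have hAZ : A ≤ Subgroup.center P := by
    by_contra hcon
    obtain ⟨c, hcA, hcZ⟩ := SetLike.not_le_iff_exists.mp hcon
    have hsurj : Function.Surjective (QuotientGroup.mk' (Subgroup.center P)) :=
      QuotientGroup.mk'_surjective _
    haveI hNn : (A.map (QuotientGroup.mk' (Subgroup.center P))).Normal := hAn.map _ hsurj
    have hNne : A.map (QuotientGroup.mk' (Subgroup.center P)) ≠ ⊥ := by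
      intro h
      have h1 : QuotientGroup.mk' (Subgroup.center P) c ∈
          A.map (QuotientGroup.mk' (Subgroup.center P)) := Subgroup.mem_map_of_mem _ hcA
      rw [h, Subgroup.mem_bot] at h1
      exact hcZ ((QuotientGroup.eq_one_iff c).mp h1)
    have hQ : IsPGroup 2 (P ⧸ Subgroup.center P) := S.pg.to_quotient _
    obtain ⟨xb, hxbN, hxbc, hxb1⟩ :=
      Cfsg.Agent.Lib.Helper10.exists_mem_center_of_normal_ne_bot 2 hQ _ hNne
    obtain ⟨j, hj1, hj2⟩ := exists_pow_invol hQ xb hxb1
    have hjN := Subgroup.pow_mem _ hxbN j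
    have hjc := Subgroup.pow_mem _ hxbc j
    obtain ⟨d, hdA, hd⟩ := Subgroup.mem_map.mp hjN
    have hdT : d ∈ Bsub (Subgroup.center P) := by
      refine ⟨?_, ?_⟩
      · show QuotientGroup.mk' (Subgroup.center P) d ∈ Subgroup.center _
        rw [hd]
        exact hjc
      · show QuotientGroup.mk' (Subgroup.center P) d * QuotientGroup.mk' (Subgroup.center P) d = 1
        rw [hd]
        exact hj2
    have hdZ : d ∉ Subgroup.center P := by
      intro h
      apply hj1
      rw [← hd]
      exact (QuotientGroup.eq_one_iff d).mpr h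
    apply hdZ
    apply C.memZ
    apply sub_center_sq S _ hTK hT hdT
    intro y hy
    exact ((hAmem d).mp hdA y hy).symm
  intro x
  apply hAZ
  rw [hAmem]
  intro t ht
  exact ((dl_eq_one_iff _ _).mp (dl_sq C _ hTP x ht)).symm

/-- All squares are central. -/
theorem sq_central (C : Ctx K ξ n cz lam) : ∀ x : P, x * x ∈ Subgroup.center P := by
  by_cases hTab : ∀ a ∈ Bsub (Subgroup.center P), ∀ b ∈ Bsub (Subgroup.center P), a * b = b * a
  · exact (abelianT_false C hTab).elim
  · push Not at hTab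
    exact sq_central_of_nonab C.toPreCtx hTab

end Cfsg.Agent.Lib.Helper22.Suz
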