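import Mathlib
import Cfsg.Agent.Lib.Helper22.SuzMainD

set_option autoImplicit false

/-!
# Suzuki 2-groups: Higman's theorem, orders and exponent (helper22)
-/

namespace Cfsg.Agent.Lib.Helper22.Suz

open Cfsg.Agent.Lib.Helper20.SuzTwist

variable {P : Type*} [Group P]

variable {K : Subgroup (MulAut P)} {ξ : MulAut P} {n : ℕ}

theorem cm_central_of_sq (hsq : ∀ x : P, x * x ∈ Subgroup.center P) (x y : P) :
    x⁻¹ * y⁻¹ * x * y ∈ Subgroup.center P := by
  rw [cm_eq_squares]
  exact Subgroup.mul_mem _ (Subgroup.mul_mem _ (hsq x⁻¹) (hsq _)) (hsq y)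

/-- `|P / Z| ≤ |Z|²`. -/
theorem card_quot_le (C : PreCtx K ξ n) (hsq : ∀ x : P, x * x ∈ Subgroup.center P) :
    Nat.card (P ⧸ Subgroup.center P) ≤ Nat.card (Subgroup.center P) ^ 2 := by
  classical
  have S := C.S
  haveI := S.fin
  have hcen : ∀ z ∈ Subgroup.center P, ∀ y : P, z * y = y * z :=
    fun z hz y => (Subgroup.mem_center_iff.mp hz y).symm
  have hcm : ∀ x y : P, cm x y ∈ Subgroup.center P := fun x y => cm_central_of_sq hsq x y
  let sqZ : P → Subgroup.center P := fun x => ⟨x * x, hsq x⟩
  have hsqZ : ∀ x, ∀ z ∈ Subgroup.center P, sqZ (x * z) = sqZ x := by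
    intro x z hz
    apply Subtype.ext
    show (x * z) * (x * z) = x * x
    calc x * z * (x * z) = x * (z * x) * z := by group
      _ = x * (x * z) * z := by rw [hcen z hz x]
      _ = x * x * (z * z) := by group
      _ = x * x := by rw [C.Z2 z hz, mul_one]
  let q : P ⧸ Subgroup.center P → Subgroup.center P := fun a => Quotient.liftOn' a sqZ (by
    intro a b hab
    rw [QuotientGroup.leftRel_apply] at hab
    have : b = a * (a⁻¹ * b) := by group
    rw [this, hsqZ a _ hab])
  let cmZ : P → P → Subgroup.center P := fun x y => ⟨cm y x, hcm y x⟩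
  let β : P ⧸ Subgroup.center P → P ⧸ Subgroup.center P → Subgroup.center P :=
    fun a b => Quotient.liftOn₂' a b cmZ (by
      intro a₁ a₂ b₁ b₂ h1 h2
      rw [QuotientGroup.leftRel_apply] at h1 h2
      apply Subtype.ext
      show cm a₂ a₁ = cm b₂ b₁
      have e1 : b₁ = a₁ * (a₁⁻¹ * b₁) := by group
      have e2 : b₂ = a₂ * (a₂⁻¹ * b₂) := by group
      rw [e1, e2, cm_central_left _ _ _ (hcen _ h2), cm_central_right _ _ _ (hcen _ h1)])
  have hq : ∀ a b, q (a * b) = q a * q b * β a b := by
    intro a b
    induction a using QuotientGroup.induction_on with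
    | H x =>
    induction b using QuotientGroup.induction_on with
    | H y =>
    apply Subtype.ext
    show (x * y) * (x * y) = x * x * (y * y) * cm y x
    have h : y * x = x * y * cm y x := by unfold cm; group
    have hc := hcen _ (hcm y x) y
    calc x * y * (x * y) = x * (y * x) * y := by group
      _ = x * (x * y * cm y x) * y := by rw [h]
      _ = x * x * y * (cm y x * y) := by group
      _ = x * x * y * (y * cm y x) := by rw [hc]
      _ = x * x * (y * y) * cm y x := by group
  have hβ1 : ∀ a a' b, β (a * a') b = β a b * β a' b := by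
    intro a a' b
    induction a using QuotientGroup.induction_on with
    | H x =>
    induction a' using QuotientGroup.induction_on with
    | H x' =>
    induction b using QuotientGroup.induction_on with
    | H y =>
    apply Subtype.ext
    show cm y (x * x') = cm y x * cm y x'
    rw [cm_mul_right]
    have h2 : x'⁻¹ * cm y x * x' = cm y x := by
      rw [mul_assoc, hcen _ (hcm y x) x', ← mul_assoc, inv_mul_cancel, one_mul]
    rw [h2]
    exact (hcen _ (hcm y x) _).symm
  have hβ2 : ∀ a b b', β a (b * b') = β a b * β a b' := by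
    intro a b b'
    induction a using QuotientGroup.induction_on with
    | H x =>
    induction b using QuotientGroup.induction_on with
    | H y =>
    induction b' using QuotientGroup.induction_on with
    | H y' =>
    apply Subtype.ext
    show cm (y * y') x = cm y x * cm y' x
    rw [cm_mul_left]
    have h2 : y'⁻¹ * cm y x * y' = cm y x := by
      rw [mul_assoc, hcen _ (hcm y x) y', ← mul_assoc, inv_mul_cancel, one_mul]
    rw [h2]
  have hq0 : ∀ a, q a = 1 → a = 1 := by
    intro a
    induction a using QuotientGroup.induction_on with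
    | H x =>
    intro h
    have h1 : x * x = 1 := congrArg Subtype.val h
    exact (QuotientGroup.eq_one_iff x).mpr (C.memZ h1)
  have hZ : ∀ a b, q a = 1 → q b = 1 → q (a * b) = 1 := by
    intro a b ha hb
    have h1 := hq0 a ha
    have h2 := hq0 b hb
    rw [h2, mul_one]
    exact ha
  have hA : ∀ a : P ⧸ Subgroup.center P, a * a = 1 := by
    intro a
    induction a using QuotientGroup.induction_on with
    | H x =>
    rw [← QuotientGroup.mk_mul, QuotientGroup.eq_one_iff]
    exact hsq x
  have hK : ∀ k : Subgroup.center P, k * k = 1 := fun k => Subtype.ext (C.Z2 k k.2)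
  have key := Cfsg.Agent.Lib.Helper20.QuadCW.card_le_of_quadratic hA hK q β hq hβ1 hβ2 hZ
  have hsub : Nat.card {a : P ⧸ Subgroup.center P // q a = 1} ≤ 1 := by
    haveI : Subsingleton {a : P ⧸ Subgroup.center P // q a = 1} :=
      ⟨fun a b => Subtype.ext ((hq0 a a.2).trans (hq0 b b.2).symm)⟩
    exact Finite.card_le_one_iff_subsingleton.mpr inferInstance
  calc Nat.card (P ⧸ Subgroup.center P)
      ≤ Nat.card {a : P ⧸ Subgroup.center P // q a = 1} * Nat.card (Subgroup.center P) ^ 2 := key
    _ ≤ 1 * Nat.card (Subgroup.center P) ^ 2 := Nat.mul_le_mul_right _ hsub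
    _ = Nat.card (Subgroup.center P) ^ 2 := one_mul _

end Cfsg.Agent.Lib.Helper22.Suz
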