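import Mathlib
import Cfsg.Agent.Lib.Helper22.SuzMainE

set_option autoImplicit false

/-!
# Suzuki 2-groups: Higman's theorem, final assembly (helper22)
-/

namespace Cfsg.Agent.Lib.Helper22.Suz

open Cfsg.Agent.Lib.Helper20.SuzTwist

variable {P : Type*} [Group P]

variable {K : Subgroup (MulAut P)} {ξ : MulAut P} {n : ℕ}

/-- Orbit counting: `|K|` divides `|P| - 1`. -/
theorem card_sub_one_dvd (C : PreCtx K ξ n) : (2 ^ n - 1) ∣ Nat.card P - 1 := by
  classical
  have S := C.S
  haveI := S.fin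
  haveI : Fintype P := Fintype.ofFinite P
  haveI : Fintype K := Fintype.ofFinite K
  have hB := MulAction.sum_card_fixedBy_eq_card_orbits_mul_card_group K P
  have h1 : Fintype.card (MulAction.fixedBy P (1 : K)) = Fintype.card P := by
    apply Fintype.card_congr
    exact Equiv.subtypeUnivEquiv (fun x => by rw [MulAction.mem_fixedBy, one_smul])
  have hk : ∀ k ∈ (Finset.univ : Finset K).erase 1,
      Fintype.card (MulAction.fixedBy P k) = 1 := by
    intro k hk
    have hk1 : k ≠ 1 := (Finset.mem_erase.mp hk).1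
    rw [Fintype.card_eq_one_iff]
    refine ⟨⟨1, ?_⟩, ?_⟩
    · rw [MulAction.mem_fixedBy]
      show (k : MulAut P) 1 = 1
      exact map_one _
    · rintro ⟨x, hx⟩
      apply Subtype.ext
      rw [MulAction.mem_fixedBy] at hx
      have hx' : (k : MulAut P) x = x := hx
      exact semireg S k.2 (fun h => hk1 (Subtype.ext h)) hx'
  rw [← Finset.add_sum_erase _ _ (Finset.mem_univ (1 : K)), Finset.sum_congr rfl hk, h1,
    Finset.sum_const, Finset.card_erase_of_mem (Finset.mem_univ _), smul_eq_mul, mul_one,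
    Finset.card_univ] at hB
  have hcK : Fintype.card K = 2 ^ n - 1 := by
    rw [← Nat.card_eq_fintype_card, C.cardK]
  rw [Nat.card_eq_fintype_card, ← hcK]
  have hP1 : 1 ≤ Fintype.card P := Fintype.card_pos
  have hK1 : 1 ≤ Fintype.card K := Fintype.card_pos
  obtain ⟨Ω, hΩ⟩ : ∃ Ω : ℕ,
    Ω = Fintype.card (Quotient (MulAction.orbitRel K P)) := ⟨_, rfl⟩
  rw [← hΩ] at hB
  refine ⟨Ω - 1, ?_⟩
  rw [Nat.mul_sub, mul_one, mul_comm, ← hB]
  omega

theorem dvd_of_pow_sub_one_dvd {n m : ℕ} (h : 2 ^ n - 1 ∣ 2 ^ m - 1) : n ∣ m := by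
  have h1 := Nat.gcd_eq_left h
  rw [Nat.pow_sub_one_gcd_pow_sub_one] at h1
  have h2 : 2 ^ Nat.gcd n m = 2 ^ n := by
    have a1 : 1 ≤ 2 ^ Nat.gcd n m := Nat.one_le_two_pow
    have a2 : 1 ≤ 2 ^ n := Nat.one_le_two_pow
    omega
  have h3 : Nat.gcd n m = n := Nat.pow_right_injective (le_refl 2) h2
  rw [← h3]
  exact Nat.gcd_dvd_right n m

/-- The order of `P`. -/
theorem card_cases (C : PreCtx K ξ n) (hsq : ∀ x : P, x * x ∈ Subgroup.center P) :
    Nat.card P = Nat.card (Subgroup.center P) ^ 2 ∨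
      Nat.card P = Nat.card (Subgroup.center P) ^ 3 := by
  have S := C.S
  haveI := S.fin
  haveI : Fact (Nat.Prime 2) := ⟨Nat.prime_two⟩
  obtain ⟨m, hm⟩ := S.pg.exists_card_eq
  have hq := card_quot_le C hsq
  have hdvd := card_sub_one_dvd C
  have hmul := Subgroup.card_eq_card_quotient_mul_card_subgroup (Subgroup.center P)
  rw [C.cardZ] at hq hmul ⊢
  rw [hm] at hdvd hmul ⊢
  have hnm := dvd_of_pow_sub_one_dvd hdvd
  have hle : m ≤ 3 * n := by
    have h1 : 2 ^ m ≤ 2 ^ (3 * n) := by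
      calc 2 ^ m = Nat.card (P ⧸ Subgroup.center P) * 2 ^ n := hmul
        _ ≤ (2 ^ n) ^ 2 * 2 ^ n := Nat.mul_le_mul_right _ hq
        _ = 2 ^ (3 * n) := by ring
    exact (Nat.pow_le_pow_iff_right (by norm_num)).mp h1
  have hlt : n < m := by
    have h1 : n ≤ m := by
      have : 2 ^ n ∣ 2 ^ m := by
        have := Subgroup.card_subgroup_dvd_card (Subgroup.center P)
        rwa [C.cardZ, hm] at this
      exact (Nat.pow_dvd_pow_iff_le_right (by norm_num)).mp this
    rcases Nat.lt_or_ge n m with h | h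
    · exact h
    exfalso
    have hnm' : n = m := le_antisymm h1 h
    have htop : Subgroup.center P = ⊤ := by
      apply Subgroup.eq_top_of_card_eq
      rw [C.cardZ, hm, hnm']
    obtain ⟨x, y, hxy⟩ := C.nab
    have hx : x ∈ Subgroup.center P := htop ▸ Subgroup.mem_top x
    exact hxy (Subgroup.mem_center_iff.mp hx y).symm
  obtain ⟨k, rfl⟩ := hnm
  have hn0 : 0 < n := by have := C.n2; omega
  have hk1 : 1 < k := by
    by_contra hcon
    have : k ≤ 1 := by omega
    have : n * k ≤ n * 1 := Nat.mul_le_mul_left _ this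
    omega
  have hk3 : k ≤ 3 := by
    by_contra hcon
    have : 4 ≤ k := by omega
    have : n * 4 ≤ n * k := Nat.mul_le_mul_left _ this
    omega
  have : k = 2 ∨ k = 3 := by omega
  rcases this with h | h
  · left
    rw [h, pow_mul]
  · right
    rw [h, pow_mul]

/-- The exponent of `P`. -/
theorem exponent_eq_four (C : PreCtx K ξ n) (hsq : ∀ x : P, x * x ∈ Subgroup.center P) :
    Monoid.exponent P = 4 := by
  have h4 : ∀ x : P, x ^ 4 = 1 := by
    intro x
    have h := C.Z2 _ (hsq x)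
    simp only [pow_succ, pow_zero, one_mul, mul_assoc] at h ⊢
    exact h
  have hd : Monoid.exponent P ∣ 2 ^ 2 := Monoid.exponent_dvd_of_forall_pow_eq_one h4
  have hnd : ¬ Monoid.exponent P ∣ 2 := by
    intro h
    have h2 : ∀ x : P, x ^ 2 = 1 := fun x => by
      obtain ⟨k, hk⟩ := h
      rw [hk, mul_comm, pow_mul, Monoid.pow_exponent_eq_one]
    obtain ⟨x, y, hxy⟩ := C.nab
    have hx : x ∈ Subgroup.center P := C.memZ (by rw [← pow_two]; exact h2 x)
    exact hxy (Subgroup.mem_center_iff.mp hx y).symm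
  obtain ⟨j, hj, hje⟩ := (Nat.dvd_prime_pow Nat.prime_two).mp hd
  interval_cases j
  · exfalso
    apply hnd
    rw [hje]
    norm_num
  · exfalso
    apply hnd
    rw [hje]
    norm_num
  · rw [hje]
    norm_num

/-- **Higman's theorem** on Suzuki `2`-groups. -/
theorem higman (S : Setup P K) (hnab : ∃ x y : P, x * y ≠ y * x) :
    (∀ x : P, x * x ∈ Subgroup.center P) ∧
      (∀ x y : P, x⁻¹ * y⁻¹ * x * y ∈ Subgroup.center P) ∧
      (Nat.card P = Nat.card (Subgroup.center P) ^ 2 ∨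
        Nat.card P = Nat.card (Subgroup.center P) ^ 3) ∧
      Monoid.exponent P = 4 := by
  obtain ⟨ξ, n, cz, lam, C⟩ := exists_ctx S hnab
  have hsq := sq_central C
  exact ⟨hsq, cm_central_of_sq hsq, card_cases C.toPreCtx hsq, exponent_eq_four C.toPreCtx hsq⟩

end Cfsg.Agent.Lib.Helper22.Suz
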