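import Mathlib
import Cfsg.Agent.Lib.Helper22.SylowCount

/-!
helper22: groups with exactly `2p+1` Sylow `p`-subgroups (`p` an odd prime).

Main results: if `n_p(G) = 2p+1` then distinct Sylow `p`-subgroups intersect in a subgroup lying
in every Sylow `p`-subgroup (`inf_le_all`); in a minimal situation (`Faithful`, `NoPrimeToPNormal`)
the Sylow `p`-subgroups have order `p`, are self-centralizing, and `|G| = (2p+1) p e` is odd with
`e ∣ p - 1` (`exists_reduced_card`).
-/

set_option autoImplicit false
set_option linter.unusedSectionVars false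
set_option linter.style.haveILetI false

namespace Cfsg.Agent.Lib.Helper22.SylowTwoP

open Subgroup MulAction

universe u

variable {G : Type u} [Group G] [Finite G] {p : ℕ} [hp : Fact p.Prime]

/-- An element of a Sylow subgroup `x` fixes the Sylow subgroup `y` iff it lies in `y`. -/
theorem smul_eq_iff_mem_of_mem (x y : Sylow p G) {g : G} (hg : g ∈ x) : g • y = y ↔ g ∈ y := by
  rw [Sylow.smul_eq_iff_mem_normalizer]
  constructor
  · intro h
    have h1 : g ∈ (x : Subgroup G) ⊓ normalizer (y : Set G) := ⟨hg, h⟩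
    rw [x.2.inf_normalizer_sylow y] at h1
    exact h1.2
  · intro h
    exact le_normalizer h

/-- A Sylow subgroup is not in the orbit of another Sylow subgroup under its own action. -/
theorem not_mem_orbit_self (x y : Sylow p G) (hxy : x ≠ y) :
    x ∉ orbit (x : Subgroup G) y := by
  rintro ⟨u, hu⟩
  apply hxy
  have h1 : (u : G) • y = x := hu
  have h2 : ∀ z : Sylow p G, (u : G) • z = x → z = x := by
    intro z hz
    have h3 : (u : G)⁻¹ • x = x := by
      rw [smul_eq_iff_mem_of_mem x x (inv_mem u.2)]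
      exact inv_mem u.2
    calc z = (u : G)⁻¹ • ((u : G) • z) := by rw [smul_smul, inv_mul_cancel, one_smul]
      _ = x := by rw [hz, h3]
  exact (h2 y h1).symm

/-- Under the hypothesis `n_p = 2p+1` (`p` odd), the orbit of a Sylow subgroup `y ≠ x` under `x`
has exactly `p` elements. -/
theorem ncard_orbit (hp2 : p ≠ 2) (hcard : Nat.card (Sylow p G) = 2 * p + 1)
    (x y : Sylow p G) (hxy : x ≠ y) : (orbit (x : Subgroup G) y).ncard = p := by
  have hpp : p.Prime := hp.out
  have h3 : 3 ≤ p := by
    have := hpp.two_le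
    omega
  obtain ⟨k, hk⟩ := x.2.index (stabilizer (x : Subgroup G) y)
  rw [index_stabilizer] at hk
  -- `k ≠ 0`
  have hk0 : k ≠ 0 := by
    rintro rfl
    rw [pow_zero, ← index_stabilizer, Subgroup.index_eq_one] at hk
    apply hxy
    have h1 : y ∈ fixedPoints (x : Subgroup G) (Sylow p G) := by
      intro u
      have : u ∈ stabilizer (x : Subgroup G) y := by rw [hk]; trivial
      exact this
    rw [x.2.sylow_mem_fixedPoints_iff] at h1
    exact (Sylow.ext (x.3 y.2 h1)).symm
  -- `p ^ k ≤ 2 p`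
  have hle : p ^ k + 1 ≤ 2 * p + 1 := by
    rw [← hk, ← hcard, ← Set.ncard_insert_of_notMem (not_mem_orbit_self x y hxy) (Set.toFinite _)]
    exact Set.ncard_le_card _
  have hk2 : k < 2 := by
    by_contra hge
    push Not at hge
    have h4 : p ^ 2 ≤ p ^ k := Nat.pow_le_pow_right hpp.pos hge
    nlinarith
  have : k = 1 := by omega
  rw [hk, this, pow_one]

/-- The stabilizer in `x` of `y ≠ x` is the intersection. -/
theorem stabilizer_eq_subgroupOf (x y : Sylow p G) :
    stabilizer (x : Subgroup G) y = ((x : Subgroup G) ⊓ y).subgroupOf x := by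
  ext u
  rw [mem_stabilizer_iff, Subgroup.mem_subgroupOf, Subgroup.mem_inf]
  have : u • y = (u : G) • y := rfl
  rw [this, smul_eq_iff_mem_of_mem x y u.2]
  exact ⟨fun h => ⟨u.2, h⟩, fun h => h.2⟩

/-- `|x| = p |x ⊓ y|` for distinct Sylow subgroups. -/
theorem card_eq_mul_card_inf (hp2 : p ≠ 2) (hcard : Nat.card (Sylow p G) = 2 * p + 1)
    (x y : Sylow p G) (hxy : x ≠ y) :
    Nat.card x = p * Nat.card ((x : Subgroup G) ⊓ y : Subgroup G) := by
  have h1 := Subgroup.card_mul_index (stabilizer (x : Subgroup G) y)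
  rw [index_stabilizer, ncard_orbit hp2 hcard x y hxy, stabilizer_eq_subgroupOf,
    Nat.card_congr (Subgroup.subgroupOfEquivOfLe (inf_le_left : (x : Subgroup G) ⊓ y ≤ x)).toEquiv]
    at h1
  rw [mul_comm]
  exact h1.symm

/-- The intersection `x ⊓ y` is contained in every `x`-conjugate of `y`. -/
theorem inf_le_smul (hp2 : p ≠ 2) (hcard : Nat.card (Sylow p G) = 2 * p + 1)
    (x y : Sylow p G) (hxy : x ≠ y) {u : G} (hu : u ∈ x) {g : G} (hg : g ∈ (x : Subgroup G) ⊓ y) :
    g ∈ u • y := by
  have hpp : p.Prime := hp.out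
  -- the stabilizer is normal
  have hidx : (stabilizer (x : Subgroup G) y).index = p := by
    rw [index_stabilizer, ncard_orbit hp2 hcard x y hxy]
  have hne : Nat.card x ≠ 1 := by
    rw [card_eq_mul_card_inf hp2 hcard x y hxy]
    intro h
    have := Nat.eq_one_of_mul_eq_one_right h
    exact hpp.one_lt.ne' this
  have hnorm : (stabilizer (x : Subgroup G) y).Normal := by
    apply Subgroup.normal_of_index_eq_minFac_card
    rw [hidx]
    obtain ⟨k, hk⟩ := (IsPGroup.iff_card.mp x.2)
    have hk0 : k ≠ 0 := by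
      rintro rfl
      rw [pow_zero] at hk
      exact hne hk
    have : Nat.card (x : Subgroup G) = p ^ k := hk
    rw [this, hpp.pow_minFac hk0]
  have h1 : (⟨g, hg.1⟩ : (x : Subgroup G)) ∈ stabilizer (x : Subgroup G) y := by
    rw [stabilizer_eq_subgroupOf, Subgroup.mem_subgroupOf]
    exact hg
  have h2 := hnorm.conj_mem' _ h1 ⟨u, hu⟩
  rw [mem_stabilizer_iff] at h2
  have h3 : (u⁻¹ * g * u) • y = y := h2
  rw [← smul_eq_iff_mem_of_mem x (u • y) hg.1]
  calc g • u • y = u • ((u⁻¹ * g * u) • y) := by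
        rw [smul_smul, smul_smul]; congr 1; group
    _ = u • y := by rw [h3]

/-- All Sylow `p`-subgroups have the same cardinality. -/
theorem card_sylow_eq (x y : Sylow p G) : Nat.card x = Nat.card y := by
  rw [Sylow.card_eq_multiplicity, Sylow.card_eq_multiplicity]

/-- Key lemma: if `n_p = 2p+1`, then the intersection of two distinct Sylow `p`-subgroups lies in
every Sylow `p`-subgroup. -/
theorem inf_le_all (hp2 : p ≠ 2) (hcard : Nat.card (Sylow p G) = 2 * p + 1)
    (x y : Sylow p G) (hxy : x ≠ y) (w : Sylow p G) : (x : Subgroup G) ⊓ y ≤ w := by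
  have hpp : p.Prime := hp.out
  by_contra hnot
  set D : Subgroup G := (x : Subgroup G) ⊓ y with hD
  have hDp : IsPGroup p D := x.2.to_le inf_le_left
  have hfix : w ∉ fixedPoints D (Sylow p G) := by
    rw [hDp.sylow_mem_fixedPoints_iff]; exact hnot
  rw [mem_fixedPoints] at hfix
  push Not at hfix
  obtain ⟨⟨d, hd⟩, hdw⟩ := hfix
  have hdw' : d • w ≠ w := hdw
  have hwx : x ≠ w := by
    rintro rfl
    exact hnot inf_le_left
  have hwy : y ≠ w := by
    rintro rfl
    exact hnot inf_le_right
  set w' : Sylow p G := d • w with hw'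
  -- `x ⊓ w ≤ w ⊓ w'` and `y ⊓ w ≤ w ⊓ w'`
  have h1 : (x : Subgroup G) ⊓ w ≤ (w : Subgroup G) ⊓ w' := by
    intro g hg
    exact ⟨hg.2, inf_le_smul hp2 hcard x w hwx hd.1 hg⟩
  have h2 : (y : Subgroup G) ⊓ w ≤ (w : Subgroup G) ⊓ w' := by
    intro g hg
    exact ⟨hg.2, inf_le_smul hp2 hcard y w hwy hd.2 hg⟩
  have hcx := card_eq_mul_card_inf hp2 hcard x w hwx
  have hcy := card_eq_mul_card_inf hp2 hcard y w hwy
  have hcw := card_eq_mul_card_inf hp2 hcard w w' (Ne.symm hdw')
  have hcD := card_eq_mul_card_inf hp2 hcard x y hxy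
  rw [card_sylow_eq x w, hcw] at hcx
  rw [card_sylow_eq y w, hcw] at hcy
  rw [card_sylow_eq x w, hcw] at hcD
  have e1 : Nat.card ((w : Subgroup G) ⊓ w' : Subgroup G) = Nat.card ((x : Subgroup G) ⊓ w : Subgroup G) :=
    Nat.eq_of_mul_eq_mul_left hpp.pos hcx
  have e2 : Nat.card ((w : Subgroup G) ⊓ w' : Subgroup G) = Nat.card ((y : Subgroup G) ⊓ w : Subgroup G) :=
    Nat.eq_of_mul_eq_mul_left hpp.pos hcy
  have e3 : Nat.card ((w : Subgroup G) ⊓ w' : Subgroup G) = Nat.card D :=
    Nat.eq_of_mul_eq_mul_left hpp.pos hcD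
  have h1' : (x : Subgroup G) ⊓ w = (w : Subgroup G) ⊓ w' :=
    Subgroup.eq_of_le_of_card_ge h1 e1.le
  have h2' : (y : Subgroup G) ⊓ w = (w : Subgroup G) ⊓ w' :=
    Subgroup.eq_of_le_of_card_ge h2 e2.le
  have h3 : (w : Subgroup G) ⊓ w' ≤ D := by
    apply le_inf
    · rw [← h1']; exact inf_le_left
    · rw [← h2']; exact inf_le_left
  have h3' : (w : Subgroup G) ⊓ w' = D := Subgroup.eq_of_le_of_card_ge h3 e3.ge
  apply hnot
  rw [← h3']
  exact inf_le_left

/-- The action of `G` on its Sylow `p`-subgroups is faithful. -/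
def Faithful (p : ℕ) (G : Type u) [Group G] : Prop :=
  ∀ g : G, (∀ w : Sylow p G, g • w = w) → g = 1

/-- No proper normal subgroup of index prime to `p`. -/
def NoPrimeToPNormal (p : ℕ) (G : Type u) [Group G] : Prop :=
  ∀ Y : Subgroup G, Y.Normal → ¬ p ∣ Y.index → Y = ⊤

theorem inf_eq_bot (hp2 : p ≠ 2) (hcard : Nat.card (Sylow p G) = 2 * p + 1)
    (hf : Faithful p G) (x y : Sylow p G) (hxy : x ≠ y) : (x : Subgroup G) ⊓ y = ⊥ := by
  rw [eq_bot_iff]
  intro g hg
  rw [Subgroup.mem_bot]
  apply hf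
  intro w
  have h1 : g ∈ w := inf_le_all hp2 hcard x y hxy w hg
  rw [Sylow.smul_eq_iff_mem_normalizer]
  exact le_normalizer h1

theorem card_sylow_eq_p (hp2 : p ≠ 2) (hcard : Nat.card (Sylow p G) = 2 * p + 1)
    (hf : Faithful p G) (x : Sylow p G) : Nat.card x = p := by
  have h1 : 1 < Nat.card (Sylow p G) := by
    have := hp.out.pos
    rw [hcard]; omega
  have : Nontrivial (Sylow p G) := Finite.one_lt_card_iff_nontrivial.mp h1
  obtain ⟨y, hy⟩ := exists_ne x
  rw [card_eq_mul_card_inf hp2 hcard x y hy.symm, inf_eq_bot hp2 hcard hf x y hy.symm]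
  simp

/-- Regularity: a nontrivial element of `x` moves every other Sylow subgroup. -/
theorem eq_one_of_smul_eq (hp2 : p ≠ 2) (hcard : Nat.card (Sylow p G) = 2 * p + 1)
    (hf : Faithful p G) (x y : Sylow p G) (hxy : x ≠ y) {u : G} (hu : u ∈ x) (h : u • y = y) :
    u = 1 := by
  rw [smul_eq_iff_mem_of_mem x y hu] at h
  have : u ∈ (x : Subgroup G) ⊓ y := ⟨hu, h⟩
  rw [inf_eq_bot hp2 hcard hf x y hxy] at this
  exact this

/-- There are at most two orbits of `x` on the other Sylow subgroups. -/
theorem two_orbits (hp2 : p ≠ 2) (hcard : Nat.card (Sylow p G) = 2 * p + 1)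
    (x a b c : Sylow p G) (ha : x ≠ a) (hb : x ≠ b) (hc : x ≠ c) :
    b ∈ orbit (x : Subgroup G) a ∨ c ∈ orbit (x : Subgroup G) a ∨ c ∈ orbit (x : Subgroup G) b := by
  have hpp : p.Prime := hp.out
  by_contra hcon
  push Not at hcon
  obtain ⟨h1, h2, h3⟩ := hcon
  have hdisj : ∀ s t : Sylow p G, t ∉ orbit (x : Subgroup G) s →
      Disjoint (orbit (x : Subgroup G) s) (orbit (x : Subgroup G) t) := by
    intro s t hst
    rw [Set.disjoint_left]
    intro z hzs hzt
    apply hst
    rw [← orbit_eq_iff] at hzs hzt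
    rw [← hzs, hzt]
    exact mem_orbit_self t
  have hA := ncard_orbit hp2 hcard x a ha
  have hB := ncard_orbit hp2 hcard x b hb
  have hC := ncard_orbit hp2 hcard x c hc
  have hAB : (orbit (x : Subgroup G) a ∪ orbit (x : Subgroup G) b).ncard = 2 * p := by
    rw [Set.ncard_union_eq (hdisj a b h1) (Set.toFinite _) (Set.toFinite _), hA, hB]; ring
  have hABC : (orbit (x : Subgroup G) a ∪ orbit (x : Subgroup G) b ∪ orbit (x : Subgroup G) c).ncard
      = 3 * p := by
    rw [Set.ncard_union_eq _ (Set.toFinite _) (Set.toFinite _), hAB, hC]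
    · ring
    · rw [Set.disjoint_union_left]
      exact ⟨hdisj a c h2, hdisj b c h3⟩
  have hx : x ∉ orbit (x : Subgroup G) a ∪ orbit (x : Subgroup G) b ∪ orbit (x : Subgroup G) c := by
    simp only [Set.mem_union, not_or]
    exact ⟨⟨not_mem_orbit_self x a ha, not_mem_orbit_self x b hb⟩, not_mem_orbit_self x c hc⟩
  have hle : 3 * p + 1 ≤ 2 * p + 1 := by
    rw [← hABC, ← hcard, ← Set.ncard_insert_of_notMem hx (Set.toFinite _)]
    exact Set.ncard_le_card _
  have := hpp.pos
  omega

theorem mem_orbit_iff' (x a b : Sylow p G) :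
    b ∈ orbit (x : Subgroup G) a ↔ ∃ u ∈ (x : Subgroup G), u • a = b := by
  constructor
  · rintro ⟨u, hu⟩
    exact ⟨u, u.2, hu⟩
  · rintro ⟨u, hu, h⟩
    exact ⟨⟨u, hu⟩, h⟩

/-- An element centralizing `P` and fixing another Sylow subgroup has order dividing `p`. -/
theorem pow_eq_one_of_fixes (hp2 : p ≠ 2) (hcard : Nat.card (Sylow p G) = 2 * p + 1)
    (hf : Faithful p G) (P x : Sylow p G) (hPx : P ≠ x) {c : G}
    (hc : c ∈ centralizer ((P : Subgroup G) : Set G)) (hcx : c • x = x) : c ^ p = 1 := by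
  apply hf
  intro w
  have hcomm : ∀ u ∈ (P : Subgroup G), ∀ z : Sylow p G, c • u • z = u • c • z := by
    intro u hu z
    rw [smul_smul, smul_smul, Subgroup.mem_centralizer_iff.mp hc u hu]
  have hfixpow : ∀ z : Sylow p G, c • z = z → c ^ p • z = z := by
    intro z hz
    have h1 : c ∈ stabilizer G z := hz
    exact pow_mem h1 p
  have hcP : c • P = P := by
    rw [Sylow.smul_eq_iff_mem_normalizer]
    exact Subgroup.centralizer_le_normalizer _ hc
  have hinv : ∀ z : Sylow p G, c • z = z → c⁻¹ • z = z := by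
    intro z hz
    have h1 : c ∈ stabilizer G z := hz
    exact inv_mem h1
  by_cases hwP : w = P
  · rw [hwP]; exact hfixpow P hcP
  by_cases hwx : w ∈ orbit (P : Subgroup G) x
  · rw [mem_orbit_iff'] at hwx
    obtain ⟨u, hu, rfl⟩ := hwx
    apply hfixpow
    rw [hcomm u hu, hcx]
  -- `c • w ≠ P`
  have hcw : P ≠ c • w := by
    intro h
    apply hwP
    calc w = c⁻¹ • (c • w) := by rw [smul_smul, inv_mul_cancel, one_smul]
      _ = P := by rw [← h, hinv P hcP]
  rcases two_orbits hp2 hcard P x w (c • w) hPx (Ne.symm hwP) hcw with h | h | h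
  · exact absurd h hwx
  · exfalso
    apply hwx
    rw [mem_orbit_iff'] at h ⊢
    obtain ⟨u, hu, h⟩ := h
    refine ⟨u, hu, ?_⟩
    calc u • x = u • c⁻¹ • x := by rw [hinv x hcx]
      _ = c⁻¹ • (c • u • c⁻¹ • x) := by rw [smul_smul c⁻¹, inv_mul_cancel, one_smul]
      _ = c⁻¹ • (u • c • c⁻¹ • x) := by rw [hcomm u hu]
      _ = c⁻¹ • (u • x) := by rw [smul_smul c c⁻¹, mul_inv_cancel, one_smul]
      _ = c⁻¹ • (c • w) := by rw [h]
      _ = w := by rw [smul_smul, inv_mul_cancel, one_smul]
  · rw [mem_orbit_iff'] at h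
    obtain ⟨u₀, hu₀, h⟩ := h
    have hpow : ∀ k : ℕ, c ^ k • w = u₀ ^ k • w := by
      intro k
      induction k with
      | zero => simp
      | succ k ih =>
        rw [pow_succ', mul_smul, ih, hcomm (u₀ ^ k) (pow_mem hu₀ k), ← h, smul_smul, ← pow_succ]
    rw [hpow p]
    have h1 : u₀ ^ p = 1 := by
      have h2 : (⟨u₀, hu₀⟩ : (P : Subgroup G)) ^ Nat.card (P : Subgroup G) = 1 := pow_card_eq_one'
      rw [card_sylow_eq_p hp2 hcard hf P] at h2
      have := congrArg Subtype.val h2
      simpa using this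
    rw [h1, one_smul]

/-- An element of prime order `r ≠ p` centralizing `P` is an involution fixing only `P`. -/
theorem prime_order_centralizer (hp2 : p ≠ 2) (hcard : Nat.card (Sylow p G) = 2 * p + 1)
    (hf : Faithful p G) (P : Sylow p G) {c : G}
    (hc : c ∈ centralizer ((P : Subgroup G) : Set G)) {r : ℕ} (hr : r.Prime) (hrp : r ≠ p)
    (ho : orderOf c = r) : r = 2 ∧ ∀ x : Sylow p G, c • x = x → x = P := by
  have hpp : p.Prime := hp.out
  have hfix : ∀ x : Sylow p G, c • x = x → x = P := by
    intro x hx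
    by_contra hne
    have h1 := pow_eq_one_of_fixes hp2 hcard hf P x (Ne.symm hne) hc hx
    have h2 : r ∣ p := by rw [← ho]; exact orderOf_dvd_of_pow_eq_one h1
    rcases (Nat.dvd_prime hpp).mp h2 with h | h
    · exact hr.one_lt.ne' h
    · exact hrp h
  refine ⟨?_, hfix⟩
  haveI : Fact r.Prime := ⟨hr⟩
  have hpg : IsPGroup r (zpowers c) := IsPGroup.of_card (n := 1) (by rw [Nat.card_zpowers, ho, pow_one])
  have hmod := hpg.card_modEq_card_fixedPoints (Sylow p G)
  have hcN : c ∈ normalizer ((P : Subgroup G) : Set G) := Subgroup.centralizer_le_normalizer _ hc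
  have hfp : fixedPoints (zpowers c) (Sylow p G) = {P} := by
    ext x
    rw [mem_fixedPoints, Set.mem_singleton_iff]
    constructor
    · intro h
      exact hfix x (h ⟨c, mem_zpowers c⟩)
    · rintro rfl g
      have : (g : G) • x = x := by
        rw [Sylow.smul_eq_iff_mem_normalizer]
        exact (zpowers_le.mpr hcN) g.2
      exact this
  rw [hfp, hcard] at hmod
  have h1 : Nat.card ({P} : Set (Sylow p G)) = 1 := by simp
  rw [h1] at hmod
  have h2 : r ∣ 2 * p + 1 - 1 := (Nat.modEq_iff_dvd' (by omega)).mp hmod.symm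
  have h3 : r ∣ 2 * p := by simpa using h2
  rcases (Nat.Prime.dvd_mul hr).mp h3 with h | h
  · exact (Nat.prime_dvd_prime_iff_eq hr Nat.prime_two).mp h
  · exact absurd ((Nat.prime_dvd_prime_iff_eq hr hpp).mp h) hrp

/-- No involution centralizes a Sylow `p`-subgroup. -/
theorem no_involution_centralizer (hp2 : p ≠ 2) (hcard : Nat.card (Sylow p G) = 2 * p + 1)
    (hf : Faithful p G) (hB : NoPrimeToPNormal p G) (P : Sylow p G) {c : G}
    (hc : c ∈ centralizer ((P : Subgroup G) : Set G)) (ho : orderOf c = 2) : False := by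
  classical
  have hpp : p.Prime := hp.out
  obtain ⟨-, hfix⟩ := prime_order_centralizer hp2 hcard hf P hc Nat.prime_two (Ne.symm hp2) ho
  haveI : Fintype (Sylow p G) := Fintype.ofFinite _
  have hcP : c • P = P := by
    rw [Sylow.smul_eq_iff_mem_normalizer]
    exact Subgroup.centralizer_le_normalizer _ hc
  set σ : Equiv.Perm (Sylow p G) := MulAction.toPermHom G (Sylow p G) c with hσ
  have hσapp : ∀ x, σ x = c • x := fun x => rfl
  have hσ2 : σ ^ 2 = 1 := by
    rw [hσ, ← map_pow, ← ho, pow_orderOf_eq_one, map_one]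
  have hsupp : σ.support = {P}ᶜ := by
    ext x
    rw [Equiv.Perm.mem_support, Finset.mem_compl, Finset.mem_singleton, hσapp]
    constructor
    · intro h hx
      apply h
      rw [hx, hcP]
    · intro h hx
      exact h (hfix x hx)
  have hcardsupp : σ.support.card = 2 * p := by
    rw [hsupp, Finset.card_compl, Finset.card_singleton, ← Nat.card_eq_fintype_card, hcard]
    omega
  have hσ1 : σ ≠ 1 := by
    intro h
    rw [h, Equiv.Perm.support_one, Finset.card_empty] at hcardsupp
    have := hpp.pos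
    omega
  have hord : orderOf σ = 2 := orderOf_eq_prime hσ2 hσ1
  obtain ⟨n, hn⟩ := Equiv.Perm.cycleType_prime_order (σ := σ) (by rw [hord]; exact Nat.prime_two)
  rw [hord] at hn
  have hsum : σ.cycleType.sum = 2 * p := by rw [Equiv.Perm.sum_cycleType, hcardsupp]
  have hn1 : n + 1 = p := by
    rw [hn, Multiset.sum_replicate, smul_eq_mul] at hsum
    omega
  have hsign : Equiv.Perm.sign σ = -1 := by
    rw [Equiv.Perm.sign_of_cycleType, hsum, hn, Multiset.card_replicate, hn1]
    have hodd : Odd (2 * p + p) := by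
      have := hpp.odd_of_ne_two hp2
      obtain ⟨k, hk⟩ := this
      exact ⟨3 * k + 1, by omega⟩
    exact hodd.neg_one_pow
  set ψ : G →* ℤˣ := Equiv.Perm.sign.comp (MulAction.toPermHom G (Sylow p G)) with hψ
  have hψc : ψ c = -1 := hsign
  have hidx : ψ.ker.index ∣ 2 := by
    rw [Subgroup.index_ker]
    have := Subgroup.card_subgroup_dvd_card ψ.range
    rwa [Nat.card_eq_fintype_card (α := ℤˣ), Fintype.card_units_int] at this
  have hnp : ¬ p ∣ ψ.ker.index := by
    intro h
    exact hp2 ((Nat.prime_dvd_prime_iff_eq hpp Nat.prime_two).mp (h.trans hidx))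
  have htop := hB ψ.ker inferInstance hnp
  have hcker : c ∈ ψ.ker := by rw [htop]; trivial
  rw [MonoidHom.mem_ker, hψc] at hcker
  exact absurd hcker (by decide)

/-- `P` is self-centralizing. -/
theorem card_centralizer (hp2 : p ≠ 2) (hcard : Nat.card (Sylow p G) = 2 * p + 1)
    (hf : Faithful p G) (hB : NoPrimeToPNormal p G) (P : Sylow p G) :
    Nat.card (centralizer ((P : Subgroup G) : Set G)) = p := by
  have hpp : p.Prime := hp.out
  have hPc := card_sylow_eq_p hp2 hcard hf P
  have hcyc : IsCyclic (P : Subgroup G) := isCyclic_of_prime_card hPc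
  have hPC : (P : Subgroup G) ≤ centralizer ((P : Subgroup G) : Set G) := by
    rw [Subgroup.le_centralizer_iff_isMulCommutative]
    exact ⟨⟨fun a b => hcyc.commGroup.mul_comm a b⟩⟩
  set C := centralizer ((P : Subgroup G) : Set G) with hC
  have hdvd : p ∣ Nat.card C := by
    rw [← hPc]; exact Subgroup.card_dvd_of_le hPC
  obtain ⟨k, hk⟩ := hdvd
  by_contra hne
  have hk1 : k ≠ 1 := by
    rintro rfl
    rw [mul_one] at hk
    exact hne hk
  obtain ⟨r, hr, hrk⟩ := Nat.exists_prime_and_dvd hk1
  have hrC : r ∣ Nat.card C := by rw [hk]; exact hrk.mul_left p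
  -- `r ≠ p`
  have hrp : r ≠ p := by
    rintro rfl
    have h1 : r * r ∣ Nat.card G := by
      refine Dvd.dvd.trans ?_ (Subgroup.card_subgroup_dvd_card C)
      rw [hk]
      exact mul_dvd_mul_left r hrk
    have h2 := P.not_dvd_index
    rw [← Subgroup.card_mul_index (P : Subgroup G), hPc] at h1
    exact h2 ((Nat.mul_dvd_mul_iff_left hpp.pos).mp h1)
  haveI : Fact r.Prime := ⟨hr⟩
  obtain ⟨c, hc⟩ := exists_prime_orderOf_dvd_card' (G := C) r hrC
  have hc' : orderOf (c : G) = r := by rw [Subgroup.orderOf_coe]; exact hc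
  obtain ⟨h2, -⟩ := prime_order_centralizer hp2 hcard hf P c.2 hr hrp hc'
  rw [h2] at hc'
  exact no_involution_centralizer hp2 hcard hf hB P c.2 hc'

/-- The normalizer of `P` has order `p * e` with `e ∣ p - 1`. -/
theorem card_normalizer (hp2 : p ≠ 2) (hcard : Nat.card (Sylow p G) = 2 * p + 1)
    (hf : Faithful p G) (hB : NoPrimeToPNormal p G) (P : Sylow p G) :
    ∃ e, e ∣ p - 1 ∧ Nat.card (normalizer ((P : Subgroup G) : Set G)) = p * e := by
  have hpp : p.Prime := hp.out
  have hPc := card_sylow_eq_p hp2 hcard hf P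
  have hcyc : IsCyclic (P : Subgroup G) := isCyclic_of_prime_card hPc
  have key := Subgroup.card_dvd_of_injective _
    (QuotientGroup.kerLift_injective (P : Subgroup G).normalizerMonoidHom)
  rw [normalizerMonoidHom_ker, ← index, ← relIndex, IsCyclic.card_mulAut, hPc,
    Nat.totient_prime hpp] at key
  refine ⟨_, key, ?_⟩
  have h1 := Subgroup.card_mul_index
    ((centralizer ((P : Subgroup G) : Set G)).subgroupOf (normalizer ((P : Subgroup G) : Set G)))
  rw [Nat.card_congr (Subgroup.subgroupOfEquivOfLe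
    (Subgroup.centralizer_le_normalizer ((P : Subgroup G) : Set G))).toEquiv,
    card_centralizer hp2 hcard hf hB P] at h1
  exact h1.symm

/-- The order of `G`. -/
theorem card_group (hp2 : p ≠ 2) (hcard : Nat.card (Sylow p G) = 2 * p + 1)
    (hf : Faithful p G) (hB : NoPrimeToPNormal p G) :
    ∃ e, e ∣ p - 1 ∧ Nat.card G = (2 * p + 1) * (p * e) := by
  let P : Sylow p G := default
  obtain ⟨e, he, hN⟩ := card_normalizer hp2 hcard hf hB P
  refine ⟨e, he, ?_⟩
  rw [← hN, ← hcard, Sylow.card_eq_index_normalizer P, mul_comm]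
  exact (Subgroup.card_mul_index _).symm

/-- `G` has odd order. -/
theorem odd_card (hp2 : p ≠ 2) (hcard : Nat.card (Sylow p G) = 2 * p + 1)
    (hf : Faithful p G) (hB : NoPrimeToPNormal p G) : Odd (Nat.card G) := by
  have hpp : p.Prime := hp.out
  by_contra hodd
  rw [Nat.not_odd_iff_even, even_iff_two_dvd] at hodd
  haveI : Fact (Nat.Prime 2) := ⟨Nat.prime_two⟩
  let S : Sylow 2 G := default
  have hnd : ¬ 2 ∣ Nat.card (Sylow p G) := by rw [hcard]; omega
  obtain ⟨P, hP⟩ := S.2.nonempty_fixed_point_of_prime_not_dvd_card (Sylow p G) hnd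
  have hSN : (S : Subgroup G) ≤ normalizer ((P : Subgroup G) : Set G) :=
    (S : Subgroup G).sylow_mem_fixedPoints_iff.mp hP
  have hPc := card_sylow_eq_p hp2 hcard hf P
  have hCc := card_centralizer hp2 hcard hf hB P
  have hcyc : IsCyclic (P : Subgroup G) := isCyclic_of_prime_card hPc
  set φ : (S : Subgroup G) →* MulAut (P : Subgroup G) :=
    (P : Subgroup G).normalizerMonoidHom.comp (Subgroup.inclusion hSN) with hφ
  have hinj : Function.Injective φ := by
    rw [injective_iff_map_eq_one]
    intro s hs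
    have h1 : Subgroup.inclusion hSN s ∈ (P : Subgroup G).normalizerMonoidHom.ker := hs
    rw [normalizerMonoidHom_ker, Subgroup.mem_subgroupOf] at h1
    have h2 : (s : G) ∈ centralizer ((P : Subgroup G) : Set G) := h1
    have h3 : orderOf (s : G) ∣ p := by
      rw [← hCc, ← Subgroup.orderOf_mk (s : G) h2]
      exact orderOf_dvd_natCard _
    obtain ⟨k, hk⟩ := (IsPGroup.iff_orderOf.mp S.2) s
    rw [← Subgroup.orderOf_coe] at hk
    have h4 : orderOf (s : G) = 1 := by
      rcases (Nat.dvd_prime hpp).mp h3 with h | h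
      · exact h
      · exfalso
        rw [h] at hk
        have hk0 : k ≠ 0 := by
          rintro rfl
          rw [pow_zero] at hk
          exact hpp.one_lt.ne' hk
        have : 2 ∣ p := by rw [hk]; exact dvd_pow_self 2 hk0
        exact hp2 ((Nat.prime_dvd_prime_iff_eq Nat.prime_two hpp).mp this).symm
    rw [orderOf_eq_one_iff] at h4
    exact Subtype.ext h4
  -- `MulAut P` is cyclic
  have hcycAut : IsCyclic (MulAut (P : Subgroup G)) := by
    haveI : Fact (Nat.card (P : Subgroup G)).Prime := ⟨by rw [hPc]; exact hpp⟩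
    have e := IsCyclic.mulAutMulEquiv (P : Subgroup G)
    exact isCyclic_of_surjective e.symm.toMonoidHom e.symm.surjective
  have hScyc : IsCyclic (S : Subgroup G) := isCyclic_of_injective φ hinj
  have hmin : (Nat.card G).minFac = 2 := (Nat.minFac_eq_two_iff _).mpr hodd
  have hcompl := IsCyclic.isComplement' hmin hScyc
  set K := (MonoidHom.transferSylow S (hScyc.normalizer_le_centralizer hmin)).ker with hK
  have hidx : K.index = Nat.card (S : Subgroup G) := hcompl.symm.index_eq_card
  obtain ⟨k, hk⟩ := (IsPGroup.iff_card.mp S.2)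
  have hnp : ¬ p ∣ K.index := by
    rw [hidx]
    intro h
    have h1 : p ∣ 2 ^ k := by
      have : Nat.card (S : Subgroup G) = 2 ^ k := hk
      rwa [this] at h
    have := hpp.dvd_of_dvd_pow h1
    exact hp2 ((Nat.prime_dvd_prime_iff_eq hpp Nat.prime_two).mp this)
  have htop := hB K inferInstance hnp
  rw [htop, Subgroup.index_top] at hidx
  have hSbot : (S : Subgroup G) ≠ ⊥ := S.ne_bot_of_dvd_card hodd
  exact hSbot ((Subgroup.card_eq_one).mp hidx.symm)

/-- Reduction to a faithful group without proper normal subgroups of index prime to `p`. -/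
theorem exists_reduced (p : ℕ) [hp : Fact p.Prime] (m : ℕ) :
    ∀ (n : ℕ) (G : Type u) [Group G] [Finite G], Nat.card G = n →
      Nat.card (Sylow p G) = m →
      ∃ (H : Type u) (_ : Group H) (_ : Finite H),
        Nat.card (Sylow p H) = m ∧ Faithful p H ∧ NoPrimeToPNormal p H := by
  intro n
  induction n using Nat.strong_induction_on with
  | _ n ih =>
    intro G _ _ hn hc
    by_cases hf : Faithful p G
    · by_cases hB : NoPrimeToPNormal p G
      · exact ⟨G, inferInstance, inferInstance, hc, hf, hB⟩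
      · unfold NoPrimeToPNormal at hB
        push Not at hB
        obtain ⟨Y, hYn, hYp, hYtop⟩ := hB
        have hlt : Nat.card Y < n := by
          rw [← hn]
          refine lt_of_le_of_ne (Subgroup.card_le_card_group Y) ?_
          intro h
          exact hYtop ((Subgroup.card_eq_iff_eq_top Y).mp h)
        exact ih (Nat.card Y) hlt Y rfl ((SylowCount.card_sylow_subgroup_eq Y hYp).trans hc)
    · unfold Faithful at hf
      push Not at hf
      obtain ⟨g, hg, hg1⟩ := hf
      set K : Subgroup G := (MulAction.toPermHom G (Sylow p G)).ker with hK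
      have hKN : ∀ P : Sylow p G, K ≤ Subgroup.normalizer ((P : Subgroup G) : Set G) := by
        intro P k hk
        have h1 : MulAction.toPermHom G (Sylow p G) k = 1 := hk
        have h2 : k • P = P := congrArg (fun σ : Equiv.Perm (Sylow p G) => σ P) h1
        exact Sylow.smul_eq_iff_mem_normalizer.mp h2
      have hgK : g ∈ K := by
        rw [hK, MonoidHom.mem_ker]
        exact Equiv.ext fun w => hg w
      have hKbot : K ≠ ⊥ := by
        intro h
        rw [h, Subgroup.mem_bot] at hgK
        exact hg1 hgK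
      have hlt : Nat.card (G ⧸ K) < n := by
        rw [← hn, Subgroup.card_eq_card_quotient_mul_card_subgroup K]
        have h1 : 1 < Nat.card K := (Subgroup.one_lt_card_iff_ne_bot K).mpr hKbot
        have h2 : 0 < Nat.card (G ⧸ K) := Nat.card_pos
        nlinarith
      exact ih (Nat.card (G ⧸ K)) hlt (G ⧸ K) rfl
        ((SylowCount.card_sylow_quotient_eq K hKN).trans hc)

/-- If `n_p(G) = 2p+1` for an odd prime `p`, there is a group of odd order `(2p+1) p e` with
`e ∣ p - 1` and without proper normal subgroups of index prime to `p`. -/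
theorem exists_reduced_card (hp2 : p ≠ 2) (hcard : Nat.card (Sylow p G) = 2 * p + 1) :
    ∃ (H : Type u) (_ : Group H) (_ : Finite H) (e : ℕ),
      e ∣ p - 1 ∧ Odd (Nat.card H) ∧ Nat.card H = (2 * p + 1) * (p * e) ∧
        NoPrimeToPNormal p H := by
  obtain ⟨H, _, _, hc, hf, hB⟩ := exists_reduced p (2 * p + 1) (Nat.card G) G rfl hcard
  obtain ⟨e, he, hcardH⟩ := card_group hp2 hc hf hB
  exact ⟨H, inferInstance, inferInstance, e, he, odd_card hp2 hc hf hB, hcardH, hB⟩

/-- A group whose order is divisible by the prime `q` exactly once and coprime to `q - 1` has a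
normal subgroup of index `q` (Burnside). -/
theorem exists_normal_index_prime (q : ℕ) [hq : Fact q.Prime] (hqd : q ∣ Nat.card G)
    (hq2 : ¬ q ^ 2 ∣ Nat.card G) (hcop : Nat.Coprime (q - 1) (Nat.card G)) :
    ∃ Y : Subgroup G, Y.Normal ∧ Y.index = q := by
  have hqq : q.Prime := hq.out
  let S : Sylow q G := default
  have hSc : Nat.card (S : Subgroup G) = q := by
    obtain ⟨k, hk⟩ := (IsPGroup.iff_card.mp S.2)
    have hk' : Nat.card (S : Subgroup G) = q ^ k := hk
    have h1 : k ≠ 0 := by
      rintro rfl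
      rw [pow_zero] at hk'
      exact S.ne_bot_of_dvd_card hqd (Subgroup.card_eq_one.mp hk')
    have h2 : k < 2 := by
      by_contra h
      push Not at h
      apply hq2
      exact (pow_dvd_pow q h).trans (hk' ▸ Subgroup.card_subgroup_dvd_card (S : Subgroup G))
    have : k = 1 := by omega
    rw [hk', this, pow_one]
  have hcyc : IsCyclic (S : Subgroup G) := isCyclic_of_prime_card hSc
  have key := Subgroup.card_dvd_of_injective _
    (QuotientGroup.kerLift_injective (S : Subgroup G).normalizerMonoidHom)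
  rw [normalizerMonoidHom_ker, ← index, ← relIndex, IsCyclic.card_mulAut, hSc,
    Nat.totient_prime hqq] at key
  have h2 : (centralizer ((S : Subgroup G) : Set G)).relIndex
      (normalizer ((S : Subgroup G) : Set G)) ∣ Nat.card G :=
    (Subgroup.relIndex_dvd_card _ _).trans (Subgroup.card_subgroup_dvd_card _)
  have h3 : (centralizer ((S : Subgroup G) : Set G)).relIndex
      (normalizer ((S : Subgroup G) : Set G)) = 1 :=
    Nat.eq_one_of_dvd_coprimes hcop key h2
  have hNC : normalizer ((S : Subgroup G) : Set G) ≤ centralizer ((S : Subgroup G) : Set G) :=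
    Subgroup.relIndex_eq_one.mp h3
  refine ⟨(MonoidHom.transferSylow S hNC).ker, inferInstance, ?_⟩
  rw [(MonoidHom.ker_transferSylow_isComplement' S hNC).symm.index_eq_card, hSc]

end Cfsg.Agent.Lib.Helper22.SylowTwoP
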