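import Cfsg.Agent.Lib.Helper27.SymAlgDefs

/-!
helper22: S4607 leaf A5d (planner helper27): the centralizer of a full set of matrix units lying over
the standard matrix units maps to scalar matrices; the scalar is an augmentation.
-/

set_option autoImplicit false

namespace Cfsg.Agent.Lib.Helper22.SymAlgA5d

open Cfsg.Agent.Lib.Helper27.SymAlg

variable {F : Type*} [Field F] {B : Type*} [Ring B] [Algebra F B]

/-- the image of an element of the centralizer of the matrix units is the scalar matrix of its
`(0,0)` entry -/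
theorem map_eq_smul_one {n : ℕ} [NeZero n] {u : Fin n → Fin n → B}
    (π : B →ₐ[F] Matrix (Fin n) (Fin n) F) (hu : ∀ i j, π (u i j) = Matrix.single i j 1)
    (c : unitsCentralizer F u) :
    π (c : B) = (π (c : B)) 0 0 • (1 : Matrix (Fin n) (Fin n) F) := by
  have hc := (mem_unitsCentralizer (F := F) u (c : B)).mp c.2
  have hcomm : ∀ i j : Fin n, Commute (Matrix.single i j (1 : F)) (π (c : B)) := by
    intro i j
    change Matrix.single i j (1 : F) * π (c : B) = π (c : B) * Matrix.single i j (1 : F)
    rw [← hu i j, ← map_mul, ← map_mul, hc i j]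
  obtain ⟨r, hr⟩ := Matrix.mem_range_scalar_iff_commute_single'.mpr hcomm
  have h00 : (π (c : B)) 0 0 = r := by
    rw [← hr]
    simp [Matrix.scalar_apply]
  rw [h00, ← hr]
  ext i j
  simp [Matrix.scalar_apply, Matrix.diagonal_apply, Matrix.one_apply]

/-- LEAF A5d of S4607. -/
theorem exists_augmentation {n : ℕ} [NeZero n] {u : Fin n → Fin n → B}
    (π : B →ₐ[F] Matrix (Fin n) (Fin n) F) (hu : ∀ i j, π (u i j) = Matrix.single i j 1) :
    ∃ aug : unitsCentralizer F u →ₐ[F] F,
      ∀ c : unitsCentralizer F u, π (c : B) = aug c • (1 : Matrix (Fin n) (Fin n) F) := by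
  have key := map_eq_smul_one (F := F) π hu
  refine ⟨AlgHom.ofLinearMap
    { toFun := fun c => (π (c : B)) 0 0
      map_add' := fun a b => by simp
      map_smul' := fun a b => by simp } ?_ ?_, fun c => key c⟩
  · change (π ((1 : unitsCentralizer F u) : B)) 0 0 = 1
    simp
  · intro a b
    change (π ((a * b : unitsCentralizer F u) : B)) 0 0 = (π (a : B)) 0 0 * (π (b : B)) 0 0
    have h1 : ((a * b : unitsCentralizer F u) : B) = (a : B) * (b : B) := rfl
    rw [h1, map_mul]
    conv_lhs => rw [key a, key b]
    simp [mul_comm]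

end Cfsg.Agent.Lib.Helper22.SymAlgA5d
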