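import Mathlib

set_option autoImplicit false

namespace Cfsg.Agent.Lib.Helper22.SymClasses

open Equiv Equiv.Perm

/-- the set of cycle types of permutations of `n` points -/
def CT (n : ℕ) : Set (Multiset ℕ) := {m | m.sum ≤ n ∧ ∀ a ∈ m, 2 ≤ a}

theorem CT_eq_range (n : ℕ) :
    CT n = Set.range (cycleType : Perm (Fin n) → Multiset ℕ) := by
  ext m
  simp only [CT, Set.mem_ofPred_eq, Set.mem_range]
  rw [Equiv.Perm.exists_with_cycleType_iff, Fintype.card_fin]

theorem CT_finite (n : ℕ) : (CT n).Finite := by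
  rw [CT_eq_range]; exact Set.finite_range _

/-- cycle type as a function on conjugacy classes -/
noncomputable def ctClass (n : ℕ) : ConjClasses (Perm (Fin n)) → Multiset ℕ :=
  Quotient.lift (fun σ : Perm (Fin n) => σ.cycleType)
    (fun _ _ h => isConj_iff_cycleType_eq.1 h)

theorem ctClass_mk (n : ℕ) (σ : Perm (Fin n)) : ctClass n (ConjClasses.mk σ) = σ.cycleType := rfl

theorem ctClass_injective (n : ℕ) : Function.Injective (ctClass n) := by
  intro c1 c2 h
  obtain ⟨σ, rfl⟩ := ConjClasses.mk_surjective c1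
  obtain ⟨τ, rfl⟩ := ConjClasses.mk_surjective c2
  rw [ctClass_mk, ctClass_mk] at h
  exact ConjClasses.mk_eq_mk_iff_isConj.2 (isConj_iff_cycleType_eq.2 h)

theorem range_ctClass (n : ℕ) : Set.range (ctClass n) = CT n := by
  rw [CT_eq_range]
  ext m
  constructor
  · rintro ⟨c, rfl⟩
    obtain ⟨σ, rfl⟩ := ConjClasses.mk_surjective c
    exact ⟨σ, rfl⟩
  · rintro ⟨σ, rfl⟩
    exact ⟨ConjClasses.mk σ, rfl⟩

theorem card_conjClasses_perm (n : ℕ) :
    Nat.card (ConjClasses (Perm (Fin n))) = (CT n).ncard := by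
  rw [← range_ctClass, ← Nat.card_coe_set_eq, Nat.card_range_of_injective (ctClass_injective n)]

theorem CT_zero : CT 0 = {0} := by
  ext m
  simp only [CT, Set.mem_ofPred_eq, Set.mem_singleton_iff]
  constructor
  · rintro ⟨h1, h2⟩
    by_contra hne
    obtain ⟨b, hb⟩ := Multiset.exists_mem_of_ne_zero hne
    have := Multiset.le_sum_of_mem hb
    have := h2 b hb
    omega
  · rintro rfl; simp

theorem CT_one : CT 1 = {0} := by
  ext m
  simp only [CT, Set.mem_ofPred_eq, Set.mem_singleton_iff]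
  constructor
  · rintro ⟨h1, h2⟩
    by_contra hne
    obtain ⟨b, hb⟩ := Multiset.exists_mem_of_ne_zero hne
    have := Multiset.le_sum_of_mem hb
    have := h2 b hb
    omega
  · rintro rfl; simp

theorem CT_succ_succ_ncard (n : ℕ) :
    (CT (n + 2)).ncard ≤ (CT (n + 1)).ncard + (CT n).ncard := by
  have hsub : CT (n + 2) ⊆ CT (n + 1) ∪ (fun m' : Multiset ℕ => m' + {n + 2 - m'.sum}) '' CT n := by
    intro m hm
    by_cases hs : m.sum ≤ n + 1
    · exact Or.inl ⟨hs, hm.2⟩
    · right
      have hsum : m.sum = n + 2 := le_antisymm hm.1 (by omega)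
      have hne : m ≠ 0 := by
        rintro rfl; simp at hsum
      obtain ⟨b, hb⟩ := Multiset.exists_mem_of_ne_zero hne
      have hb2 := hm.2 b hb
      have hcons : b ::ₘ m.erase b = m := Multiset.cons_erase hb
      have hsum' : b + (m.erase b).sum = n + 2 := by
        rw [← hsum, ← hcons, Multiset.sum_cons, hcons]
      refine ⟨m.erase b, ⟨by omega, fun a ha => hm.2 a (Multiset.mem_of_mem_erase ha)⟩, ?_⟩
      have : n + 2 - (m.erase b).sum = b := by omega
      simp only [this]
      rw [add_comm, Multiset.singleton_add, hcons]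
  calc (CT (n + 2)).ncard ≤ (CT (n + 1) ∪ (fun m' : Multiset ℕ => m' + {n + 2 - m'.sum}) '' CT n).ncard :=
        Set.ncard_le_ncard hsub ((CT_finite _).union ((CT_finite _).image _))
    _ ≤ (CT (n + 1)).ncard + ((fun m' : Multiset ℕ => m' + {n + 2 - m'.sum}) '' CT n).ncard :=
        Set.ncard_union_le _ _
    _ ≤ (CT (n + 1)).ncard + (CT n).ncard :=
        Nat.add_le_add_left (Set.ncard_image_le (CT_finite n)) _

theorem CT_ncard_le_fib : ∀ n : ℕ, (CT n).ncard ≤ Nat.fib (n + 1) ∧ (CT (n + 1)).ncard ≤ Nat.fib (n + 2) := by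
  intro n
  induction n with
  | zero =>
    rw [CT_zero, CT_one]
    simp
  | succ n ih =>
    refine ⟨ih.2, ?_⟩
    have h3 := CT_succ_succ_ncard n
    have h4 : Nat.fib (n + 3) = Nat.fib (n + 1) + Nat.fib (n + 2) := Nat.fib_add_two
    show (CT (n + 2)).ncard ≤ Nat.fib (n + 3)
    omega

theorem fib_le_two_pow : ∀ k : ℕ, Nat.fib (k + 6) ≤ 2 ^ (k + 3) ∧ Nat.fib (k + 7) ≤ 2 ^ (k + 4) := by
  intro k
  induction k with
  | zero => decide
  | succ k ih =>
    refine ⟨ih.2, ?_⟩
    have h := Nat.fib_add_two (n := k + 6)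
    have e1 : k + 1 + 7 = k + 6 + 2 := by ring
    have e2 : k + 6 + 1 = k + 7 := by ring
    rw [e1, h, e2]
    have e3 : (2 : ℕ) ^ (k + 1 + 4) = 2 ^ (k + 3) * 4 := by rw [show k + 1 + 4 = (k + 3) + 2 by ring, pow_add]; norm_num
    have e4 : (2 : ℕ) ^ (k + 4) = 2 ^ (k + 3) * 2 := by rw [show k + 4 = (k + 3) + 1 by ring, pow_succ]
    rw [e3]
    omega

theorem card_conjClasses_perm_le (n : ℕ) (hn : 5 ≤ n) :
    Nat.card (ConjClasses (Perm (Fin n))) ≤ 2 ^ (n - 2) := by
  rw [card_conjClasses_perm]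
  obtain ⟨k, rfl⟩ := Nat.exists_eq_add_of_le hn
  have h1 := (CT_ncard_le_fib (5 + k)).1
  have h2 := (fib_le_two_pow k).1
  have e1 : 5 + k + 1 = k + 6 := by ring
  have e2 : 5 + k - 2 = k + 3 := by omega
  rw [e1] at h1
  rw [e2]
  exact h1.trans h2
section alt

/-- cycle type on conjugacy classes of the alternating group -/
noncomputable def ctClassA (n : ℕ) : ConjClasses (alternatingGroup (Fin n)) → Multiset ℕ :=
  Quotient.lift (fun a : alternatingGroup (Fin n) => (a : Perm (Fin n)).cycleType)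
    (fun a b h => by
      obtain ⟨c, hc⟩ := isConj_iff.1 h
      show (a : Perm (Fin n)).cycleType = (b : Perm (Fin n)).cycleType
      rw [← hc]
      simp [cycleType_conj])

theorem ctClassA_mk (n : ℕ) (a : alternatingGroup (Fin n)) :
    ctClassA n (ConjClasses.mk a) = (a : Perm (Fin n)).cycleType := rfl

theorem sign_eq_neg_one_of_not_mem {n : ℕ} {t : Perm (Fin n)}
    (ht : t ∉ alternatingGroup (Fin n)) : sign t = -1 := by
  rw [mem_alternatingGroup] at ht
  rcases Int.units_eq_one_or (sign t) with h | h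
  · exact absurd h ht
  · exact h

theorem mul_mem_alt_of_not_mem {n : ℕ} {t z : Perm (Fin n)}
    (ht : t ∉ alternatingGroup (Fin n)) (hz : z ∉ alternatingGroup (Fin n)) :
    t * z ∈ alternatingGroup (Fin n) := by
  rw [mem_alternatingGroup, map_mul, sign_eq_neg_one_of_not_mem ht,
    sign_eq_neg_one_of_not_mem hz]
  simp

theorem mul_inv_mem_alt_of_not_mem {n : ℕ} {t z : Perm (Fin n)}
    (ht : t ∉ alternatingGroup (Fin n)) (hz : z ∉ alternatingGroup (Fin n)) :
    t * z⁻¹ ∈ alternatingGroup (Fin n) := by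
  apply mul_mem_alt_of_not_mem ht
  intro h
  exact hz (by simpa using (alternatingGroup (Fin n)).inv_mem h)

/-- F1 -/
theorem isConj_of_centralizer_not_le {n : ℕ} (a b : alternatingGroup (Fin n))
    (h : (a : Perm (Fin n)).cycleType = (b : Perm (Fin n)).cycleType)
    (hc : ¬ Subgroup.centralizer {(a : Perm (Fin n))} ≤ alternatingGroup (Fin n)) :
    IsConj a b := by
  obtain ⟨t, ht⟩ := isConj_iff.1 (isConj_iff_cycleType_eq.2 h)
  by_cases htA : t ∈ alternatingGroup (Fin n)
  · rw [isConj_iff]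
    exact ⟨⟨t, htA⟩, Subtype.ext ht⟩
  · rw [SetLike.le_def] at hc
    push Not at hc
    obtain ⟨z, hz, hzA⟩ := hc
    rw [Subgroup.mem_centralizer_singleton_iff] at hz
    rw [isConj_iff]
    refine ⟨⟨t * z, mul_mem_alt_of_not_mem htA hzA⟩, Subtype.ext ?_⟩
    show (t * z) * (a : Perm (Fin n)) * (t * z)⁻¹ = b
    rw [← ht, mul_inv_rev]
    have : z * (a : Perm (Fin n)) * z⁻¹ = a := by
      rw [hz, mul_inv_cancel_right]
    calc t * z * ↑a * (z⁻¹ * t⁻¹) = t * (z * ↑a * z⁻¹) * t⁻¹ := by group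
      _ = t * ↑a * t⁻¹ := by rw [this]

/-- F2 -/
theorem two_of_three {n : ℕ} (a1 a2 a3 : alternatingGroup (Fin n))
    (h12 : (a1 : Perm (Fin n)).cycleType = (a2 : Perm (Fin n)).cycleType)
    (h13 : (a1 : Perm (Fin n)).cycleType = (a3 : Perm (Fin n)).cycleType) :
    IsConj a1 a2 ∨ IsConj a1 a3 ∨ IsConj a2 a3 := by
  obtain ⟨t, ht⟩ := isConj_iff.1 (isConj_iff_cycleType_eq.2 h12)
  obtain ⟨s, hs⟩ := isConj_iff.1 (isConj_iff_cycleType_eq.2 h13)
  by_cases htA : t ∈ alternatingGroup (Fin n)
  · left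
    rw [isConj_iff]
    exact ⟨⟨t, htA⟩, Subtype.ext ht⟩
  · by_cases hsA : s ∈ alternatingGroup (Fin n)
    · right; left
      rw [isConj_iff]
      exact ⟨⟨s, hsA⟩, Subtype.ext hs⟩
    · right; right
      rw [isConj_iff]
      refine ⟨⟨s * t⁻¹, mul_inv_mem_alt_of_not_mem hsA htA⟩, Subtype.ext ?_⟩
      show (s * t⁻¹) * (a2 : Perm (Fin n)) * (s * t⁻¹)⁻¹ = a3
      rw [← hs, ← ht]
      group

theorem even_type_of_mem_alt {n : ℕ} (a : alternatingGroup (Fin n)) :
    Even ((a : Perm (Fin n)).cycleType.sum + Multiset.card (a : Perm (Fin n)).cycleType) := by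
  have h := a.2
  rw [mem_alternatingGroup, sign_of_cycleType] at h
  exact (neg_one_pow_eq_one_iff_even (by decide)).1 h

end alt
section iota

/-- a chosen element of a nonempty multiset -/
noncomputable def pick (m : Multiset ℕ) : ℕ :=
  if h : m = 0 then 0 else Classical.choose (Multiset.exists_mem_of_ne_zero h)

theorem pick_mem {m : Multiset ℕ} (h : m ≠ 0) : pick m ∈ m := by
  unfold pick
  rw [dif_neg h]
  exact Classical.choose_spec (Multiset.exists_mem_of_ne_zero h)

/-- replace the chosen part `a` by `a - 1` -/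
noncomputable def iota (m : Multiset ℕ) : Multiset ℕ := m.erase (pick m) + {pick m - 1}

/-- "splitting type" conditions -/
def IsD (n : ℕ) (m : Multiset ℕ) : Prop :=
  (∀ c ∈ m, Odd c) ∧ n ≤ m.sum + 1 ∧ (∀ c ∈ m, 2 ≤ c) ∧ m.sum ≤ n

theorem IsD.ne_zero {n : ℕ} (hn : 5 ≤ n) {m : Multiset ℕ} (h : IsD n m) : m ≠ 0 := by
  rintro rfl
  have := h.2.1
  simp at this
  omega

theorem IsD.three_le_pick {n : ℕ} (hn : 5 ≤ n) {m : Multiset ℕ} (h : IsD n m) : 3 ≤ pick m := by
  have hm := pick_mem (h.ne_zero hn)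
  have h1 := h.1 _ hm
  have h2 := h.2.2.1 _ hm
  obtain ⟨k, hk⟩ := h1
  omega

theorem sum_iota {n : ℕ} (hn : 5 ≤ n) {m : Multiset ℕ} (h : IsD n m) :
    (iota m).sum + 1 = m.sum := by
  have hm := pick_mem (h.ne_zero hn)
  have h3 := h.three_le_pick hn
  have hcons : pick m ::ₘ m.erase (pick m) = m := Multiset.cons_erase hm
  have hs : pick m + (m.erase (pick m)).sum = m.sum := by
    conv_rhs => rw [← hcons, Multiset.sum_cons]
  unfold iota
  rw [Multiset.sum_add, Multiset.sum_singleton]
  omega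

theorem card_iota {n : ℕ} (hn : 5 ≤ n) {m : Multiset ℕ} (h : IsD n m) :
    Multiset.card (iota m) = Multiset.card m := by
  have hm := pick_mem (h.ne_zero hn)
  unfold iota
  rw [Multiset.card_add, Multiset.card_singleton, Multiset.card_erase_of_mem hm]
  have : 0 < Multiset.card m := Multiset.card_pos_iff_exists_mem.2 ⟨_, hm⟩
  rw [Nat.pred_eq_sub_one]
  omega

theorem iota_mem_CT {n : ℕ} (hn : 5 ≤ n) {m : Multiset ℕ} (h : IsD n m) : iota m ∈ CT n := by
  have h3 := h.three_le_pick hn
  refine ⟨?_, ?_⟩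
  · have := sum_iota hn h
    have := h.2.2.2
    omega
  · intro a ha
    unfold iota at ha
    rw [Multiset.mem_add, Multiset.mem_singleton] at ha
    rcases ha with ha | ha
    · exact h.2.2.1 a (Multiset.mem_of_mem_erase ha)
    · omega

theorem iota_ne_two {n : ℕ} (hn : 5 ≤ n) {m : Multiset ℕ} (h : IsD n m) :
    iota m ≠ {2} := by
  intro heq
  have h1 := sum_iota hn h
  rw [heq, Multiset.sum_singleton] at h1
  have := h.2.1
  omega

theorem iota_injOn {n : ℕ} (hn : 5 ≤ n) {m m' : Multiset ℕ} (h : IsD n m) (h' : IsD n m')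
    (heq : iota m = iota m') : m = m' := by
  have hm := pick_mem (h.ne_zero hn)
  have hm' := pick_mem (h'.ne_zero hn)
  have h3 := h.three_le_pick hn
  have h3' := h'.three_le_pick hn
  have hpick : pick m = pick m' := by
    have hmem : pick m - 1 ∈ iota m' := by
      rw [← heq]; unfold iota
      rw [Multiset.mem_add, Multiset.mem_singleton]; right; rfl
    unfold iota at hmem
    rw [Multiset.mem_add, Multiset.mem_singleton] at hmem
    rcases hmem with hmem | hmem
    · exfalso
      have ho := h'.1 _ (Multiset.mem_of_mem_erase hmem)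
      have ho2 := h.1 _ hm
      obtain ⟨k, hk⟩ := ho
      obtain ⟨l, hl⟩ := ho2
      omega
    · omega
  unfold iota at heq
  rw [hpick] at heq
  have h1 : m.erase (pick m') = m'.erase (pick m') := add_right_cancel heq
  rw [← Multiset.cons_erase hm, ← Multiset.cons_erase hm', hpick, h1]

end iota
section phi

variable (n : ℕ)

/-- distinguished class in each fiber -/
noncomputable def rep : Multiset ℕ → ConjClasses (alternatingGroup (Fin n)) :=
  Function.invFun (ctClassA n)

theorem ctClassA_rep (c : ConjClasses (alternatingGroup (Fin n))) :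
    ctClassA n (rep n (ctClassA n c)) = ctClassA n c :=
  Function.invFun_eq ⟨c, rfl⟩

open scoped Classical in
/-- the injection into cycle types -/
noncomputable def Phi (c : ConjClasses (alternatingGroup (Fin n))) : Multiset ℕ :=
  if c = rep n (ctClassA n c) then ctClassA n c else iota (ctClassA n c)

theorem even_ctClassA (c : ConjClasses (alternatingGroup (Fin n))) :
    Even ((ctClassA n c).sum + Multiset.card (ctClassA n c)) := by
  obtain ⟨a, rfl⟩ := ConjClasses.mk_surjective c
  rw [ctClassA_mk]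
  exact even_type_of_mem_alt a

theorem ctClassA_mem_CT (c : ConjClasses (alternatingGroup (Fin n))) : ctClassA n c ∈ CT n := by
  obtain ⟨a, rfl⟩ := ConjClasses.mk_surjective c
  rw [ctClassA_mk, CT_eq_range]
  exact ⟨_, rfl⟩

theorem isD_of_ne_rep (c : ConjClasses (alternatingGroup (Fin n)))
    (h : c ≠ rep n (ctClassA n c)) : IsD n (ctClassA n c) := by
  have hCT := ctClassA_mem_CT n c
  have hrep := ctClassA_rep n c
  obtain ⟨a, rfl⟩ := ConjClasses.mk_surjective c
  obtain ⟨a', ha'⟩ := ConjClasses.mk_surjective (rep n (ctClassA n (ConjClasses.mk a)))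
  rw [← ha', ctClassA_mk, ctClassA_mk] at hrep
  have hcent : Subgroup.centralizer {(a : Perm (Fin n))} ≤ alternatingGroup (Fin n) := by
    by_contra hc
    apply h
    rw [← ha']
    exact ConjClasses.mk_eq_mk_iff_isConj.2 (isConj_of_centralizer_not_le a a' hrep.symm hc)
  rw [Equiv.Perm.centralizer_le_alternating_iff, Fintype.card_fin] at hcent
  rw [ctClassA_mk] at hCT ⊢
  exact ⟨hcent.1, hcent.2.1, hCT.2, hCT.1⟩

theorem Phi_mem (hn : 5 ≤ n) (c : ConjClasses (alternatingGroup (Fin n))) :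
    Phi n c ∈ CT n \ {{2}} := by
  unfold Phi
  split_ifs with h
  · refine ⟨ctClassA_mem_CT n c, ?_⟩
    intro h2
    rw [Set.mem_singleton_iff] at h2
    have := even_ctClassA n c
    rw [h2] at this
    simp at this
    exact absurd this (by decide)
  · have hD := isD_of_ne_rep n c h
    exact ⟨iota_mem_CT hn hD, by rw [Set.mem_singleton_iff]; exact iota_ne_two hn hD⟩

theorem Phi_injective (hn : 5 ≤ n) : Function.Injective (Phi n) := by
  intro c c' heq
  unfold Phi at heq
  split_ifs at heq with h h' h'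
  · -- both distinguished
    rw [h, h', heq]
  · -- c distinguished, c' not
    exfalso
    have hD := isD_of_ne_rep n c' h'
    have e1 := even_ctClassA n c
    have e2 := even_ctClassA n c'
    rw [heq, card_iota hn hD] at e1
    have h3 := sum_iota hn hD
    obtain ⟨k, hk⟩ := e1
    obtain ⟨l, hl⟩ := e2
    omega
  · exfalso
    have hD := isD_of_ne_rep n c h
    have e1 := even_ctClassA n c'
    have e2 := even_ctClassA n c
    rw [← heq, card_iota hn hD] at e1
    have h3 := sum_iota hn hD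
    obtain ⟨k, hk⟩ := e1
    obtain ⟨l, hl⟩ := e2
    omega
  · -- neither
    have hD := isD_of_ne_rep n c h
    have hD' := isD_of_ne_rep n c' h'
    have hm : ctClassA n c = ctClassA n c' := iota_injOn hn hD hD' heq
    have hr := ctClassA_rep n c
    obtain ⟨a, rfl⟩ := ConjClasses.mk_surjective c
    obtain ⟨a', rfl⟩ := ConjClasses.mk_surjective c'
    obtain ⟨a'', ha''⟩ := ConjClasses.mk_surjective (rep n (ctClassA n (ConjClasses.mk a)))
    rw [← ha''] at h hr
    rw [← hm, ← ha''] at h'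
    rw [ctClassA_mk, ctClassA_mk] at hm hr
    rcases two_of_three a a' a'' hm hr.symm with h1 | h1 | h1
    · exact ConjClasses.mk_eq_mk_iff_isConj.2 h1
    · exact absurd (ConjClasses.mk_eq_mk_iff_isConj.2 h1) h
    · exact absurd (ConjClasses.mk_eq_mk_iff_isConj.2 h1) h'

theorem card_conjClasses_alt_lt (hn : 5 ≤ n) :
    Nat.card (ConjClasses (alternatingGroup (Fin n))) <
      Nat.card (ConjClasses (Perm (Fin n))) := by
  rw [card_conjClasses_perm]
  have h2 : ({2} : Multiset ℕ) ∈ CT n := by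
    refine ⟨by rw [Multiset.sum_singleton]; omega, ?_⟩
    intro a ha
    rw [Multiset.mem_singleton] at ha
    omega
  have h1 : Nat.card (ConjClasses (alternatingGroup (Fin n))) ≤ (CT n \ {{2}}).ncard := by
    rw [← Nat.card_range_of_injective (Phi_injective n hn), Nat.card_coe_set_eq]
    apply Set.ncard_le_ncard _ ((CT_finite n).subset Set.sdiff_subset)
    rintro _ ⟨c, rfl⟩
    exact Phi_mem n hn c
  exact lt_of_le_of_lt h1 (Set.ncard_sdiff_singleton_lt_of_mem h2 (CT_finite n))

theorem main (hn : 5 ≤ n) :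
    Nat.card (ConjClasses (alternatingGroup (Fin n))) < Nat.card (ConjClasses (Perm (Fin n))) ∧
      Nat.card (ConjClasses (Perm (Fin n))) ≤ 2 ^ (n - 2) :=
  ⟨card_conjClasses_alt_lt n hn, card_conjClasses_perm_le n hn⟩

end phi

end Cfsg.Agent.Lib.Helper22.SymClasses
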