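/-
helper22: T2P-PC2 (helper26's S4707 market): an irreducible character of degree `p - 1` with value `-1` on the
`p`-singular elements of a primitive faithful group of degree `2p` is faithful.
-/
import Mathlib
import Cfsg.Agent.Lib.Helper19.PDegC
import Cfsg.Agent.Lib.Helper19.W2PFinal
import Cfsg.Agent.Lib.Helper23.W2PDECOMP
import Cfsg.Agent.Lib.Helper5.W2PIDEM
import Cfsg.Agent.Lib.Helper5.W2PORB
import Cfsg.Agent.Lib.Helper7.W2PBLK
import Cfsg.Agent.Lib.Helper23.W2PCOUNT
import Cfsg.Agent.Lib.Helper19.Order60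
import Cfsg.Agent.Lib.Helper10.CyclicTIGalois
import Cfsg.Agent.Lib.Helper23.GaloisChar
import Cfsg.Agent.Lib.Helper14.BREEASYX
import Cfsg.Agent.Lib.Helper25.Gagola

set_option autoImplicit false

namespace Cfsg.Agent.Lib.Helper22.T2PPC2

open Cfsg Cfsg.Agent.CharLib Cfsg.Agent.Lib.Helper19.PDeg Cfsg.Agent.Lib.Helper19.W2P
open scoped ComplexConjugate

universe u v

section perm

variable {G : Type u} [Group G] [Fintype G] {Ω : Type v} [Fintype Ω] [DecidableEq Ω] [MulAction G Ω]

/-- T2P-PC2: such a character is faithful. -/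
theorem faithful_of {p : ℕ} [Fact p.Prime] [FaithfulSMul G Ω]
    (hcard : Fintype.card Ω = 2 * p) (hprim : MulAction.IsPreprimitive G Ω)
    (χ : IrrCharacter G) (hχ1 : (χ : G → ℂ) 1 = (p : ℂ) - 1)
    (hχs : ∀ g : G, p ∣ orderOf g → (χ : G → ℂ) g = -1) :
    ∀ g : G, (χ : G → ℂ) g = (χ : G → ℂ) 1 → g = 1 := by
  intro g hg
  have hp : p.Prime := Fact.out
  obtain ⟨K, hKn, hK⟩ := Cfsg.Agent.Lib.Helper25.exists_irrKer χ
  by_contra hg1
  have hgK : g ∈ K := (hK g).mpr hg
  -- `K` moves a point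
  have hfix : MulAction.fixedPoints K Ω ≠ Set.univ := by
    intro hfix
    apply hg1
    apply FaithfulSMul.eq_of_smul_eq_smul (α := Ω)
    intro a
    have ha : a ∈ MulAction.fixedPoints K Ω := by rw [hfix]; exact Set.mem_univ a
    have := ha ⟨g, hgK⟩
    rw [one_smul]
    exact this
  -- so `K` is transitive
  have htr : MulAction.IsPretransitive K Ω :=
    MulAction.IsQuasiPreprimitive.isPretransitive_of_normal hfix
  -- `2p ∣ |K|`
  have hpos : 0 < Fintype.card Ω := by rw [hcard]; have := hp.pos; omega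
  obtain ⟨a₀⟩ : Nonempty Ω := Fintype.card_pos_iff.mp hpos
  have hdvd : Fintype.card Ω ∣ Nat.card K := by
    have h1 := MulAction.index_stabilizer_of_transitive K a₀
    rw [Nat.card_eq_fintype_card] at h1
    rw [← h1]
    exact Subgroup.index_dvd_card _
  have hpK : p ∣ Nat.card K := by
    rw [hcard] at hdvd
    exact (dvd_mul_left p 2).trans hdvd
  -- Cauchy
  obtain ⟨k, hk⟩ := exists_prime_orderOf_dvd_card' p hpK
  have hkG : orderOf (k : G) = p := by rw [Subgroup.orderOf_coe]; exact hk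
  have h1 := hχs (k : G) (by rw [hkG])
  have h2 := (hK (k : G)).mp k.2
  rw [h1, hχ1] at h2
  have h3 : (p : ℂ) = 0 := by linear_combination -h2
  exact hp.ne_zero (by exact_mod_cast h3)

end perm

end Cfsg.Agent.Lib.Helper22.T2PPC2
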