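import Mathlib
import Cfsg.Prelude.Def_OddOrderLocal
import Cfsg.Agent.Lib.Helper22.TIHall1
import Cfsg.Agent.Lib.Helper1.Coprime
import Cfsg.Agent.Lib.Helper1.CoprimeAbelian
import Cfsg.Agent.Lib.Helper1.Commutator
import Cfsg.Agent.Lib.Helper8.Conj

set_option autoImplicit false
open Pointwise

/-!
Part 3: `G = K N_G(H)` by Schur–Zassenhaus, and the structure of a coprime operator group `Q`
on a Z-group `H`: `[H,Q]` is cyclic and its order is coprime to `|C_H(Q)|`.
-/

namespace Cfsg.Agent.Lib.Helper22.TIHall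

open Cfsg.Agent.Lib.Helper8 Cfsg.Agent.Lib.Helper1

variable {G : Type*} [Group G]

theorem mem_conj_smul {H : Subgroup G} {g x : G} :
    x ∈ MulAut.conj g • H ↔ g⁻¹ * x * g ∈ H := by
  rw [Subgroup.mem_pointwise_smul_iff_inv_smul_mem]
  simp [MulAut.smul_def]

theorem conj_smul_eq_map (H : Subgroup G) (g : G) :
    MulAut.conj g • H = H.map (MulAut.conj g).toMonoidHom := by
  ext x
  rw [mem_conj_smul, mem_map_conj]

/-- Frattini argument with Schur–Zassenhaus: `G = K N_G(H)`. -/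
theorem sup_normalizer_eq_top [Finite G] {H K L : Subgroup G} [hK : K.Normal] [hL : L.Normal]
    (hTI : Cfsg.IsTISubset (H : Set G)) (hsolv : Group.IsSolvable ↥H)
    (hKH : (Nat.card K).Coprime (Nat.card H)) (hKL : K ≤ L)
    (hLe : L = K ⊔ (H ⊓ L)) (hne : H ⊓ L ≠ ⊥) :
    K ⊔ Subgroup.normalizer (H : Set G) = ⊤ := by
  rw [eq_top_iff]
  intro g _
  have hcop₁ : (Nat.card K).Coprime (Nat.card ↥(H ⊓ L)) :=
    Nat.Coprime.coprime_dvd_right (Subgroup.card_dvd_of_le inf_le_left) hKH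
  have hA : Cfsg.Agent.Lib.Helper1.IsComplIn K (H ⊓ L) L := by
    refine ⟨hKL, inf_le_right, Subgroup.disjoint_of_coprime_natCard hcop₁, ?_⟩
    intro γ hγ
    rw [hLe] at hγ
    exact Subgroup.mem_sup_of_normal_left.mp hγ
  have hcard : Nat.card ↥(MulAut.conj g • (H ⊓ L)) = Nat.card ↥(H ⊓ L) := by
    rw [conj_smul_eq_map, card_map_conj]
  have hA₁ : Cfsg.Agent.Lib.Helper1.IsComplIn K (MulAut.conj g • (H ⊓ L)) L := by
    refine ⟨hKL, ?_, ?_, ?_⟩
    · intro x hx
      rw [mem_conj_smul] at hx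
      have h1 := hL.conj_mem _ hx.2 g
      have e : g * (g⁻¹ * x * g) * g⁻¹ = x := by group
      rwa [e] at h1
    · apply Subgroup.disjoint_of_coprime_natCard
      rw [hcard]
      exact hcop₁
    · intro γ hγ
      have h1 : g⁻¹ * γ * g ∈ L := by
        have := hL.conj_mem _ hγ g⁻¹
        simpa using this
      rw [hLe] at h1
      obtain ⟨k, hk, h, hh, hkh⟩ := Subgroup.mem_sup_of_normal_left.mp h1
      refine ⟨g * k * g⁻¹, hK.conj_mem _ hk g, g * h * g⁻¹, ?_, ?_⟩
      · rw [mem_conj_smul]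
        have e : g⁻¹ * (g * h * g⁻¹) * g = h := by group
        rw [e]
        exact hh
      · have e : g * k * g⁻¹ * (g * h * g⁻¹) = g * (k * h) * g⁻¹ := by group
        rw [e, hkh]
        group
  have hnorm : L ≤ Subgroup.normalizer (K : Set G) := by
    rw [Subgroup.normalizer_eq_top_iff.mpr hK]; exact le_top
  have hsolv₁ : Group.IsSolvable ↥(H ⊓ L) :=
    Group.isSolvable_of_isSolvable_injective (f := Subgroup.inclusion (inf_le_left : H ⊓ L ≤ H))
      (Subgroup.inclusion_injective _)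
  obtain ⟨k, hk, hkc⟩ := internal_sz_conj hnorm hA hA₁ hcop₁ (Or.inr hsolv₁)
  have hkg : k * g ∈ Subgroup.normalizer ((H ⊓ L : Subgroup G) : Set G) := by
    apply mem_normalizer_of_forall_conj_mem
    intro x hx
    rw [← hkc, mem_conj_smul, mem_conj_smul]
    have e : g⁻¹ * (k⁻¹ * (k * g * x * (k * g)⁻¹) * k) * g = x := by group
    rw [e]
    exact hx
  have hkgN := normalizer_le_normalizer_of_ti hTI inf_le_left hne hkg
  have e : g = k⁻¹ * (k * g) := by group
  rw [e]
  exact Subgroup.mul_mem_sup (K.inv_mem hk) hkgN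

end Cfsg.Agent.Lib.Helper22.TIHall
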