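import Mathlib
import Cfsg.Prelude.Def_OddOrderLocal
import Cfsg.Agent.Lib.Helper22.TIHall1
import Cfsg.Agent.Lib.Helper22.TIHall2
import Cfsg.Agent.Lib.Helper22.TIHall3
import Cfsg.Agent.Lib.Helper20.ZGroupCoprime

set_option autoImplicit false
open Pointwise

/-!
Part 4: the normal complement of `C_H(Q)`.
-/

namespace Cfsg.Agent.Lib.Helper22.TIHall

open Cfsg.Agent.Lib.Helper8 Cfsg.Agent.Lib.Helper1
open scoped commutatorElement

variable {G : Type*} [Group G]

theorem normalizer_inf_le_normalizer_sup (A B : Subgroup G) :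
    Subgroup.normalizer (A : Set G) ⊓ Subgroup.normalizer (B : Set G) ≤
      Subgroup.normalizer ((A ⊔ B : Subgroup G) : Set G) := by
  intro g hg
  rw [mem_normalizer_iff_map_conj, Subgroup.map_sup,
    mem_normalizer_iff_map_conj.mp hg.1, mem_normalizer_iff_map_conj.mp hg.2]

/-- `H` normalizes `[H,Q] Q`. -/
theorem le_normalizer_commutator_sup (H Q : Subgroup G) :
    H ≤ Subgroup.normalizer ((⁅H, Q⁆ ⊔ Q : Subgroup G) : Set G) := by
  intro h hh
  have hW : h ∈ Subgroup.normalizer ((⁅H, Q⁆ : Subgroup G) : Set G) :=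
    le_normalizer_commutator_left H Q hh
  have key : ∀ g ∈ H, (⁅H, Q⁆ ⊔ Q).map (MulAut.conj g).toMonoidHom ≤ ⁅H, Q⁆ ⊔ Q := by
    intro g hg
    have hWg : g ∈ Subgroup.normalizer ((⁅H, Q⁆ : Subgroup G) : Set G) :=
      le_normalizer_commutator_left H Q hg
    rw [Subgroup.map_sup, mem_normalizer_iff_map_conj.mp hWg]
    apply sup_le le_sup_left
    intro x hx
    rw [mem_map_conj] at hx
    -- x = g (g⁻¹ x g) g⁻¹ = ⁅g, q⁆ q with q = g⁻¹ x g
    have e : x = ⁅g, g⁻¹ * x * g⁆ * (g⁻¹ * x * g) := by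
      rw [commutatorElement_def]; group
    rw [e]
    exact Subgroup.mul_mem_sup (Subgroup.commutator_mem_commutator hg hx) hx
  rw [mem_normalizer_iff_map_conj]
  apply le_antisymm (key h hh)
  intro x hx
  rw [mem_map_conj]
  have := key h⁻¹ (H.inv_mem hh)
  have h2 : h⁻¹ * x * h⁻¹⁻¹ ∈ (⁅H, Q⁆ ⊔ Q).map (MulAut.conj h⁻¹).toMonoidHom := by
    rw [mem_map_conj]
    have e : h⁻¹⁻¹ * (h⁻¹ * x * h⁻¹⁻¹) * h⁻¹ = x := by group
    rw [e]; exact hx
  have h3 := this h2
  simpa using h3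

theorem prime_dvd_card_sup' (A K : Subgroup G) [K.Normal] {p : ℕ}
    (hp : p.Prime) (h : p ∣ Nat.card ↥(A ⊔ K)) : p ∣ Nat.card A ∨ p ∣ Nat.card K := by
  rw [card_eq_card_mul_relIndex (le_sup_right : K ≤ A ⊔ K), Subgroup.relIndex_sup_right,
    hp.dvd_mul] at h
  rcases h with h | h
  · exact Or.inr h
  · exact Or.inl (dvd_trans h (Subgroup.relIndex_dvd_card _ _))

/-- The main theorem on TI Hall subgroups of π-separable groups. -/
theorem ti_hall_main [Finite G] (H : Subgroup G)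
    (hTI : Cfsg.IsTISubset (H : Set G)) (hnn : ¬ H.Normal)
    (hHall : (Nat.card H).Coprime (H.subgroupOf (Subgroup.normalizer (H : Set G))).index)
    (hsep : ∃ (n : ℕ) (M : Fin (n + 1) → Subgroup G), M 0 = ⊥ ∧ M (Fin.last n) = ⊤ ∧ Monotone M ∧
      (∀ i, (M i).Normal) ∧
      ∀ i : Fin n, (∀ q : ℕ, q.Prime → q ∣ (M i.castSucc).relIndex (M i.succ) → q ∣ Nat.card H) ∨
        ((M i.castSucc).relIndex (M i.succ)).Coprime (Nat.card H))
    (h2 : ∀ P : Sylow 2 H, IsMulCommutative (P : Subgroup H))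
    (Q : Subgroup G) (hQ : Q ≤ Subgroup.normalizer (H : Set G)) (hQH : Q ⊓ H = ⊥)
    (hQH' : Q ⊔ H = Subgroup.normalizer (H : Set G)) :
    (Nat.card ↥(H ⊓ Subgroup.centralizer (Q : Set G))).Coprime
        (H ⊓ Subgroup.centralizer (Q : Set G)).index ∧
    ∃ N : Subgroup G, N.Normal ∧ N.IsComplement' (H ⊓ Subgroup.centralizer (Q : Set G)) := by
  have hH : H ≠ ⊥ := by
    rintro rfl
    exact hnn Subgroup.normal_bot
  have hcopG := coprime_card_index_of_ti hTI hHall
  obtain ⟨K, L, hKn, hLn, hKL, hKH, hLH, hpi⟩ := exists_pi_step H hH hsep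
  obtain ⟨hLe, hne⟩ := layer_eq_sup H K L hKL hcopG hKH hLH hpi
  have hKN := not_le_normalizer hTI hnn hKH hLe hne
  haveI hZ : IsZGroup ↥H := isZGroup_of_ti hTI hKH hKN h2
  have hsolv : Group.IsSolvable ↥H := inferInstance
  have hG : K ⊔ Subgroup.normalizer (H : Set G) = ⊤ :=
    sup_normalizer_eq_top hTI hsolv hKH hKL hLe hne
  -- |Q| is coprime to |H|
  have hdisjHQ : Disjoint H Q := by rw [disjoint_iff, inf_comm]; exact hQH
  have hcardQ : Nat.card Q = (H.subgroupOf (Subgroup.normalizer (H : Set G))).index := by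
    have h1 := (isComplIn_sup hQ hdisjHQ).card_mul_card
    rw [sup_comm, hQH', card_normalizer_eq] at h1
    exact Nat.eq_of_mul_eq_mul_left Nat.card_pos h1
  have hcopQ : (Nat.card Q).Coprime (Nat.card H) := by rw [hcardQ]; exact hHall.symm
  obtain ⟨hWcyc, hHW, hWC, hWCsup, hcopCW, hcard⟩ :=
    Cfsg.Agent.Lib.Helper20.zgroup_coprime_internal Q H hQ hcopQ hZ
  obtain ⟨W, hW⟩ : ∃ W : Subgroup G, W = ⁅H, Q⁆ := ⟨_, rfl⟩
  obtain ⟨C, hC⟩ : ∃ C : Subgroup G, C = H ⊓ Subgroup.centralizer (Q : Set G) := ⟨_, rfl⟩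
  rw [← hW, ← hC] at hWC hWCsup hcopCW hcard
  rw [← hW] at hHW
  rw [← hC]
  have hWH : W ≤ H := by rw [← hWCsup]; exact le_sup_left
  have hCH : C ≤ H := by rw [← hWCsup]; exact le_sup_right
  -- the normal complement
  obtain ⟨M, hM⟩ : ∃ M : Subgroup G, M = K ⊔ (W ⊔ Q) := ⟨_, rfl⟩
  have hKM : K ≤ M := by rw [hM]; exact le_sup_left
  have hWM : W ≤ M := by rw [hM]; exact le_sup_left.trans le_sup_right
  have hQM : Q ≤ M := by rw [hM]; exact le_sup_right.trans le_sup_right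
  have hHM : H ≤ Subgroup.normalizer (M : Set G) := by
    intro h hh
    rw [hM]
    apply normalizer_inf_le_normalizer_sup
    refine ⟨?_, ?_⟩
    · rw [Subgroup.normalizer_eq_top_iff.mpr hKn]; exact Subgroup.mem_top _
    · rw [hW]; exact le_normalizer_commutator_sup H Q hh
  have hMn : M.Normal := by
    rw [← Subgroup.normalizer_eq_top_iff, eq_top_iff, ← hG, ← hQH']
    exact sup_le (hKM.trans Subgroup.le_normalizer)
      (sup_le (hQM.trans Subgroup.le_normalizer) hHM)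
  have hMC : M ⊔ C = ⊤ := by
    rw [eq_top_iff, ← hG, ← hQH']
    have hHle : H ≤ M ⊔ C := by
      rw [← hWCsup]
      exact sup_le (hWM.trans le_sup_left) le_sup_right
    exact sup_le (hKM.trans le_sup_left) (sup_le (hQM.trans le_sup_left) hHle)
  -- coprimality
  have hcopCH : ∀ p : ℕ, p.Prime → p ∣ Nat.card C → p ∣ Nat.card H :=
    fun p _ h => h.trans (Subgroup.card_dvd_of_le hCH)
  have hdisjWQ : Disjoint W Q := by
    rw [disjoint_iff, eq_bot_iff, ← hQH, inf_comm]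
    exact inf_le_inf_left Q hWH
  have hQW : Q ≤ Subgroup.normalizer (W : Set G) := by
    rw [hW]; exact le_normalizer_commutator_right H Q
  have hcardWQ := (isComplIn_sup hQW hdisjWQ).card_mul_card
  have hcopMC : (Nat.card M).Coprime (Nat.card C) := by
    apply Nat.coprime_of_dvd
    intro p hp hpM hpC
    rw [hM, sup_comm] at hpM
    rcases prime_dvd_card_sup' (W ⊔ Q) K hp hpM with h | h
    · rw [← hcardWQ, hp.dvd_mul] at h
      rcases h with h | h
      · exact hp.one_lt.ne' (Nat.eq_one_of_dvd_coprimes hcopCW hpC h)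
      · exact hp.one_lt.ne' (Nat.eq_one_of_dvd_coprimes hcopQ h (hcopCH p hp hpC))
    · exact hp.one_lt.ne' (Nat.eq_one_of_dvd_coprimes hKH h (hcopCH p hp hpC))
  have hdisjMC : Disjoint M C := Subgroup.disjoint_of_coprime_natCard hcopMC
  have hcompl : M.IsComplement' C := by
    apply Subgroup.isComplement'_of_disjoint_and_mul_eq_univ hdisjMC
    rw [← Subgroup.normal_mul, hMC, Subgroup.coe_top]
  refine ⟨?_, M, hMn, hcompl⟩
  rw [hcompl.index_eq_card]
  exact hcopMC.symm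

end Cfsg.Agent.Lib.Helper22.TIHall
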