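import Mathlib
import Cfsg.Prelude.Def_Local
import Cfsg.Agent.Lib.Helper25.TSDefs
import Cfsg.Agent.Lib.Helper8.Hyperplane

set_option autoImplicit false
set_option linter.unusedVariables false
set_option linter.unusedSectionVars false

namespace Cfsg.Agent.Lib.Helper22.TSGEN

open Cfsg.Agent.Lib.Helper25.TS
open scoped commutatorElement

section stageLeaves

variable {V E : Type*} [AddCommGroup V] [AddCommGroup E] [Finite V] [Finite E]
variable {Γ : Type*} [Group Γ] [Finite Γ] [DistribMulAction Γ V]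
variable {q : V → E} {F U B : Subgroup Γ}

/-- a group of exponent 2 is elementary abelian -/
theorem isElementaryAbelian_two (U : Subgroup Γ) (hU : ∀ u ∈ U, u * u = 1) :
    Cfsg.IsElementaryAbelian 2 U := by
  refine ⟨⟨⟨fun a b => ?_⟩⟩, fun a ha => by rw [pow_two]; exact hU a ha⟩
  apply Subtype.ext
  have hab := hU _ (U.mul_mem a.2 b.2)
  have ha := hU _ a.2
  have hb := hU _ b.2
  change (a : Γ) * b = b * a
  calc (a : Γ) * b = (b * b) * (a * b) * (a * a) := by rw [ha, hb]; simp
    _ = b * ((b * a) * (b * a)) * a := by simp only [mul_assoc]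
    _ = b * a := by
      have hba := hU _ (U.mul_mem b.2 a.2)
      change ((b : Γ) * a) * (b * a) = 1 at hba
      rw [hba, mul_one]

/-- **S5 `iSup_cen_eq`** -/
theorem iSup_cen_eq (a : ActCtx q F U B) :
    (⨆ U₀ : {U₀ : Subgroup Γ // IsHyp U₀ U}, cen F (U₀ : Subgroup Γ)) = F := by
  classical
  apply le_antisymm
  · apply iSup_le
    intro U₀
    exact inf_le_left
  · by_contra hcon
    have hp : Fact (Nat.Prime 2) := ⟨Nat.prime_two⟩
    have hUe : Cfsg.IsElementaryAbelian 2 U := isElementaryAbelian_two U a.U_two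
    have hUN : U ≤ Subgroup.normalizer (F : Set Γ) := by
      intro u hu
      exact Subgroup.mem_normalizer_fintype (fun f hf => a.U_norm u hu f hf)
    have hcop : (Nat.card U).Coprime (Nat.card F) := by
      have hU2 : IsPGroup 2 U := by
        rintro ⟨g, hg⟩
        exact ⟨1, Subtype.ext (by simpa [pow_two] using a.U_two g hg)⟩
      obtain ⟨k, hk⟩ := IsPGroup.iff_card.mp hU2
      rw [hk]
      exact Nat.Coprime.pow_left k (Nat.coprime_two_left.mpr a.F_odd)
    obtain ⟨B₀, hB₀U, hB₀i, hB₀n⟩ := Cfsg.Agent.Lib.Helper8.exists_index_p_centralizer_not_le 2 U F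
      (⨆ U₀ : {U₀ : Subgroup Γ // IsHyp U₀ U}, cen F (U₀ : Subgroup Γ)) hUe a.U_ne hUN hcop hcon
    apply hB₀n
    exact le_iSup (fun U₀ : {U₀ : Subgroup Γ // IsHyp U₀ U} => cen F (U₀ : Subgroup Γ))
      ⟨B₀, hB₀U, hB₀i⟩

end stageLeaves

end Cfsg.Agent.Lib.Helper22.TSGEN
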