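import Mathlib
import Cfsg.Prelude.Def_Local
import Cfsg.Agent.Lib.Helper25.TSDefs
import Cfsg.Agent.Lib.Helper1.Coprime

set_option autoImplicit false
set_option linter.unusedVariables false
set_option linter.unusedSectionVars false

namespace Cfsg.Agent.Lib.Helper22.TSXFER

open Cfsg.Agent.Lib.Helper25.TS
open scoped commutatorElement

section transfer

universe u

/-- a nontrivial finite 2-group has a central involution -/
theorem exists_central_involution {P : Type*} [Group P] [Finite P] (hP : IsPGroup 2 P)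
    [Nontrivial P] : ∃ z : P, z ≠ 1 ∧ z * z = 1 ∧ ∀ g : P, z * g = g * z := by
  have hp : Fact (Nat.Prime 2) := ⟨Nat.prime_two⟩
  have hnt : Nontrivial (Subgroup.center P) := hP.center_nontrivial
  have hZ2 : IsPGroup 2 (Subgroup.center P) := hP.to_subgroup _
  obtain ⟨k, hk⟩ := IsPGroup.iff_card.mp hZ2
  have hk0 : k ≠ 0 := by
    rintro rfl
    rw [pow_zero] at hk
    have := Finite.one_lt_card_iff_nontrivial.mpr hnt
    omega
  have hdvd : 2 ∣ Nat.card (Subgroup.center P) := by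
    rw [hk]; exact dvd_pow_self 2 hk0
  obtain ⟨z, hz⟩ := exists_prime_orderOf_dvd_card' 2 hdvd
  refine ⟨z.1, ?_, ?_, ?_⟩
  · intro h
    have : z = 1 := Subtype.ext h
    rw [this, orderOf_one] at hz
    omega
  · have := pow_orderOf_eq_one z
    rw [hz, pow_two] at this
    exact congrArg Subtype.val this
  · intro g
    exact (Subgroup.mem_center_iff.mp z.2 g).symm

/-- **T1 `act_group_false`** -/
theorem act_group_false
    (hact : ∀ (V E : Type u) [AddCommGroup V] [AddCommGroup E] [Finite V] [Finite E]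
      (Γ : Type u) [Group Γ] [Finite Γ] [DistribMulAction Γ V] (q : V → E) (F U B : Subgroup Γ),
      ActCtx q F U B → False)
    {G : Type u} [Group G] [Finite G] {V E' : Type u} [AddCommGroup V] [Finite V]
    [AddCommGroup E'] [Finite E'] (q : V → E') (hq : QCtx q) (ρ : G →* AddMonoid.End V)
    (σ : G → E' → E') (hρσ : ∀ g v, q (ρ g v) = σ g (q v)) (T K S B : Subgroup G)
    (hker : ∀ g : G, ρ g = 1 ↔ g ∈ T) (hTS : T ≤ S) (hS2 : IsPGroup 2 S) (hST : ¬ S ≤ T)
    (hKn : K.Normal) (hTK : T ≤ K) (hKodd : Odd (T.relIndex K))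
    (hKσ : ∀ k ∈ K, ∀ e, σ k e = e) (hSσ : ∀ s ∈ S, ∀ e, σ s e = e)
    (hBS : B ≤ Subgroup.normalizer (S : Set G))
    (hCK : ∀ s ∈ S, (∀ k ∈ K, ⁅s, k⁆ ∈ T) → s ∈ T) (hBodd : Odd (Nat.card B))
    (htr : ∀ e e' : E', e ≠ 0 → e' ≠ 0 → ∃ b ∈ B, σ b e = e')
    (hfix : ∀ s ∈ S, (∀ b ∈ B, b * s = s * b) → s = 1) : False := by
  classical
  have hp : Fact (Nat.Prime 2) := ⟨Nat.prime_two⟩
  have hT : ρ.ker = T := by
    ext g
    rw [MonoidHom.mem_ker]
    exact hker g
  subst hT
  let π : G →* (G ⧸ ρ.ker) := QuotientGroup.mk' ρ.ker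
  have hπs : Function.Surjective π := QuotientGroup.mk'_surjective _
  have hπ1 : ∀ g : G, π g = 1 ↔ g ∈ ρ.ker := fun g => QuotientGroup.eq_one_iff g
  let ρ' : (G ⧸ ρ.ker) →* AddMonoid.End V := QuotientGroup.lift ρ.ker ρ le_rfl
  let _inst : DistribMulAction (G ⧸ ρ.ker) V := DistribMulAction.compHom V ρ'
  have hsmul : ∀ (g : G) (v : V), (π g) • v = ρ g v := fun g v => rfl
  -- the subgroups
  let F : Subgroup (G ⧸ ρ.ker) := K.map π
  let S' : Subgroup (G ⧸ ρ.ker) := S.map π
  let B' : Subgroup (G ⧸ ρ.ker) := B.map π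
  have hFn : F.Normal := Subgroup.Normal.map hKn π hπs
  let U : Subgroup (G ⧸ ρ.ker) :=
    { carrier := {u | u ∈ S' ∧ u * u = 1 ∧ ∀ s ∈ S', u * s = s * u}
      one_mem' := ⟨S'.one_mem, by simp, fun s _ => by simp⟩
      mul_mem' := by
        rintro a b ⟨ha, ha2, hac⟩ ⟨hb, hb2, hbc⟩
        refine ⟨S'.mul_mem ha hb, ?_, ?_⟩
        · calc a * b * (a * b) = a * (b * a) * b := by simp only [mul_assoc]
            _ = a * (a * b) * b := by rw [hbc a ha]
            _ = (a * a) * (b * b) := by simp only [mul_assoc]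
            _ = 1 := by rw [ha2, hb2, mul_one]
        · intro s hs
          calc a * b * s = a * (b * s) := by rw [mul_assoc]
            _ = a * (s * b) := by rw [hbc s hs]
            _ = (a * s) * b := by rw [mul_assoc]
            _ = (s * a) * b := by rw [hac s hs]
            _ = s * (a * b) := by rw [mul_assoc]
      inv_mem' := by
        rintro a ⟨ha, ha2, hac⟩
        have hinv : a⁻¹ = a := inv_eq_of_mul_eq_one_right ha2
        rw [hinv]
        exact ⟨ha, ha2, hac⟩ }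
  have hUS : ∀ u ∈ U, ∃ s ∈ S, π s = u := fun u hu => hu.1
  -- conjugation by B preserves S'
  have hBS' : ∀ b₀ ∈ B, ∀ x ∈ S', π b₀ * x * (π b₀)⁻¹ ∈ S' ∧ (π b₀)⁻¹ * x * π b₀ ∈ S' := by
    rintro b₀ hb₀ _ ⟨s, hs, rfl⟩
    have hn := hBS hb₀
    have hn' := (Subgroup.normalizer (S : Set G)).inv_mem hn
    constructor
    · refine ⟨b₀ * s * b₀⁻¹, (Subgroup.mem_normalizer_iff.mp hn s).mp hs, ?_⟩
      simp
    · refine ⟨b₀⁻¹ * s * b₀, ?_, ?_⟩
      · have := (Subgroup.mem_normalizer_iff.mp hn' s).mp hs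
        simpa using this
      · simp
  refine hact V E' (G ⧸ ρ.ker) q F U B'
    { hq := hq
      faithful := ?_
      F_odd := ?_
      F_isom := ?_
      U_isom := ?_
      U_two := fun u hu => hu.2.1
      U_ne := ?_
      U_norm := fun u _ f hf => hFn.conj_mem f hf u
      U_faithful := ?_
      B_normF := fun b _ f hf => hFn.conj_mem f hf b
      B_normU := ?_
      B_fix := ?_
      trans := ?_ }
  · -- faithful
    intro γ hγ
    obtain ⟨g, rfl⟩ := hπs γ
    rw [hπ1, MonoidHom.mem_ker]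
    apply AddMonoidHom.ext
    intro v
    exact hγ v
  · -- F_odd
    have h1 : Nat.card F = π.ker.relIndex K := (Subgroup.relIndex_ker K π).symm
    rw [h1, QuotientGroup.ker_mk']
    exact hKodd
  · -- F_isom
    rintro _ ⟨k, hk, rfl⟩ v
    rw [hsmul, hρσ, hKσ k hk]
  · -- U_isom
    rintro u hu v
    obtain ⟨s, hs, rfl⟩ := hUS u hu
    rw [hsmul, hρσ, hSσ s hs]
  · -- U_ne
    have hS'2 : IsPGroup 2 S' := hS2.map π
    have hnt : Nontrivial S' := by
      have : ∃ s ∈ S, s ∉ ρ.ker := by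
        by_contra hcon
        push Not at hcon
        exact hST hcon
      obtain ⟨s, hs, hsk⟩ := this
      refine ⟨⟨⟨π s, s, hs, rfl⟩, 1, ?_⟩⟩
      intro h
      apply hsk
      rw [← hπ1]
      exact congrArg Subtype.val h
    obtain ⟨z, hz1, hz2, hzc⟩ := exists_central_involution hS'2
    intro hbot
    have hzU : (z : G ⧸ ρ.ker) ∈ U := by
      refine ⟨z.2, ?_, ?_⟩
      · exact congrArg Subtype.val hz2
      · intro s hs
        exact congrArg Subtype.val (hzc ⟨s, hs⟩)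
    rw [hbot, Subgroup.mem_bot] at hzU
    exact hz1 (Subtype.ext hzU)
  · -- U_faithful
    intro u hu hcomm
    obtain ⟨s, hs, rfl⟩ := hUS u hu
    rw [hπ1]
    apply hCK s hs
    intro k hk
    rw [← hπ1, map_commutatorElement, commutatorElement_eq_one_iff_commute]
    exact hcomm (π k) ⟨k, hk, rfl⟩
  · -- B_normU
    rintro _ ⟨b₀, hb₀, rfl⟩ u ⟨huS, hu2, huc⟩
    refine ⟨(hBS' b₀ hb₀ u huS).1, ?_, ?_⟩
    · calc π b₀ * u * (π b₀)⁻¹ * (π b₀ * u * (π b₀)⁻¹) = π b₀ * (u * u) * (π b₀)⁻¹ := by group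
        _ = 1 := by rw [hu2]; group
    · intro s hs
      have hs' := (hBS' b₀ hb₀ s hs).2
      have h1 := huc _ hs'
      calc π b₀ * u * (π b₀)⁻¹ * s = π b₀ * (u * ((π b₀)⁻¹ * s * π b₀)) * (π b₀)⁻¹ := by group
        _ = π b₀ * (((π b₀)⁻¹ * s * π b₀) * u) * (π b₀)⁻¹ := by rw [h1]
        _ = s * (π b₀ * u * (π b₀)⁻¹) := by group
  · -- B_fix
    intro u hu hBu
    obtain ⟨s, hs, rfl⟩ := hUS u hu
    rw [hπ1]
    -- Glauberman: the coset `s T` contains an element centralized by `B`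
    have hT2 : IsPGroup 2 ρ.ker := hS2.to_le hTS
    have hnormT : B ≤ Subgroup.normalizer ((ρ.ker : Subgroup G) : Set G) := by
      intro b _
      rw [Subgroup.normalizer_eq_top]
      trivial
    have hcop : Nat.Coprime (Nat.card B) (Nat.card ρ.ker) := by
      obtain ⟨k, hk⟩ := IsPGroup.iff_card.mp hT2
      rw [hk]
      exact Nat.Coprime.pow_right k (Nat.coprime_two_right.mpr hBodd)
    have hsolv : Group.IsSolvable B ∨ Group.IsSolvable ρ.ker := by
      right
      have : Group.IsNilpotent ρ.ker := hT2.isNilpotent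
      infer_instance
    have hx : ∀ b ∈ B, s⁻¹ * b * s * b⁻¹ ∈ ρ.ker := by
      intro b hb
      rw [← hπ1]
      have h1 := hBu (π b) ⟨b, hb, rfl⟩
      simp only [map_mul, map_inv]
      calc (π s)⁻¹ * π b * π s * (π b)⁻¹ = (π s)⁻¹ * (π b * π s) * (π b)⁻¹ := by group
        _ = (π s)⁻¹ * (π s * π b) * (π b)⁻¹ := by rw [h1]
        _ = 1 := by group
    obtain ⟨n, hn, hc⟩ := Cfsg.Agent.Lib.Helper1.exists_mul_mem_centralizer hnormT hcop hsolv s hx
    have hsn : s * n = 1 := by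
      apply hfix (s * n) (S.mul_mem hs (hTS hn))
      intro b hb
      exact Subgroup.mem_centralizer_iff.mp hc b hb
    have : s = n⁻¹ := eq_inv_of_mul_eq_one_left hsn
    rw [this]
    exact (ρ.ker).inv_mem hn
  · -- trans
    intro e e' he he'
    obtain ⟨b, hb, hbe⟩ := htr e e' he he'
    exact ⟨π b, ⟨b, hb, rfl⟩, σ b, hbe, fun v => by rw [hsmul, hρσ]⟩

end transfer

end Cfsg.Agent.Lib.Helper22.TSXFER
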