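import Mathlib
import Cfsg.Agent.Lib.Helper25.TWDefs
import Cfsg.Agent.Lib.Helper15.TWFRAT
import Cfsg.Agent.Lib.Helper14.TW676

/-! helper22: S3613 market "TW", leaf TW5T (the four-point stabilizers are transitive on the other
points), over helper15's TWFRAT and helper14's TW676 (the parity step `twpar` = statement of leaf TWPAR is proved here). -/

set_option autoImplicit false

namespace Cfsg.Agent.Lib.Helper22.TW5T

open MulAction Cfsg.Agent.Lib.Helper25.TW

/-- parity (own proof of the statement of leaf TWPAR) -/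
theorem twpar {K X : Type*} [Group K] [MulAction K X] [Finite X] (K₀ : Subgroup K)
    (hidx : K₀.index = 2) (c d : X) (hcd : c ≠ d) (hodd : Odd (Nat.card X))
    (htr : ∀ y y' : X, y ≠ c → y ≠ d → y' ≠ c → y' ≠ d →
      ∃ k : K, k • c = c ∧ k • d = d ∧ k • y = y') :
    ∀ y y' : X, y ≠ c → y ≠ d → y' ≠ c → y' ≠ d →
      ∃ k ∈ K₀, k • c = c ∧ k • d = d ∧ k • y = y' := by
  intro y y' hyc hyd hy'c hy'd
  by_contra hno
  obtain ⟨t, htc, htd, hty⟩ := htr y y' hyc hyd hy'c hy'd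
  have htK : t ∉ K₀ := fun h => hno ⟨t, h, htc, htd, hty⟩
  have hmul : ∀ u v : K, u ∉ K₀ → v ∉ K₀ → u * v ∈ K₀ := by
    intro u v hu hv
    rw [Subgroup.mul_mem_iff_of_index_two hidx]
    exact ⟨fun h => absurd h hu, fun h => absurd h hv⟩
  have hmul' : ∀ u v : K, u ∈ K₀ → v ∉ K₀ → u * v ∉ K₀ := by
    intro u v hu hv h
    rw [Subgroup.mul_mem_iff_of_index_two hidx] at h
    exact hv (h.mp hu)
  have hmul'' : ∀ u v : K, u ∉ K₀ → v ∈ K₀ → u * v ∉ K₀ := by
    intro u v hu hv h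
    rw [Subgroup.mul_mem_iff_of_index_two hidx] at h
    exact hu (h.mpr hv)
  have hinv : ∀ u : K, u ∉ K₀ → u⁻¹ ∉ K₀ := fun u hu h => hu (by simpa using K₀.inv_mem h)
  set O : Set X := {z | ∃ k ∈ K₀, k • c = c ∧ k • d = d ∧ k • y = z} with hO
  have hZ : ({c, d} : Set X)ᶜ = O ∪ (fun z => t • z) '' O := by
    ext z
    simp only [Set.mem_compl_iff, Set.mem_insert_iff, Set.mem_singleton_iff, not_or, Set.mem_union,
      Set.mem_image]
    constructor
    · rintro ⟨hzc, hzd⟩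
      obtain ⟨u, huc, hud, huy⟩ := htr y z hyc hyd hzc hzd
      by_cases hu : u ∈ K₀
      · exact Or.inl ⟨u, hu, huc, hud, huy⟩
      · right
        refine ⟨(t⁻¹ * u) • y, ⟨t⁻¹ * u, hmul _ _ (hinv t htK) hu, ?_, ?_, rfl⟩, ?_⟩
        · rw [mul_smul, huc, inv_smul_eq_iff, htc]
        · rw [mul_smul, hud, inv_smul_eq_iff, htd]
        · rw [mul_smul, smul_inv_smul, huy]
    · rintro (⟨k, -, hkc, hkd, rfl⟩ | ⟨_, ⟨k, -, hkc, hkd, rfl⟩, rfl⟩)
      · refine ⟨fun h => hyc ?_, fun h => hyd ?_⟩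
        · exact smul_left_cancel k (h.trans hkc.symm)
        · exact smul_left_cancel k (h.trans hkd.symm)
      · refine ⟨fun h => hyc ?_, fun h => hyd ?_⟩
        · apply smul_left_cancel (t * k)
          rw [mul_smul, mul_smul, h, hkc, htc]
        · apply smul_left_cancel (t * k)
          rw [mul_smul, mul_smul, h, hkd, htd]
  have hdisj : Disjoint O ((fun z => t • z) '' O) := by
    rw [Set.disjoint_left]
    rintro z ⟨k, hk, hkc, hkd, rfl⟩ ⟨_, ⟨k', hk', hk'c, hk'd, rfl⟩, hz⟩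
    -- s := k⁻¹ * t * k' fixes y, c, d and is not in K₀
    have hs : (k⁻¹ * (t * k')) • y = y := by
      rw [mul_smul, mul_smul, inv_smul_eq_iff]; exact hz
    have hsK : k⁻¹ * (t * k') ∉ K₀ := hmul' _ _ (K₀.inv_mem hk) (hmul'' _ _ htK hk')
    have hsc : (k⁻¹ * (t * k')) • c = c := by
      rw [mul_smul, mul_smul, hk'c, htc, inv_smul_eq_iff, hkc]
    have hsd : (k⁻¹ * (t * k')) • d = d := by
      rw [mul_smul, mul_smul, hk'd, htd, inv_smul_eq_iff, hkd]
    apply hno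
    refine ⟨t * (k⁻¹ * (t * k'))⁻¹, hmul _ _ htK (hinv _ hsK), ?_, ?_, ?_⟩
    · rw [mul_smul, inv_smul_eq_iff.mpr hsc.symm, htc]
    · rw [mul_smul, inv_smul_eq_iff.mpr hsd.symm, htd]
    · rw [mul_smul, inv_smul_eq_iff.mpr hs.symm, hty]
  have hcard : (({c, d} : Set X)ᶜ).ncard = 2 * O.ncard := by
    rw [hZ, Set.ncard_union_eq hdisj (Set.toFinite _) (Set.toFinite _),
      Set.ncard_image_of_injective O (MulAction.injective t)]
    ring
  rw [Set.ncard_compl, Set.ncard_pair hcd] at hcard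
  have h2 : 2 ≤ Nat.card X := by
    have := Set.ncard_le_card ({c, d} : Set X)
    rwa [Set.ncard_pair hcd] at this
  rw [Nat.odd_iff] at hodd
  omega

/-- three distinct points as an embedding of `Fin 3` -/
theorem exists_emb3 {X : Type*} (u v w : X) (huv : u ≠ v) (huw : u ≠ w) (hvw : v ≠ w) :
    ∃ e : Fin 3 ↪ X, e 0 = u ∧ e 1 = v ∧ e 2 = w := by
  refine ⟨⟨![u, v, w], ?_⟩, rfl, rfl, rfl⟩
  intro i j h
  fin_cases i <;> fin_cases j <;> simp_all

/-- the number of points other than `a`, `b` -/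
theorem card_Off {G Ω : Type*} [Group G] [MulAction G Ω] [Finite Ω] (q : ℕ)
    (hΩ : Nat.card Ω = q + 2) (a b : Ω) (hab : a ≠ b) : Nat.card ↥(Off G a b) = q := by
  have h1 : Nat.card ↥(Off G a b) = ({x | x ≠ a ∧ x ≠ b} : Set Ω).ncard := rfl
  have h2' : ({x | x ≠ a ∧ x ≠ b} : Set Ω) = ({a, b} : Set Ω)ᶜ := by
    ext x; simp [not_or]
  rw [h1, h2', Set.ncard_compl, Set.ncard_pair hab, hΩ]
  omega

set_option linter.dupNamespace false in
/-- **TW5T**.  The four-point stabilizers are transitive on the other points. -/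
theorem TW5T {G Ω : Type*} [Group G] [Finite G] [MulAction G Ω] [FaithfulSMul G Ω] [Finite Ω]
    (q : ℕ) (hq : q.Prime) (hq2 : q ≠ 2) (hΩ : Nat.card Ω = q + 2) (a b : Ω) (hab : a ≠ b)
    (hswap : ∃ s : G, s • a = b ∧ s • b = a)
    (hnoswap : ¬ ∃ τ : G, τ • a = b ∧ τ • b = a ∧ ∀ x : Ω, x ≠ a → x ≠ b → τ • x = x)
    (htr : TransOff2 G a b)
    (hins : ¬ Group.IsSolvable ↥(stabilizer G a ⊓ stabilizer G b))
    (c d : Ω) (hca : c ≠ a) (hcb : c ≠ b) (hda : d ≠ a) (hdb : d ≠ b) (hcd : c ≠ d) :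
    TransOff4 G a b c d := by
  classical
  have : Fact q.Prime := ⟨hq⟩
  have : Fintype ↥(Off G a b) := Fintype.ofFinite _
  have hX : Fintype.card ↥(Off G a b) = q := by
    rw [← Nat.card_eq_fintype_card]; exact card_Off q hΩ a b hab
  -- faithful
  have : FaithfulSMul ↥(Hhat G a b) ↥(Off G a b) := by
    refine ⟨fun {k₁ k₂} h => ?_⟩
    have hfix : ∀ x : Ω, x ≠ a → x ≠ b → ((k₂ : G)⁻¹ * (k₁ : G)) • x = x := by
      intro x hxa hxb
      have := congrArg (fun t : ↥(Off G a b) => (t : Ω)) (h ⟨x, ⟨hxa, hxb⟩⟩)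
      simp only [Off_smul_coe] at this
      rw [mul_smul, this, inv_smul_smul]
    have hmem : (k₂ : G)⁻¹ * (k₁ : G) ∈ Hhat G a b :=
      (Hhat G a b).mul_mem ((Hhat G a b).inv_mem k₂.2) k₁.2
    rcases hmem with ⟨hga, hgb⟩ | ⟨hga, hgb⟩
    · have h1 : (k₂ : G)⁻¹ * (k₁ : G) = 1 := by
        apply FaithfulSMul.eq_of_smul_eq_smul (α := Ω)
        intro x
        rw [one_smul]
        by_cases hxa : x = a
        · rw [hxa]; exact hga
        · by_cases hxb : x = b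
          · rw [hxb]; exact hgb
          · exact hfix x hxa hxb
      apply Subtype.ext
      have := inv_mul_eq_one.mp h1
      exact this.symm
    · exact absurd ⟨_, hga, hgb, hfix⟩ hnoswap
  -- transitive
  have htrK : MulAction.IsPretransitive ↥(Hhat G a b) ↥(Off G a b) := by
    refine ⟨fun x y => ?_⟩
    obtain ⟨g, hga, hgb, hgxy⟩ := htr x y x.2.1 x.2.2 y.2.1 y.2.2
    refine ⟨⟨g, Or.inl ⟨hga, hgb⟩⟩, ?_⟩
    apply Subtype.ext
    exact hgxy
  -- insoluble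
  have hinsK : ¬ Group.IsSolvable ↥(Hhat G a b) := by
    intro hsol
    apply hins
    exact Group.isSolvable_of_isSolvable_injective
      (Subgroup.inclusion_injective (inf_stabilizer_le_Hhat (G := G) a b))
  -- the subgroup of index 2
  have hidx : ((stabilizer G a ⊓ stabilizer G b).subgroupOf (Hhat G a b)).index = 2 := by
    obtain ⟨s, hsa, hsb⟩ := hswap
    rw [Subgroup.index_eq_two_iff]
    refine ⟨⟨s, Or.inr ⟨hsa, hsb⟩⟩, fun k => ?_⟩
    have hk := k.2
    simp only [Subgroup.mem_subgroupOf, Subgroup.coe_mul, Subgroup.mem_inf, mem_stabilizer_iff,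
      mul_smul, hsa, hsb]
    rcases hk with ⟨hka, hkb⟩ | ⟨hka, hkb⟩
    · right
      refine ⟨⟨hka, hkb⟩, ?_⟩
      rintro ⟨h1, -⟩
      exact hab (hkb.symm.trans h1).symm
    · left
      refine ⟨⟨hkb, hka⟩, ?_⟩
      rintro ⟨h1, -⟩
      exact hab (hka.symm.trans h1).symm
  have heven := Cfsg.Agent.Lib.Helper15.TWFRAT.TWFRAT
    ((stabilizer G a ⊓ stabilizer G b).subgroupOf (Hhat G a b)) hidx hq2
    (default : Sylow q ↥(Hhat G a b))
  have h3 : MulAction.IsMultiplyPretransitive ↥(Hhat G a b) ↥(Off G a b) 3 :=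
    Cfsg.Agent.Lib.Helper14.TW676.TW676 hX htrK hinsK _ heven
  -- the stabilizer of c, d in Hhat is transitive on the other points of Off
  have hodd : Odd (Nat.card ↥(Off G a b)) := by
    rw [card_Off q hΩ a b hab]
    exact hq.odd_of_ne_two hq2
  have hpar := twpar (K := ↥(Hhat G a b)) (X := ↥(Off G a b))
    ((stabilizer G a ⊓ stabilizer G b).subgroupOf (Hhat G a b)) hidx
    ⟨c, ⟨hca, hcb⟩⟩ ⟨d, ⟨hda, hdb⟩⟩ (fun h => hcd (congrArg Subtype.val h)) hodd (by
      intro y y' hyc hyd hy'c hy'd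
      obtain ⟨e, he0, he1, he2⟩ := exists_emb3 (⟨c, ⟨hca, hcb⟩⟩ : ↥(Off G a b)) ⟨d, ⟨hda, hdb⟩⟩ y
        (fun h => hcd (congrArg Subtype.val h)) (Ne.symm hyc) (Ne.symm hyd)
      obtain ⟨e', he'0, he'1, he'2⟩ := exists_emb3 (⟨c, ⟨hca, hcb⟩⟩ : ↥(Off G a b))
        ⟨d, ⟨hda, hdb⟩⟩ y' (fun h => hcd (congrArg Subtype.val h)) (Ne.symm hy'c) (Ne.symm hy'd)
      obtain ⟨k, hk⟩ := h3.exists_smul_eq e e'
      refine ⟨k, ?_, ?_, ?_⟩
      · have := congrArg (fun f : Fin 3 ↪ ↥(Off G a b) => f 0) hk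
        simpa [he0, he'0] using this
      · have := congrArg (fun f : Fin 3 ↪ ↥(Off G a b) => f 1) hk
        simpa [he1, he'1] using this
      · have := congrArg (fun f : Fin 3 ↪ ↥(Off G a b) => f 2) hk
        simpa [he2, he'2] using this)
  intro y y' hya hyb hyc hyd hy'a hy'b hy'c hy'd
  obtain ⟨k, hk0, hkc, hkd, hky⟩ := hpar ⟨y, ⟨hya, hyb⟩⟩ ⟨y', ⟨hy'a, hy'b⟩⟩
    (fun h => hyc (congrArg Subtype.val h)) (fun h => hyd (congrArg Subtype.val h))
    (fun h => hy'c (congrArg Subtype.val h)) (fun h => hy'd (congrArg Subtype.val h))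
  rw [Subgroup.mem_subgroupOf, Subgroup.mem_inf, mem_stabilizer_iff, mem_stabilizer_iff] at hk0
  refine ⟨(k : G), hk0.1, hk0.2, ?_, ?_, ?_⟩
  · exact congrArg Subtype.val hkc
  · exact congrArg Subtype.val hkd
  · exact congrArg Subtype.val hky

end Cfsg.Agent.Lib.Helper22.TW5T
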