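import Mathlib
import Cfsg.Agent.Lib.Helper8.TW.Defs
import Cfsg.Agent.Lib.Helper8.TW.StageIDefs
import Cfsg.Agent.Lib.Helper16.TWImg
import Cfsg.Agent.Lib.Helper16.TWRootA
import Cfsg.Agent.Lib.Helper16.TWRootC
import Cfsg.Agent.Lib.Helper26.TWFibA
import Cfsg.Agent.Lib.Helper26.TWFibB

/-!
S5641 Stage I market: I6a (`W₃ = W₁`), I6b (`T₃ = T₁`) in core form (the leaves they cite as hypotheses).
-/

set_option autoImplicit false
set_option linter.unusedSectionVars false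
set_option linter.unusedVariables false

namespace Cfsg.Agent.Lib.Helper22.TWLeaf
open Matrix Cfsg.Geo Cfsg.Agent.Lib.Helper18.AschA89 Cfsg.Agent.Lib.Helper8.TW

variable {F : Type*} [Field F] [Fintype F] {t m : ℕ}

lemma mem_img_of_mem {ι : Type} [Fintype ι] [DecidableEq ι] (g : GL ι F) (S : Submodule F (ι → F)) (v : ι → F)
    (hv : v ∈ S) : mv g v ∈ img g S :=
  ⟨v, hv, Matrix.toLin'_apply _ _⟩

lemma exists_of_mem_img {ι : Type} [Fintype ι] [DecidableEq ι] (g : GL ι F) (S : Submodule F (ι → F)) (v : ι → F)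
    (hv : v ∈ img g S) : ∃ w ∈ S, mv g w = v := by
  obtain ⟨w, hw, rfl⟩ := hv
  exact ⟨w, hw, (Matrix.toLin'_apply _ _).symm⟩

lemma RD_W_eq (r : RD t m F) : r.W = fib r.i (F ∙ r.y) := rfl
lemma RD_C_eq (r : RD t m F) : r.C = fib r.i (kerF r.η) := rfl

lemma pow_pos_of_three_le (hm : 3 ≤ m) (s : ℕ) : 0 < m ^ s := pow_pos (by omega) s

/-- I6a, core form (`same_type` as a hypothesis) -/
theorem I6a_core {X : Subgroup (GL (Idx t m) F)} (hm : 3 ≤ m) (g : GL (Idx t m) F) (r₂ : RD t m F)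
    (w : FRW X g r₂) (r₁ r₃ : RD t m F) (x : GL (Idx t m) F) (k : Key g r₁ r₂ x r₃)
    (hst : r₃.i = r₁.i → r₃.W = r₁.W) : r₃.W = r₁.W := by
  by_cases hi : r₃.i = r₁.i
  · exact hst hi
  exfalso
  have hWC' : img g r₂.W ≤ img g r₂.C :=
    (Cfsg.Agent.Lib.Helper16.TWLeaf.img_le_img_iff g _ _).mpr (Cfsg.Agent.Lib.Helper16.TWLeaf.RD_W_le_C r₂)
  have h1 : (r₁.W ⊔ img g r₂.W) ⊓ img g r₂.C = img g r₂.W := by
    rw [sup_comm, sup_inf_assoc_of_le _ hWC']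
    have := w.fr2 r₁.i r₁.y r₁.hy
    change r₁.W ⊓ img g r₂.C = ⊥ at this
    rw [this, sup_bot_eq]
  have h2 : img x r₁.W ≤ r₁.W ⊔ img g r₂.W := by
    intro v hv
    obtain ⟨u, hu, rfl⟩ := exists_of_mem_img x _ v hv
    have : mv x u = u + (mv x u - u) := by abel
    rw [this]
    exact Submodule.add_mem _ (Submodule.mem_sup_left hu) (k.hx1 u)
  have h3 : r₁.W ⊓ r₃.C ≤ r₃.W := by
    rw [← Cfsg.Agent.Lib.Helper16.TWLeaf.img_le_img_iff x, Cfsg.Agent.Lib.Helper16.TWLeaf.img_inf, k.hC, k.hW]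
    calc img x r₁.W ⊓ img g r₂.C ≤ (r₁.W ⊔ img g r₂.W) ⊓ img g r₂.C := inf_le_inf_right _ h2
      _ = img g r₂.W := h1
  have h4 : r₁.W ⊓ r₃.C ≤ r₁.W ⊓ r₃.W := le_inf inf_le_left h3
  have h5 := Submodule.finrank_mono h4
  rw [RD_W_eq r₁, RD_C_eq r₃, RD_W_eq r₃,
    Cfsg.Agent.Lib.Helper26.TWLeaf.finrank_fib_inf_fib _ _ (Ne.symm hi),
    Cfsg.Agent.Lib.Helper26.TWLeaf.finrank_fib_inf_fib _ _ (Ne.symm hi),
    finrank_span_singleton r₁.hy, finrank_span_singleton r₃.hy,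
    Cfsg.Agent.Lib.Helper26.TWLeaf.finrank_kerF _ r₃.hη] at h5
  have hp := pow_pos_of_three_le hm (t - 2)
  have : m ^ (t - 2) * 1 * (m - 1) ≥ m ^ (t - 2) * 1 * 2 := Nat.mul_le_mul_left _ (by omega)
  omega

/-- functionals with nested kernels are proportional -/
lemma exists_smul_of_kerF_le (η₁ η₃ : Fin m → F) (hη₁ : η₁ ≠ 0) (h : kerF η₁ ≤ kerF η₃) :
    ∃ b : F, η₃ = b • η₁ := by
  obtain ⟨a₀, ha₀⟩ := Cfsg.Agent.Lib.Helper26.TWLeaf.exists_dot_one26 η₁ hη₁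
  refine ⟨η₃ ⬝ᵥ a₀, ?_⟩
  have key : ∀ v : Fin m → F, η₃ ⬝ᵥ v = (η₃ ⬝ᵥ a₀) * (η₁ ⬝ᵥ v) := by
    intro v
    have hv : v - (η₁ ⬝ᵥ v) • a₀ ∈ kerF η₁ := by
      rw [mem_kerF, dotProduct_sub, dotProduct_smul, ha₀, smul_eq_mul, mul_one, sub_self]
    have := h hv
    rw [mem_kerF, dotProduct_sub, dotProduct_smul, smul_eq_mul, sub_eq_zero] at this
    rw [this, mul_comm]
  funext j
  have := key (Pi.single j 1)
  rw [dotProduct_single_one, dotProduct_single_one] at this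
  rw [this, Pi.smul_apply, smul_eq_mul]

lemma finrank_V : Module.finrank F (Idx t m → F) = m ^ t := by
  rw [Module.finrank_fintype_fun_eq_card, Fintype.card_fun, Fintype.card_fin, Fintype.card_fin]

/-- I6b, core form (I6a as a hypothesis) -/
theorem I6b_core {X : Subgroup (GL (Idx t m) F)} (hm : 3 ≤ m) (ht : 1 ≤ t) (g : GL (Idx t m) F) (r₂ : RD t m F)
    (w : FRW X g r₂) (r₁ r₃ : RD t m F) (x : GL (Idx t m) F) (k : Key g r₁ r₂ x r₃)
    (hW : r₃.W = r₁.W) : r₃.grp = r₁.grp := by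
  -- same position, proportional `y`
  have hy3bot : (F ∙ r₃.y) ≠ ⊥ := by
    rw [Ne, Submodule.span_singleton_eq_bot]
    exact r₃.hy
  have hy3top : (F ∙ r₃.y) ≠ ⊤ := by
    intro h
    have h1 := finrank_span_singleton (K := F) r₃.hy
    rw [h, finrank_top, Module.finrank_fintype_fun_eq_card, Fintype.card_fin] at h1
    omega
  have hW' : fib r₃.i (F ∙ r₃.y) = fib r₁.i (F ∙ r₁.y) := hW
  obtain ⟨hi, hspan⟩ :=
    (Cfsg.Agent.Lib.Helper26.TWLeaf.fib_eq_fib_iff r₃.i r₁.i _ _ hy3bot hy3top).mp hW'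
  obtain ⟨a, ha⟩ : ∃ a : F, a • r₃.y = r₁.y := by
    have : r₁.y ∈ (F ∙ r₃.y) := by
      rw [hspan]
      exact Submodule.mem_span_singleton_self _
    exact Submodule.mem_span_singleton.mp this
  have ha0 : a ≠ 0 := by
    rintro rfl
    rw [zero_smul] at ha
    exact r₁.hy ha.symm
  have hy3 : r₃.y = a⁻¹ • r₁.y := by
    rw [← ha, smul_smul, inv_mul_cancel₀ ha0, one_smul]
  by_cases hη : ∃ b : F, r₃.η = b • r₁.η
  · obtain ⟨b, hb⟩ := hη
    have hb0 : b ≠ 0 := by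
      rintro rfl
      rw [zero_smul] at hb
      exact r₃.hη hb
    have hN : r₃.N = (a⁻¹ * b) • r₁.N := by
      unfold RD.N rootN
      rw [hi, hy3, hb, ← slot_smul]
      congr 1
      ext p q
      simp only [Matrix.vecMulVec_apply, Pi.smul_apply, smul_eq_mul, Matrix.smul_apply]
      ring
    have helt : ∀ c : F, r₃.elt c = r₁.elt (c * (a⁻¹ * b)) := by
      intro c
      apply Units.ext
      rw [RD.elt_val, RD.elt_val, hN, smul_smul]
    have hab : a⁻¹ * b ≠ 0 := mul_ne_zero (inv_ne_zero ha0) hb0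
    ext u
    rw [RD.mem_grp, RD.mem_grp]
    constructor
    · rintro ⟨c, rfl⟩
      exact ⟨c * (a⁻¹ * b), helt c⟩
    · rintro ⟨c, rfl⟩
      refine ⟨c / (a⁻¹ * b), ?_⟩
      rw [helt, div_mul_cancel₀ _ hab]
  · exfalso
    -- `D = C₁ ⊓ C₃`
    have hlt : kerF r₁.η ⊓ kerF r₃.η < kerF r₁.η := by
      refine lt_of_le_of_ne inf_le_left ?_
      intro h
      have hle : kerF r₁.η ≤ kerF r₃.η := by
        rw [← h]
        exact inf_le_right
      exact hη (exists_smul_of_kerF_le r₁.η r₃.η r₁.hη hle)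
    have hfr := Submodule.finrank_lt_finrank_of_lt hlt
    rw [Cfsg.Agent.Lib.Helper26.TWLeaf.finrank_kerF _ r₁.hη] at hfr
    have hD : r₁.C ⊓ r₃.C = fib r₁.i (kerF r₁.η ⊓ kerF r₃.η) := by
      rw [RD_C_eq, RD_C_eq, hi, Cfsg.Agent.Lib.Helper26.TWLeaf.fib_inf]
    have hDfr : Module.finrank F (r₁.C ⊓ r₃.C : Submodule F (Idx t m → F)) ≤ m ^ (t - 1) * (m - 2) := by
      rw [hD, Cfsg.Agent.Lib.Helper26.TWLeaf.finrank_fib]
      exact Nat.mul_le_mul_left _ (by omega)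
    have hle : r₁.C ⊓ img g r₂.C ≤ r₁.C ⊓ r₃.C := le_inf inf_le_left k.h3
    have hdim := Submodule.finrank_sup_add_finrank_inf_eq r₁.C (img g r₂.C)
    have hsup : Module.finrank F (r₁.C ⊔ img g r₂.C : Submodule F (Idx t m → F)) ≤ m ^ t := by
      rw [← finrank_V (F := F)]
      exact Submodule.finrank_le _
    rw [Cfsg.Agent.Lib.Helper16.TWLeaf.finrank_img, Cfsg.Agent.Lib.Helper16.TWLeaf.RD_finrank_C,
      Cfsg.Agent.Lib.Helper16.TWLeaf.RD_finrank_C] at hdim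
    have hmt : m ^ t = m ^ (t - 1) * m := by
      rw [← pow_succ]
      congr 1
      omega
    have hge : m ^ (t - 1) * (m - 2) ≤ Module.finrank F (r₁.C ⊓ img g r₂.C : Submodule F (Idx t m → F)) := by
      obtain ⟨m', rfl⟩ : ∃ m', m = m' + 3 := ⟨m - 3, by omega⟩
      have e1 : m' + 3 - 1 = m' + 2 := by omega
      have e2 : m' + 3 - 2 = m' + 1 := by omega
      rw [e1] at hdim
      rw [e2]
      rw [hmt] at hsup
      nlinarith
    have heq : r₁.C ⊓ img g r₂.C = r₁.C ⊓ r₃.C :=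
      Submodule.eq_of_le_of_finrank_le hle (le_trans hDfr hge)
    have hW1 : r₁.W ≤ r₁.C ⊓ r₃.C := by
      rw [hD, RD_W_eq]
      apply Cfsg.Agent.Lib.Helper26.TWLeaf.fib_mono
      rw [Submodule.span_singleton_le_iff_mem]
      refine Submodule.mem_inf.mpr ⟨?_, ?_⟩
      · rw [mem_kerF]
        exact r₁.h0
      · rw [mem_kerF, ← ha, dotProduct_smul, r₃.h0, smul_zero]
    have hW1' : r₁.W ≤ img g r₂.C := by
      rw [← heq] at hW1
      exact le_trans hW1 inf_le_right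
    have hbot := w.fr2 r₁.i r₁.y r₁.hy
    change r₁.W ⊓ img g r₂.C = ⊥ at hbot
    rw [inf_eq_left.mpr hW1'] at hbot
    have hfrW := Cfsg.Agent.Lib.Helper16.TWLeaf.RD_finrank_W r₁
    rw [hbot, finrank_bot] at hfrW
    have := pow_pos_of_three_le hm (t - 1)
    omega

end Cfsg.Agent.Lib.Helper22.TWLeaf
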