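import Mathlib
import Cfsg.Agent.Lib.Helper8.TW.Defs
import Cfsg.Agent.Lib.Helper8.TW.StageIDefs
import Cfsg.Agent.Lib.Helper16.TWImg
import Cfsg.Agent.Lib.Helper22.TWI6abCore

/-!
S5641 Stage I market: I6c in core form (two keys and I6a/I6b for them as hypotheses).
-/

set_option autoImplicit false
set_option linter.unusedSectionVars false
set_option linter.unusedVariables false

namespace Cfsg.Agent.Lib.Helper22.TWLeaf
open Matrix Cfsg.Geo Cfsg.Agent.Lib.Helper18.AschA89 Cfsg.Agent.Lib.Helper8.TW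

variable {F : Type*} [Field F] [Fintype F] {t m : ℕ}

lemma conjG_one {ι : Type} [Fintype ι] [DecidableEq ι] (T : Subgroup (GL ι F)) : conjG (1 : GL ι F) T = T := by
  ext u
  rw [mem_conjG]
  constructor
  · rintro ⟨v, hv, rfl⟩
    simpa using hv
  · intro hu
    exact ⟨u, hu, by simp⟩

lemma mv_one {ι : Type} [Fintype ι] [DecidableEq ι] (v : ι → F) : mv (1 : GL ι F) v = v := by
  unfold mv
  rw [Units.val_one, Matrix.one_mulVec]

lemma mv_add {ι : Type} [Fintype ι] [DecidableEq ι] (g : GL ι F) (v w : ι → F) : mv g (v + w) = mv g v + mv g w := by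
  unfold mv
  rw [Matrix.mulVec_add]

/-- I6c, core form -/
theorem I6c_core (g : GL (Idx t m) F) (r₂ r₁ r₁' : RD t m F) (hi : r₁'.i = r₁.i) (hy : r₁'.y = r₁.y)
    (x x' : GL (Idx t m) F) (r₃ r₃' : RD t m F) (k : Key g r₁ r₂ x r₃) (k' : Key g r₁' r₂ x' r₃')
    (hW : r₃.W = r₁.W) (hW' : r₃'.W = r₁'.W) (hT : r₃.grp = r₁.grp) (hT' : r₃'.grp = r₁'.grp) :
    ∃ h ∈ Gstd t m F, img h r₁.W = r₁.W ∧ conjG h r₁.grp = r₁'.grp ∧
      ∀ v, mv h v - v ∈ r₁.W ⊔ img g r₂.W := by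
  have hWW : r₁'.W = r₁.W := by
    unfold RD.W
    rw [hi, hy]
  refine ⟨x'⁻¹ * x, ?_, ?_, ?_, ?_⟩
  · have : x'⁻¹ * x = (x'⁻¹ * g) * (x⁻¹ * g)⁻¹ := by group
    rw [this]
    exact Subgroup.mul_mem _ k'.h_mem (Subgroup.inv_mem _ k.h_mem)
  · have h1 : img x r₁.W = img x' r₁.W := by
      calc img x r₁.W = img x r₃.W := by rw [hW]
        _ = img g r₂.W := k.hW
        _ = img x' r₃'.W := k'.hW.symm
        _ = img x' r₁.W := by rw [hW', hWW]
    rw [Cfsg.Agent.Lib.Helper16.TWLeaf.img_mul, h1, ← Cfsg.Agent.Lib.Helper16.TWLeaf.img_mul, inv_mul_cancel,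
      Cfsg.Agent.Lib.Helper16.TWLeaf.img_one]
  · have h1 : conjG x r₁.grp = conjG x' r₁'.grp := by
      calc conjG x r₁.grp = conjG x r₃.grp := by rw [hT]
        _ = conjG g r₂.grp := k.hT
        _ = conjG x' r₃'.grp := k'.hT.symm
        _ = conjG x' r₁'.grp := by rw [hT']
    rw [Cfsg.Agent.Lib.Helper16.TWLeaf.conjG_mul, h1, ← Cfsg.Agent.Lib.Helper16.TWLeaf.conjG_mul, inv_mul_cancel,
      conjG_one]
  · intro v
    have hA : ∀ z, mv x'⁻¹ z - z ∈ r₁.W ⊔ img g r₂.W := by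
      intro z
      have h1 := k'.hx1 (mv x'⁻¹ z)
      rw [← Cfsg.Agent.Lib.Helper16.TWLeaf.mv_mul, mul_inv_cancel, mv_one, hWW] at h1
      have := Submodule.neg_mem _ h1
      rwa [neg_sub] at this
    have hu := k.hx1 v
    set u := mv x v - v with hu_def
    have hxv : mv x v = v + u := by rw [hu_def]; abel
    rw [Cfsg.Agent.Lib.Helper16.TWLeaf.mv_mul, hxv, mv_add]
    have : mv x'⁻¹ v + mv x'⁻¹ u - v = (mv x'⁻¹ v - v) + (u + (mv x'⁻¹ u - u)) := by abel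
    rw [this]
    exact Submodule.add_mem _ (hA v) (Submodule.add_mem _ hu (hA u))

end Cfsg.Agent.Lib.Helper22.TWLeaf
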