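import Mathlib
import Cfsg.Agent.Lib.Helper8.TW.Defs
import Cfsg.Agent.Lib.Helper8.TW.StageIDefs
import Cfsg.Agent.Lib.Helper16.TWImg
import Cfsg.Agent.Lib.Helper16.TWRootA

/-!
S5641 Stage I market: FR1 `fr1_of` (core form, with the key as a hypothesis) and FR2 `fr2_of` (exact).
-/

set_option autoImplicit false
set_option linter.unusedSectionVars false
set_option linter.unusedVariables false

namespace Cfsg.Agent.Lib.Helper22.TWLeaf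
open Matrix Cfsg.Geo Cfsg.Agent.Lib.Helper18.AschA89 Cfsg.Agent.Lib.Helper8.TW

variable {F : Type*} [Field F] [Fintype F] {t m : ℕ}

/-- FR1, core form: the key (I3) as a hypothesis -/
theorem fr1_of_core {X : Subgroup (GL (Idx t m) F)} (hm : 2 ≤ m)
    (hkey : ∀ (g : GL (Idx t m) F), g ∈ X → ∀ r₁ r₂ : RD t m F,
      ∃ (x : GL (Idx t m) F) (r₃ : RD t m F), Key g r₁ r₂ x r₃)
    (hδ : ∀ g ∈ X, g ∉ Gstd t m F → ∀ (r₂ : RD t m F) (j : Fin t) (z : Fin m → F), z ≠ 0 →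
      Wf j z ⊓ img g r₂.W = ⊥)
    (g : GL (Idx t m) F) (hgX : g ∈ X) (hgG : g ∉ Gstd t m F) (r₂ : RD t m F) (i : Fin t) (η : Fin m → F)
    (hη : η ≠ 0) : img g r₂.W ⊓ Cf i η = ⊥ := by
  obtain ⟨r₁, hi, hη₁⟩ := Cfsg.Agent.Lib.Helper16.TWLeaf.exists_RD_of_eta (F := F) (t := t) hm i η hη
  obtain ⟨x, r₃, k⟩ := hkey g hgX r₁ r₂
  have hC : r₁.C = Cf i η := by
    unfold RD.C
    rw [hi, hη₁]
  have h2 := k.h2
  rw [hC] at h2
  have h3 := hδ g hgX hgG r₂ r₃.i r₃.y r₃.hy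
  rw [eq_bot_iff]
  intro v hv
  rw [← h3]
  exact ⟨h2 hv, hv.1⟩

/-- FR2 (M) -/
theorem fr2_of {X : Subgroup (GL (Idx t m) F)} (c : Ctx X)
    (hfr1 : ∀ g ∈ X, g ∉ Gstd t m F → ∀ (r₂ : RD t m F) (i : Fin t) (η : Fin m → F), η ≠ 0 →
      img g r₂.W ⊓ Cf i η = ⊥)
    (g : GL (Idx t m) F) (hgX : g ∈ X) (hgG : g ∉ Gstd t m F) (r₂ : RD t m F) (i : Fin t) (y : Fin m → F)
    (hy : y ≠ 0) : Wf i y ⊓ img g r₂.C = ⊥ := by
  have hm : 2 ≤ m := by have := c.hm; omega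
  obtain ⟨r, hi, hry⟩ := Cfsg.Agent.Lib.Helper16.TWLeaf.exists_RD_of_y (F := F) (t := t) hm i y hy
  have hgX' : g⁻¹ ∈ X := X.inv_mem hgX
  have hgG' : g⁻¹ ∉ Gstd t m F := fun h => hgG (by simpa using (Gstd t m F).inv_mem h)
  have h1 := hfr1 g⁻¹ hgX' hgG' r r₂.i r₂.η r₂.hη
  have hW : r.W = Wf i y := by
    unfold RD.W
    rw [hi, hry]
  rw [hW] at h1
  have h2 : img g (img g⁻¹ (Wf i y) ⊓ Cf r₂.i r₂.η) = Wf i y ⊓ img g r₂.C := by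
    rw [Cfsg.Agent.Lib.Helper16.TWLeaf.img_inf, ← Cfsg.Agent.Lib.Helper16.TWLeaf.img_mul, mul_inv_cancel,
      Cfsg.Agent.Lib.Helper16.TWLeaf.img_one]
    rfl
  rw [← h2, h1]
  unfold img
  exact Submodule.map_bot _

end Cfsg.Agent.Lib.Helper22.TWLeaf
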