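import Mathlib
import Cfsg.Agent.Lib.Helper8.TW.Defs
import Cfsg.Agent.Lib.Helper8.TW.StageIDefs
import Cfsg.Agent.Lib.Helper23.SOTGTM
import Cfsg.Agent.Lib.Helper23.TWI1
import Cfsg.Agent.Lib.Helper1.TWI4
import Cfsg.Agent.Lib.Helper22.TWIFRCore
import Cfsg.Agent.Lib.Helper22.TWI6abCore
import Cfsg.Agent.Lib.Helper22.TWI6cCore

/-!
S5641 Stage I market: FR1 `fr1_of`, I6a, I6b, I6c with the EXACT signatures of `notes/S5641_I_leaves.lean`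
(FR2 `fr2_of` is in `TWIFRCore`).
-/

set_option autoImplicit false
set_option linter.unusedSectionVars false
set_option linter.unusedVariables false

namespace Cfsg.Agent.Lib.Helper22.TWLeaf
open Matrix Cfsg.Geo Cfsg.Agent.Lib.Helper18.AschA89 Cfsg.Agent.Lib.Helper8.TW

variable {F : Type*} [Field F] [Fintype F] {t m : ℕ}

/-- FR1 (M) -/
theorem fr1_of {X : Subgroup (GL (Idx t m) F)} (c : Ctx X)
    (hδ : ∀ g ∈ X, g ∉ Gstd t m F → ∀ (r₂ : RD t m F) (j : Fin t) (z : Fin m → F), z ≠ 0 →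
      Wf j z ⊓ img g r₂.W = ⊥)
    (g : GL (Idx t m) F) (hgX : g ∈ X) (hgG : g ∉ Gstd t m F) (r₂ : RD t m F) (i : Fin t) (η : Fin m → F)
    (hη : η ≠ 0) : img g r₂.W ⊓ Cf i η = ⊥ :=
  fr1_of_core (by have := c.hm; omega)
    (fun g hgX r₁ r₂ => Cfsg.Agent.Lib.Helper23.TWLeaf.key c g hgX r₁ r₂) hδ g hgX hgG r₂ i η hη

/-- I6a (M) `W₃ = W₁` -/
theorem I6a {X : Subgroup (GL (Idx t m) F)} (c : Ctx X) (g : GL (Idx t m) F) (r₂ : RD t m F)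
    (w : FRW X g r₂) (r₁ r₃ : RD t m F) (x : GL (Idx t m) F) (k : Key g r₁ r₂ x r₃) :
    r₃.W = r₁.W :=
  I6a_core c.hm g r₂ w r₁ r₃ x k
    (fun hi => Cfsg.Agent.Lib.Helper1.TWLeaf.same_type_core c g r₁ r₂ r₃ x k w.thin hi)

/-- I6b (M) `T₃ = T₁` -/
theorem I6b {X : Subgroup (GL (Idx t m) F)} (c : Ctx X) (g : GL (Idx t m) F) (r₂ : RD t m F)
    (w : FRW X g r₂) (r₁ r₃ : RD t m F) (x : GL (Idx t m) F) (k : Key g r₁ r₂ x r₃) :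
    r₃.grp = r₁.grp :=
  I6b_core c.hm (by have := c.ht; omega) g r₂ w r₁ r₃ x k (I6a c g r₂ w r₁ r₃ x k)

/-- I6c (M) -/
theorem I6c {X : Subgroup (GL (Idx t m) F)} (c : Ctx X) (g : GL (Idx t m) F) (r₂ : RD t m F)
    (w : FRW X g r₂) (r₁ r₁' : RD t m F) (hi : r₁'.i = r₁.i) (hy : r₁'.y = r₁.y) :
    ∃ h ∈ Gstd t m F, img h r₁.W = r₁.W ∧ conjG h r₁.grp = r₁'.grp ∧
      ∀ v, mv h v - v ∈ r₁.W ⊔ img g r₂.W := by
  obtain ⟨x, r₃, k⟩ := Cfsg.Agent.Lib.Helper23.TWLeaf.key c g w.hgX r₁ r₂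
  obtain ⟨x', r₃', k'⟩ := Cfsg.Agent.Lib.Helper23.TWLeaf.key c g w.hgX r₁' r₂
  exact I6c_core g r₂ r₁ r₁' hi hy x x' r₃ r₃' k k' (I6a c g r₂ w r₁ r₃ x k) (I6a c g r₂ w r₁' r₃' x' k')
    (I6b c g r₂ w r₁ r₃ x k) (I6b c g r₂ w r₁' r₃' x' k')

end Cfsg.Agent.Lib.Helper22.TWLeaf
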