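import Mathlib
import Cfsg.Agent.Lib.Helper5.TWS.Defs
import Cfsg.Agent.Lib.Helper8.TWS2ADefs
import Cfsg.Agent.Lib.Helper29.TWSOneSlot
import Cfsg.Agent.Lib.Helper20.TWS3Perm
import Cfsg.Agent.Lib.Helper20.TWS3KB
import Cfsg.Agent.Lib.Helper9.TWST3
import Cfsg.Agent.Lib.Helper7.SOTGM
import Cfsg.Agent.Lib.Helper23.TWG1
import Cfsg.Agent.Lib.Helper12.TWTS

/-!
S5668-IIA market (Case A owner helper8, `notes/S5668_IIA_leaves.lean`): leaf **L7** `XTS_of_oneS` (helper22), exact signature.
Port of `Helper6.TWU2ALeaf.XTU_of_one`.  By-products: `exists_sq_add_sq_h22` (every element of a finite field is a sum of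
two squares, any characteristic), `dy_conj_h22`, `nilS_congr`, `nilS_update_smul`, `nilS_conj_slot`.
-/

set_option autoImplicit false
set_option linter.unusedSectionVars false
set_option linter.unusedVariables false

namespace Cfsg.Agent.Lib.Helper22.TWS2ALeaf
open Matrix Cfsg.Geo Cfsg.Agent.Lib.Helper18.AschA89 Cfsg.Agent.Lib.Helper8.TW
open Cfsg.Agent.Lib.Helper5.TWS Cfsg.Agent.Lib.Helper28.TWU2A
open Cfsg.Agent.Lib.Helper25.SpT (sf sfv)
open Cfsg.Agent.Lib.Helper8.TWS2A Cfsg.Agent.Lib.Helper29.TWSOne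

variable {F : Type*} [Field F] {t k : ℕ}

/-- every element of a finite field is a sum of two squares -/
theorem exists_sq_add_sq_h22 [Fintype F] (w : F) : ∃ u v : F, u ^ 2 + v ^ 2 = w := by
  classical
  by_cases h2 : ringChar F = 2
  · obtain ⟨u, hu⟩ := FiniteField.isSquare_of_char_two h2 w
    exact ⟨u, 0, by rw [hu]; ring⟩
  · have hodd : Fintype.card F % 2 = 1 := FiniteField.odd_card_of_char_ne_two h2
    let f : Polynomial F := Polynomial.X ^ 2
    let g : Polynomial F := Polynomial.X ^ 2 - Polynomial.C w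
    obtain ⟨a, b, hab⟩ : ∃ a b, f.eval a + g.eval b = 0 :=
      FiniteField.exists_root_sum_quadratic (f := f) (g := g) (Polynomial.degree_X_pow 2)
        (Polynomial.degree_X_pow_sub_C (by decide) _) hodd
    refine ⟨a, b, ?_⟩
    rw [← sub_eq_zero]
    simpa only [f, g, Polynomial.eval_C, Polynomial.eval_X, Polynomial.eval_pow, Polynomial.eval_sub,
      ← add_sub_assoc] using hab

/-- `d (s w†) d⁻¹ = (d s)(d w)†` for an isometry `d` of `sf` -/
theorem dy_conj_h22 (d : GL (Fin k) F) (hd : d ∈ GSA k F) (s w : Fin k → F) :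
    (d : Matrix (Fin k) (Fin k) F) * dy s w * ((d⁻¹ : GL (Fin k) F) : Matrix (Fin k) (Fin k) F) =
      dy ((d : Matrix (Fin k) (Fin k) F) *ᵥ s) ((d : Matrix (Fin k) (Fin k) F) *ᵥ w) := by
  apply Matrix.toLin'.injective
  apply LinearMap.ext
  intro v
  rw [Matrix.toLin'_apply, Matrix.toLin'_apply, ← Matrix.mulVec_mulVec, ← Matrix.mulVec_mulVec, dy_mulVec, dy_mulVec,
    Matrix.mulVec_smul]
  congr 1
  have h1 := mem_GSA.mp hd (((d⁻¹ : GL (Fin k) F) : Matrix (Fin k) (Fin k) F) *ᵥ v) w
  rw [Matrix.mulVec_mulVec, ← Units.val_mul, mul_inv_cancel, Units.val_one, Matrix.one_mulVec] at h1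
  exact h1.symm

/-- `nilS J` depends only on the vectors at the positions of `J` -/
theorem nilS_congr (J : Finset (Fin t)) (y y' : Fin t → Fin k → F) (h : ∀ j ∈ J, y j = y' j) :
    nilS J y = nilS J y' := by
  funext x x'
  unfold nilS
  by_cases hc : ∀ j, j ∉ J → x j = x' j
  · rw [if_pos hc, if_pos hc]
    apply Finset.prod_congr rfl
    intro j hj
    rw [h j hj]
  · rw [if_neg hc, if_neg hc]

/-- scaling one of the vectors: `N_{l y} = l² N_y` -/
theorem nilS_update_smul (J : Finset (Fin t)) (y : Fin t → Fin k → F) {j₀ : Fin t} (hj₀ : j₀ ∈ J) (l : F) :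
    nilS J (Function.update y j₀ (l • y j₀)) = (l ^ 2) • nilS J y := by
  classical
  funext x x'
  rw [Matrix.smul_apply]
  unfold nilS
  by_cases hc : ∀ j, j ∉ J → x j = x' j
  · rw [if_pos hc, if_pos hc, ← Finset.mul_prod_erase J _ hj₀, ← Finset.mul_prod_erase J _ hj₀,
      Function.update_self, sfv_smul, Pi.smul_apply, Pi.smul_apply, smul_eq_mul, smul_eq_mul, smul_eq_mul]
    have h1 : ∏ j ∈ J.erase j₀, Function.update y j₀ (l • y j₀) j (x j) *
        sfv (Function.update y j₀ (l • y j₀) j) (x' j) = ∏ j ∈ J.erase j₀, y j (x j) * sfv (y j) (x' j) := by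
      apply Finset.prod_congr rfl
      intro j hj
      rw [Function.update_of_ne (Finset.ne_of_mem_erase hj)]
    rw [h1]
    ring
  · rw [if_neg hc, if_neg hc, smul_zero]

/-- conjugating by a `slot` isometry moves one of the vectors -/
theorem nilS_conj_slot (J : Finset (Fin t)) (z : Fin t → Fin k → F) {j₀ : Fin t} (hj₀ : j₀ ∈ J) (d : GL (Fin k) F)
    (hd : d ∈ GSA k F) :
    slot k t j₀ (d : Matrix (Fin k) (Fin k) F) * nilS J z *
        slot k t j₀ ((d⁻¹ : GL (Fin k) F) : Matrix (Fin k) (Fin k) F) =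
      nilS J (Function.update z j₀ ((d : Matrix (Fin k) (Fin k) F) *ᵥ z j₀)) := by
  rw [Cfsg.Agent.Lib.Helper20.TWS3.nilS_eq_ptens, Cfsg.Agent.Lib.Helper12.TWLeaf.slot_mul_ptens,
    Cfsg.Agent.Lib.Helper12.TWLeaf.ptens_mul_slot, Cfsg.Agent.Lib.Helper20.TWS3.nilS_eq_ptens]
  congr 1
  funext j
  by_cases hj : j = j₀
  · subst hj
    rw [Function.update_self, Function.update_self]
    unfold Cfsg.Agent.Lib.Helper20.TWS3.famS
    rw [if_pos hj₀, if_pos hj₀, Function.update_self]
    exact dy_conj_h22 d hd _ _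
  · rw [Function.update_of_ne hj, Function.update_of_ne hj]
    unfold Cfsg.Agent.Lib.Helper20.TWS3.famS
    rw [Function.update_of_ne hj]

/-- the weight family with `J2 = ∅` is the family of `nilS` -/
theorem ptens_famS_empty (J : Finset (Fin t)) (y x x' : Fin t → Fin k → F) :
    ptens k t (famS J ∅ y x x') = nilS J y := by
  have hfam : famS J ∅ y x x' = Cfsg.Agent.Lib.Helper20.TWS3.famS J y := by
    funext l
    unfold famS Cfsg.Agent.Lib.Helper20.TWS3.famS
    by_cases hl : l ∈ J
    · rw [if_pos hl, if_pos hl]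
    · rw [if_neg hl, if_neg hl]
      simp
  rw [Cfsg.Agent.Lib.Helper20.TWS3.nilS_eq_ptens, hfam]

/-- L7 (M-L) one elementary element gives `XTS` -/
theorem XTS_of_oneS [Fintype F] (hk : Even k) (X : Subgroup (GL (Idx t k) F)) (hHX : HS t k F ≤ X)
    (J : Finset (Fin t)) (hJ : J.Nonempty) (z x x' : Fin t → Fin k → F) (hz : ∀ l ∈ J, z l ≠ 0)
    (c : F) (hc0 : c ≠ 0) (h : InM X (1 + c • ptens k t (famS J ∅ z x x'))) : XTS X J := by
  classical
  rw [ptens_famS_empty] at h
  -- moving the vectors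
  have hmove : ∀ y : Fin t → Fin k → F, (∀ j ∈ J, y j ≠ 0) → InM X (1 + c • nilS J y) := by
    intro y hy
    have hind : ∀ S : Finset (Fin t), S ⊆ J →
        InM X (1 + c • nilS J (fun j => if j ∈ S then y j else z j)) := by
      intro S
      induction S using Finset.induction_on with
      | empty =>
        intro _
        simpa using h
      | insert a S ha ih =>
        intro hS
        have haJ : a ∈ J := hS (Finset.mem_insert_self a S)
        obtain ⟨g, hgX, hgv⟩ := ih (fun j hj => hS (Finset.mem_insert_of_mem hj))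
        obtain ⟨d, hdS, hdz⟩ := Cfsg.Agent.Lib.Helper7.SOTGLeaf.exists_sp_map (F := F) hk (hz a haJ) (hy a haJ)
        have hdG : d ∈ GSA k F := mem_GSA.mpr hdS
        have hsl : slotGL a d ∈ X := hHX ⟨Cfsg.Agent.Lib.Helper23.TWLeaf.slotGL_mem_G a d,
          Cfsg.Agent.Lib.Helper9.TWST.slotGL_mem_GSV hk a hdG⟩
        refine ⟨slotGL a d * g * (slotGL a d)⁻¹, X.mul_mem (X.mul_mem hsl hgX) (X.inv_mem hsl), ?_⟩
        have hinv : (((slotGL a d)⁻¹ : GL (Idx t k) F) : Matrix (Idx t k) (Idx t k) F) =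
            slot k t a ((d⁻¹ : GL (Fin k) F) : Matrix (Fin k) (Fin k) F) := rfl
        rw [Units.val_mul, Units.val_mul, hgv, hinv, slotGL_val, Matrix.mul_add, Matrix.add_mul, Matrix.mul_one,
          Matrix.mul_smul, Matrix.smul_mul, nilS_conj_slot J _ haJ d hdG]
        have h1 : slot k t a (d : Matrix (Fin k) (Fin k) F) *
            slot k t a ((d⁻¹ : GL (Fin k) F) : Matrix (Fin k) (Fin k) F) = 1 := by
          rw [slot_mul, ← Units.val_mul, mul_inv_cancel, Units.val_one, slot_one]
        rw [h1]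
        congr 2
        apply nilS_congr
        intro j hj
        by_cases hja : j = a
        · subst hja
          rw [Function.update_self, if_neg ha, hdz, if_pos (Finset.mem_insert_self j S)]
        · rw [Function.update_of_ne hja]
          by_cases hjS : j ∈ S
          · rw [if_pos hjS, if_pos (Finset.mem_insert_of_mem hjS)]
          · rw [if_neg hjS, if_neg (fun h' => by
              rcases Finset.mem_insert.mp h' with h'' | h''
              · exact hja h''
              · exact hjS h'')]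
    have h2 := hind J (Finset.Subset.refl J)
    have h3 : nilS J (fun j => if j ∈ J then y j else z j) = nilS J y := by
      apply nilS_congr
      intro j hj
      rw [if_pos hj]
    rwa [h3] at h2
  -- scalars: `c a²` for every `a`, then sums of two squares
  intro y c' hy
  obtain ⟨j₀, hj₀⟩ := hJ
  have hsq : ∀ a : F, InM X (1 + (c * a ^ 2) • nilS J y) := by
    intro a
    by_cases ha : a = 0
    · rw [ha]
      have : (c * (0 : F) ^ 2) • nilS J y = 0 := by
        rw [zero_pow (by norm_num), mul_zero, zero_smul]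
      rw [this, add_zero]
      exact ⟨1, X.one_mem, rfl⟩
    · have h4 := hmove (Function.update y j₀ (a • y j₀)) (by
        intro j hj
        by_cases hjj : j = j₀
        · subst hjj
          rw [Function.update_self]
          exact smul_ne_zero ha (hy j hj)
        · rw [Function.update_of_ne hjj]
          exact hy j hj)
      rwa [nilS_update_smul J y hj₀ a, smul_smul] at h4
  obtain ⟨a, b, hab⟩ := exists_sq_add_sq_h22 (c' * c⁻¹)
  have hNN : ((c * a ^ 2) • nilS J y) * ((c * b ^ 2) • nilS J y) = 0 := by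
    rw [Matrix.smul_mul, Matrix.mul_smul, Cfsg.Agent.Lib.Helper20.TWS3.nilS_sq J ⟨j₀, hj₀⟩ y, smul_zero, smul_zero]
  have h5 := InM_mul8 X _ _ (hsq a) (hsq b) hNN
  have h6 : (c * a ^ 2) • nilS J y + (c * b ^ 2) • nilS J y = c' • nilS J y := by
    rw [← add_smul]
    congr 1
    rw [← mul_add, hab]
    field_simp
  rwa [h6] at h5

end Cfsg.Agent.Lib.Helper22.TWS2ALeaf
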