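import Mathlib
import Cfsg.Agent.Lib.Helper5.TWS.Defs
import Cfsg.Agent.Lib.Helper8.TWS2ADefs

/-!
S5668-IIA (Case A owner helper8): the pure-tensor lemma **P6** `pure_brackets` (iterated brackets over a finite set of slots),
in the form `pure_brackets_of`: helper8's exact P6 statement with P2 `pure_bracket` as ONE explicit hypothesis.
-/

set_option autoImplicit false
set_option linter.unusedSectionVars false
set_option linter.unusedVariables false

namespace Cfsg.Agent.Lib.Helper22.TWS2ALeaf
open Matrix Cfsg.Geo Cfsg.Agent.Lib.Helper18.AschA89 Cfsg.Agent.Lib.Helper8.TW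
open Cfsg.Agent.Lib.Helper5.TWS Cfsg.Agent.Lib.Helper28.TWU2A
open Cfsg.Agent.Lib.Helper25.SpT (sf sfv)
open Cfsg.Agent.Lib.Helper8.TWS2A Cfsg.Agent.Lib.Helper29.TWSOne

variable {F : Type*} [Field F] {t k : ℕ}

/-- the statement of P2 `pure_bracket` for a fixed `X` -/
def PureBracketStmt (X : Subgroup (GL (Idx t k) F)) : Prop :=
  ∀ (W : Fin t → Matrix (Fin k) (Fin k) F) (c : F) (m l : Fin t), m ≠ l → W m * W m = 0 → ∀ (u : Fin k → F),
    InM X (1 + c • ptens k t W) →
      InM X (1 + (c + c) • ptens k t (Function.update W l (Nz u * W l - W l * Nz u)))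

/-- P6 from P2: iterated brackets over the slots of `D` (the anchor slot `m ∉ D` never changes) -/
theorem pure_brackets_of (X : Subgroup (GL (Idx t k) F)) (hP2 : PureBracketStmt X)
    (W : Fin t → Matrix (Fin k) (Fin k) F) (c : F) (m : Fin t) (hm : W m * W m = 0)
    (D : Finset (Fin t)) (hmD : m ∉ D) (u : Fin t → Fin k → F) (h : InM X (1 + c • ptens k t W)) :
    InM X (1 + ((2 : F) ^ D.card * c) •
      ptens k t (fun l => if l ∈ D then Nz (u l) * W l - W l * Nz (u l) else W l)) := by
  classical
  induction D using Finset.induction_on with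
  | empty =>
    simpa using h
  | insert a D ha ih =>
    have hma : m ≠ a := fun e => hmD (e ▸ Finset.mem_insert_self a D)
    have hmD' : m ∉ D := fun e => hmD (Finset.mem_insert_of_mem e)
    have ih' := ih hmD'
    have hWm : (fun l => if l ∈ D then Nz (u l) * W l - W l * Nz (u l) else W l) m *
        (fun l => if l ∈ D then Nz (u l) * W l - W l * Nz (u l) else W l) m = 0 := by
      simp only [if_neg hmD']
      exact hm
    have h2 := hP2 _ _ m a hma hWm (u a) ih'
    have e1 : Function.update (fun l => if l ∈ D then Nz (u l) * W l - W l * Nz (u l) else W l) a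
        (Nz (u a) * (fun l => if l ∈ D then Nz (u l) * W l - W l * Nz (u l) else W l) a -
          (fun l => if l ∈ D then Nz (u l) * W l - W l * Nz (u l) else W l) a * Nz (u a)) =
        fun l => if l ∈ insert a D then Nz (u l) * W l - W l * Nz (u l) else W l := by
      funext l
      by_cases hla : l = a
      · subst hla
        rw [Function.update_self]
        simp only [if_neg ha, if_pos (Finset.mem_insert_self l D)]
      · rw [Function.update_of_ne hla]
        by_cases hlD : l ∈ D
        · simp only [if_pos hlD, if_pos (Finset.mem_insert_of_mem hlD)]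
        · have : l ∉ insert a D := fun e => by
            rcases Finset.mem_insert.mp e with e | e
            · exact hla e
            · exact hlD e
          simp only [if_neg hlD, if_neg this]
    have e2 : (2 : F) ^ D.card * c + (2 : F) ^ D.card * c = (2 : F) ^ (insert a D).card * c := by
      rw [Finset.card_insert_of_notMem ha, pow_succ]
      ring
    rw [e1, e2] at h2
    exact h2

end Cfsg.Agent.Lib.Helper22.TWS2ALeaf
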