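import Mathlib
import Cfsg.Agent.Lib.Helper5.TWS.Defs
import Cfsg.Agent.Lib.Helper20.TWS3Perm
import Cfsg.Agent.Lib.Helper23.TWUQ1
import Cfsg.Agent.Lib.Helper6.TWSlot
import Cfsg.Agent.Lib.Helper12.TWTS

/-!
S5668 (C7 symplectic) Stage III (owner helper13), the RIGIDITY leaves (helper22):
`root_of_familyS` (one call of `Helper23.TWUQLeaf.rootlike_is_root_two` with `c = -1`) and
`not_le_Gstd_nilS` (`XT_J ⊆ K`, `|J| ≥ 2` ⟹ `K ⊄ Gstd`), port of `Helper4.TWU3Leaf.not_le_Gstd_nilU`.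
-/

set_option autoImplicit false
set_option linter.unusedSectionVars false
set_option linter.unusedVariables false

namespace Cfsg.Agent.Lib.Helper22.TWS3
open Matrix Cfsg.Geo Cfsg.Agent.Lib.Helper18.AschA89 Cfsg.Agent.Lib.Helper20.AschLeaf Cfsg.Agent.Lib.Helper8.TW
open Cfsg.Agent.Lib.Helper5.TWS Cfsg.Agent.Lib.Helper20.TWS3
open Cfsg.Agent.Lib.Helper25.SpT (sf Jm sfv)

variable {F : Type*} [Field F] {t k : ℕ}

/-- RIGIDITY: a square-zero `N` of small rank all of whose unipotents `1 + c N` lie in `Gstd` is a root element -/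
theorem root_of_familyS [Fintype F] (hk2 : 2 ≤ k) (h2 : (2 : F) ≠ 0) (N : Matrix (Idx t k) (Idx t k) F)
    (hN0 : N ≠ 0) (hNN : N * N = 0) (hrk : N.rank ≤ k ^ (t - 1))
    (h : ∀ c : F, InM (Gstd t k F) (1 + c • N)) :
    ∃ (j : Fin t) (z ζ : Fin k → F), z ≠ 0 ∧ ζ ≠ 0 ∧ N = rootN j z ζ := by
  have hc1 : (-1 : F) ≠ 1 := by
    intro h'
    apply h2
    have : (2 : F) = 1 - (-1) := by ring
    rw [this, h', sub_self]
  have h1 : InM (Gstd t k F) (1 + N) := by
    have := h 1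
    rwa [one_smul] at this
  obtain ⟨j, z, ζ, hz, hζ, -, hN⟩ := Cfsg.Agent.Lib.Helper23.TWUQLeaf.rootlike_is_root_two hk2 N hN0 hNN hrk
    (-1) (neg_ne_zero.2 one_ne_zero) hc1 h1 (h (-1))
  exact ⟨j, z, ζ, hz, hζ, hN⟩

/-- every coordinate of `sfv (fun _ => 1)` is non-zero (`k` even) -/
lemma sfv_one_ne_zero (hk : Even k) (a : Fin k) : sfv (fun _ : Fin k => (1 : F)) a ≠ 0 := by
  have h1 : sfv (fun _ : Fin k => (1 : F)) a =
      (Jm k : Matrix (Fin k) (Fin k) F) a (Cfsg.Agent.Lib.Helper25.SpT.pr hk a) := by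
    unfold sfv
    rw [Matrix.mulVec, dotProduct]
    rw [Finset.sum_eq_single (Cfsg.Agent.Lib.Helper25.SpT.pr hk a)]
    · rw [mul_one]
    · intro b _ hb
      rw [Cfsg.Agent.Lib.Helper25.SpT.Jm_eq_zero_of_ne hk a b hb, zero_mul]
    · intro hcon; exact absurd (Finset.mem_univ _) hcon
  rw [h1, Cfsg.Agent.Lib.Helper25.SpT.Jm_apply]
  by_cases h' : a.val % 2 = 0
  · rw [if_pos ⟨by rw [Cfsg.Agent.Lib.Helper25.SpT.pr_val_even hk a h'], h'⟩]
    exact one_ne_zero
  · have hv := Cfsg.Agent.Lib.Helper25.SpT.pr_val_odd hk a h'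
    have ha : 1 ≤ a.val := by omega
    rw [if_neg (by omega), if_pos ⟨by omega, by omega⟩]
    exact neg_ne_zero.2 one_ne_zero

/-- `nilS J y` squares to zero (`J ≠ ∅`): every `y j₀` is isotropic -/
theorem nilS_sq_h22 (J : Finset (Fin t)) (y : Fin t → Fin k → F) {j₀ : Fin t} (hj₀ : j₀ ∈ J) :
    nilS J y * nilS J y = 0 := by
  rw [nilS_eq_ptens, ptens_mul]
  ext x x'
  rw [ptens_apply, Matrix.zero_apply]
  apply Finset.prod_eq_zero (Finset.mem_univ j₀)
  have h1 : famS J y j₀ * famS J y j₀ = 0 := by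
    rw [famS_mem y hj₀, Matrix.vecMulVec_mul_vecMulVec, Cfsg.Agent.Lib.Helper25.SpT.sfv_dot,
      Cfsg.Agent.Lib.Helper25.SpT.sf_self, zero_smul, Matrix.vecMulVec_zero]
  rw [h1, Matrix.zero_apply]

/-- the rank of `nilS J y` is at most `k^(t-1)` (`J ≠ ∅`) -/
theorem rank_nilS_le_h22 (J : Finset (Fin t)) (y : Fin t → Fin k → F) {j₀ : Fin t} (hj₀ : j₀ ∈ J) :
    (nilS J y).rank ≤ k ^ (t - 1) := by
  have h1 : nilS J y = slot k t j₀ (Matrix.vecMulVec (y j₀) (sfv (y j₀))) *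
      ptens k t (Function.update (famS J y) j₀ 1) := by
    rw [nilS_eq_ptens, Cfsg.Agent.Lib.Helper12.TWLeaf.slot_mul_ptens]
    congr 1
    funext i
    by_cases hi : i = j₀
    · subst hi
      rw [Function.update_self, Function.update_self, mul_one, famS_mem y hj₀]
    · rw [Function.update_of_ne hi, Function.update_of_ne hi]
  rw [h1]
  refine le_trans (Matrix.rank_mul_le_left _ _) ?_
  rw [Cfsg.Agent.Lib.Helper6.TWQ.rank_slot]
  have h2 : (Matrix.vecMulVec (y j₀) (sfv (y j₀))).rank ≤ 1 := Matrix.rank_vecMulVec_le _ _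
  calc (Matrix.vecMulVec (y j₀) (sfv (y j₀))).rank * k ^ (t - 1) ≤ 1 * k ^ (t - 1) :=
        Nat.mul_le_mul_right _ h2
    _ = k ^ (t - 1) := one_mul _

/-- RIGIDITY: `XT_J ⊆ K`, `|J| ≥ 2` ⟹ `K ⊄ Gstd` -/
theorem not_le_Gstd_nilS [Fintype F] (hodd : Odd (Fintype.card F)) (hk : Even k) (hk2 : 2 ≤ k)
    (K : Subgroup (GL (Idx t k) F)) (J : Finset (Fin t)) (hJ : 2 ≤ J.card) (h : XTS K J) :
    ¬ K ≤ Gstd t k F := by
  intro hK
  have h2 : (2 : F) ≠ 0 := by
    intro h'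
    have hchar : ringChar F = 2 := by
      have hdvd : ringChar F ∣ 2 := by
        have := (ringChar.spec F 2).mp (by exact_mod_cast h')
        exact_mod_cast this
      have hp : (ringChar F).Prime := CharP.char_is_prime F (ringChar F)
      exact (Nat.prime_dvd_prime_iff_eq hp Nat.prime_two).mp hdvd
    have : Even (Fintype.card F) :=
      Nat.even_iff.mpr (FiniteField.even_card_iff_char_two.mp hchar)
    exact (Nat.not_even_iff_odd.mpr hodd) this
  obtain ⟨a, b, hab⟩ : ∃ a b : Fin k, a ≠ b :=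
    ⟨⟨0, by omega⟩, ⟨1, by omega⟩, fun e => by simpa using congrArg Fin.val e⟩
  have hJne : J.Nonempty := by
    rw [← Finset.card_pos]; omega
  obtain ⟨j₀, hj₀⟩ := hJne
  obtain ⟨y, hy⟩ : ∃ y : Fin t → Fin k → F, y = fun _ _ => 1 := ⟨_, rfl⟩
  have hy0 : ∀ j ∈ J, y j ≠ 0 := by
    intro j _ h0
    have := congrFun h0 a
    rw [hy] at this
    exact one_ne_zero this
  -- entries of `N`
  have hent : ∀ x x' : Idx t k, (∀ i, i ∉ J → x i = x' i) → nilS J y x x' ≠ 0 := by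
    intro x x' h1
    unfold nilS
    rw [if_pos h1]
    apply Finset.prod_ne_zero_iff.mpr
    intro i _
    rw [hy]
    exact mul_ne_zero one_ne_zero (sfv_one_ne_zero hk _)
  have hN0 : nilS J y ≠ 0 := by
    intro h0
    apply hent (fun _ => a) (fun _ => a) (fun _ _ => rfl)
    rw [h0, Matrix.zero_apply]
  obtain ⟨j, z, ζ, hz, hζ, heq⟩ := root_of_familyS hk2 h2 (nilS J y) hN0
    (nilS_sq_h22 J y hj₀) (rank_nilS_le_h22 J y hj₀)
    (fun c => by
      obtain ⟨g, hgK, hgv⟩ := h y c hy0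
      exact ⟨g, hK hgK, hgv⟩)
  obtain ⟨j₁, hj₁J, hj₁⟩ := Finset.exists_mem_ne (by omega : 1 < J.card) j
  have h1 := congrFun (congrFun heq (fun _ => a)) (Function.update (fun _ => a) j₁ b)
  have h3 : rootN j z ζ (fun _ => a) (Function.update (fun _ => a) j₁ b) = 0 := by
    unfold rootN
    rw [slot_apply, if_neg]
    intro hcon
    have := hcon j₁ hj₁
    rw [Function.update_self] at this
    exact hab this
  rw [h3] at h1
  refine hent (fun _ => a) (Function.update (fun _ => a) j₁ b) ?_ h1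
  intro i hi
  have : i ≠ j₁ := fun e => hi (e ▸ hj₁J)
  rw [Function.update_of_ne this]

end Cfsg.Agent.Lib.Helper22.TWS3
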