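import Mathlib
import Cfsg.Agent.Lib.Helper5.TWS.Defs
import Cfsg.Agent.Lib.Helper8.TW.Defs
import Cfsg.Agent.Lib.Helper22.TWExtBasic
import Cfsg.Agent.Lib.Helper22.TWExtMore
import Cfsg.Agent.Lib.Helper14.TWIIDefs
import Cfsg.Agent.Lib.Helper14.TWSIIDefs
import Cfsg.Agent.Lib.Helper16.TWSIIEta
import Cfsg.Agent.Lib.Helper11.TWSIIB1b
import Cfsg.Agent.Lib.Helper11.TWSIIB1c
import Cfsg.Agent.Lib.Helper24.TWSIIE2
import Cfsg.Agent.Lib.Helper24.TWSIIGam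

/-!
# S5668 Stage II-B, leaf B1 `B1S_blocks`, part (a): the `hQ` ANALYSIS `B1S_rel` (helper22, independent copy)

From `hstab`, `hQ` (for `k ≥ 4`): `γ ∈ GL(B)`, `c ≠ 0` with
`g (b ⊗ y) = γ b ⊗ y`, `g (b ⊗ y') ≡ c • γ b ⊗ y' (mod C)`, `g (b ⊗ a) ≡ γ b ⊗ a' (mod W)` (`a, a' ∈ A₀ = ⟨y,y'⟩^⊥`).
Everything is done with contractions `ctr i ξ` (no explicit decomposition of `g (b ⊗ y')`).
Then `B1S_blocks` = `B1S_asm` (helper11) after `B1S_rel`.
-/

set_option autoImplicit false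
set_option linter.unusedSectionVars false
set_option linter.unusedVariables false

namespace Cfsg.Agent.Lib.Helper22.TWSIILeaf
open Matrix Cfsg.Geo Cfsg.Agent.Lib.Helper18.AschA89 Cfsg.Agent.Lib.Helper8.TW Cfsg.Agent.Lib.Helper5.TWS
  Cfsg.Agent.Lib.Helper14.TWII Cfsg.Agent.Lib.Helper14.TWSII
open Cfsg.Agent.Lib.Helper25.SpT (sf Jm sfv)
open Cfsg.Agent.Lib.Helper25.SpT (sf_add_left sf_add_right sf_smul_left sf_smul_right sf_skew sf_self sfv_dot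
  sf_sub_left sf_sub_right sf_neg_left sf_neg_right)
open Cfsg.Agent.Lib.Helper22.TWLeaf (ctr_tens mem_Cf_iff_ctr ctr_slot_mulVec ctr_add ctr_smul slot_mulVec_tens
  mem_Wf_iff_tens mem_fib_iff_ctr)
open Cfsg.Agent.Lib.Helper11.TWSIILeaf (tens_add_left11 tens_add_right11 tens_smul_left11 tens_smul_right11
  ctr_neg_left11 ctr_smul_left11)

variable {F : Type*} [Field F] [Fintype F] {t k : ℕ}

/-- a functional vanishing on `y^⊥` is a multiple of `y† = sfv y` -/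
lemma functional_eq_smul_sfv_h22 (y y' : Fin k → F) (hyy' : sf y y' = 1) (ζ : Fin k → F)
    (hζ : ∀ a, sf a y = 0 → ζ ⬝ᵥ a = 0) : ζ = (-(ζ ⬝ᵥ y')) • sfv y := by
  have hy'y : sf y' y = -1 := by rw [sf_skew, hyy']
  have h : ∀ x, ζ ⬝ᵥ x = (-(ζ ⬝ᵥ y')) * sf x y := by
    intro x
    have hx : sf (x + sf x y • y') y = 0 := by
      rw [sf_add_left, sf_smul_left, hy'y]; ring
    have h1 := hζ _ hx
    rw [dotProduct_add, dotProduct_smul, smul_eq_mul] at h1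
    linear_combination h1
  funext j
  have h2 := h (Pi.single j 1)
  rw [dotProduct_single, mul_one] at h2
  rw [h2, Pi.smul_apply, smul_eq_mul, ← sfv_dot, dotProduct_single, mul_one]

/-- contraction version of membership in `W(i,y)` -/
lemma mem_Wf_of_ctr_h22 (i : Fin (t + 1)) (y : Fin k → F) (v : Idx (t + 1) k → F)
    (h : ∀ ξ : Fin k → F, ξ ⬝ᵥ y = 0 → ctr i ξ v = 0) : v ∈ Wf i y := by
  unfold Wf
  rw [mem_fib_iff_ctr]
  intro ξ hξ
  apply h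
  exact hξ y (Submodule.mem_span_singleton_self y)

lemma ctr_sub_h22 (i : Fin (t + 1)) (ξ : Fin k → F) (v w : Idx (t + 1) k → F) :
    ctr i ξ (v - w) = ctr i ξ v - ctr i ξ w := by
  rw [sub_eq_add_neg, ctr_add, ← neg_one_smul F w, ctr_smul, neg_one_smul, ← sub_eq_add_neg]

lemma ctr_sub_left_h22 (i : Fin (t + 1)) (ξ ξ' : Fin k → F) (v : Idx (t + 1) k → F) :
    ctr i (ξ - ξ') v = ctr i ξ v - ctr i ξ' v := by
  funext u
  simp only [ctr, Pi.sub_apply, sub_mul, Finset.sum_sub_distrib]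

/-- the matrix identity of `hQ` applied to a vector -/
lemma hQ_apply_h22 (i : Fin (t + 1)) (g : GL (Idx (t + 1) k) F) (E M : Matrix (Fin k) (Fin k) F)
    (h : (g : Matrix (Idx (t + 1) k) (Idx (t + 1) k) F) * slot k (t + 1) i E =
      slot k (t + 1) i M * (g : Matrix (Idx (t + 1) k) (Idx (t + 1) k) F)) (b : Idx t k → F) (a : Fin k → F) :
    mv g (tens i b (E *ᵥ a)) = slot k (t + 1) i M *ᵥ mv g (tens i b a) := by
  unfold mv
  rw [← slot_mulVec_tens, Matrix.mulVec_mulVec, h, ← Matrix.mulVec_mulVec]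

/-- (E1): for `w ⊥ y` with its `M` from `hQ`: `g (b ⊗ w) ≡ δ b ⊗ (M y' - y') (mod W)`, `δ b := ctr (y†) (g (b ⊗ y'))` -/
lemma E1_h22 (i : Fin (t + 1)) (y y' : Fin k → F) (hyy' : sf y y' = 1) (g : GL (Idx (t + 1) k) F)
    (γ : GL (Idx t k) F)
    (H1 : ∀ b : Idx t k → F, mv g (tens i b y) = tens i ((γ : Matrix (Idx t k) (Idx t k) F) *ᵥ b) y)
    (w : Fin k → F) (hw : sf w y = 0) (M : Matrix (Fin k) (Fin k) F)
    (hM1 : (g : Matrix (Idx (t + 1) k) (Idx (t + 1) k) F) * slot k (t + 1) i (etaS y w 0) =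
      slot k (t + 1) i M * (g : Matrix (Idx (t + 1) k) (Idx (t + 1) k) F))
    (hM3 : ∀ a : Fin k → F, sf a y = 0 → ∃ c : F, M *ᵥ a = a + c • y) (b : Idx t k → F) :
    mv g (tens i b w) - tens i (ctr i (sfv y) (mv g (tens i b y'))) (M *ᵥ y' - y') ∈ Wf i y := by
  have hy'y : sf y' y = -1 := by rw [sf_skew, hyy']
  apply mem_Wf_of_ctr_h22
  intro ξ hξ
  -- the identity at `b ⊗ y'`
  have h1 := hQ_apply_h22 i g _ M hM1 b y'
  rw [Cfsg.Agent.Lib.Helper16.TWSIILeaf.etaS_mulVec, hy'y, zero_mul, zero_smul, add_zero] at h1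
  -- `g (b ⊗ y') - g (b ⊗ w) + sf y' w • g (b ⊗ y) = slot M (g (b ⊗ y'))`
  have h2 : mv g (tens i b w) = mv g (tens i b y') + sf y' w • mv g (tens i b y)
      - slot k (t + 1) i M *ᵥ mv g (tens i b y') := by
    rw [← h1]
    unfold mv
    rw [tens_add_right11, tens_add_right11, tens_smul_right11, tens_smul_right11, Matrix.mulVec_add,
      Matrix.mulVec_add, Matrix.mulVec_smul, Matrix.mulVec_smul]
    simp only [neg_smul, one_smul]
    abel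
  -- the functional `ζ = ξ ᵥ* M - ξ` vanishes on `y^⊥`
  have hζ : ∀ a, sf a y = 0 → (ξ ᵥ* M - ξ) ⬝ᵥ a = 0 := by
    intro a ha
    obtain ⟨c, hc⟩ := hM3 a ha
    rw [sub_dotProduct, ← Matrix.dotProduct_mulVec, hc, dotProduct_add, dotProduct_smul, hξ, smul_zero, add_zero,
      sub_self]
  have hζ2 := functional_eq_smul_sfv_h22 y y' hyy' _ hζ
  have hζ3 : (ξ ᵥ* M - ξ) ⬝ᵥ y' = ξ ⬝ᵥ (M *ᵥ y' - y') := by
    rw [sub_dotProduct, ← Matrix.dotProduct_mulVec, dotProduct_sub]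
  rw [ctr_sub_h22, h2, ctr_sub_h22, ctr_add, ctr_smul, H1, ctr_tens, hξ, zero_smul, smul_zero, add_zero,
    ctr_slot_mulVec, ← ctr_sub_left_h22, ← neg_sub (ξ ᵥ* M) ξ, ctr_neg_left11, hζ2, ctr_smul_left11, hζ3, ctr_tens]
  simp only [neg_smul, neg_neg, sub_self]

/-- (E2): `hQ` for `w` read at `b ⊗ a` (`a ⊥ y`), given `g (b ⊗ a) ≡ δ ⊗ m (mod W)`, `m ⊥ y`, `M m = m + c y` -/
lemma E2_h22 (i : Fin (t + 1)) (y : Fin k → F) (hy0 : y ≠ 0) (g : GL (Idx (t + 1) k) F)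
    (γ : GL (Idx t k) F)
    (H1 : ∀ b : Idx t k → F, mv g (tens i b y) = tens i ((γ : Matrix (Idx t k) (Idx t k) F) *ᵥ b) y)
    (w : Fin k → F) (M : Matrix (Fin k) (Fin k) F)
    (hM1 : (g : Matrix (Idx (t + 1) k) (Idx (t + 1) k) F) * slot k (t + 1) i (etaS y w 0) =
      slot k (t + 1) i M * (g : Matrix (Idx (t + 1) k) (Idx (t + 1) k) F))
    (hM2 : M *ᵥ y = y) (a : Fin k → F) (ha : sf a y = 0) (b δ : Idx t k → F) (m : Fin k → F) (c : F)
    (hm : M *ᵥ m = m + c • y) (hE1 : mv g (tens i b a) - tens i δ m ∈ Wf i y) :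
    sf a w • ((γ : Matrix (Idx t k) (Idx t k) F) *ᵥ b) = c • δ := by
  obtain ⟨b2, hb2⟩ := (mem_Wf_iff_tens i y hy0 _).1 hE1
  have hga : mv g (tens i b a) = tens i δ m + tens i b2 y := by
    rw [← hb2]; abel
  have h1 := hQ_apply_h22 i g _ M hM1 b a
  rw [Cfsg.Agent.Lib.Helper16.TWSIILeaf.etaS_mulVec, ha, zero_smul, add_zero, mul_zero, zero_smul, add_zero] at h1
  have h2 : mv g (tens i b (a + sf a w • y)) = mv g (tens i b a) + sf a w • mv g (tens i b y) := by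
    unfold mv
    rw [tens_add_right11, tens_smul_right11, Matrix.mulVec_add, Matrix.mulVec_smul]
  rw [h2, H1, hga, Matrix.mulVec_add, slot_mulVec_tens, slot_mulVec_tens, hm, hM2, tens_add_right11,
    tens_smul_right11] at h1
  have h3 : tens i (sf a w • ((γ : Matrix (Idx t k) (Idx t k) F) *ᵥ b)) y = tens i (c • δ) y := by
    rw [tens_smul_left11, tens_smul_left11]
    linear_combination (exp := 1) h1
  exact Cfsg.Agent.Lib.Helper24.TWSIILeaf.tens_left_injective24 i y hy0 h3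

/-- **B1a** the `hQ` analysis -/
theorem B1S_rel (hk : Even k) (hk4 : 4 ≤ k) (i : Fin (t + 1)) (y y' : Fin k → F) (hyy' : sf y y' = 1)
    (g : GL (Idx (t + 1) k) F) (hstab : img g (Wf i y) = Wf i y) (hstabC : img g (Cf i (sfv y)) = Cf i (sfv y))
    (hQ : ∀ w : Fin k → F, sf w y = 0 → ∃ M : Matrix (Fin k) (Fin k) F,
      (g : Matrix (Idx (t + 1) k) (Idx (t + 1) k) F) * slot k (t + 1) i (etaS y w 0) =
        slot k (t + 1) i M * (g : Matrix (Idx (t + 1) k) (Idx (t + 1) k) F) ∧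
      M *ᵥ y = y ∧ (∀ a : Fin k → F, sf a y = 0 → ∃ c : F, M *ᵥ a = a + c • y) ∧
      (∀ a : Fin k → F, sf (M *ᵥ a - a) y = 0)) :
    ∃ (γ : GL (Idx t k) F) (c : F), c ≠ 0 ∧
      (∀ b : Idx t k → F, mv g (tens i b y) = tens i ((γ : Matrix (Idx t k) (Idx t k) F) *ᵥ b) y) ∧
      (∀ b : Idx t k → F,
        mv g (tens i b y') - c • tens i ((γ : Matrix (Idx t k) (Idx t k) F) *ᵥ b) y' ∈ Cf i (sfv y)) ∧
      (∀ a : Fin k → F, sf a y = 0 → sf a y' = 0 → ∃ a' : Fin k → F, sf a' y = 0 ∧ sf a' y' = 0 ∧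
        ∀ b : Idx t k → F, mv g (tens i b a) - tens i ((γ : Matrix (Idx t k) (Idx t k) F) *ᵥ b) a' ∈ Wf i y) := by
  classical
  have hy0 : y ≠ 0 := by
    rintro rfl
    rw [Cfsg.Agent.Lib.Helper25.SpT.sf_zero_left] at hyy'
    exact zero_ne_one hyy'
  have hy'y : sf y' y = -1 := by rw [sf_skew, hyy']
  obtain ⟨γ, H1⟩ := Cfsg.Agent.Lib.Helper24.TWSIILeaf.exists_gamma_of_stab i y hy0 g hstab
  choose M hM1 hM2 hM3 hM4 using hQ
  obtain ⟨a0, w0, ha0y, ha0y', hw0y, hw0y', haw⟩ :=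
    Cfsg.Agent.Lib.Helper24.TWSIILeaf.exists_A0_pair hk hk4 y y' hyy'
  -- `δ b`
  set δ : (Idx t k → F) → (Idx t k → F) := fun b => ctr i (sfv y) (mv g (tens i b y')) with hδ
  -- (E1) for every `a ⊥ y`
  have hE1 : ∀ (a : Fin k → F) (ha : sf a y = 0) (b : Idx t k → F),
      mv g (tens i b a) - tens i (δ b) (M a ha *ᵥ y' - y') ∈ Wf i y := by
    intro a ha b
    exact E1_h22 i y y' hyy' g γ H1 a ha (M a ha) (hM1 a ha) (hM3 a ha) b
  -- (E2) with the pair `a0, w0`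
  obtain ⟨c0, hc0⟩ := hM3 w0 hw0y (M a0 ha0y *ᵥ y' - y') (hM4 a0 ha0y y')
  have hE2 : ∀ b : Idx t k → F, (γ : Matrix (Idx t k) (Idx t k) F) *ᵥ b = c0 • δ b := by
    intro b
    have := E2_h22 i y hy0 g γ H1 w0 (M w0 hw0y) (hM1 w0 hw0y) (hM2 w0 hw0y) a0 ha0y b (δ b) _ c0 hc0
      (hE1 a0 ha0y b)
    rwa [haw, one_smul] at this
  -- `c0 ≠ 0`
  have hc0ne : c0 ≠ 0 := by
    intro h0
    have hk0 : 0 < k := by omega
    let u0 : Idx t k := fun _ => ⟨0, hk0⟩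
    have h1 := hE2 (Pi.single u0 1)
    rw [h0, zero_smul] at h1
    have h2 : ((γ⁻¹ : GL (Idx t k) F) : Matrix (Idx t k) (Idx t k) F) *ᵥ
        ((γ : Matrix (Idx t k) (Idx t k) F) *ᵥ (Pi.single u0 1)) = Pi.single u0 1 := by
      rw [Matrix.mulVec_mulVec, ← Units.val_mul, inv_mul_cancel, Units.val_one, Matrix.one_mulVec]
    rw [h1, Matrix.mulVec_zero] at h2
    have h3 := congrFun h2 u0
    rw [Pi.single_eq_same] at h3
    exact zero_ne_one h3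
  have hδγ : ∀ b : Idx t k → F, δ b = c0⁻¹ • ((γ : Matrix (Idx t k) (Idx t k) F) *ᵥ b) := by
    intro b
    rw [hE2 b, smul_smul, inv_mul_cancel₀ hc0ne, one_smul]
  refine ⟨γ, -c0⁻¹, neg_ne_zero.2 (inv_ne_zero hc0ne), H1, ?_, ?_⟩
  · intro b
    rw [mem_Cf_iff_ctr, ctr_sub_h22, ctr_smul, ctr_tens, sfv_dot, hy'y]
    change δ b - _ = 0
    rw [hδγ b]
    simp only [neg_smul, one_smul, smul_neg, neg_neg, sub_self]
  · intro a hay hay'
    refine ⟨Cfsg.Agent.Lib.Helper24.TWSIILeaf.projA0 y y' (c0⁻¹ • (M a hay *ᵥ y' - y')),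
      Cfsg.Agent.Lib.Helper24.TWSIILeaf.sf_projA0_y y y' hyy' _,
      Cfsg.Agent.Lib.Helper24.TWSIILeaf.sf_projA0_y' y y' hyy' _, ?_⟩
    intro b
    have h1 := hE1 a hay b
    have hmy : sf (c0⁻¹ • (M a hay *ᵥ y' - y')) y = 0 := by
      rw [sf_smul_left, hM4 a hay y', mul_zero]
    have h2 : mv g (tens i b a) - tens i ((γ : Matrix (Idx t k) (Idx t k) F) *ᵥ b)
          (Cfsg.Agent.Lib.Helper24.TWSIILeaf.projA0 y y' (c0⁻¹ • (M a hay *ᵥ y' - y')))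
        = (mv g (tens i b a) - tens i (δ b) (M a hay *ᵥ y' - y'))
          + sf (c0⁻¹ • (M a hay *ᵥ y' - y')) y' • tens i ((γ : Matrix (Idx t k) (Idx t k) F) *ᵥ b) y := by
      unfold Cfsg.Agent.Lib.Helper24.TWSIILeaf.projA0
      rw [hmy, zero_smul, add_zero, hδγ b, tens_smul_left11]
      have e : c0⁻¹ • (M a hay *ᵥ y' - y') - sf (c0⁻¹ • (M a hay *ᵥ y' - y')) y' • y
          = c0⁻¹ • (M a hay *ᵥ y' - y') + (-(sf (c0⁻¹ • (M a hay *ᵥ y' - y')) y')) • y := by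
        rw [neg_smul, sub_eq_add_neg]
      rw [e, tens_add_right11, tens_smul_right11, tens_smul_right11, neg_smul]
      abel
    rw [h2]
    apply Submodule.add_mem _ h1
    apply Submodule.smul_mem
    rw [mem_Wf_iff_tens i y hy0]
    exact ⟨_, rfl⟩

/-- **B1** `B1S_blocks` (with `hk4`) = helper11's assembly `B1S_asm` after `B1S_rel` -/
theorem B1S_blocks (hk : Even k) (hk4 : 4 ≤ k) (i : Fin (t + 1)) (y y' : Fin k → F) (hyy' : sf y y' = 1)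
    (g : GL (Idx (t + 1) k) F) (hstab : img g (Wf i y) = Wf i y) (hstabC : img g (Cf i (sfv y)) = Cf i (sfv y))
    (hQ : ∀ w : Fin k → F, sf w y = 0 → ∃ M : Matrix (Fin k) (Fin k) F,
      (g : Matrix (Idx (t + 1) k) (Idx (t + 1) k) F) * slot k (t + 1) i (etaS y w 0) =
        slot k (t + 1) i M * (g : Matrix (Idx (t + 1) k) (Idx (t + 1) k) F) ∧
      M *ᵥ y = y ∧ (∀ a : Fin k → F, sf a y = 0 → ∃ c : F, M *ᵥ a = a + c • y) ∧
      (∀ a : Fin k → F, sf (M *ᵥ a - a) y = 0)) :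
    ∃ (α : GL (Fin k) F) (γ : GL (Idx t k) F) (u : GL (Idx (t + 1) k) F),
      (α : Matrix (Fin k) (Fin k) F) *ᵥ y = y ∧ (∃ c : F, (α : Matrix (Fin k) (Fin k) F) *ᵥ y' = c • y') ∧
      (∀ a : Fin k → F, sf a y = 0 → sf a y' = 0 →
        sf ((α : Matrix (Fin k) (Fin k) F) *ᵥ a) y = 0 ∧ sf ((α : Matrix (Fin k) (Fin k) F) *ᵥ a) y' = 0) ∧
      InUS i y u ∧ g = slotGL i α * extGL i γ * u := by
  obtain ⟨γ, c, hc, H1, H2, H3⟩ := B1S_rel hk hk4 i y y' hyy' g hstab hstabC hQ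
  exact Cfsg.Agent.Lib.Helper11.TWSIILeaf.B1S_asm hk4 i y y' hyy' g γ c hc H1 H2 H3

end Cfsg.Agent.Lib.Helper22.TWSIILeaf
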