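import Mathlib
import Cfsg.Agent.Lib.Helper5.TWS.Defs
import Cfsg.Agent.Lib.Helper14.TWSIIDefs

/-!
S5668 Stage II-B (sub-planner helper14, `notes/S5668_II_leaves.lean`): leaf **T9** `torS_mem` (helper22), exact signature.
By-products: `torS_mulVec`, `torS_isom`, `torS_mul_inv`.
-/

set_option autoImplicit false
set_option linter.unusedSectionVars false
set_option linter.unusedVariables false

namespace Cfsg.Agent.Lib.Helper22.TWSIILeaf
open Matrix Cfsg.Geo Cfsg.Agent.Lib.Helper18.AschA89 Cfsg.Agent.Lib.Helper8.TW Cfsg.Agent.Lib.Helper5.TWS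
  Cfsg.Agent.Lib.Helper14.TWII Cfsg.Agent.Lib.Helper14.TWSII
open Cfsg.Agent.Lib.Helper25.SpT (sf Jm sfv)
open Cfsg.Agent.Lib.Helper23.TWUQ (NSp)

variable {F : Type*} [Field F] [Fintype F] {t k : ℕ}

/-- the action of the torus matrix -/
theorem torS_mulVec (y y' : Fin k → F) (l : F) (a : Fin k → F) :
    torS y y' l *ᵥ a = a + ((l - 1) * sf a y') • y - ((l⁻¹ - 1) * sf a y) • y' := by
  unfold torS
  rw [Matrix.sub_mulVec, Matrix.add_mulVec, Matrix.one_mulVec, Matrix.smul_mulVec, Matrix.smul_mulVec,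
    Matrix.vecMulVec_mulVec, Matrix.vecMulVec_mulVec, Cfsg.Agent.Lib.Helper25.SpT.sfv_dot,
    Cfsg.Agent.Lib.Helper25.SpT.sfv_dot]
  ext i
  simp only [Pi.add_apply, Pi.sub_apply, Pi.smul_apply, MulOpposite.smul_eq_mul_unop,
    MulOpposite.unop_op, smul_eq_mul]
  ring

/-- the torus matrix is an isometry of `sf` -/
theorem torS_isom (y y' : Fin k → F) (hyy' : sf y y' = 1) (l : F) (hl : l ≠ 0) (a b : Fin k → F) :
    sf (torS y y' l *ᵥ a) (torS y y' l *ᵥ b) = sf a b := by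
  have h1' : sf y' y = -1 := by
    rw [Cfsg.Agent.Lib.Helper25.SpT.sf_skew, hyy']
  have e1 : sf y b = - sf b y := Cfsg.Agent.Lib.Helper25.SpT.sf_skew y b
  have e2 : sf y' b = - sf b y' := Cfsg.Agent.Lib.Helper25.SpT.sf_skew y' b
  have hll : l * l⁻¹ = 1 := mul_inv_cancel₀ hl
  rw [torS_mulVec, torS_mulVec]
  simp only [Cfsg.Agent.Lib.Helper25.SpT.sf_add_left, Cfsg.Agent.Lib.Helper25.SpT.sf_add_right,
    Cfsg.Agent.Lib.Helper25.SpT.sf_sub_left, Cfsg.Agent.Lib.Helper25.SpT.sf_sub_right,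
    Cfsg.Agent.Lib.Helper25.SpT.sf_smul_left, Cfsg.Agent.Lib.Helper25.SpT.sf_smul_right,
    Cfsg.Agent.Lib.Helper25.SpT.sf_self, hyy', h1', e1, e2]
  linear_combination (sf a y * sf b y' - sf a y' * sf b y) * hll

/-- `d_l d_{l⁻¹} = 1` -/
theorem torS_mul_inv (y y' : Fin k → F) (hyy' : sf y y' = 1) (l : F) (hl : l ≠ 0) :
    torS y y' l * torS y y' l⁻¹ = 1 := by
  have h1' : sf y' y = -1 := by
    rw [Cfsg.Agent.Lib.Helper25.SpT.sf_skew, hyy']
  have hll : l * l⁻¹ = 1 := mul_inv_cancel₀ hl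
  apply Matrix.toLin'.injective
  apply LinearMap.ext
  intro a
  rw [Matrix.toLin'_apply, Matrix.toLin'_one, LinearMap.id_apply, ← Matrix.mulVec_mulVec, torS_mulVec y y' l⁻¹ a,
    torS_mulVec, inv_inv]
  simp only [Cfsg.Agent.Lib.Helper25.SpT.sf_add_left, Cfsg.Agent.Lib.Helper25.SpT.sf_sub_left,
    Cfsg.Agent.Lib.Helper25.SpT.sf_smul_left, Cfsg.Agent.Lib.Helper25.SpT.sf_self, hyy', h1']
  ext i
  simp only [Pi.add_apply, Pi.sub_apply, Pi.smul_apply, smul_eq_mul]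
  linear_combination (sf a y' * y i - sf a y * y' i) * hll

/-- T9 (M) the torus -/
theorem torS_mem (y y' : Fin k → F) (hyy' : sf y y' = 1) (l : F) (hl : l ≠ 0) :
    ∃ d : GL (Fin k) F, (d : Matrix (Fin k) (Fin k) F) = torS y y' l ∧ d ∈ GSA k F ∧
      (d : Matrix (Fin k) (Fin k) F) *ᵥ y = l • y ∧ (d : Matrix (Fin k) (Fin k) F) *ᵥ y' = l⁻¹ • y' ∧
      ∀ a : Fin k → F, sf a y = 0 → sf a y' = 0 → (d : Matrix (Fin k) (Fin k) F) *ᵥ a = a := by
  have h1' : sf y' y = -1 := by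
    rw [Cfsg.Agent.Lib.Helper25.SpT.sf_skew, hyy']
  have hinv : torS y y' l⁻¹ * torS y y' l = 1 := by
    have := torS_mul_inv y y' hyy' l⁻¹ (inv_ne_zero hl)
    rwa [inv_inv] at this
  refine ⟨⟨torS y y' l, torS y y' l⁻¹, torS_mul_inv y y' hyy' l hl, hinv⟩, rfl, ?_, ?_, ?_, ?_⟩
  · rw [mem_GSA]
    intro a b
    exact torS_isom y y' hyy' l hl a b
  · change torS y y' l *ᵥ y = l • y
    rw [torS_mulVec, hyy', Cfsg.Agent.Lib.Helper25.SpT.sf_self]
    ext i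
    simp only [Pi.add_apply, Pi.sub_apply, Pi.smul_apply, smul_eq_mul]
    ring
  · change torS y y' l *ᵥ y' = l⁻¹ • y'
    rw [torS_mulVec, h1', Cfsg.Agent.Lib.Helper25.SpT.sf_self]
    ext i
    simp only [Pi.add_apply, Pi.sub_apply, Pi.smul_apply, smul_eq_mul]
    ring
  · intro a ha ha'
    change torS y y' l *ᵥ a = a
    rw [torS_mulVec, ha, ha']
    ext i
    simp only [Pi.add_apply, Pi.sub_apply, Pi.smul_apply, smul_eq_mul]
    ring

end Cfsg.Agent.Lib.Helper22.TWSIILeaf
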