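import Mathlib
import Cfsg.Agent.Lib.Helper5.TWS.Defs
import Cfsg.Agent.Lib.Helper14.TWSIIDefs
import Cfsg.Agent.Lib.Helper22.TWExtBasic
import Cfsg.Agent.Lib.Helper22.TWExtMore

/-!
S5668 Stage II-B (sub-planner helper14, `notes/S5668_II_leaves.lean`): leaf **U4** `InUS_slot_shape` (helper22), exact signature.
-/

set_option autoImplicit false
set_option linter.unusedSectionVars false
set_option linter.unusedVariables false

namespace Cfsg.Agent.Lib.Helper22.TWSIILeaf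
open Matrix Cfsg.Geo Cfsg.Agent.Lib.Helper18.AschA89 Cfsg.Agent.Lib.Helper8.TW Cfsg.Agent.Lib.Helper5.TWS
  Cfsg.Agent.Lib.Helper14.TWII Cfsg.Agent.Lib.Helper14.TWSII
open Cfsg.Agent.Lib.Helper25.SpT (sf Jm sfv)
open Cfsg.Agent.Lib.Helper23.TWUQ (NSp)

variable {F : Type*} [Field F] [Fintype F] {t k : ℕ}

/-- U4 (M) shape of a slot element of `U^W` -/
theorem InUS_slot_shape (i : Fin (t + 1)) (y : Fin k → F) (hy0 : y ≠ 0) (M : GL (Fin k) F)
    (h : InUS i y (slotGL i M)) :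
    (M : Matrix (Fin k) (Fin k) F) *ᵥ y = y ∧
      (∀ a : Fin k → F, sf a y = 0 → ∃ c : F, (M : Matrix (Fin k) (Fin k) F) *ᵥ a = a + c • y) ∧
      (∀ a : Fin k → F, sf ((M : Matrix (Fin k) (Fin k) F) *ᵥ a - a) y = 0) := by
  classical
  obtain ⟨h1, h2, h3⟩ := h
  have hk : 0 < k := by
    rcases Nat.eq_zero_or_pos k with h0 | h0
    · subst h0
      exact absurd (Subsingleton.elim y 0) hy0
    · exact h0
  obtain ⟨u₀, hu₀⟩ : ∃ u₀ : Idx t k, u₀ = fun _ => ⟨0, hk⟩ := ⟨_, rfl⟩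
  obtain ⟨b₀, hb₀⟩ : ∃ b₀ : Idx t k → F, b₀ = Pi.single u₀ 1 := ⟨_, rfl⟩
  have hb₀u : b₀ u₀ = 1 := by rw [hb₀, Pi.single_eq_same]
  -- evaluation of `tens i b a` at `ins i c u₀`
  have hev : ∀ (b : Idx t k → F) (a : Fin k → F) (c : Fin k), tens i b a (ins i c u₀) = b u₀ * a c := by
    intro b a c
    simp only [tens, ins_same, Cfsg.Agent.Lib.Helper22.TWLeaf.ins_comp]
  have hmv : ∀ a : Fin k → F, mv (slotGL i M) (tens i b₀ a) = tens i b₀ ((M : Matrix (Fin k) (Fin k) F) *ᵥ a) := by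
    intro a
    unfold mv
    rw [slotGL_val, Cfsg.Agent.Lib.Helper22.TWLeaf.slot_mulVec_tens]
  have hsub : ∀ a a' : Fin k → F, tens i b₀ a - tens i b₀ a' = tens i b₀ (a - a') := by
    intro a a'
    funext x
    simp only [tens, Pi.sub_apply]
    ring
  refine ⟨?_, ?_, ?_⟩
  · have hW : tens i b₀ y ∈ Wf i y :=
      (Cfsg.Agent.Lib.Helper22.TWLeaf.mem_Wf_iff_tens i y hy0 _).2 ⟨b₀, rfl⟩
    have e := h1 _ hW
    rw [hmv] at e
    funext c
    have := congrFun e (ins i c u₀)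
    rw [hev, hev, hb₀u, one_mul, one_mul] at this
    exact this
  · intro a ha
    have hC : tens i b₀ a ∈ Cf i (sfv y) := by
      rw [Cfsg.Agent.Lib.Helper22.TWLeaf.mem_Cf_iff_ctr, Cfsg.Agent.Lib.Helper22.TWLeaf.ctr_tens,
        Cfsg.Agent.Lib.Helper25.SpT.sfv_dot, ha, zero_smul]
    have e := h2 _ hC
    rw [hmv, hsub] at e
    obtain ⟨b, hb⟩ := (Cfsg.Agent.Lib.Helper22.TWLeaf.mem_Wf_iff_tens i y hy0 _).1 e
    refine ⟨b u₀, ?_⟩
    funext c
    have := congrFun hb (ins i c u₀)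
    rw [hev, hev, hb₀u, one_mul] at this
    simp only [Pi.sub_apply] at this
    simp only [Pi.add_apply, Pi.smul_apply, smul_eq_mul]
    rw [← this]
    ring
  · intro a
    have e := h3 (tens i b₀ a)
    rw [hmv, hsub, Cfsg.Agent.Lib.Helper22.TWLeaf.mem_Cf_iff_ctr, Cfsg.Agent.Lib.Helper22.TWLeaf.ctr_tens,
      Cfsg.Agent.Lib.Helper25.SpT.sfv_dot] at e
    have := congrFun e u₀
    simp only [Pi.smul_apply, smul_eq_mul, Pi.zero_apply] at this
    rwa [hb₀u, mul_one] at this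

end Cfsg.Agent.Lib.Helper22.TWSIILeaf
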