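import Mathlib

set_option autoImplicit false

noncomputable section

namespace Cfsg.Agent.Lib.Helper22.ThetaC3

open Complex
open scoped Real MatrixGroups ArithmeticFunction.sigma
open UpperHalfPlane hiding I
open ModularForm ModularFormClass EisensteinSeries

lemma sigma3_vals : ArithmeticFunction.sigma 3 1 = 1 ∧ ArithmeticFunction.sigma 3 2 = 9 ∧
    ArithmeticFunction.sigma 3 3 = 28 ∧ ArithmeticFunction.sigma 3 4 = 73 := by
  refine ⟨?_, ?_, ?_, ?_⟩ <;> decide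

lemma sigma5_vals : ArithmeticFunction.sigma 5 1 = 1 ∧ ArithmeticFunction.sigma 5 2 = 33 ∧
    ArithmeticFunction.sigma 5 3 = 244 ∧ ArithmeticFunction.sigma 5 4 = 1057 := by
  refine ⟨?_, ?_, ?_, ?_⟩ <;> decide

lemma E4_coeffs : (qExpansion 1 E₄).coeff 0 = 1 ∧ (qExpansion 1 E₄).coeff 1 = 240 ∧
    (qExpansion 1 E₄).coeff 2 = 2160 ∧ (qExpansion 1 E₄).coeff 3 = 6720 ∧
    (qExpansion 1 E₄).coeff 4 = 17520 := by
  obtain ⟨h1, h2, h3, h4⟩ := sigma3_vals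
  refine ⟨?_, ?_, ?_, ?_, ?_⟩ <;>
  norm_num [E_qExpansion_coeff _ ⟨2, rfl⟩, show bernoulli 4 = -1 / 30 by decide +kernel,
    h1, h2, h3, h4]

lemma E6_coeffs : (qExpansion 1 E₆).coeff 0 = 1 ∧ (qExpansion 1 E₆).coeff 1 = -504 ∧
    (qExpansion 1 E₆).coeff 2 = -16632 ∧ (qExpansion 1 E₆).coeff 3 = -122976 ∧
    (qExpansion 1 E₆).coeff 4 = -532728 := by
  obtain ⟨h1, h2, h3, h4⟩ := sigma5_vals
  refine ⟨?_, ?_, ?_, ?_, ?_⟩ <;>
  norm_num [E_qExpansion_coeff _ ⟨3, rfl⟩, show bernoulli 6 = 1 / 42 by decide +kernel,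
    h1, h2, h3, h4]

/-- `E₄³` as a weight 12 form -/
def E4cube : ModularForm 𝒮ℒ 12 := ModularForm.mcast (by decide) (E₄.pow 3)

/-- `E₆²` as a weight 12 form -/
def E6sq : ModularForm 𝒮ℒ 12 := ModularForm.mcast (by decide) (E₆.pow 2)

lemma E4cube_qExpansion : qExpansion 1 E4cube = qExpansion 1 E₄ ^ 3 := by
  simp only [E4cube, coe_mcast, ModularForm.qExpansion_pow one_pos one_mem_strictPeriods_SL]

lemma E6sq_qExpansion : qExpansion 1 E6sq = qExpansion 1 E₆ ^ 2 := by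
  simp only [E6sq, coe_mcast, ModularForm.qExpansion_pow one_pos one_mem_strictPeriods_SL]

/-- the comparison form `f - ((7/12) E₄³ + (5/12) E₆²)` -/
def cmpForm (f : ModularForm 𝒮ℒ 12) : ModularForm 𝒮ℒ 12 :=
  f - ((7 / 12 : ℂ) • E4cube + (5 / 12 : ℂ) • E6sq)

lemma cmpForm_qExpansion (f : ModularForm 𝒮ℒ 12) :
    qExpansion 1 (cmpForm f) = qExpansion 1 f -
      ((7 / 12 : ℂ) • qExpansion 1 E₄ ^ 3 + (5 / 12 : ℂ) • qExpansion 1 E₆ ^ 2) := by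
  have e1 : (cmpForm f : ℍ → ℂ) = ⇑f - ⇑((7 / 12 : ℂ) • E4cube + (5 / 12 : ℂ) • E6sq) := rfl
  have e2 : (⇑((7 / 12 : ℂ) • E4cube + (5 / 12 : ℂ) • E6sq) : ℍ → ℂ) =
      ⇑((7 / 12 : ℂ) • E4cube) + ⇑((5 / 12 : ℂ) • E6sq) := rfl
  have e3 : (⇑((7 / 12 : ℂ) • E4cube) : ℍ → ℂ) = (7 / 12 : ℂ) • ⇑E4cube := rfl
  have e4 : (⇑((5 / 12 : ℂ) • E6sq) : ℍ → ℂ) = (5 / 12 : ℂ) • ⇑E6sq := rfl
  rw [e1, ModularForm.qExpansion_sub one_pos one_mem_strictPeriods_SL, e2,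
    ModularForm.qExpansion_add one_pos one_mem_strictPeriods_SL, e3, e4,
    ModularForm.qExpansion_smul one_pos one_mem_strictPeriods_SL,
    ModularForm.qExpansion_smul one_pos one_mem_strictPeriods_SL,
    E4cube_qExpansion, E6sq_qExpansion]

/-- coefficients `0..4` of the cube of a power series -/
lemma coeff_cube (p : PowerSeries ℂ) :
    (p ^ 3).coeff 0 = p.coeff 0 ^ 3 ∧
    (p ^ 3).coeff 1 = 3 * p.coeff 0 ^ 2 * p.coeff 1 ∧
    (p ^ 3).coeff 2 = 3 * p.coeff 0 ^ 2 * p.coeff 2 + 3 * p.coeff 0 * p.coeff 1 ^ 2 ∧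
    (p ^ 3).coeff 3 = 3 * p.coeff 0 ^ 2 * p.coeff 3 + 6 * p.coeff 0 * p.coeff 1 * p.coeff 2
      + p.coeff 1 ^ 3 ∧
    (p ^ 3).coeff 4 = 3 * p.coeff 0 ^ 2 * p.coeff 4 + 6 * p.coeff 0 * p.coeff 1 * p.coeff 3
      + 3 * p.coeff 0 * p.coeff 2 ^ 2 + 3 * p.coeff 1 ^ 2 * p.coeff 2 := by
  refine ⟨?_, ?_, ?_, ?_, ?_⟩ <;>
  · simp only [pow_succ, pow_zero, one_mul, PowerSeries.coeff_mul,
      Finset.Nat.antidiagonal_succ, Finset.Nat.antidiagonal_zero, Finset.sum_cons,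
      Finset.map_singleton, Finset.sum_singleton, Finset.map_cons,
      Function.Embedding.prodMap, Function.Embedding.coeFn_mk, Prod.map,
      Function.Embedding.refl_apply, Nat.succ_eq_add_one, zero_add]
    try ring

/-- coefficients `0..4` of the square of a power series -/
lemma coeff_sq (p : PowerSeries ℂ) :
    (p ^ 2).coeff 0 = p.coeff 0 ^ 2 ∧
    (p ^ 2).coeff 1 = 2 * p.coeff 0 * p.coeff 1 ∧
    (p ^ 2).coeff 2 = 2 * p.coeff 0 * p.coeff 2 + p.coeff 1 ^ 2 ∧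
    (p ^ 2).coeff 3 = 2 * p.coeff 0 * p.coeff 3 + 2 * p.coeff 1 * p.coeff 2 ∧
    (p ^ 2).coeff 4 = 2 * p.coeff 0 * p.coeff 4 + 2 * p.coeff 1 * p.coeff 3 + p.coeff 2 ^ 2 := by
  refine ⟨?_, ?_, ?_, ?_, ?_⟩ <;>
  · simp only [pow_succ, pow_zero, one_mul, PowerSeries.coeff_mul,
      Finset.Nat.antidiagonal_succ, Finset.Nat.antidiagonal_zero, Finset.sum_cons,
      Finset.map_singleton, Finset.sum_singleton, Finset.map_cons,
      Function.Embedding.prodMap, Function.Embedding.coeFn_mk, Prod.map,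
      Function.Embedding.refl_apply, Nat.succ_eq_add_one, zero_add]
    try ring

/-- LEAF C3 of S1632: a weight 12 level 1 modular form with `a₀ = 1`, `a₁ = 0` has
`a₂ = 196560`, `a₃ = 16773120`, `a₄ = 398034000`. -/
theorem coeff_of_weight_twelve (f : ModularForm 𝒮ℒ 12)
    (h0 : (qExpansion 1 f).coeff 0 = 1)
    (h1 : (qExpansion 1 f).coeff 1 = 0) :
    (qExpansion 1 f).coeff 2 = 196560 ∧
    (qExpansion 1 f).coeff 3 = 16773120 ∧
    (qExpansion 1 f).coeff 4 = 398034000 := by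
  obtain ⟨a0, a1, a2, a3, a4⟩ := E4_coeffs
  obtain ⟨b0, b1, b2, b3, b4⟩ := E6_coeffs
  obtain ⟨c0, c1, c2, c3, c4⟩ := coeff_cube (qExpansion 1 E₄)
  obtain ⟨d0, d1, d2, d3, d4⟩ := coeff_sq (qExpansion 1 E₆)
  have hg : cmpForm f = 0 := by
    apply sturm_bound_levelOne
    have h12 : ((12 : ℤ).toNat / 12) = 1 := by decide
    rw [h12]
    refine lt_of_lt_of_le (b := ((2 : ℕ) : ℕ∞)) (by norm_num) (PowerSeries.nat_le_order _ 2 ?_)
    intro i hi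
    rw [cmpForm_qExpansion]
    interval_cases i
    · simp only [map_sub, map_add, PowerSeries.coeff_smul, smul_eq_mul, h0, c0, d0, a0, b0]
      norm_num
    · simp only [map_sub, map_add, PowerSeries.coeff_smul, smul_eq_mul, h1, c1, d1, a0, b0, a1, b1]
      norm_num
  have hq : qExpansion 1 f =
      (7 / 12 : ℂ) • qExpansion 1 E₄ ^ 3 + (5 / 12 : ℂ) • qExpansion 1 E₆ ^ 2 := by
    have h := cmpForm_qExpansion f
    rw [hg] at h
    have hz : qExpansion 1 (⇑(0 : ModularForm 𝒮ℒ 12)) = 0 := by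
      have : (⇑(0 : ModularForm 𝒮ℒ 12) : ℍ → ℂ) = 0 := rfl
      rw [this, qExpansion_zero]
    rw [hz] at h
    exact sub_eq_zero.mp h.symm
  rw [hq]
  refine ⟨?_, ?_, ?_⟩
  · simp only [map_add, PowerSeries.coeff_smul, smul_eq_mul, c2, d2, a0, b0, a1, b1, a2, b2]
    norm_num
  · simp only [map_add, PowerSeries.coeff_smul, smul_eq_mul, c3, d3, a0, b0, a1, b1, a2, b2,
      a3, b3]
    norm_num
  · simp only [map_add, PowerSeries.coeff_smul, smul_eq_mul, c4, d4, a0, b0, a1, b1, a2, b2,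
      a3, b3, a4, b4]
    norm_num

end Cfsg.Agent.Lib.Helper22.ThetaC3

end
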