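import Cfsg.Agent.Lib.Helper22.ThetaC3

set_option autoImplicit false

noncomputable section

namespace Cfsg.Agent.Lib.Helper22.ThetaFinal

open Complex Matrix
open scoped Real MatrixGroups
open UpperHalfPlane hiding I
open ModularForm

/-- Final glue for S1632: if the generating series of the representation numbers of an even
positive definite rootless form of rank 24 is (the `q`-expansion of) a level one form of weight
12, then the numbers of vectors of norm 4, 6, 8 are the Leech numbers. -/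
theorem counts_of_hasSum (B : Matrix (Fin 24) (Fin 24) ℤ)
    (hpos : ∀ x : Fin 24 → ℤ, x ≠ 0 → 0 < x ⬝ᵥ (B *ᵥ x))
    (h2 : ∀ x : Fin 24 → ℤ, x ⬝ᵥ (B *ᵥ x) ≠ 2)
    (f : ModularForm 𝒮ℒ 12)
    (hf : ∀ τ : ℍ, HasSum (fun m : ℕ =>
      (({x : Fin 24 → ℤ | x ⬝ᵥ (B *ᵥ x) = 2 * (m : ℤ)}.ncard : ℕ) : ℂ) •
        Function.Periodic.qParam 1 τ ^ m) (f τ)) :
    {x : Fin 24 → ℤ | x ⬝ᵥ (B *ᵥ x) = 4}.ncard = 196560 ∧
    {x : Fin 24 → ℤ | x ⬝ᵥ (B *ᵥ x) = 6}.ncard = 16773120 ∧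
    {x : Fin 24 → ℤ | x ⬝ᵥ (B *ᵥ x) = 8}.ncard = 398034000 := by
  have hc := ModularFormClass.qExpansion_coeff_unique (c := fun m : ℕ =>
      (({x : Fin 24 → ℤ | x ⬝ᵥ (B *ᵥ x) = 2 * (m : ℤ)}.ncard : ℕ) : ℂ))
      one_pos one_mem_strictPeriods_SL (f := f) hf
  have e0 : {x : Fin 24 → ℤ | x ⬝ᵥ (B *ᵥ x) = 2 * ((0 : ℕ) : ℤ)} = {0} := by
    ext x
    simp only [Nat.cast_zero, mul_zero, Set.mem_ofPred_eq, Set.mem_singleton_iff]
    constructor
    · intro hx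
      by_contra hne
      exact absurd hx (hpos x hne).ne'
    · rintro rfl
      simp
  have e1 : {x : Fin 24 → ℤ | x ⬝ᵥ (B *ᵥ x) = 2 * ((1 : ℕ) : ℤ)} = ∅ := by
    ext x
    simp only [Nat.cast_one, mul_one, Set.mem_ofPred_eq, Set.mem_empty_iff_false, iff_false]
    exact h2 x
  have h0 : (qExpansion 1 f).coeff 0 = 1 := by
    rw [← hc 0]
    simp only [e0, Set.ncard_singleton, Nat.cast_one]
  have h1 : (qExpansion 1 f).coeff 1 = 0 := by
    rw [← hc 1]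
    simp only [e1, Set.ncard_empty, Nat.cast_zero]
  obtain ⟨r2, r3, r4⟩ := ThetaC3.coeff_of_weight_twelve f h0 h1
  rw [← hc 2] at r2
  rw [← hc 3] at r3
  rw [← hc 4] at r4
  refine ⟨?_, ?_, ?_⟩
  · have : (2 : ℤ) * ((2 : ℕ) : ℤ) = 4 := by norm_num
    rw [this] at r2
    exact_mod_cast r2
  · have : (2 : ℤ) * ((3 : ℕ) : ℤ) = 6 := by norm_num
    rw [this] at r3
    exact_mod_cast r3
  · have : (2 : ℤ) * ((4 : ℕ) : ℤ) = 8 := by norm_num
    rw [this] at r4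
    exact_mod_cast r4

end Cfsg.Agent.Lib.Helper22.ThetaFinal

end
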