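/-
Helper22 library: finite groups whose two largest conjugacy class sizes `m > n > 1` are coprime.
Part A: basic consequences (class products, the normal subgroup `T`, central parts).
-/
import Mathlib
import Cfsg.Agent.Lib.Helper17.ClassGraph1
import Cfsg.Agent.Lib.Helper17.ClassGraph2

set_option autoImplicit false

namespace Cfsg.Agent.Lib.Helper22.TwoCop

open Cfsg.Agent.Lib.Helper17.ClassGraph
open scoped commutatorElement

variable {G : Type*} [Group G]

/-- The standing hypotheses: `m > n > 1` coprime, every class size is `≤ m`, and every class size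
`< m` is `≤ n`. -/
structure Hyp (G : Type*) [Group G] (m n : ℕ) : Prop where
  hmn : n < m
  hn : 1 < n
  hcop : m.Coprime n
  htop : ∀ z : G, ind z ≤ m
  hsecond : ∀ z : G, ind z < m → ind z ≤ n

variable {m n : ℕ}

theorem Hyp.eq_n_of_dvd [Finite G] (h : Hyp G m n) {z : G} (hz : n ∣ ind z) : ind z = n := by
  have h1 := h.htop z
  have hpos := ind_pos z
  rcases lt_or_eq_of_le h1 with h2 | h2
  · exact le_antisymm (h.hsecond z h2) (Nat.le_of_dvd hpos hz)
  · exfalso
    rw [h2] at hz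
    have : n = 1 := Nat.eq_one_of_dvd_coprimes h.hcop hz dvd_rfl
    have := h.hn
    omega

theorem Hyp.eq_m_of_dvd [Finite G] (h : Hyp G m n) {z : G} (hz : m ∣ ind z) : ind z = m :=
  le_antisymm (h.htop z) (Nat.le_of_dvd (ind_pos z) hz)

theorem Hyp.m_pos (h : Hyp G m n) : 0 < m := by have := h.hmn; omega

/-- class sizes are `m` or at most `n` -/
theorem Hyp.eq_m_or_le (h : Hyp G m n) (z : G) : ind z = m ∨ ind z ≤ n := by
  rcases lt_or_eq_of_le (h.htop z) with h2 | h2
  · exact Or.inr (h.hsecond z h2)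
  · exact Or.inl h2

/-- `C(w) ≤ C(v)` with `ind v = m` forces equality. -/
theorem Hyp.cent_eq_of_le_m [Finite G] (h : Hyp G m n) {v w : G} (hv : ind v = m)
    (hle : Subgroup.centralizer ({w} : Set G) ≤ Subgroup.centralizer ({v} : Set G)) :
    Subgroup.centralizer ({w} : Set G) = Subgroup.centralizer ({v} : Set G) := by
  have h1 : ind v ∣ ind w := ind_dvd_of_le hle
  rw [hv] at h1
  have h2 := h.eq_m_of_dvd h1
  apply Subgroup.eq_of_le_of_card_ge hle
  have e1 := Subgroup.card_mul_index (Subgroup.centralizer ({w} : Set G))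
  have e2 := Subgroup.card_mul_index (Subgroup.centralizer ({v} : Set G))
  change _ * ind w = _ at e1
  change _ * ind v = _ at e2
  rw [h2] at e1
  rw [hv, ← e1] at e2
  exact (Nat.eq_of_mul_eq_mul_right h.m_pos e2).le

/-- `C(w) ≤ C(u)` with `ind u = n` forces equality. -/
theorem Hyp.cent_eq_of_le_n [Finite G] (h : Hyp G m n) {u w : G} (hu : ind u = n)
    (hle : Subgroup.centralizer ({w} : Set G) ≤ Subgroup.centralizer ({u} : Set G)) :
    Subgroup.centralizer ({w} : Set G) = Subgroup.centralizer ({u} : Set G) := by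
  have h1 : ind u ∣ ind w := ind_dvd_of_le hle
  rw [hu] at h1
  have h2 := h.eq_n_of_dvd h1
  apply Subgroup.eq_of_le_of_card_ge hle
  have e1 := Subgroup.card_mul_index (Subgroup.centralizer ({w} : Set G))
  have e2 := Subgroup.card_mul_index (Subgroup.centralizer ({u} : Set G))
  change _ * ind w = _ at e1
  change _ * ind u = _ at e2
  rw [h2] at e1
  rw [hu, ← e1] at e2
  have hn0 : 0 < n := by have := h.hn; omega
  exact (Nat.eq_of_mul_eq_mul_right hn0 e2).le

/-- Step A: commutators with an element of index `n` stabilize a class of size `m`. -/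
theorem Hyp.comm_mem_T [Finite G] (h : Hyp G m n) {u v : G} (hu : ind u = n) (hv : ind v = m)
    (g : G) : ⁅g, u⁆ ∈ rstab (cl v) := by
  apply comm_mem_rstab (x := v) (b := u)
  · rw [hu, hv]; exact h.hcop
  · rw [hv]; exact h.htop _

theorem Hyp.card_T_dvd [Finite G] (_h : Hyp G m n) {v : G} (hv : ind v = m) :
    Nat.card (rstab (cl v)) ∣ m := by
  rw [← hv]; exact card_rstab_cl_dvd v

/-- Step B: `T ≤ C(u)` for `u` of index `n`. -/
theorem Hyp.T_le_cent [Finite G] (h : Hyp G m n) {u v : G} (hu : ind u = n) (hv : ind v = m) :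
    rstab (cl v) ≤ Subgroup.centralizer ({u} : Set G) := by
  have := rstab_cl_normal v
  apply le_centralizer_of_coprime
  rw [hu]
  exact Nat.Coprime.coprime_dvd_left (h.card_T_dvd hv) h.hcop

theorem Hyp.commute_comm [Finite G] (h : Hyp G m n) {u v : G} (hu : ind u = n) (hv : ind v = m)
    (g : G) : Commute ⁅g, u⁆ u := by
  have := h.T_le_cent hu hv (h.comm_mem_T hu hv g)
  rw [mem_centralizer_singleton] at this
  exact this

theorem pow_card_T_eq_one [Finite G] {T : Subgroup G} {t : G} (ht : t ∈ T) :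
    t ^ Nat.card T = 1 := by
  have := pow_card_eq_one' (G := T) (x := ⟨t, ht⟩)
  have h := congrArg Subtype.val this
  rwa [Subgroup.coe_pow, Subgroup.coe_one] at h

/-- Lemma B': a power of an element of index `n` whose order is coprime to `m` is central. -/
theorem Hyp.pow_mem_center [Finite G] (h : Hyp G m n) {y w : G} (hy : ind y = m) (hw : ind w = n)
    (j k : ℕ) (hk : k.Coprime m) (hpow : (w ^ j) ^ k = 1) : w ^ j ∈ Subgroup.center G := by
  have hTc : Nat.card (rstab (cl y)) ∣ m := h.card_T_dvd hy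
  rw [Subgroup.mem_center_iff]
  intro g
  have hc : ⁅g, w⁆ ∈ rstab (cl y) := h.comm_mem_T hw hy g
  have hcw : Commute ⁅g, w⁆ w := h.commute_comm hw hy g
  have e1 : g * w * g⁻¹ = ⁅g, w⁆ * w := by rw [commutatorElement_def]; group
  have e2 : g * w ^ j * g⁻¹ = ⁅g, w⁆ ^ j * w ^ j := by rw [← conj_pow, e1, hcw.mul_pow]
  have e3 : (⁅g, w⁆ ^ j) ^ k = 1 := by
    have hcomm : Commute (⁅g, w⁆ ^ j) (w ^ j) := hcw.pow_pow j j
    have h3 : (⁅g, w⁆ ^ j * w ^ j) ^ k = g * (w ^ j) ^ k * g⁻¹ := by rw [← e2, conj_pow]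
    rw [hcomm.mul_pow, hpow] at h3
    simpa using h3
  have e4 : (⁅g, w⁆ ^ j) ^ Nat.card (rstab (cl y)) = 1 :=
    pow_card_T_eq_one (Subgroup.pow_mem _ hc j)
  have e5 : ⁅g, w⁆ ^ j = 1 := by
    have o1 := orderOf_dvd_of_pow_eq_one e3
    have o2 := orderOf_dvd_of_pow_eq_one e4
    have h5 : orderOf (⁅g, w⁆ ^ j) = 1 :=
      Nat.eq_one_of_dvd_coprimes (Nat.Coprime.coprime_dvd_right hTc hk) o1 o2
    exact orderOf_eq_one_iff.mp h5
  rw [e5, one_mul] at e2
  calc g * w ^ j = g * w ^ j * g⁻¹ * g := by group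
    _ = w ^ j * g := by rw [e2]

theorem commute_of_commute_pow {c v : G} {a b : ℕ} (hab : a.Coprime b) (h1 : Commute c (v ^ a))
    (h2 : Commute c (v ^ b)) : Commute c v := by
  have h5 : v = (v ^ a) ^ (Nat.gcdA a b) * (v ^ b) ^ (Nat.gcdB a b) := by
    rw [← zpow_natCast v a, ← zpow_natCast v b, ← zpow_mul, ← zpow_mul, ← zpow_add]
    have := Nat.gcd_eq_gcd_ab a b
    rw [hab] at this
    have e : (a : ℤ) * Nat.gcdA a b + b * Nat.gcdB a b = 1 := by exact_mod_cast this.symm
    rw [e, zpow_one]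
  rw [h5]
  exact (h1.zpow_right _).mul_right (h2.zpow_right _)

/-- Splitting off the `q`-part of an element. -/
theorem exists_split [Finite G] {q : ℕ} (hq : q.Prime) (v : G) :
    ∃ s r : ℕ, ¬ q ∣ r ∧ 0 < r ∧ (v ^ r) ^ (q ^ s) = 1 ∧ (v ^ (q ^ s)) ^ r = 1 ∧
      ∀ c : G, Commute c (v ^ r) → Commute c (v ^ (q ^ s)) → Commute c v := by
  have ho : orderOf v ≠ 0 := (orderOf_pos v).ne'
  obtain ⟨s, r, hr, hsr⟩ := Nat.exists_eq_pow_mul_and_not_dvd ho q hq.ne_one
  have hr0 : 0 < r := by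
    rcases Nat.eq_zero_or_pos r with h0 | h0
    · exact absurd (h0 ▸ dvd_zero q) hr
    · exact h0
  refine ⟨s, r, hr, hr0, ?_, ?_, ?_⟩
  · rw [← pow_mul, mul_comm, ← hsr, pow_orderOf_eq_one]
  · rw [← pow_mul, ← hsr, pow_orderOf_eq_one]
  · intro c h1 h2
    have hcop : r.Coprime (q ^ s) :=
      (Nat.Coprime.pow_left s ((Nat.Prime.coprime_iff_not_dvd hq).mpr hr)).symm
    exact commute_of_commute_pow hcop h1 h2

end Cfsg.Agent.Lib.Helper22.TwoCop
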