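/-
Helper22 library: two largest class sizes coprime. Part B: `q`-elements (for `q ∤ m`) centralizing
an element of index `n` are central; elements of index `n` and `m` never commute.
-/
import Mathlib
import Cfsg.Agent.Lib.Helper22.TwoCopA

set_option autoImplicit false

namespace Cfsg.Agent.Lib.Helper22.TwoCop

open Cfsg.Agent.Lib.Helper17.ClassGraph
open scoped commutatorElement

variable {G : Type*} [Group G] {m n : ℕ}

/-- a power trick: if `w = u₂ * a` with `u₂ ^ r = 1`, `a ^ k = 1`, `r`, `k` coprime, then `a` is a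
power of `w`. -/
theorem exists_pow_eq_right {u₂ a : G} {r k : ℕ} (hc : Commute u₂ a) (hu : u₂ ^ r = 1)
    (ha : a ^ k = 1) (hrk : r.Coprime k) : ∃ j : ℕ, (u₂ * a) ^ j = a := by
  rcases Nat.lt_or_ge 1 k with hk | hk
  · obtain ⟨r', -, hr'⟩ := Nat.exists_mul_mod_eq_one_of_coprime hrk hk
    refine ⟨r * r', ?_⟩
    rw [hc.mul_pow, pow_mul, hu, one_pow, one_mul]
    have e : r * r' = k * (r * r' / k) + 1 := by
      have := Nat.div_add_mod (r * r') k
      rw [hr'] at this
      exact this.symm
    rw [e, pow_succ, pow_mul, ha, one_pow, one_mul]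
  · interval_cases k
    · rw [Nat.coprime_zero_right] at hrk
      subst hrk
      rw [pow_one] at hu
      exact ⟨1, by rw [hu, one_mul, pow_one]⟩
    · rw [pow_one] at ha
      exact ⟨0, by rw [pow_zero, ha]⟩

theorem cent_split_eq {v : G} {a b : ℕ}
    (hsplit : ∀ c : G, Commute c (v ^ a) → Commute c (v ^ b) → Commute c v)
    (hz : v ^ a ∈ Subgroup.center G) :
    Subgroup.centralizer ({v ^ b} : Set G) = Subgroup.centralizer ({v} : Set G) := by
  ext c
  rw [mem_centralizer_singleton, mem_centralizer_singleton]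
  constructor
  · intro hc
    exact hsplit c (Subgroup.mem_center_iff.mp hz c) hc
  · intro hc
    exact (show Commute c v from hc).pow_right b

theorem mem_center_of_pow_coprime {v : G} {a b : ℕ} (hab : a.Coprime b)
    (h1 : v ^ a ∈ Subgroup.center G) (h2 : v ^ b ∈ Subgroup.center G) : v ∈ Subgroup.center G := by
  rw [Subgroup.mem_center_iff]
  intro g
  exact commute_of_commute_pow hab (Subgroup.mem_center_iff.mp h1 g) (Subgroup.mem_center_iff.mp h2 g)

/-- Step C: a `q`-element (`q ∤ m`) centralizing an element of index `n` is central. -/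
theorem Hyp.qelt_central [Finite G] (h : Hyp G m n) {y u a : G} (hy : ind y = m) (hu : ind u = n)
    {q : ℕ} (hq : q.Prime) (hqm : ¬ q ∣ m) (hau : Commute a u) {e : ℕ} (ha : a ^ (q ^ e) = 1) :
    a ∈ Subgroup.center G := by
  have hqcop : ∀ t : ℕ, (q ^ t).Coprime m := fun t =>
    Nat.Coprime.pow_left t ((Nat.Prime.coprime_iff_not_dvd hq).mpr hqm)
  obtain ⟨s, r, hr, hr0, h1, h2, h3⟩ := exists_split hq u
  have hu1 : u ^ r ∈ Subgroup.center G := h.pow_mem_center hy hu r (q ^ s) (hqcop s) h1
  have hcent := cent_split_eq h3 hu1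
  have hcua : Commute (u ^ (q ^ s)) a := (hau.pow_right _).symm
  have hrq : r.Coprime (q ^ e) :=
    (Nat.Coprime.pow_left e ((Nat.Prime.coprime_iff_not_dvd hq).mpr hr)).symm
  have hle : Subgroup.centralizer ({u ^ (q ^ s) * a} : Set G) ≤
      Subgroup.centralizer ({u} : Set G) := by
    rw [← hcent]
    exact centralizer_mul_le hcua (by rw [h2]; exact Subgroup.one_mem _)
      (by rw [ha]; exact Subgroup.one_mem _) hrq
  have hw : ind (u ^ (q ^ s) * a) = n := by
    apply h.eq_n_of_dvd
    rw [← hu]
    exact ind_dvd_of_le hle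
  obtain ⟨j, hj⟩ := exists_pow_eq_right hcua h2 ha hrq
  have := h.pow_mem_center hy hw j (q ^ e) (hqcop e) (by rw [hj, ha])
  rwa [hj] at this

/-- If `q` divides `|H : H ∩ Z(G)|` then `H` contains a non-central `q`-element. -/
theorem exists_qelt [Finite G] {q : ℕ} (hq : q.Prime) (H : Subgroup G)
    (hd : q ∣ (Subgroup.center G).relIndex H) :
    ∃ a ∈ H, a ∉ Subgroup.center G ∧ ∃ e : ℕ, a ^ (q ^ e) = 1 := by
  haveI : Fact q.Prime := ⟨hq⟩
  by_contra hcon
  push Not at hcon
  let Q : Sylow q H := default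
  have hle : (Q : Subgroup H) ≤ (Subgroup.center G).subgroupOf H := by
    intro a ha
    rw [Subgroup.mem_subgroupOf]
    by_contra hz
    obtain ⟨k, hk⟩ := Q.isPGroup' ⟨a, ha⟩
    have hk' : (a : G) ^ q ^ k = 1 := by
      have h1 : a ^ q ^ k = 1 := by
        have := congrArg Subtype.val hk
        simpa using this
      have := congrArg Subtype.val h1
      simpa using this
    exact hcon a a.2 hz k hk'
  have h1 : ((Subgroup.center G).subgroupOf H).index ∣ (Q : Subgroup H).index :=
    Subgroup.index_dvd_of_le hle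
  exact Q.not_dvd_index (dvd_trans hd h1)

/-- For `u` of index `n`, no prime `q ∤ m` divides `|C(u) : Z(G)|`. -/
theorem Hyp.not_dvd_relIndex_n [Finite G] (h : Hyp G m n) {y u : G} (hy : ind y = m)
    (hu : ind u = n) {q : ℕ} (hq : q.Prime) (hqm : ¬ q ∣ m) :
    ¬ q ∣ (Subgroup.center G).relIndex (Subgroup.centralizer ({u} : Set G)) := by
  intro hd
  obtain ⟨a, ha, haz, e, hae⟩ := exists_qelt hq _ hd
  rw [mem_centralizer_singleton] at ha
  exact haz (h.qelt_central hy hu hq hqm ha hae)

theorem Hyp.prime_dvd_n_not_dvd_m (h : Hyp G m n) {q : ℕ} (hq : q.Prime) (hqn : q ∣ n) :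
    ¬ q ∣ m := by
  intro hqm
  have := Nat.eq_one_of_dvd_coprimes h.hcop hqm hqn
  exact hq.one_lt.ne' this

/-- the "maximal index" trick: coprime-order commuting partner of an element of index `m`. -/
theorem Hyp.cent_le_of_commute_m [Finite G] (h : Hyp G m n) {v w : G} (hv : ind v = m)
    (hvw : Commute v w) {a b : ℕ} (ha : v ^ a ∈ Subgroup.center G)
    (hb : w ^ b ∈ Subgroup.center G) (hab : a.Coprime b) :
    Subgroup.centralizer ({v} : Set G) ≤ Subgroup.centralizer ({w} : Set G) := by
  have l1 : Subgroup.centralizer ({v * w} : Set G) ≤ Subgroup.centralizer ({v} : Set G) :=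
    centralizer_mul_le hvw ha hb hab
  have l2 : Subgroup.centralizer ({v * w} : Set G) ≤ Subgroup.centralizer ({w} : Set G) := by
    rw [hvw.eq]
    exact centralizer_mul_le hvw.symm hb ha hab.symm
  rw [← h.cent_eq_of_le_m hv l1]
  exact l2

/-- (F5): elements of index `n` and `m` never commute. -/
theorem Hyp.not_commute [Finite G] (h : Hyp G m n) {u v : G} (hu : ind u = n) (hv : ind v = m)
    (huv : Commute u v) : False := by
  have claim : ∀ q : ℕ, q.Prime → ¬ q ∣ m →
      ¬ q ∣ (Subgroup.center G).relIndex (Subgroup.centralizer ({v} : Set G)) := by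
    intro q hq hqm hd
    obtain ⟨w, hw, hwz, e, hwe⟩ := exists_qelt hq _ hd
    rw [mem_centralizer_singleton] at hw
    have hwv : Commute w v := hw
    obtain ⟨s, r, hr, hr0, h1, h2, h3⟩ := exists_split hq v
    have hv1 : v ^ r ∈ Subgroup.center G :=
      h.qelt_central hv hu hq hqm (huv.symm.pow_left r) h1
    have hcent := cent_split_eq h3 hv1
    have hv2 : ind (v ^ (q ^ s)) = m := by rw [ind, hcent]; exact hv
    have hrq : r.Coprime (q ^ e) :=
      (Nat.Coprime.pow_left e ((Nat.Prime.coprime_iff_not_dvd hq).mpr hr)).symm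
    have hle := h.cent_le_of_commute_m hv2 (hwv.symm.pow_left (q ^ s))
      (a := r) (b := q ^ e) (by rw [h2]; exact Subgroup.one_mem _)
      (by rw [hwe]; exact Subgroup.one_mem _) hrq
    rw [hcent] at hle
    have huw : u ∈ Subgroup.centralizer ({w} : Set G) := by
      apply hle
      rw [mem_centralizer_singleton]
      exact huv
    rw [mem_centralizer_singleton] at huw
    exact hwz (h.qelt_central hv hu hq hqm (show Commute w u from (show Commute u w from huw).symm) hwe)
  have h1 : n ∣ (Subgroup.center G).index := by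
    rw [← hu]
    exact Subgroup.index_dvd_of_le (Subgroup.center_le_centralizer _)
  have h2 := Subgroup.relIndex_mul_index
    (Subgroup.center_le_centralizer ({v} : Set G))
  change _ * ind v = _ at h2
  rw [hv] at h2
  rw [← h2] at h1
  have h3 : n ∣ (Subgroup.center G).relIndex (Subgroup.centralizer ({v} : Set G)) :=
    h.hcop.symm.dvd_of_dvd_mul_right h1
  have hn1 : n ≠ 1 := by have := h.hn; omega
  have hq := Nat.minFac_prime hn1
  exact claim _ hq (h.prime_dvd_n_not_dvd_m hq (Nat.minFac_dvd n)) (dvd_trans (Nat.minFac_dvd n) h3)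

end Cfsg.Agent.Lib.Helper22.TwoCop
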