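/-
Helper22 library: two largest class sizes coprime. Part C: an element whose class size is coprime
to `n` is central or has class size `m`.
-/
import Mathlib
import Cfsg.Agent.Lib.Helper22.TwoCopB

set_option autoImplicit false

namespace Cfsg.Agent.Lib.Helper22.TwoCop

open Cfsg.Agent.Lib.Helper17.ClassGraph
open scoped commutatorElement

variable {G : Type*} [Group G] {m n : ℕ}

theorem relIndex_dvd_relIndex_of_le' (Z : Subgroup G) [Z.Normal] {H K : Subgroup G} (hHK : H ≤ K)
    (hZK : Z ≤ K) : Z.relIndex H ∣ Z.relIndex K := by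
  rw [← Subgroup.relIndex_sup_right H Z]
  exact Dvd.intro _ (Subgroup.relIndex_mul_relIndex Z (H ⊔ Z) K le_sup_right (sup_le hHK hZK))

/-- If all commutators `⁅k, g⁆` lie in a subgroup `S` of the centre, then `ind g ∣ |S|`. -/
theorem ind_dvd_card_of_comm_mem_center [Finite G] (S : Subgroup G) (hS : S ≤ Subgroup.center G)
    (g : G) (hc : ∀ k : G, ⁅k, g⁆ ∈ S) : ind g ∣ Nat.card S := by
  let φ : G →* S := MonoidHom.mk' (fun k => ⟨⁅k, g⁆, hc k⟩) (by
    intro a b
    apply Subtype.ext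
    change ⁅a * b, g⁆ = ⁅a, g⁆ * ⁅b, g⁆
    have e : ⁅a * b, g⁆ = a * ⁅b, g⁆ * a⁻¹ * ⁅a, g⁆ := by
      simp only [commutatorElement_def]; group
    have hz : ⁅b, g⁆ ∈ Subgroup.center G := hS (hc b)
    have h1 : a * ⁅b, g⁆ = ⁅b, g⁆ * a := Subgroup.mem_center_iff.mp hz a
    have h2 : ⁅a, g⁆ * ⁅b, g⁆ = ⁅b, g⁆ * ⁅a, g⁆ := Subgroup.mem_center_iff.mp hz _
    rw [e, h1, mul_assoc, mul_assoc, mul_inv_cancel_left, h2])
  have hker : φ.ker = Subgroup.centralizer ({g} : Set G) := by
    ext k
    rw [MonoidHom.mem_ker, mem_centralizer_singleton]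
    constructor
    · intro hk
      have := congrArg Subtype.val hk
      change ⁅k, g⁆ = 1 at this
      exact commutatorElement_eq_one_iff_commute.mp this
    · intro hk
      apply Subtype.ext
      change ⁅k, g⁆ = 1
      exact commutatorElement_eq_one_iff_commute.mpr hk
  have h1 : ind g = Nat.card φ.range := by
    rw [ind, ← hker, Subgroup.index_ker]
  rw [h1]
  exact Subgroup.card_subgroup_dvd_card _

/-- (F6): an element whose class size is coprime to `n` and different from `m` is central. -/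
theorem Hyp.central_of_coprime_n [Finite G] (h : Hyp G m n) {x y g : G} (hx : ind x = n)
    (hy : ind y = m) (hg : (ind g).Coprime n) (hgm : ind g ≠ m) : g ∈ Subgroup.center G := by
  have hcop : (ind x).Coprime (ind g) := by rw [hx]; exact hg.symm
  have hdvd : ind (x * g) ∣ ind x * ind g := ind_mul_dvd hcop
  have hle : ind (x * g) ≤ ind x := by
    rcases h.eq_m_or_le (x * g) with h1 | h1
    · exfalso
      rw [h1, hx] at hdvd
      have : m ∣ ind g := h.hcop.dvd_of_dvd_mul_left hdvd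
      exact hgm (h.eq_m_of_dvd this)
    · rw [hx]; exact h1
  have hTn : ∀ k : G, ⁅k, g⁆ ∈ rstab (cl x) := comm_mem_rstab hcop hle
  have hN1 := rstab_cl_normal x
  have hN2 := rstab_cl_normal y
  have hc1 : Nat.card (rstab (cl x)) ∣ n := by rw [← hx]; exact card_rstab_cl_dvd x
  have hc2 : Nat.card (rstab (cl y)) ∣ m := h.card_T_dvd hy
  have hdisj : Disjoint (rstab (cl y)) (rstab (cl x)) :=
    Subgroup.disjoint_of_coprime_natCard
      (Nat.Coprime.coprime_dvd_left hc2 (Nat.Coprime.coprime_dvd_right hc1 h.hcop))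
  -- `Tn ≤ C(x)`
  have hTx : rstab (cl x) ≤ Subgroup.centralizer ({x} : Set G) := by
    intro k hk
    rw [mem_centralizer_singleton]
    have e1 : ⁅k, x⁆ ∈ rstab (cl y) := h.comm_mem_T hx hy k
    have e2 : ⁅k, x⁆ ∈ rstab (cl x) := by
      have h2 : x * k⁻¹ * x⁻¹ ∈ rstab (cl x) := hN1.conj_mem _ ((rstab (cl x)).inv_mem hk) x
      have e : ⁅k, x⁆ = k * (x * k⁻¹ * x⁻¹) := by rw [commutatorElement_def]; group
      rw [e]; exact (rstab (cl x)).mul_mem hk h2
    have e3 : ⁅k, x⁆ ∈ rstab (cl y) ⊓ rstab (cl x) := ⟨e1, e2⟩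
    rw [hdisj.eq_bot, Subgroup.mem_bot] at e3
    exact commutatorElement_eq_one_iff_commute.mp e3
  -- `Tn ≤ Z`
  have hTZ : rstab (cl x) ≤ Subgroup.center G := by
    rw [← Subgroup.relIndex_eq_one]
    by_contra hne
    have hq := Nat.minFac_prime hne
    have hqd := Nat.minFac_dvd ((Subgroup.center G).relIndex (rstab (cl x)))
    have hqn : ((Subgroup.center G).relIndex (rstab (cl x))).minFac ∣ n :=
      dvd_trans hqd (dvd_trans (Subgroup.relIndex_dvd_card _ _) hc1)
    have hqm := h.prime_dvd_n_not_dvd_m hq hqn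
    have hqc := dvd_trans hqd
      (relIndex_dvd_relIndex_of_le' (Subgroup.center G) hTx (Subgroup.center_le_centralizer _))
    exact h.not_dvd_relIndex_n hy hx hq hqm hqc
  have h1 := ind_dvd_card_of_comm_mem_center _ hTZ g hTn
  have h2 : ind g ∣ n := dvd_trans h1 hc1
  have h3 : ind g = 1 := Nat.eq_one_of_dvd_coprimes hg dvd_rfl h2
  exact (ind_eq_one_iff g).mp h3

end Cfsg.Agent.Lib.Helper22.TwoCop
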