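/-
Helper22 library: two largest class sizes coprime. Part D: reduction to `y` of prime power order,
`C(x) ∩ C(y) = Z(G)`, orders, and the case where `n` is not a prime power.
-/
import Mathlib
import Cfsg.Agent.Lib.Helper22.TwoCopC

set_option autoImplicit false

namespace Cfsg.Agent.Lib.Helper22.TwoCop

open Cfsg.Agent.Lib.Helper17.ClassGraph
open scoped commutatorElement

variable {G : Type*} [Group G] {m n : ℕ}

/-- an element centralized by `C(y)` (`ind y = m`) is central or has the same centralizer -/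
theorem Hyp.central_or_cent_eq [Finite G] (h : Hyp G m n) {x y g : G} (hx : ind x = n)
    (hy : ind y = m)
    (hle : Subgroup.centralizer ({y} : Set G) ≤ Subgroup.centralizer ({g} : Set G)) :
    g ∈ Subgroup.center G ∨
      (ind g = m ∧ Subgroup.centralizer ({g} : Set G) = Subgroup.centralizer ({y} : Set G)) := by
  have hd : ind g ∣ m := by rw [← hy]; exact ind_dvd_of_le hle
  by_cases hgm : ind g = m
  · right
    exact ⟨hgm, (h.cent_eq_of_le_m hgm hle).symm⟩
  · left
    exact h.central_of_coprime_n hx hy (Nat.Coprime.coprime_dvd_left hd h.hcop) hgm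

theorem Hyp.n_dvd_relIndex_m [Finite G] (h : Hyp G m n) {x v : G} (hx : ind x = n)
    (hv : ind v = m) :
    n ∣ (Subgroup.center G).relIndex (Subgroup.centralizer ({v} : Set G)) := by
  have h1 : n ∣ (Subgroup.center G).index := by
    rw [← hx]
    exact Subgroup.index_dvd_of_le (Subgroup.center_le_centralizer _)
  have h2 := Subgroup.relIndex_mul_index (Subgroup.center_le_centralizer ({v} : Set G))
  change _ * ind v = _ at h2
  rw [hv] at h2
  rw [← h2] at h1
  exact h.hcop.symm.dvd_of_dvd_mul_right h1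

theorem Hyp.minFac_spec (h : Hyp G m n) : n.minFac.Prime ∧ n.minFac ∣ n ∧ ¬ n.minFac ∣ m := by
  have hn1 : n ≠ 1 := by have := h.hn; omega
  have hq := Nat.minFac_prime hn1
  exact ⟨hq, Nat.minFac_dvd n, h.prime_dvd_n_not_dvd_m hq (Nat.minFac_dvd n)⟩

/-- There is an element of prime power order (for a prime dividing `n`) with the same centralizer
as `y`. -/
theorem Hyp.exists_qelt_same_cent [Finite G] (h : Hyp G m n) {x y : G} (hx : ind x = n)
    (hy : ind y = m) :
    ∃ q : ℕ, q.Prime ∧ q ∣ n ∧ ∃ y' : G,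
      Subgroup.centralizer ({y'} : Set G) = Subgroup.centralizer ({y} : Set G) ∧
      ∃ e : ℕ, y' ^ (q ^ e) = 1 := by
  obtain ⟨hq, hqn, hqm⟩ := h.minFac_spec
  refine ⟨n.minFac, hq, hqn, ?_⟩
  have hd := dvd_trans hqn (h.n_dvd_relIndex_m hx hy)
  obtain ⟨w, hw, hwz, e, hwe⟩ := exists_qelt hq _ hd
  rw [mem_centralizer_singleton] at hw
  have hwy : Commute w y := hw
  obtain ⟨s, r, hr, hr0, h1, h2, h3⟩ := exists_split hq y
  have hle1 : Subgroup.centralizer ({y} : Set G) ≤ Subgroup.centralizer ({y ^ r} : Set G) := by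
    intro c hc
    rw [mem_centralizer_singleton] at hc ⊢
    exact (show Commute c y from hc).pow_right r
  rcases h.central_or_cent_eq hx hy hle1 with hz | ⟨_, hc⟩
  · have hcent := cent_split_eq h3 hz
    have hy2 : ind (y ^ (n.minFac ^ s)) = m := by rw [ind, hcent]; exact hy
    have hrq : r.Coprime (n.minFac ^ e) :=
      (Nat.Coprime.pow_left e ((Nat.Prime.coprime_iff_not_dvd hq).mpr hr)).symm
    have hle := h.cent_le_of_commute_m hy2 (hwy.symm.pow_left (n.minFac ^ s))
      (a := r) (b := n.minFac ^ e) (by rw [h2]; exact Subgroup.one_mem _)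
      (by rw [hwe]; exact Subgroup.one_mem _) hrq
    rw [hcent] at hle
    rcases h.central_or_cent_eq hx hy hle with hz' | ⟨_, hc'⟩
    · exact absurd hz' hwz
    · exact ⟨w, hc', e, hwe⟩
  · exact ⟨y ^ r, hc, s, h1⟩

/-- `C(x) ∩ C(y) = Z(G)` when `y` has prime power order for a prime `q ∤ m`. -/
theorem Hyp.inf_cent_eq_center [Finite G] (h : Hyp G m n) {x y : G} (hx : ind x = n)
    (hy : ind y = m) {q : ℕ} (hq : q.Prime) (hqm : ¬ q ∣ m) {e : ℕ} (hyq : y ^ (q ^ e) = 1) :
    Subgroup.centralizer ({x} : Set G) ⊓ Subgroup.centralizer ({y} : Set G) =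
      Subgroup.center G := by
  apply le_antisymm _ (le_inf (Subgroup.center_le_centralizer _) (Subgroup.center_le_centralizer _))
  rw [← Subgroup.relIndex_eq_one]
  by_contra hne
  have hp := Nat.minFac_prime hne
  have hpd := Nat.minFac_dvd ((Subgroup.center G).relIndex
    (Subgroup.centralizer ({x} : Set G) ⊓ Subgroup.centralizer ({y} : Set G)))
  obtain ⟨d, hd, hdz, f, hdf⟩ := exists_qelt hp _ hpd
  rw [Subgroup.mem_inf, mem_centralizer_singleton, mem_centralizer_singleton] at hd
  obtain ⟨hdx, hdy⟩ := hd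
  set p := ((Subgroup.center G).relIndex
    (Subgroup.centralizer ({x} : Set G) ⊓ Subgroup.centralizer ({y} : Set G))).minFac with hpdef
  by_cases hpm : p ∣ m
  · have hpq : p ≠ q := fun hpq => hqm (hpq ▸ hpm)
    have hcop : (q ^ e).Coprime (p ^ f) :=
      Nat.Coprime.pow e f ((Nat.coprime_primes hq hp).mpr (Ne.symm hpq))
    have hle := h.cent_le_of_commute_m hy (show Commute y d from (show Commute d y from hdy).symm)
      (a := q ^ e) (b := p ^ f) (by rw [hyq]; exact Subgroup.one_mem _)
      (by rw [hdf]; exact Subgroup.one_mem _) hcop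
    rcases h.central_or_cent_eq hx hy hle with hz | ⟨hdm, _⟩
    · exact hdz hz
    · exact h.not_commute hx hdm (show Commute x d from (show Commute d x from hdx).symm)
  · exact hdz (h.qelt_central hy hx hp hpm hdx hdf)

/-- `|G : Z(G)| = n * m`. -/
theorem Hyp.index_center [Finite G] (h : Hyp G m n) {x y : G} (hx : ind x = n)
    (hy : ind y = m)
    (hinf : Subgroup.centralizer ({x} : Set G) ⊓ Subgroup.centralizer ({y} : Set G) =
      Subgroup.center G) : (Subgroup.center G).index = n * m := by
  rw [← hinf, Cfsg.Agent.Lib.Helper4.index_inf_of_coprime]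
  · change ind x * ind y = _
    rw [hx, hy]
  · change (ind x).Coprime (ind y)
    rw [hx, hy]; exact h.hcop.symm

theorem Hyp.relIndex_center_m [Finite G] (h : Hyp G m n) {v : G} (hv : ind v = m)
    (hZ : (Subgroup.center G).index = n * m) :
    (Subgroup.center G).relIndex (Subgroup.centralizer ({v} : Set G)) = n := by
  have h2 := Subgroup.relIndex_mul_index (Subgroup.center_le_centralizer ({v} : Set G))
  change _ * ind v = _ at h2
  rw [hv, hZ] at h2
  exact Nat.eq_of_mul_eq_mul_right h.m_pos h2

theorem Hyp.relIndex_center_n [Finite G] (h : Hyp G m n) {u : G} (hu : ind u = n)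
    (hZ : (Subgroup.center G).index = n * m) :
    (Subgroup.center G).relIndex (Subgroup.centralizer ({u} : Set G)) = m := by
  have h2 := Subgroup.relIndex_mul_index (Subgroup.center_le_centralizer ({u} : Set G))
  change _ * ind u = _ at h2
  rw [hu, hZ, mul_comm n m] at h2
  have hn0 : 0 < n := by have := h.hn; omega
  exact Nat.eq_of_mul_eq_mul_right hn0 h2

/-- Case 1: if a second prime divides `n`, then `C(y)` is abelian. -/
theorem Hyp.cent_abelian_of_two_primes [Finite G] (h : Hyp G m n) {x y : G} (hx : ind x = n)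
    (hy : ind y = m) {q : ℕ} (hq : q.Prime) {e : ℕ} (hyq : y ^ (q ^ e) = 1)
    {r : ℕ} (hr : r.Prime) (hrq : r ≠ q) (hrn : r ∣ n) :
    ∀ c ∈ Subgroup.centralizer ({y} : Set G), ∀ β ∈ Subgroup.centralizer ({y} : Set G),
      Commute c β := by
  have hd := dvd_trans hrn (h.n_dvd_relIndex_m hx hy)
  obtain ⟨w, hw, hwz, f, hwf⟩ := exists_qelt hr _ hd
  rw [mem_centralizer_singleton] at hw
  have hwy : Commute w y := hw
  have hcop : (q ^ e).Coprime (r ^ f) :=
    Nat.Coprime.pow e f ((Nat.coprime_primes hq hr).mpr (Ne.symm hrq))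
  have hle := h.cent_le_of_commute_m hy hwy.symm
    (a := q ^ e) (b := r ^ f) (by rw [hyq]; exact Subgroup.one_mem _)
    (by rw [hwf]; exact Subgroup.one_mem _) hcop
  have hwm : ind w = m ∧ Subgroup.centralizer ({w} : Set G) = Subgroup.centralizer ({y} : Set G) := by
    rcases h.central_or_cent_eq hx hy hle with hz | hh
    · exact absurd hz hwz
    · exact hh
  intro c hc β hβ
  obtain ⟨s', r', hr', hr'0, h1, h2, h3⟩ := exists_split hr β
  have hβy : Commute β y := by rw [mem_centralizer_singleton] at hβ; exact hβ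
  have hβw : Commute β w := by
    rw [← hwm.2, mem_centralizer_singleton] at hβ; exact hβ
  -- `β ^ (r ^ s')` has order coprime to `r`
  have l2 : Subgroup.centralizer ({w} : Set G) ≤
      Subgroup.centralizer ({β ^ (r ^ s')} : Set G) := by
    have hcop2 : (r ^ f).Coprime r' :=
      Nat.Coprime.pow_left f ((Nat.Prime.coprime_iff_not_dvd hr).mpr hr')
    exact h.cent_le_of_commute_m hwm.1 (hβw.symm.pow_right _)
      (a := r ^ f) (b := r') (by rw [hwf]; exact Subgroup.one_mem _)
      (by rw [h2]; exact Subgroup.one_mem _) hcop2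
  have l1 : Subgroup.centralizer ({y} : Set G) ≤ Subgroup.centralizer ({β ^ r'} : Set G) := by
    have hcop1 : (q ^ e).Coprime (r ^ s') :=
      Nat.Coprime.pow e s' ((Nat.coprime_primes hq hr).mpr (Ne.symm hrq))
    exact h.cent_le_of_commute_m hy (hβy.symm.pow_right _)
      (a := q ^ e) (b := r ^ s') (by rw [hyq]; exact Subgroup.one_mem _)
      (by rw [h1]; exact Subgroup.one_mem _) hcop1
  have c1 := l1 hc
  have c2 : c ∈ Subgroup.centralizer ({β ^ (r ^ s')} : Set G) := by
    apply l2; rw [hwm.2]; exact hc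
  rw [mem_centralizer_singleton] at c1 c2
  exact h3 c c1 c2

end Cfsg.Agent.Lib.Helper22.TwoCop
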