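/-
Helper22 library: two largest class sizes coprime. Part E: the normal closure of an element of
index `n` is abelian; Fitting decomposition for a coprime automorphism; an orbit bound.
-/
import Mathlib
import Cfsg.Agent.Lib.Helper22.TwoCopD

set_option autoImplicit false

namespace Cfsg.Agent.Lib.Helper22.TwoCop

open Cfsg.Agent.Lib.Helper17.ClassGraph
open scoped commutatorElement

variable {G : Type*} [Group G] {m n : ℕ}

theorem Hyp.commute_conj [Finite G] (h : Hyp G m n) {x y : G} (hx : ind x = n) (hy : ind y = m)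
    (g : G) : Commute (g * x * g⁻¹) x := by
  have e1 : g * x * g⁻¹ = ⁅g, x⁆ * x := by rw [commutatorElement_def]; group
  rw [e1]
  exact (h.commute_comm hx hy g).mul_left (Commute.refl x)

/-- The normal closure of an element of index `n` is abelian. -/
theorem Hyp.normalClosure_comm [Finite G] (h : Hyp G m n) {x y : G} (hx : ind x = n)
    (hy : ind y = m) : ∀ a ∈ Subgroup.normalClosure ({x} : Set G),
      ∀ b ∈ Subgroup.normalClosure ({x} : Set G), a * b = b * a := by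
  have hcomm : ∀ a ∈ Group.conjugatesOfSet ({x} : Set G), ∀ b ∈ Group.conjugatesOfSet ({x} : Set G),
      a * b = b * a := by
    intro a ha b hb
    rw [Group.mem_conjugatesOfSet_iff] at ha hb
    obtain ⟨x', hx', hax⟩ := ha
    obtain ⟨x'', hx'', hbx⟩ := hb
    rw [Set.mem_singleton_iff] at hx' hx''
    rw [hx'] at hax
    rw [hx''] at hbx
    rw [isConj_iff] at hax hbx
    obtain ⟨g, rfl⟩ := hax
    obtain ⟨k, rfl⟩ := hbx
    have h1 : (k⁻¹ * g) * x * (k⁻¹ * g)⁻¹ * x = x * ((k⁻¹ * g) * x * (k⁻¹ * g)⁻¹) :=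
      (h.commute_conj hx hy (k⁻¹ * g)).eq
    calc g * x * g⁻¹ * (k * x * k⁻¹)
        = k * ((k⁻¹ * g) * x * (k⁻¹ * g)⁻¹ * x) * k⁻¹ := by group
      _ = k * (x * ((k⁻¹ * g) * x * (k⁻¹ * g)⁻¹)) * k⁻¹ := by rw [h1]
      _ = k * x * k⁻¹ * (g * x * g⁻¹) := by group
  have := Subgroup.isMulCommutative_closure hcomm
  intro a ha b hb
  exact setLike_mul_comm (s := Subgroup.closure (Group.conjugatesOfSet ({x} : Set G))) ha hb

theorem pow_eq_one_of_mem_normalClosure {x : G} {r : ℕ} (hxr : x ^ r = 1)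
    (hcomm : ∀ a ∈ Subgroup.normalClosure ({x} : Set G),
      ∀ b ∈ Subgroup.normalClosure ({x} : Set G), a * b = b * a) :
    ∀ u ∈ Subgroup.normalClosure ({x} : Set G), u ^ r = 1 := by
  intro u hu
  induction hu using Subgroup.closure_induction with
  | mem a ha =>
    rw [Group.mem_conjugatesOfSet_iff] at ha
    obtain ⟨x', hx', hax⟩ := ha
    rw [Set.mem_singleton_iff] at hx'
    rw [hx'] at hax
    rw [isConj_iff] at hax
    obtain ⟨g, rfl⟩ := hax
    rw [conj_pow, hxr]; group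
  | one => exact one_pow r
  | mul a b ha hb iha ihb =>
    have hc : Commute a b := hcomm a ha b hb
    rw [hc.mul_pow, iha, ihb, one_mul]
  | inv a _ iha => rw [inv_pow, iha, inv_one]

theorem conj_pow_fix {β u w : G} (h1 : β * u * β⁻¹ = w * u) (h2 : β * w * β⁻¹ = w) (i : ℕ) :
    β ^ i * u * (β ^ i)⁻¹ = w ^ i * u := by
  induction i with
  | zero => simp
  | succ i ih =>
    have e0 : β ^ (i + 1) * u * (β ^ (i + 1))⁻¹ = β * (β ^ i * u * (β ^ i)⁻¹) * β⁻¹ := by
      rw [pow_succ']; group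
    have e : β * (w ^ i * u) * β⁻¹ = (β * w * β⁻¹) ^ i * (β * u * β⁻¹) := by
      rw [conj_pow]; group
    rw [e0, ih, e, h2, h1, pow_succ, mul_assoc]

/-- Fitting decomposition for an element `β` acting (coprimely) on an abelian normal subgroup. -/
theorem exists_fitting [Finite G] (N : Subgroup G) [hNn : N.Normal]
    (hN : ∀ a ∈ N, ∀ b ∈ N, a * b = b * a) {r k : ℕ} (hrk : r.Coprime k)
    (hr : ∀ u ∈ N, u ^ r = 1) (β : G) (hβ : β ^ k ∈ Subgroup.center G) :
    ∃ W : Subgroup G, W ≤ N ∧ (∀ s : G, Commute s β → ∀ w ∈ W, s * w * s⁻¹ ∈ W) ∧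
      Nat.card W ∣ ind β ∧ ∀ x ∈ N, ∃ x₁ ∈ N, ∃ x₂ ∈ W, Commute β x₁ ∧ x = x₁ * x₂ := by
  have hconj : ∀ u ∈ N, β * u * β⁻¹ ∈ N := fun u hu => hNn.conj_mem u hu β
  let ψ : ↥N →* ↥N := MonoidHom.mk'
    (fun u => ⟨β * u * β⁻¹ * (u : G)⁻¹, N.mul_mem (hconj u u.2) (N.inv_mem u.2)⟩) (by
    intro a b
    apply Subtype.ext
    change β * ((a : G) * (b : G)) * β⁻¹ * ((a : G) * (b : G))⁻¹ =
      (β * a * β⁻¹ * (a : G)⁻¹) * (β * b * β⁻¹ * (b : G)⁻¹)
    have hsw : (β * b * β⁻¹ * (b : G)⁻¹) * (a : G)⁻¹ = (a : G)⁻¹ * (β * b * β⁻¹ * (b : G)⁻¹) :=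
      hN _ (N.mul_mem (hconj b b.2) (N.inv_mem b.2)) _ (N.inv_mem a.2)
    calc β * ((a : G) * (b : G)) * β⁻¹ * ((a : G) * (b : G))⁻¹
        = (β * a * β⁻¹) * ((β * b * β⁻¹ * (b : G)⁻¹) * (a : G)⁻¹) := by group
      _ = (β * a * β⁻¹) * ((a : G)⁻¹ * (β * b * β⁻¹ * (b : G)⁻¹)) := by rw [hsw]
      _ = _ := by group)
  have hψ : ∀ u : ↥N, ((ψ u : ↥N) : G) = β * u * β⁻¹ * (u : G)⁻¹ := fun u => rfl
  have hker : ψ.ker = (Subgroup.centralizer ({β} : Set G)).subgroupOf N := by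
    ext u
    rw [MonoidHom.mem_ker, Subgroup.mem_subgroupOf, mem_centralizer_singleton]
    constructor
    · intro hu
      have h1 := congrArg Subtype.val hu
      rw [hψ, Subgroup.coe_one] at h1
      have : β * (u : G) = u * β := by
        calc β * (u : G) = (β * u * β⁻¹ * (u : G)⁻¹) * (u * β) := by group
          _ = u * β := by rw [h1, one_mul]
      exact this.symm
    · intro hu
      apply Subtype.ext
      rw [hψ, Subgroup.coe_one, ← hu]; group
  refine ⟨ψ.range.map N.subtype, Subgroup.map_subtype_le _, ?_, ?_, ?_⟩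
  · intro s hs w hw
    obtain ⟨w', ⟨u, rfl⟩, rfl⟩ := hw
    have hsu : s * (u : G) * s⁻¹ ∈ N := hNn.conj_mem u u.2 s
    refine ⟨ψ ⟨s * u * s⁻¹, hsu⟩, ⟨_, rfl⟩, ?_⟩
    change β * (s * (u : G) * s⁻¹) * β⁻¹ * (s * (u : G) * s⁻¹)⁻¹ = s * (β * u * β⁻¹ * (u : G)⁻¹) * s⁻¹
    have h1 : β * s = s * β := hs.eq.symm
    have h2 : s⁻¹ * β⁻¹ = β⁻¹ * s⁻¹ := by
      rw [← mul_inv_rev, ← mul_inv_rev, h1]
    calc β * (s * (u : G) * s⁻¹) * β⁻¹ * (s * (u : G) * s⁻¹)⁻¹
        = (β * s) * u * (s⁻¹ * β⁻¹) * (s * (u : G) * s⁻¹)⁻¹ := by group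
      _ = (s * β) * u * (β⁻¹ * s⁻¹) * (s * (u : G) * s⁻¹)⁻¹ := by rw [h1, h2]
      _ = _ := by group
  · have e1 : Nat.card (ψ.range.map N.subtype) = Nat.card ψ.range :=
      Subgroup.card_map_of_injective N.subtype_injective
    rw [e1, ← Subgroup.index_ker, hker]
    exact relIndex_dvd_index_of_normal' (Subgroup.centralizer ({β} : Set G)) N
  · -- decomposition
    have hcard : Nat.card ψ.ker * Nat.card ψ.range = Nat.card ↥N := by
      rw [← Subgroup.index_ker]; exact Subgroup.card_mul_index _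
    have hdisj : Disjoint ψ.ker ψ.range := by
      rw [Subgroup.disjoint_def]
      intro w hwk hwr
      obtain ⟨u, rfl⟩ := hwr
      rw [hker, Subgroup.mem_subgroupOf, mem_centralizer_singleton] at hwk
      apply Subtype.ext
      rw [Subgroup.coe_one]
      set w : G := ((ψ u : ↥N) : G) with hwdef
      have hwN : w ∈ N := (ψ u).2
      have h1 : β * (u : G) * β⁻¹ = w * u := by rw [hwdef, hψ]; group
      have h2 : β * w * β⁻¹ = w := by rw [← hwk]; group
      have h3 := conj_pow_fix h1 h2 k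
      have h4 : β ^ k * (u : G) * (β ^ k)⁻¹ = u := by
        rw [← Subgroup.mem_center_iff.mp hβ (u : G)]; group
      rw [h4] at h3
      have h5 : w ^ k = 1 := by
        have := congrArg (fun t => t * (u : G)⁻¹) h3
        simpa using this.symm
      have h6 : w ^ r = 1 := hr w hwN
      have o1 := orderOf_dvd_of_pow_eq_one h5
      have o2 := orderOf_dvd_of_pow_eq_one h6
      exact orderOf_eq_one_iff.mp (Nat.eq_one_of_dvd_coprimes hrk o2 o1)
    have hcomp := Subgroup.isComplement'_of_card_mul_and_disjoint hcard hdisj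
    intro x hx
    obtain ⟨⟨a, b⟩, hab, -⟩ := (Subgroup.isComplement_iff_existsUnique.mp hcomp) ⟨x, hx⟩
    refine ⟨(a : ↥N), (a : ↥N).2, ((b : ↥N) : G), ⟨b, b.2, rfl⟩, ?_, ?_⟩
    · have h1 : (a : ↥N) ∈ ψ.ker := a.2
      have h2 : (a : ↥N) ∈ (Subgroup.centralizer ({β} : Set G)).subgroupOf N := hker ▸ h1
      rw [Subgroup.mem_subgroupOf, mem_centralizer_singleton] at h2
      exact h2.symm
    · have := congrArg Subtype.val hab
      simpa using this.symm

end Cfsg.Agent.Lib.Helper22.TwoCop
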