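/-
Helper22 library: two largest class sizes coprime. Part F: the key lemma (`n = q ^ a`): a
non-central `q`-element has class size at least `n`.
-/
import Mathlib
import Cfsg.Agent.Lib.Helper22.TwoCopE

set_option autoImplicit false

namespace Cfsg.Agent.Lib.Helper22.TwoCop

open Cfsg.Agent.Lib.Helper17.ClassGraph
open scoped commutatorElement

variable {G : Type*} [Group G] {m n : ℕ}

theorem coprime_card_of_exponent [Finite G] (W : Subgroup G) {r q : ℕ} (hq : q.Prime)
    (hqr : ¬ q ∣ r) (hr : ∀ u ∈ W, u ^ r = 1) : (Nat.card W).Coprime q := by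
  rw [Nat.coprime_comm, Nat.Prime.coprime_iff_not_dvd hq]
  intro hd
  haveI := Fact.mk hq
  obtain ⟨u, hu⟩ := exists_prime_orderOf_dvd_card' (G := W) q hd
  have h0 : (u : G) ^ r = 1 := hr u u.2
  have h1 : orderOf (u : G) = q := by rw [Subgroup.orderOf_coe]; exact hu
  exact hqr (h1 ▸ orderOf_dvd_of_pow_eq_one h0)

/-- orbit bound: the `Q`-orbit of `x₂` stays inside the `Q`-invariant subgroup `W`. -/
theorem relIndex_centralizer_le_card [Finite G] (Q W : Subgroup G) {x₂ : G} (hx₂ : x₂ ∈ W)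
    (hinv : ∀ s ∈ Q, ∀ w ∈ W, s * w * s⁻¹ ∈ W) :
    (Subgroup.centralizer ({x₂} : Set G)).relIndex Q ≤ Nat.card W := by
  let f : ↥Q ⧸ (Subgroup.centralizer ({x₂} : Set G)).subgroupOf Q → ↥W :=
    Quotient.lift (fun s : ↥Q => (⟨(s : G) * x₂ * (s : G)⁻¹, hinv s s.2 x₂ hx₂⟩ : ↥W)) (by
      intro a b hab
      have hab' : a⁻¹ * b ∈ (Subgroup.centralizer ({x₂} : Set G)).subgroupOf Q :=
        QuotientGroup.leftRel_apply.mp hab
      rw [Subgroup.mem_subgroupOf, mem_centralizer_singleton] at hab'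
      apply Subtype.ext
      change (a : G) * x₂ * (a : G)⁻¹ = (b : G) * x₂ * (b : G)⁻¹
      have e : ((a⁻¹ * b : ↥Q) : G) = (a : G)⁻¹ * (b : G) := by simp
      rw [e] at hab'
      calc (a : G) * x₂ * (a : G)⁻¹ = (a : G) * (x₂ * ((a : G)⁻¹ * (b : G))) * (b : G)⁻¹ := by group
        _ = (a : G) * (((a : G)⁻¹ * (b : G)) * x₂) * (b : G)⁻¹ := by rw [hab']
        _ = (b : G) * x₂ * (b : G)⁻¹ := by group)
  have hf : Function.Injective f := by
    intro a b
    refine Quotient.inductionOn₂' a b ?_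
    intro a b hab
    have hab' : (a : G) * x₂ * (a : G)⁻¹ = (b : G) * x₂ * (b : G)⁻¹ := congrArg Subtype.val hab
    apply Quotient.sound'
    rw [QuotientGroup.leftRel_apply, Subgroup.mem_subgroupOf, mem_centralizer_singleton]
    have e : ((a⁻¹ * b : ↥Q) : G) = (a : G)⁻¹ * (b : G) := by simp
    rw [e]
    calc (a : G)⁻¹ * (b : G) * x₂ = (a : G)⁻¹ * ((b : G) * x₂ * (b : G)⁻¹) * b := by group
      _ = (a : G)⁻¹ * ((a : G) * x₂ * (a : G)⁻¹) * b := by rw [hab']
      _ = x₂ * ((a : G)⁻¹ * (b : G)) := by group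
  exact Nat.card_le_card_of_injective f hf

theorem numerics {q a R R' i w m : ℕ} (hq : q.Prime) (hR : ∃ ρ, R = q ^ ρ)
    (hR' : R'.Coprime q) (hE : R * R' * i = q ^ a * m) (hi0 : 0 < i) (hw : w ∣ i)
    (hwq : w.Coprime q) (hi : i < q ^ a) : w < R := by
  obtain ⟨ρ, rfl⟩ := hR
  have hwi : w ≤ i := Nat.le_of_dvd hi0 hw
  have h1 : q ^ a ∣ R' * (q ^ ρ * i) := ⟨m, by rw [← hE]; ring⟩
  have h2 : q ^ a ∣ q ^ ρ * i := (Nat.Coprime.pow_left a hR'.symm).dvd_of_dvd_mul_left h1
  rcases Nat.lt_or_ge ρ a with hlt | hge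
  · have e : q ^ a = q ^ ρ * q ^ (a - ρ) := by rw [← pow_add]; congr 1; omega
    rw [e] at h2
    have h3 : q ^ (a - ρ) ∣ i := Nat.dvd_of_mul_dvd_mul_left (pow_pos hq.pos ρ) h2
    have h4 : w * q ^ (a - ρ) ∣ i :=
      (Nat.Coprime.pow_right (a - ρ) hwq).mul_dvd_of_dvd_of_dvd hw h3
    have h5 : w * q ^ (a - ρ) ≤ i := Nat.le_of_dvd hi0 h4
    have h6 : w * q ^ (a - ρ) < q ^ ρ * q ^ (a - ρ) := by rw [← e]; omega
    exact Nat.lt_of_mul_lt_mul_right h6
  · have : q ^ a ≤ q ^ ρ := Nat.pow_le_pow_right hq.pos hge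
    omega

theorem exists_qpart [Finite G] {q : ℕ} (hq : q.Prime) {β : G} {k : ℕ}
    (hβ : β ^ (q ^ k) ∈ Subgroup.center G) :
    ∃ β₁ : G, Subgroup.centralizer ({β₁} : Set G) = Subgroup.centralizer ({β} : Set G) ∧
      ∃ e : ℕ, β₁ ^ (q ^ e) = 1 := by
  obtain ⟨s, r, hr, hr0, h1, h2, h3⟩ := exists_split hq β
  have hrq : r.Coprime (q ^ k) :=
    (Nat.Coprime.pow_left k ((Nat.Prime.coprime_iff_not_dvd hq).mpr hr)).symm
  have hz : β ^ (q ^ s) ∈ Subgroup.center G := by
    apply mem_center_of_pow_coprime hrq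
    · rw [h2]; exact Subgroup.one_mem _
    · rw [← pow_mul, mul_comm, pow_mul]; exact Subgroup.pow_mem _ hβ _
  exact ⟨β ^ r, cent_split_eq (fun c c1 c2 => h3 c c2 c1) hz, s, h1⟩

/-- **Key lemma**: if `n = q ^ a`, a non-central `q`-element cannot have class size `< n`. -/
theorem Hyp.key [Finite G] (h : Hyp G m n) {x y : G} (hx : ind x = n) (hy : ind y = m)
    {q a : ℕ} (hq : q.Prime) (hqm : ¬ q ∣ m) (hn : n = q ^ a)
    (hZ : (Subgroup.center G).index = n * m)
    {β : G} (hβz : β ∉ Subgroup.center G) {k : ℕ} (hβ : β ^ (q ^ k) = 1) : ¬ ind β < n := by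
  intro hlt
  haveI : Fact q.Prime := ⟨hq⟩
  have hqcop : ∀ t : ℕ, (q ^ t).Coprime m := fun t =>
    Nat.Coprime.pow_left t ((Nat.Prime.coprime_iff_not_dvd hq).mpr hqm)
  -- replace `x` by its `q'`-part
  obtain ⟨s, r, hr, hr0, h1, h2, h3⟩ := exists_split hq x
  have hx1 : x ^ r ∈ Subgroup.center G := h.pow_mem_center hy hx r (q ^ s) (hqcop s) h1
  have hcent := cent_split_eq h3 hx1
  set x' := x ^ (q ^ s) with hx'def
  have hx' : ind x' = n := by rw [ind, hcent]; exact hx
  have hNc := h.normalClosure_comm hx' hy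
  have hNr := pow_eq_one_of_mem_normalClosure h2 hNc
  have hx'N : x' ∈ Subgroup.normalClosure ({x'} : Set G) :=
    Subgroup.subset_normalClosure (Set.mem_singleton x')
  have hrk : r.Coprime (q ^ k) :=
    (Nat.Coprime.pow_left k ((Nat.Prime.coprime_iff_not_dvd hq).mpr hr)).symm
  obtain ⟨W, hWN, hWinv, hWcard, hdec⟩ := exists_fitting (Subgroup.normalClosure ({x'} : Set G))
    hNc hrk hNr β (by rw [hβ]; exact Subgroup.one_mem _)
  obtain ⟨x₁, hx₁N, x₂, hx₂W, hβx₁, hxeq⟩ := hdec x' hx'N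
  have hx₁r : x₁ ^ r = 1 := hNr x₁ hx₁N
  -- the element `g = β * x₁`
  have l1 : Subgroup.centralizer ({β * x₁} : Set G) ≤ Subgroup.centralizer ({β} : Set G) :=
    centralizer_mul_le hβx₁ (by rw [hβ]; exact Subgroup.one_mem _)
      (by rw [hx₁r]; exact Subgroup.one_mem _) hrk.symm
  have l2 : Subgroup.centralizer ({β * x₁} : Set G) ≤ Subgroup.centralizer ({x₁} : Set G) := by
    rw [hβx₁.eq]
    exact centralizer_mul_le hβx₁.symm (by rw [hx₁r]; exact Subgroup.one_mem _)
      (by rw [hβ]; exact Subgroup.one_mem _) hrk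
  have hx₁x' : Commute x₁ x' := hNc x₁ hx₁N x' hx'N
  have hgβ : Commute β (β * x₁) := (Commute.refl β).mul_right hβx₁
  have hgn : ind (β * x₁) < n := by
    rcases h.eq_m_or_le (β * x₁) with hgm | hgle
    · exfalso
      have hd : ind x₁ ∣ m := by rw [← hgm]; exact ind_dvd_of_le l2
      have hx₁m : ind x₁ ≠ m := fun hm => h.not_commute hx' hm hx₁x'.symm
      have hx₁z : x₁ ∈ Subgroup.center G :=
        h.central_of_coprime_n hx hy (Nat.Coprime.coprime_dvd_left hd h.hcop) hx₁m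
      rw [ind_mul_central hx₁z] at hgm
      have := h.hmn
      omega
    · rcases lt_or_eq_of_le hgle with hl | he
      · exact hl
      · exfalso
        exact hβz (h.qelt_central hy he hq hqm hgβ hβ)
  -- Sylow `q`-subgroup of `C(g)`
  let Q : Sylow q ↥(Subgroup.centralizer ({β * x₁} : Set G)) := default
  set Cg := Subgroup.centralizer ({β * x₁} : Set G) with hCg
  set Qg : Subgroup G := (Q : Subgroup ↥Cg).map Cg.subtype with hQg
  have hQgle : Qg ≤ Cg := Subgroup.map_subtype_le _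
  have hQgp : ∀ t ∈ Qg, ∃ j : ℕ, t ^ (q ^ j) = 1 := by
    rintro _ ⟨t, ht, rfl⟩
    obtain ⟨j, hj⟩ := Q.isPGroup' ⟨t, ht⟩
    refine ⟨j, ?_⟩
    have h1 : t ^ q ^ j = 1 := by
      have := congrArg Subtype.val hj
      simpa using this
    have := congrArg Subtype.val h1
    simpa using this
  have hQgcard : ∃ t : ℕ, Nat.card Qg = q ^ t := by
    have e1 : Nat.card Qg = Nat.card (Q : Subgroup ↥Cg) :=
      Subgroup.card_map_of_injective Cg.subtype_injective
    rw [e1]
    exact IsPGroup.iff_card.mp Q.isPGroup'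
  have hZn : (Subgroup.center G).Normal := inferInstance
  have hR : ∃ ρ, (Subgroup.center G).relIndex Qg = q ^ ρ := by
    obtain ⟨t, ht⟩ := hQgcard
    have hd : (Subgroup.center G).relIndex Qg ∣ q ^ t := by
      rw [← ht]; exact Subgroup.relIndex_dvd_card _ _
    obtain ⟨ρ, -, hρ⟩ := (Nat.dvd_prime_pow hq).mp hd
    exact ⟨ρ, hρ⟩
  have hZCg : Subgroup.center G ≤ Cg := Subgroup.center_le_centralizer _
  have hmul : (Subgroup.center G).relIndex Qg * (Qg ⊔ Subgroup.center G).relIndex Cg =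
      (Subgroup.center G).relIndex Cg := by
    rw [← Subgroup.relIndex_sup_right Qg (Subgroup.center G)]
    exact Subgroup.relIndex_mul_relIndex _ _ _ le_sup_right (sup_le hQgle hZCg)
  have hR' : ((Qg ⊔ Subgroup.center G).relIndex Cg).Coprime q := by
    rw [Nat.coprime_comm, Nat.Prime.coprime_iff_not_dvd hq]
    intro hd
    have h1 : (Qg ⊔ Subgroup.center G).relIndex Cg ∣ Qg.relIndex Cg :=
      Subgroup.relIndex_dvd_of_le_left Cg le_sup_left
    have h2 : Qg.relIndex Cg = (Q : Subgroup ↥Cg).index := by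
      rw [Subgroup.relIndex, Subgroup.subgroupOf, hQg,
        Subgroup.comap_map_eq_self_of_injective Cg.subtype_injective]
    rw [h2] at h1
    exact Q.not_dvd_index (dvd_trans hd h1)
  have hE : (Subgroup.center G).relIndex Qg * (Qg ⊔ Subgroup.center G).relIndex Cg *
      ind (β * x₁) = q ^ a * m := by
    rw [hmul, ← hn, ← hZ]
    exact Subgroup.relIndex_mul_index hZCg
  have hWq : (Nat.card W).Coprime q :=
    coprime_card_of_exponent W hq hr (fun u hu => hNr u (hWN hu))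
  have hWd : Nat.card W ∣ ind (β * x₁) := dvd_trans hWcard (ind_dvd_of_le l1)
  have hnum : Nat.card W < (Subgroup.center G).relIndex Qg :=
    numerics hq hR hR' hE (ind_pos _) hWd hWq (hn ▸ hgn)
  -- orbit bound
  have horb : (Subgroup.centralizer ({x₂} : Set G)).relIndex Qg ≤ Nat.card W := by
    apply relIndex_centralizer_le_card Qg W hx₂W
    intro t ht w hw
    have ht' := l1 (hQgle ht)
    rw [mem_centralizer_singleton] at ht'
    exact hWinv t ht' w hw
  -- a non-central element of `Qg` centralizing `x₂`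
  have hex : ∃ t ∈ Qg, t * x₂ = x₂ * t ∧ t ∉ Subgroup.center G := by
    by_contra hcon
    push Not at hcon
    have hle : Subgroup.centralizer ({x₂} : Set G) ⊓ Qg ≤ Subgroup.center G := by
      intro t ht
      rw [Subgroup.mem_inf, mem_centralizer_singleton] at ht
      exact hcon t ht.2 ht.1
    have h1 : (Subgroup.center G).relIndex Qg ≤
        (Subgroup.centralizer ({x₂} : Set G) ⊓ Qg).relIndex Qg :=
      Subgroup.relIndex_le_of_le_left hle
        (Nat.pos_of_dvd_of_pos (Subgroup.relIndex_dvd_card _ _) Nat.card_pos).ne'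
    rw [Subgroup.inf_relIndex_right] at h1
    omega
  obtain ⟨t, htQ, htx₂, htz⟩ := hex
  obtain ⟨j, htj⟩ := hQgp t htQ
  have htx₁ := l2 (hQgle htQ)
  rw [mem_centralizer_singleton] at htx₁
  have htx' : Commute t x' := by
    rw [hxeq]
    exact (show Commute t x₁ from htx₁).mul_right (show Commute t x₂ from htx₂)
  exact htz (h.qelt_central hy hx' hq hqm htx' htj)

end Cfsg.Agent.Lib.Helper22.TwoCop
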