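/-
Helper22 library: two largest class sizes coprime. Part G: the case `n = q ^ a`: `C(y)` is
abelian (fixed-point-free action on the normal closure of `x` modulo the centre).
-/
import Mathlib
import Cfsg.Agent.Lib.Helper22.TwoCopF
import Cfsg.Agent.Lib.Helper9.FpfAction

set_option autoImplicit false

namespace Cfsg.Agent.Lib.Helper22.TwoCop

open Cfsg.Agent.Lib.Helper17.ClassGraph
open scoped commutatorElement

variable {G : Type*} [Group G] {m n : ℕ}

/-- every non-central element of `C(y)` has class size `m` (case `n = q ^ a`) -/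
theorem Hyp.ind_eq_m_of_mem [Finite G] (h : Hyp G m n) {x y : G} (hx : ind x = n)
    (hy : ind y = m) {q a : ℕ} (hq : q.Prime) (hqm : ¬ q ∣ m) (hn : n = q ^ a)
    (hZ : (Subgroup.center G).index = n * m) {β : G}
    (hβ : β ∈ Subgroup.centralizer ({y} : Set G)) (hβz : β ∉ Subgroup.center G) : ind β = m := by
  have hrel := h.relIndex_center_m hy hZ
  have hpow : β ^ (q ^ a) ∈ Subgroup.center G := by
    rw [← hn, ← hrel]
    exact Subgroup.pow_relIndex_mem _ hβ
  obtain ⟨β₁, hc, e, hβ₁⟩ := exists_qpart hq hpow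
  have hind : ind β₁ = ind β := by rw [ind, hc]
  have hβ₁z : β₁ ∉ Subgroup.center G := by
    intro hz
    apply hβz
    rw [← ind_eq_one_iff, ← hind, ind_eq_one_iff]
    exact hz
  have hk := h.key hx hy hq hqm hn hZ hβ₁z hβ₁
  rw [hind] at hk
  rcases h.eq_m_or_le β with h1 | h1
  · exact h1
  · exfalso
    have h2 : ind β = n := by omega
    rw [mem_centralizer_singleton] at hβ
    exact h.not_commute h2 hy hβ

theorem Hyp.central_of_commute_m [Finite G] (h : Hyp G m n) {β u : G} (hβ : ind β = m)
    (hZ : (Subgroup.center G).index = n * m) (hc : Commute β u) {r : ℕ} (hu : u ^ r = 1)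
    (hr : r.Coprime n) : u ∈ Subgroup.center G := by
  have hrel := h.relIndex_center_m hβ hZ
  have hmem : u ∈ Subgroup.centralizer ({β} : Set G) := by
    rw [mem_centralizer_singleton]; exact hc.symm
  have h1 : u ^ n ∈ Subgroup.center G := by
    rw [← hrel]; exact Subgroup.pow_relIndex_mem _ hmem
  exact mem_center_of_pow_coprime hr (by rw [hu]; exact Subgroup.one_mem _) h1

/-- Case 2: if `n = q ^ a` then `C(y)` is abelian. -/
theorem Hyp.cent_abelian_of_prime_pow [Finite G] (h : Hyp G m n) {x y : G} (hx : ind x = n)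
    (hy : ind y = m) {q a : ℕ} (hq : q.Prime) (hqm : ¬ q ∣ m) (hn : n = q ^ a)
    (hZ : (Subgroup.center G).index = n * m) :
    ∀ c ∈ Subgroup.centralizer ({y} : Set G), ∀ b ∈ Subgroup.centralizer ({y} : Set G),
      Commute c b := by
  by_contra hcon
  push Not at hcon
  obtain ⟨c, hc, b, hb, hcb⟩ := hcon
  have hqcop : ∀ t : ℕ, (q ^ t).Coprime m := fun t =>
    Nat.Coprime.pow_left t ((Nat.Prime.coprime_iff_not_dvd hq).mpr hqm)
  obtain ⟨s, r, hr, hr0, h1, h2, h3⟩ := exists_split hq x
  have hx1 : x ^ r ∈ Subgroup.center G := h.pow_mem_center hy hx r (q ^ s) (hqcop s) h1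
  have hcent := cent_split_eq h3 hx1
  set x' := x ^ (q ^ s) with hx'def
  have hx' : ind x' = n := by rw [ind, hcent]; exact hx
  have hNc := h.normalClosure_comm hx' hy
  have hNr := pow_eq_one_of_mem_normalClosure h2 hNc
  have hx'N : x' ∈ Subgroup.normalClosure ({x'} : Set G) :=
    Subgroup.subset_normalClosure (Set.mem_singleton x')
  have hrn : r.Coprime n := by
    rw [hn]
    exact (Nat.Coprime.pow_left a ((Nat.Prime.coprime_iff_not_dvd hq).mpr hr)).symm
  have hx'z : x' ∉ Subgroup.center G := by
    intro hz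
    rw [← ind_eq_one_iff, hx'] at hz
    have := h.hn
    omega
  have hyz : y ∉ Subgroup.center G := by
    intro hz
    rw [← ind_eq_one_iff, hy] at hz
    have := h.hn
    have := h.hmn
    omega
  have hyy : y ∈ Subgroup.centralizer ({y} : Set G) := by
    rw [mem_centralizer_singleton]
  have hby : b * y = y * b := by rwa [mem_centralizer_singleton] at hb
  have hEle : Subgroup.closure ({y, b} : Set G) ≤ Subgroup.centralizer ({y} : Set G) := by
    rw [Subgroup.closure_le]
    intro t ht
    rcases ht with rfl | rfl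
    · exact hyy
    · exact hb
  have hEcomm : IsMulCommutative (Subgroup.closure ({y, b} : Set G)) := by
    apply Subgroup.isMulCommutative_closure
    intro t ht u hu
    rcases ht with rfl | rfl <;> rcases hu with rfl | rfl
    · rfl
    · exact hby.symm
    · exact hby
    · rfl
  haveI : IsMulCommutative (Subgroup.normalClosure ({x'} : Set G)) :=
    .of_setLike_mul_comm hNc
  have hrel := h.relIndex_center_m hy hZ
  have hcyc : IsCyclic ((Subgroup.closure ({y, b} : Set G)).map
      (QuotientGroup.mk' (Subgroup.center G))) := by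
    apply Cfsg.Agent.Lib.Helper9.isCyclic_of_fpf_on_subgroup _
      ((Subgroup.normalClosure ({x'} : Set G)).map (QuotientGroup.mk' (Subgroup.center G)))
    · intro hbot
      have h4 : QuotientGroup.mk' (Subgroup.center G) x' ∈
          (Subgroup.normalClosure ({x'} : Set G)).map (QuotientGroup.mk' (Subgroup.center G)) :=
        ⟨x', hx'N, rfl⟩
      rw [hbot, Subgroup.mem_bot, QuotientGroup.mk'_apply, QuotientGroup.eq_one_iff] at h4
      exact hx'z h4
    · have hnorm : ((Subgroup.normalClosure ({x'} : Set G)).map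
          (QuotientGroup.mk' (Subgroup.center G))).Normal :=
        Subgroup.Normal.map inferInstance _ (QuotientGroup.mk'_surjective _)
      rw [Subgroup.normalizer_eq_top]
      exact le_top
    · rintro _ ⟨a₀, ha₀E, rfl⟩ ha₀1
      rw [eq_bot_iff]
      rintro _ ⟨⟨u, huN, rfl⟩, hcomm⟩
      rw [Subgroup.mem_bot]
      have hcomm' : QuotientGroup.mk' (Subgroup.center G) u *
          QuotientGroup.mk' (Subgroup.center G) a₀ =
          QuotientGroup.mk' (Subgroup.center G) a₀ * QuotientGroup.mk' (Subgroup.center G) u := by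
        have h5 : QuotientGroup.mk' (Subgroup.center G) u ∈ Subgroup.centralizer
            ({QuotientGroup.mk' (Subgroup.center G) a₀} : Set (G ⧸ Subgroup.center G)) := hcomm
        rw [mem_centralizer_singleton] at h5
        exact h5
      have ha₀z : a₀ ∉ Subgroup.center G := by
        intro hz
        apply ha₀1
        rw [QuotientGroup.mk'_apply, QuotientGroup.eq_one_iff]
        exact hz
      have ha₀B := hEle ha₀E
      have ha₀m : ind a₀ = m := h.ind_eq_m_of_mem hx hy hq hqm hn hZ ha₀B ha₀z
      -- the commutator is central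
      have hwz : a₀ * u * a₀⁻¹ * u⁻¹ ∈ Subgroup.center G := by
        rw [← QuotientGroup.eq_one_iff, ← QuotientGroup.mk'_apply, map_mul, map_mul, map_mul,
          map_inv, map_inv, ← hcomm']
        group
      have hwN : a₀ * u * a₀⁻¹ * u⁻¹ ∈ Subgroup.normalClosure ({x'} : Set G) :=
        Subgroup.mul_mem _ (Subgroup.normalClosure_normal.conj_mem u huN a₀)
          (Subgroup.inv_mem _ huN)
      have e1 : a₀ * u * a₀⁻¹ = (a₀ * u * a₀⁻¹ * u⁻¹) * u := by group
      have e2 : a₀ * (a₀ * u * a₀⁻¹ * u⁻¹) * a₀⁻¹ = a₀ * u * a₀⁻¹ * u⁻¹ := by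
        rw [Subgroup.mem_center_iff.mp hwz a₀]; group
      have e3 := conj_pow_fix e1 e2 (q ^ a)
      have hpow : a₀ ^ (q ^ a) ∈ Subgroup.center G := by
        rw [← hn, ← hrel]
        exact Subgroup.pow_relIndex_mem _ ha₀B
      have e4 : a₀ ^ (q ^ a) * u * (a₀ ^ (q ^ a))⁻¹ = u := by
        rw [← Subgroup.mem_center_iff.mp hpow u]; group
      rw [e4] at e3
      have e5 : (a₀ * u * a₀⁻¹ * u⁻¹) ^ (q ^ a) = 1 := by
        have := congrArg (fun t => t * u⁻¹) e3
        simpa using this.symm
      have e6 : (a₀ * u * a₀⁻¹ * u⁻¹) ^ r = 1 := hNr _ hwN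
      have e7 : a₀ * u * a₀⁻¹ * u⁻¹ = 1 := by
        have o1 := orderOf_dvd_of_pow_eq_one e5
        have o2 := orderOf_dvd_of_pow_eq_one e6
        rw [← hn] at o1
        exact orderOf_eq_one_iff.mp (Nat.eq_one_of_dvd_coprimes hrn o2 o1)
      have hau : Commute a₀ u := by
        have : a₀ * u = u * a₀ := by
          calc a₀ * u = (a₀ * u * a₀⁻¹ * u⁻¹) * (u * a₀) := by group
            _ = u * a₀ := by rw [e7, one_mul]
        exact this
      have huz := h.central_of_commute_m ha₀m hZ hau (hNr u huN) hrn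
      rw [QuotientGroup.mk'_apply, QuotientGroup.eq_one_iff]
      exact huz
    · exact Or.inl inferInstance
  obtain ⟨⟨ebar, hebar⟩, hgen⟩ := exists_zpow_surjective
    ((Subgroup.closure ({y, b} : Set G)).map (QuotientGroup.mk' (Subgroup.center G)))
  obtain ⟨e, heE, rfl⟩ := hebar
  have key : ∀ t ∈ Subgroup.closure ({y, b} : Set G), ∃ i : ℤ, (e ^ i)⁻¹ * t ∈ Subgroup.center G := by
    intro t ht
    obtain ⟨i, hi⟩ := hgen ⟨QuotientGroup.mk' (Subgroup.center G) t, ⟨t, ht, rfl⟩⟩
    refine ⟨i, ?_⟩
    have hi' := congrArg Subtype.val hi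
    simp only [Subgroup.coe_zpow] at hi'
    rw [← map_zpow, QuotientGroup.mk'_apply, QuotientGroup.mk'_apply, QuotientGroup.eq] at hi'
    exact hi'
  obtain ⟨i, hi⟩ := key y (Subgroup.subset_closure (by simp))
  obtain ⟨j, hj⟩ := key b (Subgroup.subset_closure (by simp))
  have heB := hEle heE
  have hez : e ∉ Subgroup.center G := by
    intro hz
    apply hyz
    have : y = e ^ i * ((e ^ i)⁻¹ * y) := by group
    rw [this]
    exact Subgroup.mul_mem _ (Subgroup.zpow_mem _ hz i) hi
  have hem : ind e = m := h.ind_eq_m_of_mem hx hy hq hqm hn hZ heB hez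
  have hle : Subgroup.centralizer ({e} : Set G) ≤ Subgroup.centralizer ({y} : Set G) := by
    intro t ht
    rw [mem_centralizer_singleton] at ht ⊢
    have hte : Commute t e := ht
    have e1 : y = e ^ i * ((e ^ i)⁻¹ * y) := by group
    rw [e1]
    exact (hte.zpow_right i).mul_right (Subgroup.mem_center_iff.mp hi t)
  have hceq := h.cent_eq_of_le_m hy hle
  have hce : Commute c e := by
    rw [← hceq, mem_centralizer_singleton] at hc
    exact hc
  apply hcb
  have e1 : b = e ^ j * ((e ^ j)⁻¹ * b) := by group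
  rw [e1]
  exact (hce.zpow_right j).mul_right (Subgroup.mem_center_iff.mp hj c)

end Cfsg.Agent.Lib.Helper22.TwoCop
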