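/-
Helper22 library: two largest class sizes coprime. Part H: `C(y)` is abelian in general, and every
non-central element has class size `m` or `n`.
-/
import Mathlib
import Cfsg.Agent.Lib.Helper22.TwoCopG

set_option autoImplicit false

namespace Cfsg.Agent.Lib.Helper22.TwoCop

open Cfsg.Agent.Lib.Helper17.ClassGraph
open scoped commutatorElement

variable {G : Type*} [Group G] {m n : ℕ}

/-- Centralizers of elements of index `m` are abelian. -/
theorem Hyp.cent_abelian [Finite G] (h : Hyp G m n) {x y : G} (hx : ind x = n) (hy : ind y = m) :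
    ∀ c ∈ Subgroup.centralizer ({y} : Set G), ∀ b ∈ Subgroup.centralizer ({y} : Set G),
      Commute c b := by
  obtain ⟨q, hq, hqn, y', hcy, e, hy'q⟩ := h.exists_qelt_same_cent hx hy
  have hqm := h.prime_dvd_n_not_dvd_m hq hqn
  have hy' : ind y' = m := by rw [ind, hcy]; exact hy
  have hinf := h.inf_cent_eq_center hx hy' hq hqm hy'q
  have hZ := h.index_center hx hy' hinf
  rw [← hcy]
  by_cases hex : ∃ r : ℕ, r.Prime ∧ r ≠ q ∧ r ∣ n
  · obtain ⟨r, hr, hrq, hrn⟩ := hex
    exact h.cent_abelian_of_two_primes hx hy' hq hy'q hr hrq hrn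
  · push Not at hex
    have hn0 : n ≠ 0 := by have := h.hn; omega
    have hn : n = q ^ n.primeFactorsList.length :=
      Nat.eq_prime_pow_of_unique_prime_dvd hn0 (fun {d} hd hdn => by
        by_contra hne
        exact hex d hd hne hdn)
    exact h.cent_abelian_of_prime_pow hx hy' hq hqm hn hZ

/-- `|G : Z(G)| = n * m`. -/
theorem Hyp.index_center' [Finite G] (h : Hyp G m n) {x y : G} (hx : ind x = n) (hy : ind y = m) :
    (Subgroup.center G).index = n * m := by
  obtain ⟨q, hq, hqn, y', hcy, e, hy'q⟩ := h.exists_qelt_same_cent hx hy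
  have hqm := h.prime_dvd_n_not_dvd_m hq hqn
  have hy' : ind y' = m := by rw [ind, hcy]; exact hy
  exact h.index_center hx hy' (h.inf_cent_eq_center hx hy' hq hqm hy'q)

/-- `C(x) ∩ C(y) = Z(G)`. -/
theorem Hyp.inf_cent_eq_center' [Finite G] (h : Hyp G m n) {x y : G} (hx : ind x = n)
    (hy : ind y = m) :
    Subgroup.centralizer ({x} : Set G) ⊓ Subgroup.centralizer ({y} : Set G) =
      Subgroup.center G := by
  obtain ⟨q, hq, hqn, y', hcy, e, hy'q⟩ := h.exists_qelt_same_cent hx hy
  have hqm := h.prime_dvd_n_not_dvd_m hq hqn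
  have hy' : ind y' = m := by rw [ind, hcy]; exact hy
  rw [← hcy]
  exact h.inf_cent_eq_center hx hy' hq hqm hy'q

/-- (a): non-central elements of `C(v)`, `ind v = m`, have index `m`. -/
theorem Hyp.ind_eq_m_of_mem_cent [Finite G] (h : Hyp G m n) {x v b : G} (hx : ind x = n)
    (hv : ind v = m) (hb : b ∈ Subgroup.centralizer ({v} : Set G))
    (hbz : b ∉ Subgroup.center G) : ind b = m := by
  have hab := h.cent_abelian hx hv
  have hle : Subgroup.centralizer ({v} : Set G) ≤ Subgroup.centralizer ({b} : Set G) := by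
    intro c hc
    rw [mem_centralizer_singleton]
    exact hab c hc b hb
  rcases h.central_or_cent_eq hx hv hle with hz | ⟨hm, _⟩
  · exact absurd hz hbz
  · exact hm

/-- Sylow: a `q`-element is conjugate into any subgroup of index prime to `q`. -/
theorem exists_conj_mem_of_qelt [Finite G] {q : ℕ} (hq : q.Prime) (C : Subgroup G)
    (hC : ¬ q ∣ C.index) {s : G} {e : ℕ} (hs : s ^ (q ^ e) = 1) : ∃ g : G, g * s * g⁻¹ ∈ C := by
  haveI : Fact q.Prime := ⟨hq⟩
  obtain ⟨Q, hQ⟩ := exists_sylow_le_of_not_dvd_index C hC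
  have hP : IsPGroup q (Subgroup.zpowers s) := by
    rintro ⟨t, ht⟩
    obtain ⟨k, rfl⟩ := Subgroup.mem_zpowers_iff.mp ht
    refine ⟨e, ?_⟩
    apply Subtype.ext
    rw [Subgroup.coe_pow, Subgroup.coe_one]
    change (s ^ k) ^ (q ^ e) = 1
    rw [← zpow_natCast, ← zpow_mul, mul_comm, zpow_mul, zpow_natCast, hs, one_zpow]
  obtain ⟨Q', hQ'⟩ := hP.exists_le_sylow
  obtain ⟨g, hg⟩ := MulAction.exists_smul_eq G Q' Q
  refine ⟨g, hQ ?_⟩
  have hsQ' : s ∈ (Q' : Subgroup G) := hQ' (Subgroup.mem_zpowers s)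
  have : g * s * g⁻¹ ∈ ((g • Q' : Sylow q G) : Subgroup G) := by
    rw [Sylow.smul_def, Sylow.pointwise_smul_def]
    exact ⟨s, hsQ', rfl⟩
  rwa [hg] at this

/-- (b): non-central elements of `C(u)`, `ind u = n`, have index `n`. -/
theorem Hyp.ind_eq_n_of_mem_cent [Finite G] (h : Hyp G m n) {y u c : G} (hy : ind y = m)
    (hu : ind u = n) (hc : c ∈ Subgroup.centralizer ({u} : Set G))
    (hcz : c ∉ Subgroup.center G) : ind c = n := by
  have hZ := h.index_center' hu hy
  have hcu : Commute c u := by rwa [mem_centralizer_singleton] at hc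
  have claim : ∀ q : ℕ, q.Prime → ¬ q ∣ m →
      ¬ q ∣ (Subgroup.center G).relIndex (Subgroup.centralizer ({c} : Set G)) := by
    intro q hq hqm hd
    obtain ⟨s, hs, hsz, e, hse⟩ := exists_qelt hq _ hd
    rw [mem_centralizer_singleton] at hs
    have hsc : Commute s c := hs
    obtain ⟨g, hg⟩ := exists_conj_mem_of_qelt hq (Subgroup.centralizer ({y} : Set G))
      (by change ¬ q ∣ ind y; rw [hy]; exact hqm) hse
    rw [mem_centralizer_singleton] at hg
    -- `s` centralizes `v = g⁻¹ y g`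
    have hv : ind (g⁻¹ * y * g⁻¹⁻¹) = m := by rw [ind_conj]; exact hy
    have hsv : s ∈ Subgroup.centralizer ({g⁻¹ * y * g⁻¹⁻¹} : Set G) := by
      rw [mem_centralizer_singleton, inv_inv]
      calc s * (g⁻¹ * y * g) = g⁻¹ * ((g * s * g⁻¹) * y) * g := by group
        _ = g⁻¹ * (y * (g * s * g⁻¹)) * g := by rw [hg]
        _ = g⁻¹ * y * g * s := by group
    have hsm : ind s = m := h.ind_eq_m_of_mem_cent hu hv hsv hsz
    have hcs : c ∈ Subgroup.centralizer ({s} : Set G) := by
      rw [mem_centralizer_singleton]; exact hsc.symm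
    have hcm : ind c = m := h.ind_eq_m_of_mem_cent hu hsm hcs hcz
    exact h.not_commute hu hcm hcu.symm
  apply h.eq_n_of_dvd
  have h2 := Subgroup.relIndex_mul_index (Subgroup.center_le_centralizer ({c} : Set G))
  change _ * ind c = _ at h2
  rw [hZ] at h2
  have hcop : n.Coprime ((Subgroup.center G).relIndex (Subgroup.centralizer ({c} : Set G))) := by
    by_contra hnc
    obtain ⟨p, hp, hpn, hpr⟩ := Nat.Prime.not_coprime_iff_dvd.mp hnc
    exact claim p hp (h.prime_dvd_n_not_dvd_m hp hpn) hpr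
  have h3 : n ∣ (Subgroup.center G).relIndex (Subgroup.centralizer ({c} : Set G)) * ind c := by
    rw [h2]; exact dvd_mul_right n m
  exact hcop.dvd_of_dvd_mul_left h3

/-- Every non-central element has class size `m` or `n`. -/
theorem Hyp.cov [Finite G] (h : Hyp G m n) {x y : G} (hx : ind x = n) (hy : ind y = m) (g : G)
    (hg : ind g ≠ 1) : ind g = m ∨ ind g = n := by
  have hgz : g ∉ Subgroup.center G := fun hz => hg ((ind_eq_one_iff g).mpr hz)
  have hne : (Subgroup.center G).relIndex (Subgroup.zpowers g) ≠ 1 := by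
    intro h1
    rw [Subgroup.relIndex_eq_one] at h1
    exact hgz (h1 (Subgroup.mem_zpowers g))
  have hp := Nat.minFac_prime hne
  obtain ⟨a, ha, haz, e, hae⟩ := exists_qelt hp _ (Nat.minFac_dvd _)
  set p := ((Subgroup.center G).relIndex (Subgroup.zpowers g)).minFac with hpdef
  obtain ⟨k, rfl⟩ := Subgroup.mem_zpowers_iff.mp ha
  have hle : Subgroup.centralizer ({g} : Set G) ≤ Subgroup.centralizer ({g ^ k} : Set G) := by
    intro c hc
    rw [mem_centralizer_singleton] at hc ⊢
    exact (show Commute c g from hc).zpow_right k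
  by_cases hpm : p ∣ m
  · right
    have hpn : ¬ p ∣ n := fun hpn => h.prime_dvd_n_not_dvd_m hp hpn hpm
    obtain ⟨t, ht⟩ := exists_conj_mem_of_qelt hp (Subgroup.centralizer ({x} : Set G))
      (by change ¬ p ∣ ind x; rw [hx]; exact hpn) hae
    rw [mem_centralizer_singleton] at ht
    have hu : ind (t⁻¹ * x * t⁻¹⁻¹) = n := by rw [ind_conj]; exact hx
    have hau : g ^ k ∈ Subgroup.centralizer ({t⁻¹ * x * t⁻¹⁻¹} : Set G) := by
      rw [mem_centralizer_singleton, inv_inv]
      calc g ^ k * (t⁻¹ * x * t) = t⁻¹ * ((t * g ^ k * t⁻¹) * x) * t := by group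
        _ = t⁻¹ * (x * (t * g ^ k * t⁻¹)) * t := by rw [ht]
        _ = t⁻¹ * x * t * g ^ k := by group
    have han : ind (g ^ k) = n := h.ind_eq_n_of_mem_cent hy hu hau haz
    apply h.eq_n_of_dvd
    rw [← han]
    exact ind_dvd_of_le hle
  · left
    obtain ⟨t, ht⟩ := exists_conj_mem_of_qelt hp (Subgroup.centralizer ({y} : Set G))
      (by change ¬ p ∣ ind y; rw [hy]; exact hpm) hae
    rw [mem_centralizer_singleton] at ht
    have hv : ind (t⁻¹ * y * t⁻¹⁻¹) = m := by rw [ind_conj]; exact hy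
    have hav : g ^ k ∈ Subgroup.centralizer ({t⁻¹ * y * t⁻¹⁻¹} : Set G) := by
      rw [mem_centralizer_singleton, inv_inv]
      calc g ^ k * (t⁻¹ * y * t) = t⁻¹ * ((t * g ^ k * t⁻¹) * y) * t := by group
        _ = t⁻¹ * (y * (t * g ^ k * t⁻¹)) * t := by rw [ht]
        _ = t⁻¹ * y * t * g ^ k := by group
    have ham : ind (g ^ k) = m := h.ind_eq_m_of_mem_cent hx hv hav haz
    apply h.eq_m_of_dvd
    rw [← ham]
    exact ind_dvd_of_le hle

end Cfsg.Agent.Lib.Helper22.TwoCop
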