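/-
Helper22 library: two largest class sizes coprime. Part I: the Frobenius structure of `G / Z(G)`
for a prescribed complement (adapted from `Helper17.ClassGraph.Ctx.conclusion`).
-/
import Mathlib
import Cfsg.Prelude.Def_Solvable
import Cfsg.Agent.Lib.Helper17.ClassGraph5
import Cfsg.Agent.Lib.Helper22.TwoCopH

set_option autoImplicit false

namespace Cfsg.Agent.Lib.Helper22.TwoCop

open Cfsg.Agent.Lib.Helper17.ClassGraph
open scoped commutatorElement Pointwise

variable {G : Type*} [Group G] {m n : ℕ}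

/-- The Frobenius structure for a prescribed complement modulo the centre. -/
theorem conclusion_of_compl [Finite G] {A B : G → Prop} (c : Ctx A B) {H : Subgroup G}
    (hH : c.Compl H) {y₀ : G} (hy : (orderOf y₀).Coprime (Nat.card c.T)) (hy1 : ind y₀ ≠ 1) :
    Cfsg.IsFrobeniusComplement (H.map (QuotientGroup.mk' (Subgroup.center G))) ∧
    Cfsg.frobeniusKernel (H.map (QuotientGroup.mk' (Subgroup.center G))) =
      ((c.F.map (QuotientGroup.mk' (Subgroup.center G)) : Subgroup (G ⧸ Subgroup.center G)) :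
        Set (G ⧸ Subgroup.center G)) := by
  have := c.Fn
  have hmem : ∀ x : G, (QuotientGroup.mk' (Subgroup.center G) x) ∈
      H.map (QuotientGroup.mk' (Subgroup.center G)) ↔ x ∈ H := by
    intro x
    constructor
    · rintro ⟨h, hh, hhx⟩
      rw [QuotientGroup.mk'_apply, QuotientGroup.mk'_apply, QuotientGroup.eq] at hhx
      have := H.mul_mem hh (hH.center_le hhx)
      rwa [mul_inv_cancel_left] at this
    · intro hx; exact ⟨x, hx, rfl⟩
  have hone : ∀ x : G, (QuotientGroup.mk' (Subgroup.center G) x) = 1 ↔ x ∈ Subgroup.center G := by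
    intro x; rw [QuotientGroup.mk'_apply, QuotientGroup.eq_one_iff]
  -- kernel elements come from `F`
  have hker : ∀ x ∈ Cfsg.frobeniusKernel (H.map (QuotientGroup.mk' (Subgroup.center G))),
      ∃ f ∈ c.F, QuotientGroup.mk' (Subgroup.center G) f = x := by
    intro xb hxb
    obtain ⟨x, rfl⟩ := QuotientGroup.mk'_surjective (Subgroup.center G) xb
    obtain ⟨f, hf, h, hh, rfl⟩ := hH.factor x
    by_cases hh1 : ind h = 1
    · rw [ind_eq_one_iff] at hh1
      exact ⟨f * h, c.F.mul_mem hf (c.center_le_F hh1), rfl⟩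
    · rcases hxb with h1 | h2
      · exact ⟨1, c.F.one_mem, by rw [h1, map_one]⟩
      · exfalso
        obtain ⟨f', hf', z, hz, hfz⟩ := hH.sur_F hy hy1 hh hh1 hf
        apply h2 (QuotientGroup.mk' (Subgroup.center G) f')
        rw [mem_conj_smul', ← map_inv, ← map_mul, ← map_mul, hmem]
        have e1 : f' * h * f'⁻¹ = ⁅f', h⁆ * h := by rw [commutatorElement_def]; group
        have hzh : z * h = h * z := (Subgroup.mem_center_iff.mp hz h).symm
        have e2 : f'⁻¹ * (f * h) * f' = h * z⁻¹ := by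
          have e3 : f * h = f' * h * f'⁻¹ * z⁻¹ := by
            rw [e1, hfz, mul_assoc f z h, hzh]; group
          rw [e3]
          have hz' : f' * z⁻¹ = z⁻¹ * f' :=
            (Subgroup.mem_center_iff.mp (Subgroup.inv_mem _ hz) f')
          calc f'⁻¹ * (f' * h * f'⁻¹ * z⁻¹) * f' = h * f'⁻¹ * (z⁻¹ * f') := by group
            _ = h * f'⁻¹ * (f' * z⁻¹) := by rw [hz']
            _ = h * z⁻¹ := by group
        rw [e2]
        exact H.mul_mem hh (hH.center_le (Subgroup.inv_mem _ hz))
  refine ⟨⟨?_, ?_, ?_⟩, ?_⟩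
  · -- nontrivial
    obtain ⟨a, ha⟩ := c.exA
    obtain ⟨f, hf, h, hh, rfl⟩ := hH.factor a
    have hh1 : h ∉ Subgroup.center G := by
      intro hz
      exact c.not_mem_of_A ha (c.F.mul_mem hf (c.center_le_F hz))
    intro hbot
    have h1 : QuotientGroup.mk' (Subgroup.center G) h ∈
        H.map (QuotientGroup.mk' (Subgroup.center G)) := (hmem h).mpr hh
    rw [hbot, Subgroup.mem_bot, hone] at h1
    exact hh1 h1
  · -- proper
    obtain ⟨b₀, hb₀⟩ := c.exB
    intro htop
    have h1 : QuotientGroup.mk' (Subgroup.center G) b₀ ∈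
        H.map (QuotientGroup.mk' (Subgroup.center G)) := by rw [htop]; exact Subgroup.mem_top _
    rw [hmem] at h1
    have := hH.inf_le ⟨c.mem_of_B hb₀, h1⟩
    exact c.split.neB b₀ hb₀ ((ind_eq_one_iff b₀).mpr this)
  · -- TI
    intro gb hgb
    obtain ⟨g, rfl⟩ := QuotientGroup.mk'_surjective (Subgroup.center G) gb
    rw [hmem] at hgb
    rw [eq_bot_iff]
    intro xb hxb
    rw [Subgroup.mem_inf] at hxb
    obtain ⟨hx1, hx2⟩ := hxb
    obtain ⟨u, hu, rfl⟩ := hx1
    rw [mem_conj_smul', ← map_inv, ← map_mul, ← map_mul, hmem] at hx2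
    rw [Subgroup.mem_bot, hone]
    by_contra huZ
    have hu1 : ind u ≠ 1 := fun h => huZ ((ind_eq_one_iff u).mp h)
    obtain ⟨f, hf, h, hh, rfl⟩ := hH.factor g
    have hfZ : f ∉ Subgroup.center G := by
      intro hz
      exact hgb (H.mul_mem (hH.center_le hz) hh)
    have h3 : f⁻¹ * u * f ∈ H := by
      have := H.mul_mem (H.mul_mem hh hx2) (H.inv_mem hh)
      have e : h * ((f * h)⁻¹ * u * (f * h)) * h⁻¹ = f⁻¹ * u * f := by group
      rwa [e] at this
    have h4 : ⁅f⁻¹, u⁆ ∈ H := by
      have e : ⁅f⁻¹, u⁆ = f⁻¹ * u * f * u⁻¹ := by rw [commutatorElement_def, inv_inv]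
      rw [e]; exact H.mul_mem h3 (H.inv_mem hu)
    have hf' : f⁻¹ ∈ c.F := c.F.inv_mem hf
    have h5 : ⁅f⁻¹, u⁆ ∈ Subgroup.center G := hH.inf_le ⟨c.T_le_F (c.comm_mem_T hf' u), h4⟩
    have h6 := hH.fpf hy hy1 hu hu1 hf' h5
    have := Subgroup.inv_mem _ h6
    rw [inv_inv] at this
    exact hfZ this
  · -- the kernel is the image of `F`
    ext xb
    constructor
    · intro hxb
      obtain ⟨f, hf, rfl⟩ := hker xb hxb
      exact ⟨f, hf, rfl⟩
    · rintro ⟨f, hf, rfl⟩
      by_cases hfz : f ∈ Subgroup.center G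
      · left
        exact (hone f).mpr hfz
      · right
        intro gb hmemg
        obtain ⟨g, rfl⟩ := QuotientGroup.mk'_surjective (Subgroup.center G) gb
        rw [mem_conj_smul', ← map_inv, ← map_mul, ← map_mul, hmem] at hmemg
        have hfF : g⁻¹ * f * g ∈ c.F := by
          have := c.Fn.conj_mem f hf g⁻¹
          rwa [inv_inv] at this
        have hz := hH.inf_le ⟨hfF, hmemg⟩
        apply hfz
        have e : f = g * (g⁻¹ * f * g) * g⁻¹ := by group
        rw [e]
        exact (inferInstance : (Subgroup.center G).Normal).conj_mem _ hz g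

end Cfsg.Agent.Lib.Helper22.TwoCop
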