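import Mathlib
import Cfsg.Prelude.Def_Transfer
import Cfsg.Agent.Lib.Helper1.PGroup
import Cfsg.Agent.Lib.Helper1.HuppertMeta
import Cfsg.Agent.Lib.Helper12.LBalance

/-!
helper22: generic lemmas for finite groups whose Sylow `p`-subgroups are generated by two elements
(pieces for S4172).
-/

set_option autoImplicit false
set_option linter.unusedSectionVars false

namespace Cfsg.Agent.Lib.Helper22.TwoGen

open Subgroup

section pgroup
variable {Q : Type*} [Group Q] [Finite Q] {p : ℕ} [hp : Fact p.Prime]

/-- the join of `A ≰ Φ(Q)` with `Φ(Q)` has index at most `p` when `|Q : Φ(Q)| = p²` -/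
theorem index_sup_frattini_dvd (hidx : (frattini Q).index = p ^ 2) (A : Subgroup Q)
    (hA : ¬ A ≤ frattini Q) {B : Subgroup Q} (hAB : A ≤ B) (hFB : frattini Q ≤ B) :
    B.index = 1 ∨ B.index = p := by
  have hpp := hp.out
  have h1 : B.index ∣ p ^ 2 := by rw [← hidx]; exact index_dvd_of_le hFB
  obtain ⟨k, hk, hBk⟩ := (Nat.dvd_prime_pow hpp).mp h1
  have h2 := relIndex_mul_index hFB
  rw [hidx, hBk] at h2
  interval_cases k
  · left; simpa using hBk
  · right; simpa using hBk
  · exfalso
    have h3 : (frattini Q).relIndex B = 1 := by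
      have hpos : 0 < p ^ 2 := pow_pos hpp.pos 2
      exact Nat.eq_of_mul_eq_mul_right hpos (by rw [h2, one_mul])
    exact hA (hAB.trans (relIndex_eq_one.mp h3))

/-- **cyclic quotient trick**: `Q' ≤ A` for every normal `A ≰ Φ(Q)` when `|Q : Φ(Q)| = p²` -/
theorem commutator_le_of_not_le_frattini (hQ : IsPGroup p Q) (hidx : (frattini Q).index = p ^ 2)
    (A : Subgroup Q) [hAn : A.Normal] (hA : ¬ A ≤ frattini Q) : commutator Q ≤ A := by
  have hpp := hp.out
  have hQA : IsPGroup p (Q ⧸ A) := hQ.to_quotient A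
  set B : Subgroup Q := (frattini (Q ⧸ A)).comap (QuotientGroup.mk' A) with hB
  have hFB : frattini Q ≤ B :=
    frattini_le_comap_frattini_of_surjective (QuotientGroup.mk'_surjective A)
  have hAB : A ≤ B := by
    intro a ha
    show QuotientGroup.mk' A a ∈ frattini (Q ⧸ A)
    have h1 : QuotientGroup.mk' A a = 1 := (QuotientGroup.eq_one_iff a).mpr ha
    rw [h1]
    exact one_mem _
  have hBidx : B.index = (frattini (Q ⧸ A)).index :=
    index_comap_of_surjective _ (QuotientGroup.mk'_surjective A)
  have hle : (frattini (Q ⧸ A)).index ≤ p := by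
    rw [← hBidx]
    rcases index_sup_frattini_dvd hidx A hA hAB hFB with h | h
    · rw [h]; exact hpp.one_lt.le
    · rw [h]
  have hcomm := Cfsg.Agent.Lib.Helper1.HuppertMeta.commutative_of_index_frattini_le hQA hle
  have : IsMulCommutative (Q ⧸ A) := isMulCommutative_iff.mpr hcomm
  exact Subgroup.Normal.quotient_commutative_iff_commutator_le.mp this

/-- `Q = ⟨a⟩ A` for some `a`, for every normal `A ≰ Φ(Q)` when `|Q : Φ(Q)| = p²` -/
theorem exists_zpowers_sup_eq_top (hidx : (frattini Q).index = p ^ 2)
    (A : Subgroup Q) (hA : ¬ A ≤ frattini Q) : ∃ a : Q, zpowers a ⊔ A = ⊤ := by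
  have hpp := hp.out
  set M : Subgroup Q := A ⊔ frattini Q with hM
  by_cases hMtop : M = ⊤
  · exact ⟨1, by rw [zpowers_one_eq_bot, bot_sup_eq]; exact frattini_nongenerating hMtop⟩
  · have hMidx : M.index = p := by
      rcases index_sup_frattini_dvd hidx A hA (le_sup_left : A ≤ M) le_sup_right with h | h
      · exact absurd (index_eq_one.mp h) hMtop
      · exact h
    obtain ⟨a, -, ha⟩ := SetLike.exists_of_lt (lt_top_iff_ne_top.mpr hMtop)
    refine ⟨a, ?_⟩
    apply frattini_nongenerating
    rw [sup_assoc, ← hM]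
    have hlt : M < zpowers a ⊔ M := by
      refine lt_of_le_of_ne le_sup_right ?_
      intro h
      apply ha
      rw [h]
      exact le_sup_left (a := zpowers a) (mem_zpowers a)
    have h1 : (zpowers a ⊔ M).index ∣ p := by rw [← hMidx]; exact index_dvd_of_le le_sup_right
    rcases (Nat.dvd_prime hpp).mp h1 with h | h
    · exact index_eq_one.mp h
    · exfalso
      have h2 := relIndex_mul_index (le_sup_right : M ≤ zpowers a ⊔ M)
      rw [h, hMidx] at h2
      have h3 : M.relIndex (zpowers a ⊔ M) = 1 :=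
        Nat.eq_of_mul_eq_mul_right hpp.pos (by rw [h2, one_mul])
      exact hlt.not_ge (relIndex_eq_one.mp h3)

end pgroup

/-- the Frattini subgroup is transported by isomorphisms -/
theorem frattini_comap_equiv {A B : Type*} [Group A] [Group B] (e : A ≃* B) :
    (frattini B).comap e.toMonoidHom = frattini A := by
  apply le_antisymm
  · have h := frattini_le_comap_frattini_of_surjective (φ := e.symm.toMonoidHom) e.symm.surjective
    intro x hx
    have hx' : e x ∈ frattini B := hx
    have := h hx'
    simpa using this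
  · exact frattini_le_comap_frattini_of_surjective (φ := e.toMonoidHom) e.surjective

theorem index_frattini_equiv {A B : Type*} [Group A] [Group B] (e : A ≃* B) :
    (frattini A).index = (frattini B).index := by
  rw [← frattini_comap_equiv e]
  exact index_comap_of_surjective _ e.surjective

section transfer
variable {X : Type*} [Group X] [Finite X] {p : ℕ} [hp : Fact p.Prime]

/-- `Z(X) ∩ X' ∩ S ≤ S'` for a Sylow `p`-subgroup `S` (transfer) -/
theorem mem_commutator_sylow_of_mem_center (S : Sylow p X) {z : X} (hz : z ∈ center X)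
    (hzc : z ∈ commutator X) (hzS : z ∈ (S : Subgroup X)) :
    (⟨z, hzS⟩ : ↥(S : Subgroup X)) ∈ commutator ↥(S : Subgroup X) := by
  set V := MonoidHom.transfer
    (Abelianization.of : ↥(S : Subgroup X) →* Abelianization ↥(S : Subgroup X)) with hV
  have hkey : ∀ (k : ℕ) (g₀ : X), g₀⁻¹ * z ^ k * g₀ ∈ (S : Subgroup X) →
      g₀⁻¹ * z ^ k * g₀ = z ^ k := by
    intro k g₀ _
    have hc : z ^ k ∈ center X := (center X).pow_mem hz k
    rw [mem_center_iff] at hc
    rw [mul_assoc, ← hc g₀, inv_mul_cancel_left]
  have h1 : V z = Abelianization.of ⟨z ^ (S : Subgroup X).index, (S : Subgroup X).pow_mem hzS _⟩ :=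
    MonoidHom.transfer_eq_pow _ z hkey
  have h2 : V z = 1 := by
    have hker : commutator X ≤ V.ker := by
      rw [commutator_def]
      exact Abelianization.commutator_subset_ker V
    exact hker hzc
  rw [h1, ← MonoidHom.mem_ker, Abelianization.ker_of] at h2
  have hcop : (Nat.card ↥(S : Subgroup X)).Coprime (S : Subgroup X).index := S.card_coprime_index
  have e : (⟨z, hzS⟩ : ↥(S : Subgroup X)) =
      (powCoprime hcop).symm ((⟨z, hzS⟩ : ↥(S : Subgroup X)) ^ (S : Subgroup X).index) := by
    rw [Equiv.eq_symm_apply]; rfl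
  rw [e]
  have h3 : ((⟨z, hzS⟩ : ↥(S : Subgroup X)) ^ (S : Subgroup X).index) ∈
      commutator ↥(S : Subgroup X) := by
    convert h2 using 1
    exact Subtype.ext (by simp)
  show ((⟨z, hzS⟩ : ↥(S : Subgroup X)) ^ (S : Subgroup X).index) ^
    ((Nat.card ↥(S : Subgroup X)).gcdB (S : Subgroup X).index) ∈ commutator ↥(S : Subgroup X)
  exact Subgroup.zpow_mem _ h3 _

/-- a perfect subgroup of a group with a normal `p`-complement has order prime to `p` -/
theorem coprime_card_of_perfect (h : Cfsg.HasNormalPComplement p X) (L : Subgroup X)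
    (hL : ⁅L, L⁆ = L) : (Nat.card L).Coprime p := by
  obtain ⟨S, M, hMn, hMS⟩ := h
  have hidx : M.index = Nat.card ↥(S : Subgroup X) := by
    have := hMS.symm.index_eq_card
    exact this
  have hQp : IsPGroup p (X ⧸ M) := by
    obtain ⟨k, hk⟩ := IsPGroup.iff_card.mp S.isPGroup'
    apply IsPGroup.of_card (n := k)
    rw [← Subgroup.index_eq_card, hidx, hk]
  have : Group.IsNilpotent (X ⧸ M) := hQp.isNilpotent
  have hLM : L.map (QuotientGroup.mk' M) = ⊥ := by
    apply Cfsg.Agent.Lib.Helper12.eq_bot_of_perfect_of_isSolvable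
    rw [← Subgroup.map_commutator, hL]
  have hle : L ≤ M := by
    intro x hx
    have : QuotientGroup.mk' M x ∈ L.map (QuotientGroup.mk' M) := mem_map_of_mem _ hx
    rw [hLM, mem_bot] at this
    exact (QuotientGroup.eq_one_iff x).mp this
  have hMcop : (Nat.card M).Coprime p := by
    have h1 : Nat.card M = (S : Subgroup X).index := hMS.index_eq_card.symm
    rw [h1]
    have hnd : ¬ p ∣ (S : Subgroup X).index := S.not_dvd_index
    exact (Nat.Prime.coprime_iff_not_dvd hp.out).mpr hnd |>.symm
  exact Nat.Coprime.coprime_dvd_left (Subgroup.card_dvd_of_le hle) hMcop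

end transfer

end Cfsg.Agent.Lib.Helper22.TwoGen
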