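import Mathlib
import Cfsg.Prelude.Def_Local
import Cfsg.Agent.S0081
import Cfsg.Agent.Lib.Helper9.PComponent
import Cfsg.Agent.Lib.Helper22.TwoGenA

/-!
helper22: S4172, part B: the setting; Tate's theorem gives `K ∩ P ≰ Φ(P)` for nontrivial normal `K`;
two such subgroups cannot meet trivially in `P`; unique minimal normal subgroup; cyclic image.
-/

set_option autoImplicit false
set_option linter.unusedSectionVars false

namespace Cfsg.Agent.Lib.Helper22.TwoGen

open Subgroup

variable {G : Type*} [Group G] [Finite G] {p : ℕ} [hp : Fact p.Prime]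

/-- `Φ(P)` viewed in `G` -/
abbrev phiOf (P : Sylow p G) : Subgroup G :=
  (frattini ↥(P : Subgroup G)).map (P : Subgroup G).subtype

theorem subgroupOf_le_frattini_iff (P : Sylow p G) (K : Subgroup G) :
    K.subgroupOf (P : Subgroup G) ≤ frattini ↥(P : Subgroup G) ↔
      K ⊓ (P : Subgroup G) ≤ phiOf P := by
  constructor
  · intro h x hx
    obtain ⟨hxK, hxP⟩ := mem_inf.mp hx
    exact ⟨⟨x, hxP⟩, h (mem_subgroupOf.mpr hxK), rfl⟩
  · intro h y hy
    have hyK : (y : G) ∈ K := mem_subgroupOf.mp hy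
    obtain ⟨w, hw, hwy⟩ := h (mem_inf.mpr ⟨hyK, y.2⟩)
    have : w = y := Subtype.ext hwy
    rw [← this]; exact hw

/-- `P' ≤ Φ(P)`, in `G` -/
theorem commutator_sylow_le_phiOf (P : Sylow p G) :
    ⁅(P : Subgroup G), (P : Subgroup G)⁆ ≤ phiOf P := by
  have h1 : commutator ↥(P : Subgroup G) ≤ frattini ↥(P : Subgroup G) :=
    Cfsg.Agent.Lib.Helper1.IsPGroup.commutator_le_frattini P.isPGroup'
  have h2 := Subgroup.map_mono (f := (P : Subgroup G).subtype) h1
  rw [commutator_def, Subgroup.map_commutator, ← MonoidHom.range_eq_map, Subgroup.range_subtype]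
    at h2
  exact h2

/-- Two subgroups normalized by `P`, neither meeting `P` inside `Φ(P)`, cannot meet trivially in
`P` unless `P` is abelian. -/
theorem isMulCommutative_of_two (P : Sylow p G)
    (hgen : (frattini ↥(P : Subgroup G)).index = p ^ 2) (K₁ K₂ : Subgroup G)
    (hn₁ : (P : Subgroup G) ≤ normalizer (K₁ : Set G))
    (hn₂ : (P : Subgroup G) ≤ normalizer (K₂ : Set G))
    (h₁ : ¬ K₁ ⊓ (P : Subgroup G) ≤ phiOf P) (h₂ : ¬ K₂ ⊓ (P : Subgroup G) ≤ phiOf P)
    (hint : K₁ ⊓ K₂ ⊓ (P : Subgroup G) = ⊥) : IsMulCommutative ↥(P : Subgroup G) := by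
  haveI : (K₁.subgroupOf (P : Subgroup G)).Normal := normal_subgroupOf_of_le_normalizer hn₁
  haveI : (K₂.subgroupOf (P : Subgroup G)).Normal := normal_subgroupOf_of_le_normalizer hn₂
  have hc₁ := commutator_le_of_not_le_frattini P.isPGroup' hgen (K₁.subgroupOf (P : Subgroup G))
    (fun h => h₁ ((subgroupOf_le_frattini_iff P K₁).mp h))
  have hc₂ := commutator_le_of_not_le_frattini P.isPGroup' hgen (K₂.subgroupOf (P : Subgroup G))
    (fun h => h₂ ((subgroupOf_le_frattini_iff P K₂).mp h))
  have hbot : commutator ↥(P : Subgroup G) = ⊥ := by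
    rw [eq_bot_iff]
    intro y hy
    have hy1 : (y : G) ∈ K₁ := mem_subgroupOf.mp (hc₁ hy)
    have hy2 : (y : G) ∈ K₂ := mem_subgroupOf.mp (hc₂ hy)
    have : (y : G) ∈ K₁ ⊓ K₂ ⊓ (P : Subgroup G) := mem_inf.mpr ⟨mem_inf.mpr ⟨hy1, hy2⟩, y.2⟩
    rw [hint, mem_bot] at this
    rw [mem_bot]
    exact Subtype.ext this
  rw [commutator_def, commutator_eq_bot_iff_le_centralizer] at hbot
  refine ⟨⟨fun a b => ?_⟩⟩
  have := hbot (mem_top a)
  rw [mem_centralizer_iff] at this
  exact (this b (mem_top b)).symm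

/-- **Tate**: a nontrivial normal subgroup `K` of `G` does not meet `P` inside `Φ(P)`, when
`O_{p'}(G) = 1` and `Φ(P)` is core-free. -/
theorem not_inf_le_phiOf (P : Sylow p G) (hcore : Cfsg.pPrimeCore p G = ⊥)
    (hfrat : (phiOf P).normalCore = ⊥) (K : Subgroup G) [hK : K.Normal] (hK1 : K ≠ ⊥) :
    ¬ K ⊓ (P : Subgroup G) ≤ phiOf P := by
  intro h
  obtain ⟨S, M, hMn, hMS⟩ := Cfsg.Agent.S0081.result P K h
  -- the complement is a subnormal `p'`-subgroup, hence trivial
  have hMbot : M = ⊥ := by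
    have hsub : (M.map K.subtype).IsSubnormal := by
      refine Subgroup.IsSubnormal.step (M.map K.subtype) K (map_subtype_le M) hK.isSubnormal ?_
      have : (M.map K.subtype).subgroupOf K = M := by
        rw [subgroupOf, comap_map_eq_self_of_injective K.subtype_injective]
      rw [this]; exact hMn
    have hcop : (Nat.card ↥(M.map K.subtype)).Coprime p := by
      rw [card_map_of_injective K.subtype_injective]
      have h1 : Nat.card M = (S : Subgroup K).index := hMS.index_eq_card.symm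
      rw [h1]
      exact ((Nat.Prime.coprime_iff_not_dvd hp.out).mpr S.not_dvd_index).symm
    have hle := Cfsg.Agent.Lib.Helper9.subnormal_le_pPrimeCore p hsub hcop
    rw [hcore, le_bot_iff] at hle
    exact (map_eq_bot_iff_of_injective M K.subtype_injective).mp hle
  rw [hMbot, isComplement'_bot_left] at hMS
  have hKp : IsPGroup p ↥K := by
    have h1 : IsPGroup p ↥(S : Subgroup K) := S.isPGroup'
    rw [hMS] at h1
    exact h1.of_equiv Subgroup.topEquiv
  have hKP : K ≤ (P : Subgroup G) := hKp.le_sylow_of_normal P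
  have hKΦ : K ≤ phiOf P := by
    have := h
    rwa [inf_of_le_left hKP] at this
  have : K ≤ (phiOf P).normalCore := normal_le_normalCore.mpr hKΦ
  rw [hfrat, le_bot_iff] at this
  exact hK1 this

end Cfsg.Agent.Lib.Helper22.TwoGen
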