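import Mathlib
import Cfsg.Agent.Lib.Helper22.TwoGenB

/-!
helper22: S4172, part C: the hypotheses package, the unique minimal normal subgroup, the cyclic
image, and the relative norm lemma.
-/

set_option autoImplicit false
set_option linter.unusedSectionVars false

namespace Cfsg.Agent.Lib.Helper22.TwoGen

open Subgroup

variable {G : Type*} [Group G] [Finite G] {p : ℕ} [hp : Fact p.Prime]

/-- the hypotheses of S4172 -/
structure Setting (P : Sylow p G) : Prop where
  hna : ¬ IsMulCommutative ↥(P : Subgroup G)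
  hgen : (frattini ↥(P : Subgroup G)).index = p ^ 2
  hcore : Cfsg.pPrimeCore p G = ⊥
  hfrat : (phiOf P).normalCore = ⊥

/-- `N` is the unique minimal normal subgroup of `G` -/
structure IsMinNormal (N : Subgroup G) : Prop where
  normal : N.Normal
  ne_bot : N ≠ ⊥
  le : ∀ K : Subgroup G, K.Normal → K ≠ ⊥ → N ≤ K

theorem Setting.not_inf_le {P : Sylow p G} (h : Setting P) (K : Subgroup G) [hK : K.Normal]
    (hK1 : K ≠ ⊥) : ¬ K ⊓ (P : Subgroup G) ≤ phiOf P :=
  not_inf_le_phiOf P h.hcore h.hfrat K hK1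

theorem Setting.false_of_two {P : Sylow p G} (h : Setting P) (K₁ K₂ : Subgroup G)
    (hn₁ : (P : Subgroup G) ≤ normalizer (K₁ : Set G))
    (hn₂ : (P : Subgroup G) ≤ normalizer (K₂ : Set G))
    (h₁ : ¬ K₁ ⊓ (P : Subgroup G) ≤ phiOf P) (h₂ : ¬ K₂ ⊓ (P : Subgroup G) ≤ phiOf P)
    (hint : K₁ ⊓ K₂ ⊓ (P : Subgroup G) = ⊥) : False :=
  h.hna (isMulCommutative_of_two P h.hgen K₁ K₂ hn₁ hn₂ h₁ h₂ hint)

theorem Setting.exists_isMinNormal {P : Sylow p G} (h : Setting P) :
    ∃ N : Subgroup G, IsMinNormal N := by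
  let T : Set (Subgroup G) := {K | K.Normal ∧ K ≠ ⊥}
  have hTne : T.Nonempty := by
    refine ⟨⊤, inferInstance, ?_⟩
    intro htop
    apply h.hna
    have h1 : ∀ x : G, x = 1 := fun x => by
      have : x ∈ (⊤ : Subgroup G) := mem_top x
      rw [htop] at this
      exact mem_bot.mp this
    refine ⟨⟨fun a b => Subtype.ext ?_⟩⟩
    rw [h1 (a * b : ↥(P : Subgroup G)), h1 (b * a : ↥(P : Subgroup G))]
  obtain ⟨N, ⟨hNn, hN1⟩, hmin⟩ := (wellFounded_lt (α := Subgroup G)).has_min T hTne
  refine ⟨N, hNn, hN1, ?_⟩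
  intro K hKn hK1
  by_contra hNK
  have hlt : N ⊓ K < N := by
    refine lt_of_le_of_ne inf_le_left ?_
    intro heq
    exact hNK (heq ▸ inf_le_right)
  have hbot : N ⊓ K = ⊥ := by
    by_contra hne
    exact hmin (N ⊓ K) ⟨inferInstance, hne⟩ hlt
  apply h.false_of_two N K
  · rw [normalizer_eq_top_iff.mpr hNn]; exact le_top
  · rw [normalizer_eq_top_iff.mpr hKn]; exact le_top
  · exact h.not_inf_le N hN1
  · exact h.not_inf_le K hK1
  · rw [hbot, bot_inf_eq]

/-- `P = ⟨a⟩ (P ∩ K)` for every nontrivial normal `K` -/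
theorem Setting.exists_gen {P : Sylow p G} (h : Setting P) (K : Subgroup G) [hK : K.Normal]
    (hK1 : K ≠ ⊥) : ∃ a : ↥(P : Subgroup G), zpowers a ⊔ K.subgroupOf (P : Subgroup G) = ⊤ :=
  exists_zpowers_sup_eq_top h.hgen (K.subgroupOf (P : Subgroup G))
    (fun hle => h.not_inf_le K hK1 ((subgroupOf_le_frattini_iff P K).mp hle))

/-- `P' ≤ K` for every nontrivial normal `K` -/
theorem Setting.commutator_le {P : Sylow p G} (h : Setting P) (K : Subgroup G) [hK : K.Normal]
    (hK1 : K ≠ ⊥) : ⁅(P : Subgroup G), (P : Subgroup G)⁆ ≤ K := by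
  haveI : (K.subgroupOf (P : Subgroup G)).Normal := hK.subgroupOf _
  have h1 := commutator_le_of_not_le_frattini P.isPGroup' h.hgen (K.subgroupOf (P : Subgroup G))
    (fun hle => h.not_inf_le K hK1 ((subgroupOf_le_frattini_iff P K).mp hle))
  have h2 := Subgroup.map_mono (f := (P : Subgroup G).subtype) h1
  rw [commutator_def, Subgroup.map_commutator, ← MonoidHom.range_eq_map, Subgroup.range_subtype]
    at h2
  refine h2.trans ?_
  rintro _ ⟨y, hy, rfl⟩
  exact mem_subgroupOf.mp hy

/-- the image of `P` modulo a nontrivial normal subgroup is cyclic -/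
theorem Setting.isCyclic_map {P : Sylow p G} (h : Setting P) (F : Subgroup G) [hF : F.Normal]
    (hF1 : F ≠ ⊥) : IsCyclic ↥((P : Subgroup G).map (QuotientGroup.mk' F)) := by
  obtain ⟨a, ha⟩ := h.exists_gen F hF1
  set φ : ↥(P : Subgroup G) →* G ⧸ F := (QuotientGroup.mk' F).comp (P : Subgroup G).subtype with hφ
  have h1 : (P : Subgroup G).map (QuotientGroup.mk' F) = φ.range := by
    rw [hφ, MonoidHom.range_comp, Subgroup.range_subtype]
  have h2 : φ.range = zpowers (φ a) := by
    rw [MonoidHom.range_eq_map, ← ha, Subgroup.map_sup, MonoidHom.map_zpowers]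
    have : (F.subgroupOf (P : Subgroup G)).map φ = ⊥ := by
      rw [eq_bot_iff]
      rintro _ ⟨y, hy, rfl⟩
      rw [mem_bot]
      exact (QuotientGroup.eq_one_iff _).mpr (mem_subgroupOf.mp hy)
    rw [this, sup_bot_eq]
  rw [h1, h2]
  exact isCyclic_zpowers _

end Cfsg.Agent.Lib.Helper22.TwoGen

namespace Cfsg.Agent.Lib.Helper22.TwoGen

/-- **relative norm**: if `S ≤ H` fixes `b` in the commutative group `A` on which `H` acts, the
product of the `H/S`-conjugates of `b` is `H`-fixed, and congruent to `b ^ |H : S|` modulo any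
subgroup `B` containing all `φ h b / b`. -/
theorem exists_norm {H A : Type*} [Group H] [Finite H] [CommGroup A] (φ : H →* MulAut A)
    (S : Subgroup H) (B : Subgroup A) (b : A) (hS : ∀ s ∈ S, φ s b = b)
    (hB : ∀ h : H, φ h b / b ∈ B) :
    ∃ r : A, (∀ h : H, φ h r = r) ∧ r / b ^ S.index ∈ B := by
  classical
  haveI : Fintype (H ⧸ S) := Fintype.ofFinite _
  let F : H ⧸ S → A := Quotient.lift (fun g : H => φ g b) (by
    intro g₁ g₂ hg
    have hg' : g₁⁻¹ * g₂ ∈ S := QuotientGroup.leftRel_apply.mp hg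
    have h1 := hS _ hg'
    show φ g₁ b = φ g₂ b
    have : g₂ = g₁ * (g₁⁻¹ * g₂) := by group
    rw [this, map_mul, MulAut.mul_apply, h1])
  have hF : ∀ g : H, F (QuotientGroup.mk g) = φ g b := fun g => rfl
  refine ⟨∏ q : H ⧸ S, F q, ?_, ?_⟩
  · intro h
    rw [map_prod]
    have h1 : ∀ q : H ⧸ S, φ h (F q) = F (h • q) := by
      intro q
      induction q using QuotientGroup.induction_on with
      | H g =>
        rw [hF, MulAction.Quotient.smul_mk, hF, smul_eq_mul, map_mul, MulAut.mul_apply]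
    simp_rw [h1]
    exact (MulAction.bijective h).prod_comp F
  · have h1 : (∏ q : H ⧸ S, F q) / b ^ S.index = ∏ q : H ⧸ S, (F q / b) := by
      rw [Finset.prod_div_distrib, Finset.prod_const, Finset.card_univ, Subgroup.index,
        Nat.card_eq_fintype_card]
    rw [h1]
    apply Subgroup.prod_mem
    intro q _
    induction q using QuotientGroup.induction_on with
    | H g => rw [hF]; exact hB g

end Cfsg.Agent.Lib.Helper22.TwoGen
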