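import Mathlib
import Cfsg.Agent.Lib.Helper9.FStar2
import Cfsg.Agent.Lib.Helper9.PComponent
import Cfsg.Agent.Lib.Helper16.Minimal
import Cfsg.Agent.Lib.Helper22.TwoGenC

/-!
helper22: S4172, part D: `F*(G)` is the unique minimal normal subgroup.
-/

set_option autoImplicit false
set_option linter.unusedSectionVars false
set_option linter.style.haveILetI false

namespace Cfsg.Agent.Lib.Helper22.TwoGen

open Subgroup

section general

/-- a `p`-element whose `m`-th power lies in `K`, `m` prime to `p`, lies in `K` -/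
theorem mem_of_pow_mem_of_coprime {X : Type*} [Group X] {p : ℕ} (K : Subgroup X) (b : X) (k : ℕ)
    (hb : b ^ (p ^ k) = 1) (m : ℕ) (hm : m.Coprime p) (h : b ^ m ∈ K) : b ∈ K := by
  have hc : m.Coprime (p ^ k) := Nat.Coprime.pow_right k hm
  have h1 := Nat.gcd_eq_gcd_ab m (p ^ k)
  rw [hc] at h1
  have h2 : b = (b ^ m) ^ (m.gcdA (p ^ k)) * (b ^ (p ^ k)) ^ (m.gcdB (p ^ k)) := by
    rw [← zpow_natCast b m, ← zpow_natCast b (p ^ k), ← zpow_mul, ← zpow_mul, ← zpow_add, ← h1]
    simp
  rw [h2, hb, one_zpow, mul_one]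
  exact K.zpow_mem h _

/-- a group generated by a cyclic subgroup and a central subgroup is commutative -/
theorem commutative_of_zpowers_sup {Q : Type*} [Group Q] (a : Q) (A : Subgroup Q)
    (hA : A ≤ center Q) (h : zpowers a ⊔ A = ⊤) : ∀ x y : Q, x * y = y * x := by
  have ha : a ∈ center Q := by
    have h1 : zpowers a ⊔ A ≤ centralizer {a} := by
      refine sup_le ?_ (hA.trans (center_le_centralizer _))
      rw [zpowers_le]
      exact mem_centralizer_singleton_iff.mpr rfl
    rw [h] at h1
    rw [mem_center_iff]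
    intro g
    exact mem_centralizer_singleton_iff.mp (h1 (mem_top g))
  have htop : center Q = ⊤ := by
    rw [eq_top_iff, ← h]
    exact sup_le (zpowers_le.mpr ha) hA
  intro x y
  have hx : x ∈ center Q := htop ▸ mem_top x
  exact ((mem_center_iff.mp hx) y).symm

end general

variable {G : Type*} [Group G] [Finite G] {p : ℕ} [hp : Fact p.Prime]

theorem IsMinNormal.le_fstar {N : Subgroup G} (hN : IsMinNormal N) :
    N ≤ Cfsg.generalizedFittingSubgroup G := by
  apply hN.le _ Cfsg.Agent.Lib.Helper9.generalizedFittingSubgroup_normal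
  intro hbot
  have h1 := Cfsg.Agent.Lib.Helper9.centralizer_generalizedFittingSubgroup_le (G := G)
  rw [hbot] at h1
  apply hN.ne_bot
  rw [eq_bot_iff]
  refine le_trans ?_ h1
  intro x _
  rw [mem_centralizer_iff]
  intro y hy
  have : y = 1 := mem_bot.mp hy
  rw [this, one_mul, mul_one]

theorem Setting.fitting_isPGroup {P : Sylow p G} (h : Setting P) :
    IsPGroup p ↥(Cfsg.fittingSubgroup G) := by
  rw [Cfsg.Agent.Lib.Helper9.fittingSubgroup_eq_pCore_of_pPrimeCore_eq_bot p h.hcore]
  exact Cfsg.Agent.Lib.Helper1.pCore_isPGroup p G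

theorem Setting.fitting_le {P : Sylow p G} (h : Setting P) :
    Cfsg.fittingSubgroup G ≤ (P : Subgroup G) := by
  rw [Cfsg.Agent.Lib.Helper9.fittingSubgroup_eq_pCore_of_pPrimeCore_eq_bot p h.hcore]
  exact Cfsg.Agent.Lib.Helper1.pCore_le_sylow P

/-- a normal subgroup of `G` inside `Φ(P)` is trivial -/
theorem Setting.eq_bot_of_le_phiOf {P : Sylow p G} (h : Setting P) (K : Subgroup G)
    [hK : K.Normal] (hle : K ≤ phiOf P) : K = ⊥ := by
  have : K ≤ (phiOf P).normalCore := normal_le_normalCore.mpr hle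
  rwa [h.hfrat, le_bot_iff] at this

/-- normal subgroups of `G` inside `P` are abelian -/
theorem Setting.commutator_eq_bot {P : Sylow p G} (h : Setting P) (Q : Subgroup G)
    [hQ : Q.Normal] (hQP : Q ≤ (P : Subgroup G)) : ⁅Q, Q⁆ = ⊥ := by
  apply h.eq_bot_of_le_phiOf
  exact (commutator_mono hQP hQP).trans (commutator_sylow_le_phiOf P)

/-! ### the non-abelian case -/

theorem IsMinNormal.centralizer_eq_bot {N : Subgroup G} (hN : IsMinNormal N)
    (hab : ¬ IsMulCommutative ↥N) : centralizer (N : Set G) = ⊥ := by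
  haveI := hN.normal
  by_contra hne
  have := hN.le _ normal_centralizer hne
  exact hab (le_centralizer_iff_isMulCommutative.mp this)

theorem Setting.fitting_eq_bot_of_nonabelian {P : Sylow p G} (h : Setting P) {N : Subgroup G}
    (hN : IsMinNormal N) (hab : ¬ IsMulCommutative ↥N) : Cfsg.fittingSubgroup G = ⊥ := by
  by_contra hne
  have hNQ : N ≤ Cfsg.fittingSubgroup G :=
    hN.le _ (Cfsg.Agent.Lib.Helper1.fittingSubgroup_normal G) hne
  have hNp : IsPGroup p ↥N := h.fitting_isPGroup.to_le hNQ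
  haveI : Nontrivial ↥N := (nontrivial_iff_ne_bot N).mpr hN.ne_bot
  have hnt : Nontrivial ↥(center ↥N) := hNp.center_nontrivial
  have h1 : (center ↥N).map N.subtype = ⊥ := by
    rw [Cfsg.Agent.Lib.Helper9.map_subtype_center, hN.centralizer_eq_bot hab, inf_bot_eq]
  rw [map_eq_bot_iff_of_injective _ N.subtype_injective] at h1
  exact (nontrivial_iff_ne_bot _).mp hnt h1

theorem IsMinNormal.layer_le_of_nonabelian {N : Subgroup G} (hN : IsMinNormal N)
    (hab : ¬ IsMulCommutative ↥N) : Cfsg.layer G ≤ N := by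
  apply Cfsg.Agent.Lib.Helper9.layer_le_of_forall_component_le
  intro L hL
  rcases Cfsg.Agent.Lib.Helper9.component_le_or_le_centralizer hL hN.normal.isSubnormal with h1 | h1
  · exact h1
  · exfalso
    rw [hN.centralizer_eq_bot hab] at h1
    exact Cfsg.Agent.Lib.Helper9.component_not_le_of_isSolvable hL
      (inferInstance : Group.IsSolvable ↥(⊥ : Subgroup G)) h1

/-! ### the abelian case -/

theorem IsMinNormal.le_fitting_of_abelian {N : Subgroup G} (hN : IsMinNormal N)
    (hab : IsMulCommutative ↥N) : N ≤ Cfsg.fittingSubgroup G := by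
  apply Cfsg.Agent.Lib.Helper1.le_fittingSubgroup hN.normal
  exact Cfsg.Agent.Lib.Helper9.isNilpotent_of_le_centralizer
    (le_centralizer_iff_isMulCommutative.mpr hab)

theorem Setting.layer_eq_bot_of_abelian {P : Sylow p G} (h : Setting P) {N : Subgroup G}
    (hN : IsMinNormal N) (hab : IsMulCommutative ↥N) : Cfsg.layer G = ⊥ := by
  by_contra hne
  set E := Cfsg.layer G with hE
  haveI hEn : E.Normal := Cfsg.Agent.Lib.Helper8.layer_normal G
  haveI := hN.normal
  have hNE : N ≤ E := hN.le E hEn hne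
  have hNF : N ≤ Cfsg.fittingSubgroup G := hN.le_fitting_of_abelian hab
  have hNP : N ≤ (P : Subgroup G) := hNF.trans h.fitting_le
  have hNC : N ≤ centralizer (E : Set G) :=
    hNF.trans (le_centralizer_iff.mp Cfsg.Agent.Lib.Helper9.layer_le_centralizer_fittingSubgroup)
  obtain ⟨S, hS⟩ := Cfsg.Agent.Lib.Helper16.exists_sylow_of_normal_inf P E
  have hperf : (commutator ↥E).map E.subtype = E := by
    rw [commutator_def, map_commutator, ← MonoidHom.range_eq_map, range_subtype,
      Cfsg.Agent.Lib.Helper9.layer_commutator_eq]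
  have hNΦ : N ≤ phiOf P := by
    intro z hz
    have hzE : z ∈ E := hNE hz
    have h1 : (⟨z, hzE⟩ : ↥E) ∈ center ↥E := by
      rw [mem_center_iff]
      intro y
      apply Subtype.ext
      have := mem_centralizer_iff.mp (hNC hz) y y.2
      exact this
    have h2 : (⟨z, hzE⟩ : ↥E) ∈ commutator ↥E := by
      have : z ∈ (commutator ↥E).map E.subtype := by rw [hperf]; exact hzE
      obtain ⟨w, hw, hwz⟩ := this
      have : w = ⟨z, hzE⟩ := Subtype.ext hwz
      rw [← this]; exact hw
    have h3 : (⟨z, hzE⟩ : ↥E) ∈ (S : Subgroup ↥E) := by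
      have : z ∈ (S : Subgroup ↥E).map E.subtype := by
        rw [hS]; exact mem_inf.mpr ⟨hNP hz, hzE⟩
      obtain ⟨w, hw, hwz⟩ := this
      have : w = ⟨z, hzE⟩ := Subtype.ext hwz
      rw [← this]; exact hw
    have h4 := mem_commutator_sylow_of_mem_center S h1 h2 h3
    -- push down to `G`
    have h5 : ((commutator ↥(S : Subgroup ↥E)).map (S : Subgroup ↥E).subtype).map E.subtype ≤
        ⁅(P : Subgroup G), (P : Subgroup G)⁆ := by
      rw [commutator_def, map_commutator, ← MonoidHom.range_eq_map, range_subtype,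
        map_commutator, hS]
      exact commutator_mono inf_le_left inf_le_left
    apply commutator_sylow_le_phiOf P
    apply h5
    exact ⟨⟨z, hzE⟩, ⟨⟨⟨z, hzE⟩, h3⟩, h4, rfl⟩, rfl⟩
  exact hN.ne_bot (h.eq_bot_of_le_phiOf N hNΦ)

end Cfsg.Agent.Lib.Helper22.TwoGen
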