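import Mathlib
import Cfsg.Agent.Lib.Helper22.TwoGenD

/-!
helper22: S4172, part E: the abelian case `F(G) = N` via the relative norm, and `F*(G) = N`.
-/

set_option autoImplicit false
set_option linter.unusedSectionVars false
set_option linter.style.haveILetI false

namespace Cfsg.Agent.Lib.Helper22.TwoGen

open Subgroup
open scoped commutatorElement

variable {G : Type*} [Group G] [Finite G] {p : ℕ} [hp : Fact p.Prime]

set_option maxHeartbeats 800000 in
theorem Setting.fitting_le_of_abelian {P : Sylow p G} (h : Setting P) {N : Subgroup G}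
    (hN : IsMinNormal N) (hab : IsMulCommutative ↥N) : Cfsg.fittingSubgroup G ≤ N := by
  by_contra hQN
  set Q := Cfsg.fittingSubgroup G with hQ
  haveI hQn : Q.Normal := Cfsg.Agent.Lib.Helper1.fittingSubgroup_normal G
  haveI hNn := hN.normal
  have hQP : Q ≤ (P : Subgroup G) := h.fitting_le
  have hNQ : N ≤ Q := hN.le_fitting_of_abelian hab
  have hQab : ⁅Q, Q⁆ = ⊥ := h.commutator_eq_bot Q hQP
  have hQcomm : ∀ x ∈ Q, ∀ y ∈ Q, x * y = y * x := by
    rw [commutator_eq_bot_iff_le_centralizer] at hQab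
    intro x hx y hy
    exact ((mem_centralizer_iff.mp (hQab hx)) y hy).symm
  obtain ⟨c, hcQ, hcN⟩ := SetLike.not_le_iff_exists.mp hQN
  obtain ⟨a, ha⟩ := h.exists_gen N hN.ne_bot
  haveI : (N.subgroupOf (P : Subgroup G)).Normal := hN.normal.subgroupOf _
  -- decompose `c`
  have hc' : (⟨c, hQP hcQ⟩ : ↥(P : Subgroup G)) ∈
      ((zpowers a ⊔ N.subgroupOf (P : Subgroup G) : Subgroup ↥(P : Subgroup G)) :
        Set ↥(P : Subgroup G)) := by
    rw [ha]; trivial
  rw [mul_normal] at hc'
  obtain ⟨y, hy, z, hz, hyz⟩ := Set.mem_mul.mp hc'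
  have hzN : (z : G) ∈ N := mem_subgroupOf.mp hz
  have hyc : (y : G) * (z : G) = c := congrArg Subtype.val hyz
  have hbQ : (y : G) ∈ Q := by
    have : (y : G) = c * (z : G)⁻¹ := by rw [← hyc]; group
    rw [this]; exact Q.mul_mem hcQ (Q.inv_mem (hNQ hzN))
  have hbN : (y : G) ∉ N := by
    intro hyN; apply hcN; rw [← hyc]; exact N.mul_mem hyN hzN
  -- `y` is central in `P`
  have hbP : ∀ x ∈ (P : Subgroup G), x * (y : G) = (y : G) * x := by
    have h1 : zpowers a ⊔ N.subgroupOf (P : Subgroup G) ≤ centralizer {y} := by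
      refine sup_le ?_ ?_
      · rw [zpowers_le, mem_centralizer_singleton_iff]
        obtain ⟨k, rfl⟩ := mem_zpowers_iff.mp hy
        exact ((Commute.refl a).zpow_right k).eq
      · intro w hw
        rw [mem_centralizer_singleton_iff]
        apply Subtype.ext
        exact hQcomm _ (hNQ (mem_subgroupOf.mp hw)) _ hbQ
    rw [ha] at h1
    intro x hx
    have := mem_centralizer_singleton_iff.mp (h1 (mem_top ⟨x, hx⟩))
    exact congrArg Subtype.val this
  -- the kernel of the action on `Q / N`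
  set π := QuotientGroup.mk' N with hπ
  haveI : (Q.map π).Normal := hQn.map π (QuotientGroup.mk'_surjective N)
  haveI : (centralizer ((Q.map π : Subgroup (G ⧸ N)) : Set (G ⧸ N))).Normal := normal_centralizer
  set G₁ : Subgroup G :=
    (centralizer ((Q.map π : Subgroup (G ⧸ N)) : Set (G ⧸ N))).comap π with hG₁
  haveI hG₁n : G₁.Normal := normal_comap π
  have hG₁mem : ∀ g ∈ G₁, ∀ y ∈ Q, g * y * g⁻¹ * y⁻¹ ∈ N := by
    intro g hg y hy
    have h1 : π g ∈ centralizer ((Q.map π : Subgroup (G ⧸ N)) : Set (G ⧸ N)) := hg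
    have h2 := mem_centralizer_iff.mp h1 (π y) (mem_map_of_mem π hy)
    apply (QuotientGroup.eq_one_iff _).mp
    show π (g * y * g⁻¹ * y⁻¹) = 1
    rw [map_mul, map_mul, map_mul, map_inv, map_inv, ← h2]
    group
  have hPG₁ : (P : Subgroup G) ≤ G₁ := by
    intro x hx
    show π x ∈ centralizer ((Q.map π : Subgroup (G ⧸ N)) : Set (G ⧸ N))
    rw [mem_centralizer_iff]
    rintro _ ⟨y, hy, rfl⟩
    rw [← map_mul, ← map_mul]
    apply QuotientGroup.eq.mpr
    have h1 : (y * x)⁻¹ * (x * y) = ⁅x⁻¹, y⁻¹⁆ := by rw [commutatorElement_def]; group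
    rw [h1]
    exact h.commutator_le N hN.ne_bot
      (commutator_mem_commutator (inv_mem hx) (inv_mem (hQP hy)))
  letI : CommGroup ↥Q :=
    { (inferInstance : Group ↥Q) with
      mul_comm := fun x y => Subtype.ext (hQcomm x x.2 y y.2) }
  obtain ⟨r, hr1, hr2⟩ := exists_norm (H := ↥G₁) (A := ↥Q)
    ((MulAut.conjNormal (H := Q)).comp G₁.subtype) ((P : Subgroup G).subgroupOf G₁)
    (N.subgroupOf Q) ⟨y, hbQ⟩
    (by
      intro s hs
      apply Subtype.ext
      have hsP : ((s : ↥G₁) : G) ∈ (P : Subgroup G) := mem_subgroupOf.mp hs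
      show ((MulAut.conjNormal ((s : ↥G₁) : G) (⟨y, hbQ⟩ : ↥Q) : ↥Q) : G) = y
      rw [MulAut.conjNormal_apply]
      show (s : G) * (y : G) * (s : G)⁻¹ = y
      rw [hbP _ hsP, mul_inv_cancel_right])
    (by
      intro g
      rw [mem_subgroupOf]
      show ((MulAut.conjNormal ((g : ↥G₁) : G) (⟨y, hbQ⟩ : ↥Q) / (⟨y, hbQ⟩ : ↥Q) : ↥Q) : G) ∈ N
      rw [Subgroup.coe_div, MulAut.conjNormal_apply, div_eq_mul_inv]
      exact hG₁mem g g.2 y hbQ)
  -- the index is prime to `p`
  have hm : (((P : Subgroup G).subgroupOf G₁).index).Coprime p := by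
    have h1 : ((P : Subgroup G).subgroupOf G₁).index ∣ (P : Subgroup G).index :=
      relIndex_dvd_index_of_le hPG₁
    have h2 : ¬ p ∣ ((P : Subgroup G).subgroupOf G₁).index :=
      fun hdvd => P.not_dvd_index (hdvd.trans h1)
    exact ((Nat.Prime.coprime_iff_not_dvd hp.out).mpr h2).symm
  have hrN : (r : G) ∉ N := by
    intro hrN
    have h1 : ((r / (⟨y, hbQ⟩ : ↥Q) ^ ((P : Subgroup G).subgroupOf G₁).index : ↥Q) : G) ∈ N :=
      mem_subgroupOf.mp hr2
    rw [Subgroup.coe_div, Subgroup.coe_pow] at h1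
    have h2 : (y : G) ^ ((P : Subgroup G).subgroupOf G₁).index ∈ N := by
      have : (y : G) ^ ((P : Subgroup G).subgroupOf G₁).index =
          ((r : G) / (y : G) ^ ((P : Subgroup G).subgroupOf G₁).index)⁻¹ * (r : G) := by
        rw [div_eq_mul_inv, mul_inv_rev, inv_inv, inv_mul_cancel_right]
      rw [this]
      exact N.mul_mem (N.inv_mem h1) hrN
    obtain ⟨k, hk⟩ := P.isPGroup' y
    have hk' : (y : G) ^ (p ^ k) = 1 := by
      have := congrArg Subtype.val hk
      simpa using this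
    exact hbN (mem_of_pow_mem_of_coprime N (y : G) k hk' _ hm h2)
  -- the fixed points of `G₁` on `Q`
  haveI : (centralizer (G₁ : Set G)).Normal := normal_centralizer
  have hDn : (Q ⊓ centralizer (G₁ : Set G)).Normal := normal_inf_normal _ _
  have hrD : (r : G) ∈ Q ⊓ centralizer (G₁ : Set G) := by
    refine mem_inf.mpr ⟨r.2, ?_⟩
    rw [mem_centralizer_iff]
    intro g hg
    have h1 := congrArg Subtype.val (hr1 ⟨g, hg⟩)
    have h2 : g * (r : G) * g⁻¹ = (r : G) := by
      rw [← MulAut.conjNormal_apply]; exact h1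
    calc g * (r : G) = g * (r : G) * g⁻¹ * g := by group
      _ = (r : G) * g := by rw [h2]
  have hD1 : Q ⊓ centralizer (G₁ : Set G) ≠ ⊥ := by
    intro hbot
    rw [hbot, mem_bot] at hrD
    exact hrN (hrD ▸ N.one_mem)
  have hND : N ≤ centralizer (G₁ : Set G) := (hN.le _ hDn hD1).trans inf_le_right
  apply h.hna
  refine ⟨⟨commutative_of_zpowers_sup a (N.subgroupOf (P : Subgroup G)) ?_ ha⟩⟩
  intro w hw
  rw [mem_center_iff]
  intro g
  apply Subtype.ext
  have := mem_centralizer_iff.mp (hND (mem_subgroupOf.mp hw)) g (hPG₁ g.2)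
  exact this

theorem Setting.fstar_eq {P : Sylow p G} (h : Setting P) {N : Subgroup G}
    (hN : IsMinNormal N) : Cfsg.generalizedFittingSubgroup G = N := by
  apply le_antisymm _ hN.le_fstar
  unfold Cfsg.generalizedFittingSubgroup
  by_cases hab : IsMulCommutative ↥N
  · rw [h.layer_eq_bot_of_abelian hN hab, bot_sup_eq]
    exact h.fitting_le_of_abelian hN hab
  · rw [h.fitting_eq_bot_of_nonabelian hN hab, sup_bot_eq]
    exact hN.layer_le_of_nonabelian hab

end Cfsg.Agent.Lib.Helper22.TwoGen
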