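import Mathlib
import Cfsg.Agent.Lib.Helper8.FStar
import Cfsg.Agent.Lib.Helper22.TwoGenE

/-!
helper22: S4172, part F: `P` is transitive on the components when `F*(G)` is not abelian.
-/

set_option autoImplicit false
set_option linter.unusedSectionVars false
set_option linter.style.haveILetI false

namespace Cfsg.Agent.Lib.Helper22.TwoGen

open Subgroup

variable {G : Type*} [Group G] [Finite G] {p : ℕ} [hp : Fact p.Prime]

theorem mem_normalizer_of_map_conj_le' {Q : Subgroup G} {g : G}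
    (h : Q.map (MulAut.conj g).toMonoidHom ≤ Q) : g ∈ normalizer (Q : Set G) := by
  rw [mem_normalizer_iff_map_conj_eq]
  apply eq_of_le_of_card_ge h
  exact (card_map_of_injective (MulAut.conj g).injective).ge

/-- **Tate, relative form**: if `K` is normalized by `H ≥ P` and `K ∩ P ≤ Φ(P)` then perfect
subgroups of `K` have order prime to `p`. -/
theorem coprime_card_of_inf_le_phiOf (P : Sylow p G) (H K : Subgroup G)
    (hPH : (P : Subgroup G) ≤ H) (hKH : K ≤ H) (hn : H ≤ normalizer (K : Set G))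
    (hK : K ⊓ (P : Subgroup G) ≤ phiOf P) (L : Subgroup G) (hLK : L ≤ K) (hL : ⁅L, L⁆ = L) :
    (Nat.card ↥L).Coprime p := by
  set P₀ : Sylow p ↥H := P.subtype hPH with hP₀
  set K₀ : Subgroup ↥H := K.subgroupOf H with hK₀
  haveI : K₀.Normal := (normal_subgroupOf_iff_le_normalizer hKH).mpr hn
  have hP₀coe : (P₀ : Subgroup ↥H) = (P : Subgroup G).subgroupOf H := rfl
  let e₀ : ↥(P₀ : Subgroup ↥H) ≃* ↥(P : Subgroup G) :=
    (MulEquiv.subgroupCongr hP₀coe).trans (subgroupOfEquivOfLe hPH)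
  have he₀ : ∀ w : ↥(P₀ : Subgroup ↥H), ((e₀ w : ↥(P : Subgroup G)) : G) = ((w : ↥H) : G) :=
    fun w => rfl
  have key : K₀ ⊓ (P₀ : Subgroup ↥H) ≤
      (frattini ↥(P₀ : Subgroup ↥H)).map (P₀ : Subgroup ↥H).subtype := by
    intro y hy
    obtain ⟨hy1, hy2⟩ := mem_inf.mp hy
    have hyK : (y : G) ∈ K := mem_subgroupOf.mp hy1
    have hyP : (y : G) ∈ (P : Subgroup G) := mem_subgroupOf.mp hy2
    obtain ⟨w, hw, hwy⟩ := hK (mem_inf.mpr ⟨hyK, hyP⟩)
    refine ⟨e₀.symm w, ?_, ?_⟩
    · rw [SetLike.mem_coe, ← frattini_comap_equiv e₀, mem_comap]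
      show e₀ (e₀.symm w) ∈ frattini ↥(P : Subgroup G)
      rw [MulEquiv.apply_symm_apply]
      exact hw
    · apply Subtype.ext
      show (((e₀.symm w : ↥(P₀ : Subgroup ↥H)) : ↥H) : G) = (y : G)
      rw [← he₀, MulEquiv.apply_symm_apply]
      exact hwy
  have hc : Cfsg.HasNormalPComplement p ↥K₀ := Cfsg.Agent.S0081.result P₀ K₀ key
  set f : ↥K₀ →* G := H.subtype.comp K₀.subtype with hf
  have hfinj : Function.Injective f :=
    H.subtype_injective.comp K₀.subtype_injective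
  have hLr : L ≤ f.range := by
    intro x hx
    exact ⟨⟨⟨x, hKH (hLK hx)⟩, mem_subgroupOf.mpr (hLK hx)⟩, rfl⟩
  have hmap : (L.comap f).map f = L := map_comap_eq_self hLr
  have hperf : ⁅L.comap f, L.comap f⁆ = L.comap f := by
    apply map_injective hfinj
    rw [map_commutator, hmap, hL]
  have h1 := coprime_card_of_perfect hc (L.comap f) hperf
  rwa [← card_map_of_injective hfinj, hmap] at h1

/-- the layer normalizes every component -/
theorem layer_le_normalizer_component {M : Subgroup G} (hM : Cfsg.IsComponent M) :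
    Cfsg.layer G ≤ normalizer (M : Set G) := by
  apply sSup_le
  intro M' hM'
  by_cases heq : M' = M
  · rw [heq]; exact le_normalizer
  · have := Cfsg.Agent.Lib.Helper9.components_commute M' M hM' hM heq
    rw [commutator_eq_bot_iff_le_centralizer] at this
    exact this.trans (centralizer_le_normalizer _)

/-- a family of components of `G` -/
structure IsCompFamily (P : Sylow p G) (𝒮 : Set (Subgroup G)) : Prop where
  comp : ∀ M ∈ 𝒮, Cfsg.IsComponent M
  inv : ∀ M ∈ 𝒮, ∀ x ∈ (P : Subgroup G), M.map (MulAut.conj x).toMonoidHom ∈ 𝒮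
  ne : 𝒮.Nonempty

theorem IsCompFamily.le_normalizer {P : Sylow p G} {𝒮 : Set (Subgroup G)}
    (h𝒮 : IsCompFamily P 𝒮) : (P : Subgroup G) ≤ normalizer ((sSup 𝒮 : Subgroup G) : Set G) := by
  intro x hx
  apply mem_normalizer_of_map_conj_le'
  rw [map_le_iff_le_comap]
  apply sSup_le
  intro M hM
  rw [← map_le_iff_le_comap]
  exact le_sSup (h𝒮.inv M hM x hx)

theorem IsCompFamily.layer_le_normalizer {P : Sylow p G} {𝒮 : Set (Subgroup G)}
    (h𝒮 : IsCompFamily P 𝒮) : Cfsg.layer G ≤ normalizer ((sSup 𝒮 : Subgroup G) : Set G) := by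
  intro g hg
  apply mem_normalizer_of_map_conj_le'
  rw [map_le_iff_le_comap]
  apply sSup_le
  intro M hM
  rw [← map_le_iff_le_comap]
  refine le_trans ?_ (le_sSup hM)
  have hgM := layer_le_normalizer_component (h𝒮.comp M hM) hg
  rw [mem_normalizer_iff_map_conj_eq] at hgM
  exact hgM.le

theorem IsCompFamily.le_layer {P : Sylow p G} {𝒮 : Set (Subgroup G)}
    (h𝒮 : IsCompFamily P 𝒮) : sSup 𝒮 ≤ Cfsg.layer G :=
  sSup_le fun M hM => Cfsg.Agent.Lib.Helper9.component_le_layer (h𝒮.comp M hM)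

/-- the join of a `P`-invariant family of components does not meet `P` inside `Φ(P)` -/
theorem Setting.not_sSup_inf_le {P : Sylow p G} (h : Setting P) {𝒮 : Set (Subgroup G)}
    (h𝒮 : IsCompFamily P 𝒮) : ¬ sSup 𝒮 ⊓ (P : Subgroup G) ≤ phiOf P := by
  intro hle
  obtain ⟨M, hM⟩ := h𝒮.ne
  have hMc := h𝒮.comp M hM
  have hperf : ⁅M, M⁆ = M := isPerfect_iff.mp hMc.2.1
  have hcop := coprime_card_of_inf_le_phiOf P (Cfsg.layer G ⊔ (P : Subgroup G)) (sSup 𝒮)
    le_sup_right (h𝒮.le_layer.trans le_sup_left)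
    (sup_le h𝒮.layer_le_normalizer h𝒮.le_normalizer) hle M (le_sSup hM) hperf
  have h1 := Cfsg.Agent.Lib.Helper9.subnormal_le_pPrimeCore p hMc.1 hcop
  rw [h.hcore] at h1
  exact Cfsg.Agent.Lib.Helper9.component_not_le_of_isSolvable hMc
    (inferInstance : Group.IsSolvable ↥(⊥ : Subgroup G)) h1

theorem map_conj_map_conj (K : Subgroup G) (x y : G) :
    (K.map (MulAut.conj y).toMonoidHom).map (MulAut.conj x).toMonoidHom =
      K.map (MulAut.conj (x * y)).toMonoidHom := by
  rw [map_map]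
  congr 1
  ext z
  simp [MulAut.conj_apply, mul_assoc]

theorem map_conj_one (K : Subgroup G) : K.map (MulAut.conj (1 : G)).toMonoidHom = K := by
  ext z
  simp

/-- **transitivity on components** -/
theorem Setting.exists_conj_component {P : Sylow p G} (h : Setting P) {N : Subgroup G}
    (hN : IsMinNormal N) (hab : ¬ IsMulCommutative ↥N) (K L : Subgroup G)
    (hK : Cfsg.IsComponent K) (hL : Cfsg.IsComponent L) :
    ∃ x ∈ (P : Subgroup G), L = K.map (MulAut.conj x).toMonoidHom := by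
  by_contra hcon
  push Not at hcon
  set 𝒮a : Set (Subgroup G) := {M | ∃ x ∈ (P : Subgroup G), M = K.map (MulAut.conj x).toMonoidHom}
    with h𝒮a
  set 𝒮b : Set (Subgroup G) := {M | Cfsg.IsComponent M ∧ M ∉ 𝒮a} with h𝒮b
  have hKa : K ∈ 𝒮a := ⟨1, one_mem _, (map_conj_one K).symm⟩
  have hLb : L ∈ 𝒮b := ⟨hL, fun ⟨x, hx, hLx⟩ => hcon x hx hLx⟩
  have hFa : IsCompFamily P 𝒮a := by
    refine ⟨?_, ?_, ⟨K, hKa⟩⟩
    · rintro M ⟨x, _, rfl⟩
      exact Cfsg.Agent.Lib.Helper8.isComponent_map_conj hK x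
    · rintro M ⟨y, hy, rfl⟩ x hx
      exact ⟨x * y, mul_mem hx hy, map_conj_map_conj K x y⟩
  have hFb : IsCompFamily P 𝒮b := by
    refine ⟨fun M hM => hM.1, ?_, ⟨L, hLb⟩⟩
    rintro M ⟨hMc, hMa⟩ x hx
    refine ⟨Cfsg.Agent.Lib.Helper8.isComponent_map_conj hMc x, ?_⟩
    rintro ⟨y, hy, hMy⟩
    apply hMa
    refine ⟨x⁻¹ * y, mul_mem (inv_mem hx) hy, ?_⟩
    rw [← map_conj_map_conj, ← hMy, map_conj_map_conj, inv_mul_cancel, map_conj_one]
  set Na := sSup 𝒮a with hNa
  set Nb := sSup 𝒮b with hNb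
  have hcomm : Na ≤ centralizer (Nb : Set G) := by
    apply sSup_le
    intro M hM
    rw [le_centralizer_iff]
    apply sSup_le
    intro M' hM'
    rw [← commutator_eq_bot_iff_le_centralizer]
    apply Cfsg.Agent.Lib.Helper9.components_commute M' M hM'.1 (hFa.comp M hM)
    rintro rfl
    exact hM'.2 hM
  have hcomm' : Nb ≤ centralizer (Na : Set G) := le_centralizer_iff.mp hcomm
  have hNlayer : N = Cfsg.layer G := by
    rw [← h.fstar_eq hN]
    unfold Cfsg.generalizedFittingSubgroup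
    rw [h.fitting_eq_bot_of_nonabelian hN hab, sup_bot_eq]
  have hlayer : Cfsg.layer G ≤ Na ⊔ Nb := by
    apply sSup_le
    intro M hM
    by_cases hMa : M ∈ 𝒮a
    · exact (le_sSup hMa).trans le_sup_left
    · exact (le_sSup (show M ∈ 𝒮b from ⟨hM, hMa⟩)).trans le_sup_right
  have hint : Na ⊓ Nb = ⊥ := by
    rw [eq_bot_iff, ← hN.centralizer_eq_bot hab, hNlayer]
    refine le_trans ?_ (centralizer_le (SetLike.coe_subset_coe.mpr hlayer))
    rw [le_centralizer_iff]
    apply sup_le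
    · exact hcomm.trans (centralizer_le (SetLike.coe_subset_coe.mpr inf_le_right))
    · exact hcomm'.trans (centralizer_le (SetLike.coe_subset_coe.mpr inf_le_left))
  apply h.false_of_two Na Nb hFa.le_normalizer hFb.le_normalizer (h.not_sSup_inf_le hFa)
    (h.not_sSup_inf_le hFb)
  rw [hint, bot_inf_eq]

end Cfsg.Agent.Lib.Helper22.TwoGen
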