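import Cfsg.Agent.Lib.Helper1.TwoMajDefs
import Cfsg.Agent.Lib.Helper23.MajSubH5
import Cfsg.Agent.Lib.Helper23.SubsecH
import Cfsg.Agent.Lib.Helper6.DefectOrder

/-!
helper22: S4540 (planner helper1), leaf A `sum_rtrace_eq`: the sum of the normalized traces is `2^d l(b)`.
-/

set_option autoImplicit false
set_option linter.unusedVariables false

namespace Cfsg.Agent.Lib.Helper22.TwoMajA

open Cfsg Cfsg.Agent.CharLib Cfsg.Agent.Lib.Helper24 Cfsg.Agent.Lib.Helper6 Cfsg.Agent.Lib.Helper23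
open Cfsg.Agent.Lib.Helper23.Subsec Cfsg.Agent.Lib.Helper27.MajSub
open Cfsg.Agent.Lib.Helper1.TwoMaj
open scoped ComplexConjugate

universe u w

variable {G : Type u} [Group G] [Fintype G] {M : Ideal AlgInt}

omit [Fintype G] in
/-- the order of a power of a `2`-element is a power of `2` -/
theorem orderOf_pow_two_pow (z : G) (hz : ∃ k : ℕ, orderOf z = 2 ^ k) (n : ℕ) :
    ∃ j : ℕ, orderOf (z ^ n) = 2 ^ j := by
  obtain ⟨k₀, hk₀⟩ := hz
  have h1 : orderOf (z ^ n) ∣ 2 ^ k₀ := by rw [← hk₀]; exact orderOf_pow_dvd _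
  obtain ⟨j, -, hj⟩ := (Nat.dvd_prime_pow Nat.prime_two).mp h1
  exact ⟨j, hj⟩

/-- the centralizer of a power `z ^ u.val`, `u` a unit modulo a multiple `N` of the order of `z` -/
theorem centralizer_pow_unit (z : G) (N : ℕ) [NeZero N] (hzN : z ^ N = 1) (C : Subgroup G)
    (hC : C = Subgroup.centralizer ({z} : Set G)) (u : (ZMod N)ˣ) :
    C = Subgroup.centralizer ({z ^ (u : ZMod N).val} : Set G) := by
  have hcop : ((u : ZMod N).val).Coprime (orderOf z) :=
    Nat.Coprime.coprime_dvd_right (orderOf_dvd_of_pow_eq_one hzN) (ZMod.val_coe_unit_coprime u)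
  rw [hC]
  exact (centralizer_pow_eq z _ hcop).symm

/-- (A) the sum of the normalized traces is `2^d l(b)`. -/
theorem sum_rtrace_eq (hM : IsPModular 2 M) (z : G) (hz : ∃ k : ℕ, orderOf z = 2 ^ k)
    (C : Subgroup G) [Fintype C] [Fintype (IrrCharacter C)]
    (hC : C = Subgroup.centralizer ({z} : Set G))
    (B : Set (IrrCharacter G)) (hB : IsPBlock M B) [Fintype (IrrCharacter G)]
    [DecidablePred (· ∈ B)] (ψ₀ : IrrCharacter C)
    (hind : IsInducedBlock M C (blockOf M (ψ₀ : C → ℂ)) B)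
    (w : Subgroup.center C) (hwz : ((w : C) : G) = z) :
    ∑ χ ∈ Finset.univ.filter (· ∈ B), rtrace C (blockOf M (ψ₀ : C → ℂ)) w χ =
      (2 : ℤ) ^ blockDefect 2 (blockOf M (ψ₀ : C → ℂ)) *
        (blockRank 2 (blockOf M (ψ₀ : C → ℂ)) : ℤ) := by
  classical
  set e := blockOf M (ψ₀ : C → ℂ) with he
  have heB : IsPBlock M e := hind.1
  set N := Nat.card G with hN
  have : NeZero N := ⟨Nat.card_pos.ne'⟩
  have hzN : z ^ N = 1 := by rw [hN]; exact pow_card_eq_one'
  have hwcoe : ∀ k : ℕ, ((((w ^ k : Subgroup.center C) : C) : G)) = z ^ k := by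
    intro k
    rw [← hwz]
    simp
  have hwN : w ^ N = 1 := by
    apply Subtype.ext
    apply Subtype.ext
    rw [hwcoe]
    simp only [OneMemClass.coe_one]
    exact hzN
  obtain ⟨k₀, hk₀⟩ := hz
  have hwp : ∃ j : ℕ, w ^ (2 ^ j) = 1 := by
    refine ⟨k₀, ?_⟩
    apply Subtype.ext
    apply Subtype.ext
    rw [hwcoe]
    simp only [OneMemClass.coe_one]
    rw [← hk₀, pow_orderOf_eq_one]
  set f := Fintype.card (ZMod N)ˣ with hf
  have hfpos : 0 < f := Fintype.card_pos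
  have hf0 : (f : ℂ) ≠ 0 := Nat.cast_ne_zero.mpr hfpos.ne'
  set d := blockDefect 2 e with hd
  set l := blockRank 2 e with hl
  -- the trace at every power
  have htrace : ∀ u : (ZMod N)ˣ,
      ∑ χ ∈ Finset.univ.filter (· ∈ B), contrib 2 C e (z ^ (u : ZMod N).val) χ χ = (l : ℂ) := by
    intro u
    exact sum_contrib_diag hM (z ^ (u : ZMod N).val) (orderOf_pow_two_pow z ⟨k₀, hk₀⟩ _) C
      (centralizer_pow_unit z N hzN C hC u) B hB ψ₀ hind
  have hmain : (f : ℂ) * ((∑ χ ∈ Finset.univ.filter (· ∈ B), rtrace C e w χ : ℤ) : ℂ) =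
      (f : ℂ) * (((2 : ℤ) ^ d * (l : ℤ) : ℤ) : ℂ) := by
    push_cast
    rw [Finset.mul_sum]
    have h1 : ∀ χ : IrrCharacter G, (f : ℂ) * (rtrace C e w χ : ℂ) =
        ∑ u : (ZMod N)ˣ, ((2 : ℂ) ^ d) * contrib 2 C e (z ^ (u : ZMod N).val) χ χ := by
      intro χ
      rw [← sum_units_contrib_eq hM N C e heB w hwN hwp χ]
      apply Finset.sum_congr rfl
      intro u _
      rw [hwcoe]
    simp_rw [h1]
    rw [Finset.sum_comm]
    simp_rw [← Finset.mul_sum, htrace]
    rw [Finset.sum_const, Finset.card_univ, nsmul_eq_mul, ← hf]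
    ring
  have h2 := mul_left_cancel₀ hf0 hmain
  exact_mod_cast h2

end Cfsg.Agent.Lib.Helper22.TwoMajA
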