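import Cfsg.Agent.Lib.Helper1.TwoMajDefs
import Cfsg.Agent.Lib.Helper23.MajSubH5
import Cfsg.Agent.Lib.Helper23.SubsecH
import Cfsg.Agent.Lib.Helper6.DefectOrder
import Cfsg.Agent.Lib.Helper22.TwoMajA

/-!
helper22: S4540 (planner helper1), leaf BI `sum_sum_normSq_eq`: the row sums of the squared norms of the scaled
contributions, summed over the units.
-/

set_option autoImplicit false
set_option linter.unusedVariables false

namespace Cfsg.Agent.Lib.Helper22.TwoMajBI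

open Cfsg Cfsg.Agent.CharLib Cfsg.Agent.Lib.Helper24 Cfsg.Agent.Lib.Helper6 Cfsg.Agent.Lib.Helper23
open Cfsg.Agent.Lib.Helper23.Subsec Cfsg.Agent.Lib.Helper27.MajSub
open Cfsg.Agent.Lib.Helper1.TwoMaj
open scoped ComplexConjugate

universe u w

variable {G : Type u} [Group G] [Fintype G] {M : Ideal AlgInt}

/-- (BI) the row sums of the squared norms, for EVERY `χ`. -/
theorem sum_sum_normSq_eq (hM : IsPModular 2 M) (z : G) (hz : ∃ k : ℕ, orderOf z = 2 ^ k)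
    (N : ℕ) [NeZero N] (hzN : z ^ N = 1)
    (C : Subgroup G) [Fintype C] [Fintype (IrrCharacter C)]
    (hC : C = Subgroup.centralizer ({z} : Set G))
    (B : Set (IrrCharacter G)) (hB : IsPBlock M B) [Fintype (IrrCharacter G)]
    [DecidablePred (· ∈ B)] (ψ₀ : IrrCharacter C)
    (hind : IsInducedBlock M C (blockOf M (ψ₀ : C → ℂ)) B)
    (w : Subgroup.center C) (hwz : ((w : C) : G) = z) (χ : IrrCharacter G) :
    ∑ ψ ∈ Finset.univ.filter (· ∈ B), ∑ u : (ZMod N)ˣ,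
      ‖(2 : ℂ) ^ blockDefect 2 (blockOf M (ψ₀ : C → ℂ)) *
        contrib 2 C (blockOf M (ψ₀ : C → ℂ)) (z ^ (u : ZMod N).val) χ ψ‖ ^ 2 =
      (2 : ℝ) ^ blockDefect 2 (blockOf M (ψ₀ : C → ℂ)) *
        ((Fintype.card (ZMod N)ˣ : ℝ) * (rtrace C (blockOf M (ψ₀ : C → ℂ)) w χ : ℝ)) := by
  classical
  set e := blockOf M (ψ₀ : C → ℂ) with he
  have heB : IsPBlock M e := hind.1
  have hwcoe : ∀ k : ℕ, ((((w ^ k : Subgroup.center C) : C) : G)) = z ^ k := by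
    intro k
    rw [← hwz]
    simp
  have hwN : w ^ N = 1 := by
    apply Subtype.ext
    apply Subtype.ext
    rw [hwcoe]
    simp only [OneMemClass.coe_one]
    exact hzN
  obtain ⟨k₀, hk₀⟩ := hz
  have hwp : ∃ j : ℕ, w ^ (2 ^ j) = 1 := by
    refine ⟨k₀, ?_⟩
    apply Subtype.ext
    apply Subtype.ext
    rw [hwcoe]
    simp only [OneMemClass.coe_one]
    rw [← hk₀, pow_orderOf_eq_one]
  set d := blockDefect 2 e with hd
  -- the row identity at every power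
  have hrow : ∀ u : (ZMod N)ˣ,
      ((∑ ψ ∈ Finset.univ.filter (· ∈ B), ‖contrib 2 C e (z ^ (u : ZMod N).val) χ ψ‖ ^ 2 : ℝ) : ℂ) =
        contrib 2 C e (z ^ (u : ZMod N).val) χ χ := by
    intro u
    exact sum_contrib_normSq hM (z ^ (u : ZMod N).val)
      (Cfsg.Agent.Lib.Helper22.TwoMajA.orderOf_pow_two_pow z ⟨k₀, hk₀⟩ _) C
      (Cfsg.Agent.Lib.Helper22.TwoMajA.centralizer_pow_unit z N hzN C hC u) B hB ψ₀ hind χ
  have hunits := sum_units_contrib_eq hM N C e heB w hwN hwp χ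
  -- compare in `ℂ`
  have hmain : ((∑ ψ ∈ Finset.univ.filter (· ∈ B), ∑ u : (ZMod N)ˣ,
      ‖(2 : ℂ) ^ d * contrib 2 C e (z ^ (u : ZMod N).val) χ ψ‖ ^ 2 : ℝ) : ℂ) =
      (((2 : ℝ) ^ d * ((Fintype.card (ZMod N)ˣ : ℝ) * (rtrace C e w χ : ℝ)) : ℝ) : ℂ) := by
    rw [Finset.sum_comm]
    have h1 : ∀ u : (ZMod N)ˣ, (∑ ψ ∈ Finset.univ.filter (· ∈ B),
        ‖(2 : ℂ) ^ d * contrib 2 C e (z ^ (u : ZMod N).val) χ ψ‖ ^ 2 : ℝ) =
        ((2 : ℝ) ^ d) ^ 2 * ∑ ψ ∈ Finset.univ.filter (· ∈ B),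
          ‖contrib 2 C e (z ^ (u : ZMod N).val) χ ψ‖ ^ 2 := by
      intro u
      rw [Finset.mul_sum]
      apply Finset.sum_congr rfl
      intro ψ _
      rw [norm_mul, mul_pow, norm_pow]
      simp only [Complex.norm_ofNat]
    have h1' : ∀ u : (ZMod N)ˣ, ((∑ ψ ∈ Finset.univ.filter (· ∈ B),
        ‖(2 : ℂ) ^ d * contrib 2 C e (z ^ (u : ZMod N).val) χ ψ‖ ^ 2 : ℝ) : ℂ) =
        (2 : ℂ) ^ d * ((2 : ℂ) ^ d * contrib 2 C e (z ^ (u : ZMod N).val) χ χ) := by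
      intro u
      rw [h1 u, Complex.ofReal_mul, hrow u]
      push_cast
      ring
    rw [Complex.ofReal_sum]
    simp_rw [h1']
    rw [← Finset.mul_sum]
    have h3 : ∑ u : (ZMod N)ˣ, (2 : ℂ) ^ d * contrib 2 C e (z ^ (u : ZMod N).val) χ χ =
        (Fintype.card (ZMod N)ˣ : ℂ) * (rtrace C e w χ : ℂ) := by
      rw [← hunits]
      apply Finset.sum_congr rfl
      intro u _
      rw [hwcoe]
    rw [h3]
    push_cast
    ring
  exact_mod_cast hmain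

end Cfsg.Agent.Lib.Helper22.TwoMajBI
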