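import Mathlib
import Cfsg.Agent.Lib.Helper5.UOGBase
import Cfsg.Agent.Lib.Helper22.UOGC

/-!
helper22: S5681 / S5709 part (G), core form of leaf (C5) `inA_all_pt` of `notes/S5681_G_leaves.lean`:
`A(x ⊗ y) = (x ⊗ y)^⊥`, with the inputs `A_perp`, `P1`, `A0_star` (at the one pair) as hypotheses.
-/

set_option autoImplicit false
set_option linter.unusedSectionVars false
set_option linter.unusedVariables false

namespace Cfsg.Agent.Lib.Helper22.UOGLeaf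
open Matrix QuadraticMap Module
open Cfsg.Agent.Lib.Helper25.Tens Cfsg.Agent.Lib.Helper2.SOT Cfsg.Agent.Lib.Helper7.OTT
  Cfsg.Agent.Lib.Helper25.CD Cfsg.Agent.Lib.Helper5.NSMax Cfsg.Agent.Lib.Helper5.PairMax
  Cfsg.Agent.Lib.Helper5.TSMax Cfsg.Agent.Lib.Helper5.NDMax Cfsg.Agent.Lib.Helper5.UOG
open scoped Kronecker

section model
variable {F : Type*} [Field F] [Fintype F] {a b : ℕ} {G₁ : Matrix (Fin a) (Fin a) F}
  {G₂ : Matrix (Fin b) (Fin b) F} {M : Subgroup (GL (Idx a b) F)}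

/-- every vector is the sum of its rows: `w = ∑ i, e_i ⊗ w(i,·)` -/
theorem eq_sum_pt_rows (w : Idx a b → F) :
    w = ∑ i, pt (Pi.single i (1 : F)) (fun l => w (i, l)) := by
  ext ⟨i', l'⟩
  simp only [Finset.sum_apply, pt, Pi.single_apply]
  rw [Finset.sum_eq_single i']
  · simp
  · intro i _ hi; simp [Ne.symm hi]
  · simp

/-- the partner of a nonzero singular vector, in terms of `fB` -/
theorem partner_fB {n : ℕ} {G : Matrix (Fin n) (Fin n) F} (hG : Gᵀ = G) (hdet : G.det ≠ 0)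
    (h2 : (2 : F) ≠ 0) {x : Fin n → F} (hx0 : x ≠ 0) (hx : fB G x x = 0) :
    ∃ xs, (xs ≠ 0 ∧ fB G xs xs = 0) ∧ fB G x xs = 1 := by
  have hQx : QG G x = 0 := by rw [Cfsg.Agent.Lib.Helper5.UOGLeaf.QG_eq_fB, hx, mul_zero]
  obtain ⟨f, hQf, hxf⟩ := Cfsg.Agent.Lib.Helper25.Fam.exists_sing_partner (QG G)
    (Cfsg.Agent.Lib.Helper5.UOGLeaf.nd_QG hG hdet h2) hx0 hQx
  rw [Cfsg.Agent.Lib.Helper5.UOGLeaf.polar_QG_fB hG h2] at hxf
  refine ⟨f, ⟨?_, ?_⟩, hxf⟩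
  · rintro rfl
    simp [fB] at hxf
  · rw [Cfsg.Agent.Lib.Helper5.UOGLeaf.QG_eq_fB] at hQf
    rcases mul_eq_zero.1 hQf with h | h
    · exact absurd h (inv_ne_zero h2)
    · exact h

/-- core of (C5): `A(x ⊗ y) = (x ⊗ y)^⊥`, given partners and the three inputs at the pair `(x, y)` -/
theorem inA_all_pt_core (hA : G₁ᵀ = G₁) (hB : G₂ᵀ = G₂) (h2 : (2 : F) ≠ 0)
    {x xs : Fin a → F} {y ys : Fin b → F} (hx : fB G₁ x x = 0) (hy : fB G₂ y y = 0)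
    (hxxs : fB G₁ x xs = 1) (hyys : fB G₂ y ys = 1)
    (hperp : ∀ (x'' : Fin a → F) (y' : Fin b → F), fB G₂ y y' = 0 →
      IA (QV G₁ G₂) M (pt x y) (pt x'' y'))
    (hP1 : IA (QV G₁ G₂) M (pt x y) (pt x ys))
    (hA0 : ∀ a₀ : Fin a → F, fB G₁ x a₀ = 0 → fB G₁ xs a₀ = 0 →
      IA (QV G₁ G₂) M (pt x y) (pt a₀ ys))
    (v : Idx a b → F) (hv : polar (QV G₁ G₂) (pt x y) v = 0) :
    IA (QV G₁ G₂) M (pt x y) v := by
  have hpol := fun (p p' : Fin a → F) (q q' : Fin b → F) =>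
    Cfsg.Agent.Lib.Helper5.UOGLeaf.pol hA hB h2 p p' q q'
  have hu : QV G₁ G₂ (pt x y) = 0 := by
    rw [Cfsg.Agent.Lib.Helper5.UOGLeaf.QV_pt, hx, zero_mul, mul_zero]
  -- the contraction `c i = f_B(v(i,·), y)`
  obtain ⟨c, hc⟩ : ∃ c : Fin a → F, ∀ i, c i = fB G₂ (fun l => v (i, l)) y := ⟨_, fun _ => rfl⟩
  obtain ⟨v₁, hv₁⟩ : ∃ v₁ : Idx a b → F, v₁ = v - pt c ys := ⟨_, rfl⟩
  have hys_y : fB G₂ ys y = 1 := by rw [fB_comm G₂ hB, hyys]
  have hrow : ∀ i, fB G₂ y (fun l => v₁ (i, l)) = 0 := by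
    intro i
    have e : (fun l => v₁ (i, l)) = (fun l => v (i, l)) - c i • ys := by
      ext l
      simp only [hv₁, Pi.sub_apply, pt, Pi.smul_apply, smul_eq_mul]
    rw [fB_comm G₂ hB, e, sub_eq_add_neg, fB_add_left, ← neg_smul, fB_smul_left, hys_y, ← hc]
    ring
  -- `v₁ ∈ A(x ⊗ y)` and `v₁ ⊥ x ⊗ y`
  have hterm : ∀ i ∈ (Finset.univ : Finset (Fin a)),
      polar (QV G₁ G₂) (pt x y) (pt (Pi.single i (1 : F)) (fun l => v₁ (i, l))) = 0 ∧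
      InA (QV G₁ G₂) (MI (QV G₁ G₂) M) (pt x y)
        (pt (Pi.single i (1 : F)) (fun l => v₁ (i, l))) := by
    intro i _
    refine ⟨?_, hperp _ _ (hrow i)⟩
    rw [hpol, hrow i, mul_zero]
  have hv₁A : IA (QV G₁ G₂) M (pt x y) v₁ := by
    have := InA_sum (M' := MI (QV G₁ G₂) M) Finset.univ
      (fun i => pt (Pi.single i (1 : F)) (fun l => v₁ (i, l))) hu hterm
    rw [← eq_sum_pt_rows v₁] at this
    exact this
  have hv₁p : polar (QV G₁ G₂) (pt x y) v₁ = 0 := by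
    rw [eq_sum_pt_rows v₁]
    have : polar (QV G₁ G₂) (pt x y) (∑ i, pt (Pi.single i (1 : F)) (fun l => v₁ (i, l))) =
        ∑ i, polar (QV G₁ G₂) (pt x y) (pt (Pi.single i (1 : F)) (fun l => v₁ (i, l))) :=
      map_sum (polarBilin (QV G₁ G₂) (pt x y)) _ Finset.univ
    rw [this]
    exact Finset.sum_eq_zero fun i hi => (hterm i hi).1
  -- `c ⊥ x`
  have hv_eq : v = v₁ + pt c ys := by rw [hv₁]; abel
  have hcx : fB G₁ x c = 0 := by
    have := hv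
    rw [hv_eq, polar_add_right, hv₁p, zero_add, hpol, hyys, mul_one] at this
    exact this
  -- `c = f_A(c, xs) x + a₀`
  obtain ⟨a₀, ha₀⟩ : ∃ a₀ : Fin a → F, a₀ = c - fB G₁ xs c • x := ⟨_, rfl⟩
  have hxs_x : fB G₁ xs x = 1 := by rw [fB_comm G₁ hA, hxxs]
  have h1 : fB G₁ x a₀ = 0 := by
    rw [ha₀, sub_eq_add_neg, fB_add_right, ← neg_smul, fB_smul_right, hcx, hx]
    ring
  have h2' : fB G₁ xs a₀ = 0 := by
    rw [ha₀, sub_eq_add_neg, fB_add_right, ← neg_smul, fB_smul_right, hxs_x]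
    ring
  have hc_eq : pt c ys = fB G₁ xs c • pt x ys + pt a₀ ys := by
    rw [ha₀, ← pt_smul_left, ← pt_add_left]
    congr 1
    abel
  have hp1 : polar (QV G₁ G₂) (pt x y) (fB G₁ xs c • pt x ys) = 0 := by
    rw [polar_smul_right, hpol, hx, zero_mul, smul_zero]
  have hp2 : polar (QV G₁ G₂) (pt x y) (pt a₀ ys) = 0 := by
    rw [hpol, h1, zero_mul]
  have hcA : IA (QV G₁ G₂) M (pt x y) (pt c ys) := by
    rw [hc_eq]
    exact InA.add hu hp1 hp2 (InA.smul hP1 _) (hA0 a₀ h1 h2')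
  have hcp : polar (QV G₁ G₂) (pt x y) (pt c ys) = 0 := by
    rw [hc_eq, polar_add_right, hp1, hp2, add_zero]
  rw [hv_eq]
  exact InA.add hu hv₁p hcp hv₁A hcA

end model

end Cfsg.Agent.Lib.Helper22.UOGLeaf
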