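import Mathlib
import Cfsg.Agent.Lib.Helper5.UOGDefs3
import Cfsg.Agent.Lib.Helper5.UOGSpan
import Cfsg.Agent.Lib.Helper23.UOGF4b
import Cfsg.Agent.Lib.Helper22.UOGAllPtCore

/-!
helper22: S5681 / S5709 part (G), leaf (C5) `inA_all_pt` of `notes/S5681_G_leaves.lean` (exact statement).
Inputs: `A_perp_core` (helper5, `UOGSpan`), `mixed` and `A0_star` (helper23, `UOGF4b`), `inA_all_pt_core` (own).
-/

set_option autoImplicit false
set_option linter.unusedSectionVars false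
set_option linter.unusedVariables false

namespace Cfsg.Agent.Lib.Helper22.UOGLeaf
open Matrix QuadraticMap Module
open Cfsg.Agent.Lib.Helper25.Tens Cfsg.Agent.Lib.Helper2.SOT Cfsg.Agent.Lib.Helper7.OTT
  Cfsg.Agent.Lib.Helper25.CD Cfsg.Agent.Lib.Helper5.NSMax Cfsg.Agent.Lib.Helper5.PairMax
  Cfsg.Agent.Lib.Helper5.TSMax Cfsg.Agent.Lib.Helper5.NDMax Cfsg.Agent.Lib.Helper5.UOG
open scoped Kronecker

section model
variable {F : Type*} [Field F] [Fintype F] {a b : ℕ} {G₁ : Matrix (Fin a) (Fin a) F}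
  {G₂ : Matrix (Fin b) (Fin b) F} {M : Subgroup (GL (Idx a b) F)}

/-- (C5) `A(x y) = (x y)^⊥` -/
theorem inA_all_pt (h : GCtx G₁ G₂ M) (h1 : ∀ x y, Sg G₁ x → Sg G₂ y → P1 G₁ G₂ M x y)
    (h2 : ∀ x y, Sg G₁ x → Sg G₂ y → P2 G₁ G₂ M x y) :
    ∀ (x : Fin a → F) (y : Fin b → F), Sg G₁ x → Sg G₂ y →
      ∀ v : Idx a b → F, polar (QV G₁ G₂) (pt x y) v = 0 → IA (QV G₁ G₂) M (pt x y) v := by
  intro x y hx hy v hv
  obtain ⟨xs, hxs, hxxs⟩ := partner_fB h.symA h.detA h.two hx.1 hx.2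
  obtain ⟨ys, hys, hyys⟩ := partner_fB h.symB h.detB h.two hy.1 hy.2
  exact inA_all_pt_core h.symA h.symB h.two hx.2 hy.2 hxxs hyys
    (fun x'' y' hyy' => Cfsg.Agent.Lib.Helper5.UOGLeaf.A_perp_core h
      (Cfsg.Agent.Lib.Helper23.UOGLeaf.mixed h h1) x x'' y y' hx hy hyy')
    (h1 x y hx hy ys)
    (fun a₀ e1 e2 => Cfsg.Agent.Lib.Helper23.UOGLeaf.A0_star h h2 x xs a₀ y ys hx hy hxs hys
      hxxs hyys e1 e2)
    v hv

end model

end Cfsg.Agent.Lib.Helper22.UOGLeaf
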