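import Mathlib
import Cfsg.Agent.Lib.Helper22.UnitRE
import Cfsg.Agent.Lib.Helper22.SubfRO
import Cfsg.Agent.Lib.Helper22.SubfRJ

/-! Elements of `SL_n(F)` of order `r` modulo scalars which are not conjugate into the similarity
group of a unitary form. -/

set_option autoImplicit false
open scoped MatrixGroups

namespace Cfsg.Agent.Lib.Helper22.UnitR

open Matrix Module Polynomial Cfsg.Agent.Lib.Helper14 Cfsg.Agent.Lib.Helper15
  Cfsg.Agent.Lib.Helper22.SubfR

variable {F : Type*} [Field F] [Fintype F]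

/-- an unstable diagonal tuple gives a bad element -/
theorem bad_of_unstable [DecidableEq F] {q₀ : ℕ} (hF : Fintype.card F = q₀ ^ 2) (σ : F →+* F)
    (hσ : ∀ c, σ c = c ^ q₀) (n r : ℕ) (d : Fin n → F) (z : F) (hprod : ∏ j, d j = 1)
    (hpow : ∀ j, d j ^ r = z) (hne : ∃ i j, d i ≠ d j)
    (hunst : ¬ Stable (q₀ ^ 2 - 1 - q₀) d) (S : GL (Fin n) F) :
    ∃ x : GL (Fin n) F, x ∈ Cfsg.Geo.specialLinear (Fin n) F ∧
      (∃ z : F, ((x ^ r : GL (Fin n) F) : Matrix (Fin n) (Fin n) F) = z • 1) ∧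
      (∀ z : F, (x : Matrix (Fin n) (Fin n) F) ≠ z • 1) ∧
      ∀ g : GL (Fin n) F, ¬ UniUpTo F q₀ n
        ((S⁻¹ * (g⁻¹ * x * g) * S : GL (Fin n) F) : Matrix (Fin n) (Fin n) F) := by
  have hdet : (Matrix.diagonal d).det = 1 := by rw [Matrix.det_diagonal, hprod]
  have hdet0 : (Matrix.diagonal d).det ≠ 0 := by rw [hdet]; exact one_ne_zero
  have hd0 : ∀ j, d j ≠ 0 := by
    intro j hj
    have : ∏ j, d j = 0 := Finset.prod_eq_zero (Finset.mem_univ j) hj
    rw [hprod] at this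
    exact one_ne_zero this
  set x : GL (Fin n) F := Matrix.GeneralLinearGroup.mkOfDetNeZero (Matrix.diagonal d) hdet0
    with hx
  have hxval : (x : Matrix (Fin n) (Fin n) F) = Matrix.diagonal d := rfl
  refine ⟨x, ?_, ⟨z, ?_⟩, ?_, ?_⟩
  · rw [mem_specialLinear_iff, hxval, hdet]
  · rw [Units.val_pow_eq_pow_val, hxval, Matrix.diagonal_pow]
    ext i j
    by_cases hij : i = j
    · subst hij
      simp only [Matrix.diagonal_apply_eq, Pi.pow_apply, Matrix.smul_apply, Matrix.one_apply_eq,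
        smul_eq_mul, mul_one]
      exact hpow i
    · simp [Matrix.diagonal_apply_ne _ hij, Matrix.one_apply_ne hij]
  · intro z' hz'
    obtain ⟨i, j, hij⟩ := hne
    rw [hxval] at hz'
    have h0 := congrFun (congrFun hz' i) i
    have h1 := congrFun (congrFun hz' j) j
    simp only [Matrix.diagonal_apply_eq, Matrix.smul_apply, Matrix.one_apply_eq, smul_eq_mul,
      mul_one] at h0 h1
    exact hij (h0.trans h1.symm)
  · intro g hg
    exact hunst (stable_of_good hF σ hσ n d hd0 S x g hxval hg)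

/-- the block element is bad when `-q₀` has even order modulo `r` (witnessed by `j ≤ n`) and
`r ∤ q - 1` -/
theorem bad_block_elt {p q₀ e : ℕ} [Fact p.Prime] [CharP F p] (hq₀ : q₀ = p ^ e)
    (hF : Fintype.card F = q₀ ^ 2) (σ : F →+* F) (hσ : ∀ c, σ c = c ^ q₀) (r : ℕ) (hr : r.Prime)
    (hr2 : r ≠ 2) (hrp : r ≠ p) (hrq : ¬ r ∣ Fintype.card F - 1) (n j : ℕ) (hj1 : 1 ≤ j)
    (hjn : j ≤ n) (hj : (-(q₀ : ZMod r)) ^ j = -1) (S : GL (Fin n) F) :
    ∃ x : GL (Fin n) F, x ∈ Cfsg.Geo.specialLinear (Fin n) F ∧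
      (∃ z : F, ((x ^ r : GL (Fin n) F) : Matrix (Fin n) (Fin n) F) = z • 1) ∧
      (∀ z : F, (x : Matrix (Fin n) (Fin n) F) ≠ z • 1) ∧
      ∀ g : GL (Fin n) F, ¬ UniUpTo F q₀ n
        ((S⁻¹ * (g⁻¹ * x * g) * S : GL (Fin n) F) : Matrix (Fin n) (Fin n) F) := by
  classical
  have : Fact r.Prime := ⟨hr⟩
  have hq2 := herm_two_le hF
  have hσσ : ∀ c, σ (σ c) = c := by
    intro c
    rw [hσ, hσ, ← pow_mul, ← sq, herm_pow_card hF]
  have hn1 : 1 ≤ n := le_trans hj1 hjn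
  have hqa : ((Fintype.card F : ℕ) : ZMod r) = (-(q₀ : ZMod r)) ^ 2 := by
    rw [hF]
    push_cast
    ring
  have hrm : r ∣ Fintype.card F ^ j - 1 := by
    rw [dvd_pow_sub_one_iff r _ j Fintype.card_pos, hqa, ← pow_mul, mul_comm, pow_mul, hj]
    ring
  obtain ⟨g₀, M, hirr, hmon, hdvd, hg1, hdn, hM, hMr, hdet, hns⟩ :=
    exists_block_matrix p r hr hr2 hrp hrq n j hj1 hjn hrm
  have hdet0 : M.det ≠ 0 := by rw [hdet]; exact one_ne_zero
  set x : GL (Fin n) F := Matrix.GeneralLinearGroup.mkOfDetNeZero M hdet0 with hx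
  have hxval : (x : Matrix (Fin n) (Fin n) F) = M := rfl
  refine ⟨x, ?_, ⟨1, ?_⟩, ?_, ?_⟩
  · rw [mem_specialLinear_iff, hxval, hdet]
  · rw [Units.val_pow_eq_pow_val, hxval, hMr, one_smul]
  · intro z
    rw [hxval]
    exact hns z
  · intro g hg
    obtain ⟨u, P, hu, hU⟩ := exists_of_good n S x g hg
    -- the scalar has norm one
    have hUr := isUni_pow hU r
    rw [pow_smul_conj, hxval, _root_.smul_pow, hMr, Matrix.mul_smul, Matrix.smul_mul, Matrix.mul_one,
      ← Units.val_mul, inv_mul_cancel, Units.val_one] at hUr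
    have h1 := isUni_smul_one hF n hn1 _ hUr
    have h2 : (u⁻¹ * u⁻¹ ^ q₀) ^ r = 1 := by
      rw [mul_pow, ← pow_mul, mul_comm q₀ r, pow_mul]
      exact h1
    have h3 : u⁻¹ * u⁻¹ ^ q₀ = 1 := eq_one_of_pow_eq_one r hr hrq _ h2
    have h4 : u * u ^ q₀ = 1 := by
      have h5 : (u * u ^ q₀) * (u⁻¹ * u⁻¹ ^ q₀) = 1 := by
        rw [inv_pow]
        field_simp
      rw [h3, mul_one] at h5
      exact h5
    have hUx : IsUni F q₀ n ((P⁻¹ * x * P : GL (Fin n) F) : Matrix (Fin n) (Fin n) F) := by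
      have h5 := (isUni_smul_one_of (q₀ := q₀) n u h4).mul hU
      rw [Matrix.smul_mul, Matrix.one_mul, smul_smul, mul_inv_cancel₀ hu, one_smul] at h5
      exact h5
    have h6 := UnitaryCent.charpoly_unitary hF σ hσ _ hUx
    have h7 := charpoly_smul_conj x P (1 : F)
    rw [one_smul, one_smul] at h7
    rw [h7, hxval, hM, StarPoly.star_mul, StarPoly.star_pow, StarPoly.star_X_sub_one] at h6
    have hX1 : ((X - 1 : F[X]) ^ (n - g₀.natDegree)) ≠ 0 := by
      apply pow_ne_zero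
      have : (X - 1 : F[X]) = X - C 1 := by rw [C_1]
      rw [this]
      exact X_sub_C_ne_zero 1
    have h8 : StarPoly.star σ g₀ = g₀ := mul_left_cancel₀ hX1 h6
    have hne : g₀ ≠ X - 1 := by
      intro h
      apply hg1
      rw [h, eval_sub, eval_X, eval_one, sub_self]
    have hσ' : ∀ c, σ c = c ^ (p ^ e) := by
      intro c
      rw [hσ, hq₀]
    obtain ⟨m, hm⟩ := (StarPoly.star_eq_self_iff p e σ hσ' hσσ r hr g₀ hmon hirr hdvd hne).1 h8
    rw [Nat.card_eq_fintype_card, ← hq₀] at hm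
    push_cast at hm
    rw [hqa] at hm
    -- hm : q₀ + ((-q₀)^2)^m = 0
    set a : ZMod r := -(q₀ : ZMod r) with ha
    have h9 : a = (a ^ 2) ^ m := by
      have : (q₀ : ZMod r) = -a := by rw [ha, neg_neg]
      rw [this] at hm
      exact (neg_add_eq_zero.1 hm)
    have h10 : a ^ j = 1 := by
      calc a ^ j = ((a ^ 2) ^ m) ^ j := by rw [← h9]
        _ = (a ^ j) ^ (2 * m) := by rw [← pow_mul, ← pow_mul, ← pow_mul]; congr 1; ring
        _ = 1 := by rw [hj, pow_mul]; simp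
    rw [hj] at h10
    have h11 : ((2 : ℕ) : ZMod r) = 0 := by
      have : (2 : ZMod r) = 1 - (-1) := by ring
      push_cast
      rw [this, h10, sub_self]
    rw [ZMod.natCast_eq_zero_iff] at h11
    have := Nat.le_of_dvd (by norm_num) h11
    have := hr.two_le
    omega

end Cfsg.Agent.Lib.Helper22.UnitR
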