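import Mathlib
import Cfsg.Agent.Lib.Helper22.UnitRC
import Cfsg.Agent.Lib.Helper9.SubfieldC
import Cfsg.Agent.Lib.Helper15.UnitaryType
import Cfsg.Agent.S2643

/-! Involutions in characteristic two are conjugate into the similarity group of a unitary form. -/

set_option autoImplicit false
open scoped MatrixGroups

namespace Cfsg.Agent.Lib.Helper22.UnitR

open Matrix Module Cfsg.Agent.Lib.Helper14 Cfsg.Agent.Lib.Helper15
  Cfsg.Agent.Lib.Helper15.NilpotentConj Cfsg.Agent.Lib.Helper15.UniJordan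

universe u

variable {F : Type u} [Field F] [Fintype F]

omit [Fintype F] in
theorem toLin'_sub_one {n : ℕ} (A : Matrix (Fin n) (Fin n) F) :
    Matrix.toLin' A - 1 = Matrix.toLin' (A - 1) := by
  rw [map_sub, Matrix.toLin'_one]
  rfl

/-- the centraliser of a unipotent matrix contains elements of determinant `a ^ b` for every part
`b` of its Jordan type -/
theorem exists_commute_det_unip {n : ℕ} (A : Matrix (Fin n) (Fin n) F)
    (hA : IsNilpotent (A - 1)) (μ : Multiset ℕ) (hμs : μ.sum = n)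
    (hμk : ∀ k, mkap (A - 1) k = kapm μ k) (b : ℕ) (hb : b ∈ μ) (a : F) :
    ∃ C : Matrix (Fin n) (Fin n) F, C * A = A * C ∧ C.det = a ^ b := by
  classical
  obtain ⟨t, d, hd⟩ := Cfsg.Agent.Lib.Helper9.SubfieldC.exists_typeOf μ
  have hdsum : ∑ j, d j = n := by
    rw [← hμs, ← hd, sum_typeOf]
  have hcard : Fintype.card ((k : Fin t) × Fin (d k)) = n := by
    rw [Fintype.card_sigma]
    simpa using hdsum
  let e : ((k : Fin t) × Fin (d k)) ≃ Fin n := Fintype.equivFinOfCardEq hcard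
  set J : Matrix (Fin n) (Fin n) F := Matrix.reindex e e (Cfsg.jordanTypeMatrix d F) with hJ
  have hconj : IsConj A J := by
    apply isConj_of_kap
    · rw [toLin'_sub_one]
      exact isNilpotent_toLin' _ hA
    · exact nilpotent_jordan d e
    · intro s
      rw [kap_jordan d e s, hd, ← hμk s, toLin'_sub_one]
      rfl
  obtain ⟨c, hc⟩ := hconj
  have hc' : (c : Matrix (Fin n) (Fin n) F) * A = J * (c : Matrix (Fin n) (Fin n) F) := hc
  set ci : Matrix (Fin n) (Fin n) F :=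
    ((c⁻¹ : (Matrix (Fin n) (Fin n) F)ˣ) : Matrix (Fin n) (Fin n) F) with hci
  have h1 : ci * (c : Matrix (Fin n) (Fin n) F) = 1 := by
    rw [hci, ← Units.val_mul, inv_mul_cancel, Units.val_one]
  have h2 : (c : Matrix (Fin n) (Fin n) F) * ci = 1 := by
    rw [hci, ← Units.val_mul, mul_inv_cancel, Units.val_one]
  obtain ⟨j₀, hj₀⟩ : ∃ j₀ : Fin t, d j₀ = b := by
    rw [← hd] at hb
    unfold typeOf at hb
    rw [Multiset.mem_map] at hb
    obtain ⟨j₀, -, hj₀⟩ := hb
    exact ⟨j₀, hj₀⟩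
  set c' : Matrix (Fin n) (Fin n) F := Matrix.reindex e e
    (Matrix.diagonal (fun x : (k : Fin t) × Fin (d k) => if x.1 = j₀ then a else 1)) with hc'def
  have hc'det : c'.det = a ^ d j₀ := by
    rw [hc'def, Matrix.det_reindex_self, Cfsg.Agent.Lib.Helper9.SubfieldC.det_diag_block]
  have hc'comm : J * c' = c' * J := by
    rw [hJ, hc'def, Matrix.reindex_apply, Matrix.reindex_apply, Matrix.submatrix_mul_equiv,
      Matrix.submatrix_mul_equiv]
    congr 1
    exact (Cfsg.Agent.Lib.Helper9.SubfieldC.diag_comm_block d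
      (fun k => if k = j₀ then a else 1) _).symm
  have hAc : A = ci * J * (c : Matrix (Fin n) (Fin n) F) := by
    rw [Matrix.mul_assoc, ← hc', ← Matrix.mul_assoc, h1, Matrix.one_mul]
  refine ⟨ci * c' * (c : Matrix (Fin n) (Fin n) F), ?_, ?_⟩
  · rw [hAc]
    calc ci * c' * (c : Matrix (Fin n) (Fin n) F) * (ci * J * (c : Matrix (Fin n) (Fin n) F))
        = ci * c' * ((c : Matrix (Fin n) (Fin n) F) * ci) * J * (c : Matrix (Fin n) (Fin n) F) := by
          simp only [Matrix.mul_assoc]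
      _ = ci * (c' * J) * (c : Matrix (Fin n) (Fin n) F) := by
          rw [h2, Matrix.mul_one]; simp only [Matrix.mul_assoc]
      _ = ci * (J * c') * (c : Matrix (Fin n) (Fin n) F) := by rw [hc'comm]
      _ = ci * J * ((c : Matrix (Fin n) (Fin n) F) * ci) * c' * (c : Matrix (Fin n) (Fin n) F) := by
          rw [h2, Matrix.mul_one]; simp only [Matrix.mul_assoc]
      _ = _ := by simp only [Matrix.mul_assoc]
  · rw [Matrix.det_mul, Matrix.det_mul, hc'det, hj₀, mul_comm, ← mul_assoc, ← Matrix.det_mul, h2,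
      Matrix.det_one, one_mul]

/-- involutions modulo scalars in characteristic two -/
theorem good_two_even {q₀ : ℕ} [CharP F 2] (hF : Fintype.card F = q₀ ^ 2) (n : ℕ)
    (S x : GL (Fin n) F) (z : F)
    (hxx : (x : Matrix (Fin n) (Fin n) F) * (x : Matrix (Fin n) (Fin n) F) = z • 1)
    (hns : ∀ z : F, (x : Matrix (Fin n) (Fin n) F) ≠ z • 1) :
    ∃ g : GL (Fin n) F, g ∈ Cfsg.Geo.specialLinear (Fin n) F ∧
      UniUpTo F q₀ n ((S⁻¹ * (g⁻¹ * x * g) * S : GL (Fin n) F) : Matrix (Fin n) (Fin n) F) := by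
  classical
  have : Fact (Nat.Prime 2) := ⟨Nat.prime_two⟩
  have hsq : ∀ a : F, ∃ s : F, s ^ 2 = a := by
    intro a
    obtain ⟨s, hs⟩ := Finite.surjective_of_injective (frobenius_inj F 2) a
    exact ⟨s, by rwa [frobenius_def] at hs⟩
  have h20 : (2 : F) = 0 := by
    have := CharP.cast_eq_zero F 2
    exact_mod_cast this
  have hn0 : 0 < n := by
    rcases Nat.eq_zero_or_pos n with h0 | h0
    · subst h0
      exact absurd (Subsingleton.elim _ _) (hns 0)
    · exact h0
  have : Nonempty (Fin n) := ⟨⟨0, hn0⟩⟩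
  have hxdet : (x : Matrix (Fin n) (Fin n) F).det ≠ 0 :=
    ((Matrix.isUnit_iff_isUnit_det _).mp x.isUnit).ne_zero
  have hz : z ≠ 0 := by
    rintro rfl
    have hd := congrArg Matrix.det hxx
    rw [Matrix.det_mul, zero_smul, Matrix.det_zero] at hd
    exact hxdet (mul_self_eq_zero.1 hd)
  obtain ⟨w, hw⟩ := hsq z
  have hw0 : w ≠ 0 := by
    rintro rfl
    rw [zero_pow (by norm_num)] at hw
    exact hz hw.symm
  set A : Matrix (Fin n) (Fin n) F := w⁻¹ • (x : Matrix (Fin n) (Fin n) F) with hA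
  have hAA : A * A = 1 := by
    rw [hA, Matrix.smul_mul, Matrix.mul_smul, hxx, smul_smul, smul_smul, ← hw]
    have : w⁻¹ * w⁻¹ * w ^ 2 = 1 := by field_simp
    rw [this, one_smul]
  have hN2 : (A - 1) ^ 2 = 0 := by
    have h1 : (A - 1) ^ 2 = A * A - A - A + 1 := by
      rw [pow_two]
      noncomm_ring
    rw [h1, hAA]
    have h2 : (1 : Matrix (Fin n) (Fin n) F) - A - A + 1 = (2 : F) • (1 - A) := by
      rw [two_smul]
      abel
    rw [h2, h20, zero_smul]
  have hNil : IsNilpotent (A - 1) := ⟨2, hN2⟩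
  obtain ⟨μ, hμ1, hμs, hμk⟩ := exists_type_matrix (A - 1) hNil
  have hμ2 : ∀ a ∈ μ, a ≤ 2 := by
    rw [← kapm_eq_sum_iff, ← hμk, hμs, ← pow_eq_zero_iff_mkap]
    exact hN2
  have hmem : 2 ∈ μ := by
    by_contra hnot
    have hμ1' : ∀ a ∈ μ, a ≤ 1 := by
      intro a ha
      have h1 := hμ2 a ha
      have h2 : a ≠ 2 := fun h => hnot (h ▸ ha)
      omega
    have h3 : (A - 1) ^ 1 = 0 := by
      rw [pow_eq_zero_iff_mkap, hμk, ← hμs, kapm_eq_sum_iff]
      exact hμ1'
    rw [pow_one, sub_eq_zero] at h3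
    apply hns w
    rw [← h3, hA, smul_smul, mul_inv_cancel₀ hw0, one_smul]
  -- the unitary model
  letI : StarRing F := Cfsg.Agent.S2643.frobStar hF
  obtain ⟨g₁, hg₁u, hg₁n, hg₁k⟩ := UnitaryType.exists_unitary_of_type
    (Cfsg.Agent.S2643.frob_T hF) (Cfsg.Agent.S2643.frob_N hF) (Cfsg.Agent.S2643.frob_S hF) μ hμ1 n hμs
  have hg₁ : IsUni F q₀ n g₁ := (Cfsg.Agent.S2643.isUni_iff hF g₁).2 hg₁u
  have hconj : IsConj A g₁ := by
    apply isConj_of_kap
    · rw [toLin'_sub_one]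
      exact isNilpotent_toLin' _ hNil
    · rw [toLin'_sub_one]
      exact isNilpotent_toLin' _ hg₁n
    · intro s
      rw [toLin'_sub_one, toLin'_sub_one]
      have h1 := hμk s
      have h2 := hg₁k s
      unfold mkap at h1 h2
      rw [h1, h2]
  obtain ⟨c, hc⟩ := hconj
  have hc' : (c : Matrix (Fin n) (Fin n) F) * A = g₁ * (c : Matrix (Fin n) (Fin n) F) := hc
  refine good_of_conj n S x w hw0 g₁ hg₁ c hc' ?_
  intro a _
  obtain ⟨s, hs⟩ := hsq a
  obtain ⟨C, hC, hCdet⟩ := exists_commute_det_unip A hNil μ hμs hμk 2 hmem s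
  refine ⟨C, ?_, by rw [hCdet, hs]⟩
  have hxA : (x : Matrix (Fin n) (Fin n) F) = w • A := by
    rw [hA, smul_smul, mul_inv_cancel₀ hw0, one_smul]
  rw [hxA, Matrix.mul_smul, Matrix.smul_mul, hC]

end Cfsg.Agent.Lib.Helper22.UnitR
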