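import Mathlib
import Cfsg.Agent.Lib.Helper22.UnitRD
import Cfsg.Agent.Lib.Helper22.SubfRF
import Cfsg.Agent.Lib.Helper22.SubfRI
import Cfsg.Agent.Lib.Helper9.SubfieldD
import Cfsg.Agent.Lib.Helper9.SubfieldF
import Cfsg.Agent.Lib.Helper9.SubfieldH

/-! Involutions modulo scalars in odd characteristic and the similarity group of a unitary form. -/

set_option autoImplicit false
open scoped MatrixGroups

namespace Cfsg.Agent.Lib.Helper22.UnitR

open Matrix Module Cfsg.Agent.Lib.Helper14 Cfsg.Agent.Lib.Helper15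

variable {F : Type*} [Field F] [Fintype F]

theorem isSquare_neg_one_of_sq {q₀ : ℕ} (hF : Fintype.card F = q₀ ^ 2) : IsSquare (-1 : F) := by
  rw [FiniteField.isSquare_neg_one_iff, hF]
  have h1 : q₀ % 4 = 0 ∨ q₀ % 4 = 1 ∨ q₀ % 4 = 2 ∨ q₀ % 4 = 3 := by omega
  rw [pow_two, Nat.mul_mod]
  rcases h1 with h | h | h | h <;> rw [h] <;> norm_num

theorem card_sub_one_eq {q₀ : ℕ} (hF : Fintype.card F = q₀ ^ 2) :
    Fintype.card F - 1 = (q₀ - 1) * (q₀ + 1) := by
  classical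
  have hq2 := herm_two_le hF
  rw [hF]
  obtain ⟨t, rfl⟩ : ∃ t, q₀ = t + 1 := ⟨q₀ - 1, by omega⟩
  simp only [Nat.add_sub_cancel]
  have : (t + 1) ^ 2 = t * (t + 1 + 1) + 1 := by ring
  rw [this, Nat.add_sub_cancel]

/-- `r = 2`, `q` odd, `(n)_2 ≤ (q-1)_2`: every element is good -/
theorem good_two_odd {p q₀ : ℕ} [Fact p.Prime] [CharP F p] (hp2 : p ≠ 2)
    (hF : Fintype.card F = q₀ ^ 2) (n : ℕ) (hn : 1 ≤ n)
    (hv : padicValNat 2 n ≤ padicValNat 2 (Fintype.card F - 1)) (S x : GL (Fin n) F)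
    (hx : x ∈ Cfsg.Geo.specialLinear (Fin n) F) (z : F)
    (hxx : (x : Matrix (Fin n) (Fin n) F) * (x : Matrix (Fin n) (Fin n) F) = z • 1) :
    ∃ g : GL (Fin n) F, g ∈ Cfsg.Geo.specialLinear (Fin n) F ∧
      UniUpTo F q₀ n ((S⁻¹ * (g⁻¹ * x * g) * S : GL (Fin n) F) : Matrix (Fin n) (Fin n) F) := by
  classical
  have hp : p.Prime := Fact.out
  have hq2 := herm_two_le hF
  have hodd : Odd (Fintype.card F) := by
    obtain ⟨f, -, hf⟩ := FiniteField.card F p
    rw [hf]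
    exact (hp.odd_of_ne_two hp2).pow
  have hq₀odd : Odd q₀ := by
    rw [hF] at hodd
    exact (Nat.odd_pow_iff (by norm_num)).1 hodd
  have hi := isSquare_neg_one_of_sq hF
  rw [mem_specialLinear_iff] at hx
  have hzsq : IsSquare z := by
    by_contra hzns
    obtain ⟨m, hm, hdet⟩ := Cfsg.Agent.Lib.Helper9.SubfieldF.det_of_sq_nonsquare
      (x : Matrix (Fin n) (Fin n) F) z hzns hxx
    rw [hx] at hdet
    subst hm
    exact hzns (Cfsg.Agent.Lib.Helper9.SubfieldD.isSquare_of_pow_eq_one hodd hi m (by omega) hv z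
      hdet.symm)
  obtain ⟨w, hw⟩ := hzsq
  have hw0 : w ≠ 0 := by
    rintro rfl
    rw [mul_zero] at hw
    rw [hw, zero_smul] at hxx
    have h1 := congrArg Matrix.det hxx
    have : Nonempty (Fin n) := ⟨⟨0, by omega⟩⟩
    rw [Matrix.det_mul, hx, Matrix.det_zero, mul_one] at h1
    exact one_ne_zero h1
  set y : Matrix (Fin n) (Fin n) F := w⁻¹ • (x : Matrix (Fin n) (Fin n) F) with hy
  have hy2 : y ^ 2 = 1 := by
    rw [pow_two, hy, Matrix.smul_mul, Matrix.mul_smul, hxx, smul_smul, smul_smul, hw]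
    have : w⁻¹ * w⁻¹ * (w * w) = 1 := by field_simp
    rw [this, one_smul]
  have hprim : IsPrimitiveRoot (-1 : F) 2 := IsPrimitiveRoot.neg_one p hp2
  obtain ⟨a, G, hG⟩ := Cfsg.Agent.Lib.Helper22.SubfR.exists_diag_conj n 2 (by norm_num) (-1 : F)
    hprim y hy2
  have hM : IsUni F q₀ n (Matrix.diagonal (fun j => (-1 : F) ^ (a j))) := by
    apply isUni_diagonal
    intro i
    rw [← pow_mul, ← pow_add]
    have : Even (a i + a i * q₀) := by
      have : a i + a i * q₀ = a i * (q₀ + 1) := by ring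
      rw [this]
      exact (hq₀odd.add_one).mul_left _
    exact this.neg_one_pow
  have h2F : ((2 : ℕ) : F) ≠ 0 := by
    intro h0
    rw [CharP.cast_eq_zero_iff F p] at h0
    exact hp2 ((Nat.prime_dvd_prime_iff_eq hp Nat.prime_two).1 h0)
  refine good_of_conj n S x w hw0 _ hM G hG ?_
  intro c _
  obtain ⟨C, hC, hCdet⟩ :=
    Cfsg.Agent.Lib.Helper22.SubfR.exists_matrix_commute_det n (by omega) y 2 h2F hy2 c
  refine ⟨C, ?_, hCdet⟩
  have hxy : (x : Matrix (Fin n) (Fin n) F) = w • y := by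
    rw [hy, smul_smul, mul_inv_cancel₀ hw0, one_smul]
  rw [hxy, Matrix.mul_smul, Matrix.smul_mul, hC]

/-- `r = 2`, `q` odd, `(n)_2 > (q-1)_2`: there is a bad element -/
theorem bad_two {p q₀ : ℕ} [Fact p.Prime] [CharP F p] (hp2 : p ≠ 2)
    (hF : Fintype.card F = q₀ ^ 2) (n : ℕ)
    (hv : padicValNat 2 (Fintype.card F - 1) < padicValNat 2 n) (S : GL (Fin n) F) :
    ∃ x : GL (Fin n) F, x ∈ Cfsg.Geo.specialLinear (Fin n) F ∧
      (∃ z : F, ((x ^ 2 : GL (Fin n) F) : Matrix (Fin n) (Fin n) F) = z • 1) ∧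
      (∀ z : F, (x : Matrix (Fin n) (Fin n) F) ≠ z • 1) ∧
      ∀ g : GL (Fin n) F, ¬ UniUpTo F q₀ n
        ((S⁻¹ * (g⁻¹ * x * g) * S : GL (Fin n) F) : Matrix (Fin n) (Fin n) F) := by
  classical
  have hp : p.Prime := Fact.out
  have hq2 := herm_two_le hF
  have hodd : Odd (Fintype.card F) := by
    obtain ⟨f, -, hf⟩ := FiniteField.card F p
    rw [hf]
    exact (hp.odd_of_ne_two hp2).pow
  have hq₀odd : Odd q₀ := by
    rw [hF] at hodd
    exact (Nat.odd_pow_iff (by norm_num)).1 hodd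
  have hi := isSquare_neg_one_of_sq hF
  obtain ⟨z, hz, hzpow⟩ := Cfsg.Agent.Lib.Helper9.SubfieldD.exists_nonsquare_pow hodd hi n hv
  have hneven : Even n := by
    have h1 : 1 ≤ padicValNat 2 n := by omega
    exact even_iff_two_dvd.mpr (dvd_of_one_le_padicValNat h1)
  obtain ⟨m, rfl⟩ := hneven
  have hX2 := Cfsg.Agent.Lib.Helper9.SubfieldH.ZZ_mul_ZZ z m
  obtain ⟨m', hm', hdet⟩ := Cfsg.Agent.Lib.Helper9.SubfieldF.det_of_sq_nonsquare
    (Cfsg.Agent.Lib.Helper9.SubfieldH.ZZ z m) z hz hX2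
  have hmm' : m' = m := by omega
  subst hmm'
  have hmm : (m' + m') / 2 = m' := by omega
  rw [hmm] at hzpow
  rw [hzpow] at hdet
  have hm0 : 0 < m' := by
    rcases Nat.eq_zero_or_pos m' with h0 | h0
    · subst h0
      simp at hv
    · exact h0
  have hdet0 : (Cfsg.Agent.Lib.Helper9.SubfieldH.ZZ z m').det ≠ 0 := by
    rw [hdet]; exact one_ne_zero
  set x : GL (Fin (m' + m')) F :=
    Matrix.GeneralLinearGroup.mkOfDetNeZero (Cfsg.Agent.Lib.Helper9.SubfieldH.ZZ z m') hdet0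
    with hx
  have hxval : (x : Matrix (Fin (m' + m')) (Fin (m' + m')) F) =
      Cfsg.Agent.Lib.Helper9.SubfieldH.ZZ z m' := rfl
  let i₀ : Fin (m' + m') := ⟨0, by omega⟩
  refine ⟨x, ?_, ⟨z, ?_⟩, ?_, ?_⟩
  · rw [mem_specialLinear_iff, hxval, hdet]
  · rw [Units.val_pow_eq_pow_val, hxval, pow_two, hX2]
  · intro c hc
    apply hz
    rw [hxval] at hc
    rw [hc, Matrix.smul_mul, Matrix.mul_smul, Matrix.mul_one, smul_smul] at hX2
    have h1 := congrFun (congrFun hX2 i₀) i₀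
    simp only [Matrix.smul_apply, Matrix.one_apply_eq, smul_eq_mul, mul_one] at h1
    exact ⟨c, h1.symm⟩
  · intro g hg
    obtain ⟨u, P, hu, hU⟩ := exists_of_good _ S x g hg
    have hU2 := isUni_pow hU 2
    rw [pow_smul_conj, hxval, _root_.smul_pow, pow_two (Cfsg.Agent.Lib.Helper9.SubfieldH.ZZ z m'),
      hX2, smul_smul, Matrix.mul_smul, Matrix.smul_mul, Matrix.mul_one, ← Units.val_mul,
      inv_mul_cancel, Units.val_one] at hU2
    have h1 := isUni_smul_one hF _ (by omega) _ hU2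
    set w : F := u⁻¹ ^ 2 * z with hw
    have hw1 : w ^ (q₀ + 1) = 1 := by
      rw [pow_succ, mul_comm]
      exact h1
    obtain ⟨t, -, ht⟩ := Cfsg.Agent.Lib.Helper22.SubfR.exists_pow_eq_of_pow_eq_one (q₀ - 1) (q₀ + 1)
      (card_sub_one_eq hF) w hw1 (by omega)
    obtain ⟨k, hk⟩ := hq₀odd
    have hk' : q₀ - 1 = k + k := by omega
    apply hz
    refine ⟨u * t ^ k, ?_⟩
    have h3 : z = u ^ 2 * w := by
      rw [hw, inv_pow, ← mul_assoc, mul_inv_cancel₀ (pow_ne_zero _ hu), one_mul]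
    rw [h3, ← ht, hk', pow_add]
    ring

end Cfsg.Agent.Lib.Helper22.UnitR
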