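import Mathlib
import Cfsg.Agent.Lib.Helper22.UnitRI
import Cfsg.Agent.Lib.Helper22.UnitRG
import Cfsg.Agent.Lib.Helper22.SubfRD
import Cfsg.Agent.Lib.Helper22.SubfRH
import Cfsg.Agent.Lib.Helper22.SubfRQ

/-! The case `n = r ∈ {3, 5}`, `(q₀ - 1)_r = r`, and the arithmetic consequence of `r` dividing the
index. -/

set_option autoImplicit false
open scoped MatrixGroups

namespace Cfsg.Agent.Lib.Helper22.UnitR

open Matrix Module Polynomial Cfsg.Agent.Lib.Helper14 Cfsg.Agent.Lib.Helper15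
  Cfsg.Agent.Lib.Helper22.SubfR

variable {F : Type*} [Field F] [Fintype F]

theorem good_of_sym {p q₀ : ℕ} [Fact p.Prime] [CharP F p]
    (hF : Fintype.card F = q₀ ^ 2) (σ : F →+* F) (hσ : ∀ c, σ c = c ^ q₀) (r : ℕ)
    (hrp : r.Prime) (hr2 : r ≠ 2) (hrne : r ≠ p) [NeZero r] (hSym : Sym r)
    (hv : padicValNat r (q₀ - 1) = 1) (S x : GL (Fin r) F)
    (hx : x ∈ Cfsg.Geo.specialLinear (Fin r) F) (z : F)
    (hxr : (x : Matrix (Fin r) (Fin r) F) ^ r = z • 1) :
    ∃ g : GL (Fin r) F, g ∈ Cfsg.Geo.specialLinear (Fin r) F ∧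
      UniUpTo F q₀ r ((S⁻¹ * (g⁻¹ * x * g) * S : GL (Fin r) F) : Matrix (Fin r) (Fin r) F) := by
  classical
  have : Fact r.Prime := ⟨hrp⟩
  have hp : p.Prime := Fact.out
  have hq2 := herm_two_le hF
  rw [mem_specialLinear_iff] at hx
  have hrdvd : r ∣ q₀ - 1 := dvd_of_one_le_padicValNat (by omega)
  have hrndvd : ¬ r ∣ q₀ + 1 := by
    intro h
    have h2 : r ∣ (q₀ + 1) - (q₀ - 1) := Nat.dvd_sub h hrdvd
    have h3 : (q₀ + 1) - (q₀ - 1) = 2 := by omega
    rw [h3] at h2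
    have := Nat.le_of_dvd (by norm_num) h2
    have := hrp.two_le
    omega
  have hfac := card_sub_one_eq hF
  have hval : padicValNat r (Fintype.card F - 1) = 1 := by
    rw [hfac, padicValNat.mul (by omega) (by omega), padicValNat.eq_zero_of_not_dvd hrndvd, hv]
  have hrq : r ∣ Fintype.card F - 1 := by
    rw [hfac]
    exact Dvd.dvd.mul_right hrdvd _
  obtain ⟨lam, hlam⟩ := exists_primitive_root r hrp hrq
  have hlamr : lam ^ r = 1 := hlam.pow_eq_one
  have hlam0 : lam ≠ 0 := by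
    rintro rfl
    rw [zero_pow hrp.ne_zero] at hlamr
    exact zero_ne_one hlamr
  -- z = 1
  obtain ⟨w, hw⟩ := exists_root_scalar r hrp hr2 r hrp.pos (fun _ => by
    rw [padicValNat_self, hval]) (x : Matrix (Fin r) (Fin r) F) hx z hxr
  have hzr : z ^ r = 1 := by
    have h1 := congrArg Matrix.det hxr
    rw [Matrix.det_pow, hx, one_pow, Matrix.det_smul, Matrix.det_one, mul_one,
      Fintype.card_fin] at h1
    exact h1.symm
  have hw0 : w ≠ 0 := by
    rintro rfl
    rw [zero_pow hrp.ne_zero] at hw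
    rw [← hw, zero_pow hrp.ne_zero] at hzr
    exact zero_ne_one hzr
  have hz1 : z = 1 := by
    set wu : Fˣ := Units.mk0 w hw0 with hwu
    have h1 : wu ^ (r ^ 2) = 1 := by
      apply Units.ext
      rw [Units.val_pow_eq_pow_val, Units.val_one, hwu, Units.val_mk0, pow_two, pow_mul, hw, hzr]
    have h2 : orderOf wu ∣ r ^ 2 := orderOf_dvd_of_pow_eq_one h1
    obtain ⟨j, hj, hoj⟩ := (Nat.dvd_prime_pow hrp).1 h2
    have h3 : orderOf wu ∣ Fintype.card F - 1 := by
      rw [← Fintype.card_units]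
      exact orderOf_dvd_card
    have hj1 : j ≤ 1 := by
      by_contra hj2
      have hj2' : j = 2 := by omega
      rw [hoj, hj2'] at h3
      have h4 : 2 ≤ padicValNat r (Fintype.card F - 1) := by
        rw [← padicValNat_dvd_iff_le]
        · exact h3
        · rw [hfac]
          exact Nat.mul_ne_zero (by omega) (by omega)
      omega
    have h5 : orderOf wu ∣ r := by
      rw [hoj]
      calc r ^ j ∣ r ^ 1 := pow_dvd_pow r hj1
        _ = r := pow_one r
    have h6 : wu ^ r = 1 := orderOf_dvd_iff_pow_eq_one.1 h5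
    have h7 := congrArg Units.val h6
    rw [Units.val_pow_eq_pow_val, Units.val_one, hwu, Units.val_mk0, hw] at h7
    exact h7
  have hxr1 : (x : Matrix (Fin r) (Fin r) F) ^ r = 1 := by rw [hxr, hz1, one_smul]
  -- diagonal form
  obtain ⟨a, G, hG⟩ := exists_diag_conj r r hrp.pos lam hlam (x : Matrix (Fin r) (Fin r) F) hxr1
  have hGdet : (G : Matrix (Fin r) (Fin r) F).det ≠ 0 :=
    ((Matrix.isUnit_iff_isUnit_det _).mp G.isUnit).ne_zero
  have hsum : r ∣ ∑ j, a j := by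
    have h1 := congrArg Matrix.det hG
    rw [Matrix.det_mul, Matrix.det_mul, hx, mul_one, Matrix.det_diagonal,
      Finset.prod_pow_eq_pow_sum] at h1
    have h2 : lam ^ (∑ j, a j) = 1 := by
      have h3 : (1 : F) * (G : Matrix (Fin r) (Fin r) F).det =
          lam ^ (∑ j, a j) * (G : Matrix (Fin r) (Fin r) F).det := by rw [one_mul]; exact h1
      exact (mul_right_cancel₀ hGdet h3).symm
    exact (hlam.pow_eq_one_iff_dvd _).1 h2
  obtain ⟨c, hc⟩ := exists_symm_multiset r hSym lam hlam.pow_eq_one a hsum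
  -- the scalar u with u^(q₀+1) = lam^c
  have hlamq : lam ^ (q₀ - 1) = 1 := by
    obtain ⟨s, hs⟩ := hrdvd
    rw [hs, pow_mul, hlam.pow_eq_one, one_pow]
  have hlamq' : lam ^ q₀ = lam := by
    have : q₀ = (q₀ - 1) + 1 := by omega
    rw [this, pow_succ, hlamq, one_mul]
  have hfac' : Fintype.card F - 1 = (q₀ + 1) * (q₀ - 1) := by rw [hfac, mul_comm]
  obtain ⟨u, hu0, hu⟩ := exists_pow_eq_of_pow_eq_one (q₀ + 1) (q₀ - 1) hfac' (lam ^ c) (by
    rw [← pow_mul, mul_comm, pow_mul, hlamq, one_pow]) (by omega)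
  set y : Matrix (Fin r) (Fin r) F := u⁻¹ • (x : Matrix (Fin r) (Fin r) F) with hy
  set N : ℕ := r * (Fintype.card F - 1) with hN
  have hNF : (N : F) ≠ 0 := by
    rw [hN, Nat.cast_mul]
    apply mul_ne_zero
    · intro h0
      rw [CharP.cast_eq_zero_iff F p] at h0
      exact hrne ((Nat.prime_dvd_prime_iff_eq hp hrp).1 h0).symm
    · have hone : 1 ≤ Fintype.card F := Fintype.card_pos
      rw [Nat.cast_sub hone, Nat.cast_card_eq_zero, Nat.cast_one, zero_sub]
      exact neg_ne_zero.2 one_ne_zero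
  have hyN : y ^ N = 1 := by
    rw [hy, _root_.smul_pow, hN, pow_mul (x : Matrix (Fin r) (Fin r) F), hxr1, one_pow, mul_comm,
      pow_mul, inv_pow, FiniteField.pow_card_sub_one_eq_one u hu0, inv_one, one_pow, one_smul]
  -- the characteristic polynomial of y
  set D' : Matrix (Fin r) (Fin r) F := Matrix.diagonal (fun j => u⁻¹ * lam ^ (a j)) with hD'
  have hGy : (G : Matrix (Fin r) (Fin r) F) * y = D' * (G : Matrix (Fin r) (Fin r) F) := by
    rw [hy, Matrix.mul_smul, hG, hD', ← Matrix.smul_mul]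
    congr 1
    rw [← Matrix.diagonal_smul]
    rfl
  have hc1 := charpoly_eq_of_conj G y D' hGy
  have hentry : ∀ j, (σ (u⁻¹ * lam ^ (a j)))⁻¹ = u⁻¹ * (lam ^ c * (lam ^ (a j))⁻¹) := by
    intro j
    have h1 : u ^ q₀ = u⁻¹ * lam ^ c := by
      rw [← hu, pow_succ]
      field_simp
    rw [hσ, mul_pow, inv_pow, h1, ← pow_mul, mul_comm (a j), pow_mul, hlamq', mul_inv, inv_inv,
      mul_assoc]
  have hstar : StarPoly.star σ y.charpoly = y.charpoly := by
    rw [hc1, hD', Matrix.charpoly_diagonal, StarPoly.star_prod]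
    have h1 : ∀ j : Fin r, StarPoly.star σ (X - C (u⁻¹ * lam ^ (a j)) : F[X]) =
        (fun t : F => (X - C (u⁻¹ * t) : F[X])) (lam ^ c * (lam ^ (a j))⁻¹) := by
      intro j
      rw [star_X_sub_C σ _ (mul_ne_zero (inv_ne_zero hu0) (pow_ne_zero _ hlam0)), hentry]
    rw [Finset.prod_congr rfl (fun j _ => h1 j)]
    have h2 : ∏ j : Fin r, (fun t : F => (X - C (u⁻¹ * t) : F[X])) (lam ^ c * (lam ^ (a j))⁻¹) =
        ((Multiset.map (fun j => lam ^ c * (lam ^ (a j))⁻¹)
          (Finset.univ : Finset (Fin r)).val).map (fun t : F => (X - C (u⁻¹ * t) : F[X]))).prod := by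
      rw [Multiset.map_map]
      rfl
    have h3 : ∏ j : Fin r, (X - C (u⁻¹ * lam ^ (a j)) : F[X]) =
        ((Multiset.map (fun j => lam ^ (a j))
          (Finset.univ : Finset (Fin r)).val).map (fun t : F => (X - C (u⁻¹ * t) : F[X]))).prod := by
      rw [Multiset.map_map]
      rfl
    rw [h2, h3, hc]
  exact good_of_star hF σ hσ r hrp.pos S x u hu0 N hNF hyN hstar

/-- if `r` divides the index then `(-q₀)^j ≡ -1` modulo `r` for some `1 ≤ j ≤ n` -/
theorem exists_pow_eq_neg_one {q₀ : ℕ} (hF : Fintype.card F = q₀ ^ 2) (n : ℕ) (hn : 1 ≤ n)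
    (S : GL (Fin n) F) (H : Subgroup (GL (Fin n) F))
    (hH : ∀ M : GL (Fin n) F, M ∈ H ↔
      UniUpTo F q₀ n ((S⁻¹ * M * S : GL (Fin n) F) : Matrix (Fin n) (Fin n) F))
    (r : ℕ) (hr : r.Prime) (hrq₀ : ¬ r ∣ q₀)
    (hΩ : r ∣ H.relIndex (Cfsg.Geo.specialLinear (Fin n) F)) :
    ∃ j, 1 ≤ j ∧ j ≤ n ∧ (-(q₀ : ZMod r)) ^ j = -1 := by
  classical
  have : Fact r.Prime := ⟨hr⟩
  have hq2 := herm_two_le hF
  obtain ⟨e', he'⟩ := index_mul_u hF n hn S H hH
  have h1 : r ∣ (∏ i ∈ Finset.range n, (q₀ ^ 2) ^ i) *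
      ∏ i ∈ Finset.range n, (if Even i then q₀ ^ (i + 1) - 1 else q₀ ^ (i + 1) + 1) := by
    rw [← he']
    exact Dvd.dvd.mul_right hΩ _
  rcases (Nat.Prime.dvd_mul hr).1 h1 with h2 | h2
  · exfalso
    obtain ⟨i, -, hi⟩ := (Prime.dvd_finset_prod_iff (Nat.Prime.prime hr) _).1 h2
    exact hrq₀ (hr.dvd_of_dvd_pow (hr.dvd_of_dvd_pow hi))
  · obtain ⟨i, hi, hdvd⟩ := (Prime.dvd_finset_prod_iff (Nat.Prime.prime hr) _).1 h2
    rw [Finset.mem_range] at hi
    refine ⟨i + 1, by omega, by omega, ?_⟩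
    have h1le : 1 ≤ q₀ ^ (i + 1) := Nat.one_le_pow _ _ (by omega)
    by_cases hev : Even i
    · rw [if_pos hev] at hdvd
      have h3 : (q₀ : ZMod r) ^ (i + 1) = 1 := by
        rw [← ZMod.natCast_eq_zero_iff, Nat.cast_sub h1le, Nat.cast_pow, Nat.cast_one,
          sub_eq_zero] at hdvd
        exact hdvd
      rw [neg_pow, h3, mul_one]
      exact (hev.add_one).neg_one_pow
    · rw [if_neg hev] at hdvd
      have h3 : (q₀ : ZMod r) ^ (i + 1) = -1 := by
        rw [← ZMod.natCast_eq_zero_iff] at hdvd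
        push_cast at hdvd
        exact eq_neg_of_add_eq_zero_left hdvd
      rw [neg_pow, h3]
      have hodd : Odd i := Nat.not_even_iff_odd.1 hev
      rw [(hodd.add_one).neg_one_pow, one_mul]

end Cfsg.Agent.Lib.Helper22.UnitR
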